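import Cfsg.Agent.Helper17.ONS1TC.Fin3

set_option autoImplicit false
set_option linter.all false
set_option maxRecDepth 100000

noncomputable section

namespace Cfsg.Agent.Helper17.ONS1TC

theorem Q3934 : ∀ i, i < 3934 → P i := stepQ 3933 Q3933 (allL N3933 (tt N2905 F6432) (tt N2916 F6433) (tt N4169 (iv F6822)) (tt N2904 (iv D3933)) (tt N5248 D5248) (tt N3145 F6434))
theorem Q3935 : ∀ i, i < 3935 → P i := stepQ 3934 Q3934 (allL N3934 (tt N5248 (iv F8622)) (tt N2907 F6435) (tt N4969 (iv F8126)) (tt N5244 (iv F8610)) (tt N2905 (iv D3934)) (tt N5249 D5249))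
theorem Q3936 : ∀ i, i < 3936 → P i := stepQ 3935 Q3935 (allL N3935 (tt N3146 F6436) (tt N2908 F6437) (tt N2956 F6438) (tt N5250 D5250) (tt N2906 (iv D3935)) (tt N5245 (iv F8614)))
theorem Q3937 : ∀ i, i < 3937 → P i := stepQ 3936 Q3936 (allL N3936 (tt N2921 F6439) (tt N5249 (iv F8624)) (tt N4776 (iv F7774)) (tt N5246 (iv F8617)) (tt N4775 (iv F7771)) (tt N2907 (iv D3936)))
theorem Q3938 : ∀ i, i < 3938 → P i := stepQ 3937 Q3937 (allL N3937 (tt N2923 F6440) (tt N5250 (iv F8626)) (tt N5251 D5251) (tt N2908 (iv D3937)) (tt N4774 (iv F7768)) (tt N5247 (iv F8621)))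
theorem Q3939 : ∀ i, i < 3939 → P i := stepQ 3938 Q3938 (allL N3938 (tt N2910 F6441) (tt N5241 (iv F8600)) (tt N5252 D5252) (tt N2909 (iv D3938)) (tt N5253 D5253) (tt N5254 D5254))
theorem Q3940 : ∀ i, i < 3940 → P i := stepQ 3939 Q3939 (allL N3939 (tt N2911 F6442) (tt N5242 (iv F8603)) (tt N2930 F6443) (tt N5254 (iv F8634)) (tt N3149 F6444) (tt N2909 (iv D3939)))
theorem Q3941 : ∀ i, i < 3941 → P i := stepQ 3940 Q3940 (allL N3940 (tt N5252 (iv F8629)) (tt N5255 D5255) (tt N2910 (iv D3940)) (tt N5256 D5256) (tt N5257 D5257) (tt N5258 D5258))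
theorem Q3942 : ∀ i, i < 3942 → P i := stepQ 3941 Q3941 (allL N3941 (tt N5253 (iv F8630)) (tt N2913 F6445) (tt N5257 (iv F8637)) (tt N2918 F6446) (tt N2910 (iv D3941)) (tt N5259 D5259))
theorem Q3943 : ∀ i, i < 3943 → P i := stepQ 3942 Q3942 (allL N3942 (tt N5254 (iv F8632)) (tt N2914 F6447) (tt N5258 (iv F8639)) (tt N2911 F6448) (tt N5260 D5260) (tt N2910 (iv D3942)))
theorem Q3944 : ∀ i, i < 3944 → P i := stepQ 3943 Q3943 (allL N3943 (tt N5261 D5261) (tt N2912 (iv D3943)) (tt N5255 (iv F8635)) (tt N3306 F6449) (tt N5262 D5262) (tt N3305 F6450))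
theorem Q3945 : ∀ i, i < 3945 → P i := stepQ 3944 Q3944 (allL N3944 (tt N3318 F6451) (tt N5262 (iv F8647)) (tt N2913 F6452) (tt N5263 D5263) (tt N2912 (iv D3944)) (tt N5264 D5264))
theorem Q3946 : ∀ i, i < 3946 → P i := stepQ 3945 Q3945 (allL N3945 (tt N5246 (iv F8615)) (tt N5259 (iv F8640)) (tt N5264 (iv F8651)) (tt N2921 F6453) (tt N5265 D5265) (tt N2913 (iv D3945)))
theorem Q3947 : ∀ i, i < 3947 → P i := stepQ 3946 Q3946 (allL N3946 (tt N3316 F6454) (tt N5260 (iv F8642)) (tt N3307 F6455) (tt N5266 D5266) (tt N2914 (iv D3946)) (tt N5265 (iv F8655)))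
theorem Q3948 : ∀ i, i < 3948 → P i := stepQ 3947 Q3947 (allL N3947 (tt N5247 (iv F8619)) (tt N3156 F6456) (tt N5267 D5267) (tt N2915 (iv D3947)) (tt N5266 (iv F8658)) (tt N2923 F6457))
theorem Q3949 : ∀ i, i < 3949 → P i := stepQ 3948 Q3948 (allL N3948 (tt N2918 F6458) (tt N5248 (iv F8623)) (tt N3130 F6459) (tt N5253 (iv F8631)) (tt N2916 (iv D3948)) (tt N5268 D5268))
theorem Q3950 : ∀ i, i < 3950 → P i := stepQ 3949 Q3949 (allL N3949 (tt N4178 (iv F6838)) (tt N2917 (iv D3949)) (tt N2919 F6460) (tt N3121 F6461) (tt N5269 D5269) (tt N3151 F6462))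
theorem Q3951 : ∀ i, i < 3951 → P i := stepQ 3950 Q3950 (allL N3950 (tt N3130 F6463) (tt N5269 (iv F8663)) (tt N2918 F6464) (tt N5270 D5270) (tt N2917 (iv D3950)) (tt N5271 D5271))
theorem Q3952 : ∀ i, i < 3952 → P i := stepQ 3951 Q3951 (allL N3951 (tt N5268 (iv F8660)) (tt N2921 F6465) (tt N5271 (iv F8668)) (tt N5259 (iv F8641)) (tt N3154 F6466) (tt N2918 (iv D3951)))
theorem Q3953 : ∀ i, i < 3953 → P i := stepQ 3952 Q3952 (allL N3952 (tt N4960 (iv F8114)) (tt N2920 F6467) (tt N5269 (iv F8664)) (tt N5272 D5272) (tt N2919 (iv D3952)) (tt N5273 D5273))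
theorem Q3954 : ∀ i, i < 3954 → P i := stepQ 3953 Q3953 (allL N3953 (tt N4777 (iv F7776)) (tt N5272 (iv F8670)) (tt N5274 D5274) (tt N2920 (iv D3953)) (tt N4763 (iv F7750)) (tt N5275 D5275))
theorem Q3955 : ∀ i, i < 3955 → P i := stepQ 3954 Q3954 (allL N3954 (tt N4776 (iv F7772)) (tt N5273 (iv F8671)) (tt N2921 F6468) (tt N5275 (iv F8672)) (tt N4762 (iv F7748)) (tt N2920 (iv D3954)))
theorem Q3956 : ∀ i, i < 3956 → P i := stepQ 3955 Q3955 (allL N3955 (tt N4775 (iv F7769)) (tt N3154 F6469) (tt N4762 (iv F7747)) (tt N5276 D5276) (tt N2921 (iv D3955)) (tt N2922 F6470))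
theorem Q3957 : ∀ i, i < 3957 → P i := stepQ 3956 Q3956 (allL N3956 (tt N4774 (iv F7767)) (tt N3153 F6471) (tt N5277 D5277) (tt N2922 (iv D3956)) (tt N2923 F6472) (tt N5276 (iv F8674)))
theorem Q3958 : ∀ i, i < 3958 → P i := stepQ 3957 Q3957 (allL N3957 (tt N5251 (iv F8627)) (tt N5278 D5278) (tt N2923 (iv D3957)) (tt N5279 D5279) (tt N5277 (iv F8675)) (tt N5267 (iv F8659)))
theorem Q3959 : ∀ i, i < 3959 → P i := stepQ 3958 Q3958 (allL N3958 (tt N5280 D5280) (tt N2924 (iv D3958)) (tt N2934 F6473) (tt N5281 D5281) (tt N2925 F6474) (tt N3314 F6475))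
theorem Q3960 : ∀ i, i < 3960 → P i := stepQ 3959 Q3959 (allL N3959 (tt N4698 (iv F7660)) (tt N5281 (iv F8682)) (tt N5282 D5282) (tt N2924 (iv D3959)) (tt N5123 (iv F8399)) (tt N3319 F6476))
theorem Q3961 : ∀ i, i < 3961 → P i := stepQ 3960 Q3960 (allL N3960 (tt N2925 (iv D3960)) (tt N4679 (iv F7626)) (tt N2935 F6477) (tt N5121 (iv F8396)) (tt N5280 (iv F8680)) (tt N2926 F6478))
theorem Q3962 : ∀ i, i < 3962 → P i := stepQ 3961 Q3961 (allL N3961 (tt N2927 F6479) (tt N4691 (iv F7649)) (tt N5283 D5283) (tt N2926 (iv D3961)) (tt N5284 D5284) (tt N5121 (iv F8397)))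
theorem Q3963 : ∀ i, i < 3963 → P i := stepQ 3962 Q3962 (allL N3962 (tt N5283 (iv F8685)) (tt N5087 (iv F8331)) (tt N2927 (iv D3962)) (tt N5285 D5285) (tt N5286 D5286) (tt N5118 (iv F8393)))
theorem Q3964 : ∀ i, i < 3964 → P i := stepQ 3963 Q3963 (allL N3963 (tt N5284 (iv F8687)) (tt N2928 F6480) (tt N5286 (iv F8691)) (tt N3312 F6481) (tt N2927 (iv D3963)) (tt N5287 D5287))
theorem Q3965 : ∀ i, i < 3965 → P i := stepQ 3964 Q3964 (allL N3964 (tt N4696 (iv F7656)) (tt N5287 (iv F8692)) (tt N5125 (iv F8402)) (tt N3317 F6482) (tt N5124 (iv F8401)) (tt N2928 (iv D3964)))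
theorem Q3966 : ∀ i, i < 3966 → P i := stepQ 3965 Q3965 (allL N3965 (tt N2931 F6483) (tt N5288 D5288) (tt N2929 (iv D3965)) (tt N5289 D5289) (tt N3150 F6484) (tt N5290 D5290))
theorem Q3967 : ∀ i, i < 3967 → P i := stepQ 3966 Q3966 (allL N3966 (tt N2932 F6485) (tt N3009 F6486) (tt N5290 (iv F8698)) (tt N2930 F6487) (tt N3009 F6488) (tt N2929 (iv D3966)))
theorem Q3968 : ∀ i, i < 3968 → P i := stepQ 3967 Q3967 (allL N3967 (tt N5291 D5291) (tt N2931 (iv D3967)) (tt N2933 F6489) (tt N5292 D5292) (tt N3157 F6490) (tt N3004 (iv F6491)))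
theorem Q3969 : ∀ i, i < 3969 → P i := stepQ 3968 Q3968 (allL N3968 (tt N5289 (iv F8696)) (tt N5292 (iv F8703)) (tt N5293 D5293) (tt N2931 (iv D3968)) (tt N5294 D5294) (tt N5295 D5295))
theorem Q3970 : ∀ i, i < 3970 → P i := stepQ 3969 Q3969 (allL N3969 (tt N5290 (iv F8697)) (tt N3004 F6492) (tt N2932 F6493) (tt N5295 (iv F8707)) (tt N3014 F6494) (tt N2931 (iv D3969)))
theorem Q3971 : ∀ i, i < 3971 → P i := stepQ 3970 Q3970 (allL N3970 (tt N2933 (iv D3970)) (tt N3015 F6495) (tt N5291 (iv F8700)) (tt N3003 F6496) (tt N3159 F6497) (tt N3002 F6498))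
theorem Q3972 : ∀ i, i < 3972 → P i := stepQ 3971 Q3971 (allL N3971 (tt N2934 (iv D3971)) (tt N3025 F6499) (tt N5280 (iv F8679)) (tt N3322 F6500) (tt N2935 F6501) (tt N3322 F6502))
theorem Q3973 : ∀ i, i < 3973 → P i := stepQ 3972 Q3972 (allL N3972 (tt N2937 F6503) (tt N5296 D5296) (tt N2936 (iv D3972)) (tt N5297 D5297) (tt N5298 D5298) (tt N3038 F6504))
theorem Q3974 : ∀ i, i < 3974 → P i := stepQ 3973 Q3973 (allL N3973 (tt N2938 F6505) (tt N3027 F6506) (tt N5298 (iv F8716)) (tt N3321 F6507) (tt N2936 (iv D3973)) (tt N3321 F6508))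
theorem Q3975 : ∀ i, i < 3975 → P i := stepQ 3974 Q3974 (allL N3974 (tt N5297 (iv F8712)) (tt N3032 F6509) (tt N5299 D5299) (tt N2937 (iv D3974)) (tt N5300 D5300) (tt N3039 F6510))
theorem Q3976 : ∀ i, i < 3976 → P i := stepQ 3975 Q3975 (allL N3975 (tt N5298 (iv F8715)) (tt N3033 F6511) (tt N2938 F6512) (tt N5301 D5301) (tt N2937 (iv D3975)) (tt N3324 F6513))
theorem Q3977 : ∀ i, i < 3977 → P i := stepQ 3976 Q3976 (allL N3976 (tt N2940 F6514) (tt N5302 D5302) (tt N2939 (iv D3976)) (tt N4797 (iv F7818)) (tt N5303 D5303) (tt N2942 F6515))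
theorem Q3978 : ∀ i, i < 3978 → P i := stepQ 3977 Q3977 (allL N3977 (tt N2941 F6516) (tt N3031 F6517) (tt N5303 (iv F8727)) (tt N3087 F6518) (tt N2939 (iv D3977)) (tt N3328 F6519))
theorem Q3979 : ∀ i, i < 3979 → P i := stepQ 3978 Q3978 (allL N3978 (tt N4797 (iv F7817)) (tt N3028 F6520) (tt N4400 (iv F7184)) (tt N2940 (iv D3978)) (tt N5304 D5304) (tt N2944 F6521))
theorem Q3980 : ∀ i, i < 3980 → P i := stepQ 3979 Q3979 (allL N3979 (tt N5303 (iv F8726)) (tt N3029 F6522) (tt N2941 F6523) (tt N5305 D5305) (tt N2940 (iv D3979)) (tt N3334 F6524))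
theorem Q3981 : ∀ i, i < 3981 → P i := stepQ 3980 Q3980 (allL N3980 (tt N5306 D5306) (tt N2942 (iv D3980)) (tt N3035 F6525) (tt N5307 D5307) (tt N3325 F6526) (tt N5302 (iv F8725)))
theorem Q3982 : ∀ i, i < 3982 → P i := stepQ 3981 Q3981 (allL N3981 (tt N2944 F6527) (tt N5307 (iv F8736)) (tt N4334 (iv F7088)) (tt N2942 (iv D3981)) (tt N5308 D5308) (tt N4797 (iv F7819)))
theorem Q3983 : ∀ i, i < 3983 → P i := stepQ 3982 Q3982 (allL N3982 (tt N2943 (iv D3982)) (tt N5306 (iv F8732)) (tt N2945 F6528) (tt N4740 (iv F7719)) (tt N3329 F6529) (tt N3026 F6530))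
theorem Q3984 : ∀ i, i < 3984 → P i := stepQ 3983 Q3983 (allL N3983 (tt N4740 (iv F7718)) (tt N2944 F6531) (tt N4736 (iv F7712)) (tt N2943 (iv D3983)) (tt N5309 D5309) (tt N3028 F6532))
theorem Q3985 : ∀ i, i < 3985 → P i := stepQ 3984 Q3984 (allL N3984 (tt N4334 (iv F7085)) (tt N5310 D5310) (tt N2944 (iv D3984)) (tt N4328 (iv F7080)) (tt N5311 D5311) (tt N4400 (iv F7185)))
theorem Q3986 : ∀ i, i < 3986 → P i := stepQ 3985 Q3985 (allL N3985 (tt N5308 (iv F8737)) (tt N5309 (iv F8739)) (tt N5311 (iv F8741)) (tt N3332 F6533) (tt N2944 (iv D3985)) (tt N5312 D5312))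
theorem Q3987 : ∀ i, i < 3987 → P i := stepQ 3986 Q3986 (allL N3986 (tt N2947 F6534) (tt N2968 F6535) (tt N5313 D5313) (tt N2946 (iv D3986)) (tt N5314 D5314) (tt N5315 D5315))
theorem Q3988 : ∀ i, i < 3988 → P i := stepQ 3987 Q3987 (allL N3987 (tt N2948 F6536) (tt N2969 F6537) (tt N5242 (iv F8604)) (tt N5315 (iv F8749)) (tt N5316 D5316) (tt N2946 (iv D3987)))
theorem Q3989 : ∀ i, i < 3989 → P i := stepQ 3988 Q3988 (allL N3988 (tt N5313 (iv F8743)) (tt N5317 D5317) (tt N2947 (iv D3988)) (tt N5318 D5318) (tt N5319 D5319) (tt N5320 D5320))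
theorem Q3990 : ∀ i, i < 3990 → P i := stepQ 3989 Q3989 (allL N3989 (tt N5314 (iv F8744)) (tt N2950 F6538) (tt N5319 (iv F8756)) (tt N2955 F6539) (tt N2947 (iv D3989)) (tt N5321 D5321))
theorem Q3991 : ∀ i, i < 3991 → P i := stepQ 3990 Q3990 (allL N3990 (tt N5315 (iv F8747)) (tt N2951 F6540) (tt N5320 (iv F8758)) (tt N2948 F6541) (tt N5322 D5322) (tt N2947 (iv D3990)))
theorem Q3992 : ∀ i, i < 3992 → P i := stepQ 3991 Q3991 (allL N3991 (tt N5316 (iv F8750)) (tt N2952 F6542) (tt N5245 (iv F8613)) (tt N5323 D5323) (tt N2948 (iv D3991)) (tt N2956 F6543))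
theorem Q3993 : ∀ i, i < 3993 → P i := stepQ 3992 Q3992 (allL N3992 (tt N5324 D5324) (tt N2949 (iv D3992)) (tt N5317 (iv F8754)) (tt N2965 F6544) (tt N5325 D5325) (tt N2964 F6545))
theorem Q3994 : ∀ i, i < 3994 → P i := stepQ 3993 Q3993 (allL N3993 (tt N2975 F6546) (tt N5325 (iv F8767)) (tt N2950 F6547) (tt N5326 D5326) (tt N2949 (iv D3993)) (tt N5327 D5327))
theorem Q3995 : ∀ i, i < 3995 → P i := stepQ 3994 Q3994 (allL N3994 (tt N2976 F6548) (tt N5321 (iv F8759)) (tt N5327 (iv F8771)) (tt N2957 F6549) (tt N5328 D5328) (tt N2950 (iv D3994)))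
theorem Q3996 : ∀ i, i < 3996 → P i := stepQ 3995 Q3995 (allL N3995 (tt N2977 F6550) (tt N5322 (iv F8761)) (tt N2966 F6551) (tt N5329 D5329) (tt N2951 (iv D3995)) (tt N5328 (iv F8776)))
theorem Q3997 : ∀ i, i < 3997 → P i := stepQ 3996 Q3996 (allL N3996 (tt N2978 F6552) (tt N5323 (iv F8762)) (tt N4746 (iv F7723)) (tt N2952 (iv D3996)) (tt N5329 (iv F8778)) (tt N2958 F6553))
theorem Q3998 : ∀ i, i < 3998 → P i := stepQ 3997 Q3997 (allL N3997 (tt N2955 F6554) (tt N2980 F6555) (tt N4390 (iv F7172)) (tt N5314 (iv F8746)) (tt N2953 (iv D3997)) (tt N5330 D5330))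
theorem Q3999 : ∀ i, i < 3999 → P i := stepQ 3998 Q3998 (allL N3998 (tt N2956 F6556) (tt N2982 F6557) (tt N3146 F6558) (tt N5331 D5331) (tt N2954 (iv D3998)) (tt N5316 (iv F8753)))
theorem Q4000 : ∀ i, i < 4000 → P i := stepQ 3999 Q3999 (allL N3999 (tt N5330 (iv F8780)) (tt N2957 F6559) (tt N4392 (iv F7175)) (tt N5321 (iv F8760)) (tt N3064 F6560) (tt N2955 (iv D3999)))
theorem Q4001 : ∀ i, i < 4001 → P i := stepQ 4000 Q4000 (allL N4000 (tt N5331 (iv F8783)) (tt N2958 F6561) (tt N5332 D5332) (tt N2956 (iv D4000)) (tt N3063 F6562) (tt N5323 (iv F8763)))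
theorem Q4002 : ∀ i, i < 4002 → P i := stepQ 4001 Q4001 (allL N4001 (tt N2995 F6563) (tt N5333 D5333) (tt N2958 (iv D4001)) (tt N4734 (iv F7709)) (tt N3065 F6564) (tt N4746 (iv F7724)))
theorem Q4003 : ∀ i, i < 4003 → P i := stepQ 4002 Q4002 (allL N4002 (tt N2959 (iv D4002)) (tt N3291 F6565) (tt N2963 F6566) (tt N5334 D5334) (tt N4548 (iv F7398)) (tt N5335 D5335))
theorem Q4004 : ∀ i, i < 4004 → P i := stepQ 4003 Q4003 (allL N4003 (tt N5334 (iv F8788)) (tt N2960 F6567) (tt N5336 D5336) (tt N2959 (iv D4003)) (tt N5337 D5337) (tt N3296 (iv F6568)))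
theorem Q4005 : ∀ i, i < 4005 → P i := stepQ 4004 Q4004 (allL N4004 (tt N5335 (iv F8791)) (tt N2961 F6569) (tt N2965 F6570) (tt N3296 F6571) (tt N5338 D5338) (tt N2959 (iv D4004)))
theorem Q4006 : ∀ i, i < 4006 → P i := stepQ 4005 Q4005 (allL N4005 (tt N3294 F6572) (tt N5337 (iv F8797)) (tt N3299 F6573) (tt N4550 (iv F7401)) (tt N2960 (iv D4005)) (tt N5339 D5339))
theorem Q4007 : ∀ i, i < 4007 → P i := stepQ 4006 Q4006 (allL N4006 (tt N3295 F6574) (tt N5338 (iv F8798)) (tt N2962 F6575) (tt N5340 D5340) (tt N2961 (iv D4006)) (tt N4551 (iv F7404)))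
theorem Q4008 : ∀ i, i < 4008 → P i := stepQ 4007 Q4007 (allL N4007 (tt N2964 F6576) (tt N4580 (iv F7461)) (tt N5341 D5341) (tt N2963 (iv D4007)) (tt N5342 D5342) (tt N5324 (iv F8766)))
theorem Q4009 : ∀ i, i < 4009 → P i := stepQ 4008 Q4008 (allL N4008 (tt N2965 F6577) (tt N4581 (iv F7464)) (tt N5335 (iv F8793)) (tt N5324 (iv F8765)) (tt N5343 D5343) (tt N2963 (iv D4008)))
theorem Q4010 : ∀ i, i < 4010 → P i := stepQ 4009 Q4009 (allL N4009 (tt N5341 (iv F8805)) (tt N5320 (iv F8757)) (tt N2964 (iv D4009)) (tt N5344 D5344) (tt N5345 D5345) (tt N5317 F8755))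
theorem Q4011 : ∀ i, i < 4011 → P i := stepQ 4010 Q4010 (allL N4010 (tt N5342 (iv F8806)) (tt N2966 F6578) (tt N5345 (iv F8808)) (tt N4536 (iv F7374)) (tt N2964 (iv D4010)) (tt N5346 D5346))
theorem Q4012 : ∀ i, i < 4012 → P i := stepQ 4011 Q4011 (allL N4011 (tt N5343 (iv F8807)) (tt N2967 F6579) (tt N5338 (iv F8799)) (tt N5347 D5347) (tt N2965 (iv D4011)) (tt N4535 (iv F7372)))
theorem Q4013 : ∀ i, i < 4013 → P i := stepQ 4012 Q4012 (allL N4012 (tt N4585 (iv F7472)) (tt N5346 (iv F8809)) (tt N5328 (iv F8774)) (tt N4531 F7362) (tt N5327 (iv F8772)) (tt N2966 (iv D4012)))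
theorem Q4014 : ∀ i, i < 4014 → P i := stepQ 4013 Q4013 (allL N4013 (tt N4586 (iv F7476)) (tt N5347 (iv F8810)) (tt N5348 D5348) (tt N2967 (iv D4013)) (tt N5326 (iv F8769)) (tt N4529 F7356))
theorem Q4015 : ∀ i, i < 4015 → P i := stepQ 4014 Q4014 (allL N4014 (tt N2970 F6580) (tt N5349 D5349) (tt N2968 (iv D4014)) (tt N5350 D5350) (tt N5351 D5351) (tt N5352 D5352))
theorem Q4016 : ∀ i, i < 4016 → P i := stepQ 4015 Q4015 (allL N4015 (tt N2971 F6581) (tt N5314 (iv F8745)) (tt N5351 (iv F8815)) (tt N2980 F6582) (tt N2968 (iv D4015)) (tt N5353 D5353))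
theorem Q4017 : ∀ i, i < 4017 → P i := stepQ 4016 Q4016 (allL N4016 (tt N2972 F6583) (tt N5315 (iv F8748)) (tt N5352 (iv F8817)) (tt N2969 F6584) (tt N5354 D5354) (tt N2968 (iv D4016)))
theorem Q4018 : ∀ i, i < 4018 → P i := stepQ 4017 Q4017 (allL N4017 (tt N2973 F6585) (tt N5316 (iv F8751)) (tt N3010 F6586) (tt N5355 D5355) (tt N2969 (iv D4017)) (tt N2982 F6587))
theorem Q4019 : ∀ i, i < 4019 → P i := stepQ 4018 Q4018 (allL N4018 (tt N5356 D5356) (tt N2970 (iv D4018)) (tt N2974 F6588) (tt N5357 D5357) (tt N5358 D5358) (tt N4582 (iv F7467)))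
theorem Q4020 : ∀ i, i < 4020 → P i := stepQ 4019 Q4019 (allL N4019 (tt N5350 (iv F8811)) (tt N5357 (iv F8826)) (tt N5359 D5359) (tt N2970 (iv D4019)) (tt N5360 D5360) (tt N5361 D5361))
theorem Q4021 : ∀ i, i < 4021 → P i := stepQ 4020 Q4020 (allL N4020 (tt N5351 (iv F8814)) (tt N5358 (iv F8827)) (tt N2971 F6589) (tt N5362 D5362) (tt N2970 (iv D4020)) (tt N5363 D5363))
theorem Q4022 : ∀ i, i < 4022 → P i := stepQ 4021 Q4021 (allL N4021 (tt N5352 (iv F8816)) (tt N4582 (iv F7466)) (tt N2972 F6590) (tt N5361 (iv F8834)) (tt N5364 D5364) (tt N2970 (iv D4021)))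
theorem Q4023 : ∀ i, i < 4023 → P i := stepQ 4022 Q4022 (allL N4022 (tt N5353 (iv F8819)) (tt N2976 F6591) (tt N5363 (iv F8835)) (tt N2987 F6592) (tt N5365 D5365) (tt N2971 (iv D4022)))
theorem Q4024 : ∀ i, i < 4024 → P i := stepQ 4023 Q4023 (allL N4023 (tt N5354 (iv F8821)) (tt N2977 F6593) (tt N5364 (iv F8836)) (tt N5366 D5366) (tt N2972 (iv D4023)) (tt N5365 (iv F8838)))
theorem Q4025 : ∀ i, i < 4025 → P i := stepQ 4024 Q4024 (allL N4024 (tt N5355 (iv F8822)) (tt N2978 F6594) (tt N5367 D5367) (tt N2973 (iv D4024)) (tt N5366 (iv F8840)) (tt N2989 F6595))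
theorem Q4026 : ∀ i, i < 4026 → P i := stepQ 4025 Q4025 (allL N4025 (tt N2974 (iv D4025)) (tt N5324 (iv F8764)) (tt N5356 (iv F8825)) (tt N4581 (iv F7465)) (tt N5368 D5368) (tt N4580 F7462))
theorem Q4027 : ∀ i, i < 4027 → P i := stepQ 4026 Q4026 (allL N4026 (tt N5368 (iv F8844)) (tt N2975 F6596) (tt N5358 (iv F8828)) (tt N5369 D5369) (tt N2974 (iv D4026)) (tt N5370 D5370))
theorem Q4028 : ∀ i, i < 4028 → P i := stepQ 4027 Q4027 (allL N4027 (tt N5326 (iv F8768)) (tt N5369 (iv F8845)) (tt N5371 D5371) (tt N2975 (iv D4027)) (tt N4586 (iv F7477)) (tt N5372 D5372))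
theorem Q4029 : ∀ i, i < 4029 → P i := stepQ 4028 Q4028 (allL N4028 (tt N5327 (iv F8770)) (tt N5370 (iv F8846)) (tt N2976 F6597) (tt N5372 (iv F8850)) (tt N4585 (iv F7475)) (tt N2975 (iv D4028)))
theorem Q4030 : ∀ i, i < 4030 → P i := stepQ 4029 Q4029 (allL N4029 (tt N5328 (iv F8773)) (tt N5365 (iv F8837)) (tt N4585 (iv F7473)) (tt N5373 D5373) (tt N2976 (iv D4029)) (tt N2977 F6598))
theorem Q4031 : ∀ i, i < 4031 → P i := stepQ 4030 Q4030 (allL N4030 (tt N5329 (iv F8777)) (tt N5366 (iv F8839)) (tt N5374 D5374) (tt N2977 (iv D4030)) (tt N2978 F6599) (tt N5373 (iv F8853)))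
theorem Q4032 : ∀ i, i < 4032 → P i := stepQ 4031 Q4031 (allL N4031 (tt N4746 (iv F7722)) (tt N5375 D5375) (tt N2978 (iv D4031)) (tt N4675 F7618) (tt N5374 (iv F8854)) (tt N2995 F6600))
theorem Q4033 : ∀ i, i < 4033 → P i := stepQ 4032 Q4032 (allL N4032 (tt N2985 F6601) (tt N4948 (iv F8098)) (tt N2980 F6602) (tt N5376 D5376) (tt N2979 (iv D4032)) (tt N5377 D5377))
theorem Q4034 : ∀ i, i < 4034 → P i := stepQ 4033 Q4033 (allL N4033 (tt N2987 F6603) (tt N5330 (iv F8781)) (tt N5377 (iv F8859)) (tt N5353 (iv F8820)) (tt N5378 D5378) (tt N2980 (iv D4033)))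
theorem Q4035 : ∀ i, i < 4035 → P i := stepQ 4034 Q4034 (allL N4034 (tt N2988 F6604) (tt N3062 F6605) (tt N4943 (iv F8092)) (tt N5379 D5379) (tt N2981 (iv D4034)) (tt N5378 (iv F8862)))
theorem Q4036 : ∀ i, i < 4036 → P i := stepQ 4035 Q4035 (allL N4035 (tt N2989 F6606) (tt N5331 (iv F8784)) (tt N5380 D5380) (tt N2982 (iv D4035)) (tt N5379 (iv F8865)) (tt N5355 (iv F8823)))
theorem Q4037 : ∀ i, i < 4037 → P i := stepQ 4036 Q4036 (allL N4036 (tt N4384 (iv F7156)) (tt N2984 F6607) (tt N4898 (iv F8007)) (tt N2983 (iv D4036)) (tt N5381 D5381) (tt N3053 F6608))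
theorem Q4038 : ∀ i, i < 4038 → P i := stepQ 4037 Q4037 (allL N4037 (tt N4385 (iv F7160)) (tt N2985 F6609) (tt N2990 F6610) (tt N5382 D5382) (tt N2983 (iv D4037)) (tt N5383 D5383))
theorem Q4039 : ∀ i, i < 4039 → P i := stepQ 4038 Q4038 (allL N4038 (tt N3076 F6611) (tt N5381 (iv F8869)) (tt N3075 F6612) (tt N5384 D5384) (tt N2984 (iv D4038)) (tt N5385 D5385))
theorem Q4040 : ∀ i, i < 4040 → P i := stepQ 4039 Q4039 (allL N4039 (tt N5376 (iv F8856)) (tt N5382 (iv F8870)) (tt N5386 D5386) (tt N2985 (iv D4039)) (tt N5384 (iv F8875)) (tt N5387 D5387))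
theorem Q4041 : ∀ i, i < 4041 → P i := stepQ 4040 Q4040 (allL N4040 (tt N5377 (iv F8858)) (tt N5383 (iv F8871)) (tt N2987 F6613) (tt N5387 (iv F8878)) (tt N5388 D5388) (tt N2985 (iv D4040)))
theorem Q4042 : ∀ i, i < 4042 → P i := stepQ 4041 Q4041 (allL N4041 (tt N4943 (iv F8090)) (tt N3054 F6614) (tt N2988 F6615) (tt N5389 D5389) (tt N2986 (iv D4041)) (tt N5388 (iv F8881)))
theorem Q4043 : ∀ i, i < 4043 → P i := stepQ 4042 Q4042 (allL N4042 (tt N5378 (iv F8860)) (tt N2993 F6616) (tt N5388 (iv F8880)) (tt N5390 D5390) (tt N2987 (iv D4042)) (tt N2988 F6617))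
theorem Q4044 : ∀ i, i < 4044 → P i := stepQ 4043 Q4043 (allL N4043 (tt N5379 (iv F8863)) (tt N2994 F6618) (tt N5391 D5391) (tt N2988 (iv D4043)) (tt N2989 F6619) (tt N5390 (iv F8884)))
theorem Q4045 : ∀ i, i < 4045 → P i := stepQ 4044 Q4044 (allL N4044 (tt N5380 (iv F8866)) (tt N5392 D5392) (tt N2989 (iv D4044)) (tt N5393 D5393) (tt N5391 (iv F8885)) (tt N5367 (iv F8842)))
theorem Q4046 : ∀ i, i < 4046 → P i := stepQ 4045 Q4045 (allL N4045 (tt N4386 (iv F7162)) (tt N2991 F6620) (tt N5394 D5394) (tt N2990 (iv D4045)) (tt N3056 F6621) (tt N5395 D5395))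
theorem Q4047 : ∀ i, i < 4047 → P i := stepQ 4046 Q4046 (allL N4046 (tt N4387 (iv F7165)) (tt N2992 F6622) (tt N5383 (iv F8872)) (tt N5395 (iv F8892)) (tt N3055 F6623) (tt N2990 (iv D4046)))
theorem Q4048 : ∀ i, i < 4048 → P i := stepQ 4047 Q4047 (allL N4047 (tt N3067 F6624) (tt N5395 (iv F8891)) (tt N4657 (iv F7601)) (tt N2992 F6625) (tt N4618 (iv F7520)) (tt N2991 (iv D4047)))
theorem Q4049 : ∀ i, i < 4049 → P i := stepQ 4048 Q4048 (allL N4048 (tt N3066 F6626) (tt N5390 (iv F8883)) (tt N4757 (iv F7736)) (tt N2993 (iv D4048)) (tt N5373 (iv F8852)) (tt N2994 F6627))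
theorem Q4050 : ∀ i, i < 4050 → P i := stepQ 4049 Q4049 (allL N4049 (tt N3065 F6628) (tt N5396 D5396) (tt N2994 (iv D4049)) (tt N4758 (iv F7740)) (tt N2995 F6629) (tt N4757 (iv F7737)))
theorem Q4051 : ∀ i, i < 4051 → P i := stepQ 4050 Q4050 (allL N4050 (tt N5397 D5397) (tt N2995 (iv D4050)) (tt N5392 (iv F8886)) (tt N5398 D5398) (tt N5396 (iv F8893)) (tt N5375 (iv F8855)))
theorem Q4052 : ∀ i, i < 4052 → P i := stepQ 4051 Q4051 (allL N4051 (tt N4734 (iv F7708)) (tt N5398 (iv F8894)) (tt N4676 (iv F7621)) (tt N2995 (iv D4051)) (tt N5399 D5399) (tt N4675 (iv F7619)))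
theorem Q4053 : ∀ i, i < 4053 → P i := stepQ 4052 Q4052 (allL N4052 (tt N4922 (iv F8054)) (tt N5400 D5400) (tt N2996 (iv D4052)) (tt N5401 D5401) (tt N4920 (iv F8050)) (tt N5402 D5402))
theorem Q4054 : ∀ i, i < 4054 → P i := stepQ 4053 Q4053 (allL N4053 (tt N4923 (iv F8056)) (tt N3000 F6630) (tt N5402 (iv F8898)) (tt N2997 F6631) (tt N5403 D5403) (tt N2996 (iv D4053)))
theorem Q4055 : ∀ i, i < 4055 → P i := stepQ 4054 Q4054 (allL N4054 (tt N3196 F6632) (tt N3001 F6633) (tt N3005 F6634) (tt N5404 D5404) (tt N2997 (iv D4054)) (tt N3109 F6635))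
theorem Q4056 : ∀ i, i < 4056 → P i := stepQ 4055 Q4055 (allL N4055 (tt N5405 D5405) (tt N2998 (iv D4055)) (tt N5400 (iv F8895)) (tt N3293 F6636) (tt N5406 D5406) (tt N3292 F6637))
theorem Q4057 : ∀ i, i < 4057 → P i := stepQ 4056 Q4056 (allL N4056 (tt N3297 F6638) (tt N5406 (iv F8906)) (tt N2999 F6639) (tt N5407 D5407) (tt N2998 (iv D4056)) (tt N5408 D5408))
theorem Q4058 : ∀ i, i < 4058 → P i := stepQ 4057 Q4057 (allL N4057 (tt N3298 F6640) (tt N4921 (iv F8052)) (tt N5408 (iv F8910)) (tt N3286 F6641) (tt N5409 D5409) (tt N2999 (iv D4057)))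
theorem Q4059 : ∀ i, i < 4059 → P i := stepQ 4058 Q4058 (allL N4058 (tt N3299 F6642) (tt N5403 (iv F8899)) (tt N3294 F6643) (tt N5410 D5410) (tt N3000 (iv D4058)) (tt N5409 (iv F8914)))
theorem Q4060 : ∀ i, i < 4060 → P i := stepQ 4059 Q4059 (allL N4059 (tt N3203 F6644) (tt N5404 (iv F8901)) (tt N5411 D5411) (tt N3001 (iv D4059)) (tt N5410 (iv F8916)) (tt N3199 F6645))
theorem Q4061 : ∀ i, i < 4061 → P i := stepQ 4060 Q4060 (allL N4060 (tt N3004 F6646) (tt N5412 D5412) (tt N3002 (iv D4060)) (tt N5413 D5413) (tt N3302 F6647) (tt N5291 (iv F8702)))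
theorem Q4062 : ∀ i, i < 4062 → P i := stepQ 4061 Q4061 (allL N4061 (tt N3005 F6648) (tt N3108 F6649) (tt N3196 F6650) (tt N5414 D5414) (tt N3003 (iv D4061)) (tt N3106 F6651))
theorem Q4063 : ∀ i, i < 4063 → P i := stepQ 4062 Q4062 (allL N4062 (tt N5413 (iv F8922)) (tt N5295 (iv F8706)) (tt N5415 D5415) (tt N3004 (iv D4062)) (tt N5416 D5416) (tt N5292 (iv F8704)))
theorem Q4064 : ∀ i, i < 4064 → P i := stepQ 4063 Q4063 (allL N4063 (tt N5414 (iv F8923)) (tt N3006 F6652) (tt N5417 D5417) (tt N3005 (iv D4063)) (tt N3160 F6653) (tt N3110 F6654))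
theorem Q4065 : ∀ i, i < 4065 → P i := stepQ 4064 Q4064 (allL N4064 (tt N5418 D5418) (tt N3007 (iv D4064)) (tt N5288 (iv F8694)) (tt N5419 D5419) (tt N5420 D5420) (tt N5421 D5421))
theorem Q4066 : ∀ i, i < 4066 → P i := stepQ 4065 Q4065 (allL N4065 (tt N3012 F6655) (tt N5419 (iv F8935)) (tt N5361 (iv F8833)) (tt N3007 (iv D4065)) (tt N5422 D5422) (tt N5359 F8831))
theorem Q4067 : ∀ i, i < 4067 → P i := stepQ 4066 Q4066 (allL N4066 (tt N3013 F6656) (tt N5420 (iv F8936)) (tt N3008 F6657) (tt N5423 D5423) (tt N3007 (iv D4066)) (tt N3150 (iv F6658)))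
theorem Q4068 : ∀ i, i < 4068 → P i := stepQ 4067 Q4067 (allL N4067 (tt N3014 F6659) (tt N5421 (iv F8940)) (tt N3009 F6660) (tt N5359 (iv F8830)) (tt N5290 (iv F8699)) (tt N3007 (iv D4067)))
theorem Q4069 : ∀ i, i < 4069 → P i := stepQ 4068 Q4068 (allL N4068 (tt N3011 (iv D4068)) (tt N5418 (iv F8931)) (tt N3015 F6661) (tt N3331 (iv F6663)) (tt N5424 D5424) (tt N3302 F6662))
theorem Q4070 : ∀ i, i < 4070 → P i := stepQ 4069 Q4069 (allL N4069 (tt N3331 F6664) (tt N3012 F6665) (tt N3326 F6667) (tt N3011 (iv D4069)) (tt N5425 D5425) (tt N3303 F6666))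
theorem Q4071 : ∀ i, i < 4071 → P i := stepQ 4070 Q4070 (allL N4070 (tt N5424 (iv F8945)) (tt N3013 F6668) (tt N3016 F6669) (tt N5426 D5426) (tt N3011 (iv D4070)) (tt N3157 F6670))
theorem Q4072 : ∀ i, i < 4072 → P i := stepQ 4071 Q4071 (allL N4071 (tt N5361 (iv F8832)) (tt N5427 D5427) (tt N3012 (iv D4071)) (tt N5352 (iv F8818)) (tt N5428 D5428) (tt N5350 F8813))
theorem Q4073 : ∀ i, i < 4073 → P i := stepQ 4072 Q4072 (allL N4072 (tt N5422 (iv F8941)) (tt N5425 (iv F8949)) (tt N5428 (iv F8954)) (tt N5429 D5429) (tt N3012 (iv D4072)) (tt N5430 D5430))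
theorem Q4074 : ∀ i, i < 4074 → P i := stepQ 4073 Q4073 (allL N4073 (tt N5359 (iv F8829)) (tt N3303 F6671) (tt N5350 (iv F8812)) (tt N3014 F6672) (tt N5431 D5431) (tt N3012 (iv D4073)))
theorem Q4075 : ∀ i, i < 4075 → P i := stepQ 4074 Q4074 (allL N4074 (tt N5423 (iv F8942)) (tt N5426 (iv F8951)) (tt N5432 D5432) (tt N3013 (iv D4074)) (tt N5429 (iv F8955)) (tt N3158 F6673))
theorem Q4076 : ∀ i, i < 4076 → P i := stepQ 4075 Q4075 (allL N4075 (tt N3016 F6674) (tt N3159 F6675) (tt N5424 (iv F8946)) (tt N5433 D5433) (tt N3015 (iv D4075)) (tt N3159 F6676))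
theorem Q4077 : ∀ i, i < 4077 → P i := stepQ 4076 Q4076 (allL N4076 (tt N5433 (iv F8960)) (tt N3017 F6677) (tt N5434 D5434) (tt N3016 (iv D4076)) (tt N3112 F6678) (tt N3160 F6679))
theorem Q4078 : ∀ i, i < 4078 → P i := stepQ 4077 Q4077 (allL N4077 (tt N3018 (iv D4077)) (tt N3322 F6680) (tt N4720 (iv F7692)) (tt N3025 F6681) (tt N3019 F6682) (tt N3025 F6683))
theorem Q4079 : ∀ i, i < 4079 → P i := stepQ 4078 Q4078 (allL N4078 (tt N3021 F6684) (tt N5435 D5435) (tt N3020 (iv D4078)) (tt N5436 D5436) (tt N5437 D5437) (tt N3329 F6685))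
theorem Q4080 : ∀ i, i < 4080 → P i := stepQ 4079 Q4079 (allL N4079 (tt N3022 F6686) (tt N3321 F6687) (tt N5437 (iv F8973)) (tt N3027 F6688) (tt N3020 (iv D4079)) (tt N3027 F6689))
theorem Q4081 : ∀ i, i < 4081 → P i := stepQ 4080 Q4080 (allL N4080 (tt N5436 (iv F8970)) (tt N3333 F6690) (tt N5438 D5438) (tt N3021 (iv D4080)) (tt N5439 D5439) (tt N3330 F6691))
theorem Q4082 : ∀ i, i < 4082 → P i := stepQ 4081 Q4081 (allL N4081 (tt N5437 (iv F8972)) (tt N3334 F6692) (tt N3022 F6693) (tt N5440 D5440) (tt N3021 (iv D4081)) (tt N3029 F6694))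
theorem Q4083 : ∀ i, i < 4083 → P i := stepQ 4082 Q4082 (allL N4082 (tt N3024 F6695) (tt N4930 (iv F8068)) (tt N5441 D5441) (tt N3023 (iv D4082)) (tt N4956 (iv F8109)) (tt N3126 F6696))
theorem Q4084 : ∀ i, i < 4084 → P i := stepQ 4083 Q4083 (allL N4083 (tt N5441 (iv F8979)) (tt N5442 D5442) (tt N3024 (iv D4083)) (tt N5443 D5443) (tt N4958 (iv F8112)) (tt N3137 F6697))
theorem Q4085 : ∀ i, i < 4085 → P i := stepQ 4084 Q4084 (allL N4084 (tt N5302 (iv F8723)) (tt N3026 (iv D4084)) (tt N5296 (iv F8709)) (tt N5444 D5444) (tt N5445 D5445) (tt N5306 (iv F8735)))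
theorem Q4086 : ∀ i, i < 4086 → P i := stepQ 4085 Q4085 (allL N4085 (tt N3028 F6698) (tt N5444 (iv F8987)) (tt N4632 (iv F7551)) (tt N3026 (iv D4085)) (tt N5446 D5446) (tt N4740 (iv F7720)))
theorem Q4087 : ∀ i, i < 4087 → P i := stepQ 4086 Q4086 (allL N4086 (tt N3029 F6699) (tt N5445 (iv F8988)) (tt N3027 F6700) (tt N5447 D5447) (tt N3026 (iv D4086)) (tt N5437 (iv F8974)))
theorem Q4088 : ∀ i, i < 4088 → P i := stepQ 4087 Q4087 (allL N4087 (tt N4632 (iv F7548)) (tt N5448 D5448) (tt N3028 (iv D4087)) (tt N4631 F7547) (tt N5449 D5449) (tt N4736 (iv F7713)))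
theorem Q4089 : ∀ i, i < 4089 → P i := stepQ 4088 Q4088 (allL N4088 (tt N5446 (iv F8989)) (tt N5304 (iv F8729)) (tt N5449 (iv F8991)) (tt N5450 D5450) (tt N3028 (iv D4088)) (tt N5451 D5451))
theorem Q4090 : ∀ i, i < 4090 → P i := stepQ 4089 Q4089 (allL N4089 (tt N5447 (iv F8990)) (tt N5305 (iv F8730)) (tt N5452 D5452) (tt N3029 (iv D4089)) (tt N5450 (iv F8992)) (tt N5440 (iv F8978)))
theorem Q4091 : ∀ i, i < 4091 → P i := stepQ 4090 Q4090 (allL N4090 (tt N5296 (iv F8708)) (tt N3030 (iv D4090)) (tt N5302 (iv F8724)) (tt N3072 F6701) (tt N5453 D5453) (tt N3035 F6702))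
theorem Q4092 : ∀ i, i < 4092 → P i := stepQ 4091 Q4091 (allL N4091 (tt N3033 F6703) (tt N5453 (iv F8993)) (tt N3031 F6704) (tt N5454 D5454) (tt N3030 (iv D4091)) (tt N5455 D5455))
theorem Q4093 : ∀ i, i < 4093 → P i := stepQ 4092 Q4092 (allL N4092 (tt N3034 F6705) (tt N3328 F6706) (tt N5455 (iv F8997)) (tt N3173 F6707) (tt N3037 F6708) (tt N3031 (iv D4092)))
theorem Q4094 : ∀ i, i < 4094 → P i := stepQ 4093 Q4093 (allL N4093 (tt N3073 F6709) (tt N5300 (iv F8720)) (tt N3071 F6710) (tt N5456 D5456) (tt N3032 (iv D4093)) (tt N5457 D5457))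
theorem Q4095 : ∀ i, i < 4095 → P i := stepQ 4094 Q4094 (allL N4094 (tt N5454 (iv F8994)) (tt N5301 (iv F8721)) (tt N5458 D5458) (tt N3033 (iv D4094)) (tt N5456 (iv F9000)) (tt N5459 D5459))
theorem Q4096 : ∀ i, i < 4096 → P i := stepQ 4095 Q4095 (allL N4095 (tt N5455 (iv F8996)) (tt N3324 F6711) (tt N3034 F6712) (tt N5459 (iv F9005)) (tt N3043 F6713) (tt N3033 (iv D4095)))
theorem Q4097 : ∀ i, i < 4097 → P i := stepQ 4096 Q4096 (allL N4096 (tt N3035 (iv D4096)) (tt N3038 F6714) (tt N5306 (iv F8733)) (tt N5095 (iv F8350)) (tt N5460 D5460) (tt N5296 (iv F8710)))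
theorem Q4098 : ∀ i, i < 4098 → P i := stepQ 4097 Q4097 (allL N4097 (tt N5460 (iv F9006)) (tt N3036 F6715) (tt N3325 F6716) (tt N5461 D5461) (tt N3035 (iv D4097)) (tt N5462 D5462))
theorem Q4099 : ∀ i, i < 4099 → P i := stepQ 4098 Q4098 (allL N4098 (tt N3042 F6717) (tt N5461 (iv F9010)) (tt N5463 D5463) (tt N3036 (iv D4098)) (tt N5097 (iv F8355)) (tt N5464 D5464))
theorem Q4100 : ∀ i, i < 4100 → P i := stepQ 4099 Q4099 (allL N4099 (tt N3043 F6718) (tt N5462 (iv F9012)) (tt N3037 F6719) (tt N5464 (iv F9019)) (tt N5455 (iv F8998)) (tt N3036 (iv D4099)))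
theorem Q4101 : ∀ i, i < 4101 → P i := stepQ 4100 Q4100 (allL N4100 (tt N3039 F6720) (tt N5095 (iv F8348)) (tt N5285 (iv F8690)) (tt N3038 (iv D4100)) (tt N5465 D5465) (tt N5297 (iv F8714)))
theorem Q4102 : ∀ i, i < 4102 → P i := stepQ 4101 Q4101 (allL N4101 (tt N3040 F6721) (tt N5460 (iv F9007)) (tt N3044 F6722) (tt N5466 D5466) (tt N3038 (iv D4101)) (tt N3320 (iv F6723)))
theorem Q4103 : ∀ i, i < 4103 → P i := stepQ 4102 Q4102 (allL N4102 (tt N5285 (iv F8689)) (tt N5035 (iv F8224)) (tt N3039 (iv D4102)) (tt N5283 (iv F8686)) (tt N5467 D5467) (tt N5299 (iv F8719)))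
theorem Q4104 : ∀ i, i < 4104 → P i := stepQ 4103 Q4103 (allL N4103 (tt N5465 (iv F9020)) (tt N3041 F6724) (tt N5467 (iv F9025)) (tt N5468 D5468) (tt N3039 (iv D4103)) (tt N5469 D5469))
theorem Q4105 : ∀ i, i < 4105 → P i := stepQ 4104 Q4104 (allL N4104 (tt N5466 (iv F9021)) (tt N3042 F6725) (tt N5470 D5470) (tt N3040 (iv D4104)) (tt N5468 (iv F9027)) (tt N3323 F6726))
theorem Q4106 : ∀ i, i < 4106 → P i := stepQ 4105 Q4105 (allL N4105 (tt N5097 (iv F8354)) (tt N5468 (iv F9026)) (tt N5471 D5471) (tt N3041 (iv D4105)) (tt N3042 F6727) (tt N5472 D5472))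
theorem Q4107 : ∀ i, i < 4107 → P i := stepQ 4106 Q4106 (allL N4106 (tt N5098 (iv F8356)) (tt N5469 (iv F9028)) (tt N5094 (iv F8345)) (tt N5472 (iv F9033)) (tt N5457 (iv F9003)) (tt N3041 (iv D4106)))
theorem Q4108 : ∀ i, i < 4108 → P i := stepQ 4107 Q4107 (allL N4107 (tt N5463 (iv F9014)) (tt N5473 D5473) (tt N3042 (iv D4107)) (tt N5474 D5474) (tt N5471 (iv F9032)) (tt N5475 D5475))
theorem Q4109 : ∀ i, i < 4109 → P i := stepQ 4108 Q4108 (allL N4108 (tt N5464 (iv F9017)) (tt N3323 F6728) (tt N5475 (iv F9038)) (tt N3043 F6729) (tt N5476 D5476) (tt N3042 (iv D4108)))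
theorem Q4110 : ∀ i, i < 4110 → P i := stepQ 4109 Q4109 (allL N4109 (tt N3049 F6730) (tt N5477 D5477) (tt N3045 (iv D4109)) (tt N5475 (iv F9039)) (tt N3278 F6731) (tt N5474 (iv F9036)))
theorem Q4111 : ∀ i, i < 4111 → P i := stepQ 4110 Q4110 (allL N4110 (tt N3050 F6732) (tt N4923 (iv F8057)) (tt N5474 (iv F9035)) (tt N3046 F6733) (tt N5478 D5478) (tt N3045 (iv D4110)))
theorem Q4112 : ∀ i, i < 4112 → P i := stepQ 4111 Q4111 (allL N4111 (tt N3278 F6734) (tt N5479 D5479) (tt N3047 (iv D4111)) (tt N5480 D5480) (tt N3049 F6735) (tt N5481 D5481))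
theorem Q4113 : ∀ i, i < 4113 → P i := stepQ 4112 Q4112 (allL N4112 (tt N3279 F6736) (tt N3298 F6737) (tt N5481 (iv F9051)) (tt N3048 F6738) (tt N5482 D5482) (tt N3047 (iv D4112)))
theorem Q4114 : ∀ i, i < 4114 → P i := stepQ 4113 Q4113 (allL N4113 (tt N5483 D5483) (tt N3049 (iv D4113)) (tt N3296 F6739) (tt N5484 D5484) (tt N5479 (iv F9046)) (tt N5336 (iv F8796)))
theorem Q4115 : ∀ i, i < 4115 → P i := stepQ 4114 Q4114 (allL N4114 (tt N5475 (iv F9037)) (tt N5484 (iv F9058)) (tt N5464 (iv F9018)) (tt N3049 (iv D4114)) (tt N5485 D5485) (tt N5463 F9016))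
theorem Q4116 : ∀ i, i < 4116 → P i := stepQ 4115 Q4115 (allL N4115 (tt N5474 (iv F9034)) (tt N5336 (iv F8795)) (tt N3050 F6740) (tt N5463 (iv F9015)) (tt N5486 D5486) (tt N3049 (iv D4115)))
theorem Q4117 : ∀ i, i < 4117 → P i := stepQ 4116 Q4116 (allL N4116 (tt N5478 (iv F9042)) (tt N3299 F6741) (tt N5486 (iv F9059)) (tt N3209 F6742) (tt N3050 (iv D4116)) (tt N5482 (iv F9056)))
theorem Q4118 : ∀ i, i < 4118 → P i := stepQ 4117 Q4117 (allL N4117 (tt N3054 F6743) (tt N4291 (iv F7024)) (tt N3052 F6744) (tt N5487 D5487) (tt N3051 (iv D4117)) (tt N5488 D5488))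
theorem Q4119 : ∀ i, i < 4119 → P i := stepQ 4118 Q4118 (allL N4118 (tt N3055 F6745) (tt N3057 F6746) (tt N5488 (iv F9062)) (tt N4706 (iv F7677)) (tt N4387 (iv F7167)) (tt N3052 (iv D4118)))
theorem Q4120 : ∀ i, i < 4120 → P i := stepQ 4119 Q4119 (allL N4119 (tt N4818 (iv F7863)) (tt N4919 (iv F8045)) (tt N3053 (iv D4119)) (tt N3255 F6747) (tt N5489 D5489) (tt N4898 (iv F8008)))
theorem Q4121 : ∀ i, i < 4121 → P i := stepQ 4120 Q4120 (allL N4120 (tt N4935 (iv F8074)) (tt N4942 (iv F8088)) (tt N5489 (iv F9063)) (tt N5490 D5490) (tt N3053 (iv D4120)) (tt N5491 D5491))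
theorem Q4122 : ∀ i, i < 4122 → P i := stepQ 4121 Q4121 (allL N4121 (tt N5487 (iv F9060)) (tt N5389 (iv F8882)) (tt N5492 D5492) (tt N3054 (iv D4121)) (tt N5490 (iv F9064)) (tt N5493 D5493))
theorem Q4123 : ∀ i, i < 4123 → P i := stepQ 4122 Q4122 (allL N4122 (tt N5488 (iv F9061)) (tt N5388 (iv F8879)) (tt N3055 F6748) (tt N5493 (iv F9065)) (tt N5383 (iv F8873)) (tt N3054 (iv D4122)))
theorem Q4124 : ∀ i, i < 4124 → P i := stepQ 4123 Q4123 (allL N4123 (tt N4388 (iv F7168)) (tt N4654 (iv F7596)) (tt N3056 (iv D4123)) (tt N5494 D5494) (tt N5394 (iv F8890)) (tt N4645 (iv F7580)))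
theorem Q4125 : ∀ i, i < 4125 → P i := stepQ 4124 Q4124 (allL N4124 (tt N3059 F6749) (tt N4288 (iv F7018)) (tt N3062 F6750) (tt N5495 D5495) (tt N3058 (iv D4124)) (tt N5496 D5496))
theorem Q4126 : ∀ i, i < 4126 → P i := stepQ 4125 Q4125 (allL N4125 (tt N5495 (iv F9066)) (tt N3060 F6751) (tt N5497 D5497) (tt N3059 (iv D4125)) (tt N4284 (iv F7008)) (tt N5498 D5498))
theorem Q4127 : ∀ i, i < 4127 → P i := stepQ 4126 Q4126 (allL N4126 (tt N5496 (iv F9067)) (tt N3061 F6752) (tt N3064 F6753) (tt N5498 (iv F9070)) (tt N4392 (iv F7176)) (tt N3059 (iv D4126)))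
theorem Q4128 : ∀ i, i < 4128 → P i := stepQ 4127 Q4127 (allL N4127 (tt N4296 (iv F7031)) (tt N5499 D5499) (tt N3060 (iv D4127)) (tt N5500 D5500) (tt N4286 (iv F7011)) (tt N5501 D5501))
theorem Q4129 : ∀ i, i < 4129 → P i := stepQ 4128 Q4128 (allL N4128 (tt N4297 (iv F7033)) (tt N5498 (iv F9069)) (tt N5501 (iv F9073)) (tt N3061 F6754) (tt N5502 D5502) (tt N3060 (iv D4128)))
theorem Q4130 : ∀ i, i < 4130 → P i := stepQ 4129 Q4129 (allL N4129 (tt N3063 F6755) (tt N5379 (iv F8864)) (tt N5503 D5503) (tt N3062 (iv D4129)) (tt N5331 (iv F8785)) (tt N5504 D5504))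
theorem Q4131 : ∀ i, i < 4131 → P i := stepQ 4130 Q4130 (allL N4130 (tt N3064 F6756) (tt N5378 (iv F8861)) (tt N5496 (iv F9068)) (tt N5504 (iv F9077)) (tt N5330 (iv F8782)) (tt N3062 (iv D4130)))
theorem Q4132 : ∀ i, i < 4132 → P i := stepQ 4131 Q4131 (allL N4131 (tt N5503 (iv F9075)) (tt N5505 D5505) (tt N3063 (iv D4131)) (tt N5506 D5506) (tt N5332 (iv F8786)) (tt N5507 D5507))
theorem Q4133 : ∀ i, i < 4133 → P i := stepQ 4132 Q4132 (allL N4132 (tt N5504 (iv F9076)) (tt N3066 F6757) (tt N5507 (iv F9079)) (tt N3064 F6758) (tt N5508 D5508) (tt N3063 (iv D4132)))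
theorem Q4134 : ∀ i, i < 4134 → P i := stepQ 4133 Q4133 (allL N4133 (tt N5509 D5509) (tt N3065 (iv D4133)) (tt N5505 (iv F9078)) (tt N5510 D5510) (tt N5333 (iv F8787)) (tt N5511 D5511))
theorem Q4135 : ∀ i, i < 4135 → P i := stepQ 4134 Q4134 (allL N4134 (tt N4758 (iv F7738)) (tt N5510 (iv F9081)) (tt N4543 (iv F7384)) (tt N3065 (iv D4134)) (tt N5512 D5512) (tt N4542 (iv F7382)))
theorem Q4136 : ∀ i, i < 4136 → P i := stepQ 4135 Q4135 (allL N4135 (tt N4757 (iv F7735)) (tt N5511 (iv F9082)) (tt N3066 F6759) (tt N4542 F7381) (tt N5513 D5513) (tt N3065 (iv D4135)))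
theorem Q4137 : ∀ i, i < 4137 → P i := stepQ 4136 Q4136 (allL N4136 (tt N5373 (iv F8851)) (tt N5508 (iv F9080)) (tt N5513 (iv F9083)) (tt N5328 (iv F8775)) (tt N3066 (iv D4136)) (tt N5329 (iv F8779)))
theorem Q4138 : ∀ i, i < 4138 → P i := stepQ 4137 Q4137 (allL N4137 (tt N4657 (iv F7600)) (tt N5514 D5514) (tt N3067 (iv D4137)) (tt N5371 (iv F8847)) (tt N4690 (iv F7647)) (tt N3068 F6760))
theorem Q4139 : ∀ i, i < 4139 → P i := stepQ 4138 Q4138 (allL N4138 (tt N5515 D5515) (tt N3068 (iv D4138)) (tt N4395 (iv F7178)) (tt N5516 D5516) (tt N3069 F6761) (tt N5514 (iv F9084)))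
theorem Q4140 : ∀ i, i < 4140 → P i := stepQ 4139 Q4139 (allL N4139 (tt N4650 (iv F7588)) (tt N5516 (iv F9086)) (tt N5372 (iv F8849)) (tt N3068 (iv D4139)) (tt N4522 (iv F7343)) (tt N5371 F8848))
theorem Q4141 : ∀ i, i < 4141 → P i := stepQ 4140 Q4140 (allL N4140 (tt N3069 (iv D4140)) (tt N4652 (iv F7593)) (tt N4398 (iv F7181)) (tt N4644 (iv F7579)) (tt N5515 (iv F9085)) (tt N4687 (iv F7644)))
theorem Q4142 : ∀ i, i < 4142 → P i := stepQ 4141 Q4141 (allL N4141 (tt N4904 (iv F8017)) (tt N5299 (iv F8718)) (tt N3070 (iv D4141)) (tt N5517 D5517) (tt N5518 D5518) (tt N5035 (iv F8225)))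
theorem Q4143 : ∀ i, i < 4143 → P i := stepQ 4142 Q4142 (allL N4142 (tt N4828 (iv F7883)) (tt N3071 F6762) (tt N5518 (iv F9087)) (tt N3256 F6763) (tt N3070 (iv D4142)) (tt N5519 D5519))
theorem Q4144 : ∀ i, i < 4144 → P i := stepQ 4143 Q4143 (allL N4143 (tt N3074 F6764) (tt N5519 (iv F9089)) (tt N5457 (iv F9002)) (tt N3257 F6765) (tt N5094 (iv F8347)) (tt N3071 (iv D4143)))
theorem Q4145 : ∀ i, i < 4145 → P i := stepQ 4144 Q4144 (allL N4144 (tt N3072 (iv D4144)) (tt N5297 (iv F8713)) (tt N4918 (iv F8042)) (tt N5296 F8711) (tt N5520 D5520) (tt N5095 (iv F8351)))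
theorem Q4146 : ∀ i, i < 4146 → P i := stepQ 4145 Q4145 (allL N4145 (tt N5520 (iv F9092)) (tt N3073 F6766) (tt N4917 (iv F8039)) (tt N5521 D5521) (tt N3072 (iv D4145)) (tt N5522 D5522))
theorem Q4147 : ∀ i, i < 4147 → P i := stepQ 4146 Q4146 (allL N4146 (tt N5456 (iv F8999)) (tt N5521 (iv F9093)) (tt N5523 D5523) (tt N3073 (iv D4146)) (tt N5454 (iv F8995)) (tt N5524 D5524))
theorem Q4148 : ∀ i, i < 4148 → P i := stepQ 4147 Q4147 (allL N4147 (tt N5457 (iv F9001)) (tt N5522 (iv F9094)) (tt N3074 F6767) (tt N5524 (iv F9095)) (tt N5098 (iv F8358)) (tt N3073 (iv D4147)))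
theorem Q4149 : ∀ i, i < 4149 → P i := stepQ 4148 Q4148 (allL N4148 (tt N3077 F6768) (tt N4929 (iv F8065)) (tt N5385 (iv F8877)) (tt N3124 F6769) (tt N4957 (iv F8111)) (tt N3075 (iv D4148)))
theorem Q4150 : ∀ i, i < 4150 → P i := stepQ 4149 Q4149 (allL N4149 (tt N5384 (iv F8874)) (tt N4952 (iv F8103)) (tt N5525 D5525) (tt N3076 (iv D4149)) (tt N5376 (iv F8857)) (tt N5526 D5526))
theorem Q4151 : ∀ i, i < 4151 → P i := stepQ 4150 Q4150 (allL N4150 (tt N5385 (iv F8876)) (tt N4951 (iv F8100)) (tt N3077 F6770) (tt N5526 (iv F9096)) (tt N4945 (iv F8096)) (tt N3076 (iv D4150)))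
theorem Q4152 : ∀ i, i < 4152 → P i := stepQ 4151 Q4151 (allL N4151 (tt N5527 D5527) (tt N3078 (iv D4151)) (tt N5442 (iv F8982)) (tt N3626 F6771) (tt N4872 (iv F7960)) (tt N3143 F6772))
theorem Q4153 : ∀ i, i < 4153 → P i := stepQ 4152 Q4152 (allL N4152 (tt N3080 F6773) (tt N3161 F6774) (tt N5528 D5528) (tt N3079 (iv D4152)) (tt N3191 F6775) (tt N3161 F6776))
theorem Q4154 : ∀ i, i < 4154 → P i := stepQ 4153 Q4153 (allL N4153 (tt N5528 (iv F9100)) (tt N5434 (iv F8964)) (tt N3080 (iv D4153)) (tt N5529 D5529) (tt N3193 F6777) (tt N3162 F6778))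
theorem Q4155 : ∀ i, i < 4155 → P i := stepQ 4154 Q4154 (allL N4154 (tt N3171 F6779) (tt N3081 (iv D4154)) (tt N3163 F6780) (tt N3267 (iv F6782)) (tt N5530 D5530) (tt N3177 F6781))
theorem Q4156 : ∀ i, i < 4156 → P i := stepQ 4155 Q4155 (allL N4155 (tt N3083 F6783) (tt N3267 F6784) (tt N3700 F6785) (tt N3081 (iv D4155)) (tt N5531 D5531) (tt N3181 F6786))
theorem Q4157 : ∀ i, i < 4157 → P i := stepQ 4156 Q4156 (allL N4156 (tt N3084 F6787) (tt N5530 (iv F9108)) (tt N3082 F6788) (tt N5532 D5532) (tt N3081 (iv D4156)) (tt N5533 D5533))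
theorem Q4158 : ∀ i, i < 4158 → P i := stepQ 4157 Q4157 (allL N4157 (tt N3085 F6789) (tt N3166 F6790) (tt N5533 (iv F9115)) (tt N3166 F6791) (tt N3192 F6792) (tt N3082 (iv D4157)))
theorem Q4159 : ∀ i, i < 4159 → P i := stepQ 4158 Q4158 (allL N4158 (tt N3700 F6793) (tt N3262 F6794) (tt N3083 (iv D4158)) (tt N3692 F6795) (tt N5534 D5534) (tt N3183 F6796))
theorem Q4160 : ∀ i, i < 4160 → P i := stepQ 4159 Q4159 (allL N4159 (tt N5531 (iv F9110)) (tt N3174 F6797) (tt N5534 (iv F9119)) (tt N5535 D5535) (tt N3083 (iv D4159)) (tt N5536 D5536))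
theorem Q4161 : ∀ i, i < 4161 → P i := stepQ 4160 Q4160 (allL N4160 (tt N5532 (iv F9113)) (tt N3175 F6798) (tt N5537 D5537) (tt N3084 (iv D4160)) (tt N5535 (iv F9121)) (tt N5538 D5538))
theorem Q4162 : ∀ i, i < 4162 → P i := stepQ 4161 Q4161 (allL N4161 (tt N5533 (iv F9114)) (tt N3176 F6799) (tt N3085 F6800) (tt N5538 (iv F9125)) (tt N3186 F6801) (tt N3084 (iv D4161)))
theorem Q4163 : ∀ i, i < 4163 → P i := stepQ 4162 Q4162 (allL N4162 (tt N3163 F6802) (tt N3086 (iv D4162)) (tt N3171 F6803) (tt N4237 (iv F6950)) (tt N5539 D5539) (tt N3091 F6804))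
theorem Q4164 : ∀ i, i < 4164 → P i := stepQ 4163 Q4163 (allL N4163 (tt N3089 F6805) (tt N5539 (iv F9127)) (tt N3087 F6806) (tt N5540 D5540) (tt N3086 (iv D4163)) (tt N5541 D5541))
theorem Q4165 : ∀ i, i < 4165 → P i := stepQ 4164 Q4164 (allL N4164 (tt N3090 F6807) (tt N3173 F6808) (tt N5541 (iv F9131)) (tt N3328 F6809) (tt N3094 F6810) (tt N3087 (iv D4164)))
theorem Q4166 : ∀ i, i < 4166 → P i := stepQ 4165 Q4165 (allL N4165 (tt N4329 (iv F7081)) (tt N3168 F6811) (tt N4325 (iv F7074)) (tt N5542 D5542) (tt N3088 (iv D4165)) (tt N5543 D5543))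
theorem Q4167 : ∀ i, i < 4167 → P i := stepQ 4166 Q4166 (allL N4166 (tt N5540 (iv F9129)) (tt N3169 F6812) (tt N5544 D5544) (tt N3089 (iv D4166)) (tt N5542 (iv F9134)) (tt N5545 D5545))
theorem Q4168 : ∀ i, i < 4168 → P i := stepQ 4167 Q4167 (allL N4167 (tt N5541 (iv F9130)) (tt N3170 F6813) (tt N3090 F6814) (tt N5545 (iv F9138)) (tt N3101 F6815) (tt N3089 (iv D4167)))
theorem Q4169 : ∀ i, i < 4169 → P i := stepQ 4168 Q4168 (allL N4168 (tt N3091 (iv D4168)) (tt N3095 F6816) (tt N3177 F6817) (tt N3717 (iv F6819)) (tt N5546 D5546) (tt N3163 F6818))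
theorem Q4170 : ∀ i, i < 4170 → P i := stepQ 4169 Q4169 (allL N4169 (tt N3717 F6820) (tt N3092 F6821) (tt N3933 F6822) (tt N3091 (iv D4169)) (tt N5547 D5547) (tt N4237 (iv F6951)))
theorem Q4171 : ∀ i, i < 4171 → P i := stepQ 4170 Q4170 (allL N4170 (tt N5546 (iv F9139)) (tt N3093 F6823) (tt N3178 F6824) (tt N5548 D5548) (tt N3091 (iv D4170)) (tt N5549 D5549))
theorem Q4172 : ∀ i, i < 4172 → P i := stepQ 4171 Q4171 (allL N4171 (tt N3099 F6825) (tt N5547 (iv F9143)) (tt N4217 (iv F6918)) (tt N5550 D5550) (tt N3092 (iv D4171)) (tt N5551 D5551))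
theorem Q4173 : ∀ i, i < 4173 → P i := stepQ 4172 Q4172 (allL N4172 (tt N3100 F6826) (tt N5548 (iv F9145)) (tt N5552 D5552) (tt N3093 (iv D4172)) (tt N5550 (iv F9149)) (tt N5553 D5553))
theorem Q4174 : ∀ i, i < 4174 → P i := stepQ 4173 Q4173 (allL N4173 (tt N3101 F6827) (tt N5549 (iv F9146)) (tt N3094 F6828) (tt N5553 (iv F9157)) (tt N5541 (iv F9132)) (tt N3093 (iv D4173)))
theorem Q4175 : ∀ i, i < 4175 → P i := stepQ 4174 Q4174 (allL N4174 (tt N3097 F6829) (tt N5546 (iv F9140)) (tt N3102 F6830) (tt N5554 D5554) (tt N3095 (iv D4174)) (tt N5555 D5555))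
theorem Q4176 : ∀ i, i < 4176 → P i := stepQ 4175 Q4175 (allL N4175 (tt N3718 F6831) (tt N3099 F6832) (tt N3713 F6833) (tt N5556 D5556) (tt N3096 (iv D4175)) (tt N5557 D5557))
theorem Q4177 : ∀ i, i < 4177 → P i := stepQ 4176 Q4176 (allL N4176 (tt N5554 (iv F9158)) (tt N3100 F6834) (tt N5558 D5558) (tt N3097 (iv D4176)) (tt N5556 (iv F9165)) (tt N5559 D5559))
theorem Q4178 : ∀ i, i < 4178 → P i := stepQ 4177 Q4177 (allL N4177 (tt N5555 (iv F9160)) (tt N3101 F6835) (tt N3104 F6836) (tt N5559 (iv F9171)) (tt N3170 F6837) (tt N3097 (iv D4177)))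
theorem Q4179 : ∀ i, i < 4179 → P i := stepQ 4178 Q4178 (allL N4178 (tt N3949 F6838) (tt N3098 (iv D4178)) (tt N3711 F6839) (tt N4207 (iv F6895)) (tt N5560 D5560) (tt N4247 (iv F6964)))
theorem Q4180 : ∀ i, i < 4180 → P i := stepQ 4179 Q4179 (allL N4179 (tt N4217 (iv F6916)) (tt N5560 (iv F9173)) (tt N3099 F6840) (tt N5561 D5561) (tt N3098 (iv D4179)) (tt N5562 D5562))
theorem Q4181 : ∀ i, i < 4181 → P i := stepQ 4180 Q4180 (allL N4180 (tt N5550 (iv F9148)) (tt N5556 (iv F9164)) (tt N5563 D5563) (tt N3099 (iv D4180)) (tt N3100 F6841) (tt N5564 D5564))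
theorem Q4182 : ∀ i, i < 4182 → P i := stepQ 4181 Q4181 (allL N4181 (tt N5551 (iv F9150)) (tt N5557 (iv F9167)) (tt N5562 (iv F9175)) (tt N5564 (iv F9177)) (tt N5543 (iv F9136)) (tt N3099 (iv D4181)))
theorem Q4183 : ∀ i, i < 4183 → P i := stepQ 4182 Q4182 (allL N4182 (tt N5552 (iv F9151)) (tt N5565 D5565) (tt N3100 (iv D4182)) (tt N5566 D5566) (tt N5563 (iv F9176)) (tt N5567 D5567))
theorem Q4184 : ∀ i, i < 4184 → P i := stepQ 4183 Q4183 (allL N4183 (tt N5553 (iv F9155)) (tt N5559 (iv F9170)) (tt N5567 (iv F9182)) (tt N3101 F6842) (tt N5568 D5568) (tt N3100 (iv D4183)))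
theorem Q4185 : ∀ i, i < 4185 → P i := stepQ 4184 Q4184 (allL N4184 (tt N3103 F6843) (tt N3191 F6844) (tt N5569 D5569) (tt N3102 (iv D4184)) (tt N3161 F6845) (tt N5570 D5570))
theorem Q4186 : ∀ i, i < 4186 → P i := stepQ 4185 Q4185 (allL N4185 (tt N3104 F6846) (tt N3192 F6847) (tt N5555 (iv F9161)) (tt N5570 (iv F9188)) (tt N3166 F6848) (tt N3102 (iv D4185)))
theorem Q4187 : ∀ i, i < 4187 → P i := stepQ 4186 Q4186 (allL N4186 (tt N5569 (iv F9184)) (tt N5417 (iv F8928)) (tt N3103 (iv D4186)) (tt N5571 D5571) (tt N3162 F6849) (tt N5572 D5572))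
theorem Q4188 : ∀ i, i < 4188 → P i := stepQ 4187 Q4187 (allL N4187 (tt N5570 (iv F9186)) (tt N3105 F6850) (tt N5572 (iv F9191)) (tt N3104 F6851) (tt N3194 F6852) (tt N3103 (iv D4187)))
theorem Q4189 : ∀ i, i < 4189 → P i := stepQ 4188 Q4188 (allL N4188 (tt N3110 F6853) (tt N3107 F6854) (tt N5573 D5573) (tt N3106 (iv D4188)) (tt N3107 F6855) (tt N5414 (iv F8926)))
theorem Q4190 : ∀ i, i < 4190 → P i := stepQ 4189 Q4189 (allL N4189 (tt N3111 F6856) (tt N5574 D5574) (tt N3107 (iv D4189)) (tt N5567 (iv F9183)) (tt N5573 (iv F9194)) (tt N5566 (iv F9180)))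
theorem Q4191 : ∀ i, i < 4191 → P i := stepQ 4190 Q4190 (allL N4190 (tt N3112 F6857) (tt N5414 (iv F8924)) (tt N5566 (iv F9179)) (tt N3108 F6858) (tt N5433 (iv F8962)) (tt N3107 (iv D4190)))
theorem Q4192 : ∀ i, i < 4192 → P i := stepQ 4191 Q4191 (allL N4191 (tt N3195 F6859) (tt N3199 F6860) (tt N5575 D5575) (tt N3109 (iv D4191)) (tt N3727 F6861) (tt N5404 (iv F8902)))
theorem Q4193 : ∀ i, i < 4193 → P i := stepQ 4192 Q4192 (allL N4192 (tt N5573 (iv F9193)) (tt N5572 (iv F9190)) (tt N3110 (iv D4192)) (tt N5576 D5576) (tt N3111 F6862) (tt N5417 (iv F8930)))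
theorem Q4194 : ∀ i, i < 4194 → P i := stepQ 4193 Q4193 (allL N4193 (tt N5577 D5577) (tt N3111 (iv D4193)) (tt N3194 F6863) (tt N5578 D5578) (tt N5572 (iv F9192)) (tt N3193 (iv F6864)))
theorem Q4195 : ∀ i, i < 4195 → P i := stepQ 4194 Q4194 (allL N4194 (tt N5567 (iv F9181)) (tt N5578 (iv F9199)) (tt N5553 (iv F9156)) (tt N3111 (iv D4194)) (tt N5579 D5579) (tt N5552 F9154))
theorem Q4196 : ∀ i, i < 4196 → P i := stepQ 4195 Q4195 (allL N4195 (tt N5566 (iv F9178)) (tt N3193 F6865) (tt N3112 F6866) (tt N5552 (iv F9152)) (tt N5434 (iv F8965)) (tt N3111 (iv D4195)))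
theorem Q4197 : ∀ i, i < 4197 → P i := stepQ 4196 Q4196 (allL N4196 (tt N3222 F6867) (tt N3113 (iv D4196)) (tt N3121 F6868) (tt N3258 (iv F6870)) (tt N5580 D5580) (tt N3220 F6869))
theorem Q4198 : ∀ i, i < 4198 → P i := stepQ 4197 Q4197 (allL N4197 (tt N3116 F6871) (tt N3258 F6872) (tt N4812 (iv F7850)) (tt N3113 (iv D4197)) (tt N5581 D5581) (tt N3229 F6873))
theorem Q4199 : ∀ i, i < 4199 → P i := stepQ 4198 Q4198 (allL N4198 (tt N3117 F6874) (tt N5580 (iv F9202)) (tt N3114 F6875) (tt N5582 D5582) (tt N3113 (iv D4198)) (tt N5583 D5583))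
theorem Q4200 : ∀ i, i < 4200 → P i := stepQ 4199 Q4199 (allL N4199 (tt N3118 F6876) (tt N3124 F6877) (tt N5583 (iv F9208)) (tt N4929 (iv F8066)) (tt N3247 F6878) (tt N3114 (iv D4199)))
theorem Q4201 : ∀ i, i < 4201 → P i := stepQ 4200 Q4200 (allL N4200 (tt N3119 F6879) (tt N3126 F6880) (tt N5584 D5584) (tt N3115 (iv D4200)) (tt N3246 F6881) (tt N4930 (iv F8069)))
theorem Q4202 : ∀ i, i < 4202 → P i := stepQ 4201 Q4201 (allL N4201 (tt N4812 (iv F7849)) (tt N3255 F6882) (tt N3116 (iv D4201)) (tt N4919 (iv F8047)) (tt N5585 D5585) (tt N3231 F6883))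
theorem Q4203 : ∀ i, i < 4203 → P i := stepQ 4202 Q4202 (allL N4202 (tt N5581 (iv F9204)) (tt N3237 F6884) (tt N5585 (iv F9213)) (tt N5586 D5586) (tt N3116 (iv D4202)) (tt N5587 D5587))
theorem Q4204 : ∀ i, i < 4204 → P i := stepQ 4203 Q4203 (allL N4203 (tt N5582 (iv F9206)) (tt N3241 F6885) (tt N5588 D5588) (tt N3117 (iv D4203)) (tt N5586 (iv F9215)) (tt N5589 D5589))
theorem Q4205 : ∀ i, i < 4205 → P i := stepQ 4204 Q4204 (allL N4204 (tt N5583 (iv F9207)) (tt N3240 F6886) (tt N3118 F6887) (tt N5589 (iv F9219)) (tt N3234 F6888) (tt N3117 (iv D4204)))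
theorem Q4206 : ∀ i, i < 4206 → P i := stepQ 4205 Q4205 (allL N4205 (tt N5584 (iv F9210)) (tt N5590 D5590) (tt N3119 (iv D4205)) (tt N5591 D5591) (tt N3248 F6889) (tt N4934 (iv F8073)))
theorem Q4207 : ∀ i, i < 4207 → P i := stepQ 4206 Q4206 (allL N4206 (tt N5592 D5592) (tt N3120 (iv D4206)) (tt N5590 (iv F9220)) (tt N3710 F6890) (tt N3250 F6891) (tt N3726 F6892))
theorem Q4208 : ∀ i, i < 4208 → P i := stepQ 4207 Q4207 (allL N4207 (tt N3121 (iv D4207)) (tt N3127 F6893) (tt N3222 F6894) (tt N4178 F6895) (tt N5593 D5593) (tt N3210 (iv F6896)))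
theorem Q4209 : ∀ i, i < 4209 → P i := stepQ 4208 Q4208 (allL N4208 (tt N5593 (iv F9227)) (tt N3122 F6897) (tt N5580 (iv F9203)) (tt N5594 D5594) (tt N3121 (iv D4208)) (tt N5595 D5595))
theorem Q4210 : ∀ i, i < 4210 → P i := stepQ 4209 Q4209 (allL N4209 (tt N3210 F6898) (tt N3123 F6899) (tt N3220 F6900) (tt N3151 F6901) (tt N5596 D5596) (tt N3121 (iv D4209)))
theorem Q4211 : ∀ i, i < 4211 → P i := stepQ 4210 Q4210 (allL N4210 (tt N3132 F6902) (tt N5594 (iv F9230)) (tt N5597 D5597) (tt N3122 (iv D4210)) (tt N5270 (iv F8666)) (tt N5598 D5598))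
theorem Q4212 : ∀ i, i < 4212 → P i := stepQ 4211 Q4211 (allL N4211 (tt N3133 F6903) (tt N5595 (iv F9231)) (tt N3124 F6904) (tt N5598 (iv F9237)) (tt N5599 D5599) (tt N3122 (iv D4211)))
theorem Q4213 : ∀ i, i < 4213 → P i := stepQ 4212 Q4212 (allL N4212 (tt N3134 F6905) (tt N5596 (iv F9233)) (tt N3125 F6906) (tt N5600 D5600) (tt N3123 (iv D4212)) (tt N5599 (iv F9240)))
theorem Q4214 : ∀ i, i < 4214 → P i := stepQ 4213 Q4213 (allL N4213 (tt N3135 F6907) (tt N3247 F6908) (tt N5599 (iv F9239)) (tt N5601 D5601) (tt N3124 (iv D4213)) (tt N3125 F6909))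
theorem Q4215 : ∀ i, i < 4215 → P i := stepQ 4214 Q4214 (allL N4214 (tt N3136 F6910) (tt N3246 F6911) (tt N5602 D5602) (tt N3125 (iv D4214)) (tt N3126 F6912) (tt N5601 (iv F9245)))
theorem Q4216 : ∀ i, i < 4216 → P i := stepQ 4215 Q4215 (allL N4215 (tt N3137 F6913) (tt N5603 D5603) (tt N3126 (iv D4215)) (tt N5432 (iv F8959)) (tt N5602 (iv F9247)) (tt N5441 (iv F8981)))
theorem Q4217 : ∀ i, i < 4217 → P i := stepQ 4216 Q4216 (allL N4216 (tt N3129 F6914) (tt N5593 (iv F9228)) (tt N3138 F6915) (tt N5604 D5604) (tt N3127 (iv D4216)) (tt N5605 D5605))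
theorem Q4218 : ∀ i, i < 4218 → P i := stepQ 4217 Q4217 (allL N4217 (tt N4179 F6916) (tt N3130 F6917) (tt N4171 F6918) (tt N5606 D5606) (tt N3128 (iv D4217)) (tt N5607 D5607))
theorem Q4219 : ∀ i, i < 4219 → P i := stepQ 4218 Q4218 (allL N4218 (tt N5604 (iv F9248)) (tt N3132 F6919) (tt N5608 D5608) (tt N3129 (iv D4218)) (tt N5606 (iv F9255)) (tt N5609 D5609))
theorem Q4220 : ∀ i, i < 4220 → P i := stepQ 4219 Q4219 (allL N4219 (tt N5605 (iv F9250)) (tt N3133 F6920) (tt N3140 F6921) (tt N5609 (iv F9261)) (tt N3218 F6922) (tt N3129 (iv D4219)))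
theorem Q4221 : ∀ i, i < 4221 → P i := stepQ 4220 Q4220 (allL N4220 (tt N5270 (iv F8665)) (tt N5606 (iv F9254)) (tt N5610 D5610) (tt N3130 (iv D4220)) (tt N3132 F6923) (tt N5611 D5611))
theorem Q4222 : ∀ i, i < 4222 → P i := stepQ 4221 Q4221 (allL N4221 (tt N5271 (iv F8667)) (tt N5607 (iv F9257)) (tt N5268 (iv F8661)) (tt N5611 (iv F9263)) (tt N5612 D5612) (tt N3130 (iv D4221)))
theorem Q4223 : ∀ i, i < 4223 → P i := stepQ 4222 Q4222 (allL N4222 (tt N3152 F6924) (tt N3216 F6925) (tt N3147 F6926) (tt N5613 D5613) (tt N3131 (iv D4222)) (tt N5612 (iv F9267)))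
theorem Q4224 : ∀ i, i < 4224 → P i := stepQ 4223 Q4223 (allL N4223 (tt N5597 (iv F9235)) (tt N5614 D5614) (tt N3132 (iv D4223)) (tt N5615 D5615) (tt N5610 (iv F9262)) (tt N5616 D5616))
theorem Q4225 : ∀ i, i < 4225 → P i := stepQ 4224 Q4224 (allL N4224 (tt N5598 (iv F9236)) (tt N5609 (iv F9260)) (tt N5616 (iv F9271)) (tt N3133 F6927) (tt N5617 D5617) (tt N3132 (iv D4224)))
theorem Q4226 : ∀ i, i < 4226 → P i := stepQ 4225 Q4225 (allL N4225 (tt N5599 (iv F9238)) (tt N3218 F6928) (tt N3135 F6929) (tt N5618 D5618) (tt N3133 (iv D4225)) (tt N3134 F6930))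
theorem Q4227 : ∀ i, i < 4227 → P i := stepQ 4226 Q4226 (allL N4226 (tt N5600 (iv F9241)) (tt N3217 F6931) (tt N5619 D5619) (tt N3134 (iv D4226)) (tt N5613 (iv F9270)) (tt N5618 (iv F9273)))
theorem Q4228 : ∀ i, i < 4228 → P i := stepQ 4227 Q4227 (allL N4227 (tt N5601 (iv F9243)) (tt N3141 F6932) (tt N5620 D5620) (tt N3135 (iv D4227)) (tt N4886 (iv F7987)) (tt N3136 F6933))
theorem Q4229 : ∀ i, i < 4229 → P i := stepQ 4228 Q4228 (allL N4228 (tt N5602 (iv F9246)) (tt N5621 D5621) (tt N3136 (iv D4228)) (tt N5622 D5622) (tt N3137 F6934) (tt N5620 (iv F9275)))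
theorem Q4230 : ∀ i, i < 4230 → P i := stepQ 4229 Q4229 (allL N4229 (tt N5623 D5623) (tt N3137 (iv D4229)) (tt N3143 F6935) (tt N5624 D5624) (tt N5621 (iv F9277)) (tt N5442 (iv F8983)))
theorem Q4231 : ∀ i, i < 4231 → P i := stepQ 4230 Q4230 (allL N4230 (tt N5432 (iv F8957)) (tt N5624 (iv F9280)) (tt N5423 (iv F8944)) (tt N3137 (iv D4230)) (tt N5625 D5625) (tt N5443 (iv F8986)))
theorem Q4232 : ∀ i, i < 4232 → P i := stepQ 4231 Q4231 (allL N4231 (tt N3139 F6936) (tt N3227 F6937) (tt N5626 D5626) (tt N3138 (iv D4231)) (tt N3214 F6938) (tt N4998 (iv F8154)))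
theorem Q4233 : ∀ i, i < 4233 → P i := stepQ 4232 Q4232 (allL N4232 (tt N3140 F6939) (tt N3226 F6940) (tt N5605 (iv F9251)) (tt N4998 (iv F8153)) (tt N3213 F6941) (tt N3138 (iv D4232)))
theorem Q4234 : ∀ i, i < 4234 → P i := stepQ 4233 Q4233 (allL N4233 (tt N5626 (iv F9281)) (tt N3651 F6942) (tt N3139 (iv D4233)) (tt N5627 D5627) (tt N3219 F6943) (tt N5005 (iv F8165)))
theorem Q4235 : ∀ i, i < 4235 → P i := stepQ 4234 Q4234 (allL N4234 (tt N5628 D5628) (tt N3142 (iv D4234)) (tt N5621 (iv F9276)) (tt N3743 F6944) (tt N3143 F6945) (tt N3742 F6946))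
theorem Q4236 : ∀ i, i < 4236 → P i := stepQ 4235 Q4235 (allL N4235 (tt N3143 (iv D4235)) (tt N5592 (iv F9223)) (tt N5623 (iv F9279)) (tt N5629 D5629) (tt N5628 (iv F9286)) (tt N5527 (iv F9099)))
theorem Q4237 : ∀ i, i < 4237 → P i := stepQ 4236 Q4236 (allL N4236 (tt N5629 (iv F9288)) (tt N3144 F6947) (tt N5630 D5630) (tt N3143 (iv D4236)) (tt N4877 (iv F7973)) (tt N3626 F6948))
theorem Q4238 : ∀ i, i < 4238 → P i := stepQ 4237 Q4237 (allL N4237 (tt N4265 (iv F6975)) (tt N3215 F6949) (tt N3145 (iv D4237)) (tt N4162 F6950) (tt N5631 D5631) (tt N4169 F6951))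
theorem Q4239 : ∀ i, i < 4239 → P i := stepQ 4238 Q4238 (allL N4238 (tt N4773 (iv F7765)) (tt N3147 F6952) (tt N5631 (iv F9294)) (tt N5632 D5632) (tt N3145 (iv D4238)) (tt N5633 D5633))
theorem Q4240 : ∀ i, i < 4240 → P i := stepQ 4239 Q4239 (allL N4239 (tt N5250 (iv F8625)) (tt N3148 F6953) (tt N5634 D5634) (tt N3146 (iv D4239)) (tt N5632 (iv F9296)) (tt N5635 D5635))
theorem Q4241 : ∀ i, i < 4241 → P i := stepQ 4240 Q4240 (allL N4240 (tt N5245 (iv F8611)) (tt N3149 F6954) (tt N5316 (iv F8752)) (tt N5635 (iv F9299)) (tt N5242 (iv F8606)) (tt N3146 (iv D4240)))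
theorem Q4242 : ∀ i, i < 4242 → P i := stepQ 4241 Q4241 (allL N4241 (tt N3153 F6955) (tt N5632 (iv F9295)) (tt N5636 D5636) (tt N3147 (iv D4241)) (tt N3148 F6956) (tt N5637 D5637))
theorem Q4243 : ∀ i, i < 4243 → P i := stepQ 4242 Q4242 (allL N4242 (tt N3154 F6957) (tt N5633 (iv F9297)) (tt N5612 (iv F9266)) (tt N5637 (iv F9303)) (tt N5268 (iv F8662)) (tt N3147 (iv D4242)))
theorem Q4244 : ∀ i, i < 4244 → P i := stepQ 4243 Q4243 (allL N4243 (tt N3155 F6958) (tt N5638 D5638) (tt N3148 (iv D4243)) (tt N5367 (iv F8843)) (tt N5636 (iv F9301)) (tt N5393 (iv F8889)))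
theorem Q4245 : ∀ i, i < 4245 → P i := stepQ 4244 Q4244 (allL N4244 (tt N3156 F6959) (tt N5635 (iv F9298)) (tt N5393 (iv F8888)) (tt N3149 F6960) (tt N5639 D5639) (tt N3148 (iv D4244)))
theorem Q4246 : ∀ i, i < 4246 → P i := stepQ 4245 Q4245 (allL N4245 (tt N5640 D5640) (tt N3150 (iv D4245)) (tt N5420 (iv F8937)) (tt N5641 D5641) (tt N5288 (iv F8695)) (tt N5420 F8938))
theorem Q4247 : ∀ i, i < 4247 → P i := stepQ 4246 Q4246 (allL N4246 (tt N3158 F6961) (tt N5641 (iv F9306)) (tt N5443 (iv F8985)) (tt N3150 (iv D4246)) (tt N5642 D5642) (tt N5423 (iv F8943)))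
theorem Q4248 : ∀ i, i < 4248 → P i := stepQ 4247 Q4247 (allL N4247 (tt N3151 (iv D4247)) (tt N3211 F6962) (tt N4270 (iv F6986)) (tt N3210 F6963) (tt N5643 D5643) (tt N4178 F6964))
theorem Q4249 : ∀ i, i < 4249 → P i := stepQ 4248 Q4248 (allL N4248 (tt N5643 (iv F9308)) (tt N3152 F6965) (tt N4760 (iv F7742)) (tt N5644 D5644) (tt N3151 (iv D4248)) (tt N5645 D5645))
theorem Q4250 : ∀ i, i < 4250 → P i := stepQ 4249 Q4249 (allL N4249 (tt N5613 (iv F9268)) (tt N5644 (iv F9310)) (tt N5646 D5646) (tt N3152 (iv D4249)) (tt N5600 (iv F9242)) (tt N5647 D5647))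
theorem Q4251 : ∀ i, i < 4251 → P i := stepQ 4250 Q4250 (allL N4250 (tt N5612 (iv F9264)) (tt N5645 (iv F9311)) (tt N3154 F6966) (tt N5647 (iv F9312)) (tt N5271 (iv F8669)) (tt N3152 (iv D4250)))
theorem Q4252 : ∀ i, i < 4252 → P i := stepQ 4251 Q4251 (allL N4251 (tt N5636 (iv F9300)) (tt N5648 D5648) (tt N3153 (iv D4251)) (tt N5649 D5649) (tt N3155 F6967) (tt N5650 D5650))
theorem Q4253 : ∀ i, i < 4253 → P i := stepQ 4252 Q4252 (allL N4252 (tt N5637 (iv F9302)) (tt N5276 (iv F8673)) (tt N5650 (iv F9314)) (tt N3154 F6968) (tt N5651 D5651) (tt N3153 (iv D4252)))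
theorem Q4254 : ∀ i, i < 4254 → P i := stepQ 4253 Q4253 (allL N4253 (tt N5652 D5652) (tt N3155 (iv D4253)) (tt N5278 (iv F8676)) (tt N5653 D5653) (tt N5648 (iv F9313)) (tt N5654 D5654))
theorem Q4255 : ∀ i, i < 4255 → P i := stepQ 4254 Q4254 (allL N4254 (tt N5367 (iv F8841)) (tt N5653 (iv F9316)) (tt N5355 (iv F8824)) (tt N3155 (iv D4254)) (tt N5655 D5655) (tt N5380 (iv F8868)))
theorem Q4256 : ∀ i, i < 4256 → P i := stepQ 4255 Q4255 (allL N4255 (tt N5393 (iv F8887)) (tt N5654 (iv F9317)) (tt N3156 F6969) (tt N5380 (iv F8867)) (tt N5656 D5656) (tt N3155 (iv D4255)))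
theorem Q4257 : ∀ i, i < 4257 → P i := stepQ 4256 Q4256 (allL N4256 (tt N5639 (iv F9304)) (tt N5266 (iv F8657)) (tt N5656 (iv F9318)) (tt N5260 (iv F8643)) (tt N3156 (iv D4256)) (tt N5651 (iv F9315)))
theorem Q4258 : ∀ i, i < 4258 → P i := stepQ 4257 Q4257 (allL N4257 (tt N3157 (iv D4257)) (tt N5640 (iv F9305)) (tt N3159 F6970) (tt N5657 D5657) (tt N5291 (iv F8701)) (tt N5424 (iv F8947)))
theorem Q4259 : ∀ i, i < 4259 → P i := stepQ 4258 Q4258 (allL N4258 (tt N5657 (iv F9319)) (tt N3158 F6971) (tt N5658 D5658) (tt N3157 (iv D4258)) (tt N5659 D5659) (tt N5426 (iv F8952)))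
theorem Q4260 : ∀ i, i < 4260 → P i := stepQ 4259 Q4259 (allL N4259 (tt N5443 (iv F8984)) (tt N5660 D5660) (tt N3158 (iv D4259)) (tt N5441 (iv F8980)) (tt N5661 D5661) (tt N5432 (iv F8958)))
theorem Q4261 : ∀ i, i < 4261 → P i := stepQ 4260 Q4260 (allL N4260 (tt N5642 (iv F9307)) (tt N5659 (iv F9320)) (tt N5661 (iv F9321)) (tt N5294 (iv F8705)) (tt N3158 (iv D4260)) (tt N5662 D5662))
theorem Q4262 : ∀ i, i < 4262 → P i := stepQ 4261 Q4261 (allL N4261 (tt N3160 F6972) (tt N5433 (iv F8961)) (tt N5663 D5663) (tt N3159 (iv D4261)) (tt N5414 (iv F8925)) (tt N5433 (iv F8963)))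
theorem Q4263 : ∀ i, i < 4263 → P i := stepQ 4262 Q4262 (allL N4262 (tt N5663 (iv F9322)) (tt N3162 F6973) (tt N3160 (iv D4262)) (tt N5664 D5664) (tt N5417 (iv F8929)) (tt N5434 (iv F8966)))
theorem Q4264 : ∀ i, i < 4264 → P i := stepQ 4263 Q4263 (allL N4263 (tt N3162 F6974) (tt N5665 D5665) (tt N3161 (iv D4263)) (tt N5666 D5666) (tt N5569 (iv F9185)) (tt N5528 (iv F9102)))
theorem Q4265 : ∀ i, i < 4265 → P i := stepQ 4264 Q4264 (allL N4264 (tt N5666 (iv F9324)) (tt N5664 (iv F9323)) (tt N5667 D5667) (tt N3162 (iv D4264)) (tt N5668 D5668) (tt N5529 (iv F9105)))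
theorem Q4266 : ∀ i, i < 4266 → P i := stepQ 4265 Q4265 (allL N4265 (tt N4237 F6975) (tt N3164 F6976) (tt N3549 F6977) (tt N3163 (iv D4265)) (tt N5669 D5669) (tt N3717 F6978))
theorem Q4267 : ∀ i, i < 4267 → P i := stepQ 4266 Q4266 (allL N4266 (tt N5539 (iv F9126)) (tt N3165 F6979) (tt N5530 (iv F9109)) (tt N5670 D5670) (tt N3163 (iv D4266)) (tt N5671 D5671))
theorem Q4268 : ∀ i, i < 4268 → P i := stepQ 4267 Q4267 (allL N4267 (tt N3168 F6980) (tt N5669 (iv F9331)) (tt N3548 F6981) (tt N5672 D5672) (tt N3164 (iv D4267)) (tt N5673 D5673))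
theorem Q4269 : ∀ i, i < 4269 → P i := stepQ 4268 Q4268 (allL N4268 (tt N3169 F6982) (tt N5670 (iv F9333)) (tt N5674 D5674) (tt N3165 (iv D4268)) (tt N5672 (iv F9336)) (tt N5675 D5675))
theorem Q4270 : ∀ i, i < 4270 → P i := stepQ 4269 Q4269 (allL N4269 (tt N3170 F6983) (tt N5671 (iv F9334)) (tt N3166 F6984) (tt N5675 (iv F9342)) (tt N5555 (iv F9162)) (tt N3165 (iv D4269)))
theorem Q4271 : ∀ i, i < 4271 → P i := stepQ 4270 Q4270 (allL N4270 (tt N3538 F6985) (tt N3167 (iv D4270)) (tt N4247 F6986) (tt N3537 F6987) (tt N5676 D5676) (tt N3711 F6988))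
theorem Q4272 : ∀ i, i < 4272 → P i := stepQ 4271 Q4271 (allL N4271 (tt N3548 F6989) (tt N5676 (iv F9344)) (tt N3168 F6990) (tt N5677 D5677) (tt N3167 (iv D4271)) (tt N5678 D5678))
theorem Q4273 : ∀ i, i < 4273 → P i := stepQ 4272 Q4272 (allL N4272 (tt N5672 (iv F9335)) (tt N5542 (iv F9133)) (tt N5679 D5679) (tt N3168 (iv D4272)) (tt N3169 F6991) (tt N5680 D5680))
theorem Q4274 : ∀ i, i < 4274 → P i := stepQ 4273 Q4273 (allL N4273 (tt N5673 (iv F9337)) (tt N5543 (iv F9135)) (tt N5678 (iv F9349)) (tt N5680 (iv F9352)) (tt N5557 (iv F9169)) (tt N3168 (iv D4273)))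
theorem Q4275 : ∀ i, i < 4275 → P i := stepQ 4274 Q4274 (allL N4274 (tt N5674 (iv F9340)) (tt N5681 D5681) (tt N3169 (iv D4274)) (tt N5682 D5682) (tt N5679 (iv F9351)) (tt N5683 D5683))
theorem Q4276 : ∀ i, i < 4276 → P i := stepQ 4275 Q4275 (allL N4275 (tt N5675 (iv F9341)) (tt N5545 (iv F9137)) (tt N5683 (iv F9353)) (tt N3170 F6992) (tt N5684 D5684) (tt N3169 (iv D4275)))
theorem Q4277 : ∀ i, i < 4277 → P i := stepQ 4276 Q4276 (allL N4276 (tt N5530 (iv F9107)) (tt N3172 F6993) (tt N5539 (iv F9128)) (tt N5685 D5685) (tt N3171 (iv D4276)) (tt N5686 D5686))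
theorem Q4278 : ∀ i, i < 4278 → P i := stepQ 4277 Q4277 (allL N4277 (tt N3175 F6994) (tt N5685 (iv F9354)) (tt N5687 D5687) (tt N3172 (iv D4277)) (tt N3269 F6995) (tt N5688 D5688))
theorem Q4279 : ∀ i, i < 4279 → P i := stepQ 4278 Q4278 (allL N4278 (tt N3176 F6996) (tt N5686 (iv F9356)) (tt N3173 F6997) (tt N5688 (iv F9361)) (tt N3180 F6998) (tt N3172 (iv D4278)))
theorem Q4280 : ∀ i, i < 4280 → P i := stepQ 4279 Q4279 (allL N4279 (tt N3269 F6999) (tt N5535 (iv F9120)) (tt N5689 D5689) (tt N3174 (iv D4279)) (tt N3175 F7000) (tt N5690 D5690))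
theorem Q4281 : ∀ i, i < 4281 → P i := stepQ 4280 Q4280 (allL N4280 (tt N3270 F7001) (tt N5536 (iv F9122)) (tt N3266 F7002) (tt N5690 (iv F9365)) (tt N3188 F7003) (tt N3174 (iv D4280)))
theorem Q4282 : ∀ i, i < 4282 → P i := stepQ 4281 Q4281 (allL N4281 (tt N5687 (iv F9358)) (tt N5691 D5691) (tt N3175 (iv D4281)) (tt N5692 D5692) (tt N5689 (iv F9363)) (tt N5693 D5693))
theorem Q4283 : ∀ i, i < 4283 → P i := stepQ 4282 Q4282 (allL N4282 (tt N5688 (iv F9360)) (tt N5538 (iv F9124)) (tt N5693 (iv F9366)) (tt N3176 F7004) (tt N5694 D5694) (tt N3175 (iv D4282)))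
theorem Q4284 : ∀ i, i < 4284 → P i := stepQ 4283 Q4283 (allL N4283 (tt N3178 F7005) (tt N3182 F7006) (tt N5546 (iv F9141)) (tt N5695 D5695) (tt N3177 (iv D4283)) (tt N5696 D5696))
theorem Q4285 : ∀ i, i < 4285 → P i := stepQ 4284 Q4284 (allL N4284 (tt N5695 (iv F9368)) (tt N3179 F7007) (tt N5697 D5697) (tt N3178 (iv D4284)) (tt N4125 F7008) (tt N5698 D5698))
theorem Q4286 : ∀ i, i < 4286 → P i := stepQ 4285 Q4285 (allL N4285 (tt N5696 (iv F9371)) (tt N3180 F7009) (tt N5549 (iv F9147)) (tt N5698 (iv F9375)) (tt N5686 (iv F9357)) (tt N3178 (iv D4285)))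
theorem Q4287 : ∀ i, i < 4287 → P i := stepQ 4286 Q4286 (allL N4286 (tt N3189 F7010) (tt N5699 D5699) (tt N3179 (iv D4286)) (tt N3208 F7012) (tt N4127 F7011) (tt N3207 (iv F7013)))
theorem Q4288 : ∀ i, i < 4288 → P i := stepQ 4287 Q4287 (allL N4287 (tt N3190 F7014) (tt N5698 (iv F9374)) (tt N3207 F7015) (tt N3180 F7016) (tt N5700 D5700) (tt N3179 (iv D4287)))
theorem Q4289 : ∀ i, i < 4289 → P i := stepQ 4288 Q4288 (allL N4288 (tt N3184 F7017) (tt N4124 F7018) (tt N3699 F7019) (tt N5701 D5701) (tt N3181 (iv D4288)) (tt N5702 D5702))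
theorem Q4290 : ∀ i, i < 4290 → P i := stepQ 4289 Q4289 (allL N4289 (tt N3185 F7020) (tt N5695 (iv F9369)) (tt N5703 D5703) (tt N3182 (iv D4289)) (tt N5701 (iv F9384)) (tt N5704 D5704))
theorem Q4291 : ∀ i, i < 4291 → P i := stepQ 4290 Q4290 (allL N4290 (tt N3186 F7021) (tt N5696 (iv F9372)) (tt N3192 F7022) (tt N5704 (iv F9390)) (tt N5533 (iv F9116)) (tt N3182 (iv D4290)))
theorem Q4292 : ∀ i, i < 4292 → P i := stepQ 4291 Q4291 (allL N4291 (tt N3699 F7023) (tt N4117 F7024) (tt N3184 F7025) (tt N5705 D5705) (tt N3183 (iv D4291)) (tt N5706 D5706))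
theorem Q4293 : ∀ i, i < 4293 → P i := stepQ 4292 Q4292 (allL N4292 (tt N5701 (iv F9382)) (tt N3187 F7026) (tt N5707 D5707) (tt N3184 (iv D4292)) (tt N3185 F7027) (tt N5708 D5708))
theorem Q4294 : ∀ i, i < 4294 → P i := stepQ 4293 Q4293 (allL N4293 (tt N5702 (iv F9385)) (tt N3188 F7028) (tt N5706 (iv F9396)) (tt N5708 (iv F9399)) (tt N5536 (iv F9123)) (tt N3184 (iv D4293)))
theorem Q4295 : ∀ i, i < 4295 → P i := stepQ 4294 Q4294 (allL N4294 (tt N5703 (iv F9388)) (tt N5709 D5709) (tt N3185 (iv D4294)) (tt N5710 D5710) (tt N5707 (iv F9397)) (tt N5711 D5711))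
theorem Q4296 : ∀ i, i < 4296 → P i := stepQ 4295 Q4295 (allL N4295 (tt N5704 (iv F9389)) (tt N3190 F7029) (tt N5711 (iv F9401)) (tt N3186 F7030) (tt N5712 D5712) (tt N3185 (iv D4295)))
theorem Q4297 : ∀ i, i < 4297 → P i := stepQ 4296 Q4296 (allL N4296 (tt N4127 F7031) (tt N5713 D5713) (tt N3187 (iv D4296)) (tt N5714 D5714) (tt N3189 F7032) (tt N5715 D5715))
theorem Q4298 : ∀ i, i < 4298 → P i := stepQ 4297 Q4297 (allL N4297 (tt N4128 F7033) (tt N5708 (iv F9398)) (tt N5715 (iv F9408)) (tt N3188 F7034) (tt N5716 D5716) (tt N3187 (iv D4297)))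
theorem Q4299 : ∀ i, i < 4299 → P i := stepQ 4298 Q4298 (allL N4298 (tt N5717 D5717) (tt N3189 (iv D4298)) (tt N5709 (iv F9400)) (tt N5718 D5718) (tt N5713 (iv F9403)) (tt N5719 D5719))
theorem Q4300 : ∀ i, i < 4300 → P i := stepQ 4299 Q4299 (allL N4299 (tt N3208 F7035) (tt N5718 (iv F9412)) (tt N3198 F7036) (tt N3189 (iv D4299)) (tt N5720 D5720) (tt N3197 F7037))
theorem Q4301 : ∀ i, i < 4301 → P i := stepQ 4300 Q4300 (allL N4300 (tt N3207 F7038) (tt N5719 (iv F9414)) (tt N3190 F7039) (tt N3197 F7040) (tt N5721 D5721) (tt N3189 (iv D4300)))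
theorem Q4302 : ∀ i, i < 4302 → P i := stepQ 4301 Q4301 (allL N4301 (tt N5700 (iv F9379)) (tt N5712 (iv F9402)) (tt N5721 (iv F9420)) (tt N5694 (iv F9367)) (tt N3190 (iv D4301)) (tt N5716 (iv F9411)))
theorem Q4303 : ∀ i, i < 4303 → P i := stepQ 4302 Q4302 (allL N4302 (tt N3193 F7041) (tt N5722 D5722) (tt N3191 (iv D4302)) (tt N5723 D5723) (tt N5528 (iv F9101)) (tt N5577 (iv F9198)))
theorem Q4304 : ∀ i, i < 4304 → P i := stepQ 4303 Q4303 (allL N4303 (tt N3194 F7042) (tt N5570 (iv F9187)) (tt N5577 (iv F9197)) (tt N3192 F7043) (tt N5570 (iv F9189)) (tt N3191 (iv D4303)))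
theorem Q4305 : ∀ i, i < 4305 → P i := stepQ 4304 Q4304 (allL N4304 (tt N5723 (iv F9422)) (tt N5552 F9153) (tt N5724 D5724) (tt N3193 (iv D4304)) (tt N5725 D5725) (tt N5578 (iv F9200)))
theorem Q4306 : ∀ i, i < 4306 → P i := stepQ 4305 Q4305 (allL N4305 (tt N5575 (iv F9195)) (tt N5726 D5726) (tt N3195 (iv D4305)) (tt N5727 D5727) (tt N3729 F7044) (tt N5728 D5728))
theorem Q4307 : ∀ i, i < 4307 → P i := stepQ 4306 Q4306 (allL N4306 (tt N5404 (iv F8900)) (tt N3198 F7045) (tt N5728 (iv F9425)) (tt N3196 F7046) (tt N5729 D5729) (tt N3195 (iv D4306)))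
theorem Q4308 : ∀ i, i < 4308 → P i := stepQ 4307 Q4307 (allL N4307 (tt N5730 D5730) (tt N3197 (iv D4307)) (tt N5726 (iv F9423)) (tt N5719 (iv F9415)) (tt N3731 F7047) (tt N5718 F9413))
theorem Q4309 : ∀ i, i < 4309 → P i := stepQ 4308 Q4308 (allL N4308 (tt N3209 F7048) (tt N5729 (iv F9426)) (tt N5720 (iv F9417)) (tt N5478 (iv F9043)) (tt N3198 (iv D4308)) (tt N3734 F7049))
theorem Q4310 : ∀ i, i < 4310 → P i := stepQ 4309 Q4309 (allL N4309 (tt N3202 F7050) (tt N5731 D5731) (tt N3199 (iv D4309)) (tt N5411 (iv F8918)) (tt N4438 (iv F7221)) (tt N5411 (iv F8919)))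
theorem Q4311 : ∀ i, i < 4311 → P i := stepQ 4310 Q4310 (allL N4310 (tt N4438 (iv F7220)) (tt N5732 D5732) (tt N3200 (iv D4310)) (tt N5733 D5733) (tt N3202 F7051) (tt N5734 D5734))
theorem Q4312 : ∀ i, i < 4312 → P i := stepQ 4311 Q4311 (allL N4311 (tt N4439 (iv F7222)) (tt N3205 F7052) (tt N5734 (iv F9432)) (tt N3201 F7053) (tt N5735 D5735) (tt N3200 (iv D4311)))
theorem Q4313 : ∀ i, i < 4313 → P i := stepQ 4312 Q4312 (allL N4312 (tt N5736 D5736) (tt N3202 (iv D4312)) (tt N3206 F7054) (tt N5737 D5737) (tt N5732 (iv F9431)) (tt N5737 F9439))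
theorem Q4314 : ∀ i, i < 4314 → P i := stepQ 4313 Q4313 (allL N4313 (tt N5411 (iv F8917)) (tt N5737 (iv F9437)) (tt N3203 F7055) (tt N3202 (iv D4313)) (tt N5738 D5738) (tt N3202 F7056))
theorem Q4315 : ∀ i, i < 4315 → P i := stepQ 4314 Q4314 (allL N4314 (tt N5410 (iv F8915)) (tt N3209 F7057) (tt N5738 (iv F9440)) (tt N3299 F7058) (tt N3203 (iv D4314)) (tt N5735 (iv F9435)))
theorem Q4316 : ∀ i, i < 4316 → P i := stepQ 4315 Q4315 (allL N4315 (tt N5739 D5739) (tt N3204 (iv D4315)) (tt N5732 (iv F9430)) (tt N5740 D5740) (tt N3206 F7059) (tt N5741 D5741))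
theorem Q4317 : ∀ i, i < 4317 → P i := stepQ 4316 Q4316 (allL N4316 (tt N3732 F7060) (tt N5740 (iv F9443)) (tt N3239 F7061) (tt N3204 (iv D4316)) (tt N5742 D5742) (tt N3238 (iv F7062)))
theorem Q4318 : ∀ i, i < 4318 → P i := stepQ 4317 Q4317 (allL N4317 (tt N3733 F7063) (tt N5741 (iv F9445)) (tt N3205 F7064) (tt N3238 F7065) (tt N5743 D5743) (tt N3204 (iv D4317)))
theorem Q4319 : ∀ i, i < 4319 → P i := stepQ 4318 Q4318 (allL N4318 (tt N3734 F7066) (tt N5735 (iv F9433)) (tt N5743 (iv F9451)) (tt N5482 (iv F9055)) (tt N3205 (iv D4318)) (tt N3209 F7067))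
theorem Q4320 : ∀ i, i < 4320 → P i := stepQ 4319 Q4319 (allL N4319 (tt N3206 (iv D4319)) (tt N5730 (iv F9428)) (tt N5736 (iv F9436)) (tt N5744 D5744) (tt N5739 (iv F9442)) (tt N5745 D5745))
theorem Q4321 : ∀ i, i < 4321 → P i := stepQ 4320 Q4320 (allL N4320 (tt N5744 (iv F9453)) (tt N3207 F7068) (tt N5746 D5746) (tt N3206 (iv D4320)) (tt N5747 D5747) (tt N5699 (iv F9378)))
theorem Q4322 : ∀ i, i < 4322 → P i := stepQ 4321 Q4321 (allL N4321 (tt N5745 (iv F9454)) (tt N3208 F7069) (tt N5737 F9438) (tt N5699 (iv F9376)) (tt N5748 D5748) (tt N3206 (iv D4321)))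
theorem Q4323 : ∀ i, i < 4323 → P i := stepQ 4322 Q4322 (allL N4322 (tt N5721 (iv F9419)) (tt N5747 (iv F9455)) (tt N5700 (iv F9380)) (tt N5742 (iv F9449)) (tt N3207 (iv D4322)) (tt N5749 D5749))
theorem Q4324 : ∀ i, i < 4324 → P i := stepQ 4323 Q4323 (allL N4323 (tt N5720 (iv F9416)) (tt N5748 (iv F9456)) (tt N3209 F7070) (tt N5750 D5750) (tt N3208 (iv D4323)) (tt N5743 (iv F9452)))
theorem Q4325 : ∀ i, i < 4325 → P i := stepQ 4324 Q4324 (allL N4324 (tt N5596 (iv F9232)) (tt N3212 F7071) (tt N3221 F7072) (tt N5751 D5751) (tt N3210 (iv D4324)) (tt N5752 D5752))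
theorem Q4326 : ∀ i, i < 4326 → P i := stepQ 4325 Q4325 (allL N4325 (tt N3216 F7073) (tt N5643 (iv F9309)) (tt N4165 F7074) (tt N5753 D5753) (tt N3211 (iv D4325)) (tt N5754 D5754))
theorem Q4327 : ∀ i, i < 4327 → P i := stepQ 4326 Q4326 (allL N4326 (tt N3217 F7075) (tt N5751 (iv F9460)) (tt N5755 D5755) (tt N3212 (iv D4326)) (tt N5753 (iv F9464)) (tt N5756 D5756))
theorem Q4328 : ∀ i, i < 4328 → P i := stepQ 4327 Q4327 (allL N4327 (tt N3218 F7076) (tt N5752 (iv F9461)) (tt N3213 F7077) (tt N5756 (iv F9473)) (tt N5605 (iv F9252)) (tt N3212 (iv D4327)))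
theorem Q4329 : ∀ i, i < 4329 → P i := stepQ 4328 Q4328 (allL N4328 (tt N3219 F7078) (tt N5757 D5757) (tt N3214 (iv D4328)) (tt N3984 F7080) (tt N5626 (iv F9282)) (tt N3274 F7079))
theorem Q4330 : ∀ i, i < 4330 → P i := stepQ 4329 Q4329 (allL N4329 (tt N4165 F7081) (tt N5631 (iv F9293)) (tt N3216 F7082) (tt N5758 D5758) (tt N3215 (iv D4329)) (tt N5759 D5759))
theorem Q4331 : ∀ i, i < 4331 → P i := stepQ 4330 Q4330 (allL N4330 (tt N5753 (iv F9463)) (tt N5613 (iv F9269)) (tt N5760 D5760) (tt N3216 (iv D4330)) (tt N3217 F7083) (tt N5761 D5761))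
theorem Q4332 : ∀ i, i < 4332 → P i := stepQ 4331 Q4331 (allL N4331 (tt N5754 (iv F9465)) (tt N5612 (iv F9265)) (tt N5759 (iv F9481)) (tt N5761 (iv F9484)) (tt N5607 (iv F9259)) (tt N3216 (iv D4331)))
theorem Q4333 : ∀ i, i < 4333 → P i := stepQ 4332 Q4332 (allL N4332 (tt N5755 (iv F9468)) (tt N5762 D5762) (tt N3217 (iv D4332)) (tt N5763 D5763) (tt N5760 (iv F9483)) (tt N5764 D5764))
theorem Q4334 : ∀ i, i < 4334 → P i := stepQ 4333 Q4333 (allL N4333 (tt N5756 (iv F9471)) (tt N5618 (iv F9272)) (tt N5764 (iv F9489)) (tt N3218 F7084) (tt N5765 D5765) (tt N3217 (iv D4333)))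
theorem Q4335 : ∀ i, i < 4335 → P i := stepQ 4334 Q4334 (allL N4334 (tt N3984 F7085) (tt N3650 F7086) (tt N3981 F7088) (tt N3219 (iv D4334)) (tt N5766 D5766) (tt N3569 F7087))
theorem Q4336 : ∀ i, i < 4336 → P i := stepQ 4335 Q4335 (allL N4335 (tt N3221 F7089) (tt N3230 F7090) (tt N5596 (iv F9234)) (tt N5767 D5767) (tt N3220 (iv D4335)) (tt N5768 D5768))
theorem Q4337 : ∀ i, i < 4337 → P i := stepQ 4336 Q4336 (allL N4336 (tt N5767 (iv F9494)) (tt N3223 F7091) (tt N5769 D5769) (tt N3221 (iv D4336)) (tt N4906 (iv F8024)) (tt N5770 D5770))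
theorem Q4338 : ∀ i, i < 4338 → P i := stepQ 4337 Q4337 (allL N4337 (tt N5768 (iv F9496)) (tt N3224 F7092) (tt N5752 (iv F9462)) (tt N5770 (iv F9499)) (tt N5771 D5771) (tt N3221 (iv D4337)))
theorem Q4339 : ∀ i, i < 4339 → P i := stepQ 4338 Q4338 (allL N4338 (tt N5580 (iv F9201)) (tt N3225 F7093) (tt N5593 (iv F9229)) (tt N5772 D5772) (tt N3222 (iv D4338)) (tt N5771 (iv F9501)))
theorem Q4340 : ∀ i, i < 4340 → P i := stepQ 4339 Q4339 (allL N4339 (tt N3238 F7094) (tt N5773 D5773) (tt N3223 (iv D4339)) (tt N3733 F7095) (tt N4908 (iv F8029)) (tt N3732 (iv F7096)))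
theorem Q4341 : ∀ i, i < 4341 → P i := stepQ 4340 Q4340 (allL N4340 (tt N3239 F7097) (tt N5770 (iv F9498)) (tt N3732 F7098) (tt N3224 F7099) (tt N5774 D5774) (tt N3223 (iv D4340)))
theorem Q4342 : ∀ i, i < 4342 → P i := stepQ 4341 Q4341 (allL N4341 (tt N3240 F7100) (tt N5771 (iv F9500)) (tt N3226 F7101) (tt N5775 D5775) (tt N3224 (iv D4341)) (tt N3225 F7102))
theorem Q4343 : ∀ i, i < 4343 → P i := stepQ 4342 Q4342 (allL N4342 (tt N3241 F7103) (tt N5772 (iv F9502)) (tt N5776 D5776) (tt N3225 (iv D4342)) (tt N3260 F7104) (tt N5775 (iv F9509)))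
theorem Q4344 : ∀ i, i < 4344 → P i := stepQ 4343 Q4343 (allL N4343 (tt N3242 F7105) (tt N4998 (iv F8152)) (tt N5777 D5777) (tt N3226 (iv D4343)) (tt N3276 F7106) (tt N3227 F7107))
theorem Q4345 : ∀ i, i < 4345 → P i := stepQ 4344 Q4344 (allL N4344 (tt N3243 F7108) (tt N5778 D5778) (tt N3227 (iv D4344)) (tt N5779 D5779) (tt N3228 F7109) (tt N5777 (iv F9514)))
theorem Q4346 : ∀ i, i < 4346 → P i := stepQ 4345 Q4345 (allL N4345 (tt N5780 D5780) (tt N3228 (iv D4345)) (tt N5757 (iv F9475)) (tt N3273 F7110) (tt N5778 (iv F9515)) (tt N3277 F7111))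
theorem Q4347 : ∀ i, i < 4347 → P i := stepQ 4346 Q4346 (allL N4346 (tt N3232 F7112) (tt N4905 (iv F8021)) (tt N4931 (iv F8071)) (tt N5781 D5781) (tt N3229 (iv D4346)) (tt N5782 D5782))
theorem Q4348 : ∀ i, i < 4348 → P i := stepQ 4347 Q4347 (allL N4347 (tt N3233 F7113) (tt N5767 (iv F9495)) (tt N5783 D5783) (tt N3230 (iv D4347)) (tt N5781 (iv F9523)) (tt N5784 D5784))
theorem Q4349 : ∀ i, i < 4349 → P i := stepQ 4348 Q4348 (allL N4348 (tt N3234 F7114) (tt N5768 (iv F9497)) (tt N3247 F7115) (tt N5784 (iv F9527)) (tt N5583 (iv F9209)) (tt N3230 (iv D4348)))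
theorem Q4350 : ∀ i, i < 4350 → P i := stepQ 4349 Q4349 (allL N4349 (tt N4931 (iv F8070)) (tt N4899 (iv F8010)) (tt N3232 F7116) (tt N5785 D5785) (tt N3231 (iv D4349)) (tt N5786 D5786))
theorem Q4351 : ∀ i, i < 4351 → P i := stepQ 4350 Q4350 (allL N4350 (tt N5781 (iv F9522)) (tt N3235 F7117) (tt N5787 D5787) (tt N3232 (iv D4350)) (tt N3233 F7118) (tt N5788 D5788))
theorem Q4352 : ∀ i, i < 4352 → P i := stepQ 4351 Q4351 (allL N4351 (tt N5782 (iv F9524)) (tt N3236 F7119) (tt N5786 (iv F9528)) (tt N5788 (iv F9531)) (tt N5587 (iv F9217)) (tt N3232 (iv D4351)))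
theorem Q4353 : ∀ i, i < 4353 → P i := stepQ 4352 Q4352 (allL N4352 (tt N5783 (iv F9525)) (tt N5789 D5789) (tt N3233 (iv D4352)) (tt N5790 D5790) (tt N5787 (iv F9529)) (tt N5791 D5791))
theorem Q4354 : ∀ i, i < 4354 → P i := stepQ 4353 Q4353 (allL N4353 (tt N5784 (iv F9526)) (tt N3239 F7120) (tt N5791 (iv F9533)) (tt N3234 F7121) (tt N5792 D5792) (tt N3233 (iv D4353)))
theorem Q4355 : ∀ i, i < 4355 → P i := stepQ 4354 Q4354 (allL N4354 (tt N4908 (iv F8028)) (tt N5793 D5793) (tt N3235 (iv D4354)) (tt N5216 (iv F8546)) (tt N3238 F7122) (tt N5215 (iv F8544)))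
theorem Q4356 : ∀ i, i < 4356 → P i := stepQ 4355 Q4355 (allL N4355 (tt N4909 (iv F8030)) (tt N5788 (iv F9530)) (tt N5215 (iv F8543)) (tt N3236 F7123) (tt N5794 D5794) (tt N3235 (iv D4355)))
theorem Q4357 : ∀ i, i < 4357 → P i := stepQ 4356 Q4356 (allL N4356 (tt N3261 F7124) (tt N5587 (iv F9216)) (tt N3257 F7125) (tt N5795 D5795) (tt N3236 (iv D4356)) (tt N3237 F7126))
theorem Q4358 : ∀ i, i < 4358 → P i := stepQ 4357 Q4357 (allL N4357 (tt N3260 F7127) (tt N5586 (iv F9214)) (tt N5796 D5796) (tt N3237 (iv D4357)) (tt N3241 F7128) (tt N5795 (iv F9538)))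
theorem Q4359 : ∀ i, i < 4359 → P i := stepQ 4358 Q4358 (allL N4358 (tt N5797 D5797) (tt N3238 (iv D4358)) (tt N5789 (iv F9532)) (tt N5741 (iv F9446)) (tt N5793 (iv F9535)) (tt N5740 F9444))
theorem Q4360 : ∀ i, i < 4360 → P i := stepQ 4359 Q4359 (allL N4359 (tt N5774 (iv F9506)) (tt N5792 (iv F9534)) (tt N5742 (iv F9448)) (tt N5798 D5798) (tt N3239 (iv D4359)) (tt N5794 (iv F9536)))
theorem Q4361 : ∀ i, i < 4361 → P i := stepQ 4360 Q4360 (allL N4360 (tt N5775 (iv F9508)) (tt N5589 (iv F9218)) (tt N5799 D5799) (tt N3240 (iv D4360)) (tt N5798 (iv F9541)) (tt N3241 F7129))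
theorem Q4362 : ∀ i, i < 4362 → P i := stepQ 4361 Q4361 (allL N4361 (tt N5776 (iv F9510)) (tt N5800 D5800) (tt N3241 (iv D4361)) (tt N5801 D5801) (tt N5796 (iv F9540)) (tt N5799 (iv F9542)))
theorem Q4363 : ∀ i, i < 4363 → P i := stepQ 4362 Q4362 (allL N4362 (tt N5777 (iv F9512)) (tt N5802 D5802) (tt N3242 (iv D4362)) (tt N5803 D5803) (tt N3282 F7130) (tt N3243 F7131))
theorem Q4364 : ∀ i, i < 4364 → P i := stepQ 4363 Q4363 (allL N4363 (tt N5804 D5804) (tt N3243 (iv D4363)) (tt N3253 F7132) (tt N5805 D5805) (tt N3244 F7133) (tt N5802 (iv F9545)))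
theorem Q4365 : ∀ i, i < 4365 → P i := stepQ 4364 Q4364 (allL N4364 (tt N5779 (iv F9516)) (tt N5805 (iv F9549)) (tt N5806 D5806) (tt N3243 (iv D4364)) (tt N5807 D5807) (tt N5803 (iv F9546)))
theorem Q4366 : ∀ i, i < 4366 → P i := stepQ 4365 Q4365 (allL N4365 (tt N3244 (iv D4365)) (tt N5780 (iv F9518)) (tt N3254 F7134) (tt N5808 D5808) (tt N5804 (iv F9548)) (tt N3283 F7135))
theorem Q4367 : ∀ i, i < 4367 → P i := stepQ 4366 Q4366 (allL N4366 (tt N5808 (iv F9552)) (tt N3245 F7136) (tt N5809 D5809) (tt N3244 (iv D4366)) (tt N5810 D5810) (tt N3284 F7137))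
theorem Q4368 : ∀ i, i < 4368 → P i := stepQ 4367 Q4367 (allL N4367 (tt N3271 F7138) (tt N5810 (iv F9557)) (tt N3265 F7139) (tt N5807 (iv F9551)) (tt N3245 (iv D4367)) (tt N5811 D5811))
theorem Q4369 : ∀ i, i < 4369 → P i := stepQ 4368 Q4368 (allL N4368 (tt N3248 F7140) (tt N5812 D5812) (tt N3246 (iv D4368)) (tt N5813 D5813) (tt N5584 (iv F9211)) (tt N5814 D5814))
theorem Q4370 : ∀ i, i < 4370 → P i := stepQ 4369 Q4369 (allL N4369 (tt N3249 F7141) (tt N5601 (iv F9244)) (tt N5814 (iv F9563)) (tt N3247 F7142) (tt N5815 D5815) (tt N3246 (iv D4369)))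
theorem Q4371 : ∀ i, i < 4371 → P i := stepQ 4370 Q4370 (allL N4370 (tt N5816 D5816) (tt N3248 (iv D4370)) (tt N3250 F7143) (tt N5817 D5817) (tt N5590 (iv F9221)) (tt N4897 (iv F8004)))
theorem Q4372 : ∀ i, i < 4372 → P i := stepQ 4371 Q4371 (allL N4371 (tt N5813 (iv F9561)) (tt N5817 (iv F9566)) (tt N5818 D5818) (tt N3248 (iv D4371)) (tt N5819 D5819) (tt N5820 D5820))
theorem Q4373 : ∀ i, i < 4373 → P i := stepQ 4372 Q4372 (allL N4372 (tt N5814 (iv F9562)) (tt N4897 (iv F8003)) (tt N3249 F7144) (tt N5820 (iv F9567)) (tt N5821 D5821) (tt N3248 (iv D4372)))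
theorem Q4374 : ∀ i, i < 4374 → P i := stepQ 4373 Q4373 (allL N4373 (tt N5815 (iv F9564)) (tt N3251 F7145) (tt N5821 (iv F9568)) (tt N4870 (iv F7952)) (tt N3249 (iv D4373)) (tt N4883 (iv F7984)))
theorem Q4375 : ∀ i, i < 4375 → P i := stepQ 4374 Q4374 (allL N4374 (tt N3250 (iv D4374)) (tt N5628 (iv F9284)) (tt N5816 (iv F9565)) (tt N4896 (iv F8002)) (tt N5592 (iv F9225)) (tt N4895 F8000))
theorem Q4376 : ∀ i, i < 4376 → P i := stepQ 4375 Q4375 (allL N4375 (tt N5822 D5822) (tt N3252 (iv D4375)) (tt N5802 (iv F9543)) (tt N4848 (iv F7919)) (tt N3655 F7146) (tt N3253 F7147))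
theorem Q4377 : ∀ i, i < 4377 → P i := stepQ 4376 Q4376 (allL N4376 (tt N3253 (iv D4376)) (tt N3649 F7148) (tt N5804 (iv F9547)) (tt N4844 (iv F7914)) (tt N3254 F7149) (tt N5822 (iv F9571)))
theorem Q4378 : ∀ i, i < 4378 → P i := stepQ 4377 Q4377 (allL N4377 (tt N4819 (iv F7867)) (tt N5585 (iv F9212)) (tt N3256 F7150) (tt N5823 D5823) (tt N3255 (iv D4377)) (tt N5824 D5824))
theorem Q4379 : ∀ i, i < 4379 → P i := stepQ 4378 Q4378 (allL N4378 (tt N4829 (iv F7886)) (tt N3257 F7151) (tt N5824 (iv F9572)) (tt N5519 (iv F9090)) (tt N4900 (iv F8015)) (tt N3256 (iv D4378)))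
theorem Q4380 : ∀ i, i < 4380 → P i := stepQ 4379 Q4379 (allL N4379 (tt N3259 F7152) (tt N5581 (iv F9205)) (tt N4799 (iv F7822)) (tt N5825 D5825) (tt N3258 (iv D4379)) (tt N5826 D5826))
theorem Q4381 : ∀ i, i < 4381 → P i := stepQ 4380 Q4380 (allL N4380 (tt N5825 (iv F9573)) (tt N3260 F7153) (tt N5827 D5827) (tt N3259 (iv D4380)) (tt N5772 (iv F9503)) (tt N5828 D5828))
theorem Q4382 : ∀ i, i < 4382 → P i := stepQ 4381 Q4381 (allL N4381 (tt N5826 (iv F9574)) (tt N3261 F7154) (tt N4801 (iv F7827)) (tt N5828 (iv F9576)) (tt N4907 (iv F8027)) (tt N3259 (iv D4381)))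
theorem Q4383 : ∀ i, i < 4383 → P i := stepQ 4382 Q4382 (allL N4382 (tt N5796 (iv F9539)) (tt N5829 D5829) (tt N3260 (iv D4382)) (tt N5830 D5830) (tt N5776 (iv F9511)) (tt N5831 D5831))
theorem Q4384 : ∀ i, i < 4384 → P i := stepQ 4383 Q4383 (allL N4383 (tt N5795 (iv F9537)) (tt N5828 (iv F9575)) (tt N5831 (iv F9577)) (tt N3261 F7155) (tt N5832 D5832) (tt N3260 (iv D4383)))
theorem Q4385 : ∀ i, i < 4385 → P i := stepQ 4384 Q4384 (allL N4384 (tt N4036 F7156) (tt N3692 F7157) (tt N3658 F7158) (tt N3262 (iv D4384)) (tt N5833 D5833) (tt N3690 F7159))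
theorem Q4386 : ∀ i, i < 4386 → P i := stepQ 4385 Q4385 (allL N4385 (tt N4037 F7160) (tt N5534 (iv F9118)) (tt N3263 F7161) (tt N5834 D5834) (tt N3262 (iv D4385)) (tt N5835 D5835))
theorem Q4387 : ∀ i, i < 4387 → P i := stepQ 4386 Q4386 (allL N4386 (tt N4045 F7162) (tt N3265 F7163) (tt N5836 D5836) (tt N3263 (iv D4386)) (tt N3264 F7164) (tt N5837 D5837))
theorem Q4388 : ∀ i, i < 4388 → P i := stepQ 4387 Q4387 (allL N4387 (tt N4046 F7165) (tt N3266 F7166) (tt N5835 (iv F9583)) (tt N5837 (iv F9589)) (tt N4118 F7167) (tt N3263 (iv D4387)))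
theorem Q4389 : ∀ i, i < 4389 → P i := stepQ 4388 Q4388 (allL N4388 (tt N4123 F7168) (tt N5809 (iv F9555)) (tt N3264 (iv D4388)) (tt N5838 D5838) (tt N5836 (iv F9586)) (tt N5230 (iv F8575)))
theorem Q4390 : ∀ i, i < 4390 → P i := stepQ 4389 Q4389 (allL N4389 (tt N3272 F7169) (tt N5837 (iv F9588)) (tt N5811 (iv F9559)) (tt N3266 F7170) (tt N5231 (iv F8579)) (tt N3265 (iv D4389)))
theorem Q4391 : ∀ i, i < 4391 → P i := stepQ 4390 Q4390 (allL N4390 (tt N3268 F7171) (tt N5531 (iv F9111)) (tt N3997 F7172) (tt N5839 D5839) (tt N3267 (iv D4390)) (tt N5840 D5840))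
theorem Q4392 : ∀ i, i < 4392 → P i := stepQ 4391 Q4391 (allL N4391 (tt N5839 (iv F9592)) (tt N3269 F7173) (tt N5841 D5841) (tt N3268 (iv D4391)) (tt N5685 (iv F9355)) (tt N5842 D5842))
theorem Q4393 : ∀ i, i < 4393 → P i := stepQ 4392 Q4392 (allL N4392 (tt N5840 (iv F9593)) (tt N3270 F7174) (tt N3999 F7175) (tt N5842 (iv F9597)) (tt N4126 F7176) (tt N3268 (iv D4392)))
theorem Q4394 : ∀ i, i < 4394 → P i := stepQ 4393 Q4393 (allL N4393 (tt N5689 (iv F9362)) (tt N5843 D5843) (tt N3269 (iv D4393)) (tt N5844 D5844) (tt N5687 (iv F9359)) (tt N5845 D5845))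
theorem Q4395 : ∀ i, i < 4395 → P i := stepQ 4394 Q4394 (allL N4394 (tt N5690 (iv F9364)) (tt N5842 (iv F9596)) (tt N5845 (iv F9598)) (tt N3270 F7177) (tt N5846 D5846) (tt N3269 (iv D4394)))
theorem Q4396 : ∀ i, i < 4396 → P i := stepQ 4395 Q4395 (allL N4395 (tt N5847 D5847) (tt N3271 (iv D4395)) (tt N4138 F7178) (tt N5848 D5848) (tt N3273 F7179) (tt N5849 D5849))
theorem Q4397 : ∀ i, i < 4397 → P i := stepQ 4396 Q4396 (allL N4396 (tt N5807 (iv F9550)) (tt N5848 (iv F9602)) (tt N5850 D5850) (tt N3271 (iv D4396)) (tt N5779 (iv F9517)) (tt N5851 D5851))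
theorem Q4398 : ∀ i, i < 4398 → P i := stepQ 4397 Q4397 (allL N4397 (tt N5811 (iv F9558)) (tt N5849 (iv F9603)) (tt N3272 F7180) (tt N5851 (iv F9605)) (tt N5239 (iv F8594)) (tt N3271 (iv D4397)))
theorem Q4399 : ∀ i, i < 4399 → P i := stepQ 4398 Q4398 (allL N4398 (tt N3273 (iv D4398)) (tt N5808 (iv F9553)) (tt N4140 F7181) (tt N5780 (iv F9520)) (tt N5847 (iv F9601)) (tt N5240 (iv F8598)))
theorem Q4400 : ∀ i, i < 4400 → P i := stepQ 4399 Q4399 (allL N4399 (tt N5852 D5852) (tt N3274 (iv D4399)) (tt N3277 F7182) (tt N5853 D5853) (tt N4995 (iv F8147)) (tt N5757 (iv F9477)))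
theorem Q4401 : ∀ i, i < 4401 → P i := stepQ 4400 Q4400 (allL N4400 (tt N3569 F7183) (tt N5853 (iv F9611)) (tt N3978 F7184) (tt N3274 (iv D4400)) (tt N5854 D5854) (tt N3984 F7185))
theorem Q4402 : ∀ i, i < 4402 → P i := stepQ 4401 Q4401 (allL N4401 (tt N5855 D5855) (tt N3275 (iv D4401)) (tt N4995 (iv F8146)) (tt N5856 D5856) (tt N3277 F7186) (tt N5857 D5857))
theorem Q4403 : ∀ i, i < 4403 → P i := stepQ 4402 Q4402 (allL N4402 (tt N3281 F7187) (tt N5856 (iv F9618)) (tt N5858 D5858) (tt N3275 (iv D4402)) (tt N5238 (iv F8591)) (tt N5859 D5859))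
theorem Q4404 : ∀ i, i < 4404 → P i := stepQ 4403 Q4403 (allL N4403 (tt N3282 F7188) (tt N5857 (iv F9619)) (tt N3276 F7189) (tt N5859 (iv F9625)) (tt N5777 (iv F9513)) (tt N3275 (iv D4403)))
theorem Q4405 : ∀ i, i < 4405 → P i := stepQ 4404 Q4404 (allL N4404 (tt N3277 (iv D4404)) (tt N3283 F7190) (tt N5852 (iv F9607)) (tt N5240 (iv F8597)) (tt N5855 (iv F9617)) (tt N5780 (iv F9521)))
theorem Q4406 : ∀ i, i < 4406 → P i := stepQ 4405 Q4405 (allL N4405 (tt N5860 D5860) (tt N3278 (iv D4405)) (tt N4924 (iv F8059)) (tt N5861 D5861) (tt N5477 (iv F9041)) (tt N5862 D5862))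
theorem Q4407 : ∀ i, i < 4407 → P i := stepQ 4406 Q4406 (allL N4406 (tt N5480 (iv F9047)) (tt N5861 (iv F9626)) (tt N5859 (iv F9624)) (tt N3278 (iv D4406)) (tt N5863 D5863) (tt N5858 F9622))
theorem Q4408 : ∀ i, i < 4408 → P i := stepQ 4407 Q4407 (allL N4407 (tt N5481 (iv F9050)) (tt N5862 (iv F9627)) (tt N3279 F7191) (tt N5858 (iv F9621)) (tt N5864 D5864) (tt N3278 (iv D4407)))
theorem Q4409 : ∀ i, i < 4409 → P i := stepQ 4408 Q4408 (allL N4408 (tt N5482 (iv F9053)) (tt N4927 (iv F8061)) (tt N5864 (iv F9628)) (tt N3734 F7192) (tt N3279 (iv D4408)) (tt N5478 (iv F9044)))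
theorem Q4410 : ∀ i, i < 4410 → P i := stepQ 4409 Q4409 (allL N4409 (tt N3280 (iv D4409)) (tt N5855 (iv F9616)) (tt N3653 F7193) (tt N5865 D5865) (tt N3283 F7194) (tt N5866 D5866))
theorem Q4411 : ∀ i, i < 4411 → P i := stepQ 4410 Q4410 (allL N4410 (tt N5865 (iv F9629)) (tt N3281 F7195) (tt N5867 D5867) (tt N3280 (iv D4410)) (tt N5868 D5868) (tt N5869 D5869))
theorem Q4412 : ∀ i, i < 4412 → P i := stepQ 4411 Q4411 (allL N4411 (tt N5866 (iv F9630)) (tt N3282 F7196) (tt N3655 F7197) (tt N5869 (iv F9635)) (tt N5802 (iv F9544)) (tt N3280 (iv D4411)))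
theorem Q4413 : ∀ i, i < 4413 → P i := stepQ 4412 Q4412 (allL N4412 (tt N5858 (iv F9620)) (tt N5870 D5870) (tt N3281 (iv D4412)) (tt N5481 (iv F9052)) (tt N5871 D5871) (tt N5480 F9049))
theorem Q4414 : ∀ i, i < 4414 → P i := stepQ 4413 Q4413 (allL N4413 (tt N5238 (iv F8590)) (tt N5868 (iv F9632)) (tt N5871 (iv F9636)) (tt N3285 F7198) (tt N3281 (iv D4413)) (tt N5872 D5872))
theorem Q4415 : ∀ i, i < 4415 → P i := stepQ 4414 Q4414 (allL N4414 (tt N5859 (iv F9623)) (tt N5869 (iv F9634)) (tt N5480 (iv F9048)) (tt N3282 F7199) (tt N5873 D5873) (tt N3281 (iv D4414)))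
theorem Q4416 : ∀ i, i < 4416 → P i := stepQ 4415 Q4415 (allL N4415 (tt N3284 F7200) (tt N5240 (iv F8595)) (tt N5874 D5874) (tt N3283 (iv D4415)) (tt N5875 D5875) (tt N5808 (iv F9554)))
theorem Q4417 : ∀ i, i < 4417 → P i := stepQ 4416 Q4416 (allL N4416 (tt N5874 (iv F9638)) (tt N5230 (iv F8574)) (tt N3284 (iv D4416)) (tt N5876 D5876) (tt N5877 D5877) (tt N5809 (iv F9556)))
theorem Q4418 : ∀ i, i < 4418 → P i := stepQ 4417 Q4417 (allL N4417 (tt N5875 (iv F9640)) (tt N3285 F7201) (tt N5877 (iv F9643)) (tt N5868 (iv F9633)) (tt N3284 (iv D4417)) (tt N5878 D5878))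
theorem Q4419 : ∀ i, i < 4419 → P i := stepQ 4418 Q4418 (allL N4418 (tt N5239 (iv F8592)) (tt N5878 (iv F9644)) (tt N5231 (iv F8577)) (tt N5872 (iv F9637)) (tt N5811 (iv F9560)) (tt N3285 (iv D4418)))
theorem Q4420 : ∀ i, i < 4420 → P i := stepQ 4419 Q4419 (allL N4419 (tt N3287 (iv D4419)) (tt N4548 (iv F7396)) (tt N4554 (iv F7412)) (tt N5879 D5879) (tt N3291 F7202) (tt N5880 D5880))
theorem Q4421 : ∀ i, i < 4421 → P i := stepQ 4420 Q4420 (allL N4420 (tt N5879 (iv F9645)) (tt N3288 F7203) (tt N5881 D5881) (tt N3287 (iv D4420)) (tt N5882 D5882) (tt N5883 D5883))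
theorem Q4422 : ∀ i, i < 4422 → P i := stepQ 4421 Q4421 (allL N4421 (tt N5880 (iv F9646)) (tt N3289 F7204) (tt N4553 (iv F7408)) (tt N5883 (iv F9650)) (tt N5884 D5884) (tt N3287 (iv D4421)))
theorem Q4423 : ∀ i, i < 4423 → P i := stepQ 4422 Q4422 (allL N4422 (tt N4424 (iv F7208)) (tt N5885 D5885) (tt N3288 (iv D4422)) (tt N3381 F7205) (tt N5886 D5886) (tt N3380 (iv F7206)))
theorem Q4424 : ∀ i, i < 4424 → P i := stepQ 4423 Q4423 (allL N4423 (tt N4550 (iv F7400)) (tt N5882 (iv F9647)) (tt N5886 (iv F9655)) (tt N3294 F7207) (tt N3288 (iv D4423)) (tt N5887 D5887))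
theorem Q4425 : ∀ i, i < 4425 → P i := stepQ 4424 Q4424 (allL N4424 (tt N4422 F7208) (tt N5883 (iv F9649)) (tt N3380 F7209) (tt N3289 F7210) (tt N5888 D5888) (tt N3288 (iv D4424)))
theorem Q4426 : ∀ i, i < 4426 → P i := stepQ 4425 Q4425 (allL N4425 (tt N4551 (iv F7402)) (tt N5884 (iv F9651)) (tt N3290 F7211) (tt N5889 D5889) (tt N3289 (iv D4425)) (tt N3295 F7212))
theorem Q4427 : ∀ i, i < 4427 → P i := stepQ 4426 Q4426 (allL N4426 (tt N3292 F7213) (tt N5334 (iv F8789)) (tt N5890 D5890) (tt N3291 (iv D4426)) (tt N5891 D5891) (tt N5405 (iv F8905)))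
theorem Q4428 : ∀ i, i < 4428 → P i := stepQ 4427 Q4427 (allL N4427 (tt N3293 F7214) (tt N5335 (iv F8792)) (tt N4711 (iv F7681)) (tt N5405 (iv F8904)) (tt N5892 D5892) (tt N3291 (iv D4427)))
theorem Q4429 : ∀ i, i < 4429 → P i := stepQ 4428 Q4428 (allL N4428 (tt N5890 (iv F9660)) (tt N5402 (iv F8897)) (tt N3292 (iv D4428)) (tt N5893 D5893) (tt N5894 D5894) (tt N5400 F8896))
theorem Q4430 : ∀ i, i < 4430 → P i := stepQ 4429 Q4429 (allL N4429 (tt N5891 (iv F9661)) (tt N3294 F7215) (tt N5894 (iv F9663)) (tt N5882 (iv F9648)) (tt N3292 (iv D4429)) (tt N5895 D5895))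
theorem Q4431 : ∀ i, i < 4431 → P i := stepQ 4430 Q4430 (allL N4430 (tt N5892 (iv F9662)) (tt N3295 F7216) (tt N4714 (iv F7684)) (tt N5896 D5896) (tt N3293 (iv D4430)) (tt N5884 (iv F9652)))
theorem Q4432 : ∀ i, i < 4432 → P i := stepQ 4431 Q4431 (allL N4431 (tt N5339 (iv F8800)) (tt N5895 (iv F9664)) (tt N5409 (iv F8913)) (tt N5887 (iv F9656)) (tt N5408 (iv F8911)) (tt N3294 (iv D4431)))
theorem Q4433 : ∀ i, i < 4433 → P i := stepQ 4432 Q4432 (allL N4432 (tt N5340 (iv F8803)) (tt N5896 (iv F9665)) (tt N5897 D5897) (tt N3295 (iv D4432)) (tt N5407 (iv F8908)) (tt N5889 (iv F9659)))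
theorem Q4434 : ∀ i, i < 4434 → P i := stepQ 4433 Q4433 (allL N4433 (tt N3296 (iv D4433)) (tt N5405 (iv F8903)) (tt N5483 (iv F9057)) (tt N5335 (iv F8794)) (tt N5898 D5898) (tt N5334 F8790))
theorem Q4435 : ∀ i, i < 4435 → P i := stepQ 4434 Q4434 (allL N4434 (tt N5898 (iv F9666)) (tt N3297 F7217) (tt N5479 (iv F9045)) (tt N5899 D5899) (tt N3296 (iv D4434)) (tt N5900 D5900))
theorem Q4436 : ∀ i, i < 4436 → P i := stepQ 4435 Q4435 (allL N4435 (tt N5407 (iv F8907)) (tt N5899 (iv F9667)) (tt N5901 D5901) (tt N3297 (iv D4435)) (tt N5340 (iv F8804)) (tt N5902 D5902))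
theorem Q4437 : ∀ i, i < 4437 → P i := stepQ 4436 Q4436 (allL N4436 (tt N5408 (iv F8909)) (tt N5900 (iv F9668)) (tt N3298 F7218) (tt N5902 (iv F9672)) (tt N5339 (iv F8802)) (tt N3297 (iv D4436)))
theorem Q4438 : ∀ i, i < 4438 → P i := stepQ 4437 Q4437 (allL N4437 (tt N5409 (iv F8912)) (tt N5482 (iv F9054)) (tt N5339 (iv F8801)) (tt N5735 (iv F9434)) (tt N3298 (iv D4437)) (tt N3299 F7219))
theorem Q4439 : ∀ i, i < 4439 → P i := stepQ 4438 Q4438 (allL N4438 (tt N4310 F7220) (tt N5903 D5903) (tt N3300 (iv D4438)) (tt N5904 D5904) (tt N4309 F7221) (tt N5905 D5905))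
theorem Q4440 : ∀ i, i < 4440 → P i := stepQ 4439 Q4439 (allL N4439 (tt N4311 F7222) (tt N4985 (iv F8137)) (tt N5905 (iv F9676)) (tt N3301 F7223) (tt N5906 D5906) (tt N3300 (iv D4439)))
theorem Q4441 : ∀ i, i < 4441 → P i := stepQ 4440 Q4440 (allL N4440 (tt N5421 (iv F8939)) (tt N3302 (iv D4440)) (tt N5412 (iv F8920)) (tt N5907 D5907) (tt N5412 (iv F8921)) (tt N5418 F8933))
theorem Q4442 : ∀ i, i < 4442 → P i := stepQ 4441 Q4441 (allL N4441 (tt N3303 F7224) (tt N5907 (iv F9680)) (tt N3333 F7225) (tt N3302 (iv D4441)) (tt N5908 D5908) (tt N3331 F7226))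
theorem Q4443 : ∀ i, i < 4443 → P i := stepQ 4442 Q4442 (allL N4442 (tt N3333 F7227) (tt N5909 D5909) (tt N3303 (iv D4442)) (tt N3327 F7228) (tt N5910 D5910) (tt N3326 F7229))
theorem Q4444 : ∀ i, i < 4444 → P i := stepQ 4443 Q4443 (allL N4443 (tt N5908 (iv F9682)) (tt N5431 (iv F8956)) (tt N5910 (iv F9687)) (tt N5416 (iv F8927)) (tt N3303 (iv D4443)) (tt N5911 D5911))
theorem Q4445 : ∀ i, i < 4445 → P i := stepQ 4444 Q4444 (allL N4444 (tt N3305 F7230) (tt N3309 F7231) (tt N5912 D5912) (tt N3304 (iv D4444)) (tt N5913 D5913) (tt N5261 (iv F8646)))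
theorem Q4446 : ∀ i, i < 4446 → P i := stepQ 4445 Q4445 (allL N4445 (tt N3306 F7232) (tt N3310 F7233) (tt N4700 (iv F7666)) (tt N5261 (iv F8645)) (tt N5914 D5914) (tt N3304 (iv D4445)))
theorem Q4447 : ∀ i, i < 4447 → P i := stepQ 4446 Q4446 (allL N4446 (tt N5912 (iv F9688)) (tt N5258 (iv F8638)) (tt N3305 (iv D4446)) (tt N5915 D5915) (tt N5916 D5916) (tt N5255 F8636))
theorem Q4448 : ∀ i, i < 4448 → P i := stepQ 4447 Q4447 (allL N4447 (tt N5913 (iv F9689)) (tt N3307 F7234) (tt N5916 (iv F9693)) (tt N4693 (iv F7651)) (tt N3305 (iv D4447)) (tt N5917 D5917))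
theorem Q4449 : ∀ i, i < 4449 → P i := stepQ 4448 Q4448 (allL N4448 (tt N5914 (iv F9691)) (tt N3308 F7235) (tt N4684 (iv F7638)) (tt N5918 D5918) (tt N3306 (iv D4448)) (tt N4683 (iv F7636)))
theorem Q4450 : ∀ i, i < 4450 → P i := stepQ 4449 Q4449 (allL N4449 (tt N3317 F7236) (tt N5917 (iv F9694)) (tt N5265 (iv F8654)) (tt N4696 (iv F7657)) (tt N5264 (iv F8652)) (tt N3307 (iv D4449)))
theorem Q4451 : ∀ i, i < 4451 → P i := stepQ 4450 Q4450 (allL N4450 (tt N3319 F7237) (tt N5918 (iv F9695)) (tt N5279 (iv F8678)) (tt N3308 (iv D4450)) (tt N5263 (iv F8649)) (tt N4698 (iv F7661)))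
theorem Q4452 : ∀ i, i < 4452 → P i := stepQ 4451 Q4451 (allL N4451 (tt N3311 F7238) (tt N5919 D5919) (tt N3309 (iv D4451)) (tt N5470 (iv F9031)) (tt N5920 D5920) (tt N5921 D5921))
theorem Q4453 : ∀ i, i < 4453 → P i := stepQ 4452 Q4452 (allL N4452 (tt N3312 F7239) (tt N5913 (iv F9690)) (tt N5920 (iv F9697)) (tt N5284 (iv F8688)) (tt N3309 (iv D4452)) (tt N5922 D5922))
theorem Q4454 : ∀ i, i < 4454 → P i := stepQ 4453 Q4453 (allL N4453 (tt N3313 F7240) (tt N5261 (iv F8644)) (tt N5921 (iv F9699)) (tt N3310 F7241) (tt N5923 D5923) (tt N3309 (iv D4453)))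
theorem Q4455 : ∀ i, i < 4455 → P i := stepQ 4454 Q4454 (allL N4454 (tt N3314 F7242) (tt N5914 (iv F9692)) (tt N3322 F7243) (tt N5924 D5924) (tt N3310 (iv D4454)) (tt N5280 (iv F8681)))
theorem Q4456 : ∀ i, i < 4456 → P i := stepQ 4455 Q4455 (allL N4455 (tt N5925 D5925) (tt N3311 (iv D4455)) (tt N3315 F7244) (tt N5926 D5926) (tt N5927 D5927) (tt N5243 (iv F8608)))
theorem Q4457 : ∀ i, i < 4457 → P i := stepQ 4456 Q4456 (allL N4456 (tt N5470 (iv F9029)) (tt N5926 (iv F9705)) (tt N5466 (iv F9023)) (tt N3311 (iv D4456)) (tt N5928 D5928) (tt N5929 D5929))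
theorem Q4458 : ∀ i, i < 4458 → P i := stepQ 4457 Q4457 (allL N4457 (tt N5920 (iv F9696)) (tt N5927 (iv F9706)) (tt N3312 F7245) (tt N5930 D5930) (tt N3311 (iv D4457)) (tt N5931 D5931))
theorem Q4459 : ∀ i, i < 4459 → P i := stepQ 4458 Q4458 (allL N4458 (tt N5921 (iv F9698)) (tt N5243 (iv F8607)) (tt N3313 F7246) (tt N5929 (iv F9710)) (tt N5932 D5932) (tt N3311 (iv D4458)))
theorem Q4460 : ∀ i, i < 4460 → P i := stepQ 4459 Q4459 (allL N4459 (tt N5922 (iv F9701)) (tt N3317 F7247) (tt N5931 (iv F9711)) (tt N5287 (iv F8693)) (tt N5933 D5933) (tt N3312 (iv D4459)))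
theorem Q4461 : ∀ i, i < 4461 → P i := stepQ 4460 Q4460 (allL N4460 (tt N5923 (iv F9702)) (tt N3318 F7248) (tt N5932 (iv F9712)) (tt N5934 D5934) (tt N3313 (iv D4460)) (tt N5933 (iv F9714)))
theorem Q4462 : ∀ i, i < 4462 → P i := stepQ 4461 Q4461 (allL N4461 (tt N5924 (iv F9703)) (tt N3319 F7249) (tt N5935 D5935) (tt N3314 (iv D4461)) (tt N5934 (iv F9716)) (tt N5281 (iv F8683)))
theorem Q4463 : ∀ i, i < 4463 → P i := stepQ 4462 Q4462 (allL N4462 (tt N3315 (iv D4462)) (tt N5254 (iv F8633)) (tt N5925 (iv F9704)) (tt N5242 (iv F8605)) (tt N5936 D5936) (tt N5241 F8601))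
theorem Q4464 : ∀ i, i < 4464 → P i := stepQ 4463 Q4463 (allL N4463 (tt N5936 (iv F9717)) (tt N3316 F7250) (tt N5927 (iv F9707)) (tt N5937 D5937) (tt N3315 (iv D4463)) (tt N5938 D5938))
theorem Q4465 : ∀ i, i < 4465 → P i := stepQ 4464 Q4464 (allL N4464 (tt N5266 (iv F8656)) (tt N5937 (iv F9718)) (tt N5939 D5939) (tt N3316 (iv D4464)) (tt N5247 (iv F8620)) (tt N5940 D5940))
theorem Q4466 : ∀ i, i < 4466 → P i := stepQ 4465 Q4465 (allL N4465 (tt N5265 (iv F8653)) (tt N5938 (iv F9719)) (tt N3317 F7251) (tt N5940 (iv F9720)) (tt N5246 (iv F8618)) (tt N3316 (iv D4465)))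
theorem Q4467 : ∀ i, i < 4467 → P i := stepQ 4466 Q4466 (allL N4466 (tt N5264 (iv F8650)) (tt N5933 (iv F9713)) (tt N5246 (iv F8616)) (tt N5941 D5941) (tt N3317 (iv D4466)) (tt N3318 F7252))
theorem Q4468 : ∀ i, i < 4468 → P i := stepQ 4467 Q4467 (allL N4467 (tt N5263 (iv F8648)) (tt N5934 (iv F9715)) (tt N5942 D5942) (tt N3318 (iv D4467)) (tt N3319 F7253) (tt N5941 (iv F9721)))
theorem Q4469 : ∀ i, i < 4469 → P i := stepQ 4468 Q4468 (allL N4468 (tt N5279 (iv F8677)) (tt N5943 D5943) (tt N3319 (iv D4468)) (tt N5251 (iv F8628)) (tt N5942 (iv F9722)) (tt N5282 (iv F8684)))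
theorem Q4470 : ∀ i, i < 4470 → P i := stepQ 4469 Q4469 (allL N4469 (tt N5462 (iv F9011)) (tt N3320 (iv D4469)) (tt N5435 (iv F8968)) (tt N5944 D5944) (tt N5945 D5945) (tt N5460 F9009))
theorem Q4471 : ∀ i, i < 4471 → P i := stepQ 4470 Q4470 (allL N4470 (tt N3323 F7254) (tt N5944 (iv F9723)) (tt N5929 (iv F9709)) (tt N3320 (iv D4470)) (tt N5946 D5946) (tt N5466 (iv F9022)))
theorem Q4472 : ∀ i, i < 4472 → P i := stepQ 4471 Q4471 (allL N4471 (tt N3324 F7255) (tt N5945 (iv F9724)) (tt N3321 F7256) (tt N5947 D5947) (tt N3320 (iv D4471)) (tt N5298 (iv F8717)))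
theorem Q4473 : ∀ i, i < 4473 → P i := stepQ 4472 Q4472 (allL N4472 (tt N5929 (iv F9708)) (tt N5948 D5948) (tt N3323 (iv D4472)) (tt N5921 (iv F9700)) (tt N5949 D5949) (tt N5470 (iv F9030)))
theorem Q4474 : ∀ i, i < 4474 → P i := stepQ 4473 Q4473 (allL N4473 (tt N5946 (iv F9725)) (tt N5476 (iv F9040)) (tt N5949 (iv F9727)) (tt N5950 D5950) (tt N3323 (iv D4473)) (tt N5951 D5951))
theorem Q4475 : ∀ i, i < 4475 → P i := stepQ 4474 Q4474 (allL N4474 (tt N5947 (iv F9726)) (tt N5459 (iv F9004)) (tt N5952 D5952) (tt N3324 (iv D4474)) (tt N5950 (iv F9728)) (tt N5301 (iv F8722)))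
theorem Q4476 : ∀ i, i < 4476 → P i := stepQ 4475 Q4475 (allL N4475 (tt N3325 (iv D4475)) (tt N3329 F7257) (tt N5460 (iv F9008)) (tt N5953 D5953) (tt N5306 (iv F8734)) (tt N5435 (iv F8969)))
theorem Q4477 : ∀ i, i < 4477 → P i := stepQ 4476 Q4476 (allL N4476 (tt N5953 (iv F9729)) (tt N3326 F7258) (tt N5427 (iv F8953)) (tt N3325 (iv D4476)) (tt N5954 D5954) (tt N5909 (iv F9685)))
theorem Q4478 : ∀ i, i < 4478 → P i := stepQ 4477 Q4477 (allL N4477 (tt N5435 (iv F8967)) (tt N3327 F7259) (tt N5462 (iv F9013)) (tt N5909 (iv F9684)) (tt N5955 D5955) (tt N3325 (iv D4477)))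
theorem Q4479 : ∀ i, i < 4479 → P i := stepQ 4478 Q4478 (allL N4478 (tt N3332 F7260) (tt N5954 (iv F9731)) (tt N5425 (iv F8950)) (tt N5308 (iv F8738)) (tt N3326 (iv D4478)) (tt N5956 D5956))
theorem Q4480 : ∀ i, i < 4480 → P i := stepQ 4479 Q4479 (allL N4479 (tt N3334 F7261) (tt N5955 (iv F9732)) (tt N3328 F7262) (tt N5957 D5957) (tt N3327 (iv D4479)) (tt N5303 (iv F8728)))
theorem Q4481 : ∀ i, i < 4481 → P i := stepQ 4480 Q4480 (allL N4480 (tt N3330 F7263) (tt N5953 (iv F9730)) (tt N4722 (iv F7696)) (tt N3329 (iv D4480)) (tt N5958 D5958) (tt N5436 (iv F8971)))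
theorem Q4482 : ∀ i, i < 4482 → P i := stepQ 4481 Q4481 (allL N4481 (tt N4722 (iv F7695)) (tt N5959 D5959) (tt N3330 (iv D4481)) (tt N4717 (iv F7686)) (tt N5960 D5960) (tt N5438 (iv F8975)))
theorem Q4483 : ∀ i, i < 4483 → P i := stepQ 4482 Q4482 (allL N4482 (tt N5958 (iv F9735)) (tt N3332 F7264) (tt N5960 (iv F9737)) (tt N5309 (iv F8740)) (tt N3330 (iv D4482)) (tt N5961 D5961))
theorem Q4484 : ∀ i, i < 4484 → P i := stepQ 4483 Q4483 (allL N4483 (tt N5419 (iv F8934)) (tt N3331 (iv D4483)) (tt N5959 (iv F9736)) (tt N5418 F8932) (tt N5962 D5962) (tt N5907 (iv F9681)))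
theorem Q4485 : ∀ i, i < 4485 → P i := stepQ 4484 Q4484 (allL N4484 (tt N5425 (iv F8948)) (tt N5962 (iv F9739)) (tt N3332 F7265) (tt N5963 D5963) (tt N3331 (iv D4484)) (tt N5964 D5964))
theorem Q4486 : ∀ i, i < 4486 → P i := stepQ 4485 Q4485 (allL N4485 (tt N5956 (iv F9733)) (tt N5961 (iv F9738)) (tt N5964 (iv F9740)) (tt N5312 (iv F8742)) (tt N5965 D5965) (tt N3332 (iv D4485)))
theorem Q4487 : ∀ i, i < 4487 → P i := stepQ 4486 Q4486 (allL N4486 (tt N5910 (iv F9686)) (tt N5439 (iv F8976)) (tt N5908 (iv F9683)) (tt N5966 D5966) (tt N3333 (iv D4486)) (tt N5965 (iv F9741)))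
theorem Q4488 : ∀ i, i < 4488 → P i := stepQ 4487 Q4487 (allL N4487 (tt N5957 (iv F9734)) (tt N5440 (iv F8977)) (tt N5967 D5967) (tt N3334 (iv D4487)) (tt N5966 (iv F9742)) (tt N5305 (iv F8731)))
theorem Q4489 : ∀ i, i < 4489 → P i := stepQ 4488 Q4488 (allL N4488 (tt N3339 F7266) (tt N5968 D5968) (tt N3335 (iv D4488)) (tt N5969 D5969) (tt N3464 F7267) (tt N5970 D5970))
theorem Q4490 : ∀ i, i < 4490 → P i := stepQ 4489 Q4489 (allL N4489 (tt N3340 F7268) (tt N3345 F7269) (tt N5970 (iv F9747)) (tt N3336 F7270) (tt N5971 D5971) (tt N3335 (iv D4489)))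
theorem Q4491 : ∀ i, i < 4491 → P i := stepQ 4490 Q4490 (allL N4490 (tt N3464 F7271) (tt N5972 D5972) (tt N3337 (iv D4490)) (tt N5973 D5973) (tt N3339 F7272) (tt N5974 D5974))
theorem Q4492 : ∀ i, i < 4492 → P i := stepQ 4491 Q4491 (allL N4491 (tt N3465 F7273) (tt N3342 F7274) (tt N5974 (iv F9756)) (tt N3338 F7275) (tt N5975 D5975) (tt N3337 (iv D4491)))
theorem Q4493 : ∀ i, i < 4493 → P i := stepQ 4492 Q4492 (allL N4492 (tt N5976 D5976) (tt N3339 (iv D4492)) (tt N3343 F7276) (tt N5977 D5977) (tt N5972 (iv F9753)) (tt N3413 (iv F7277)))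
theorem Q4494 : ∀ i, i < 4494 → P i := stepQ 4493 Q4493 (allL N4493 (tt N5969 (iv F9745)) (tt N5977 (iv F9763)) (tt N5978 D5978) (tt N3339 (iv D4493)) (tt N5979 D5979) (tt N5980 D5980))
theorem Q4495 : ∀ i, i < 4495 → P i := stepQ 4494 Q4494 (allL N4494 (tt N5970 (iv F9746)) (tt N3413 F7278) (tt N3340 F7279) (tt N5980 (iv F9770)) (tt N5981 D5981) (tt N3339 (iv D4494)))
theorem Q4496 : ∀ i, i < 4496 → P i := stepQ 4495 Q4495 (allL N4495 (tt N5971 (iv F9748)) (tt N3344 F7280) (tt N5981 (iv F9772)) (tt N5971 (iv F9750)) (tt N3340 (iv D4495)) (tt N5975 (iv F9760)))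
theorem Q4497 : ∀ i, i < 4497 → P i := stepQ 4496 Q4496 (allL N4496 (tt N5982 D5982) (tt N3341 (iv D4496)) (tt N5972 (iv F9752)) (tt N5983 D5983) (tt N3343 F7281) (tt N5984 D5984))
theorem Q4498 : ∀ i, i < 4498 → P i := stepQ 4497 Q4497 (allL N4497 (tt N3362 F7282) (tt N5983 (iv F9775)) (tt N5985 D5985) (tt N3341 (iv D4497)) (tt N3417 F7283) (tt N5986 D5986))
theorem Q4499 : ∀ i, i < 4499 → P i := stepQ 4498 Q4498 (allL N4498 (tt N3363 F7284) (tt N5984 (iv F9777)) (tt N3342 F7285) (tt N5986 (iv F9785)) (tt N3416 F7286) (tt N3341 (iv D4498)))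
theorem Q4500 : ∀ i, i < 4500 → P i := stepQ 4499 Q4499 (allL N4499 (tt N3364 F7287) (tt N5975 (iv F9758)) (tt N3416 F7288) (tt N3469 F7289) (tt N3342 (iv D4499)) (tt N3344 F7290))
theorem Q4501 : ∀ i, i < 4501 → P i := stepQ 4500 Q4500 (allL N4500 (tt N3343 (iv D4500)) (tt N3365 F7291) (tt N5976 (iv F9761)) (tt N3412 F7292) (tt N5982 (iv F9774)) (tt N3411 F7293))
theorem Q4502 : ∀ i, i < 4502 → P i := stepQ 4501 Q4501 (allL N4501 (tt N3356 F7294) (tt N5971 (iv F9749)) (tt N5987 D5987) (tt N3344 (iv D4501)) (tt N3345 F7295) (tt N3469 F7296))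
theorem Q4503 : ∀ i, i < 4503 → P i := stepQ 4502 Q4502 (allL N4502 (tt N3355 F7297) (tt N5988 D5988) (tt N3345 (iv D4502)) (tt N3373 F7299) (tt N5987 (iv F9788)) (tt N3346 F7298))
theorem Q4504 : ∀ i, i < 4504 → P i := stepQ 4503 Q4503 (allL N4503 (tt N5989 D5989) (tt N3346 (iv D4503)) (tt N5968 (iv F9743)) (tt N5990 D5990) (tt N3466 F7300) (tt N5988 (iv F9792)))
theorem Q4505 : ∀ i, i < 4505 → P i := stepQ 4504 Q4504 (allL N4504 (tt N3354 F7301) (tt N5990 (iv F9795)) (tt N3370 F7303) (tt N3346 (iv D4504)) (tt N5991 D5991) (tt N3373 F7302))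
theorem Q4506 : ∀ i, i < 4506 → P i := stepQ 4505 Q4505 (allL N4505 (tt N4619 (iv F7521)) (tt N3347 (iv D4505)) (tt N4505 F7304) (tt N5992 D5992) (tt N3388 F7305) (tt N3348 F7306))
theorem Q4507 : ∀ i, i < 4507 → P i := stepQ 4506 Q4506 (allL N4506 (tt N3370 F7307) (tt N5992 (iv F9801)) (tt N3354 F7308) (tt N3347 (iv D4506)) (tt N5993 D5993) (tt N3349 F7309))
theorem Q4508 : ∀ i, i < 4508 → P i := stepQ 4507 Q4507 (allL N4507 (tt N3348 (iv D4507)) (tt N3371 F7310) (tt N4507 F7311) (tt N5994 D5994) (tt N3350 F7312) (tt N4619 (iv F7524)))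
theorem Q4509 : ∀ i, i < 4509 → P i := stepQ 4508 Q4508 (allL N4508 (tt N5994 (iv F9807)) (tt N3349 F7313) (tt N5995 D5995) (tt N3348 (iv D4508)) (tt N3533 F7314) (tt N5992 (iv F9802)))
theorem Q4510 : ∀ i, i < 4510 → P i := stepQ 4509 Q4509 (allL N4509 (tt N3373 F7315) (tt N5996 D5996) (tt N3349 (iv D4509)) (tt N3355 F7316) (tt N3535 F7317) (tt N3354 F7318))
theorem Q4511 : ∀ i, i < 4511 → P i := stepQ 4510 Q4510 (allL N4510 (tt N5997 D5997) (tt N3351 (iv D4510)) (tt N3361 F7319) (tt N5998 D5998) (tt N3353 F7320) (tt N5999 D5999))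
theorem Q4512 : ∀ i, i < 4512 → P i := stepQ 4511 Q4511 (allL N4511 (tt N3467 F7321) (tt N5998 (iv F9817)) (tt N3475 F7322) (tt N3351 (iv D4511)) (tt N6000 D6000) (tt N3473 (iv F7323)))
theorem Q4513 : ∀ i, i < 4513 → P i := stepQ 4512 Q4512 (allL N4512 (tt N3468 F7324) (tt N5999 (iv F9819)) (tt N3352 F7325) (tt N3473 F7326) (tt N6001 D6001) (tt N3351 (iv D4512)))
theorem Q4514 : ∀ i, i < 4514 → P i := stepQ 4513 Q4513 (allL N4513 (tt N3469 F7327) (tt N3364 F7328) (tt N6001 (iv F9827)) (tt N3364 F7329) (tt N3352 (iv D4513)) (tt N3356 F7330))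
theorem Q4515 : ∀ i, i < 4515 → P i := stepQ 4514 Q4514 (allL N4514 (tt N3353 (iv D4514)) (tt N5989 (iv F9793)) (tt N3365 F7331) (tt N6002 D6002) (tt N5997 (iv F9816)) (tt N6003 D6003))
theorem Q4516 : ∀ i, i < 4516 → P i := stepQ 4515 Q4515 (allL N4515 (tt N6002 (iv F9830)) (tt N3354 F7332) (tt N6004 D6004) (tt N3353 (iv D4515)) (tt N6005 D6005) (tt N5996 (iv F9813)))
theorem Q4517 : ∀ i, i < 4517 → P i := stepQ 4516 Q4516 (allL N4516 (tt N6003 (iv F9831)) (tt N3355 F7333) (tt N3367 F7334) (tt N5996 (iv F9811)) (tt N6006 D6006) (tt N3353 (iv D4516)))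
theorem Q4518 : ∀ i, i < 4518 → P i := stepQ 4517 Q4517 (allL N4517 (tt N5991 (iv F9797)) (tt N6005 (iv F9833)) (tt N5993 (iv F9804)) (tt N6000 (iv F9824)) (tt N3354 (iv D4517)) (tt N6007 D6007))
theorem Q4519 : ∀ i, i < 4519 → P i := stepQ 4518 Q4518 (allL N4518 (tt N5987 (iv F9787)) (tt N6006 (iv F9834)) (tt N3356 F7335) (tt N6008 D6008) (tt N3355 (iv D4518)) (tt N6001 (iv F9829)))
theorem Q4520 : ∀ i, i < 4520 → P i := stepQ 4519 Q4519 (allL N4519 (tt N3439 F7336) (tt N6009 D6009) (tt N3357 (iv D4519)) (tt N6010 D6010) (tt N3437 F7337) (tt N6011 D6011))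
theorem Q4521 : ∀ i, i < 4521 → P i := stepQ 4520 Q4520 (allL N4520 (tt N3440 F7338) (tt N3360 F7339) (tt N6011 (iv F9848)) (tt N3358 F7340) (tt N6012 D6012) (tt N3357 (iv D4520)))
theorem Q4522 : ∀ i, i < 4522 → P i := stepQ 4521 Q4521 (allL N4521 (tt N6013 D6013) (tt N3359 (iv D4521)) (tt N6009 (iv F9844)) (tt N6014 D6014) (tt N3452 F7341) (tt N6015 D6015))
theorem Q4523 : ∀ i, i < 4523 → P i := stepQ 4522 Q4522 (allL N4522 (tt N3456 F7342) (tt N6014 (iv F9855)) (tt N5986 (iv F9784)) (tt N3359 (iv D4522)) (tt N4139 F7343) (tt N5985 F9782))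
theorem Q4524 : ∀ i, i < 4524 → P i := stepQ 4523 Q4523 (allL N4523 (tt N3457 F7344) (tt N6015 (iv F9857)) (tt N3360 F7345) (tt N5985 (iv F9780)) (tt N6016 D6016) (tt N3359 (iv D4523)))
theorem Q4525 : ∀ i, i < 4525 → P i := stepQ 4524 Q4524 (allL N4524 (tt N3458 F7346) (tt N6012 (iv F9850)) (tt N6016 (iv F9859)) (tt N3448 F7347) (tt N3360 (iv D4524)) (tt N3450 F7348))
theorem Q4526 : ∀ i, i < 4526 → P i := stepQ 4525 Q4525 (allL N4525 (tt N3361 (iv D4525)) (tt N5982 (iv F9773)) (tt N5997 (iv F9815)) (tt N6017 D6017) (tt N3365 F7349) (tt N6018 D6018))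
theorem Q4527 : ∀ i, i < 4527 → P i := stepQ 4526 Q4526 (allL N4526 (tt N6017 (iv F9861)) (tt N3362 F7350) (tt N6019 D6019) (tt N3361 (iv D4526)) (tt N6020 D6020) (tt N6021 D6021))
theorem Q4528 : ∀ i, i < 4528 → P i := stepQ 4527 Q4527 (allL N4527 (tt N6018 (iv F9862)) (tt N3363 F7351) (tt N5999 (iv F9820)) (tt N6021 (iv F9867)) (tt N6022 D6022) (tt N3361 (iv D4527)))
theorem Q4529 : ∀ i, i < 4529 → P i := stepQ 4528 Q4528 (allL N4528 (tt N5985 (iv F9779)) (tt N6023 D6023) (tt N3362 (iv D4528)) (tt N3457 F7352) (tt N6024 D6024) (tt N3456 (iv F7353)))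
theorem Q4530 : ∀ i, i < 4530 → P i := stepQ 4529 Q4529 (allL N4529 (tt N3417 F7354) (tt N6020 (iv F9863)) (tt N6024 (iv F9874)) (tt N3368 F7355) (tt N3362 (iv D4529)) (tt N4013 (iv F7356)))
theorem Q4531 : ∀ i, i < 4531 → P i := stepQ 4530 Q4530 (allL N4530 (tt N5986 (iv F9783)) (tt N6021 (iv F9866)) (tt N3456 F7357) (tt N3363 F7358) (tt N6025 D6025) (tt N3362 (iv D4530)))
theorem Q4532 : ∀ i, i < 4532 → P i := stepQ 4531 Q4531 (allL N4531 (tt N3416 F7359) (tt N6022 (iv F9868)) (tt N3364 F7360) (tt N4012 (iv F7362)) (tt N3363 (iv D4531)) (tt N3369 F7361))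
theorem Q4533 : ∀ i, i < 4533 → P i := stepQ 4532 Q4532 (allL N4532 (tt N3366 F7363) (tt N3412 F7364) (tt N6026 D6026) (tt N3365 (iv D4532)) (tt N6027 D6027) (tt N3383 (iv F7365)))
theorem Q4534 : ∀ i, i < 4534 → P i := stepQ 4533 Q4533 (allL N4533 (tt N3367 F7366) (tt N3411 F7367) (tt N6003 (iv F9832)) (tt N3383 F7368) (tt N6028 D6028) (tt N3365 (iv D4533)))
theorem Q4535 : ∀ i, i < 4535 → P i := stepQ 4534 Q4534 (allL N4534 (tt N6026 (iv F9880)) (tt N3381 F7369) (tt N3366 (iv D4534)) (tt N5885 (iv F9653)) (tt N6029 D6029) (tt N3379 F7370))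
theorem Q4536 : ∀ i, i < 4536 → P i := stepQ 4535 Q4535 (allL N4535 (tt N6027 (iv F9883)) (tt N3368 F7371) (tt N6029 (iv F9890)) (tt N6020 (iv F9864)) (tt N3366 (iv D4535)) (tt N4011 F7372))
theorem Q4537 : ∀ i, i < 4537 → P i := stepQ 4536 Q4536 (allL N4536 (tt N6028 (iv F9886)) (tt N3369 F7373) (tt N6006 (iv F9835)) (tt N4010 F7374) (tt N3367 (iv D4536)) (tt N6022 (iv F9869)))
theorem Q4538 : ∀ i, i < 4538 → P i := stepQ 4537 Q4537 (allL N4537 (tt N5993 (iv F9803)) (tt N4622 (iv F7528)) (tt N5991 (iv F9798)) (tt N3420 F7375) (tt N3370 (iv D4537)) (tt N6030 D6030))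
theorem Q4539 : ∀ i, i < 4539 → P i := stepQ 4538 Q4538 (allL N4538 (tt N3372 F7376) (tt N5994 (iv F9808)) (tt N4602 (iv F7496)) (tt N3371 (iv D4538)) (tt N6031 D6031) (tt N4620 (iv F7526)))
theorem Q4540 : ∀ i, i < 4540 → P i := stepQ 4539 Q4539 (allL N4539 (tt N4602 (iv F7495)) (tt N6032 D6032) (tt N3372 (iv D4539)) (tt N4599 (iv F7491)) (tt N6033 D6033) (tt N4621 (iv F7527)))
theorem Q4541 : ∀ i, i < 4541 → P i := stepQ 4540 Q4540 (allL N4540 (tt N6031 (iv F9896)) (tt N3374 F7377) (tt N6033 (iv F9900)) (tt N3377 F7378) (tt N3372 (iv D4540)) (tt N6034 D6034))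
theorem Q4542 : ∀ i, i < 4542 → P i := stepQ 4541 Q4541 (allL N4541 (tt N6035 D6035) (tt N3373 (iv D4541)) (tt N6032 (iv F9899)) (tt N5988 (iv F9791)) (tt N6036 D6036) (tt N5990 (iv F9796)))
theorem Q4543 : ∀ i, i < 4543 → P i := stepQ 4542 Q4542 (allL N4542 (tt N3535 F7379) (tt N6036 (iv F9903)) (tt N3374 F7380) (tt N4135 (iv F7381)) (tt N3373 (iv D4542)) (tt N4134 F7382))
theorem Q4544 : ∀ i, i < 4544 → P i := stepQ 4543 Q4543 (allL N4543 (tt N3536 F7383) (tt N6034 (iv F9901)) (tt N4134 F7384) (tt N3378 F7385) (tt N6030 (iv F9895)) (tt N3374 (iv D4543)))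
theorem Q4545 : ∀ i, i < 4545 → P i := stepQ 4544 Q4544 (allL N4544 (tt N3376 F7386) (tt N3500 F7387) (tt N3375 (iv D4544)) (tt N3376 F7388) (tt N6037 D6037) (tt N3427 F7389))
theorem Q4546 : ∀ i, i < 4546 → P i := stepQ 4545 Q4545 (allL N4545 (tt N3377 F7390) (tt N3532 F7391) (tt N6037 (iv F9908)) (tt N6031 (iv F9898)) (tt N3375 (iv D4545)) (tt N6038 D6038))
theorem Q4547 : ∀ i, i < 4547 → P i := stepQ 4546 Q4546 (allL N4546 (tt N6037 (iv F9906)) (tt N3501 F7392) (tt N3377 F7393) (tt N6039 D6039) (tt N3376 (iv D4546)) (tt N6040 D6040))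
theorem Q4548 : ∀ i, i < 4548 → P i := stepQ 4547 Q4547 (allL N4547 (tt N6038 (iv F9909)) (tt N3378 F7394) (tt N6040 (iv F9914)) (tt N6034 (iv F9902)) (tt N3431 F7395) (tt N3377 (iv D4547)))
theorem Q4549 : ∀ i, i < 4549 → P i := stepQ 4548 Q4548 (allL N4548 (tt N3379 (iv D4548)) (tt N4419 F7396) (tt N3383 F7397) (tt N6041 D6041) (tt N4002 F7398) (tt N6026 (iv F9881)))
theorem Q4550 : ∀ i, i < 4550 → P i := stepQ 4549 Q4549 (allL N4549 (tt N6041 (iv F9916)) (tt N3380 F7399) (tt N6042 D6042) (tt N3379 (iv D4549)) (tt N6043 D6043) (tt N5885 (iv F9654)))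
theorem Q4551 : ∀ i, i < 4551 → P i := stepQ 4550 Q4550 (allL N4550 (tt N4423 F7400) (tt N6043 (iv F9918)) (tt N5888 (iv F9658)) (tt N4005 F7401) (tt N3380 (iv D4550)) (tt N6044 D6044))
theorem Q4552 : ∀ i, i < 4552 → P i := stepQ 4551 Q4551 (allL N4551 (tt N4425 F7402) (tt N6029 (iv F9889)) (tt N3382 F7403) (tt N6045 D6045) (tt N3381 (iv D4551)) (tt N4006 F7404))
theorem Q4553 : ∀ i, i < 4553 → P i := stepQ 4552 Q4552 (allL N4552 (tt N3405 F7405) (tt N6046 D6046) (tt N3384 (iv D4552)) (tt N6047 D6047) (tt N3385 F7406) (tt N3507 F7407))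
theorem Q4554 : ∀ i, i < 4554 → P i := stepQ 4553 Q4553 (allL N4553 (tt N6048 D6048) (tt N3385 (iv D4553)) (tt N4421 F7408) (tt N3424 F7409) (tt N6046 (iv F9925)) (tt N3386 F7410))
theorem Q4555 : ∀ i, i < 4555 → P i := stepQ 4554 Q4554 (allL N4554 (tt N3386 (iv D4554)) (tt N3401 F7411) (tt N4419 F7412) (tt N6049 D6049) (tt N3503 F7413) (tt N6048 (iv F9933)))
theorem Q4556 : ∀ i, i < 4556 → P i := stepQ 4555 Q4555 (allL N4555 (tt N6049 (iv F9934)) (tt N3387 F7414) (tt N6050 D6050) (tt N3386 (iv D4555)) (tt N6051 D6051) (tt N3424 F7415))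
theorem Q4557 : ∀ i, i < 4557 → P i := stepQ 4556 Q4556 (allL N4556 (tt N3404 F7416) (tt N6051 (iv F9939)) (tt N3420 F7417) (tt N3506 F7418) (tt N3387 (iv D4556)) (tt N6052 D6052))
theorem Q4558 : ∀ i, i < 4558 → P i := stepQ 4557 Q4557 (allL N4557 (tt N3388 (iv D4557)) (tt N3418 F7419) (tt N4557 F7420) (tt N6053 D6053) (tt N4619 (iv F7523)) (tt N3390 F7421))
theorem Q4559 : ∀ i, i < 4559 → P i := stepQ 4558 Q4558 (allL N4558 (tt N6053 (iv F9945)) (tt N3389 F7422) (tt N6054 D6054) (tt N3388 (iv D4558)) (tt N6055 D6055) (tt N3391 F7423))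
theorem Q4560 : ∀ i, i < 4560 → P i := stepQ 4559 Q4559 (allL N4559 (tt N3420 F7424) (tt N6055 (iv F9950)) (tt N3404 F7425) (tt N5993 (iv F9805)) (tt N3389 (iv D4559)) (tt N6056 D6056))
theorem Q4561 : ∀ i, i < 4561 → P i := stepQ 4560 Q4560 (allL N4560 (tt N3391 F7426) (tt N3421 F7427) (tt N6057 D6057) (tt N3390 (iv D4560)) (tt N6058 D6058) (tt N6053 (iv F9947)))
theorem Q4562 : ∀ i, i < 4562 → P i := stepQ 4561 Q4561 (allL N4561 (tt N6057 (iv F9955)) (tt N6059 D6059) (tt N3391 (iv D4561)) (tt N6060 D6060) (tt N6061 D6061) (tt N6054 (iv F9949)))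
theorem Q4563 : ∀ i, i < 4563 → P i := stepQ 4562 Q4562 (allL N4562 (tt N6058 (iv F9956)) (tt N3393 F7428) (tt N6061 (iv F9961)) (tt N3395 F7429) (tt N3391 (iv D4562)) (tt N6062 D6062))
theorem Q4564 : ∀ i, i < 4564 → P i := stepQ 4563 Q4563 (allL N4563 (tt N6063 D6063) (tt N3392 (iv D4563)) (tt N6059 (iv F9959)) (tt N3403 F7430) (tt N6064 D6064) (tt N3402 F7431))
theorem Q4565 : ∀ i, i < 4565 → P i := stepQ 4564 Q4564 (allL N4564 (tt N3425 F7432) (tt N6064 (iv F9967)) (tt N3393 F7433) (tt N6065 D6065) (tt N3392 (iv D4564)) (tt N6066 D6066))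
theorem Q4566 : ∀ i, i < 4566 → P i := stepQ 4565 Q4565 (allL N4565 (tt N3426 F7434) (tt N6062 (iv F9962)) (tt N6066 (iv F9971)) (tt N3396 F7435) (tt N6056 (iv F9954)) (tt N3393 (iv D4565)))
theorem Q4567 : ∀ i, i < 4567 → P i := stepQ 4566 Q4566 (allL N4566 (tt N3395 F7436) (tt N3428 F7437) (tt N5232 (iv F8582)) (tt N6058 (iv F9958)) (tt N3394 (iv D4566)) (tt N6067 D6067))
theorem Q4568 : ∀ i, i < 4568 → P i := stepQ 4567 Q4567 (allL N4567 (tt N6067 (iv F9973)) (tt N3396 F7438) (tt N5234 (iv F8585)) (tt N6062 (iv F9963)) (tt N3534 F7439) (tt N3395 (iv D4567)))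
theorem Q4569 : ∀ i, i < 4569 → P i := stepQ 4568 Q4568 (allL N4568 (tt N3397 (iv D4568)) (tt N3503 F7440) (tt N3406 F7441) (tt N6068 D6068) (tt N3401 F7442) (tt N6069 D6069))
theorem Q4570 : ∀ i, i < 4570 → P i := stepQ 4569 Q4569 (allL N4569 (tt N6068 (iv F9976)) (tt N3398 F7443) (tt N6070 D6070) (tt N3397 (iv D4569)) (tt N6071 D6071) (tt N3514 (iv F7444)))
theorem Q4571 : ∀ i, i < 4571 → P i := stepQ 4570 Q4570 (allL N4570 (tt N6069 (iv F9979)) (tt N3399 F7445) (tt N3408 F7446) (tt N3514 F7447) (tt N6072 D6072) (tt N3397 (iv D4570)))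
theorem Q4572 : ∀ i, i < 4572 → P i := stepQ 4571 Q4571 (allL N4571 (tt N3506 F7448) (tt N6071 (iv F9985)) (tt N3517 F7449) (tt N3404 F7450) (tt N3398 (iv D4571)) (tt N6073 D6073))
theorem Q4573 : ∀ i, i < 4573 → P i := stepQ 4572 Q4572 (allL N4572 (tt N3507 F7451) (tt N6072 (iv F9987)) (tt N3400 F7452) (tt N6074 D6074) (tt N3399 (iv D4572)) (tt N3405 F7453))
theorem Q4574 : ∀ i, i < 4574 → P i := stepQ 4573 Q4573 (allL N4573 (tt N3402 F7454) (tt N6049 (iv F9935)) (tt N6075 D6075) (tt N3401 (iv D4573)) (tt N6076 D6076) (tt N6063 (iv F9966)))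
theorem Q4575 : ∀ i, i < 4575 → P i := stepQ 4574 Q4574 (allL N4574 (tt N3403 F7455) (tt N6048 (iv F9930)) (tt N3412 F7456) (tt N6063 (iv F9965)) (tt N6077 D6077) (tt N3401 (iv D4574)))
theorem Q4576 : ∀ i, i < 4576 → P i := stepQ 4575 Q4575 (allL N4575 (tt N6075 (iv F9997)) (tt N6054 (iv F9948)) (tt N3402 (iv D4575)) (tt N6078 D6078) (tt N6079 D6079) (tt N6059 (iv F9960)))
theorem Q4577 : ∀ i, i < 4577 → P i := stepQ 4576 Q4576 (allL N4576 (tt N6076 (iv F9998)) (tt N3404 F7457) (tt N6079 (iv F10001)) (tt N6071 (iv F9986)) (tt N3402 (iv D4576)) (tt N6080 D6080))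
theorem Q4578 : ∀ i, i < 4578 → P i := stepQ 4577 Q4577 (allL N4577 (tt N6077 (iv F9999)) (tt N3405 F7458) (tt N3415 F7459) (tt N6081 D6081) (tt N3403 (iv D4577)) (tt N6072 (iv F9989)))
theorem Q4579 : ∀ i, i < 4579 → P i := stepQ 4578 Q4578 (allL N4578 (tt N6052 (iv F9941)) (tt N6080 (iv F10002)) (tt N6056 (iv F9952)) (tt N6073 (iv F9992)) (tt N6066 (iv F9972)) (tt N3404 (iv D4578)))
theorem Q4580 : ∀ i, i < 4580 → P i := stepQ 4579 Q4579 (allL N4579 (tt N6047 (iv F9927)) (tt N6081 (iv F10003)) (tt N6082 D6082) (tt N3405 (iv D4579)) (tt N6065 (iv F9969)) (tt N6074 (iv F9996)))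
theorem Q4581 : ∀ i, i < 4581 → P i := stepQ 4580 Q4580 (allL N4580 (tt N3407 F7460) (tt N4007 F7461) (tt N6083 D6083) (tt N3406 (iv D4580)) (tt N6084 D6084) (tt N4025 (iv F7462)))
theorem Q4582 : ∀ i, i < 4582 → P i := stepQ 4581 Q4581 (allL N4581 (tt N3408 F7463) (tt N4008 F7464) (tt N6069 (iv F9981)) (tt N4025 F7465) (tt N6085 D6085) (tt N3406 (iv D4581)))
theorem Q4583 : ∀ i, i < 4583 → P i := stepQ 4582 Q4582 (allL N4582 (tt N6083 (iv F10005)) (tt N4021 F7466) (tt N3407 (iv D4582)) (tt N6086 D6086) (tt N6087 D6087) (tt N4018 F7467))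
theorem Q4584 : ∀ i, i < 4584 → P i := stepQ 4583 Q4583 (allL N4583 (tt N6084 (iv F10007)) (tt N3409 F7468) (tt N6087 (iv F10016)) (tt N3414 F7469) (tt N3407 (iv D4583)) (tt N6088 D6088))
theorem Q4585 : ∀ i, i < 4585 → P i := stepQ 4584 Q4584 (allL N4584 (tt N6085 (iv F10010)) (tt N3410 F7470) (tt N6072 (iv F9988)) (tt N6089 D6089) (tt N3408 (iv D4584)) (tt N3415 F7471))
theorem Q4586 : ∀ i, i < 4586 → P i := stepQ 4585 Q4585 (allL N4585 (tt N4012 F7472) (tt N6088 (iv F10017)) (tt N4029 F7473) (tt N3416 F7474) (tt N4028 F7475) (tt N3409 (iv D4585)))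
theorem Q4587 : ∀ i, i < 4587 → P i := stepQ 4586 Q4586 (allL N4586 (tt N4013 F7476) (tt N6089 (iv F10020)) (tt N6090 D6090) (tt N3410 (iv D4586)) (tt N4027 F7477) (tt N3417 F7478))
theorem Q4588 : ∀ i, i < 4588 → P i := stepQ 4587 Q4587 (allL N4587 (tt N3413 F7479) (tt N6091 D6091) (tt N3411 (iv D4587)) (tt N6092 D6092) (tt N6093 D6093) (tt N5976 (iv F9762)))
theorem Q4589 : ∀ i, i < 4589 → P i := stepQ 4588 Q4588 (allL N4588 (tt N3414 F7480) (tt N6028 (iv F9887)) (tt N6093 (iv F10028)) (tt N6084 (iv F10009)) (tt N3411 (iv D4588)) (tt N6094 D6094))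
theorem Q4590 : ∀ i, i < 4590 → P i := stepQ 4589 Q4589 (allL N4589 (tt N3415 F7481) (tt N6027 (iv F9884)) (tt N6077 (iv F10000)) (tt N6095 D6095) (tt N3412 (iv D4589)) (tt N6085 (iv F10012)))
theorem Q4591 : ∀ i, i < 4591 → P i := stepQ 4590 Q4590 (allL N4590 (tt N6092 (iv F10026)) (tt N5980 (iv F9768)) (tt N6096 D6096) (tt N3413 (iv D4590)) (tt N6097 D6097) (tt N5977 (iv F9764)))
theorem Q4592 : ∀ i, i < 4592 → P i := stepQ 4591 Q4591 (allL N4591 (tt N6093 (iv F10027)) (tt N5981 (iv F9771)) (tt N3414 F7482) (tt N6098 D6098) (tt N3413 (iv D4591)) (tt N6099 D6099))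
theorem Q4593 : ∀ i, i < 4593 → P i := stepQ 4592 Q4592 (allL N4592 (tt N6094 (iv F10029)) (tt N3416 F7483) (tt N6099 (iv F10031)) (tt N6088 (iv F10018)) (tt N5984 (iv F9778)) (tt N3414 (iv D4592)))
theorem Q4594 : ∀ i, i < 4594 → P i := stepQ 4593 Q4593 (allL N4593 (tt N6095 (iv F10030)) (tt N3417 F7484) (tt N6100 D6100) (tt N3415 (iv D4593)) (tt N5983 (iv F9776)) (tt N6089 (iv F10022)))
theorem Q4595 : ∀ i, i < 4595 → P i := stepQ 4594 Q4594 (allL N4594 (tt N6024 (iv F9873)) (tt N6101 D6101) (tt N3417 (iv D4594)) (tt N6102 D6102) (tt N5985 (iv F9781)) (tt N6090 (iv F10025)))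
theorem Q4596 : ∀ i, i < 4596 → P i := stepQ 4595 Q4595 (allL N4595 (tt N3419 F7485) (tt N6053 (iv F9946)) (tt N6103 D6103) (tt N3418 (iv D4595)) (tt N6104 D6104) (tt N3421 F7486))
theorem Q4597 : ∀ i, i < 4597 → P i := stepQ 4596 Q4596 (allL N4596 (tt N6103 (iv F10033)) (tt N6050 (iv F9937)) (tt N3419 (iv D4596)) (tt N6105 D6105) (tt N6106 D6106) (tt N3422 F7487))
theorem Q4598 : ∀ i, i < 4598 → P i := stepQ 4597 Q4597 (allL N4597 (tt N6104 (iv F10036)) (tt N3420 F7488) (tt N6106 (iv F10040)) (tt N4622 (iv F7529)) (tt N3419 (iv D4597)) (tt N6107 D6107))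
theorem Q4599 : ∀ i, i < 4599 → P i := stepQ 4598 Q4598 (allL N4598 (tt N6056 (iv F9951)) (tt N6107 (iv F10041)) (tt N6052 (iv F9942)) (tt N6030 (iv F9894)) (tt N3426 F7489) (tt N3420 (iv D4598)))
theorem Q4600 : ∀ i, i < 4600 → P i := stepQ 4599 Q4599 (allL N4599 (tt N3422 F7490) (tt N6108 D6108) (tt N3421 (iv D4599)) (tt N4539 F7491) (tt N6109 D6109) (tt N6103 (iv F10035)))
theorem Q4601 : ∀ i, i < 4601 → P i := stepQ 4600 Q4600 (allL N4600 (tt N3423 F7492) (tt N6058 (iv F9957)) (tt N6109 (iv F10045)) (tt N3428 F7493) (tt N3421 (iv D4600)) (tt N6110 D6110))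
theorem Q4602 : ∀ i, i < 4602 → P i := stepQ 4601 Q4601 (allL N4601 (tt N6111 D6111) (tt N3422 (iv D4601)) (tt N3424 F7494) (tt N6112 D6112) (tt N6113 D6113) (tt N6050 (iv F9938)))
theorem Q4603 : ∀ i, i < 4603 → P i := stepQ 4602 Q4602 (allL N4602 (tt N4539 F7495) (tt N6112 (iv F10049)) (tt N4538 F7496) (tt N3422 (iv D4602)) (tt N6114 D6114) (tt N6105 (iv F10039)))
theorem Q4604 : ∀ i, i < 4604 → P i := stepQ 4603 Q4603 (allL N4603 (tt N6109 (iv F10044)) (tt N6113 (iv F10050)) (tt N3423 F7497) (tt N6115 D6115) (tt N3422 (iv D4603)) (tt N6116 D6116))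
theorem Q4605 : ∀ i, i < 4605 → P i := stepQ 4604 Q4604 (allL N4604 (tt N6110 (iv F10046)) (tt N3426 F7498) (tt N6116 (iv F10054)) (tt N3431 F7499) (tt N6107 (iv F10042)) (tt N3423 (iv D4604)))
theorem Q4606 : ∀ i, i < 4606 → P i := stepQ 4605 Q4605 (allL N4605 (tt N3424 (iv D4605)) (tt N6063 (iv F9964)) (tt N6111 (iv F10048)) (tt N6048 (iv F9932)) (tt N6117 D6117) (tt N6049 (iv F9936)))
theorem Q4607 : ∀ i, i < 4607 → P i := stepQ 4606 Q4606 (allL N4606 (tt N6117 (iv F10055)) (tt N3425 F7500) (tt N6113 (iv F10051)) (tt N6118 D6118) (tt N3424 (iv D4606)) (tt N6119 D6119))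
theorem Q4608 : ∀ i, i < 4608 → P i := stepQ 4607 Q4607 (allL N4607 (tt N6065 (iv F9968)) (tt N6118 (iv F10056)) (tt N6120 D6120) (tt N3425 (iv D4607)) (tt N6047 (iv F9928)) (tt N6121 D6121))
theorem Q4609 : ∀ i, i < 4609 → P i := stepQ 4608 Q4608 (allL N4608 (tt N6066 (iv F9970)) (tt N6119 (iv F10057)) (tt N3426 F7501) (tt N6121 (iv F10061)) (tt N6052 (iv F9944)) (tt N3425 (iv D4608)))
theorem Q4610 : ∀ i, i < 4610 → P i := stepQ 4609 Q4609 (allL N4609 (tt N3847 F7502) (tt N3427 (iv D4609)) (tt N3844 F7503) (tt N3429 F7504) (tt N6122 D6122) (tt N3500 F7505))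
theorem Q4611 : ∀ i, i < 4611 → P i := stepQ 4610 Q4610 (allL N4610 (tt N3430 F7506) (tt N6122 (iv F10063)) (tt N3428 F7507) (tt N6123 D6123) (tt N3427 (iv D4610)) (tt N6124 D6124))
theorem Q4612 : ∀ i, i < 4612 → P i := stepQ 4611 Q4611 (allL N4611 (tt N3431 F7508) (tt N6067 (iv F9974)) (tt N6124 (iv F10068)) (tt N6110 (iv F10047)) (tt N6038 (iv F9911)) (tt N3428 (iv D4611)))
theorem Q4613 : ∀ i, i < 4613 → P i := stepQ 4612 Q4612 (allL N4612 (tt N5227 (iv F8564)) (tt N3430 F7509) (tt N3432 F7510) (tt N6125 D6125) (tt N3429 (iv D4612)) (tt N6126 D6126))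
theorem Q4614 : ∀ i, i < 4614 → P i := stepQ 4613 Q4613 (allL N4613 (tt N6123 (iv F10065)) (tt N6125 (iv F10069)) (tt N6127 D6127) (tt N3430 (iv D4613)) (tt N6123 (iv F10066)) (tt N6128 D6128))
theorem Q4615 : ∀ i, i < 4615 → P i := stepQ 4614 Q4614 (allL N4614 (tt N6124 (iv F10067)) (tt N6126 (iv F10070)) (tt N3431 F7511) (tt N6128 (iv F10073)) (tt N6040 (iv F9915)) (tt N3430 (iv D4614)))
theorem Q4616 : ∀ i, i < 4616 → P i := stepQ 4615 Q4615 (allL N4615 (tt N5228 (iv F8567)) (tt N3433 F7512) (tt N6129 D6129) (tt N3432 (iv D4615)) (tt N3453 F7513) (tt N6130 D6130))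
theorem Q4617 : ∀ i, i < 4617 → P i := stepQ 4616 Q4616 (allL N4616 (tt N5229 (iv F8570)) (tt N3434 F7514) (tt N6126 (iv F10071)) (tt N6130 (iv F10076)) (tt N3502 F7515) (tt N3432 (iv D4616)))
theorem Q4618 : ∀ i, i < 4618 → P i := stepQ 4617 Q4617 (allL N4617 (tt N3485 F7516) (tt N6131 D6131) (tt N3433 (iv D4617)) (tt N6132 D6132) (tt N3454 F7517) (tt N6133 D6133))
theorem Q4619 : ∀ i, i < 4619 → P i := stepQ 4618 Q4618 (allL N4618 (tt N3486 F7518) (tt N6130 (iv F10075)) (tt N6133 (iv F10082)) (tt N3434 F7519) (tt N4047 F7520) (tt N3433 (iv D4618)))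
theorem Q4620 : ∀ i, i < 4620 → P i := stepQ 4619 Q4619 (allL N4619 (tt N4505 F7521) (tt N3435 (iv D4619)) (tt N4619 F7522) (tt N6134 D6134) (tt N4557 F7523) (tt N4507 F7524))
theorem Q4621 : ∀ i, i < 4621 → P i := stepQ 4620 Q4620 (allL N4620 (tt N3436 F7525) (tt N6134 (iv F10085)) (tt N6105 (iv F10038)) (tt N3435 (iv D4620)) (tt N6135 D6135) (tt N4538 F7526))
theorem Q4622 : ∀ i, i < 4622 → P i := stepQ 4621 Q4621 (allL N4621 (tt N6105 (iv F10037)) (tt N6136 D6136) (tt N3436 (iv D4621)) (tt N6103 (iv F10034)) (tt N6137 D6137) (tt N4539 F7527))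
theorem Q4623 : ∀ i, i < 4623 → P i := stepQ 4622 Q4622 (allL N4622 (tt N6135 (iv F10087)) (tt N4537 F7528) (tt N6137 (iv F10091)) (tt N4597 F7529) (tt N3436 (iv D4622)) (tt N6138 D6138))
theorem Q4624 : ∀ i, i < 4624 → P i := stepQ 4623 Q4623 (allL N4623 (tt N6139 D6139) (tt N3437 (iv D4623)) (tt N3452 F7530) (tt N6140 D6140) (tt N6009 (iv F9845)) (tt N6141 D6141))
theorem Q4625 : ∀ i, i < 4625 → P i := stepQ 4624 Q4624 (allL N4624 (tt N3442 F7531) (tt N6140 (iv F10100)) (tt N3756 F7532) (tt N3437 (iv D4624)) (tt N6142 D6142) (tt N3754 (iv F7533)))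
theorem Q4626 : ∀ i, i < 4626 → P i := stepQ 4625 Q4625 (allL N4625 (tt N3443 F7534) (tt N6141 (iv F10104)) (tt N3438 F7535) (tt N3754 F7536) (tt N6143 D6143) (tt N3437 (iv D4625)))
theorem Q4627 : ∀ i, i < 4627 → P i := stepQ 4626 Q4626 (allL N4626 (tt N3444 F7537) (tt N3450 F7538) (tt N6143 (iv F10110)) (tt N3444 F7539) (tt N3438 (iv D4626)) (tt N6012 (iv F9852)))
theorem Q4628 : ∀ i, i < 4628 → P i := stepQ 4627 Q4627 (allL N4627 (tt N6144 D6144) (tt N3439 (iv D4627)) (tt N3445 F7540) (tt N6145 D6145) (tt N3441 F7541) (tt N6146 D6146))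
theorem Q4629 : ∀ i, i < 4629 → P i := stepQ 4628 Q4628 (allL N4628 (tt N6010 (iv F9846)) (tt N6145 (iv F10113)) (tt N6147 D6147) (tt N3439 (iv D4628)) (tt N6148 D6148) (tt N6147 F10118))
theorem Q4630 : ∀ i, i < 4630 → P i := stepQ 4629 Q4629 (allL N4629 (tt N6011 (iv F9847)) (tt N6146 (iv F10114)) (tt N3440 F7542) (tt N6147 (iv F10117)) (tt N6149 D6149) (tt N3439 (iv D4629)))
theorem Q4631 : ∀ i, i < 4631 → P i := stepQ 4630 Q4630 (allL N4630 (tt N6012 (iv F9849)) (tt N3448 F7543) (tt N6149 (iv F10121)) (tt N6012 (iv F9851)) (tt N3440 (iv D4630)) (tt N3444 F7544))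
theorem Q4632 : ∀ i, i < 4632 → P i := stepQ 4631 Q4631 (allL N4631 (tt N3441 (iv D4631)) (tt N6139 (iv F10095)) (tt N3449 F7545) (tt N4087 (iv F7547)) (tt N6144 (iv F10112)) (tt N3519 F7546))
theorem Q4633 : ∀ i, i < 4633 → P i := stepQ 4632 Q4632 (allL N4632 (tt N4087 F7548) (tt N3442 F7549) (tt N4085 F7551) (tt N3441 (iv D4632)) (tt N6150 D6150) (tt N3522 F7550))
theorem Q4634 : ∀ i, i < 4634 → P i := stepQ 4633 Q4633 (allL N4633 (tt N3756 F7552) (tt N6151 D6151) (tt N3442 (iv D4633)) (tt N3746 F7553) (tt N6152 D6152) (tt N3745 (iv F7554)))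
theorem Q4635 : ∀ i, i < 4635 → P i := stepQ 4634 Q4634 (allL N4634 (tt N6142 (iv F10107)) (tt N6150 (iv F10124)) (tt N6152 (iv F10131)) (tt N6148 (iv F10119)) (tt N3442 (iv D4634)) (tt N6153 D6153))
theorem Q4636 : ∀ i, i < 4636 → P i := stepQ 4635 Q4635 (allL N4635 (tt N3754 F7555) (tt N3522 F7556) (tt N3745 F7557) (tt N3443 F7558) (tt N6154 D6154) (tt N3442 (iv D4635)))
theorem Q4637 : ∀ i, i < 4637 → P i := stepQ 4636 Q4636 (allL N4636 (tt N6143 (iv F10109)) (tt N3523 F7559) (tt N3444 F7560) (tt N6155 D6155) (tt N3443 (iv D4636)) (tt N6149 (iv F10122)))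
theorem Q4638 : ∀ i, i < 4638 → P i := stepQ 4637 Q4637 (allL N4637 (tt N3445 (iv D4637)) (tt N3470 F7561) (tt N6144 (iv F10111)) (tt N6156 D6156) (tt N3449 F7562) (tt N6157 D6157))
theorem Q4639 : ∀ i, i < 4639 → P i := stepQ 4638 Q4638 (allL N4638 (tt N6156 (iv F10136)) (tt N3446 F7563) (tt N6158 D6158) (tt N3445 (iv D4638)) (tt N3525 F7564) (tt N6159 D6159))
theorem Q4640 : ∀ i, i < 4640 → P i := stepQ 4639 Q4639 (allL N4639 (tt N6157 (iv F10139)) (tt N3447 F7565) (tt N6146 (iv F10115)) (tt N6159 (iv F10144)) (tt N3524 F7566) (tt N3445 (iv D4639)))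
theorem Q4641 : ∀ i, i < 4641 → P i := stepQ 4640 Q4640 (allL N4640 (tt N3473 F7567) (tt N6160 D6160) (tt N3446 (iv D4640)) (tt N3468 F7568) (tt N3526 F7569) (tt N3467 (iv F7570)))
theorem Q4642 : ∀ i, i < 4642 → P i := stepQ 4641 Q4641 (allL N4641 (tt N3475 F7571) (tt N6159 (iv F10143)) (tt N3467 F7572) (tt N3447 F7573) (tt N6161 D6161) (tt N3446 (iv D4641)))
theorem Q4643 : ∀ i, i < 4643 → P i := stepQ 4642 Q4642 (allL N4642 (tt N3463 F7574) (tt N6162 D6162) (tt N3450 (iv D4642)) (tt N6163 D6163) (tt N3451 F7575) (tt N6016 (iv F9860)))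
theorem Q4644 : ∀ i, i < 4644 → P i := stepQ 4643 Q4643 (allL N4643 (tt N6164 D6164) (tt N3451 (iv D4643)) (tt N6141 (iv F10105)) (tt N3484 F7576) (tt N6162 (iv F10152)) (tt N3452 F7577))
theorem Q4645 : ∀ i, i < 4645 → P i := stepQ 4644 Q4644 (allL N4644 (tt N3452 (iv D4644)) (tt N3459 F7578) (tt N6139 (iv F10096)) (tt N4140 F7579) (tt N6013 (iv F9854)) (tt N6164 (iv F10158)))
theorem Q4646 : ∀ i, i < 4646 → P i := stepQ 4645 Q4645 (allL N4645 (tt N5230 (iv F8573)) (tt N6165 D6165) (tt N3453 (iv D4645)) (tt N6166 D6166) (tt N6129 (iv F10074)) (tt N4123 F7580))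
theorem Q4647 : ∀ i, i < 4647 → P i := stepQ 4646 Q4646 (allL N4646 (tt N6167 D6167) (tt N3454 (iv D4646)) (tt N6165 (iv F10159)) (tt N3461 F7581) (tt N6131 (iv F10078)) (tt N3460 F7582))
theorem Q4648 : ∀ i, i < 4648 → P i := stepQ 4647 Q4647 (allL N4647 (tt N3455 (iv D4647)) (tt N6013 (iv F9853)) (tt N3470 F7583) (tt N6168 D6168) (tt N3459 F7584) (tt N6169 D6169))
theorem Q4649 : ∀ i, i < 4649 → P i := stepQ 4648 Q4648 (allL N4648 (tt N6168 (iv F10166)) (tt N3456 F7585) (tt N6170 D6170) (tt N3455 (iv D4648)) (tt N6171 D6171) (tt N6023 (iv F9872)))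
theorem Q4650 : ∀ i, i < 4650 → P i := stepQ 4649 Q4649 (allL N4649 (tt N6169 (iv F10167)) (tt N3457 F7586) (tt N3472 F7587) (tt N6023 (iv F9871)) (tt N6172 D6172) (tt N3455 (iv D4649)))
theorem Q4651 : ∀ i, i < 4651 → P i := stepQ 4650 Q4650 (allL N4650 (tt N4139 F7588) (tt N6171 (iv F10169)) (tt N6025 (iv F9877)) (tt N3462 F7589) (tt N3456 (iv D4650)) (tt N6173 D6173))
theorem Q4652 : ∀ i, i < 4652 → P i := stepQ 4651 Q4651 (allL N4651 (tt N6016 (iv F9858)) (tt N6172 (iv F10171)) (tt N3458 F7590) (tt N6174 D6174) (tt N3457 (iv D4651)) (tt N3463 F7591))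
theorem Q4653 : ∀ i, i < 4653 → P i := stepQ 4652 Q4652 (allL N4652 (tt N3460 F7592) (tt N4140 F7593) (tt N6175 D6175) (tt N3459 (iv D4652)) (tt N6176 D6176) (tt N6167 (iv F10165)))
theorem Q4654 : ∀ i, i < 4654 → P i := stepQ 4653 Q4653 (allL N4653 (tt N3461 F7594) (tt N6164 (iv F10155)) (tt N3478 F7595) (tt N6167 (iv F10164)) (tt N6177 D6177) (tt N3459 (iv D4653)))
theorem Q4655 : ∀ i, i < 4655 → P i := stepQ 4654 Q4654 (allL N4654 (tt N6175 (iv F10180)) (tt N4123 F7596) (tt N3460 (iv D4654)) (tt N6178 D6178) (tt N6179 D6179) (tt N6165 (iv F10160)))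
theorem Q4656 : ∀ i, i < 4656 → P i := stepQ 4655 Q4655 (allL N4655 (tt N6176 (iv F10182)) (tt N3462 F7597) (tt N6179 (iv F10190)) (tt N6171 (iv F10170)) (tt N3460 (iv D4655)) (tt N6180 D6180))
theorem Q4657 : ∀ i, i < 4657 → P i := stepQ 4656 Q4656 (allL N4656 (tt N6177 (iv F10184)) (tt N3463 F7598) (tt N3481 F7599) (tt N6181 D6181) (tt N3461 (iv D4656)) (tt N6172 (iv F10173)))
theorem Q4658 : ∀ i, i < 4658 → P i := stepQ 4657 Q4657 (allL N4657 (tt N4137 F7600) (tt N6180 (iv F10191)) (tt N4047 F7601) (tt N6173 (iv F10176)) (tt N6133 (iv F10083)) (tt N3462 (iv D4657)))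
theorem Q4659 : ∀ i, i < 4659 → P i := stepQ 4658 Q4658 (allL N4658 (tt N6163 (iv F10153)) (tt N6181 (iv F10192)) (tt N6182 D6182) (tt N3463 (iv D4658)) (tt N6132 (iv F10080)) (tt N6174 (iv F10178)))
theorem Q4660 : ∀ i, i < 4660 → P i := stepQ 4659 Q4659 (allL N4659 (tt N6183 D6183) (tt N3464 (iv D4659)) (tt N3466 F7602) (tt N6184 D6184) (tt N5968 (iv F9744)) (tt N6185 D6185))
theorem Q4661 : ∀ i, i < 4661 → P i := stepQ 4660 Q4660 (allL N4660 (tt N5973 (iv F9754)) (tt N6184 (iv F10196)) (tt N6186 D6186) (tt N3464 (iv D4660)) (tt N6187 D6187) (tt N6186 F10200))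
theorem Q4662 : ∀ i, i < 4662 → P i := stepQ 4661 Q4661 (allL N4661 (tt N5974 (iv F9755)) (tt N6185 (iv F10197)) (tt N3465 F7603) (tt N6186 (iv F10199)) (tt N6188 D6188) (tt N3464 (iv D4661)))
theorem Q4663 : ∀ i, i < 4663 → P i := stepQ 4662 Q4662 (allL N4662 (tt N5975 (iv F9757)) (tt N3469 F7604) (tt N6188 (iv F10201)) (tt N5975 (iv F9759)) (tt N3465 (iv D4662)) (tt N5971 (iv F9751)))
theorem Q4664 : ∀ i, i < 4664 → P i := stepQ 4663 Q4663 (allL N4663 (tt N3466 (iv D4663)) (tt N5997 (iv F9814)) (tt N6183 (iv F10195)) (tt N6189 D6189) (tt N5989 (iv F9794)) (tt N6190 D6190))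
theorem Q4665 : ∀ i, i < 4665 → P i := stepQ 4664 Q4664 (allL N4664 (tt N6189 (iv F10202)) (tt N3467 F7605) (tt N6191 D6191) (tt N3466 (iv D4664)) (tt N6192 D6192) (tt N6160 (iv F10147)))
theorem Q4666 : ∀ i, i < 4666 → P i := stepQ 4665 Q4665 (allL N4665 (tt N6190 (iv F10203)) (tt N3468 F7606) (tt N6185 (iv F10198)) (tt N6160 (iv F10145)) (tt N6193 D6193) (tt N3466 (iv D4665)))
theorem Q4667 : ∀ i, i < 4667 → P i := stepQ 4666 Q4666 (allL N4666 (tt N6000 (iv F9822)) (tt N6192 (iv F10204)) (tt N6161 (iv F10149)) (tt N5991 (iv F9799)) (tt N3467 (iv D4666)) (tt N6194 D6194))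
theorem Q4668 : ∀ i, i < 4668 → P i := stepQ 4667 Q4667 (allL N4667 (tt N6001 (iv F9826)) (tt N6193 (iv F10205)) (tt N3469 F7607) (tt N6195 D6195) (tt N3468 (iv D4667)) (tt N5987 (iv F9789)))
theorem Q4669 : ∀ i, i < 4669 → P i := stepQ 4668 Q4668 (allL N4668 (tt N3471 F7608) (tt N6156 (iv F10137)) (tt N6196 D6196) (tt N3470 (iv D4668)) (tt N6197 D6197) (tt N6198 D6198))
theorem Q4670 : ∀ i, i < 4670 → P i := stepQ 4669 Q4669 (allL N4669 (tt N3472 F7609) (tt N6157 (iv F10140)) (tt N6169 (iv F10168)) (tt N6198 (iv F10219)) (tt N6199 D6199) (tt N3470 (iv D4669)))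
theorem Q4671 : ∀ i, i < 4671 → P i := stepQ 4670 Q4670 (allL N4670 (tt N6196 (iv F10214)) (tt N6200 D6200) (tt N3471 (iv D4670)) (tt N6201 D6201) (tt N6202 D6202) (tt N6203 D6203))
theorem Q4672 : ∀ i, i < 4672 → P i := stepQ 4671 Q4671 (allL N4671 (tt N6197 (iv F10215)) (tt N3474 F7610) (tt N6202 (iv F10224)) (tt N3480 F7611) (tt N3471 (iv D4671)) (tt N6204 D6204))
theorem Q4673 : ∀ i, i < 4673 → P i := stepQ 4672 Q4672 (allL N4672 (tt N6198 (iv F10218)) (tt N3475 F7612) (tt N6203 (iv F10225)) (tt N3472 F7613) (tt N6205 D6205) (tt N3471 (iv D4672)))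
theorem Q4674 : ∀ i, i < 4674 → P i := stepQ 4673 Q4673 (allL N4673 (tt N6199 (iv F10220)) (tt N3476 F7614) (tt N6172 (iv F10172)) (tt N6206 D6206) (tt N3472 (iv D4673)) (tt N3481 F7615))
theorem Q4675 : ∀ i, i < 4675 → P i := stepQ 4674 Q4674 (allL N4674 (tt N6207 D6207) (tt N3473 (iv D4674)) (tt N6200 (iv F10223)) (tt N5999 (iv F9821)) (tt N6208 D6208) (tt N5998 F9818))
theorem Q4676 : ∀ i, i < 4676 → P i := stepQ 4675 Q4675 (allL N4675 (tt N3526 F7616) (tt N6208 (iv F10231)) (tt N3474 F7617) (tt N4031 (iv F7618)) (tt N3473 (iv D4675)) (tt N4051 F7619))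
theorem Q4677 : ∀ i, i < 4677 → P i := stepQ 4676 Q4676 (allL N4676 (tt N3518 F7620) (tt N6204 (iv F10226)) (tt N4051 F7621) (tt N3482 F7622) (tt N6209 D6209) (tt N3474 (iv D4676)))
theorem Q4678 : ∀ i, i < 4678 → P i := stepQ 4677 Q4677 (allL N4677 (tt N6161 (iv F10148)) (tt N6205 (iv F10228)) (tt N6000 (iv F9823)) (tt N6210 D6210) (tt N3475 (iv D4677)) (tt N6209 (iv F10237)))
theorem Q4679 : ∀ i, i < 4679 → P i := stepQ 4678 Q4678 (allL N4678 (tt N3516 F7623) (tt N6206 (iv F10229)) (tt N6211 D6211) (tt N3476 (iv D4678)) (tt N6210 (iv F10240)) (tt N3483 F7624))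
theorem Q4680 : ∀ i, i < 4680 → P i := stepQ 4679 Q4679 (allL N4679 (tt N3479 F7625) (tt N3960 F7626) (tt N3477 (iv D4679)) (tt N6212 D6212) (tt N6213 D6213) (tt N3487 F7627))
theorem Q4681 : ∀ i, i < 4681 → P i := stepQ 4680 Q4680 (allL N4680 (tt N3480 F7628) (tt N3521 F7629) (tt N6213 (iv F10250)) (tt N6197 (iv F10217)) (tt N3477 (iv D4680)) (tt N6214 D6214))
theorem Q4682 : ∀ i, i < 4682 → P i := stepQ 4681 Q4681 (allL N4681 (tt N3481 F7630) (tt N3520 F7631) (tt N6177 (iv F10185)) (tt N6215 D6215) (tt N3478 (iv D4681)) (tt N6199 (iv F10222)))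
theorem Q4683 : ∀ i, i < 4683 → P i := stepQ 4682 Q4682 (allL N4682 (tt N6212 (iv F10245)) (tt N3491 F7632) (tt N6216 D6216) (tt N3479 (iv D4682)) (tt N6217 D6217) (tt N3488 F7633))
theorem Q4684 : ∀ i, i < 4684 → P i := stepQ 4683 Q4683 (allL N4683 (tt N6213 (iv F10248)) (tt N3492 F7634) (tt N3480 F7635) (tt N6218 D6218) (tt N3479 (iv D4683)) (tt N4448 F7636))
theorem Q4685 : ∀ i, i < 4685 → P i := stepQ 4684 Q4684 (allL N4684 (tt N6214 (iv F10252)) (tt N3482 F7637) (tt N4448 F7638) (tt N6204 (iv F10227)) (tt N3495 F7639) (tt N3480 (iv D4684)))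
theorem Q4686 : ∀ i, i < 4686 → P i := stepQ 4685 Q4685 (allL N4685 (tt N6215 (iv F10256)) (tt N3483 F7640) (tt N6219 D6219) (tt N3481 (iv D4685)) (tt N3494 F7641) (tt N6206 (iv F10230)))
theorem Q4687 : ∀ i, i < 4687 → P i := stepQ 4686 Q4686 (allL N4686 (tt N3515 F7642) (tt N6220 D6220) (tt N3483 (iv D4686)) (tt N6221 D6221) (tt N3496 F7643) (tt N6211 (iv F10244)))
theorem Q4688 : ∀ i, i < 4688 → P i := stepQ 4687 Q4687 (allL N4687 (tt N3484 (iv D4687)) (tt N6167 (iv F10163)) (tt N5240 (iv F8596)) (tt N6164 (iv F10157)) (tt N6222 D6222) (tt N4140 F7644))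
theorem Q4689 : ∀ i, i < 4689 → P i := stepQ 4688 Q4688 (allL N4688 (tt N6222 (iv F10268)) (tt N3485 F7645) (tt N5237 (iv F8588)) (tt N6223 D6223) (tt N3484 (iv D4688)) (tt N6224 D6224))
theorem Q4690 : ∀ i, i < 4690 → P i := stepQ 4689 Q4689 (allL N4689 (tt N6132 (iv F10079)) (tt N6223 (iv F10269)) (tt N6121 (iv F10060)) (tt N3485 (iv D4689)) (tt N6163 (iv F10154)) (tt N6120 F10059))
theorem Q4691 : ∀ i, i < 4691 → P i := stepQ 4690 Q4690 (allL N4690 (tt N6133 (iv F10081)) (tt N6224 (iv F10270)) (tt N3486 F7646) (tt N6120 (iv F10058)) (tt N4137 F7647) (tt N3485 (iv D4690)))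
theorem Q4692 : ∀ i, i < 4692 → P i := stepQ 4691 Q4691 (allL N4691 (tt N3488 F7648) (tt N3961 F7649) (tt N6178 (iv F10188)) (tt N3487 (iv D4691)) (tt N6225 D6225) (tt N6212 (iv F10247)))
theorem Q4693 : ∀ i, i < 4693 → P i := stepQ 4692 Q4692 (allL N4692 (tt N6178 (iv F10186)) (tt N6226 D6226) (tt N3488 (iv D4692)) (tt N6175 (iv F10181)) (tt N6227 D6227) (tt N6216 (iv F10260)))
theorem Q4694 : ∀ i, i < 4694 → P i := stepQ 4693 Q4693 (allL N4693 (tt N6225 (iv F10272)) (tt N3490 F7650) (tt N6227 (iv F10277)) (tt N4447 F7651) (tt N3488 (iv D4693)) (tt N6228 D6228))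
theorem Q4695 : ∀ i, i < 4695 → P i := stepQ 4694 Q4694 (allL N4694 (tt N6229 D6229) (tt N3489 (iv D4694)) (tt N6226 (iv F10275)) (tt N3555 F7652) (tt N6230 D6230) (tt N3557 F7653))
theorem Q4696 : ∀ i, i < 4696 → P i := stepQ 4695 Q4695 (allL N4695 (tt N3835 F7654) (tt N6230 (iv F10283)) (tt N3490 F7655) (tt N6231 D6231) (tt N3489 (iv D4695)) (tt N6232 D6232))
theorem Q4697 : ∀ i, i < 4697 → P i := stepQ 4696 Q4696 (allL N4696 (tt N3964 F7656) (tt N6228 (iv F10278)) (tt N6232 (iv F10287)) (tt N4449 F7657) (tt N6233 D6233) (tt N3490 (iv D4696)))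
theorem Q4698 : ∀ i, i < 4698 → P i := stepQ 4697 Q4697 (allL N4697 (tt N3833 F7658) (tt N6217 (iv F10261)) (tt N3558 F7659) (tt N6234 D6234) (tt N3491 (iv D4697)) (tt N6233 (iv F10291)))
theorem Q4699 : ∀ i, i < 4699 → P i := stepQ 4698 Q4698 (allL N4698 (tt N3959 F7660) (tt N6218 (iv F10262)) (tt N6235 D6235) (tt N3492 (iv D4698)) (tt N6234 (iv F10293)) (tt N4450 F7661))
theorem Q4700 : ∀ i, i < 4700 → P i := stepQ 4699 Q4699 (allL N4699 (tt N3494 F7662) (tt N3508 F7663) (tt N6236 D6236) (tt N3493 (iv D4699)) (tt N6215 (iv F10258)) (tt N6237 D6237))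
theorem Q4701 : ∀ i, i < 4701 → P i := stepQ 4700 Q4700 (allL N4700 (tt N3495 F7664) (tt N3509 F7665) (tt N4445 F7666) (tt N6237 (iv F10300)) (tt N6214 (iv F10255)) (tt N3493 (iv D4700)))
theorem Q4702 : ∀ i, i < 4702 → P i := stepQ 4701 Q4701 (allL N4701 (tt N6236 (iv F10297)) (tt N6238 D6238) (tt N3494 (iv D4701)) (tt N6239 D6239) (tt N6219 (iv F10264)) (tt N6240 D6240))
theorem Q4703 : ∀ i, i < 4703 → P i := stepQ 4702 Q4702 (allL N4702 (tt N6237 (iv F10298)) (tt N3497 F7667) (tt N6240 (iv F10304)) (tt N3495 F7668) (tt N6241 D6241) (tt N3494 (iv D4702)))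
theorem Q4704 : ∀ i, i < 4704 → P i := stepQ 4703 Q4703 (allL N4703 (tt N6242 D6242) (tt N3496 (iv D4703)) (tt N6238 (iv F10301)) (tt N3505 F7669) (tt N6220 (iv F10265)) (tt N3504 F7670))
theorem Q4705 : ∀ i, i < 4705 → P i := stepQ 4704 Q4704 (allL N4704 (tt N3517 F7671) (tt N6241 (iv F10305)) (tt N3506 F7672) (tt N6209 (iv F10236)) (tt N3497 (iv D4704)) (tt N6210 (iv F10241)))
theorem Q4706 : ∀ i, i < 4706 → P i := stepQ 4705 Q4705 (allL N4705 (tt N3501 F7673) (tt N5207 (iv F8531)) (tt N3499 F7674) (tt N6243 D6243) (tt N3498 (iv D4705)) (tt N6244 D6244))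
theorem Q4707 : ∀ i, i < 4707 → P i := stepQ 4706 Q4706 (allL N4706 (tt N3502 F7675) (tt N3527 F7676) (tt N6244 (iv F10311)) (tt N4118 F7677) (tt N5229 (iv F8572)) (tt N3499 (iv D4706)))
theorem Q4708 : ∀ i, i < 4708 → P i := stepQ 4707 Q4707 (allL N4707 (tt N5207 (iv F8530)) (tt N6037 (iv F9907)) (tt N5204 (iv F8525)) (tt N6245 D6245) (tt N3500 (iv D4707)) (tt N6246 D6246))
theorem Q4709 : ∀ i, i < 4709 → P i := stepQ 4708 Q4708 (allL N4708 (tt N6243 (iv F10309)) (tt N6039 (iv F9912)) (tt N6247 D6247) (tt N3501 (iv D4708)) (tt N6245 (iv F10312)) (tt N6248 D6248))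
theorem Q4710 : ∀ i, i < 4710 → P i := stepQ 4709 Q4709 (allL N4709 (tt N6244 (iv F10310)) (tt N6040 (iv F9913)) (tt N3502 F7678) (tt N6248 (iv F10313)) (tt N6126 (iv F10072)) (tt N3501 (iv D4709)))
theorem Q4711 : ∀ i, i < 4711 → P i := stepQ 4710 Q4710 (allL N4710 (tt N3504 F7679) (tt N6068 (iv F9977)) (tt N6249 D6249) (tt N3503 (iv D4710)) (tt N6250 D6250) (tt N6242 (iv F10308)))
theorem Q4712 : ∀ i, i < 4712 → P i := stepQ 4711 Q4711 (allL N4711 (tt N3505 F7680) (tt N6069 (iv F9980)) (tt N4427 F7681) (tt N6242 (iv F10307)) (tt N6251 D6251) (tt N3503 (iv D4711)))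
theorem Q4713 : ∀ i, i < 4713 → P i := stepQ 4712 Q4712 (allL N4712 (tt N6249 (iv F10314)) (tt N6240 (iv F10303)) (tt N3504 (iv D4712)) (tt N6252 D6252) (tt N6253 D6253) (tt N6238 F10302))
theorem Q4714 : ∀ i, i < 4714 → P i := stepQ 4713 Q4713 (allL N4713 (tt N6250 (iv F10315)) (tt N3506 F7682) (tt N6253 (iv F10318)) (tt N6051 (iv F9940)) (tt N3504 (iv D4713)) (tt N6254 D6254))
theorem Q4715 : ∀ i, i < 4715 → P i := stepQ 4714 Q4714 (allL N4714 (tt N6251 (iv F10316)) (tt N3507 F7683) (tt N4430 F7684) (tt N6255 D6255) (tt N3505 (iv D4714)) (tt N6046 (iv F9926)))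
theorem Q4716 : ∀ i, i < 4716 → P i := stepQ 4715 Q4715 (allL N4715 (tt N6073 (iv F9990)) (tt N6254 (iv F10319)) (tt N6210 (iv F10239)) (tt N6052 (iv F9943)) (tt N6211 (iv F10243)) (tt N3506 (iv D4715)))
theorem Q4717 : ∀ i, i < 4717 → P i := stepQ 4716 Q4716 (allL N4716 (tt N6074 (iv F9994)) (tt N6255 (iv F10320)) (tt N6102 (iv F10032)) (tt N3507 (iv D4716)) (tt N6221 (iv F10267)) (tt N6047 (iv F9929)))
theorem Q4718 : ∀ i, i < 4718 → P i := stepQ 4717 Q4717 (allL N4717 (tt N3510 F7685) (tt N6256 D6256) (tt N3508 (iv D4717)) (tt N4481 F7686) (tt N6257 D6257) (tt N6258 D6258))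
theorem Q4719 : ∀ i, i < 4719 → P i := stepQ 4718 Q4718 (allL N4718 (tt N3511 F7687) (tt N6215 (iv F10257)) (tt N6257 (iv F10323)) (tt N3520 F7688) (tt N3508 (iv D4718)) (tt N6259 D6259))
theorem Q4720 : ∀ i, i < 4720 → P i := stepQ 4719 Q4719 (allL N4719 (tt N3512 F7689) (tt N6237 (iv F10299)) (tt N6258 (iv F10325)) (tt N3509 F7690) (tt N6260 D6260) (tt N3508 (iv D4719)))
theorem Q4721 : ∀ i, i < 4721 → P i := stepQ 4720 Q4720 (allL N4720 (tt N3513 F7691) (tt N6214 (iv F10253)) (tt N4077 F7692) (tt N6261 D6261) (tt N3509 (iv D4720)) (tt N3521 F7693))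
theorem Q4722 : ∀ i, i < 4722 → P i := stepQ 4721 Q4721 (allL N4721 (tt N6262 D6262) (tt N3510 (iv D4721)) (tt N3514 F7694) (tt N6263 D6263) (tt N6264 D6264) (tt N6070 (iv F9984)))
theorem Q4723 : ∀ i, i < 4723 → P i := stepQ 4722 Q4722 (allL N4722 (tt N4481 F7695) (tt N6263 (iv F10333)) (tt N4480 F7696) (tt N3510 (iv D4722)) (tt N6265 D6265) (tt N6266 D6266))
theorem Q4724 : ∀ i, i < 4724 → P i := stepQ 4723 Q4723 (allL N4723 (tt N6257 (iv F10322)) (tt N6264 (iv F10334)) (tt N3511 F7697) (tt N6267 D6267) (tt N3510 (iv D4723)) (tt N6268 D6268))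
theorem Q4725 : ∀ i, i < 4725 → P i := stepQ 4724 Q4724 (allL N4724 (tt N6258 (iv F10324)) (tt N6070 (iv F9983)) (tt N3512 F7698) (tt N6266 (iv F10340)) (tt N6269 D6269) (tt N3510 (iv D4724)))
theorem Q4726 : ∀ i, i < 4726 → P i := stepQ 4725 Q4725 (allL N4725 (tt N6259 (iv F10327)) (tt N3516 F7699) (tt N6268 (iv F10341)) (tt N3524 F7700) (tt N6270 D6270) (tt N3511 (iv D4725)))
theorem Q4727 : ∀ i, i < 4727 → P i := stepQ 4726 Q4726 (allL N4726 (tt N6260 (iv F10329)) (tt N3517 F7701) (tt N6269 (iv F10342)) (tt N6271 D6271) (tt N3512 (iv D4726)) (tt N6270 (iv F10344)))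
theorem Q4728 : ∀ i, i < 4728 → P i := stepQ 4727 Q4727 (allL N4727 (tt N6261 (iv F10330)) (tt N3518 F7702) (tt N6272 D6272) (tt N3513 (iv D4727)) (tt N6271 (iv F10346)) (tt N3525 F7703))
theorem Q4729 : ∀ i, i < 4729 → P i := stepQ 4728 Q4728 (allL N4728 (tt N3514 (iv D4728)) (tt N6242 (iv F10306)) (tt N6262 (iv F10332)) (tt N6069 (iv F9982)) (tt N6273 D6273) (tt N6068 F9978))
theorem Q4730 : ∀ i, i < 4730 → P i := stepQ 4729 Q4729 (allL N4729 (tt N6273 (iv F10348)) (tt N3515 F7704) (tt N6264 (iv F10335)) (tt N6274 D6274) (tt N3514 (iv D4729)) (tt N6275 D6275))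
theorem Q4731 : ∀ i, i < 4731 → P i := stepQ 4730 Q4730 (allL N4730 (tt N6221 (iv F10266)) (tt N6274 (iv F10349)) (tt N6174 (iv F10179)) (tt N3515 (iv D4730)) (tt N6074 (iv F9995)) (tt N6182 (iv F10193)))
theorem Q4732 : ∀ i, i < 4732 → P i := stepQ 4731 Q4731 (allL N4731 (tt N6211 (iv F10242)) (tt N6275 (iv F10350)) (tt N3516 F7705) (tt N6182 (iv F10194)) (tt N6073 (iv F9993)) (tt N3515 (iv D4731)))
theorem Q4733 : ∀ i, i < 4733 → P i := stepQ 4732 Q4732 (allL N4732 (tt N6210 (iv F10238)) (tt N6270 (iv F10343)) (tt N6073 (iv F9991)) (tt N6161 (iv F10150)) (tt N3516 (iv D4732)) (tt N3517 F7706))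
theorem Q4734 : ∀ i, i < 4734 → P i := stepQ 4733 Q4733 (allL N4733 (tt N6209 (iv F10234)) (tt N6271 (iv F10345)) (tt N6194 (iv F10207)) (tt N3517 (iv D4733)) (tt N3518 F7707) (tt N6161 (iv F10151)))
theorem Q4735 : ∀ i, i < 4735 → P i := stepQ 4734 Q4734 (allL N4734 (tt N4051 F7708) (tt N6276 D6276) (tt N3518 (iv D4734)) (tt N4001 F7709) (tt N6194 (iv F10209)) (tt N3526 F7710))
theorem Q4736 : ∀ i, i < 4736 → P i := stepQ 4735 Q4735 (allL N4735 (tt N6141 (iv F10103)) (tt N3519 (iv D4735)) (tt N6164 (iv F10156)) (tt N6277 D6277) (tt N6278 D6278) (tt N6139 F10098))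
theorem Q4737 : ∀ i, i < 4737 → P i := stepQ 4736 Q4736 (allL N4736 (tt N3522 F7711) (tt N6277 (iv F10354)) (tt N3983 F7712) (tt N3519 (iv D4736)) (tt N6279 D6279) (tt N4087 F7713))
theorem Q4738 : ∀ i, i < 4738 → P i := stepQ 4737 Q4737 (allL N4737 (tt N3523 F7714) (tt N6278 (iv F10357)) (tt N3520 F7715) (tt N6280 D6280) (tt N3519 (iv D4737)) (tt N6281 D6281))
theorem Q4739 : ∀ i, i < 4739 → P i := stepQ 4738 Q4738 (allL N4738 (tt N3524 F7716) (tt N6199 (iv F10221)) (tt N6281 (iv F10362)) (tt N6259 (iv F10328)) (tt N6157 (iv F10141)) (tt N3520 (iv D4738)))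
theorem Q4740 : ∀ i, i < 4740 → P i := stepQ 4739 Q4739 (allL N4739 (tt N3525 F7717) (tt N6197 (iv F10216)) (tt N6282 D6282) (tt N3521 (iv D4739)) (tt N6156 (iv F10138)) (tt N6261 (iv F10331)))
theorem Q4741 : ∀ i, i < 4741 → P i := stepQ 4740 Q4740 (allL N4740 (tt N3983 F7718) (tt N6283 D6283) (tt N3522 (iv D4740)) (tt N3982 F7719) (tt N6284 D6284) (tt N4085 F7720))
theorem Q4742 : ∀ i, i < 4742 → P i := stepQ 4741 Q4741 (allL N4741 (tt N6279 (iv F10358)) (tt N6154 (iv F10133)) (tt N6284 (iv F10370)) (tt N6285 D6285) (tt N3522 (iv D4741)) (tt N6286 D6286))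
theorem Q4743 : ∀ i, i < 4743 → P i := stepQ 4742 Q4742 (allL N4742 (tt N6280 (iv F10360)) (tt N6155 (iv F10135)) (tt N6287 D6287) (tt N3523 (iv D4742)) (tt N6285 (iv F10372)) (tt N6288 D6288))
theorem Q4744 : ∀ i, i < 4744 → P i := stepQ 4743 Q4743 (allL N4743 (tt N6281 (iv F10361)) (tt N6149 (iv F10120)) (tt N3524 F7721) (tt N6288 (iv F10373)) (tt N6146 (iv F10116)) (tt N3523 (iv D4743)))
theorem Q4745 : ∀ i, i < 4745 → P i := stepQ 4744 Q4744 (allL N4744 (tt N6282 (iv F10363)) (tt N6289 D6289) (tt N3525 (iv D4744)) (tt N6282 (iv F10364)) (tt N6158 (iv F10142)) (tt N6272 (iv F10347)))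
theorem Q4746 : ∀ i, i < 4746 → P i := stepQ 4745 Q4745 (allL N4745 (tt N6290 D6290) (tt N3526 (iv D4745)) (tt N6289 (iv F10374)) (tt N6291 D6291) (tt N6160 (iv F10146)) (tt N6276 (iv F10352)))
theorem Q4747 : ∀ i, i < 4747 → P i := stepQ 4746 Q4746 (allL N4746 (tt N4031 F7722) (tt N6291 (iv F10375)) (tt N3996 F7723) (tt N3526 (iv D4746)) (tt N6195 (iv F10212)) (tt N4001 F7724))
theorem Q4748 : ∀ i, i < 4748 → P i := stepQ 4747 Q4747 (allL N4747 (tt N3529 F7725) (tt N5204 (iv F8524)) (tt N3532 F7726) (tt N6292 D6292) (tt N3528 (iv D4747)) (tt N6293 D6293))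
theorem Q4749 : ∀ i, i < 4749 → P i := stepQ 4748 Q4748 (allL N4748 (tt N6292 (iv F10377)) (tt N3530 F7727) (tt N6294 D6294) (tt N3529 (iv D4748)) (tt N5200 (iv F8517)) (tt N6295 D6295))
theorem Q4750 : ∀ i, i < 4750 → P i := stepQ 4749 Q4749 (allL N4749 (tt N6293 (iv F10378)) (tt N3531 F7728) (tt N3534 F7729) (tt N6295 (iv F10381)) (tt N5234 (iv F8586)) (tt N3529 (iv D4749)))
theorem Q4751 : ∀ i, i < 4751 → P i := stepQ 4750 Q4750 (allL N4750 (tt N5212 (iv F8539)) (tt N6296 D6296) (tt N3530 (iv D4750)) (tt N5715 (iv F9409)) (tt N5202 (iv F8520)) (tt N5714 (iv F9406)))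
theorem Q4752 : ∀ i, i < 4752 → P i := stepQ 4751 Q4751 (allL N4751 (tt N5213 (iv F8541)) (tt N6295 (iv F10380)) (tt N5714 (iv F9405)) (tt N3531 F7730) (tt N6297 D6297) (tt N3530 (iv D4751)))
theorem Q4753 : ∀ i, i < 4753 → P i := stepQ 4752 Q4752 (allL N4752 (tt N3533 F7731) (tt N6031 (iv F9897)) (tt N6298 D6298) (tt N3532 (iv D4752)) (tt N5994 (iv F9809)) (tt N6299 D6299))
theorem Q4754 : ∀ i, i < 4754 → P i := stepQ 4753 Q4753 (allL N4753 (tt N3534 F7732) (tt N6038 (iv F9910)) (tt N6293 (iv F10379)) (tt N6299 (iv F10384)) (tt N6067 (iv F9975)) (tt N3532 (iv D4753)))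
theorem Q4755 : ∀ i, i < 4755 → P i := stepQ 4754 Q4754 (allL N4754 (tt N6298 (iv F10382)) (tt N6300 D6300) (tt N3533 (iv D4754)) (tt N6301 D6301) (tt N5995 (iv F9810)) (tt N6302 D6302))
theorem Q4756 : ∀ i, i < 4756 → P i := stepQ 4755 Q4755 (allL N4755 (tt N6299 (iv F10383)) (tt N3536 F7733) (tt N6302 (iv F10386)) (tt N3534 F7734) (tt N6303 D6303) (tt N3533 (iv D4755)))
theorem Q4757 : ∀ i, i < 4757 → P i := stepQ 4756 Q4756 (allL N4756 (tt N6304 D6304) (tt N3535 (iv D4756)) (tt N6300 (iv F10385)) (tt N6305 D6305) (tt N5996 (iv F9812)) (tt N6306 D6306))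
theorem Q4758 : ∀ i, i < 4758 → P i := stepQ 4757 Q4757 (allL N4757 (tt N4135 F7735) (tt N6305 (iv F10388)) (tt N4048 F7736) (tt N3535 (iv D4757)) (tt N6008 (iv F9841)) (tt N4049 F7737))
theorem Q4759 : ∀ i, i < 4759 → P i := stepQ 4758 Q4758 (allL N4758 (tt N4134 F7738) (tt N6306 (iv F10390)) (tt N3536 F7739) (tt N4049 F7740) (tt N6007 (iv F9839)) (tt N3535 (iv D4758)))
theorem Q4760 : ∀ i, i < 4760 → P i := stepQ 4759 Q4759 (allL N4759 (tt N6030 (iv F9892)) (tt N6303 (iv F10387)) (tt N6007 (iv F9837)) (tt N6056 (iv F9953)) (tt N3536 (iv D4759)) (tt N5993 (iv F9806)))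
theorem Q4761 : ∀ i, i < 4761 → P i := stepQ 4760 Q4760 (allL N4760 (tt N5676 (iv F9343)) (tt N3540 F7741) (tt N4248 F7742) (tt N5147 (iv F8437)) (tt N3538 (iv D4760)) (tt N6307 D6307))
theorem Q4762 : ∀ i, i < 4762 → P i := stepQ 4761 Q4761 (allL N4761 (tt N3712 F7743) (tt N3541 F7744) (tt N3574 F7745) (tt N6308 D6308) (tt N3539 (iv D4761)) (tt N5149 (iv F8443)))
theorem Q4763 : ∀ i, i < 4763 → P i := stepQ 4762 Q4762 (allL N4762 (tt N3551 F7746) (tt N6307 (iv F10392)) (tt N3955 F7747) (tt N5151 (iv F8447)) (tt N3954 F7748) (tt N3540 (iv D4762)))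
theorem Q4764 : ∀ i, i < 4764 → P i := stepQ 4763 Q4763 (allL N4763 (tt N3553 F7749) (tt N6308 (iv F10396)) (tt N6309 D6309) (tt N3541 (iv D4763)) (tt N3953 F7750) (tt N5152 (iv F8449)))
theorem Q4765 : ∀ i, i < 4765 → P i := stepQ 4764 Q4764 (allL N4764 (tt N3543 F7751) (tt N5144 (iv F8431)) (tt N6310 D6310) (tt N3542 (iv D4764)) (tt N5677 (iv F9347)) (tt N6311 D6311))
theorem Q4766 : ∀ i, i < 4766 → P i := stepQ 4765 Q4765 (allL N4765 (tt N3544 F7752) (tt N5145 (iv F8433)) (tt N3560 F7753) (tt N6311 (iv F10402)) (tt N3715 F7754) (tt N3542 (iv D4765)))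
theorem Q4767 : ∀ i, i < 4767 → P i := stepQ 4766 Q4766 (allL N4766 (tt N6310 (iv F10400)) (tt N6312 D6312) (tt N3543 (iv D4766)) (tt N6313 D6313) (tt N6314 D6314) (tt N6312 F10404))
theorem Q4768 : ∀ i, i < 4768 → P i := stepQ 4767 Q4767 (allL N4767 (tt N5677 (iv F9346)) (tt N3546 F7755) (tt N6314 (iv F10405)) (tt N3548 F7756) (tt N3543 (iv D4767)) (tt N6315 D6315))
theorem Q4769 : ∀ i, i < 4769 → P i := stepQ 4768 Q4768 (allL N4768 (tt N6311 (iv F10401)) (tt N3545 F7757) (tt N6312 (iv F10403)) (tt N3544 F7758) (tt N6316 D6316) (tt N3543 (iv D4768)))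
theorem Q4770 : ∀ i, i < 4770 → P i := stepQ 4769 Q4769 (allL N4769 (tt N5150 (iv F8444)) (tt N6316 (iv F10408)) (tt N3546 F7759) (tt N6317 D6317) (tt N3545 (iv D4769)) (tt N6318 D6318))
theorem Q4771 : ∀ i, i < 4771 → P i := stepQ 4770 Q4770 (allL N4770 (tt N5151 (iv F8446)) (tt N6315 (iv F10406)) (tt N6318 (iv F10412)) (tt N3551 F7760) (tt N6318 (iv F10413)) (tt N3546 (iv D4770)))
theorem Q4772 : ∀ i, i < 4772 → P i := stepQ 4771 Q4771 (allL N4771 (tt N5152 (iv F8448)) (tt N3722 F7761) (tt N6319 D6319) (tt N3547 (iv D4771)) (tt N6317 (iv F10411)) (tt N3553 F7762))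
theorem Q4773 : ∀ i, i < 4773 → P i := stepQ 4772 Q4772 (allL N4772 (tt N5678 (iv F9348)) (tt N3551 F7763) (tt N5673 (iv F9338)) (tt N6315 (iv F10407)) (tt N3720 F7764) (tt N3548 (iv D4772)))
theorem Q4774 : ∀ i, i < 4774 → P i := stepQ 4773 Q4773 (allL N4773 (tt N4238 F7765) (tt N3550 F7766) (tt N5669 (iv F9332)) (tt N6320 D6320) (tt N3549 (iv D4773)) (tt N6321 D6321))
theorem Q4775 : ∀ i, i < 4775 → P i := stepQ 4774 Q4774 (allL N4774 (tt N3956 F7767) (tt N6320 (iv F10417)) (tt N6322 D6322) (tt N3550 (iv D4774)) (tt N3937 F7768) (tt N6323 D6323))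
theorem Q4776 : ∀ i, i < 4776 → P i := stepQ 4775 Q4775 (allL N4775 (tt N3955 F7769) (tt N6321 (iv F10420)) (tt N3551 F7770) (tt N6323 (iv F10425)) (tt N3936 F7771) (tt N3550 (iv D4775)))
theorem Q4777 : ∀ i, i < 4777 → P i := stepQ 4776 Q4776 (allL N4776 (tt N3954 F7772) (tt N3720 F7773) (tt N3936 F7774) (tt N6324 D6324) (tt N3551 (iv D4776)) (tt N3552 F7775))
theorem Q4778 : ∀ i, i < 4778 → P i := stepQ 4777 Q4777 (allL N4777 (tt N3953 F7776) (tt N3719 F7777) (tt N6325 D6325) (tt N3552 (iv D4777)) (tt N3553 F7778) (tt N6324 (iv F10429)))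
theorem Q4779 : ∀ i, i < 4779 → P i := stepQ 4778 Q4778 (allL N4778 (tt N6309 (iv F10398)) (tt N6326 D6326) (tt N3553 (iv D4778)) (tt N6327 D6327) (tt N6325 (iv F10431)) (tt N6319 (iv F10414)))
theorem Q4780 : ∀ i, i < 4780 → P i := stepQ 4779 Q4779 (allL N4779 (tt N6328 D6328) (tt N3554 (iv D4779)) (tt N3565 F7779) (tt N6329 D6329) (tt N3555 F7780) (tt N4839 (iv F7908)))
theorem Q4781 : ∀ i, i < 4781 → P i := stepQ 4780 Q4780 (allL N4780 (tt N3836 F7781) (tt N6329 (iv F10438)) (tt N6330 D6330) (tt N3554 (iv D4780)) (tt N6231 (iv F10285)) (tt N4842 (iv F7911)))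
theorem Q4782 : ∀ i, i < 4782 → P i := stepQ 4781 Q4781 (allL N4781 (tt N3555 (iv D4781)) (tt N3801 F7782) (tt N3567 F7783) (tt N6229 (iv F10281)) (tt N6328 (iv F10437)) (tt N3556 F7784))
theorem Q4783 : ∀ i, i < 4783 → P i := stepQ 4782 Q4782 (allL N4782 (tt N3557 F7785) (tt N3829 F7786) (tt N5876 (iv F9642)) (tt N3556 (iv D4782)) (tt N6331 D6331) (tt N6229 (iv F10282)))
theorem Q4784 : ∀ i, i < 4784 → P i := stepQ 4783 Q4783 (allL N4783 (tt N5876 (iv F9641)) (tt N6216 (iv F10259)) (tt N3557 (iv D4783)) (tt N5874 (iv F9639)) (tt N6332 D6332) (tt N6226 (iv F10276)))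
theorem Q4785 : ∀ i, i < 4785 → P i := stepQ 4784 Q4784 (allL N4784 (tt N6331 (iv F10440)) (tt N3558 F7787) (tt N6332 (iv F10442)) (tt N4837 (iv F7903)) (tt N3557 (iv D4784)) (tt N6333 D6333))
theorem Q4786 : ∀ i, i < 4786 → P i := stepQ 4785 Q4785 (allL N4785 (tt N3834 F7788) (tt N6333 (iv F10443)) (tt N6233 (iv F10290)) (tt N4841 (iv F7910)) (tt N6232 (iv F10288)) (tt N3558 (iv D4785)))
theorem Q4787 : ∀ i, i < 4787 → P i := stepQ 4786 Q4786 (allL N4786 (tt N3561 F7789) (tt N6334 D6334) (tt N3559 (iv D4786)) (tt N6335 D6335) (tt N3716 F7790) (tt N6336 D6336))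
theorem Q4788 : ∀ i, i < 4788 → P i := stepQ 4787 Q4787 (allL N4787 (tt N3562 F7791) (tt N3616 F7792) (tt N6336 (iv F10448)) (tt N3560 F7793) (tt N6337 D6337) (tt N3559 (iv D4787)))
theorem Q4789 : ∀ i, i < 4789 → P i := stepQ 4788 Q4788 (allL N4788 (tt N6338 D6338) (tt N3561 (iv D4788)) (tt N3563 F7794) (tt N6339 D6339) (tt N3723 F7795) (tt N3609 (iv F7796)))
theorem Q4790 : ∀ i, i < 4790 → P i := stepQ 4789 Q4789 (allL N4789 (tt N6335 (iv F10446)) (tt N6339 (iv F10456)) (tt N6340 D6340) (tt N3561 (iv D4789)) (tt N6341 D6341) (tt N6342 D6342))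
theorem Q4791 : ∀ i, i < 4791 → P i := stepQ 4790 Q4790 (allL N4790 (tt N6336 (iv F10447)) (tt N3609 F7797) (tt N3562 F7798) (tt N6342 (iv F10460)) (tt N6343 D6343) (tt N3561 (iv D4790)))
theorem Q4792 : ∀ i, i < 4792 → P i := stepQ 4791 Q4791 (allL N4791 (tt N6337 (iv F10449)) (tt N3564 F7799) (tt N6343 (iv F10462)) (tt N3704 F7800) (tt N3562 (iv D4791)) (tt N3705 F7801))
theorem Q4793 : ∀ i, i < 4793 → P i := stepQ 4792 Q4792 (allL N4792 (tt N3563 (iv D4792)) (tt N3625 F7802) (tt N6338 (iv F10453)) (tt N3608 F7803) (tt N3725 F7804) (tt N3607 F7805))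
theorem Q4794 : ∀ i, i < 4794 → P i := stepQ 4793 Q4793 (allL N4793 (tt N3565 (iv D4793)) (tt N3645 F7806) (tt N6328 (iv F10436)) (tt N6344 D6344) (tt N3567 F7807) (tt N4845 (iv F7916)))
theorem Q4795 : ∀ i, i < 4795 → P i := stepQ 4794 Q4794 (allL N4794 (tt N6344 (iv F10464)) (tt N3566 F7808) (tt N6345 D6345) (tt N3565 (iv D4794)) (tt N3654 F7809) (tt N4849 (iv F7923)))
theorem Q4796 : ∀ i, i < 4796 → P i := stepQ 4795 Q4795 (allL N4795 (tt N3568 (iv D4795)) (tt N5852 (iv F9606)) (tt N3570 F7810) (tt N3887 (iv F7812)) (tt N4999 (iv F8156)) (tt N3648 F7811))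
theorem Q4797 : ∀ i, i < 4797 → P i := stepQ 4796 Q4796 (allL N4796 (tt N3887 F7813) (tt N3569 F7814) (tt N3883 F7816) (tt N3568 (iv D4796)) (tt N6346 D6346) (tt N3650 F7815))
theorem Q4798 : ∀ i, i < 4798 → P i := stepQ 4797 Q4797 (allL N4797 (tt N3978 F7817) (tt N6347 D6347) (tt N3569 (iv D4797)) (tt N3976 F7818) (tt N6348 D6348) (tt N3981 F7819))
theorem Q4799 : ∀ i, i < 4799 → P i := stepQ 4798 Q4798 (allL N4798 (tt N5854 (iv F9614)) (tt N6346 (iv F10470)) (tt N6348 (iv F10477)) (tt N5003 (iv F8161)) (tt N3569 (iv D4798)) (tt N6349 D6349))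
theorem Q4800 : ∀ i, i < 4800 → P i := stepQ 4799 Q4799 (allL N4799 (tt N3573 F7820) (tt N3585 F7821) (tt N4379 F7822) (tt N5154 (iv F8453)) (tt N3571 (iv D4799)) (tt N6350 D6350))
theorem Q4801 : ∀ i, i < 4801 → P i := stepQ 4800 Q4800 (allL N4800 (tt N3574 F7823) (tt N3587 F7824) (tt N3712 F7825) (tt N6351 D6351) (tt N3572 (iv D4800)) (tt N5155 (iv F8457)))
theorem Q4802 : ∀ i, i < 4802 → P i := stepQ 4801 Q4801 (allL N4801 (tt N6350 (iv F10478)) (tt N3575 F7826) (tt N4381 F7827) (tt N5158 (iv F8460)) (tt N3669 F7828) (tt N3573 (iv D4801)))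
theorem Q4803 : ∀ i, i < 4803 → P i := stepQ 4802 Q4802 (allL N4802 (tt N6351 (iv F10482)) (tt N3576 F7829) (tt N6352 D6352) (tt N3574 (iv D4802)) (tt N3668 F7830) (tt N5159 (iv F8462)))
theorem Q4804 : ∀ i, i < 4804 → P i := stepQ 4803 Q4803 (allL N4803 (tt N3600 F7831) (tt N6353 D6353) (tt N3576 (iv D4803)) (tt N3881 F7834) (tt N3670 F7832) (tt N3893 F7833))
theorem Q4805 : ∀ i, i < 4805 → P i := stepQ 4804 Q4804 (allL N4804 (tt N3579 F7835) (tt N6354 D6354) (tt N3577 (iv D4804)) (tt N6355 D6355) (tt N6356 D6356) (tt N5167 (iv F8475)))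
theorem Q4806 : ∀ i, i < 4806 → P i := stepQ 4805 Q4805 (allL N4805 (tt N3580 F7836) (tt N5154 (iv F8452)) (tt N6356 (iv F10493)) (tt N3585 F7837) (tt N3577 (iv D4805)) (tt N6357 D6357))
theorem Q4807 : ∀ i, i < 4807 → P i := stepQ 4806 Q4806 (allL N4806 (tt N3581 F7838) (tt N5155 (iv F8455)) (tt N3617 F7839) (tt N6358 D6358) (tt N3578 (iv D4806)) (tt N3587 F7840))
theorem Q4808 : ∀ i, i < 4808 → P i := stepQ 4807 Q4807 (allL N4807 (tt N6355 (iv F10489)) (tt N5172 (iv F8485)) (tt N6359 D6359) (tt N3579 (iv D4807)) (tt N6360 D6360) (tt N5168 (iv F8479)))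
theorem Q4809 : ∀ i, i < 4809 → P i := stepQ 4808 Q4808 (allL N4808 (tt N6356 (iv F10492)) (tt N5175 (iv F8488)) (tt N3580 F7841) (tt N6361 D6361) (tt N3579 (iv D4808)) (tt N6362 D6362))
theorem Q4810 : ∀ i, i < 4810 → P i := stepQ 4809 Q4809 (allL N4809 (tt N6357 (iv F10494)) (tt N3582 F7842) (tt N6362 (iv F10501)) (tt N3592 F7843) (tt N5181 (iv F8499)) (tt N3580 (iv D4809)))
theorem Q4811 : ∀ i, i < 4811 → P i := stepQ 4810 Q4810 (allL N4810 (tt N6358 (iv F10496)) (tt N3583 F7844) (tt N6363 D6363) (tt N3581 (iv D4810)) (tt N5180 (iv F8497)) (tt N3594 F7845))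
theorem Q4812 : ∀ i, i < 4812 → P i := stepQ 4811 Q4811 (allL N4811 (tt N3893 F7846) (tt N6364 D6364) (tt N3583 (iv D4811)) (tt N3797 F7847) (tt N5045 (iv F8241)) (tt N3600 F7848))
theorem Q4813 : ∀ i, i < 4813 → P i := stepQ 4812 Q4812 (allL N4812 (tt N4201 F7849) (tt N3584 (iv D4812)) (tt N4197 F7850) (tt N3675 F7851) (tt N6365 D6365) (tt N3686 (iv F7852)))
theorem Q4814 : ∀ i, i < 4814 → P i := stepQ 4813 Q4813 (allL N4813 (tt N3590 F7853) (tt N6365 (iv F10506)) (tt N3585 F7854) (tt N6366 D6366) (tt N3584 (iv D4813)) (tt N6367 D6367))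
theorem Q4815 : ∀ i, i < 4815 → P i := stepQ 4814 Q4814 (allL N4814 (tt N3591 F7855) (tt N3686 F7856) (tt N3586 F7857) (tt N3640 F7858) (tt N6368 D6368) (tt N3584 (iv D4814)))
theorem Q4816 : ∀ i, i < 4816 → P i := stepQ 4815 Q4815 (allL N4815 (tt N3592 F7859) (tt N6350 (iv F10479)) (tt N6367 (iv F10511)) (tt N6357 (iv F10495)) (tt N6369 D6369) (tt N3585 (iv D4815)))
theorem Q4817 : ∀ i, i < 4817 → P i := stepQ 4816 Q4816 (allL N4816 (tt N3593 F7860) (tt N3667 F7861) (tt N6368 (iv F10514)) (tt N6370 D6370) (tt N3586 (iv D4816)) (tt N6369 (iv F10517)))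
theorem Q4818 : ∀ i, i < 4818 → P i := stepQ 4817 Q4817 (allL N4817 (tt N3594 F7862) (tt N6351 (iv F10483)) (tt N6371 D6371) (tt N3587 (iv D4817)) (tt N6370 (iv F10520)) (tt N6358 (iv F10497)))
theorem Q4819 : ∀ i, i < 4819 → P i := stepQ 4818 Q4818 (allL N4818 (tt N4119 F7863) (tt N3589 F7864) (tt N3690 F7866) (tt N3588 (iv D4818)) (tt N6372 D6372) (tt N3658 F7865))
theorem Q4820 : ∀ i, i < 4820 → P i := stepQ 4819 Q4819 (allL N4819 (tt N4377 F7867) (tt N3590 F7868) (tt N3595 F7869) (tt N6373 D6373) (tt N3588 (iv D4819)) (tt N6374 D6374))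
theorem Q4821 : ∀ i, i < 4821 → P i := stepQ 4820 Q4820 (allL N4820 (tt N3642 F7870) (tt N6372 (iv F10523)) (tt N3639 F7871) (tt N6375 D6375) (tt N3589 (iv D4820)) (tt N6376 D6376))
theorem Q4822 : ∀ i, i < 4822 → P i := stepQ 4821 Q4821 (allL N4821 (tt N3640 F7872) (tt N3658 F7873) (tt N3637 F7874) (tt N3591 F7875) (tt N6377 D6377) (tt N3589 (iv D4821)))
theorem Q4823 : ∀ i, i < 4823 → P i := stepQ 4822 Q4822 (allL N4822 (tt N6366 (iv F10508)) (tt N6373 (iv F10526)) (tt N6378 D6378) (tt N3590 (iv D4822)) (tt N6375 (iv F10532)) (tt N6379 D6379))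
theorem Q4824 : ∀ i, i < 4824 → P i := stepQ 4823 Q4823 (allL N4823 (tt N6367 (iv F10510)) (tt N6374 (iv F10528)) (tt N3592 F7876) (tt N6379 (iv F10538)) (tt N6380 D6380) (tt N3590 (iv D4823)))
theorem Q4825 : ∀ i, i < 4825 → P i := stepQ 4824 Q4824 (allL N4824 (tt N6368 (iv F10512)) (tt N3659 F7877) (tt N3593 F7878) (tt N6381 D6381) (tt N3591 (iv D4824)) (tt N6380 (iv F10541)))
theorem Q4826 : ∀ i, i < 4826 → P i := stepQ 4825 Q4825 (allL N4825 (tt N6369 (iv F10515)) (tt N3598 F7879) (tt N6380 (iv F10540)) (tt N6382 D6382) (tt N3592 (iv D4825)) (tt N3593 F7880))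
theorem Q4827 : ∀ i, i < 4827 → P i := stepQ 4826 Q4826 (allL N4826 (tt N6370 (iv F10518)) (tt N3599 F7881) (tt N6383 D6383) (tt N3593 (iv D4826)) (tt N3594 F7882) (tt N6382 (iv F10544)))
theorem Q4828 : ∀ i, i < 4828 → P i := stepQ 4827 Q4827 (allL N4827 (tt N6371 (iv F10521)) (tt N6384 D6384) (tt N3594 (iv D4827)) (tt N6385 D6385) (tt N6383 (iv F10545)) (tt N6363 (iv F10502)))
theorem Q4829 : ∀ i, i < 4829 → P i := stepQ 4828 Q4828 (allL N4828 (tt N4142 F7883) (tt N3596 F7884) (tt N6386 D6386) (tt N3595 (iv D4828)) (tt N3661 F7885) (tt N5223 (iv F8557)))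
theorem Q4830 : ∀ i, i < 4830 → P i := stepQ 4829 Q4829 (allL N4829 (tt N4378 F7886) (tt N3597 F7887) (tt N6374 (iv F10529)) (tt N5223 (iv F8556)) (tt N3660 F7888) (tt N3595 (iv D4829)))
theorem Q4831 : ∀ i, i < 4831 → P i := stepQ 4830 Q4830 (allL N4830 (tt N3671 F7889) (tt N6382 (iv F10543)) (tt N3913 F7890) (tt N3598 (iv D4830)) (tt N5053 (iv F8255)) (tt N3599 F7891))
theorem Q4832 : ∀ i, i < 4832 → P i := stepQ 4831 Q4831 (allL N4831 (tt N3670 F7892) (tt N6387 D6387) (tt N3599 (iv D4831)) (tt N3914 F7893) (tt N3600 F7894) (tt N3913 F7895))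
theorem Q4833 : ∀ i, i < 4833 → P i := stepQ 4832 Q4832 (allL N4832 (tt N6388 D6388) (tt N3600 (iv D4832)) (tt N6384 (iv F10546)) (tt N6389 D6389) (tt N6387 (iv F10551)) (tt N6364 (iv F10504)))
theorem Q4834 : ∀ i, i < 4834 → P i := stepQ 4833 Q4833 (allL N4833 (tt N3881 F7896) (tt N6389 (iv F10553)) (tt N3798 F7897) (tt N3600 (iv D4833)) (tt N5044 (iv F8240)) (tt N3797 F7898))
theorem Q4835 : ∀ i, i < 4835 → P i := stepQ 4834 Q4834 (allL N4834 (tt N3602 F7899) (tt N5109 (iv F8377)) (tt N6390 D6390) (tt N3601 (iv D4834)) (tt N6391 D6391) (tt N6392 D6392))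
theorem Q4836 : ∀ i, i < 4836 → P i := stepQ 4835 Q4835 (allL N4835 (tt N3603 F7900) (tt N5110 (iv F8379)) (tt N3608 F7901) (tt N6392 (iv F10559)) (tt N6393 D6393) (tt N3601 (iv D4835)))
theorem Q4837 : ∀ i, i < 4837 → P i := stepQ 4836 Q4836 (allL N4836 (tt N6390 (iv F10555)) (tt N6394 D6394) (tt N3602 (iv D4836)) (tt N6395 D6395) (tt N6396 D6396) (tt N6394 F10564))
theorem Q4838 : ∀ i, i < 4838 → P i := stepQ 4837 Q4837 (allL N4837 (tt N6391 (iv F10556)) (tt N3605 F7902) (tt N6396 (iv F10565)) (tt N4784 F7903) (tt N3602 (iv D4837)) (tt N6397 D6397))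
theorem Q4839 : ∀ i, i < 4839 → P i := stepQ 4838 Q4838 (allL N4838 (tt N6392 (iv F10558)) (tt N3604 F7904) (tt N6394 (iv F10563)) (tt N3603 F7905) (tt N6398 D6398) (tt N3602 (iv D4838)))
theorem Q4840 : ∀ i, i < 4840 → P i := stepQ 4839 Q4839 (allL N4839 (tt N6393 (iv F10560)) (tt N3606 F7906) (tt N3611 F7907) (tt N6399 D6399) (tt N3603 (iv D4839)) (tt N4779 F7908))
theorem Q4841 : ∀ i, i < 4841 → P i := stepQ 4840 Q4840 (allL N4840 (tt N5114 (iv F8385)) (tt N6398 (iv F10568)) (tt N3605 F7909) (tt N6400 D6400) (tt N3604 (iv D4840)) (tt N6401 D6401))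
theorem Q4842 : ∀ i, i < 4842 → P i := stepQ 4841 Q4841 (allL N4841 (tt N5115 (iv F8387)) (tt N6397 (iv F10566)) (tt N6401 (iv F10572)) (tt N4785 F7910) (tt N6401 (iv F10573)) (tt N3605 (iv D4841)))
theorem Q4843 : ∀ i, i < 4843 → P i := stepQ 4842 Q4842 (allL N4842 (tt N5116 (iv F8389)) (tt N6399 (iv F10569)) (tt N6402 D6402) (tt N3606 (iv D4842)) (tt N6400 (iv F10571)) (tt N4780 F7911))
theorem Q4844 : ∀ i, i < 4844 → P i := stepQ 4843 Q4843 (allL N4843 (tt N3609 F7912) (tt N6403 D6403) (tt N3607 (iv D4843)) (tt N6404 D6404) (tt N6405 D6405) (tt N6338 (iv F10455)))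
theorem Q4845 : ∀ i, i < 4845 → P i := stepQ 4844 Q4844 (allL N4844 (tt N3610 F7913) (tt N4874 (iv F7965)) (tt N6405 (iv F10579)) (tt N4376 F7914) (tt N3607 (iv D4844)) (tt N6406 D6406))
theorem Q4846 : ∀ i, i < 4846 → P i := stepQ 4845 Q4845 (allL N4845 (tt N3611 F7915) (tt N4871 (iv F7955)) (tt N6393 (iv F10561)) (tt N6407 D6407) (tt N3608 (iv D4845)) (tt N4793 F7916))
theorem Q4847 : ∀ i, i < 4847 → P i := stepQ 4846 Q4846 (allL N4846 (tt N6404 (iv F10577)) (tt N6342 (iv F10459)) (tt N6408 D6408) (tt N3609 (iv D4846)) (tt N6409 D6409) (tt N6339 (iv F10457)))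
theorem Q4848 : ∀ i, i < 4848 → P i := stepQ 4847 Q4847 (allL N4847 (tt N6405 (iv F10578)) (tt N6343 (iv F10461)) (tt N3610 F7917) (tt N6410 D6410) (tt N3609 (iv D4847)) (tt N6411 D6411))
theorem Q4849 : ∀ i, i < 4849 → P i := stepQ 4848 Q4848 (allL N4848 (tt N6406 (iv F10580)) (tt N3612 F7918) (tt N6411 (iv F10587)) (tt N4375 F7919) (tt N3710 F7920) (tt N3610 (iv D4848)))
theorem Q4850 : ∀ i, i < 4850 → P i := stepQ 4849 Q4849 (allL N4849 (tt N6407 (iv F10583)) (tt N3613 F7921) (tt N6412 D6412) (tt N3611 (iv D4849)) (tt N3726 F7922) (tt N4794 F7923))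
theorem Q4851 : ∀ i, i < 4851 → P i := stepQ 4850 Q4850 (allL N4850 (tt N6413 D6413) (tt N3614 (iv D4850)) (tt N6334 (iv F10444)) (tt N6414 D6414) (tt N6415 D6415) (tt N6416 D6416))
theorem Q4852 : ∀ i, i < 4852 → P i := stepQ 4851 Q4851 (allL N4851 (tt N3619 F7924) (tt N6414 (iv F10592)) (tt N5168 (iv F8480)) (tt N3614 (iv D4851)) (tt N6417 D6417) (tt N6359 (iv F10500)))
theorem Q4853 : ∀ i, i < 4853 → P i := stepQ 4852 Q4852 (allL N4852 (tt N3620 F7925) (tt N6415 (iv F10593)) (tt N3615 F7926) (tt N6418 D6418) (tt N3614 (iv D4852)) (tt N6419 D6419))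
theorem Q4854 : ∀ i, i < 4854 → P i := stepQ 4853 Q4853 (allL N4853 (tt N3621 F7927) (tt N6416 (iv F10595)) (tt N3616 F7928) (tt N6359 (iv F10499)) (tt N6420 D6420) (tt N3614 (iv D4853)))
theorem Q4855 : ∀ i, i < 4855 → P i := stepQ 4854 Q4854 (allL N4854 (tt N3622 F7929) (tt N3695 F7930) (tt N6419 (iv F10600)) (tt N3638 F7931) (tt N6421 D6421) (tt N3615 (iv D4854)))
theorem Q4856 : ∀ i, i < 4856 → P i := stepQ 4855 Q4855 (allL N4855 (tt N3623 F7932) (tt N6337 (iv F10450)) (tt N6420 (iv F10602)) (tt N6422 D6422) (tt N3616 (iv D4855)) (tt N6421 (iv F10606)))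
theorem Q4857 : ∀ i, i < 4857 → P i := stepQ 4856 Q4856 (allL N4856 (tt N3624 F7933) (tt N3693 F7934) (tt N6376 (iv F10534)) (tt N3617 (iv D4856)) (tt N6422 (iv F10609)) (tt N3639 F7935))
theorem Q4858 : ∀ i, i < 4858 → P i := stepQ 4857 Q4857 (allL N4857 (tt N3618 (iv D4857)) (tt N6413 (iv F10591)) (tt N3625 F7936) (tt N5170 (iv F8484)) (tt N6423 D6423) (tt N4873 (iv F7963)))
theorem Q4859 : ∀ i, i < 4859 → P i := stepQ 4858 Q4858 (allL N4858 (tt N5170 (iv F8483)) (tt N3619 F7937) (tt N5161 (iv F8464)) (tt N3618 (iv D4858)) (tt N6424 D6424) (tt N4875 (iv F7968)))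
theorem Q4860 : ∀ i, i < 4860 → P i := stepQ 4859 Q4859 (allL N4859 (tt N6423 (iv F10611)) (tt N3620 F7938) (tt N3626 F7939) (tt N6425 D6425) (tt N3618 (iv D4859)) (tt N5630 (iv F9292)))
theorem Q4861 : ∀ i, i < 4861 → P i := stepQ 4860 Q4860 (allL N4860 (tt N5168 (iv F8477)) (tt N6426 D6426) (tt N3619 (iv D4860)) (tt N5167 F8476) (tt N6427 D6427) (tt N6355 (iv F10491)))
theorem Q4862 : ∀ i, i < 4862 → P i := stepQ 4861 Q4861 (allL N4861 (tt N6417 (iv F10596)) (tt N6424 (iv F10613)) (tt N6427 (iv F10615)) (tt N6428 D6428) (tt N3619 (iv D4861)) (tt N6429 D6429))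
theorem Q4863 : ∀ i, i < 4863 → P i := stepQ 4862 Q4862 (allL N4862 (tt N6359 (iv F10498)) (tt N4875 (iv F7967)) (tt N6355 (iv F10490)) (tt N3621 F7940) (tt N6430 D6430) (tt N3619 (iv D4862)))
theorem Q4864 : ∀ i, i < 4864 → P i := stepQ 4863 Q4863 (allL N4863 (tt N6418 (iv F10597)) (tt N6425 (iv F10614)) (tt N6418 (iv F10598)) (tt N3620 (iv D4863)) (tt N6428 (iv F10616)) (tt N6431 D6431))
theorem Q4865 : ∀ i, i < 4865 → P i := stepQ 4864 Q4864 (allL N4864 (tt N6419 (iv F10599)) (tt N5630 (iv F9291)) (tt N3622 F7941) (tt N6431 (iv F10617)) (tt N6432 D6432) (tt N3620 (iv D4864)))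
theorem Q4866 : ∀ i, i < 4866 → P i := stepQ 4865 Q4865 (allL N4865 (tt N6420 (iv F10601)) (tt N4876 (iv F7969)) (tt N3623 F7942) (tt N6433 D6433) (tt N3621 (iv D4865)) (tt N6432 (iv F10619)))
theorem Q4867 : ∀ i, i < 4867 → P i := stepQ 4866 Q4866 (allL N4866 (tt N6421 (iv F10603)) (tt N3627 F7943) (tt N6432 (iv F10618)) (tt N3641 F7944) (tt N3622 (iv D4866)) (tt N3623 F7945))
theorem Q4868 : ∀ i, i < 4868 → P i := stepQ 4867 Q4867 (allL N4867 (tt N6422 (iv F10607)) (tt N3628 F7946) (tt N6434 D6434) (tt N3623 (iv D4867)) (tt N3624 F7947) (tt N3641 F7948))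
theorem Q4869 : ∀ i, i < 4869 → P i := stepQ 4868 Q4868 (allL N4868 (tt N6376 (iv F10533)) (tt N6435 D6435) (tt N3624 (iv D4868)) (tt N6436 D6436) (tt N6434 (iv F10621)) (tt N3642 F7949))
theorem Q4870 : ∀ i, i < 4870 → P i := stepQ 4869 Q4869 (allL N4869 (tt N3626 F7950) (tt N3725 F7951) (tt N6423 (iv F10612)) (tt N5527 (iv F9098)) (tt N3625 (iv D4869)) (tt N5629 (iv F9290)))
theorem Q4871 : ∀ i, i < 4871 → P i := stepQ 4870 Q4870 (allL N4870 (tt N6437 D6437) (tt N3629 (iv D4870)) (tt N6435 (iv F10623)) (tt N4373 F7952) (tt N3688 F7953) (tt N3643 F7954))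
theorem Q4872 : ∀ i, i < 4872 → P i := stepQ 4871 Q4871 (allL N4871 (tt N3630 (iv D4871)) (tt N4845 F7955) (tt N3867 F7956) (tt N6438 D6438) (tt N3632 F7957) (tt N3645 F7958))
theorem Q4873 : ∀ i, i < 4873 → P i := stepQ 4872 Q4872 (allL N4872 (tt N6438 (iv F10631)) (tt N3631 F7959) (tt N6439 D6439) (tt N3630 (iv D4872)) (tt N4151 F7960) (tt N3646 F7961))
theorem Q4874 : ∀ i, i < 4874 → P i := stepQ 4873 Q4873 (allL N4873 (tt N3634 F7962) (tt N6440 D6440) (tt N3633 (iv D4873)) (tt N6441 D6441) (tt N6442 D6442) (tt N4857 F7963))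
theorem Q4875 : ∀ i, i < 4875 → P i := stepQ 4874 Q4874 (allL N4874 (tt N3635 F7964) (tt N4844 F7965) (tt N6442 (iv F10645)) (tt N3649 F7966) (tt N3633 (iv D4874)) (tt N6443 D6443))
theorem Q4876 : ∀ i, i < 4876 → P i := stepQ 4875 Q4875 (allL N4875 (tt N6441 (iv F10641)) (tt N4862 F7967) (tt N6444 D6444) (tt N3634 (iv D4875)) (tt N6445 D6445) (tt N4858 F7968))
theorem Q4877 : ∀ i, i < 4877 → P i := stepQ 4876 Q4876 (allL N4876 (tt N6442 (iv F10644)) (tt N4865 F7969) (tt N3635 F7970) (tt N6446 D6446) (tt N3634 (iv D4876)) (tt N6447 D6447))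
theorem Q4878 : ∀ i, i < 4878 → P i := stepQ 4877 Q4877 (allL N4877 (tt N6443 (iv F10646)) (tt N3636 F7971) (tt N6447 (iv F10656)) (tt N3652 F7972) (tt N4236 F7973) (tt N3635 (iv D4877)))
theorem Q4879 : ∀ i, i < 4879 → P i := stepQ 4878 Q4878 (allL N4878 (tt N3641 F7974) (tt N3694 F7975) (tt N6377 (iv F10537)) (tt N6421 (iv F10605)) (tt N3637 (iv D4878)) (tt N6422 (iv F10610)))
theorem Q4880 : ∀ i, i < 4880 → P i := stepQ 4879 Q4879 (allL N4879 (tt N6377 (iv F10535)) (tt N3687 F7976) (tt N3641 F7977) (tt N6448 D6448) (tt N3640 (iv D4879)) (tt N6434 (iv F10622)))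
theorem Q4881 : ∀ i, i < 4881 → P i := stepQ 4880 Q4880 (allL N4880 (tt N6449 D6449) (tt N3642 (iv D4880)) (tt N3643 F7978) (tt N6450 D6450) (tt N3675 F7979) (tt N6435 (iv F10625)))
theorem Q4882 : ∀ i, i < 4882 → P i := stepQ 4881 Q4881 (allL N4881 (tt N6375 (iv F10531)) (tt N6450 (iv F10662)) (tt N6451 D6451) (tt N3642 (iv D4881)) (tt N6366 (iv F10509)) (tt N6436 (iv F10626)))
theorem Q4883 : ∀ i, i < 4883 → P i := stepQ 4882 Q4882 (allL N4882 (tt N3643 (iv D4882)) (tt N3707 F7980) (tt N6449 (iv F10660)) (tt N6452 D6452) (tt N3676 F7981) (tt N6437 (iv F10630)))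
theorem Q4884 : ∀ i, i < 4884 → P i := stepQ 4883 Q4883 (allL N4883 (tt N6452 (iv F10663)) (tt N3644 F7982) (tt N6453 D6453) (tt N3643 (iv D4883)) (tt N3689 F7983) (tt N4373 F7984))
theorem Q4885 : ∀ i, i < 4885 → P i := stepQ 4884 Q4884 (allL N4884 (tt N3646 F7985) (tt N6344 (iv F10465)) (tt N6454 D6454) (tt N3645 (iv D4884)) (tt N5006 (iv F8168)) (tt N6438 (iv F10634)))
theorem Q4886 : ∀ i, i < 4886 → P i := stepQ 4885 Q4885 (allL N4885 (tt N6454 (iv F10670)) (tt N6455 D6455) (tt N3646 (iv D4885)) (tt N6456 D6456) (tt N5008 (iv F8172)) (tt N6439 (iv F10637)))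
theorem Q4887 : ∀ i, i < 4887 → P i := stepQ 4886 Q4886 (allL N4886 (tt N6457 D6457) (tt N3647 (iv D4886)) (tt N6455 (iv F10671)) (tt N3709 F7986) (tt N4227 F7987) (tt N3708 F7988))
theorem Q4888 : ∀ i, i < 4888 → P i := stepQ 4887 Q4887 (allL N4887 (tt N5757 (iv F9474)) (tt N3648 (iv D4887)) (tt N5780 (iv F9519)) (tt N6458 D6458) (tt N6459 D6459) (tt N5852 (iv F9608)))
theorem Q4889 : ∀ i, i < 4889 → P i := stepQ 4888 Q4888 (allL N4888 (tt N3650 F7989) (tt N6458 (iv F10679)) (tt N3753 F7990) (tt N3648 (iv D4888)) (tt N6460 D6460) (tt N3887 F7991))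
theorem Q4890 : ∀ i, i < 4890 → P i := stepQ 4889 Q4889 (allL N4889 (tt N3651 F7992) (tt N6459 (iv F10682)) (tt N3649 F7993) (tt N6461 D6461) (tt N3648 (iv D4889)) (tt N6462 D6462))
theorem Q4891 : ∀ i, i < 4891 → P i := stepQ 4890 Q4890 (allL N4890 (tt N3652 F7994) (tt N5822 (iv F9569)) (tt N6462 (iv F10687)) (tt N6443 (iv F10648)) (tt N5007 (iv F8171)) (tt N3649 (iv D4890)))
theorem Q4892 : ∀ i, i < 4892 → P i := stepQ 4891 Q4891 (allL N4891 (tt N3753 F7995) (tt N6463 D6463) (tt N3650 (iv D4891)) (tt N3752 F7996) (tt N6464 D6464) (tt N3883 F7997))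
theorem Q4893 : ∀ i, i < 4893 → P i := stepQ 4892 Q4892 (allL N4892 (tt N6460 (iv F10683)) (tt N5766 (iv F9492)) (tt N6464 (iv F10693)) (tt N6465 D6465) (tt N3650 (iv D4892)) (tt N6466 D6466))
theorem Q4894 : ∀ i, i < 4894 → P i := stepQ 4893 Q4893 (allL N4893 (tt N6461 (iv F10685)) (tt N5627 (iv F9283)) (tt N6467 D6467) (tt N3651 (iv D4893)) (tt N6465 (iv F10694)) (tt N6468 D6468))
theorem Q4895 : ∀ i, i < 4895 → P i := stepQ 4894 Q4894 (allL N4894 (tt N6462 (iv F10686)) (tt N5005 (iv F8163)) (tt N3652 F7998) (tt N6468 (iv F10695)) (tt N5001 (iv F8160)) (tt N3651 (iv D4894)))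
theorem Q4896 : ∀ i, i < 4896 → P i := stepQ 4895 Q4895 (allL N4895 (tt N3654 F7999) (tt N5006 (iv F8167)) (tt N6469 D6469) (tt N3653 (iv D4895)) (tt N6344 (iv F10466)) (tt N4374 (iv F8000)))
theorem Q4897 : ∀ i, i < 4897 → P i := stepQ 4896 Q4896 (allL N4896 (tt N3655 F8001) (tt N5007 (iv F8170)) (tt N5866 (iv F9631)) (tt N4374 F8002) (tt N5822 (iv F9570)) (tt N3653 (iv D4896)))
theorem Q4898 : ∀ i, i < 4898 → P i := stepQ 4897 Q4897 (allL N4897 (tt N6469 (iv F10696)) (tt N4372 F8003) (tt N3654 (iv D4897)) (tt N6470 D6470) (tt N6345 (iv F10468)) (tt N4370 F8004))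
theorem Q4899 : ∀ i, i < 4899 → P i := stepQ 4898 Q4898 (allL N4898 (tt N3658 F8005) (tt N3683 F8006) (tt N4036 F8007) (tt N3656 (iv D4898)) (tt N6471 D6471) (tt N4119 F8008))
theorem Q4900 : ∀ i, i < 4900 → P i := stepQ 4899 Q4899 (allL N4899 (tt N3659 F8009) (tt N4349 F8010) (tt N3657 F8011) (tt N6472 D6472) (tt N3656 (iv D4899)) (tt N6473 D6473))
theorem Q4901 : ∀ i, i < 4901 → P i := stepQ 4900 Q4900 (allL N4900 (tt N3660 F8012) (tt N3662 F8013) (tt N6473 (iv F10707)) (tt N3846 F8014) (tt N4378 F8015) (tt N3657 (iv D4900)))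
theorem Q4902 : ∀ i, i < 4902 → P i := stepQ 4901 Q4901 (allL N4901 (tt N6471 (iv F10700)) (tt N6377 (iv F10536)) (tt N5833 (iv F9580)) (tt N6474 D6474) (tt N3658 (iv D4901)) (tt N6475 D6475))
theorem Q4903 : ∀ i, i < 4903 → P i := stepQ 4902 Q4902 (allL N4902 (tt N6472 (iv F10703)) (tt N6381 (iv F10542)) (tt N6476 D6476) (tt N3659 (iv D4902)) (tt N6474 (iv F10709)) (tt N6477 D6477))
theorem Q4904 : ∀ i, i < 4904 → P i := stepQ 4903 Q4903 (allL N4903 (tt N6473 (iv F10705)) (tt N6380 (iv F10539)) (tt N3660 F8016) (tt N6477 (iv F10710)) (tt N6374 (iv F10530)) (tt N3659 (iv D4903)))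
theorem Q4905 : ∀ i, i < 4905 → P i := stepQ 4904 Q4904 (allL N4904 (tt N4141 F8017) (tt N3776 F8018) (tt N3661 (iv D4904)) (tt N6478 D6478) (tt N6386 (iv F10549)) (tt N3767 F8019))
theorem Q4906 : ∀ i, i < 4906 → P i := stepQ 4905 Q4905 (allL N4905 (tt N3664 F8020) (tt N4346 F8021) (tt N3667 F8022) (tt N6479 D6479) (tt N3663 (iv D4905)) (tt N6480 D6480))
theorem Q4907 : ∀ i, i < 4907 → P i := stepQ 4906 Q4906 (allL N4906 (tt N6479 (iv F10714)) (tt N3665 F8023) (tt N6481 D6481) (tt N3664 (iv D4906)) (tt N4336 F8024) (tt N6482 D6482))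
theorem Q4908 : ∀ i, i < 4908 → P i := stepQ 4907 Q4907 (allL N4907 (tt N6480 (iv F10717)) (tt N3666 F8025) (tt N3669 F8026) (tt N6482 (iv F10723)) (tt N4381 F8027) (tt N3664 (iv D4907)))
theorem Q4909 : ∀ i, i < 4909 → P i := stepQ 4908 Q4908 (allL N4908 (tt N4354 F8028) (tt N6483 D6483) (tt N3665 (iv D4908)) (tt N6484 D6484) (tt N4339 F8029) (tt N6485 D6485))
theorem Q4910 : ∀ i, i < 4910 → P i := stepQ 4909 Q4909 (allL N4909 (tt N4355 F8030) (tt N6482 (iv F10722)) (tt N6485 (iv F10729)) (tt N3666 F8031) (tt N6486 D6486) (tt N3665 (iv D4909)))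
theorem Q4911 : ∀ i, i < 4911 → P i := stepQ 4910 Q4910 (allL N4910 (tt N3668 F8032) (tt N6370 (iv F10519)) (tt N6487 D6487) (tt N3667 (iv D4910)) (tt N6351 (iv F10484)) (tt N6488 D6488))
theorem Q4912 : ∀ i, i < 4912 → P i := stepQ 4911 Q4911 (allL N4911 (tt N3669 F8033) (tt N6369 (iv F10516)) (tt N6480 (iv F10719)) (tt N6488 (iv F10736)) (tt N6350 (iv F10481)) (tt N3667 (iv D4911)))
theorem Q4913 : ∀ i, i < 4913 → P i := stepQ 4912 Q4912 (allL N4912 (tt N6487 (iv F10734)) (tt N6489 D6489) (tt N3668 (iv D4912)) (tt N6490 D6490) (tt N6352 (iv F10485)) (tt N6491 D6491))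
theorem Q4914 : ∀ i, i < 4914 → P i := stepQ 4913 Q4913 (allL N4913 (tt N6488 (iv F10735)) (tt N3671 F8034) (tt N6491 (iv F10738)) (tt N3669 F8035) (tt N6492 D6492) (tt N3668 (iv D4913)))
theorem Q4915 : ∀ i, i < 4915 → P i := stepQ 4914 Q4914 (allL N4914 (tt N6493 D6493) (tt N3670 (iv D4914)) (tt N6489 (iv F10737)) (tt N5101 (iv F8363)) (tt N6353 (iv F10487)) (tt N5100 F8361))
theorem Q4916 : ∀ i, i < 4916 → P i := stepQ 4915 Q4915 (allL N4915 (tt N5053 (iv F8254)) (tt N6492 (iv F10739)) (tt N5033 F8218) (tt N5082 (iv F8318)) (tt N3671 (iv D4915)) (tt N5093 (iv F8343)))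
theorem Q4917 : ∀ i, i < 4917 → P i := stepQ 4916 Q4916 (allL N4916 (tt N3779 F8036) (tt N6494 D6494) (tt N3672 (iv D4916)) (tt N5065 (iv F8282)) (tt N3816 F8037) (tt N3673 F8038))
theorem Q4918 : ∀ i, i < 4918 → P i := stepQ 4917 Q4917 (allL N4917 (tt N6495 D6495) (tt N3673 (iv D4917)) (tt N4145 F8039) (tt N5063 (iv F8277)) (tt N3674 F8040) (tt N6494 (iv F10742)))
theorem Q4919 : ∀ i, i < 4919 → P i := stepQ 4918 Q4918 (allL N4918 (tt N3674 (iv D4918)) (tt N3774 F8041) (tt N4144 F8042) (tt N3765 F8043) (tt N6495 (iv F10745)) (tt N3813 F8044))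
theorem Q4920 : ∀ i, i < 4920 → P i := stepQ 4919 Q4919 (allL N4919 (tt N3675 (iv D4919)) (tt N4119 F8045) (tt N3676 F8046) (tt N4201 F8047) (tt N6449 (iv F10661)) (tt N3683 F8048))
theorem Q4921 : ∀ i, i < 4921 → P i := stepQ 4920 Q4920 (allL N4920 (tt N3681 F8049) (tt N6496 D6496) (tt N3677 (iv D4920)) (tt N5764 (iv F9490)) (tt N4052 F8050) (tt N5763 (iv F9487)))
theorem Q4922 : ∀ i, i < 4922 → P i := stepQ 4921 Q4921 (allL N4921 (tt N3682 F8051) (tt N4057 F8052) (tt N5763 (iv F9486)) (tt N3678 F8053) (tt N6497 D6497) (tt N3677 (iv D4921)))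
theorem Q4923 : ∀ i, i < 4923 → P i := stepQ 4922 Q4922 (allL N4922 (tt N4052 F8054) (tt N6498 D6498) (tt N3679 (iv D4922)) (tt N6499 D6499) (tt N3681 F8055) (tt N6500 D6500))
theorem Q4924 : ∀ i, i < 4924 → P i := stepQ 4923 Q4923 (allL N4923 (tt N4053 F8056) (tt N4110 F8057) (tt N6500 (iv F10757)) (tt N3680 F8058) (tt N6501 D6501) (tt N3679 (iv D4923)))
theorem Q4925 : ∀ i, i < 4925 → P i := stepQ 4924 Q4924 (allL N4924 (tt N6502 D6502) (tt N3681 (iv D4924)) (tt N4405 F8059) (tt N6503 D6503) (tt N6498 (iv F10752)) (tt N6504 D6504))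
theorem Q4926 : ∀ i, i < 4926 → P i := stepQ 4925 Q4925 (allL N4925 (tt N5764 (iv F9488)) (tt N6503 (iv F10764)) (tt N5756 (iv F9472)) (tt N3681 (iv D4925)) (tt N6505 D6505) (tt N5755 F9470))
theorem Q4927 : ∀ i, i < 4927 → P i := stepQ 4926 Q4926 (allL N4926 (tt N5763 (iv F9485)) (tt N6504 (iv F10765)) (tt N3682 F8060) (tt N5755 (iv F9469)) (tt N6506 D6506) (tt N3681 (iv D4926)))
theorem Q4928 : ∀ i, i < 4928 → P i := stepQ 4927 Q4927 (allL N4927 (tt N6497 (iv F10748)) (tt N4408 F8061) (tt N6506 (iv F10767)) (tt N4989 (iv F8142)) (tt N3682 (iv D4927)) (tt N6501 (iv F10762)))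
theorem Q4929 : ∀ i, i < 4929 → P i := stepQ 4928 Q4928 (allL N4928 (tt N3687 F8062) (tt N6471 (iv F10701)) (tt N3684 F8063) (tt N6507 D6507) (tt N3683 (iv D4928)) (tt N6508 D6508))
theorem Q4930 : ∀ i, i < 4930 → P i := stepQ 4929 Q4929 (allL N4929 (tt N3688 F8064) (tt N4148 F8065) (tt N6508 (iv F10771)) (tt N4199 F8066) (tt N6437 (iv F10629)) (tt N3684 (iv D4929)))
theorem Q4931 : ∀ i, i < 4931 → P i := stepQ 4930 Q4930 (allL N4930 (tt N3689 F8067) (tt N4082 F8068) (tt N6509 D6509) (tt N3685 (iv D4930)) (tt N6452 (iv F10665)) (tt N4200 F8069))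
theorem Q4932 : ∀ i, i < 4932 → P i := stepQ 4931 Q4931 (allL N4931 (tt N4349 F8070) (tt N6368 (iv F10513)) (tt N4346 F8071) (tt N6510 D6510) (tt N3686 (iv D4931)) (tt N6511 D6511))
theorem Q4933 : ∀ i, i < 4933 → P i := stepQ 4932 Q4932 (allL N4932 (tt N6507 (iv F10768)) (tt N6448 (iv F10658)) (tt N6512 D6512) (tt N3687 (iv D4932)) (tt N6510 (iv F10775)) (tt N6513 D6513))
theorem Q4934 : ∀ i, i < 4934 → P i := stepQ 4933 Q4933 (allL N4933 (tt N6508 (iv F10770)) (tt N6434 (iv F10620)) (tt N3688 F8072) (tt N6513 (iv F10778)) (tt N6435 (iv F10624)) (tt N3687 (iv D4933)))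
theorem Q4935 : ∀ i, i < 4935 → P i := stepQ 4934 Q4934 (allL N4934 (tt N6509 (iv F10772)) (tt N4983 (iv F8134)) (tt N3689 (iv D4934)) (tt N6514 D6514) (tt N6453 (iv F10668)) (tt N4205 F8073))
theorem Q4936 : ∀ i, i < 4936 → P i := stepQ 4935 Q4935 (allL N4935 (tt N4120 F8074) (tt N3691 F8075) (tt N6372 (iv F10524)) (tt N6515 D6515) (tt N3690 (iv D4935)) (tt N6516 D6516))
theorem Q4937 : ∀ i, i < 4937 → P i := stepQ 4936 Q4936 (allL N4936 (tt N3701 F8076) (tt N6515 (iv F10781)) (tt N6517 D6517) (tt N3691 (iv D4936)) (tt N5705 (iv F9393)) (tt N6518 D6518))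
theorem Q4938 : ∀ i, i < 4938 → P i := stepQ 4937 Q4937 (allL N4937 (tt N3702 F8077) (tt N6516 (iv F10784)) (tt N3693 F8078) (tt N6518 (iv F10790)) (tt N6519 D6519) (tt N3691 (iv D4937)))
theorem Q4939 : ∀ i, i < 4939 → P i := stepQ 4938 Q4938 (allL N4938 (tt N3703 F8079) (tt N5833 (iv F9579)) (tt N3694 F8080) (tt N6520 D6520) (tt N3692 (iv D4938)) (tt N6519 (iv F10793)))
theorem Q4940 : ∀ i, i < 4940 → P i := stepQ 4939 Q4939 (allL N4939 (tt N3704 F8081) (tt N6422 (iv F10608)) (tt N6519 (iv F10792)) (tt N6337 (iv F10451)) (tt N3693 (iv D4939)) (tt N3694 F8082))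
theorem Q4941 : ∀ i, i < 4941 → P i := stepQ 4940 Q4940 (allL N4940 (tt N3705 F8083) (tt N6421 (iv F10604)) (tt N6521 D6521) (tt N3694 (iv D4940)) (tt N3695 F8084) (tt N6337 (iv F10452)))
theorem Q4942 : ∀ i, i < 4942 → P i := stepQ 4941 Q4941 (allL N4941 (tt N3706 F8085) (tt N6522 D6522) (tt N3695 (iv D4941)) (tt N5667 (iv F9328)) (tt N6521 (iv F10796)) (tt N3716 F8086))
theorem Q4943 : ∀ i, i < 4943 → P i := stepQ 4942 Q4942 (allL N4942 (tt N3698 F8087) (tt N4120 F8088) (tt N3707 F8089) (tt N6523 D6523) (tt N3696 (iv D4942)) (tt N6524 D6524))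
theorem Q4944 : ∀ i, i < 4944 → P i := stepQ 4943 Q4943 (allL N4943 (tt N4041 F8090) (tt N3699 F8091) (tt N4034 F8092) (tt N6525 D6525) (tt N3697 (iv D4943)) (tt N6526 D6526))
theorem Q4945 : ∀ i, i < 4945 → P i := stepQ 4944 Q4944 (allL N4944 (tt N6523 (iv F10798)) (tt N3701 F8093) (tt N6527 D6527) (tt N3698 (iv D4944)) (tt N6525 (iv F10807)) (tt N6528 D6528))
theorem Q4946 : ∀ i, i < 4946 → P i := stepQ 4945 Q4945 (allL N4945 (tt N6524 (iv F10801)) (tt N3702 F8094) (tt N3709 F8095) (tt N6528 (iv F10813)) (tt N4150 F8096) (tt N3698 (iv D4945)))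
theorem Q4947 : ∀ i, i < 4947 → P i := stepQ 4946 Q4946 (allL N4946 (tt N5705 (iv F9391)) (tt N6525 (iv F10806)) (tt N6529 D6529) (tt N3699 (iv D4946)) (tt N3701 F8097) (tt N6530 D6530))
theorem Q4948 : ∀ i, i < 4948 → P i := stepQ 4947 Q4947 (allL N4947 (tt N5706 (iv F9394)) (tt N6526 (iv F10809)) (tt N5702 (iv F9387)) (tt N6530 (iv F10815)) (tt N6531 D6531) (tt N3699 (iv D4947)))
theorem Q4949 : ∀ i, i < 4949 → P i := stepQ 4948 Q4948 (allL N4948 (tt N5534 (iv F9117)) (tt N4032 F8098) (tt N5531 (iv F9112)) (tt N6532 D6532) (tt N3700 (iv D4948)) (tt N6531 (iv F10817)))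
theorem Q4950 : ∀ i, i < 4950 → P i := stepQ 4949 Q4949 (allL N4949 (tt N6517 (iv F10785)) (tt N6533 D6533) (tt N3701 (iv D4949)) (tt N6534 D6534) (tt N6529 (iv F10814)) (tt N6535 D6535))
theorem Q4951 : ∀ i, i < 4951 → P i := stepQ 4950 Q4950 (allL N4950 (tt N6518 (iv F10788)) (tt N6528 (iv F10812)) (tt N6535 (iv F10824)) (tt N3702 F8099) (tt N6536 D6536) (tt N3701 (iv D4950)))
theorem Q4952 : ∀ i, i < 4952 → P i := stepQ 4951 Q4951 (allL N4951 (tt N6519 (iv F10791)) (tt N4150 F8100) (tt N3704 F8101) (tt N6537 D6537) (tt N3702 (iv D4951)) (tt N3703 F8102))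
theorem Q4953 : ∀ i, i < 4953 → P i := stepQ 4952 Q4952 (allL N4952 (tt N6520 (iv F10794)) (tt N4149 F8103) (tt N6538 D6538) (tt N3703 (iv D4952)) (tt N6532 (iv F10819)) (tt N6537 (iv F10827)))
theorem Q4954 : ∀ i, i < 4954 → P i := stepQ 4953 Q4953 (allL N4953 (tt N6521 (iv F10795)) (tt N6411 (iv F10586)) (tt N3705 (iv D4953)) (tt N6539 D6539) (tt N3706 F8104) (tt N6343 (iv F10463)))
theorem Q4955 : ∀ i, i < 4955 → P i := stepQ 4954 Q4954 (allL N4954 (tt N6540 D6540) (tt N3706 (iv D4954)) (tt N3710 F8105) (tt N6541 D6541) (tt N6411 (iv F10588)) (tt N3723 F8106))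
theorem Q4956 : ∀ i, i < 4956 → P i := stepQ 4955 Q4955 (allL N4955 (tt N5667 (iv F9327)) (tt N6541 (iv F10830)) (tt N5666 (iv F9325)) (tt N3706 (iv D4955)) (tt N6542 D6542) (tt N3724 F8107))
theorem Q4957 : ∀ i, i < 4957 → P i := stepQ 4956 Q4956 (allL N4956 (tt N3708 F8108) (tt N6452 (iv F10664)) (tt N6543 D6543) (tt N3707 (iv D4956)) (tt N4082 F8109) (tt N6457 (iv F10677)))
theorem Q4958 : ∀ i, i < 4958 → P i := stepQ 4957 Q4957 (allL N4957 (tt N3709 F8110) (tt N6437 (iv F10627)) (tt N6524 (iv F10803)) (tt N6457 (iv F10675)) (tt N4148 F8111) (tt N3707 (iv D4957)))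
theorem Q4959 : ∀ i, i < 4959 → P i := stepQ 4958 Q4958 (allL N4958 (tt N6543 (iv F10832)) (tt N6439 (iv F10635)) (tt N3708 (iv D4958)) (tt N6544 D6544) (tt N4083 F8112) (tt N6455 (iv F10673)))
theorem Q4960 : ∀ i, i < 4960 → P i := stepQ 4959 Q4959 (allL N4959 (tt N3710 (iv D4959)) (tt N5629 (iv F9289)) (tt N6540 (iv F10828)) (tt N5592 (iv F9224)) (tt N6406 (iv F10582)) (tt N3725 F8113))
theorem Q4961 : ∀ i, i < 4961 → P i := stepQ 4960 Q4960 (allL N4960 (tt N3952 F8114) (tt N3713 F8115) (tt N5560 (iv F9174)) (tt N6545 D6545) (tt N3711 (iv D4960)) (tt N6546 D6546))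
theorem Q4962 : ∀ i, i < 4962 → P i := stepQ 4961 Q4961 (allL N4961 (tt N6308 (iv F10395)) (tt N3714 F8116) (tt N6547 D6547) (tt N3712 (iv D4961)) (tt N6545 (iv F10836)) (tt N6548 D6548))
theorem Q4963 : ∀ i, i < 4963 → P i := stepQ 4962 Q4962 (allL N4962 (tt N5149 (iv F8440)) (tt N3715 F8117) (tt N5155 (iv F8456)) (tt N6548 (iv F10840)) (tt N5145 (iv F8435)) (tt N3712 (iv D4962)))
theorem Q4964 : ∀ i, i < 4964 → P i := stepQ 4963 Q4963 (allL N4963 (tt N3719 F8118) (tt N6545 (iv F10835)) (tt N6549 D6549) (tt N3713 (iv D4963)) (tt N3714 F8119) (tt N6550 D6550))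
theorem Q4965 : ∀ i, i < 4965 → P i := stepQ 4964 Q4964 (allL N4964 (tt N3720 F8120) (tt N6546 (iv F10838)) (tt N5557 (iv F9168)) (tt N6550 (iv F10844)) (tt N5678 (iv F9350)) (tt N3713 (iv D4964)))
theorem Q4966 : ∀ i, i < 4966 → P i := stepQ 4965 Q4965 (allL N4965 (tt N3721 F8121) (tt N6551 D6551) (tt N3714 (iv D4965)) (tt N6535 (iv F10825)) (tt N6549 (iv F10842)) (tt N6534 (iv F10822)))
theorem Q4967 : ∀ i, i < 4967 → P i := stepQ 4966 Q4966 (allL N4966 (tt N3722 F8122) (tt N6548 (iv F10839)) (tt N6534 (iv F10821)) (tt N3715 F8123) (tt N6552 D6552) (tt N3714 (iv D4966)))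
theorem Q4968 : ∀ i, i < 4968 → P i := stepQ 4967 Q4967 (allL N4967 (tt N6553 D6553) (tt N3716 (iv D4967)) (tt N6415 (iv F10594)) (tt N6554 D6554) (tt N6334 (iv F10445)) (tt N6522 (iv F10797)))
theorem Q4969 : ∀ i, i < 4969 → P i := stepQ 4968 Q4968 (allL N4968 (tt N3724 F8124) (tt N6554 (iv F10847)) (tt N5529 (iv F9106)) (tt N3716 (iv D4968)) (tt N6555 D6555) (tt N5667 (iv F9329)))
theorem Q4970 : ∀ i, i < 4970 → P i := stepQ 4969 Q4969 (allL N4969 (tt N5547 (iv F9142)) (tt N3718 F8125) (tt N3934 F8126) (tt N6556 D6556) (tt N3717 (iv D4969)) (tt N6557 D6557))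
theorem Q4971 : ∀ i, i < 4971 → P i := stepQ 4970 Q4970 (allL N4970 (tt N5556 (iv F9163)) (tt N6556 (iv F10849)) (tt N6558 D6558) (tt N3718 (iv D4970)) (tt N5554 (iv F9159)) (tt N6559 D6559))
theorem Q4972 : ∀ i, i < 4972 → P i := stepQ 4971 Q4971 (allL N4971 (tt N5557 (iv F9166)) (tt N6557 (iv F10850)) (tt N3720 F8127) (tt N6559 (iv F10852)) (tt N5673 (iv F9339)) (tt N3718 (iv D4971)))
theorem Q4973 : ∀ i, i < 4973 → P i := stepQ 4972 Q4972 (allL N4972 (tt N6549 (iv F10841)) (tt N6560 D6560) (tt N3719 (iv D4972)) (tt N6561 D6561) (tt N3721 F8128) (tt N6562 D6562))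
theorem Q4974 : ∀ i, i < 4974 → P i := stepQ 4973 Q4973 (allL N4973 (tt N6550 (iv F10843)) (tt N6324 (iv F10428)) (tt N6562 (iv F10854)) (tt N3720 F8129) (tt N6563 D6563) (tt N3719 (iv D4973)))
theorem Q4975 : ∀ i, i < 4975 → P i := stepQ 4974 Q4974 (allL N4974 (tt N6564 D6564) (tt N3721 (iv D4974)) (tt N6326 (iv F10432)) (tt N6565 D6565) (tt N6560 (iv F10853)) (tt N6566 D6566))
theorem Q4976 : ∀ i, i < 4976 → P i := stepQ 4975 Q4975 (allL N4975 (tt N6535 (iv F10823)) (tt N6565 (iv F10856)) (tt N6518 (iv F10789)) (tt N3721 (iv D4975)) (tt N6567 D6567) (tt N6517 F10787))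
theorem Q4977 : ∀ i, i < 4977 → P i := stepQ 4976 Q4976 (allL N4976 (tt N6534 (iv F10820)) (tt N6566 (iv F10857)) (tt N3722 F8130) (tt N6517 (iv F10786)) (tt N6568 D6568) (tt N3721 (iv D4976)))
theorem Q4978 : ∀ i, i < 4978 → P i := stepQ 4977 Q4977 (allL N4977 (tt N6552 (iv F10845)) (tt N6317 (iv F10410)) (tt N6568 (iv F10858)) (tt N6316 (iv F10409)) (tt N3722 (iv D4977)) (tt N6563 (iv F10855)))
theorem Q4979 : ∀ i, i < 4979 → P i := stepQ 4978 Q4978 (allL N4978 (tt N3723 (iv D4978)) (tt N6553 (iv F10846)) (tt N3725 F8131) (tt N6569 D6569) (tt N6338 (iv F10454)) (tt N6540 (iv F10829)))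
theorem Q4980 : ∀ i, i < 4980 → P i := stepQ 4979 Q4979 (allL N4979 (tt N6569 (iv F10859)) (tt N3724 F8132) (tt N6570 D6570) (tt N3723 (iv D4979)) (tt N6571 D6571) (tt N6541 (iv F10831)))
theorem Q4981 : ∀ i, i < 4981 → P i := stepQ 4980 Q4980 (allL N4980 (tt N5529 (iv F9104)) (tt N6572 D6572) (tt N3724 (iv D4980)) (tt N5528 (iv F9103)) (tt N6573 D6573) (tt N5666 (iv F9326)))
theorem Q4982 : ∀ i, i < 4982 → P i := stepQ 4981 Q4981 (allL N4981 (tt N6555 (iv F10848)) (tt N6571 (iv F10860)) (tt N6573 (iv F10861)) (tt N6341 (iv F10458)) (tt N3724 (iv D4981)) (tt N6574 D6574))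
theorem Q4983 : ∀ i, i < 4983 → P i := stepQ 4982 Q4982 (allL N4982 (tt N3726 F8133) (tt N5527 (iv F9097)) (tt N6575 D6575) (tt N3725 (iv D4982)) (tt N6407 (iv F10584)) (tt N5592 (iv F9226)))
theorem Q4984 : ∀ i, i < 4984 → P i := stepQ 4983 Q4983 (allL N4983 (tt N6575 (iv F10862)) (tt N4934 F8134) (tt N3726 (iv D4983)) (tt N6576 D6576) (tt N6412 (iv F10589)) (tt N5590 (iv F9222)))
theorem Q4985 : ∀ i, i < 4985 → P i := stepQ 4984 Q4984 (allL N4984 (tt N3729 F8135) (tt N6577 D6577) (tt N3727 (iv D4984)) (tt N6578 D6578) (tt N5575 (iv F9196)) (tt N6579 D6579))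
theorem Q4986 : ∀ i, i < 4986 → P i := stepQ 4985 Q4985 (allL N4985 (tt N3730 F8136) (tt N4439 F8137) (tt N6579 (iv F10869)) (tt N3728 F8138) (tt N6580 D6580) (tt N3727 (iv D4985)))
theorem Q4987 : ∀ i, i < 4987 → P i := stepQ 4986 Q4986 (allL N4986 (tt N6581 D6581) (tt N3729 (iv D4986)) (tt N3731 F8139) (tt N6582 D6582) (tt N5726 (iv F9424)) (tt N6583 D6583))
theorem Q4988 : ∀ i, i < 4988 → P i := stepQ 4987 Q4987 (allL N4987 (tt N6578 (iv F10865)) (tt N6582 (iv F10875)) (tt N6584 D6584) (tt N3729 (iv D4987)) (tt N6585 D6585) (tt N6586 D6586))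
theorem Q4989 : ∀ i, i < 4989 → P i := stepQ 4988 Q4988 (allL N4988 (tt N6579 (iv F10868)) (tt N6583 (iv F10876)) (tt N3730 F8140) (tt N6586 (iv F10883)) (tt N6587 D6587) (tt N3729 (iv D4988)))
theorem Q4990 : ∀ i, i < 4990 → P i := stepQ 4989 Q4989 (allL N4989 (tt N6580 (iv F10871)) (tt N3734 F8141) (tt N6587 (iv F10884)) (tt N4927 F8142) (tt N3730 (iv D4989)) (tt N5729 (iv F9427)))
theorem Q4991 : ∀ i, i < 4991 → P i := stepQ 4990 Q4990 (allL N4990 (tt N3731 (iv D4990)) (tt N5739 (iv F9441)) (tt N6581 (iv F10874)) (tt N6588 D6588) (tt N5730 (iv F9429)) (tt N6589 D6589))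
theorem Q4992 : ∀ i, i < 4992 → P i := stepQ 4991 Q4991 (allL N4991 (tt N6588 (iv F10885)) (tt N3732 F8143) (tt N6590 D6590) (tt N3731 (iv D4991)) (tt N6591 D6591) (tt N5773 (iv F9505)))
theorem Q4993 : ∀ i, i < 4993 → P i := stepQ 4992 Q4992 (allL N4992 (tt N6589 (iv F10886)) (tt N3733 F8144) (tt N6583 (iv F10877)) (tt N5773 (iv F9504)) (tt N6592 D6592) (tt N3731 (iv D4992)))
theorem Q4994 : ∀ i, i < 4994 → P i := stepQ 4993 Q4993 (allL N4993 (tt N5742 (iv F9447)) (tt N6591 (iv F10887)) (tt N5774 (iv F9507)) (tt N5721 (iv F9421)) (tt N3732 (iv D4993)) (tt N6593 D6593))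
theorem Q4995 : ∀ i, i < 4995 → P i := stepQ 4994 Q4994 (allL N4994 (tt N5743 (iv F9450)) (tt N6592 (iv F10888)) (tt N3734 F8145) (tt N6594 D6594) (tt N3733 (iv D4994)) (tt N5720 (iv F9418)))
theorem Q4996 : ∀ i, i < 4996 → P i := stepQ 4995 Q4995 (allL N4995 (tt N6595 D6595) (tt N3735 (iv D4995)) (tt N4401 F8146) (tt N6596 D6596) (tt N4399 F8147) (tt N6597 D6597))
theorem Q4997 : ∀ i, i < 4997 → P i := stepQ 4996 Q4996 (allL N4996 (tt N3738 F8148) (tt N6596 (iv F10895)) (tt N6586 (iv F10882)) (tt N3735 (iv D4996)) (tt N6598 D6598) (tt N6584 F10880))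
theorem Q4998 : ∀ i, i < 4998 → P i := stepQ 4997 Q4997 (allL N4997 (tt N3739 F8149) (tt N6597 (iv F10896)) (tt N3736 F8150) (tt N6584 (iv F10879)) (tt N6599 D6599) (tt N3735 (iv D4997)))
theorem Q4999 : ∀ i, i < 4999 → P i := stepQ 4998 Q4998 (allL N4998 (tt N3740 F8151) (tt N4343 F8152) (tt N6599 (iv F10901)) (tt N4232 F8153) (tt N3736 (iv D4998)) (tt N4231 F8154))
theorem Q5000 : ∀ i, i < 5000 → P i := stepQ 4999 Q4999 (allL N4999 (tt N3737 (iv D4999)) (tt N6595 (iv F10892)) (tt N3741 F8155) (tt N6600 D6600) (tt N4795 F8156) (tt N6601 D6601))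
theorem Q5001 : ∀ i, i < 5001 → P i := stepQ 5000 Q5000 (allL N5000 (tt N6600 (iv F10903)) (tt N3738 F8157) (tt N6602 D6602) (tt N3737 (iv D5000)) (tt N6603 D6603) (tt N6604 D6604))
theorem Q5002 : ∀ i, i < 5002 → P i := stepQ 5001 Q5001 (allL N5001 (tt N6601 (iv F10904)) (tt N3739 F8158) (tt N3743 F8159) (tt N6604 (iv F10910)) (tt N4894 F8160) (tt N3737 (iv D5001)))
theorem Q5003 : ∀ i, i < 5003 → P i := stepQ 5002 Q5002 (allL N5002 (tt N6586 (iv F10881)) (tt N6605 D6605) (tt N3738 (iv D5002)) (tt N6579 (iv F10870)) (tt N6606 D6606) (tt N6578 F10867))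
theorem Q5004 : ∀ i, i < 5004 → P i := stepQ 5003 Q5003 (allL N5003 (tt N6598 (iv F10898)) (tt N6603 (iv F10907)) (tt N6606 (iv F10911)) (tt N4798 F8161) (tt N3738 (iv D5003)) (tt N6607 D6607))
theorem Q5005 : ∀ i, i < 5005 → P i := stepQ 5004 Q5004 (allL N5004 (tt N6584 (iv F10878)) (tt N6604 (iv F10909)) (tt N6578 (iv F10866)) (tt N3739 F8162) (tt N6608 D6608) (tt N3738 (iv D5004)))
theorem Q5006 : ∀ i, i < 5006 → P i := stepQ 5005 Q5005 (allL N5005 (tt N6599 (iv F10900)) (tt N4894 F8163) (tt N3740 F8164) (tt N6609 D6609) (tt N3739 (iv D5005)) (tt N4233 F8165))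
theorem Q5007 : ∀ i, i < 5007 → P i := stepQ 5006 Q5006 (allL N5006 (tt N3742 F8166) (tt N4895 F8167) (tt N6610 D6610) (tt N3741 (iv D5006)) (tt N4884 F8168) (tt N5628 (iv F9287)))
theorem Q5008 : ∀ i, i < 5008 → P i := stepQ 5007 Q5007 (allL N5007 (tt N3743 F8169) (tt N4896 F8170) (tt N6601 (iv F10905)) (tt N5628 (iv F9285)) (tt N4890 F8171) (tt N3741 (iv D5007)))
theorem Q5009 : ∀ i, i < 5009 → P i := stepQ 5008 Q5008 (allL N5008 (tt N6610 (iv F10915)) (tt N5620 (iv F9274)) (tt N3742 (iv D5008)) (tt N6611 D6611) (tt N4885 F8172) (tt N5621 (iv F9278)))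
theorem Q5010 : ∀ i, i < 5010 → P i := stepQ 5009 Q5009 (allL N5009 (tt N3744 (iv D5009)) (tt N3752 F8173) (tt N3765 F8174) (tt N6463 (iv F10690)) (tt N5054 (iv F8260)) (tt N3882 (iv F8175)))
theorem Q5011 : ∀ i, i < 5011 → P i := stepQ 5010 Q5010 (allL N5010 (tt N6463 (iv F10688)) (tt N3745 F8176) (tt N6283 (iv F10366)) (tt N3744 (iv D5010)) (tt N6612 D6612) (tt N6151 (iv F10129)))
theorem Q5012 : ∀ i, i < 5012 → P i := stepQ 5011 Q5011 (allL N5011 (tt N3882 F8177) (tt N3746 F8178) (tt N3764 F8179) (tt N6151 (iv F10128)) (tt N6613 D6613) (tt N3744 (iv D5011)))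
theorem Q5013 : ∀ i, i < 5013 → P i := stepQ 5012 Q5012 (allL N5012 (tt N3755 F8180) (tt N6612 (iv F10917)) (tt N6154 (iv F10134)) (tt N5058 (iv F8268)) (tt N3745 (iv D5012)) (tt N6614 D6614))
theorem Q5014 : ∀ i, i < 5014 → P i := stepQ 5013 Q5013 (allL N5013 (tt N3757 F8181) (tt N6613 (iv F10919)) (tt N3747 F8182) (tt N6615 D6615) (tt N3746 (iv D5013)) (tt N5059 (iv F8271)))
theorem Q5015 : ∀ i, i < 5015 → P i := stepQ 5014 Q5014 (allL N5014 (tt N3748 (iv D5014)) (tt N5054 (iv F8258)) (tt N3758 F8183) (tt N6616 D6616) (tt N3752 F8184) (tt N6617 D6617))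
theorem Q5016 : ∀ i, i < 5016 → P i := stepQ 5015 Q5015 (allL N5015 (tt N6616 (iv F10923)) (tt N3749 F8185) (tt N6618 D6618) (tt N3748 (iv D5015)) (tt N6619 D6619) (tt N6620 D6620))
theorem Q5017 : ∀ i, i < 5017 → P i := stepQ 5016 Q5016 (allL N5016 (tt N6617 (iv F10924)) (tt N3750 F8186) (tt N3760 F8187) (tt N6620 (iv F10930)) (tt N3890 F8188) (tt N3748 (iv D5016)))
theorem Q5018 : ∀ i, i < 5018 → P i := stepQ 5017 Q5017 (allL N5017 (tt N5057 (iv F8264)) (tt N6620 (iv F10929)) (tt N3749 (iv D5017)) (tt N3750 F8189) (tt N6621 D6621) (tt N3749 (iv F8190)))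
theorem Q5019 : ∀ i, i < 5019 → P i := stepQ 5018 Q5018 (allL N5018 (tt N5058 (iv F8267)) (tt N6619 (iv F10927)) (tt N6621 (iv F10931)) (tt N3755 F8191) (tt N3749 (iv D5018)) (tt N6622 D6622))
theorem Q5020 : ∀ i, i < 5020 → P i := stepQ 5019 Q5019 (allL N5019 (tt N5059 (iv F8269)) (tt N3890 F8192) (tt N3751 F8193) (tt N6623 D6623) (tt N3750 (iv D5019)) (tt N3757 F8194))
theorem Q5021 : ∀ i, i < 5021 → P i := stepQ 5020 Q5020 (allL N5020 (tt N6464 (iv F10692)) (tt N3755 F8195) (tt N6460 (iv F10684)) (tt N6619 (iv F10928)) (tt N3753 (iv D5020)) (tt N6624 D6624))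
theorem Q5022 : ∀ i, i < 5022 → P i := stepQ 5021 Q5021 (allL N5021 (tt N6277 (iv F10353)) (tt N3754 (iv D5021)) (tt N6458 (iv F10680)) (tt N6141 (iv F10106)) (tt N6625 D6625) (tt N6140 F10102))
theorem Q5023 : ∀ i, i < 5023 → P i := stepQ 5022 Q5022 (allL N5022 (tt N6154 (iv F10132)) (tt N6625 (iv F10937)) (tt N3755 F8196) (tt N6626 D6626) (tt N3754 (iv D5022)) (tt N6627 D6627))
theorem Q5024 : ∀ i, i < 5024 → P i := stepQ 5023 Q5023 (allL N5023 (tt N6614 (iv F10921)) (tt N6624 (iv F10935)) (tt N6627 (iv F10938)) (tt N6622 (iv F10932)) (tt N6628 D6628) (tt N3755 (iv D5023)))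
theorem Q5025 : ∀ i, i < 5025 → P i := stepQ 5024 Q5024 (allL N5024 (tt N6152 (iv F10130)) (tt N3888 F8197) (tt N6142 (iv F10108)) (tt N6629 D6629) (tt N3756 (iv D5024)) (tt N6628 (iv F10940)))
theorem Q5026 : ∀ i, i < 5026 → P i := stepQ 5025 Q5025 (allL N5025 (tt N6615 (iv F10922)) (tt N3889 F8198) (tt N6630 D6630) (tt N3757 (iv D5025)) (tt N6629 (iv F10942)) (tt N6623 (iv F10934)))
theorem Q5027 : ∀ i, i < 5027 → P i := stepQ 5026 Q5026 (allL N5026 (tt N3759 F8199) (tt N3790 F8200) (tt N6631 D6631) (tt N3758 (iv D5026)) (tt N3886 F8201) (tt N6632 D6632))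
theorem Q5028 : ∀ i, i < 5028 → P i := stepQ 5027 Q5027 (allL N5027 (tt N3760 F8202) (tt N3791 F8203) (tt N6617 (iv F10925)) (tt N6632 (iv F10947)) (tt N3885 F8204) (tt N3758 (iv D5027)))
theorem Q5029 : ∀ i, i < 5029 → P i := stepQ 5028 Q5028 (allL N5028 (tt N6631 (iv F10943)) (tt N6633 D6633) (tt N3759 (iv D5028)) (tt N6634 D6634) (tt N3891 F8205) (tt N6635 D6635))
theorem Q5030 : ∀ i, i < 5030 → P i := stepQ 5029 Q5029 (allL N5029 (tt N6632 (iv F10945)) (tt N3762 F8206) (tt N6635 (iv F10952)) (tt N3760 F8207) (tt N6636 D6636) (tt N3759 (iv D5029)))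
theorem Q5031 : ∀ i, i < 5031 → P i := stepQ 5030 Q5030 (allL N5030 (tt N6637 D6637) (tt N3761 (iv D5030)) (tt N6633 (iv F10948)) (tt N3787 F8208) (tt N3892 F8209) (tt N3786 F8210))
theorem Q5032 : ∀ i, i < 5032 → P i := stepQ 5031 Q5031 (allL N5031 (tt N3799 F8211) (tt N6636 (iv F10953)) (tt N3788 F8212) (tt N3879 F8213) (tt N3762 (iv D5031)) (tt N3880 F8214))
theorem Q5033 : ∀ i, i < 5033 → P i := stepQ 5032 Q5032 (allL N5032 (tt N6638 D6638) (tt N3763 (iv D5032)) (tt N6613 (iv F10920)) (tt N6639 D6639) (tt N3764 F8215) (tt N5064 (iv F8279)))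
theorem Q5034 : ∀ i, i < 5034 → P i := stepQ 5033 Q5033 (allL N5033 (tt N3780 F8216) (tt N6639 (iv F10963)) (tt N4915 (iv F8218)) (tt N3763 (iv D5033)) (tt N3815 F8217) (tt N5066 (iv F8286)))
theorem Q5035 : ∀ i, i < 5035 → P i := stepQ 5034 Q5034 (allL N5034 (tt N3764 (iv D5034)) (tt N3775 F8219) (tt N3882 F8220) (tt N3813 F8221) (tt N6638 (iv F10962)) (tt N3765 F8222))
theorem Q5036 : ∀ i, i < 5036 → P i := stepQ 5035 Q5035 (allL N5035 (tt N3767 F8223) (tt N4102 F8224) (tt N3766 (iv D5035)) (tt N6640 D6640) (tt N5218 (iv F8548)) (tt N4141 F8225))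
theorem Q5037 : ∀ i, i < 5037 → P i := stepQ 5036 Q5036 (allL N5036 (tt N6641 D6641) (tt N3767 (iv D5036)) (tt N3768 F8226) (tt N6642 D6642) (tt N5220 (iv F8553)) (tt N3776 F8227))
theorem Q5038 : ∀ i, i < 5038 → P i := stepQ 5037 Q5037 (allL N5037 (tt N6640 (iv F10965)) (tt N6642 (iv F10974)) (tt N5838 (iv F9591)) (tt N3767 (iv D5037)) (tt N6643 D6643) (tt N6478 (iv F10713)))
theorem Q5039 : ∀ i, i < 5039 → P i := stepQ 5038 Q5038 (allL N5038 (tt N3768 (iv D5038)) (tt N3813 F8228) (tt N6641 (iv F10970)) (tt N3775 F8229) (tt N5224 (iv F8559)) (tt N3774 F8230))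
theorem Q5040 : ∀ i, i < 5040 → P i := stepQ 5039 Q5039 (allL N5039 (tt N3770 F8231) (tt N5060 (iv F8273)) (tt N6644 D6644) (tt N3769 (iv D5039)) (tt N6645 D6645) (tt N5078 (iv F8307)))
theorem Q5041 : ∀ i, i < 5041 → P i := stepQ 5040 Q5040 (allL N5040 (tt N3771 F8232) (tt N5061 (iv F8275)) (tt N3791 F8233) (tt N5078 (iv F8306)) (tt N6646 D6646) (tt N3769 (iv D5040)))
theorem Q5042 : ∀ i, i < 5042 → P i := stepQ 5041 Q5041 (allL N5041 (tt N6644 (iv F10977)) (tt N5074 (iv F8299)) (tt N3770 (iv D5041)) (tt N6647 D6647) (tt N6648 D6648) (tt N5071 F8297))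
theorem Q5043 : ∀ i, i < 5043 → P i := stepQ 5042 Q5042 (allL N5042 (tt N6645 (iv F10978)) (tt N3772 F8234) (tt N6648 (iv F10983)) (tt N3777 F8235) (tt N3770 (iv D5042)) (tt N6649 D6649))
theorem Q5044 : ∀ i, i < 5044 → P i := stepQ 5043 Q5043 (allL N5043 (tt N6646 (iv F10980)) (tt N3773 F8236) (tt N3795 F8237) (tt N6650 D6650) (tt N3771 (iv D5043)) (tt N3778 F8238))
theorem Q5045 : ∀ i, i < 5045 → P i := stepQ 5044 Q5044 (allL N5044 (tt N5065 (iv F8280)) (tt N6649 (iv F10984)) (tt N5080 (iv F8310)) (tt N3779 F8239) (tt N4833 F8240) (tt N3772 (iv D5044)))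
theorem Q5046 : ∀ i, i < 5046 → P i := stepQ 5045 Q5045 (allL N5045 (tt N5066 (iv F8284)) (tt N6650 (iv F10987)) (tt N3877 F8243) (tt N3773 (iv D5045)) (tt N4811 F8241) (tt N3780 F8242))
theorem Q5047 : ∀ i, i < 5047 → P i := stepQ 5046 Q5046 (allL N5046 (tt N3776 F8244) (tt N6651 D6651) (tt N3774 (iv D5046)) (tt N3830 F8245) (tt N6652 D6652) (tt N6641 (iv F10971)))
theorem Q5048 : ∀ i, i < 5048 → P i := stepQ 5047 Q5047 (allL N5047 (tt N3777 F8246) (tt N6495 (iv F10743)) (tt N6652 (iv F10995)) (tt N6645 (iv F10979)) (tt N3774 (iv D5047)) (tt N6653 D6653))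
theorem Q5049 : ∀ i, i < 5049 → P i := stepQ 5048 Q5048 (allL N5048 (tt N3778 F8247) (tt N6638 (iv F10960)) (tt N3803 F8248) (tt N6654 D6654) (tt N3775 (iv D5048)) (tt N6646 (iv F10982)))
theorem Q5050 : ∀ i, i < 5050 → P i := stepQ 5049 Q5049 (allL N5049 (tt N3830 F8249) (tt N6478 (iv F10712)) (tt N3829 F8250) (tt N3776 (iv D5049)) (tt N6655 D6655) (tt N6642 (iv F10976)))
theorem Q5051 : ∀ i, i < 5051 → P i := stepQ 5050 Q5050 (allL N5050 (tt N6652 (iv F10994)) (tt N6386 (iv F10548)) (tt N3777 F8251) (tt N6656 D6656) (tt N3776 (iv D5050)) (tt N6657 D6657))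
theorem Q5052 : ∀ i, i < 5052 → P i := stepQ 5051 Q5051 (allL N5051 (tt N6653 (iv F10996)) (tt N3779 F8252) (tt N6657 (iv F11000)) (tt N6649 (iv F10985)) (tt N5226 (iv F8563)) (tt N3777 (iv D5051)))
theorem Q5053 : ∀ i, i < 5053 → P i := stepQ 5052 Q5052 (allL N5052 (tt N6654 (iv F10997)) (tt N3780 F8253) (tt N6658 D6658) (tt N3778 (iv D5052)) (tt N5225 (iv F8561)) (tt N6650 (iv F10989)))
theorem Q5054 : ∀ i, i < 5054 → P i := stepQ 5053 Q5053 (allL N5053 (tt N4915 F8254) (tt N6659 D6659) (tt N3780 (iv D5053)) (tt N3878 F8257) (tt N4830 F8255) (tt N3877 F8256))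
theorem Q5055 : ∀ i, i < 5055 → P i := stepQ 5054 Q5054 (allL N5054 (tt N3781 (iv D5054)) (tt N5014 F8258) (tt N3785 F8259) (tt N6660 D6660) (tt N5009 F8260) (tt N6661 D6661))
theorem Q5056 : ∀ i, i < 5056 → P i := stepQ 5055 Q5055 (allL N5055 (tt N6660 (iv F11004)) (tt N3782 F8261) (tt N6662 D6662) (tt N3781 (iv D5055)) (tt N6663 D6663) (tt N6664 D6664))
theorem Q5057 : ∀ i, i < 5057 → P i := stepQ 5056 Q5056 (allL N5056 (tt N6661 (iv F11006)) (tt N3783 F8262) (tt N3787 F8263) (tt N6664 (iv F11012)) (tt N6665 D6665) (tt N3781 (iv D5056)))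
theorem Q5058 : ∀ i, i < 5058 → P i := stepQ 5057 Q5057 (allL N5057 (tt N5017 F8264) (tt N6664 (iv F11011)) (tt N3782 (iv D5057)) (tt N3783 F8265) (tt N6666 D6666) (tt N3782 (iv F8266)))
theorem Q5059 : ∀ i, i < 5059 → P i := stepQ 5058 Q5058 (allL N5058 (tt N5018 F8267) (tt N6663 (iv F11009)) (tt N6666 (iv F11017)) (tt N5012 F8268) (tt N3782 (iv D5058)) (tt N6667 D6667))
theorem Q5060 : ∀ i, i < 5060 → P i := stepQ 5059 Q5059 (allL N5059 (tt N5019 F8269) (tt N6665 (iv F11013)) (tt N3784 F8270) (tt N6668 D6668) (tt N3783 (iv D5059)) (tt N5013 F8271))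
theorem Q5061 : ∀ i, i < 5061 → P i := stepQ 5060 Q5060 (allL N5060 (tt N3786 F8272) (tt N5039 F8273) (tt N6669 D6669) (tt N3785 (iv D5060)) (tt N6670 D6670) (tt N6637 (iv F10959)))
theorem Q5062 : ∀ i, i < 5062 → P i := stepQ 5061 Q5061 (allL N5061 (tt N3787 F8274) (tt N5040 F8275) (tt N6661 (iv F11008)) (tt N6637 (iv F10957)) (tt N6671 D6671) (tt N3785 (iv D5061)))
theorem Q5063 : ∀ i, i < 5063 → P i := stepQ 5062 Q5062 (allL N5062 (tt N6669 (iv F11022)) (tt N6635 (iv F10951)) (tt N3786 (iv D5062)) (tt N6672 D6672) (tt N6673 D6673) (tt N6633 F10950))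
theorem Q5064 : ∀ i, i < 5064 → P i := stepQ 5063 Q5063 (allL N5063 (tt N6670 (iv F11023)) (tt N3788 F8276) (tt N6673 (iv F11029)) (tt N4917 F8277) (tt N3786 (iv D5063)) (tt N6674 D6674))
theorem Q5065 : ∀ i, i < 5065 → P i := stepQ 5064 Q5064 (allL N5064 (tt N6671 (iv F11026)) (tt N3789 F8278) (tt N6665 (iv F11014)) (tt N6675 D6675) (tt N3787 (iv D5064)) (tt N5032 F8279))
theorem Q5066 : ∀ i, i < 5066 → P i := stepQ 5065 Q5065 (allL N5065 (tt N5044 F8280) (tt N6674 (iv F11030)) (tt N3880 F8281) (tt N4916 F8282) (tt N3881 F8283) (tt N3788 (iv D5065)))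
theorem Q5067 : ∀ i, i < 5067 → P i := stepQ 5066 Q5066 (allL N5066 (tt N5045 F8284) (tt N6675 (iv F11033)) (tt N5093 (iv F8341)) (tt N3789 (iv D5066)) (tt N3893 F8285) (tt N5033 F8286))
theorem Q5068 : ∀ i, i < 5068 → P i := stepQ 5067 Q5067 (allL N5067 (tt N3792 F8287) (tt N6676 D6676) (tt N3790 (iv D5067)) (tt N6677 D6677) (tt N6678 D6678) (tt N6679 D6679))
theorem Q5069 : ∀ i, i < 5069 → P i := stepQ 5068 Q5068 (allL N5068 (tt N3793 F8288) (tt N3886 F8289) (tt N6678 (iv F11038)) (tt N3802 F8290) (tt N3790 (iv D5068)) (tt N6680 D6680))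
theorem Q5070 : ∀ i, i < 5070 → P i := stepQ 5069 Q5069 (allL N5069 (tt N3794 F8291) (tt N6632 (iv F10946)) (tt N6679 (iv F11040)) (tt N3791 F8292) (tt N6681 D6681) (tt N3790 (iv D5069)))
theorem Q5071 : ∀ i, i < 5071 → P i := stepQ 5070 Q5070 (allL N5070 (tt N3795 F8293) (tt N3885 F8294) (tt N6646 (iv F10981)) (tt N6682 D6682) (tt N3791 (iv D5070)) (tt N3803 F8295))
theorem Q5072 : ∀ i, i < 5072 → P i := stepQ 5071 Q5071 (allL N5071 (tt N6683 D6683) (tt N3792 (iv D5071)) (tt N3796 F8296) (tt N6684 D6684) (tt N6685 D6685) (tt N5041 (iv F8297)))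
theorem Q5073 : ∀ i, i < 5073 → P i := stepQ 5072 Q5072 (allL N5072 (tt N6677 (iv F11036)) (tt N6684 (iv F11050)) (tt N6686 D6686) (tt N3792 (iv D5072)) (tt N6687 D6687) (tt N6688 D6688))
theorem Q5074 : ∀ i, i < 5074 → P i := stepQ 5073 Q5073 (allL N5073 (tt N6678 (iv F11037)) (tt N6685 (iv F11053)) (tt N3793 F8298) (tt N6689 D6689) (tt N3792 (iv D5073)) (tt N6690 D6690))
theorem Q5075 : ∀ i, i < 5075 → P i := stepQ 5074 Q5074 (allL N5074 (tt N6679 (iv F11039)) (tt N5041 F8299) (tt N3794 F8300) (tt N6688 (iv F11058)) (tt N6691 D6691) (tt N3792 (iv D5074)))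
theorem Q5076 : ∀ i, i < 5076 → P i := stepQ 5075 Q5075 (allL N5075 (tt N6680 (iv F11041)) (tt N3798 F8301) (tt N6690 (iv F11059)) (tt N3806 F8302) (tt N6692 D6692) (tt N3793 (iv D5075)))
theorem Q5077 : ∀ i, i < 5077 → P i := stepQ 5076 Q5076 (allL N5076 (tt N6681 (iv F11044)) (tt N3799 F8303) (tt N6691 (iv F11061)) (tt N6693 D6693) (tt N3794 (iv D5076)) (tt N6692 (iv F11064)))
theorem Q5078 : ∀ i, i < 5078 → P i := stepQ 5077 Q5077 (allL N5077 (tt N6682 (iv F11045)) (tt N3800 F8304) (tt N6694 D6694) (tt N3795 (iv D5077)) (tt N6693 (iv F11066)) (tt N3807 F8305))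
theorem Q5079 : ∀ i, i < 5079 → P i := stepQ 5078 Q5078 (allL N5078 (tt N3796 (iv D5078)) (tt N6637 (iv F10956)) (tt N6683 (iv F11048)) (tt N5040 F8306) (tt N6695 D6695) (tt N5039 F8307))
theorem Q5080 : ∀ i, i < 5080 → P i := stepQ 5079 Q5079 (allL N5079 (tt N6695 (iv F11069)) (tt N3797 F8308) (tt N6685 (iv F11054)) (tt N6364 (iv F10503)) (tt N3796 (iv D5079)) (tt N6389 (iv F10554)))
theorem Q5081 : ∀ i, i < 5081 → P i := stepQ 5080 Q5080 (allL N5080 (tt N3880 F8309) (tt N6692 (iv F11062)) (tt N5044 F8310) (tt N3842 F8311) (tt N3798 (iv D5080)) (tt N3799 F8312))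
theorem Q5082 : ∀ i, i < 5082 → P i := stepQ 5081 Q5081 (allL N5081 (tt N3879 F8313) (tt N6693 (iv F11065)) (tt N3862 F8314) (tt N3799 (iv D5081)) (tt N3800 F8315) (tt N3842 F8316))
theorem Q5083 : ∀ i, i < 5083 → P i := stepQ 5082 Q5082 (allL N5082 (tt N3878 F8317) (tt N6696 D6696) (tt N3800 (iv D5082)) (tt N4915 F8318) (tt N3862 F8319) (tt N3808 F8320))
theorem Q5084 : ∀ i, i < 5084 → P i := stepQ 5083 Q5083 (allL N5083 (tt N3804 F8321) (tt N6229 (iv F10280)) (tt N6642 (iv F10975)) (tt N3801 (iv D5083)) (tt N6697 D6697) (tt N3829 F8322))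
theorem Q5085 : ∀ i, i < 5085 → P i := stepQ 5084 Q5084 (allL N5084 (tt N3805 F8323) (tt N6328 (iv F10435)) (tt N3802 F8324) (tt N6698 D6698) (tt N3801 (iv D5084)) (tt N6699 D6699))
theorem Q5086 : ∀ i, i < 5086 → P i := stepQ 5085 Q5085 (allL N5085 (tt N3806 F8325) (tt N3867 F8326) (tt N6699 (iv F11078)) (tt N6680 (iv F11043)) (tt N3838 F8327) (tt N3802 (iv D5085)))
theorem Q5087 : ∀ i, i < 5087 → P i := stepQ 5086 Q5086 (allL N5086 (tt N3807 F8328) (tt N3865 F8329) (tt N6700 D6700) (tt N3803 (iv D5086)) (tt N3837 F8330) (tt N6682 (iv F11047)))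
theorem Q5088 : ∀ i, i < 5088 → P i := stepQ 5087 Q5087 (allL N5087 (tt N6642 (iv F10973)) (tt N3962 F8331) (tt N3804 (iv D5087)) (tt N6641 F10972) (tt N6701 D6701) (tt N3830 F8332))
theorem Q5089 : ∀ i, i < 5089 → P i := stepQ 5088 Q5088 (allL N5088 (tt N6697 (iv F11074)) (tt N3835 F8333) (tt N6701 (iv F11083)) (tt N6702 D6702) (tt N3804 (iv D5088)) (tt N6703 D6703))
theorem Q5090 : ∀ i, i < 5090 → P i := stepQ 5089 Q5089 (allL N5089 (tt N6698 (iv F11075)) (tt N3836 F8334) (tt N6704 D6704) (tt N3805 (iv D5089)) (tt N6702 (iv F11085)) (tt N6705 D6705))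
theorem Q5091 : ∀ i, i < 5091 → P i := stepQ 5090 Q5090 (allL N5090 (tt N6699 (iv F11076)) (tt N3828 F8335) (tt N3806 F8336) (tt N6705 (iv F11089)) (tt N3825 F8337) (tt N3805 (iv D5090)))
theorem Q5092 : ∀ i, i < 5092 → P i := stepQ 5091 Q5091 (allL N5091 (tt N6700 (iv F11080)) (tt N6706 D6706) (tt N3807 (iv D5091)) (tt N6707 D6707) (tt N3839 F8338) (tt N6694 (iv F11068)))
theorem Q5093 : ∀ i, i < 5093 → P i := stepQ 5092 Q5092 (allL N5092 (tt N6708 D6708) (tt N3808 (iv D5092)) (tt N6706 (iv F11090)) (tt N6709 D6709) (tt N3841 F8339) (tt N6696 (iv F11073)))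
theorem Q5094 : ∀ i, i < 5094 → P i := stepQ 5093 Q5093 (allL N5093 (tt N3877 F8340) (tt N6709 (iv F11094)) (tt N5066 F8341) (tt N3808 (iv D5093)) (tt N3863 F8342) (tt N4915 F8343))
theorem Q5095 : ∀ i, i < 5095 → P i := stepQ 5094 Q5094 (allL N5094 (tt N3812 F8344) (tt N5219 (iv F8550)) (tt N4106 F8345) (tt N3819 F8346) (tt N4143 F8347) (tt N3809 (iv D5094)))
theorem Q5096 : ∀ i, i < 5096 → P i := stepQ 5095 Q5095 (allL N5095 (tt N3810 (iv D5095)) (tt N4100 F8348) (tt N3813 F8349) (tt N4096 F8350) (tt N6710 D6710) (tt N4144 F8351))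
theorem Q5097 : ∀ i, i < 5097 → P i := stepQ 5096 Q5096 (allL N5096 (tt N6710 (iv F11097)) (tt N3811 F8352) (tt N3814 F8353) (tt N6711 D6711) (tt N3810 (iv D5096)) (tt N6712 D6712))
theorem Q5098 : ∀ i, i < 5098 → P i := stepQ 5097 Q5097 (allL N5097 (tt N4105 F8354) (tt N6711 (iv F11100)) (tt N6713 D6713) (tt N3811 (iv D5097)) (tt N4098 F8355) (tt N6714 D6714))
theorem Q5099 : ∀ i, i < 5099 → P i := stepQ 5098 Q5098 (allL N5098 (tt N4106 F8356) (tt N6712 (iv F11102)) (tt N3812 F8357) (tt N6714 (iv F11108)) (tt N4147 F8358) (tt N3811 (iv D5098)))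
theorem Q5100 : ∀ i, i < 5100 → P i := stepQ 5099 Q5099 (allL N5099 (tt N3814 F8359) (tt N5224 (iv F8558)) (tt N6710 (iv F11099)) (tt N6715 D6715) (tt N3813 (iv D5099)) (tt N6716 D6716))
theorem Q5101 : ∀ i, i < 5101 → P i := stepQ 5100 Q5100 (allL N5100 (tt N6715 (iv F11109)) (tt N3815 F8360) (tt N6717 D6717) (tt N3814 (iv D5100)) (tt N6639 (iv F10964)) (tt N4914 (iv F8361)))
theorem Q5102 : ∀ i, i < 5102 → P i := stepQ 5101 Q5101 (allL N5101 (tt N6716 (iv F11111)) (tt N3816 F8362) (tt N6712 (iv F11103)) (tt N4914 F8363) (tt N6494 (iv F10741)) (tt N3814 (iv D5101)))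
theorem Q5103 : ∀ i, i < 5103 → P i := stepQ 5102 Q5102 (allL N5102 (tt N5135 (iv F8417)) (tt N3818 F8364) (tt N5199 (iv F8515)) (tt N6718 D6718) (tt N3817 (iv D5102)) (tt N6719 D6719))
theorem Q5104 : ∀ i, i < 5104 → P i := stepQ 5103 Q5103 (allL N5103 (tt N3821 F8365) (tt N6718 (iv F11115)) (tt N6720 D6720) (tt N3818 (iv D5103)) (tt N3923 F8366) (tt N6721 D6721))
theorem Q5105 : ∀ i, i < 5105 → P i := stepQ 5104 Q5104 (allL N5104 (tt N3822 F8367) (tt N6719 (iv F11117)) (tt N3819 F8368) (tt N6721 (iv F11122)) (tt N3897 F8369) (tt N3818 (iv D5104)))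
theorem Q5106 : ∀ i, i < 5106 → P i := stepQ 5105 Q5105 (allL N5105 (tt N3923 F8370) (tt N5140 (iv F8425)) (tt N6722 D6722) (tt N3820 (iv D5105)) (tt N3821 F8371) (tt N6723 D6723))
theorem Q5107 : ∀ i, i < 5107 → P i := stepQ 5106 Q5106 (allL N5106 (tt N3924 F8372) (tt N5141 (iv F8427)) (tt N3920 F8373) (tt N6723 (iv F11126)) (tt N3905 F8374) (tt N3820 (iv D5106)))
theorem Q5108 : ∀ i, i < 5108 → P i := stepQ 5107 Q5107 (allL N5107 (tt N6720 (iv F11119)) (tt N6724 D6724) (tt N3821 (iv D5107)) (tt N6725 D6725) (tt N6722 (iv F11124)) (tt N6726 D6726))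
theorem Q5109 : ∀ i, i < 5109 → P i := stepQ 5108 Q5108 (allL N5108 (tt N6721 (iv F11121)) (tt N5143 (iv F8428)) (tt N6726 (iv F11129)) (tt N3822 F8375) (tt N6727 D6727) (tt N3821 (iv D5108)))
theorem Q5110 : ∀ i, i < 5110 → P i := stepQ 5109 Q5109 (allL N5109 (tt N3824 F8376) (tt N4834 F8377) (tt N6728 D6728) (tt N3823 (iv D5109)) (tt N6729 D6729) (tt N6730 D6730))
theorem Q5111 : ∀ i, i < 5111 → P i := stepQ 5110 Q5110 (allL N5110 (tt N3825 F8378) (tt N4835 F8379) (tt N3838 F8380) (tt N6730 (iv F11138)) (tt N6699 (iv F11079)) (tt N3823 (iv D5110)))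
theorem Q5112 : ∀ i, i < 5112 → P i := stepQ 5111 Q5111 (allL N5111 (tt N6728 (iv F11132)) (tt N6731 D6731) (tt N3824 (iv D5111)) (tt N6732 D6732) (tt N6733 D6733) (tt N6731 F11140))
theorem Q5113 : ∀ i, i < 5113 → P i := stepQ 5112 Q5112 (allL N5112 (tt N6729 (iv F11133)) (tt N3827 F8381) (tt N6733 (iv F11141)) (tt N3831 F8382) (tt N3824 (iv D5112)) (tt N6734 D6734))
theorem Q5114 : ∀ i, i < 5114 → P i := stepQ 5113 Q5113 (allL N5113 (tt N6730 (iv F11136)) (tt N3826 F8383) (tt N6731 (iv F11139)) (tt N3825 F8384) (tt N6735 D6735) (tt N3824 (iv D5113)))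
theorem Q5115 : ∀ i, i < 5115 → P i := stepQ 5114 Q5114 (allL N5114 (tt N4840 F8385) (tt N6735 (iv F11144)) (tt N3827 F8386) (tt N6736 D6736) (tt N3826 (iv D5114)) (tt N6737 D6737))
theorem Q5116 : ∀ i, i < 5116 → P i := stepQ 5115 Q5115 (allL N5115 (tt N4841 F8387) (tt N6734 (iv F11142)) (tt N6737 (iv F11148)) (tt N3834 F8388) (tt N6737 (iv F11149)) (tt N3827 (iv D5115)))
theorem Q5117 : ∀ i, i < 5117 → P i := stepQ 5116 Q5116 (allL N5116 (tt N4842 F8389) (tt N6705 (iv F11088)) (tt N6327 (iv F10434)) (tt N3828 (iv D5116)) (tt N6736 (iv F11146)) (tt N3836 F8390))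
theorem Q5118 : ∀ i, i < 5118 → P i := stepQ 5117 Q5117 (allL N5117 (tt N3831 F8391) (tt N6331 (iv F10441)) (tt N6655 (iv F10999)) (tt N6729 (iv F11135)) (tt N3829 (iv D5117)) (tt N6738 D6738))
theorem Q5119 : ∀ i, i < 5119 → P i := stepQ 5118 Q5118 (allL N5118 (tt N6739 D6739) (tt N3830 (iv D5118)) (tt N3832 F8392) (tt N6651 (iv F10992)) (tt N6740 D6740) (tt N3962 F8393))
theorem Q5120 : ∀ i, i < 5120 → P i := stepQ 5119 Q5119 (allL N5119 (tt N6655 (iv F10998)) (tt N6740 (iv F11155)) (tt N3831 F8394) (tt N6741 D6741) (tt N3830 (iv D5119)) (tt N6742 D6742))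
theorem Q5121 : ∀ i, i < 5121 → P i := stepQ 5120 Q5120 (allL N5120 (tt N6738 (iv F11150)) (tt N3834 F8395) (tt N6742 (iv F11157)) (tt N6734 (iv F11143)) (tt N6703 (iv F11087)) (tt N3831 (iv D5120)))
theorem Q5122 : ∀ i, i < 5122 → P i := stepQ 5121 Q5121 (allL N5121 (tt N3832 (iv D5121)) (tt N6212 (iv F10246)) (tt N6739 (iv F11152)) (tt N3960 F8396) (tt N6743 D6743) (tt N3961 F8397))
theorem Q5123 : ∀ i, i < 5123 → P i := stepQ 5122 Q5122 (allL N5122 (tt N6743 (iv F11158)) (tt N3833 F8398) (tt N6740 (iv F11156)) (tt N6744 D6744) (tt N3832 (iv D5122)) (tt N6745 D6745))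
theorem Q5124 : ∀ i, i < 5124 → P i := stepQ 5123 Q5123 (allL N5123 (tt N6234 (iv F10292)) (tt N6744 (iv F11159)) (tt N6746 D6746) (tt N3833 (iv D5123)) (tt N3959 F8399) (tt N6747 D6747))
theorem Q5125 : ∀ i, i < 5125 → P i := stepQ 5124 Q5124 (allL N5124 (tt N6233 (iv F10289)) (tt N6745 (iv F11161)) (tt N3834 F8400) (tt N6747 (iv F11164)) (tt N3964 F8401) (tt N3833 (iv D5124)))
theorem Q5126 : ∀ i, i < 5126 → P i := stepQ 5125 Q5125 (allL N5125 (tt N6232 (iv F10286)) (tt N6703 (iv F11086)) (tt N3964 F8402) (tt N6748 D6748) (tt N3834 (iv D5125)) (tt N3835 F8403))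
theorem Q5127 : ∀ i, i < 5127 → P i := stepQ 5126 Q5126 (allL N5126 (tt N6231 (iv F10284)) (tt N6702 (iv F11084)) (tt N6749 D6749) (tt N3835 (iv D5126)) (tt N3836 F8404) (tt N6748 (iv F11166)))
theorem Q5128 : ∀ i, i < 5128 → P i := stepQ 5127 Q5127 (allL N5127 (tt N6330 (iv F10439)) (tt N6750 D6750) (tt N3836 (iv D5127)) (tt N6319 (iv F10415)) (tt N6749 (iv F11167)) (tt N6327 (iv F10433)))
theorem Q5129 : ∀ i, i < 5129 → P i := stepQ 5128 Q5128 (allL N5128 (tt N3839 F8405) (tt N6751 D6751) (tt N3837 (iv D5128)) (tt N6752 D6752) (tt N6700 (iv F11081)) (tt N6753 D6753))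
theorem Q5130 : ∀ i, i < 5130 → P i := stepQ 5129 Q5129 (allL N5129 (tt N3840 F8406) (tt N3866 F8407) (tt N6753 (iv F11171)) (tt N3838 F8408) (tt N6754 D6754) (tt N3837 (iv D5129)))
theorem Q5131 : ∀ i, i < 5131 → P i := stepQ 5130 Q5130 (allL N5130 (tt N6755 D6755) (tt N3839 (iv D5130)) (tt N3841 F8409) (tt N6756 D6756) (tt N6706 (iv F11091)) (tt N3859 (iv F8410)))
theorem Q5132 : ∀ i, i < 5132 → P i := stepQ 5131 Q5131 (allL N5131 (tt N6752 (iv F11169)) (tt N6756 (iv F11176)) (tt N6757 D6757) (tt N3839 (iv D5131)) (tt N6758 D6758) (tt N6759 D6759))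
theorem Q5133 : ∀ i, i < 5133 → P i := stepQ 5132 Q5132 (allL N5132 (tt N6753 (iv F11170)) (tt N3859 F8411) (tt N3840 F8412) (tt N6759 (iv F11179)) (tt N6760 D6760) (tt N3839 (iv D5132)))
theorem Q5134 : ∀ i, i < 5134 → P i := stepQ 5133 Q5133 (allL N5133 (tt N6754 (iv F11172)) (tt N3842 F8413) (tt N6760 (iv F11181)) (tt N6692 (iv F11063)) (tt N3840 (iv D5133)) (tt N6693 (iv F11067)))
theorem Q5135 : ∀ i, i < 5135 → P i := stepQ 5134 Q5134 (allL N5134 (tt N3841 (iv D5134)) (tt N3875 F8414) (tt N6755 (iv F11174)) (tt N3858 F8415) (tt N6708 (iv F11093)) (tt N3857 F8416))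
theorem Q5136 : ∀ i, i < 5136 → P i := stepQ 5135 Q5135 (allL N5135 (tt N5102 F8417) (tt N3845 F8418) (tt N3895 F8419) (tt N6761 D6761) (tt N3843 (iv D5135)) (tt N6762 D6762))
theorem Q5137 : ∀ i, i < 5137 → P i := stepQ 5136 Q5136 (allL N5136 (tt N3848 F8420) (tt N5232 (iv F8581)) (tt N6122 (iv F10064)) (tt N6763 D6763) (tt N3844 (iv D5136)) (tt N6764 D6764))
theorem Q5138 : ∀ i, i < 5138 → P i := stepQ 5137 Q5137 (allL N5137 (tt N3849 F8421) (tt N6761 (iv F11183)) (tt N6765 D6765) (tt N3845 (iv D5137)) (tt N6763 (iv F11188)) (tt N6766 D6766))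
theorem Q5139 : ∀ i, i < 5139 → P i := stepQ 5138 Q5138 (allL N5138 (tt N3850 F8422) (tt N6762 (iv F11185)) (tt N3846 F8423) (tt N6766 (iv F11192)) (tt N5206 (iv F8529)) (tt N3845 (iv D5138)))
theorem Q5140 : ∀ i, i < 5140 → P i := stepQ 5139 Q5139 (allL N5139 (tt N6122 (iv F10062)) (tt N5227 (iv F8565)) (tt N3848 F8424) (tt N6767 D6767) (tt N3847 (iv D5139)) (tt N6768 D6768))
theorem Q5141 : ∀ i, i < 5141 → P i := stepQ 5140 Q5140 (allL N5140 (tt N6763 (iv F11187)) (tt N5105 F8425) (tt N6769 D6769) (tt N3848 (iv D5140)) (tt N3849 F8426) (tt N6770 D6770))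
theorem Q5142 : ∀ i, i < 5142 → P i := stepQ 5141 Q5141 (allL N5141 (tt N6764 (iv F11189)) (tt N5106 F8427) (tt N6768 (iv F11193)) (tt N6770 (iv F11196)) (tt N5209 (iv F8536)) (tt N3848 (iv D5141)))
theorem Q5143 : ∀ i, i < 5143 → P i := stepQ 5142 Q5142 (allL N5142 (tt N6765 (iv F11190)) (tt N6771 D6771) (tt N3849 (iv D5142)) (tt N6772 D6772) (tt N6769 (iv F11194)) (tt N6773 D6773))
theorem Q5144 : ∀ i, i < 5144 → P i := stepQ 5143 Q5143 (allL N5143 (tt N6766 (iv F11191)) (tt N5108 F8428) (tt N6773 (iv F11198)) (tt N3850 F8429) (tt N6774 D6774) (tt N3849 (iv D5143)))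
theorem Q5145 : ∀ i, i < 5145 → P i := stepQ 5144 Q5144 (allL N5144 (tt N3852 F8430) (tt N4764 F8431) (tt N6775 D6775) (tt N3851 (iv D5144)) (tt N6776 D6776) (tt N6777 D6777))
theorem Q5146 : ∀ i, i < 5146 → P i := stepQ 5145 Q5145 (allL N5145 (tt N3853 F8432) (tt N4765 F8433) (tt N3858 F8434) (tt N6777 (iv F11206)) (tt N4962 F8435) (tt N3851 (iv D5145)))
theorem Q5147 : ∀ i, i < 5147 → P i := stepQ 5146 Q5146 (allL N5146 (tt N6775 (iv F11200)) (tt N6778 D6778) (tt N3852 (iv D5146)) (tt N6779 D6779) (tt N6780 D6780) (tt N6778 F11208))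
theorem Q5148 : ∀ i, i < 5148 → P i := stepQ 5147 Q5147 (allL N5147 (tt N6776 (iv F11201)) (tt N3855 F8436) (tt N6780 (iv F11209)) (tt N4760 F8437) (tt N3852 (iv D5147)) (tt N6781 D6781))
theorem Q5149 : ∀ i, i < 5149 → P i := stepQ 5148 Q5148 (allL N5148 (tt N6777 (iv F11204)) (tt N3854 F8438) (tt N6778 (iv F11207)) (tt N3853 F8439) (tt N6782 D6782) (tt N3852 (iv D5148)))
theorem Q5150 : ∀ i, i < 5150 → P i := stepQ 5149 Q5149 (allL N5149 (tt N4962 F8440) (tt N3856 F8441) (tt N3861 F8442) (tt N6783 D6783) (tt N3853 (iv D5149)) (tt N4761 F8443))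
theorem Q5151 : ∀ i, i < 5151 → P i := stepQ 5150 Q5150 (allL N5150 (tt N4769 F8444) (tt N6782 (iv F11212)) (tt N3855 F8445) (tt N6784 D6784) (tt N3854 (iv D5150)) (tt N6785 D6785))
theorem Q5152 : ∀ i, i < 5152 → P i := stepQ 5151 Q5151 (allL N5151 (tt N4770 F8446) (tt N6781 (iv F11210)) (tt N6785 (iv F11219)) (tt N4762 F8447) (tt N6785 (iv F11220)) (tt N3855 (iv D5151)))
theorem Q5153 : ∀ i, i < 5153 → P i := stepQ 5152 Q5152 (allL N5152 (tt N4771 F8448) (tt N6783 (iv F11214)) (tt N6786 D6786) (tt N3856 (iv D5152)) (tt N6784 (iv F11217)) (tt N4763 F8449))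
theorem Q5154 : ∀ i, i < 5154 → P i := stepQ 5153 Q5153 (allL N5153 (tt N3859 F8450) (tt N6787 D6787) (tt N3857 (iv D5153)) (tt N6788 D6788) (tt N6789 D6789) (tt N6755 (iv F11175)))
theorem Q5155 : ∀ i, i < 5155 → P i := stepQ 5154 Q5154 (allL N5154 (tt N3860 F8451) (tt N4805 F8452) (tt N6789 (iv F11227)) (tt N4799 F8453) (tt N3857 (iv D5154)) (tt N6790 D6790))
theorem Q5156 : ∀ i, i < 5156 → P i := stepQ 5155 Q5155 (allL N5155 (tt N3861 F8454) (tt N4806 F8455) (tt N4962 F8456) (tt N6791 D6791) (tt N3858 (iv D5155)) (tt N4800 F8457))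
theorem Q5157 : ∀ i, i < 5157 → P i := stepQ 5156 Q5156 (allL N5156 (tt N6788 (iv F11225)) (tt N6759 (iv F11178)) (tt N6792 D6792) (tt N3859 (iv D5156)) (tt N6793 D6793) (tt N6756 (iv F11177)))
theorem Q5158 : ∀ i, i < 5158 → P i := stepQ 5157 Q5157 (allL N5157 (tt N6789 (iv F11226)) (tt N6760 (iv F11180)) (tt N3860 F8458) (tt N6794 D6794) (tt N3859 (iv D5157)) (tt N6795 D6795))
theorem Q5159 : ∀ i, i < 5159 → P i := stepQ 5158 Q5158 (allL N5158 (tt N6790 (iv F11228)) (tt N3862 F8459) (tt N6795 (iv F11234)) (tt N4801 F8460) (tt N6696 (iv F11072)) (tt N3860 (iv D5158)))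
theorem Q5160 : ∀ i, i < 5160 → P i := stepQ 5159 Q5159 (allL N5159 (tt N6791 (iv F11231)) (tt N3863 F8461) (tt N6796 D6796) (tt N3861 (iv D5159)) (tt N6709 (iv F11095)) (tt N4802 F8462))
theorem Q5161 : ∀ i, i < 5161 → P i := stepQ 5160 Q5160 (allL N5160 (tt N6797 D6797) (tt N3864 (iv D5160)) (tt N6751 (iv F11168)) (tt N6798 D6798) (tt N6799 D6799) (tt N6800 D6800))
theorem Q5162 : ∀ i, i < 5162 → P i := stepQ 5161 Q5161 (allL N5161 (tt N3869 F8463) (tt N6798 (iv F11240)) (tt N4858 F8464) (tt N3864 (iv D5161)) (tt N6801 D6801) (tt N6444 (iv F10652)))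
theorem Q5163 : ∀ i, i < 5163 → P i := stepQ 5162 Q5162 (allL N5162 (tt N3870 F8465) (tt N6799 (iv F11242)) (tt N3865 F8466) (tt N6802 D6802) (tt N3864 (iv D5162)) (tt N6803 D6803))
theorem Q5164 : ∀ i, i < 5164 → P i := stepQ 5163 Q5163 (allL N5163 (tt N3871 F8467) (tt N6800 (iv F11244)) (tt N3866 F8468) (tt N6444 (iv F10651)) (tt N6804 D6804) (tt N3864 (iv D5163)))
theorem Q5165 : ∀ i, i < 5165 → P i := stepQ 5164 Q5164 (allL N5164 (tt N3872 F8469) (tt N6682 (iv F11046)) (tt N6803 (iv F11249)) (tt N3885 F8470) (tt N6805 D6805) (tt N3865 (iv D5164)))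
theorem Q5166 : ∀ i, i < 5166 → P i := stepQ 5165 Q5165 (allL N5165 (tt N3873 F8471) (tt N6754 (iv F11173)) (tt N6804 (iv F11251)) (tt N6806 D6806) (tt N3866 (iv D5165)) (tt N6805 (iv F11253)))
theorem Q5167 : ∀ i, i < 5167 → P i := stepQ 5166 Q5166 (allL N5166 (tt N3874 F8472) (tt N6680 (iv F11042)) (tt N6807 D6807) (tt N3867 (iv D5166)) (tt N6806 (iv F11255)) (tt N3886 F8473))
theorem Q5168 : ∀ i, i < 5168 → P i := stepQ 5167 Q5167 (allL N5167 (tt N3868 (iv D5167)) (tt N6797 (iv F11236)) (tt N3875 F8474) (tt N4860 (iv F8476)) (tt N6808 D6808) (tt N4804 F8475))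
theorem Q5169 : ∀ i, i < 5169 → P i := stepQ 5168 Q5168 (allL N5168 (tt N4860 F8477) (tt N3869 F8478) (tt N4851 F8480) (tt N3868 (iv D5168)) (tt N6809 D6809) (tt N4807 F8479))
theorem Q5170 : ∀ i, i < 5170 → P i := stepQ 5169 Q5169 (allL N5169 (tt N6808 (iv F11258)) (tt N3870 F8481) (tt N3876 F8482) (tt N6810 D6810) (tt N3868 (iv D5169)) (tt N6811 D6811))
theorem Q5171 : ∀ i, i < 5171 → P i := stepQ 5170 Q5170 (allL N5170 (tt N4858 F8483) (tt N6812 D6812) (tt N3869 (iv D5170)) (tt N4857 F8484) (tt N6813 D6813) (tt N6441 (iv F10643)))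
theorem Q5172 : ∀ i, i < 5172 → P i := stepQ 5171 Q5171 (allL N5171 (tt N6801 (iv F11245)) (tt N6809 (iv F11261)) (tt N6813 (iv F11271)) (tt N6814 D6814) (tt N3869 (iv D5171)) (tt N6815 D6815))
theorem Q5173 : ∀ i, i < 5173 → P i := stepQ 5172 Q5172 (allL N5172 (tt N6444 (iv F10650)) (tt N4807 F8485) (tt N6441 (iv F10642)) (tt N3871 F8486) (tt N6816 D6816) (tt N3869 (iv D5172)))
theorem Q5174 : ∀ i, i < 5174 → P i := stepQ 5173 Q5173 (allL N5173 (tt N6802 (iv F11247)) (tt N6810 (iv F11263)) (tt N6817 D6817) (tt N3870 (iv D5173)) (tt N6814 (iv F11272)) (tt N6818 D6818))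
theorem Q5175 : ∀ i, i < 5175 → P i := stepQ 5174 Q5174 (allL N5174 (tt N6803 (iv F11248)) (tt N6811 (iv F11264)) (tt N3872 F8487) (tt N6818 (iv F11274)) (tt N6819 D6819) (tt N3870 (iv D5174)))
theorem Q5176 : ∀ i, i < 5176 → P i := stepQ 5175 Q5175 (allL N5175 (tt N6804 (iv F11250)) (tt N4808 F8488) (tt N3873 F8489) (tt N6820 D6820) (tt N3871 (iv D5175)) (tt N6819 (iv F11277)))
theorem Q5177 : ∀ i, i < 5177 → P i := stepQ 5176 Q5176 (allL N5176 (tt N6805 (iv F11252)) (tt N3879 F8490) (tt N6819 (iv F11276)) (tt N6636 (iv F10954)) (tt N3872 (iv D5176)) (tt N3873 F8491))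
theorem Q5178 : ∀ i, i < 5178 → P i := stepQ 5177 Q5177 (allL N5177 (tt N6806 (iv F11254)) (tt N3880 F8492) (tt N6821 D6821) (tt N3873 (iv D5177)) (tt N3874 F8493) (tt N6636 (iv F10955)))
theorem Q5179 : ∀ i, i < 5179 → P i := stepQ 5178 Q5178 (allL N5178 (tt N6807 (iv F11256)) (tt N6822 D6822) (tt N3874 (iv D5178)) (tt N6823 D6823) (tt N6821 (iv F11279)) (tt N3891 F8494))
theorem Q5180 : ∀ i, i < 5180 → P i := stepQ 5179 Q5179 (allL N5179 (tt N3876 F8495) (tt N6708 (iv F11092)) (tt N6808 (iv F11259)) (tt N6824 D6824) (tt N3875 (iv D5179)) (tt N6825 D6825))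
theorem Q5181 : ∀ i, i < 5181 → P i := stepQ 5180 Q5180 (allL N5180 (tt N6824 (iv F11283)) (tt N3877 F8496) (tt N6826 D6826) (tt N3876 (iv D5180)) (tt N4810 F8497) (tt N6659 (iv F11003)))
theorem Q5182 : ∀ i, i < 5182 → P i := stepQ 5181 Q5181 (allL N5181 (tt N6825 (iv F11285)) (tt N3878 F8498) (tt N6811 (iv F11265)) (tt N6659 (iv F11001)) (tt N4809 F8499) (tt N3876 (iv D5181)))
theorem Q5183 : ∀ i, i < 5183 → P i := stepQ 5182 Q5182 (allL N5182 (tt N6827 D6827) (tt N3881 (iv D5182)) (tt N6822 (iv F11280)) (tt N6353 (iv F10486)) (tt N6674 (iv F11032)) (tt N3892 F8500))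
theorem Q5184 : ∀ i, i < 5184 → P i := stepQ 5183 Q5183 (allL N5183 (tt N6151 (iv F10126)) (tt N3883 F8501) (tt N6347 (iv F10473)) (tt N3882 (iv D5183)) (tt N6828 D6828) (tt N6463 (iv F10691)))
theorem Q5185 : ∀ i, i < 5185 → P i := stepQ 5184 Q5184 (allL N5184 (tt N6613 (iv F10918)) (tt N3884 F8502) (tt N6638 (iv F10961)) (tt N6829 D6829) (tt N3882 (iv D5184)) (tt N6830 D6830))
theorem Q5186 : ∀ i, i < 5186 → P i := stepQ 5185 Q5185 (allL N5185 (tt N3888 F8503) (tt N6828 (iv F11289)) (tt N6346 (iv F10471)) (tt N6831 D6831) (tt N3883 (iv D5185)) (tt N6832 D6832))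
theorem Q5187 : ∀ i, i < 5187 → P i := stepQ 5186 Q5186 (allL N5186 (tt N3889 F8504) (tt N6829 (iv F11290)) (tt N6833 D6833) (tt N3884 (iv D5186)) (tt N6831 (iv F11296)) (tt N6834 D6834))
theorem Q5188 : ∀ i, i < 5188 → P i := stepQ 5187 Q5187 (allL N5187 (tt N3890 F8505) (tt N6830 (iv F11292)) (tt N3885 F8506) (tt N6834 (iv F11300)) (tt N6617 (iv F10926)) (tt N3884 (iv D5187)))
theorem Q5189 : ∀ i, i < 5189 → P i := stepQ 5188 Q5188 (allL N5188 (tt N3891 F8507) (tt N6835 D6835) (tt N3886 (iv D5188)) (tt N6836 D6836) (tt N6631 (iv F10944)) (tt N6807 (iv F11257)))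
theorem Q5190 : ∀ i, i < 5190 → P i := stepQ 5189 Q5189 (allL N5189 (tt N5853 (iv F9610)) (tt N3887 (iv D5189)) (tt N6140 (iv F10101)) (tt N5852 F9609) (tt N6837 D6837) (tt N6458 (iv F10681)))
theorem Q5191 : ∀ i, i < 5191 → P i := stepQ 5190 Q5190 (allL N5190 (tt N6346 (iv F10469)) (tt N6837 (iv F11302)) (tt N3888 F8508) (tt N6838 D6838) (tt N3887 (iv D5190)) (tt N6839 D6839))
theorem Q5192 : ∀ i, i < 5192 → P i := stepQ 5191 Q5191 (allL N5191 (tt N6831 (iv F11295)) (tt N6629 (iv F10941)) (tt N6840 D6840) (tt N3888 (iv D5191)) (tt N3889 F8509) (tt N6841 D6841))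
theorem Q5193 : ∀ i, i < 5193 → P i := stepQ 5192 Q5192 (allL N5192 (tt N6832 (iv F11297)) (tt N6628 (iv F10939)) (tt N6839 (iv F11305)) (tt N6841 (iv F11307)) (tt N6624 (iv F10936)) (tt N3888 (iv D5192)))
theorem Q5194 : ∀ i, i < 5194 → P i := stepQ 5193 Q5193 (allL N5193 (tt N6833 (iv F11298)) (tt N6842 D6842) (tt N3889 (iv D5193)) (tt N6843 D6843) (tt N6840 (iv F11306)) (tt N6844 D6844))
theorem Q5195 : ∀ i, i < 5195 → P i := stepQ 5194 Q5194 (allL N5194 (tt N6834 (iv F11299)) (tt N6623 (iv F10933)) (tt N6844 (iv F11308)) (tt N3890 F8510) (tt N6845 D6845) (tt N3889 (iv D5194)))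
theorem Q5196 : ∀ i, i < 5196 → P i := stepQ 5195 Q5195 (allL N5195 (tt N6846 D6846) (tt N3891 (iv D5195)) (tt N3892 F8511) (tt N6847 D6847) (tt N6633 (iv F10949)) (tt N6822 (iv F11281)))
theorem Q5197 : ∀ i, i < 5197 → P i := stepQ 5196 Q5196 (allL N5196 (tt N6836 (iv F11301)) (tt N6847 (iv F11310)) (tt N6848 D6848) (tt N3891 (iv D5196)) (tt N6849 D6849) (tt N6823 (iv F11282)))
theorem Q5198 : ∀ i, i < 5198 → P i := stepQ 5197 Q5197 (allL N5197 (tt N3892 (iv D5197)) (tt N6695 (iv F11070)) (tt N6846 (iv F11309)) (tt N6850 D6850) (tt N6637 (iv F10958)) (tt N6827 (iv F11288)))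
theorem Q5199 : ∀ i, i < 5199 → P i := stepQ 5198 Q5198 (allL N5198 (tt N6850 (iv F11311)) (tt N3893 F8512) (tt N6851 D6851) (tt N3892 (iv D5198)) (tt N6675 (iv F11034)) (tt N6353 (iv F10488)))
theorem Q5200 : ∀ i, i < 5200 → P i := stepQ 5199 Q5199 (allL N5199 (tt N3895 F8513) (tt N3899 F8514) (tt N5102 F8515) (tt N6852 D6852) (tt N3894 (iv D5199)) (tt N6853 D6853))
theorem Q5201 : ∀ i, i < 5201 → P i := stepQ 5200 Q5200 (allL N5200 (tt N6852 (iv F11313)) (tt N3896 F8516) (tt N6854 D6854) (tt N3895 (iv D5200)) (tt N4748 F8517) (tt N6855 D6855))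
theorem Q5202 : ∀ i, i < 5202 → P i := stepQ 5201 Q5201 (allL N5201 (tt N6853 (iv F11316)) (tt N3897 F8518) (tt N6762 (iv F11186)) (tt N6855 (iv F11322)) (tt N6719 (iv F11118)) (tt N3895 (iv D5201)))
theorem Q5203 : ∀ i, i < 5203 → P i := stepQ 5202 Q5202 (allL N5202 (tt N3906 F8519) (tt N6856 D6856) (tt N3896 (iv D5202)) (tt N6485 (iv F10730)) (tt N4750 F8520) (tt N6484 (iv F10727)))
theorem Q5204 : ∀ i, i < 5204 → P i := stepQ 5203 Q5203 (allL N5203 (tt N3907 F8521) (tt N6855 (iv F11321)) (tt N6484 (iv F10726)) (tt N3897 F8522) (tt N6857 D6857) (tt N3896 (iv D5203)))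
theorem Q5205 : ∀ i, i < 5205 → P i := stepQ 5204 Q5204 (allL N5204 (tt N3901 F8523) (tt N4747 F8524) (tt N4707 F8525) (tt N6858 D6858) (tt N3898 (iv D5204)) (tt N6859 D6859))
theorem Q5206 : ∀ i, i < 5206 → P i := stepQ 5205 Q5205 (allL N5205 (tt N3902 F8526) (tt N6852 (iv F11314)) (tt N6860 D6860) (tt N3899 (iv D5205)) (tt N6858 (iv F11329)) (tt N6861 D6861))
theorem Q5207 : ∀ i, i < 5207 → P i := stepQ 5206 Q5206 (allL N5206 (tt N3903 F8527) (tt N6853 (iv F11317)) (tt N3909 F8528) (tt N6861 (iv F11336)) (tt N5138 F8529) (tt N3899 (iv D5206)))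
theorem Q5208 : ∀ i, i < 5208 → P i := stepQ 5207 Q5207 (allL N5207 (tt N4707 F8530) (tt N4705 F8531) (tt N3901 F8532) (tt N6862 D6862) (tt N3900 (iv D5207)) (tt N6863 D6863))
theorem Q5209 : ∀ i, i < 5209 → P i := stepQ 5208 Q5208 (allL N5208 (tt N6858 (iv F11327)) (tt N3904 F8533) (tt N6864 D6864) (tt N3901 (iv D5208)) (tt N3902 F8534) (tt N6865 D6865))
theorem Q5210 : ∀ i, i < 5210 → P i := stepQ 5209 Q5209 (allL N5209 (tt N6859 (iv F11330)) (tt N3905 F8535) (tt N6863 (iv F11342)) (tt N6865 (iv F11346)) (tt N5141 F8536) (tt N3901 (iv D5209)))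
theorem Q5211 : ∀ i, i < 5211 → P i := stepQ 5210 Q5210 (allL N5210 (tt N6860 (iv F11334)) (tt N6866 D6866) (tt N3902 (iv D5210)) (tt N6867 D6867) (tt N6864 (iv F11344)) (tt N6868 D6868))
theorem Q5212 : ∀ i, i < 5212 → P i := stepQ 5211 Q5211 (allL N5211 (tt N6861 (iv F11335)) (tt N3907 F8537) (tt N6868 (iv F11348)) (tt N3903 F8538) (tt N6869 D6869) (tt N3902 (iv D5211)))
theorem Q5213 : ∀ i, i < 5213 → P i := stepQ 5212 Q5212 (allL N5212 (tt N4750 F8539) (tt N6870 D6870) (tt N3904 (iv D5212)) (tt N5501 (iv F9074)) (tt N3906 F8540) (tt N5500 (iv F9072)))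
theorem Q5214 : ∀ i, i < 5214 → P i := stepQ 5213 Q5213 (allL N5213 (tt N4751 F8541) (tt N6865 (iv F11345)) (tt N5500 (iv F9071)) (tt N3905 F8542) (tt N6871 D6871) (tt N3904 (iv D5213)))
theorem Q5215 : ∀ i, i < 5215 → P i := stepQ 5214 Q5214 (allL N5214 (tt N6872 D6872) (tt N3906 (iv D5214)) (tt N6866 (iv F11347)) (tt N6873 D6873) (tt N6870 (iv F11351)) (tt N6874 D6874))
theorem Q5216 : ∀ i, i < 5216 → P i := stepQ 5215 Q5215 (allL N5215 (tt N6485 (iv F10728)) (tt N6873 (iv F11355)) (tt N4355 F8543) (tt N3906 (iv D5215)) (tt N6875 D6875) (tt N4354 F8544))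
theorem Q5217 : ∀ i, i < 5217 → P i := stepQ 5216 Q5216 (allL N5216 (tt N6484 (iv F10725)) (tt N6874 (iv F11357)) (tt N3907 F8545) (tt N4354 F8546) (tt N6876 D6876) (tt N3906 (iv D5216)))
theorem Q5218 : ∀ i, i < 5218 → P i := stepQ 5217 Q5217 (allL N5217 (tt N6857 (iv F11324)) (tt N6869 (iv F11349)) (tt N6876 (iv F11364)) (tt N6727 (iv F11131)) (tt N3907 (iv D5217)) (tt N6871 (iv F11354)))
theorem Q5219 : ∀ i, i < 5219 → P i := stepQ 5218 Q5218 (allL N5218 (tt N3910 F8547) (tt N5467 (iv F9024)) (tt N3908 (iv D5218)) (tt N6877 D6877) (tt N5035 F8548) (tt N6878 D6878))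
theorem Q5220 : ∀ i, i < 5220 → P i := stepQ 5219 Q5219 (allL N5219 (tt N3911 F8549) (tt N5094 F8550) (tt N6878 (iv F11369)) (tt N3909 F8551) (tt N5519 (iv F9091)) (tt N3908 (iv D5219)))
theorem Q5221 : ∀ i, i < 5221 → P i := stepQ 5220 Q5220 (allL N5220 (tt N6879 D6879) (tt N3910 (iv D5220)) (tt N3912 F8552) (tt N6880 D6880) (tt N5036 F8553) (tt N6881 D6881))
theorem Q5222 : ∀ i, i < 5222 → P i := stepQ 5221 Q5221 (allL N5221 (tt N6877 (iv F11367)) (tt N6880 (iv F11372)) (tt N6882 D6882) (tt N3910 (iv D5221)) (tt N6883 D6883) (tt N6884 D6884))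
theorem Q5223 : ∀ i, i < 5223 → P i := stepQ 5222 Q5222 (allL N5222 (tt N6878 (iv F11368)) (tt N6881 (iv F11373)) (tt N3911 F8554) (tt N6884 (iv F11377)) (tt N6885 D6885) (tt N3910 (iv D5222)))
theorem Q5224 : ∀ i, i < 5224 → P i := stepQ 5223 Q5223 (allL N5223 (tt N5519 (iv F9088)) (tt N3915 F8555) (tt N6885 (iv F11379)) (tt N4829 F8556) (tt N3911 (iv D5223)) (tt N4828 F8557))
theorem Q5225 : ∀ i, i < 5225 → P i := stepQ 5224 Q5224 (allL N5224 (tt N3912 (iv D5224)) (tt N5099 F8558) (tt N6879 (iv F11370)) (tt N6886 D6886) (tt N5038 F8559) (tt N6887 D6887))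
theorem Q5226 : ∀ i, i < 5226 → P i := stepQ 5225 Q5225 (allL N5225 (tt N6886 (iv F11381)) (tt N3913 F8560) (tt N6888 D6888) (tt N3912 (iv D5225)) (tt N5052 F8561) (tt N6387 (iv F10552)))
theorem Q5227 : ∀ i, i < 5227 → P i := stepQ 5226 Q5226 (allL N5226 (tt N6887 (iv F11384)) (tt N3914 F8562) (tt N6881 (iv F11374)) (tt N6387 (iv F10550)) (tt N5051 F8563) (tt N3912 (iv D5226)))
theorem Q5228 : ∀ i, i < 5228 → P i := stepQ 5227 Q5227 (allL N5227 (tt N4612 F8564) (tt N5139 F8565) (tt N3917 F8566) (tt N6889 D6889) (tt N3916 (iv D5227)) (tt N6890 D6890))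
theorem Q5229 : ∀ i, i < 5229 → P i := stepQ 5228 Q5228 (allL N5228 (tt N4615 F8567) (tt N3919 F8568) (tt N6891 D6891) (tt N3917 (iv D5228)) (tt N3918 F8569) (tt N6892 D6892))
theorem Q5230 : ∀ i, i < 5230 → P i := stepQ 5229 Q5229 (allL N5229 (tt N4616 F8570) (tt N3920 F8571) (tt N6890 (iv F11393)) (tt N6892 (iv F11400)) (tt N4706 F8572) (tt N3917 (iv D5229)))
theorem Q5231 : ∀ i, i < 5231 → P i := stepQ 5230 Q5230 (allL N5230 (tt N4645 F8573) (tt N4416 F8574) (tt N3918 (iv D5230)) (tt N6893 D6893) (tt N6891 (iv F11397)) (tt N4388 F8575))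
theorem Q5232 : ∀ i, i < 5232 → P i := stepQ 5231 Q5231 (allL N5231 (tt N3926 F8576) (tt N6892 (iv F11399)) (tt N4418 F8577) (tt N3920 F8578) (tt N4389 F8579) (tt N3919 (iv D5231)))
theorem Q5233 : ∀ i, i < 5233 → P i := stepQ 5232 Q5232 (allL N5232 (tt N3922 F8580) (tt N5136 F8581) (tt N4566 F8582) (tt N6894 D6894) (tt N3921 (iv D5232)) (tt N6895 D6895))
theorem Q5234 : ∀ i, i < 5234 → P i := stepQ 5233 Q5233 (allL N5233 (tt N6894 (iv F11406)) (tt N3923 F8583) (tt N6896 D6896) (tt N3922 (iv D5233)) (tt N6718 (iv F11116)) (tt N6897 D6897))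
theorem Q5235 : ∀ i, i < 5235 → P i := stepQ 5234 Q5234 (allL N5234 (tt N6895 (iv F11409)) (tt N3924 F8584) (tt N4567 F8585) (tt N6897 (iv F11414)) (tt N4749 F8586) (tt N3922 (iv D5234)))
theorem Q5236 : ∀ i, i < 5236 → P i := stepQ 5235 Q5235 (allL N5235 (tt N6722 (iv F11123)) (tt N6898 D6898) (tt N3923 (iv D5235)) (tt N6899 D6899) (tt N6720 (iv F11120)) (tt N6900 D6900))
theorem Q5237 : ∀ i, i < 5237 → P i := stepQ 5236 Q5236 (allL N5236 (tt N6723 (iv F11125)) (tt N6897 (iv F11413)) (tt N6900 (iv F11417)) (tt N3924 F8587) (tt N6901 D6901) (tt N3923 (iv D5236)))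
theorem Q5238 : ∀ i, i < 5238 → P i := stepQ 5237 Q5237 (allL N5237 (tt N6902 D6902) (tt N3925 (iv D5237)) (tt N4688 F8588) (tt N6903 D6903) (tt N3927 F8589) (tt N6904 D6904))
theorem Q5239 : ∀ i, i < 5239 → P i := stepQ 5238 Q5238 (allL N5238 (tt N4413 F8590) (tt N6903 (iv F11423)) (tt N6905 D6905) (tt N3925 (iv D5238)) (tt N4402 F8591) (tt N6906 D6906))
theorem Q5240 : ∀ i, i < 5240 → P i := stepQ 5239 Q5239 (allL N5239 (tt N4418 F8592) (tt N6904 (iv F11425)) (tt N3926 F8593) (tt N6906 (iv F11431)) (tt N4397 F8594) (tt N3925 (iv D5239)))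
theorem Q5241 : ∀ i, i < 5241 → P i := stepQ 5240 Q5240 (allL N5240 (tt N3927 (iv D5240)) (tt N4415 F8595) (tt N4687 F8596) (tt N4404 F8597) (tt N6902 (iv F11422)) (tt N4398 F8598))
theorem Q5242 : ∀ i, i < 5242 → P i := stepQ 5241 Q5241 (allL N5241 (tt N3929 F8599) (tt N3938 F8600) (tt N6907 D6907) (tt N3928 (iv D5241)) (tt N6908 D6908) (tt N4462 (iv F8601)))
theorem Q5243 : ∀ i, i < 5243 → P i := stepQ 5242 Q5242 (allL N5242 (tt N3930 F8602) (tt N3939 F8603) (tt N3987 F8604) (tt N4462 F8605) (tt N4240 F8606) (tt N3928 (iv D5242)))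
theorem Q5244 : ∀ i, i < 5244 → P i := stepQ 5243 Q5243 (allL N5243 (tt N6907 (iv F11432)) (tt N4458 F8607) (tt N3929 (iv D5243)) (tt N6909 D6909) (tt N6910 D6910) (tt N4455 F8608))
theorem Q5245 : ∀ i, i < 5245 → P i := stepQ 5244 Q5244 (allL N5244 (tt N6908 (iv F11434)) (tt N3931 F8609) (tt N6910 (iv F11440)) (tt N3934 F8610) (tt N3929 (iv D5244)) (tt N6911 D6911))
theorem Q5246 : ∀ i, i < 5246 → P i := stepQ 5245 Q5245 (allL N5245 (tt N4240 F8611) (tt N3932 F8612) (tt N3991 F8613) (tt N6912 D6912) (tt N3930 (iv D5245)) (tt N3935 F8614))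
theorem Q5247 : ∀ i, i < 5247 → P i := stepQ 5246 Q5246 (allL N5246 (tt N3945 F8615) (tt N6911 (iv F11441)) (tt N4466 F8616) (tt N3936 F8617) (tt N4465 F8618) (tt N3931 (iv D5246)))
theorem Q5248 : ∀ i, i < 5248 → P i := stepQ 5247 Q5247 (allL N5247 (tt N3947 F8619) (tt N6912 (iv F11445)) (tt N6913 D6913) (tt N3932 (iv D5247)) (tt N4464 F8620) (tt N3937 F8621))
theorem Q5249 : ∀ i, i < 5249 → P i := stepQ 5248 Q5248 (allL N5248 (tt N3934 F8622) (tt N3948 F8623) (tt N5547 (iv F9144)) (tt N6908 (iv F11436)) (tt N3933 (iv D5248)) (tt N6914 D6914))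
theorem Q5250 : ∀ i, i < 5250 → P i := stepQ 5249 Q5249 (allL N5249 (tt N6914 (iv F11452)) (tt N3936 F8624) (tt N6557 (iv F10851)) (tt N6911 (iv F11442)) (tt N6321 (iv F10421)) (tt N3934 (iv D5249)))
theorem Q5251 : ∀ i, i < 5251 → P i := stepQ 5250 Q5250 (allL N5250 (tt N4239 F8625) (tt N3937 F8626) (tt N6915 D6915) (tt N3935 (iv D5250)) (tt N6320 (iv F10418)) (tt N6912 (iv F11447)))
theorem Q5252 : ∀ i, i < 5252 → P i := stepQ 5251 Q5251 (allL N5251 (tt N3957 F8627) (tt N6916 D6916) (tt N3937 (iv D5251)) (tt N4468 F8628) (tt N6322 (iv F10423)) (tt N6913 (iv F11451)))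
theorem Q5253 : ∀ i, i < 5253 → P i := stepQ 5252 Q5252 (allL N5252 (tt N3940 F8629) (tt N6917 D6917) (tt N3938 (iv D5252)) (tt N6918 D6918) (tt N6919 D6919) (tt N6920 D6920))
theorem Q5254 : ∀ i, i < 5254 → P i := stepQ 5253 Q5253 (allL N5253 (tt N3941 F8630) (tt N6908 (iv F11435)) (tt N6919 (iv F11461)) (tt N3948 F8631) (tt N3938 (iv D5253)) (tt N6921 D6921))
theorem Q5255 : ∀ i, i < 5255 → P i := stepQ 5254 Q5254 (allL N5254 (tt N3942 F8632) (tt N4462 F8633) (tt N6920 (iv F11463)) (tt N3939 F8634) (tt N6922 D6922) (tt N3938 (iv D5254)))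
theorem Q5256 : ∀ i, i < 5256 → P i := stepQ 5255 Q5255 (allL N5255 (tt N6923 D6923) (tt N3940 (iv D5255)) (tt N3943 F8635) (tt N6924 D6924) (tt N6925 D6925) (tt N4446 (iv F8636)))
theorem Q5257 : ∀ i, i < 5257 → P i := stepQ 5256 Q5256 (allL N5256 (tt N6918 (iv F11457)) (tt N6924 (iv F11472)) (tt N6926 D6926) (tt N3940 (iv D5256)) (tt N6927 D6927) (tt N6928 D6928))
theorem Q5258 : ∀ i, i < 5258 → P i := stepQ 5257 Q5257 (allL N5257 (tt N6919 (iv F11460)) (tt N6925 (iv F11474)) (tt N3941 F8637) (tt N6929 D6929) (tt N3940 (iv D5257)) (tt N6930 D6930))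
theorem Q5259 : ∀ i, i < 5259 → P i := stepQ 5258 Q5258 (allL N5258 (tt N6920 (iv F11462)) (tt N4446 F8638) (tt N3942 F8639) (tt N6928 (iv F11482)) (tt N6931 D6931) (tt N3940 (iv D5258)))
theorem Q5260 : ∀ i, i < 5260 → P i := stepQ 5259 Q5259 (allL N5259 (tt N6921 (iv F11465)) (tt N3945 F8640) (tt N6930 (iv F11483)) (tt N3951 F8641) (tt N6932 D6932) (tt N3941 (iv D5259)))
theorem Q5261 : ∀ i, i < 5261 → P i := stepQ 5260 Q5260 (allL N5260 (tt N6922 (iv F11467)) (tt N3946 F8642) (tt N6931 (iv F11485)) (tt N4256 F8643) (tt N3942 (iv D5260)) (tt N6932 (iv F11488)))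
theorem Q5262 : ∀ i, i < 5262 → P i := stepQ 5261 Q5261 (allL N5261 (tt N3943 (iv D5261)) (tt N4453 F8644) (tt N6923 (iv F11470)) (tt N4445 F8645) (tt N6933 D6933) (tt N4444 F8646))
theorem Q5263 : ∀ i, i < 5263 → P i := stepQ 5262 Q5262 (allL N5262 (tt N6933 (iv F11489)) (tt N3944 F8647) (tt N6925 (iv F11475)) (tt N6934 D6934) (tt N3943 (iv D5262)) (tt N6935 D6935))
theorem Q5264 : ∀ i, i < 5264 → P i := stepQ 5263 Q5263 (allL N5263 (tt N4467 F8648) (tt N6934 (iv F11491)) (tt N6936 D6936) (tt N3944 (iv D5263)) (tt N4450 F8649) (tt N6937 D6937))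
theorem Q5265 : ∀ i, i < 5265 → P i := stepQ 5264 Q5264 (allL N5264 (tt N4466 F8650) (tt N6935 (iv F11493)) (tt N3945 F8651) (tt N6937 (iv F11498)) (tt N4449 F8652) (tt N3944 (iv D5264)))
theorem Q5266 : ∀ i, i < 5266 → P i := stepQ 5265 Q5265 (allL N5265 (tt N4465 F8653) (tt N6932 (iv F11486)) (tt N4449 F8654) (tt N6938 D6938) (tt N3945 (iv D5265)) (tt N3946 F8655))
theorem Q5267 : ∀ i, i < 5267 → P i := stepQ 5266 Q5266 (allL N5266 (tt N4464 F8656) (tt N4256 F8657) (tt N6939 D6939) (tt N3946 (iv D5266)) (tt N3947 F8658) (tt N6938 (iv F11502)))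
theorem Q5268 : ∀ i, i < 5268 → P i := stepQ 5267 Q5267 (allL N5267 (tt N6913 (iv F11448)) (tt N6940 D6940) (tt N3947 (iv D5267)) (tt N6235 (iv F10295)) (tt N6939 (iv F11504)) (tt N3957 F8659))
theorem Q5269 : ∀ i, i < 5269 → P i := stepQ 5268 Q5268 (allL N5268 (tt N3951 F8660) (tt N6914 (iv F11453)) (tt N4221 F8661) (tt N6921 (iv F11466)) (tt N4242 F8662) (tt N3948 (iv D5268)))
theorem Q5270 : ∀ i, i < 5270 → P i := stepQ 5269 Q5269 (allL N5269 (tt N5560 (iv F9172)) (tt N3950 F8663) (tt N3952 F8664) (tt N6941 D6941) (tt N3949 (iv D5269)) (tt N6942 D6942))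
theorem Q5271 : ∀ i, i < 5271 → P i := stepQ 5270 Q5270 (allL N5270 (tt N4220 F8665) (tt N6941 (iv F11507)) (tt N6943 D6943) (tt N3950 (iv D5270)) (tt N4210 F8666) (tt N6944 D6944))
theorem Q5272 : ∀ i, i < 5272 → P i := stepQ 5271 Q5271 (allL N5271 (tt N4221 F8667) (tt N6942 (iv F11509)) (tt N3951 F8668) (tt N6944 (iv F11515)) (tt N4250 F8669) (tt N3950 (iv D5271)))
theorem Q5273 : ∀ i, i < 5273 → P i := stepQ 5272 Q5272 (allL N5272 (tt N6545 (iv F10834)) (tt N3953 F8670) (tt N6945 D6945) (tt N3952 (iv D5272)) (tt N6308 (iv F10397)) (tt N6946 D6946))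
theorem Q5274 : ∀ i, i < 5274 → P i := stepQ 5273 Q5273 (allL N5273 (tt N6546 (iv F10837)) (tt N3954 F8671) (tt N6942 (iv F11510)) (tt N6946 (iv F11517)) (tt N6307 (iv F10394)) (tt N3952 (iv D5273)))
theorem Q5275 : ∀ i, i < 5275 → P i := stepQ 5274 Q5274 (allL N5274 (tt N6325 (iv F10430)) (tt N6947 D6947) (tt N3953 (iv D5274)) (tt N6948 D6948) (tt N6309 (iv F10399)) (tt N6949 D6949))
theorem Q5276 : ∀ i, i < 5276 → P i := stepQ 5275 Q5275 (allL N5275 (tt N6324 (iv F10427)) (tt N6946 (iv F11516)) (tt N6949 (iv F11520)) (tt N3954 F8672) (tt N6950 D6950) (tt N3953 (iv D5275)))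
theorem Q5277 : ∀ i, i < 5277 → P i := stepQ 5276 Q5276 (allL N5276 (tt N6323 (iv F10424)) (tt N4252 F8673) (tt N6951 D6951) (tt N3955 (iv D5276)) (tt N6938 (iv F11501)) (tt N3956 F8674))
theorem Q5278 : ∀ i, i < 5278 → P i := stepQ 5277 Q5277 (allL N5277 (tt N6322 (iv F10422)) (tt N6952 D6952) (tt N3956 (iv D5277)) (tt N6953 D6953) (tt N3957 F8675) (tt N6951 (iv F11524)))
theorem Q5279 : ∀ i, i < 5279 → P i := stepQ 5278 Q5278 (allL N5278 (tt N6954 D6954) (tt N3957 (iv D5278)) (tt N4253 F8676) (tt N6955 D6955) (tt N6952 (iv F11526)) (tt N6940 (iv F11506)))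
theorem Q5280 : ∀ i, i < 5280 → P i := stepQ 5279 Q5279 (allL N5279 (tt N4468 F8677) (tt N6955 (iv F11528)) (tt N4450 F8678) (tt N3957 (iv D5279)) (tt N6936 (iv F11496)) (tt N6235 (iv F10296)))
theorem Q5281 : ∀ i, i < 5281 → P i := stepQ 5280 Q5280 (allL N5280 (tt N3958 (iv D5280)) (tt N6213 (iv F10249)) (tt N3971 F8679) (tt N6956 D6956) (tt N3960 F8680) (tt N4454 F8681))
theorem Q5282 : ∀ i, i < 5282 → P i := stepQ 5281 Q5281 (allL N5281 (tt N6956 (iv F11529)) (tt N3959 F8682) (tt N6957 D6957) (tt N3958 (iv D5281)) (tt N6744 (iv F11160)) (tt N4461 F8683))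
theorem Q5283 : ∀ i, i < 5283 → P i := stepQ 5282 Q5282 (allL N5282 (tt N6235 (iv F10294)) (tt N6958 D6958) (tt N3959 (iv D5282)) (tt N6913 (iv F11449)) (tt N6746 (iv F11163)) (tt N4468 F8684))
theorem Q5284 : ∀ i, i < 5284 → P i := stepQ 5283 Q5283 (allL N5283 (tt N3962 F8685) (tt N6640 (iv F10966)) (tt N3961 (iv D5283)) (tt N4102 F8686) (tt N6959 D6959) (tt N6739 (iv F11154)))
theorem Q5285 : ∀ i, i < 5285 → P i := stepQ 5284 Q5284 (allL N5284 (tt N3963 F8687) (tt N6225 (iv F10273)) (tt N6959 (iv F11534)) (tt N4452 F8688) (tt N3961 (iv D5284)) (tt N6960 D6960))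
theorem Q5286 : ∀ i, i < 5286 → P i := stepQ 5285 Q5285 (allL N5285 (tt N4102 F8689) (tt N6641 (iv F10969)) (tt N4100 F8690) (tt N3962 (iv D5285)) (tt N6961 D6961) (tt N6651 (iv F10993)))
theorem Q5287 : ∀ i, i < 5287 → P i := stepQ 5286 Q5286 (allL N5286 (tt N6959 (iv F11533)) (tt N6701 (iv F11082)) (tt N3963 F8691) (tt N6962 D6962) (tt N3962 (iv D5286)) (tt N6963 D6963))
theorem Q5288 : ∀ i, i < 5288 → P i := stepQ 5287 Q5287 (allL N5287 (tt N6960 (iv F11535)) (tt N3964 F8692) (tt N6963 (iv F11540)) (tt N4459 F8693) (tt N6745 (iv F11162)) (tt N3963 (iv D5287)))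
theorem Q5289 : ∀ i, i < 5289 → P i := stepQ 5288 Q5288 (allL N5288 (tt N6964 D6964) (tt N3965 (iv D5288)) (tt N4064 F8694) (tt N6965 D6965) (tt N4245 F8695) (tt N6966 D6966))
theorem Q5290 : ∀ i, i < 5290 → P i := stepQ 5289 Q5289 (allL N5289 (tt N3968 F8696) (tt N6965 (iv F11545)) (tt N6928 (iv F11481)) (tt N3965 (iv D5289)) (tt N6967 D6967) (tt N6926 F11478))
theorem Q5291 : ∀ i, i < 5291 → P i := stepQ 5290 Q5290 (allL N5290 (tt N3969 F8697) (tt N6966 (iv F11547)) (tt N3966 F8698) (tt N6926 (iv F11477)) (tt N4067 F8699) (tt N3965 (iv D5290)))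
theorem Q5292 : ∀ i, i < 5292 → P i := stepQ 5291 Q5291 (allL N5291 (tt N3967 (iv D5291)) (tt N6964 (iv F11541)) (tt N3970 F8700) (tt N6968 D6968) (tt N4257 F8701) (tt N4060 F8702))
theorem Q5293 : ∀ i, i < 5293 → P i := stepQ 5292 Q5292 (allL N5292 (tt N6968 (iv F11552)) (tt N3968 F8703) (tt N6499 (iv F10754)) (tt N3967 (iv D5292)) (tt N6969 D6969) (tt N4062 F8704))
theorem Q5294 : ∀ i, i < 5294 → P i := stepQ 5293 Q5293 (allL N5293 (tt N6928 (iv F11479)) (tt N6970 D6970) (tt N3968 (iv D5293)) (tt N6920 (iv F11464)) (tt N6971 D6971) (tt N6918 F11459))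
theorem Q5295 : ∀ i, i < 5295 → P i := stepQ 5294 Q5294 (allL N5294 (tt N6967 (iv F11550)) (tt N6969 (iv F11555)) (tt N6971 (iv F11557)) (tt N4260 F8705) (tt N3968 (iv D5294)) (tt N6972 D6972))
theorem Q5296 : ∀ i, i < 5296 → P i := stepQ 5295 Q5295 (allL N5295 (tt N6926 (iv F11476)) (tt N4062 F8706) (tt N6918 (iv F11458)) (tt N3969 F8707) (tt N6973 D6973) (tt N3968 (iv D5295)))
theorem Q5297 : ∀ i, i < 5297 → P i := stepQ 5296 Q5296 (allL N5296 (tt N4090 F8708) (tt N3972 (iv D5296)) (tt N4084 F8709) (tt N4144 (iv F8711)) (tt N6974 D6974) (tt N4096 F8710))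
theorem Q5298 : ∀ i, i < 5298 → P i := stepQ 5297 Q5297 (allL N5297 (tt N3974 F8712) (tt N4144 F8713) (tt N6651 (iv F10991)) (tt N3972 (iv D5297)) (tt N6975 D6975) (tt N4100 F8714))
theorem Q5299 : ∀ i, i < 5299 → P i := stepQ 5298 Q5298 (allL N5298 (tt N3975 F8715) (tt N6974 (iv F11562)) (tt N3973 F8716) (tt N6976 D6976) (tt N3972 (iv D5298)) (tt N4471 F8717))
theorem Q5300 : ∀ i, i < 5300 → P i := stepQ 5299 Q5299 (allL N5299 (tt N6651 (iv F10990)) (tt N4141 F8718) (tt N3974 (iv D5299)) (tt N6739 (iv F11153)) (tt N6977 D6977) (tt N4102 F8719))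
theorem Q5301 : ∀ i, i < 5301 → P i := stepQ 5300 Q5300 (allL N5300 (tt N6975 (iv F11565)) (tt N4093 F8720) (tt N6977 (iv F11570)) (tt N6978 D6978) (tt N3974 (iv D5300)) (tt N6979 D6979))
theorem Q5302 : ∀ i, i < 5302 → P i := stepQ 5301 Q5301 (allL N5301 (tt N6976 (iv F11567)) (tt N4094 F8721) (tt N6980 D6980) (tt N3975 (iv D5301)) (tt N6978 (iv F11572)) (tt N4474 F8722))
theorem Q5303 : ∀ i, i < 5303 → P i := stepQ 5302 Q5302 (allL N5302 (tt N4084 F8723) (tt N3976 (iv D5302)) (tt N4090 F8724) (tt N6347 (iv F10474)) (tt N6981 D6981) (tt N3980 F8725))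
theorem Q5304 : ∀ i, i < 5304 → P i := stepQ 5303 Q5303 (allL N5303 (tt N3979 F8726) (tt N6981 (iv F11577)) (tt N3977 F8727) (tt N6982 D6982) (tt N3976 (iv D5303)) (tt N4479 F8728))
theorem Q5305 : ∀ i, i < 5305 → P i := stepQ 5304 Q5304 (allL N5304 (tt N6348 (iv F10476)) (tt N4088 F8729) (tt N5854 (iv F9615)) (tt N6983 D6983) (tt N3978 (iv D5304)) (tt N6984 D6984))
theorem Q5306 : ∀ i, i < 5306 → P i := stepQ 5305 Q5305 (allL N5305 (tt N6982 (iv F11580)) (tt N4089 F8730) (tt N6985 D6985) (tt N3979 (iv D5305)) (tt N6983 (iv F11583)) (tt N4487 F8731))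
theorem Q5307 : ∀ i, i < 5307 → P i := stepQ 5306 Q5306 (allL N5306 (tt N3980 (iv D5306)) (tt N3982 F8732) (tt N4096 F8733) (tt N6283 (iv F10367)) (tt N4475 F8734) (tt N4084 F8735))
theorem Q5308 : ∀ i, i < 5308 → P i := stepQ 5307 Q5307 (allL N5307 (tt N6283 (iv F10365)) (tt N3981 F8736) (tt N6463 (iv F10689)) (tt N3980 (iv D5307)) (tt N6986 D6986) (tt N6347 (iv F10475)))
theorem Q5309 : ∀ i, i < 5309 → P i := stepQ 5308 Q5308 (allL N5308 (tt N3985 F8737) (tt N6986 (iv F11587)) (tt N5766 (iv F9493)) (tt N4478 F8738) (tt N3981 (iv D5308)) (tt N6987 D6987))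
theorem Q5310 : ∀ i, i < 5310 → P i := stepQ 5309 Q5309 (allL N5309 (tt N6284 (iv F10369)) (tt N3985 F8739) (tt N6279 (iv F10359)) (tt N4482 F8740) (tt N3983 (iv D5309)) (tt N6988 D6988))
theorem Q5311 : ∀ i, i < 5311 → P i := stepQ 5310 Q5310 (allL N5310 (tt N6458 (iv F10678)) (tt N3984 (iv D5310)) (tt N6277 (iv F10355)) (tt N5757 (iv F9476)) (tt N6989 D6989) (tt N5853 (iv F9612)))
theorem Q5312 : ∀ i, i < 5312 → P i := stepQ 5311 Q5311 (allL N5311 (tt N5766 (iv F9491)) (tt N6989 (iv F11594)) (tt N3985 F8741) (tt N6990 D6990) (tt N3984 (iv D5311)) (tt N6991 D6991))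
theorem Q5313 : ∀ i, i < 5313 → P i := stepQ 5312 Q5312 (allL N5312 (tt N6987 (iv F11589)) (tt N6988 (iv F11591)) (tt N6991 (iv F11595)) (tt N4485 F8742) (tt N6984 (iv F11585)) (tt N3985 (iv D5312)))
theorem Q5314 : ∀ i, i < 5314 → P i := stepQ 5313 Q5313 (allL N5313 (tt N3988 F8743) (tt N6992 D6992) (tt N3986 (iv D5313)) (tt N6993 D6993) (tt N6994 D6994) (tt N6995 D6995))
theorem Q5315 : ∀ i, i < 5315 → P i := stepQ 5314 Q5314 (allL N5314 (tt N3989 F8744) (tt N4015 F8745) (tt N6994 (iv F11600)) (tt N3997 F8746) (tt N3986 (iv D5314)) (tt N6996 D6996))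
theorem Q5316 : ∀ i, i < 5316 → P i := stepQ 5315 Q5315 (allL N5315 (tt N3990 F8747) (tt N4016 F8748) (tt N6995 (iv F11602)) (tt N3987 F8749) (tt N6997 D6997) (tt N3986 (iv D5315)))
theorem Q5317 : ∀ i, i < 5317 → P i := stepQ 5316 Q5316 (allL N5316 (tt N3991 F8750) (tt N4017 F8751) (tt N4240 F8752) (tt N6998 D6998) (tt N3987 (iv D5316)) (tt N3998 F8753))
theorem Q5318 : ∀ i, i < 5318 → P i := stepQ 5317 Q5317 (allL N5317 (tt N6999 D6999) (tt N3988 (iv D5317)) (tt N3992 F8754) (tt N7000 D7000) (tt N7001 D7001) (tt N4009 (iv F8755)))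
theorem Q5319 : ∀ i, i < 5319 → P i := stepQ 5318 Q5318 (allL N5318 (tt N6993 (iv F11597)) (tt N7000 (iv F11613)) (tt N7002 D7002) (tt N3988 (iv D5318)) (tt N7003 D7003) (tt N7004 D7004))
theorem Q5320 : ∀ i, i < 5320 → P i := stepQ 5319 Q5319 (allL N5319 (tt N6994 (iv F11599)) (tt N7001 (iv F11615)) (tt N3989 F8756) (tt N7005 D7005) (tt N3988 (iv D5319)) (tt N7006 D7006))
theorem Q5321 : ∀ i, i < 5321 → P i := stepQ 5320 Q5320 (allL N5320 (tt N6995 (iv F11601)) (tt N4009 F8757) (tt N3990 F8758) (tt N7004 (iv F11620)) (tt N7007 D7007) (tt N3988 (iv D5320)))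
theorem Q5322 : ∀ i, i < 5322 → P i := stepQ 5321 Q5321 (allL N5321 (tt N6996 (iv F11603)) (tt N3994 F8759) (tt N7006 (iv F11621)) (tt N3999 F8760) (tt N7008 D7008) (tt N3989 (iv D5321)))
theorem Q5323 : ∀ i, i < 5323 → P i := stepQ 5322 Q5322 (allL N5322 (tt N6997 (iv F11606)) (tt N3995 F8761) (tt N7007 (iv F11623)) (tt N7009 D7009) (tt N3990 (iv D5322)) (tt N7008 (iv F11626)))
theorem Q5324 : ∀ i, i < 5324 → P i := stepQ 5323 Q5323 (allL N5323 (tt N6998 (iv F11608)) (tt N3996 F8762) (tt N7010 D7010) (tt N3991 (iv D5323)) (tt N7009 (iv F11628)) (tt N4000 F8763))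
theorem Q5325 : ∀ i, i < 5325 → P i := stepQ 5324 Q5324 (allL N5324 (tt N3992 (iv D5324)) (tt N4025 F8764) (tt N6999 (iv F11611)) (tt N4008 F8765) (tt N7011 D7011) (tt N4007 F8766))
theorem Q5326 : ∀ i, i < 5326 → P i := stepQ 5325 Q5325 (allL N5325 (tt N7011 (iv F11631)) (tt N3993 F8767) (tt N7001 (iv F11616)) (tt N7012 D7012) (tt N3992 (iv D5325)) (tt N7013 D7013))
theorem Q5327 : ∀ i, i < 5327 → P i := stepQ 5326 Q5326 (allL N5326 (tt N4027 F8768) (tt N7012 (iv F11633)) (tt N6173 (iv F10175)) (tt N3993 (iv D5326)) (tt N4013 F8769) (tt N6025 (iv F9879)))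
theorem Q5328 : ∀ i, i < 5328 → P i := stepQ 5327 Q5327 (allL N5327 (tt N4028 F8770) (tt N7013 (iv F11635)) (tt N3994 F8771) (tt N6025 (iv F9878)) (tt N4012 F8772) (tt N3993 (iv D5327)))
theorem Q5329 : ∀ i, i < 5329 → P i := stepQ 5328 Q5328 (allL N5328 (tt N4029 F8773) (tt N7008 (iv F11624)) (tt N4012 F8774) (tt N4136 F8775) (tt N3994 (iv D5328)) (tt N3995 F8776))
theorem Q5330 : ∀ i, i < 5330 → P i := stepQ 5329 Q5329 (allL N5329 (tt N4030 F8777) (tt N7009 (iv F11627)) (tt N6195 (iv F10211)) (tt N3995 (iv D5329)) (tt N3996 F8778) (tt N4136 F8779))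
theorem Q5331 : ∀ i, i < 5331 → P i := stepQ 5330 Q5330 (allL N5330 (tt N3999 F8780) (tt N4033 F8781) (tt N5840 (iv F9594)) (tt N6996 (iv F11605)) (tt N4130 F8782) (tt N3997 (iv D5330)))
theorem Q5332 : ∀ i, i < 5332 → P i := stepQ 5331 Q5331 (allL N5331 (tt N4000 F8783) (tt N4035 F8784) (tt N7014 D7014) (tt N3998 (iv D5331)) (tt N4129 F8785) (tt N6998 (iv F11610)))
theorem Q5333 : ∀ i, i < 5333 → P i := stepQ 5332 Q5332 (allL N5332 (tt N7014 (iv F11637)) (tt N7015 D7015) (tt N4000 (iv D5332)) (tt N7016 D7016) (tt N4131 F8786) (tt N7010 (iv F11630)))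
theorem Q5334 : ∀ i, i < 5334 → P i := stepQ 5333 Q5333 (allL N5333 (tt N7017 D7017) (tt N4001 (iv D5333)) (tt N7015 (iv F11639)) (tt N6276 (iv F10351)) (tt N4133 F8787) (tt N6291 (iv F10376)))
theorem Q5335 : ∀ i, i < 5335 → P i := stepQ 5334 Q5334 (allL N5334 (tt N4003 F8788) (tt N4426 F8789) (tt N7018 D7018) (tt N4002 (iv D5334)) (tt N7019 D7019) (tt N4433 (iv F8790)))
theorem Q5336 : ∀ i, i < 5336 → P i := stepQ 5335 Q5335 (allL N5335 (tt N4004 F8791) (tt N4427 F8792) (tt N4008 F8793) (tt N4433 F8794) (tt N7020 D7020) (tt N4002 (iv D5335)))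
theorem Q5337 : ∀ i, i < 5337 → P i := stepQ 5336 Q5336 (allL N5336 (tt N7018 (iv F11643)) (tt N4115 F8795) (tt N4003 (iv D5336)) (tt N7021 D7021) (tt N7022 D7022) (tt N4113 F8796))
theorem Q5338 : ∀ i, i < 5338 → P i := stepQ 5337 Q5337 (allL N5337 (tt N7019 (iv F11645)) (tt N4005 F8797) (tt N7022 (iv F11653)) (tt N6043 (iv F9919)) (tt N4003 (iv D5337)) (tt N7023 D7023))
theorem Q5339 : ∀ i, i < 5339 → P i := stepQ 5338 Q5338 (allL N5338 (tt N7020 (iv F11647)) (tt N4006 F8798) (tt N4011 F8799) (tt N7024 D7024) (tt N4004 (iv D5338)) (tt N6029 (iv F9891)))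
theorem Q5340 : ∀ i, i < 5340 → P i := stepQ 5339 Q5339 (allL N5339 (tt N4431 F8800) (tt N7023 (iv F11654)) (tt N4437 F8801) (tt N6044 (iv F9921)) (tt N4436 F8802) (tt N4005 (iv D5339)))
theorem Q5341 : ∀ i, i < 5341 → P i := stepQ 5340 Q5340 (allL N5340 (tt N4432 F8803) (tt N7024 (iv F11656)) (tt N7025 D7025) (tt N4006 (iv D5340)) (tt N4435 F8804) (tt N6045 (iv F9923)))
theorem Q5342 : ∀ i, i < 5342 → P i := stepQ 5341 Q5341 (allL N5341 (tt N4009 F8805) (tt N7026 D7026) (tt N4007 (iv D5341)) (tt N7027 D7027) (tt N7028 D7028) (tt N6999 (iv F11612)))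
theorem Q5343 : ∀ i, i < 5343 → P i := stepQ 5342 Q5342 (allL N5342 (tt N4010 F8806) (tt N6084 (iv F10008)) (tt N7028 (iv F11663)) (tt N6028 (iv F9888)) (tt N4007 (iv D5342)) (tt N7029 D7029))
theorem Q5344 : ∀ i, i < 5344 → P i := stepQ 5343 Q5343 (allL N5343 (tt N4011 F8807) (tt N6085 (iv F10011)) (tt N7020 (iv F11649)) (tt N7030 D7030) (tt N4008 (iv D5343)) (tt N6027 (iv F9885)))
theorem Q5345 : ∀ i, i < 5345 → P i := stepQ 5344 Q5344 (allL N5344 (tt N7027 (iv F11660)) (tt N7004 (iv F11619)) (tt N7031 D7031) (tt N4009 (iv D5344)) (tt N7032 D7032) (tt N7000 (iv F11614)))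
theorem Q5346 : ∀ i, i < 5346 → P i := stepQ 5345 Q5345 (allL N5345 (tt N7028 (iv F11662)) (tt N7007 (iv F11622)) (tt N4010 F8808) (tt N7033 D7033) (tt N4009 (iv D5345)) (tt N7034 D7034))
theorem Q5347 : ∀ i, i < 5347 → P i := stepQ 5346 Q5346 (allL N5346 (tt N7029 (iv F11664)) (tt N4012 F8809) (tt N7034 (iv F11668)) (tt N6022 F9870) (tt N7013 (iv F11636)) (tt N4010 (iv D5346)))
theorem Q5348 : ∀ i, i < 5348 → P i := stepQ 5347 Q5347 (allL N5347 (tt N7030 (iv F11665)) (tt N4013 F8810) (tt N7035 D7035) (tt N4011 (iv D5347)) (tt N7012 (iv F11634)) (tt N6020 F9865))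
theorem Q5349 : ∀ i, i < 5349 → P i := stepQ 5348 Q5348 (allL N5348 (tt N6090 (iv F10023)) (tt N7036 D7036) (tt N4013 (iv D5348)) (tt N6082 (iv F10004)) (tt N6173 (iv F10177)) (tt N6024 F9875))
theorem Q5350 : ∀ i, i < 5350 → P i := stepQ 5349 Q5349 (allL N5349 (tt N7037 D7037) (tt N4014 (iv D5349)) (tt N6992 (iv F11596)) (tt N7038 D7038) (tt N7039 D7039) (tt N7040 D7040))
theorem Q5351 : ∀ i, i < 5351 → P i := stepQ 5350 Q5350 (allL N5350 (tt N4019 F8811) (tt N7038 (iv F11670)) (tt N4073 F8812) (tt N4014 (iv D5350)) (tt N7041 D7041) (tt N4071 (iv F8813)))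
theorem Q5352 : ∀ i, i < 5352 → P i := stepQ 5351 Q5351 (allL N5351 (tt N4020 F8814) (tt N7039 (iv F11673)) (tt N4015 F8815) (tt N7042 D7042) (tt N4014 (iv D5351)) (tt N7043 D7043))
theorem Q5353 : ∀ i, i < 5353 → P i := stepQ 5352 Q5352 (allL N5352 (tt N4021 F8816) (tt N7040 (iv F11674)) (tt N4016 F8817) (tt N4071 F8818) (tt N7044 D7044) (tt N4014 (iv D5352)))
theorem Q5354 : ∀ i, i < 5354 → P i := stepQ 5353 Q5353 (allL N5353 (tt N4022 F8819) (tt N6996 (iv F11604)) (tt N7043 (iv F11680)) (tt N4033 F8820) (tt N7045 D7045) (tt N4015 (iv D5353)))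
theorem Q5355 : ∀ i, i < 5355 → P i := stepQ 5354 Q5354 (allL N5354 (tt N4023 F8821) (tt N6997 (iv F11607)) (tt N7044 (iv F11682)) (tt N7046 D7046) (tt N4016 (iv D5354)) (tt N7045 (iv F11684)))
theorem Q5356 : ∀ i, i < 5356 → P i := stepQ 5355 Q5355 (allL N5355 (tt N4024 F8822) (tt N6998 (iv F11609)) (tt N4254 F8824) (tt N4017 (iv D5355)) (tt N7046 (iv F11686)) (tt N4035 F8823))
theorem Q5357 : ∀ i, i < 5357 → P i := stepQ 5356 Q5356 (allL N5356 (tt N4018 (iv D5356)) (tt N7037 (iv F11669)) (tt N4025 F8825) (tt N7047 D7047) (tt N7048 D7048) (tt N6083 (iv F10006)))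
theorem Q5358 : ∀ i, i < 5358 → P i := stepQ 5357 Q5357 (allL N5357 (tt N7047 (iv F11688)) (tt N4019 F8826) (tt N7049 D7049) (tt N4018 (iv D5357)) (tt N7050 D7050) (tt N6086 (iv F10014)))
theorem Q5359 : ∀ i, i < 5359 → P i := stepQ 5358 Q5358 (allL N5358 (tt N7048 (iv F11689)) (tt N4020 F8827) (tt N4026 F8828) (tt N7051 D7051) (tt N4018 (iv D5358)) (tt N7052 D7052))
theorem Q5360 : ∀ i, i < 5360 → P i := stepQ 5359 Q5359 (allL N5359 (tt N4073 F8829) (tt N7053 D7053) (tt N4019 (iv D5359)) (tt N4067 F8830) (tt N7054 D7054) (tt N4065 (iv F8831)))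
theorem Q5361 : ∀ i, i < 5361 → P i := stepQ 5360 Q5360 (allL N5360 (tt N7041 (iv F11676)) (tt N7050 (iv F11691)) (tt N7054 (iv F11699)) (tt N7055 D7055) (tt N4019 (iv D5360)) (tt N7056 D7056))
theorem Q5362 : ∀ i, i < 5362 → P i := stepQ 5361 Q5361 (allL N5361 (tt N4071 F8832) (tt N6086 (iv F10013)) (tt N4065 F8833) (tt N4021 F8834) (tt N7057 D7057) (tt N4019 (iv D5361)))
theorem Q5363 : ∀ i, i < 5363 → P i := stepQ 5362 Q5362 (allL N5362 (tt N7042 (iv F11678)) (tt N7051 (iv F11692)) (tt N7058 D7058) (tt N4020 (iv D5362)) (tt N7055 (iv F11700)) (tt N7059 D7059))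
theorem Q5364 : ∀ i, i < 5364 → P i := stepQ 5363 Q5363 (allL N5363 (tt N7043 (iv F11679)) (tt N7052 (iv F11693)) (tt N4022 F8835) (tt N7059 (iv F11703)) (tt N7060 D7060) (tt N4020 (iv D5363)))
theorem Q5365 : ∀ i, i < 5365 → P i := stepQ 5364 Q5364 (allL N5364 (tt N7044 (iv F11681)) (tt N6087 (iv F10015)) (tt N4023 F8836) (tt N7061 D7061) (tt N4021 (iv D5364)) (tt N7060 (iv F11705)))
theorem Q5366 : ∀ i, i < 5366 → P i := stepQ 5365 Q5365 (allL N5365 (tt N7045 (iv F11683)) (tt N4029 F8837) (tt N7060 (iv F11704)) (tt N7062 D7062) (tt N4022 (iv D5365)) (tt N4023 F8838))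
theorem Q5367 : ∀ i, i < 5367 → P i := stepQ 5366 Q5366 (allL N5366 (tt N7046 (iv F11685)) (tt N4030 F8839) (tt N7063 D7063) (tt N4023 (iv D5366)) (tt N4024 F8840) (tt N7062 (iv F11708)))
theorem Q5368 : ∀ i, i < 5368 → P i := stepQ 5367 Q5367 (allL N5367 (tt N4254 F8841) (tt N7064 D7064) (tt N4024 (iv D5367)) (tt N4243 F8843) (tt N7063 (iv F11710)) (tt N4044 F8842))
theorem Q5369 : ∀ i, i < 5369 → P i := stepQ 5368 Q5368 (allL N5368 (tt N4026 F8844) (tt N7011 (iv F11632)) (tt N7048 (iv F11690)) (tt N7065 D7065) (tt N4025 (iv D5368)) (tt N7066 D7066))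
theorem Q5370 : ∀ i, i < 5370 → P i := stepQ 5369 Q5369 (allL N5369 (tt N7065 (iv F11714)) (tt N4027 F8845) (tt N7067 D7067) (tt N4026 (iv D5369)) (tt N6089 (iv F10021)) (tt N7068 D7068))
theorem Q5371 : ∀ i, i < 5371 → P i := stepQ 5370 Q5370 (allL N5370 (tt N7066 (iv F11715)) (tt N4028 F8846) (tt N7052 (iv F11694)) (tt N7068 (iv F11717)) (tt N6088 (iv F10019)) (tt N4026 (iv D5370)))
theorem Q5372 : ∀ i, i < 5372 → P i := stepQ 5371 Q5371 (allL N5371 (tt N6173 (iv F10174)) (tt N7069 D7069) (tt N4027 (iv D5371)) (tt N4137 F8847) (tt N6090 (iv F10024)) (tt N4139 (iv F8848)))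
theorem Q5373 : ∀ i, i < 5373 → P i := stepQ 5372 Q5372 (allL N5372 (tt N6025 (iv F9876)) (tt N7068 (iv F11716)) (tt N4139 F8849) (tt N4028 F8850) (tt N5986 (iv F9786)) (tt N4027 (iv D5372)))
theorem Q5374 : ∀ i, i < 5374 → P i := stepQ 5373 Q5373 (allL N5373 (tt N4136 F8851) (tt N7062 (iv F11706)) (tt N6008 (iv F9843)) (tt N4029 (iv D5373)) (tt N4048 F8852) (tt N4030 F8853))
theorem Q5375 : ∀ i, i < 5375 → P i := stepQ 5374 Q5374 (allL N5374 (tt N6195 (iv F10210)) (tt N7070 D7070) (tt N4030 (iv D5374)) (tt N6001 (iv F9828)) (tt N4031 F8854) (tt N6008 (iv F9842)))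
theorem Q5376 : ∀ i, i < 5376 → P i := stepQ 5375 Q5375 (allL N5375 (tt N7071 D7071) (tt N4031 (iv D5375)) (tt N7064 (iv F11711)) (tt N6208 F10232) (tt N7070 (iv F11720)) (tt N4050 F8855))
theorem Q5377 : ∀ i, i < 5377 → P i := stepQ 5376 Q5376 (allL N5376 (tt N4039 F8856) (tt N6532 (iv F10818)) (tt N7072 D7072) (tt N4032 (iv D5376)) (tt N4149 F8857) (tt N7073 D7073))
theorem Q5378 : ∀ i, i < 5378 → P i := stepQ 5377 Q5377 (allL N5377 (tt N4040 F8858) (tt N6531 (iv F10816)) (tt N4033 F8859) (tt N7073 (iv F11725)) (tt N6526 (iv F10811)) (tt N4032 (iv D5377)))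
theorem Q5379 : ∀ i, i < 5379 → P i := stepQ 5378 Q5378 (allL N5378 (tt N4042 F8860) (tt N4130 F8861) (tt N6526 (iv F10810)) (tt N7074 D7074) (tt N4033 (iv D5378)) (tt N4034 F8862))
theorem Q5380 : ∀ i, i < 5380 → P i := stepQ 5379 Q5379 (allL N5379 (tt N4043 F8863) (tt N4129 F8864) (tt N7075 D7075) (tt N4034 (iv D5379)) (tt N4035 F8865) (tt N7074 (iv F11728)))
theorem Q5381 : ∀ i, i < 5381 → P i := stepQ 5380 Q5380 (allL N5380 (tt N4044 F8866) (tt N7076 D7076) (tt N4035 (iv D5380)) (tt N4255 F8867) (tt N7075 (iv F11730)) (tt N4254 F8868))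
theorem Q5382 : ∀ i, i < 5382 → P i := stepQ 5381 Q5381 (allL N5381 (tt N5833 (iv F9578)) (tt N4038 F8869) (tt N6471 (iv F10702)) (tt N7077 D7077) (tt N4036 (iv D5381)) (tt N7078 D7078))
theorem Q5383 : ∀ i, i < 5383 → P i := stepQ 5382 Q5382 (allL N5382 (tt N5834 (iv F9581)) (tt N4039 F8870) (tt N7079 D7079) (tt N4037 (iv D5382)) (tt N7077 (iv F11734)) (tt N7080 D7080))
theorem Q5384 : ∀ i, i < 5384 → P i := stepQ 5383 Q5383 (allL N5383 (tt N5835 (iv F9582)) (tt N4040 F8871) (tt N4046 F8872) (tt N7080 (iv F11738)) (tt N4122 F8873) (tt N4037 (iv D5383)))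
theorem Q5385 : ∀ i, i < 5385 → P i := stepQ 5384 Q5384 (allL N5384 (tt N4149 F8874) (tt N7077 (iv F11733)) (tt N7081 D7081) (tt N4038 (iv D5384)) (tt N4039 F8875) (tt N7082 D7082))
theorem Q5386 : ∀ i, i < 5386 → P i := stepQ 5385 Q5385 (allL N5385 (tt N4150 F8876) (tt N7078 (iv F11735)) (tt N4148 F8877) (tt N7082 (iv F11745)) (tt N6524 (iv F10804)) (tt N4038 (iv D5385)))
theorem Q5387 : ∀ i, i < 5387 → P i := stepQ 5386 Q5386 (allL N5386 (tt N7072 (iv F11722)) (tt N7083 D7083) (tt N4039 (iv D5386)) (tt N7084 D7084) (tt N7081 (iv F11740)) (tt N7085 D7085))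
theorem Q5388 : ∀ i, i < 5388 → P i := stepQ 5387 Q5387 (allL N5387 (tt N7073 (iv F11724)) (tt N7080 (iv F11737)) (tt N7085 (iv F11746)) (tt N4040 F8878) (tt N7086 D7086) (tt N4039 (iv D5387)))
theorem Q5389 : ∀ i, i < 5389 → P i := stepQ 5388 Q5388 (allL N5388 (tt N6526 (iv F10808)) (tt N4122 F8879) (tt N4042 F8880) (tt N7087 D7087) (tt N4040 (iv D5388)) (tt N4041 F8881))
theorem Q5390 : ∀ i, i < 5390 → P i := stepQ 5389 Q5389 (allL N5389 (tt N6525 (iv F10805)) (tt N4121 F8882) (tt N7088 D7088) (tt N4041 (iv D5389)) (tt N6523 (iv F10800)) (tt N7087 (iv F11748)))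
theorem Q5391 : ∀ i, i < 5391 → P i := stepQ 5390 Q5390 (allL N5390 (tt N7074 (iv F11726)) (tt N4048 F8883) (tt N7089 D7089) (tt N4042 (iv D5390)) (tt N7062 (iv F11707)) (tt N4043 F8884))
theorem Q5392 : ∀ i, i < 5392 → P i := stepQ 5391 Q5391 (allL N5391 (tt N7075 (iv F11729)) (tt N7090 D7090) (tt N4043 (iv D5391)) (tt N7091 D7091) (tt N4044 F8885) (tt N7089 (iv F11749)))
theorem Q5393 : ∀ i, i < 5393 → P i := stepQ 5392 Q5392 (allL N5392 (tt N7092 D7092) (tt N4044 (iv D5392)) (tt N4050 F8886) (tt N7093 D7093) (tt N7090 (iv F11751)) (tt N7064 (iv F11713)))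
theorem Q5394 : ∀ i, i < 5394 → P i := stepQ 5393 Q5393 (allL N5393 (tt N4255 F8887) (tt N7093 (iv F11753)) (tt N4244 F8888) (tt N4044 (iv D5393)) (tt N7094 D7094) (tt N4243 F8889))
theorem Q5395 : ∀ i, i < 5395 → P i := stepQ 5394 Q5394 (allL N5394 (tt N5836 (iv F9585)) (tt N6179 (iv F10189)) (tt N4045 (iv D5394)) (tt N7095 D7095) (tt N4123 F8890) (tt N7096 D7096))
theorem Q5396 : ∀ i, i < 5396 → P i := stepQ 5395 Q5395 (allL N5395 (tt N5837 (iv F9587)) (tt N4047 F8891) (tt N7096 (iv F11757)) (tt N4046 F8892) (tt N6130 (iv F10077)) (tt N4045 (iv D5395)))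
theorem Q5397 : ∀ i, i < 5397 → P i := stepQ 5396 Q5396 (allL N5396 (tt N7097 D7097) (tt N4049 (iv D5396)) (tt N7090 (iv F11750)) (tt N6306 (iv F10391)) (tt N4050 F8893) (tt N6305 F10389))
theorem Q5398 : ∀ i, i < 5398 → P i := stepQ 5397 Q5397 (allL N5397 (tt N4050 (iv D5397)) (tt N7017 (iv F11641)) (tt N7092 (iv F11752)) (tt N7098 D7098) (tt N7097 (iv F11759)) (tt N7071 (iv F11721)))
theorem Q5399 : ∀ i, i < 5399 → P i := stepQ 5398 Q5398 (allL N5398 (tt N7098 (iv F11760)) (tt N4051 F8894) (tt N7099 D7099) (tt N4050 (iv D5398)) (tt N7100 D7100) (tt N6208 F10233))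
theorem Q5400 : ∀ i, i < 5400 → P i := stepQ 5399 Q5399 (allL N5399 (tt N6194 (iv F10206)) (tt N7100 (iv F11761)) (tt N6209 (iv F10235)) (tt N6007 (iv F9838)) (tt N4051 (iv D5399)) (tt N6000 (iv F9825)))
theorem Q5401 : ∀ i, i < 5401 → P i := stepQ 5400 Q5400 (allL N5400 (tt N7101 D7101) (tt N4052 (iv D5400)) (tt N4055 F8895) (tt N7102 D7102) (tt N6496 (iv F10747)) (tt N4428 (iv F8896)))
theorem Q5402 : ∀ i, i < 5402 → P i := stepQ 5401 Q5401 (allL N5401 (tt N6499 (iv F10753)) (tt N7102 (iv F11764)) (tt N6968 (iv F11553)) (tt N4052 (iv D5401)) (tt N7103 D7103) (tt N7104 D7104))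
theorem Q5403 : ∀ i, i < 5403 → P i := stepQ 5402 Q5402 (allL N5402 (tt N6500 (iv F10756)) (tt N4428 F8897) (tt N4053 F8898) (tt N7104 (iv F11769)) (tt N7105 D7105) (tt N4052 (iv D5402)))
theorem Q5404 : ∀ i, i < 5404 → P i := stepQ 5403 Q5403 (allL N5403 (tt N6501 (iv F10759)) (tt N4058 F8899) (tt N7105 (iv F11771)) (tt N7106 D7106) (tt N4053 (iv D5403)) (tt N6497 (iv F10750)))
theorem Q5405 : ∀ i, i < 5405 → P i := stepQ 5404 Q5404 (allL N5404 (tt N4306 F8900) (tt N4059 F8901) (tt N7107 D7107) (tt N4054 (iv D5404)) (tt N7106 (iv F11774)) (tt N4191 F8902))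
theorem Q5406 : ∀ i, i < 5406 → P i := stepQ 5405 Q5405 (allL N5405 (tt N4055 (iv D5405)) (tt N4433 F8903) (tt N7101 (iv F11762)) (tt N4427 F8904) (tt N7108 D7108) (tt N4426 F8905))
theorem Q5407 : ∀ i, i < 5407 → P i := stepQ 5406 Q5406 (allL N5406 (tt N7108 (iv F11778)) (tt N4056 F8906) (tt N6496 (iv F10746)) (tt N7109 D7109) (tt N4055 (iv D5406)) (tt N7110 D7110))
theorem Q5408 : ∀ i, i < 5408 → P i := stepQ 5407 Q5407 (allL N5407 (tt N4435 F8907) (tt N7109 (iv F11780)) (tt N7111 D7111) (tt N4056 (iv D5407)) (tt N4432 F8908) (tt N7112 D7112))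
theorem Q5409 : ∀ i, i < 5409 → P i := stepQ 5408 Q5408 (allL N5408 (tt N4436 F8909) (tt N7110 (iv F11782)) (tt N4057 F8910) (tt N7112 (iv F11790)) (tt N4431 F8911) (tt N4056 (iv D5408)))
theorem Q5410 : ∀ i, i < 5410 → P i := stepQ 5409 Q5409 (allL N5409 (tt N4437 F8912) (tt N6497 (iv F10749)) (tt N4431 F8913) (tt N5906 (iv F9678)) (tt N4057 (iv D5409)) (tt N4058 F8914))
theorem Q5411 : ∀ i, i < 5411 → P i := stepQ 5410 Q5410 (allL N5410 (tt N4314 F8915) (tt N7106 (iv F11773)) (tt N7113 D7113) (tt N4058 (iv D5410)) (tt N4059 F8916) (tt N5906 (iv F9679)))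
theorem Q5412 : ∀ i, i < 5412 → P i := stepQ 5411 Q5411 (allL N5411 (tt N4313 F8917) (tt N7114 D7114) (tt N4059 (iv D5411)) (tt N4309 F8918) (tt N7113 (iv F11792)) (tt N4309 F8919))
theorem Q5413 : ∀ i, i < 5413 → P i := stepQ 5412 Q5412 (allL N5412 (tt N6966 (iv F11546)) (tt N4060 (iv D5412)) (tt N4440 F8920) (tt N7115 D7115) (tt N4440 F8921) (tt N6964 F11544))
theorem Q5414 : ∀ i, i < 5414 → P i := stepQ 5413 Q5413 (allL N5413 (tt N4062 F8922) (tt N7115 (iv F11795)) (tt N7104 (iv F11768)) (tt N4060 (iv D5413)) (tt N7116 D7116) (tt N6968 (iv F11554)))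
theorem Q5415 : ∀ i, i < 5415 → P i := stepQ 5414 Q5414 (allL N5414 (tt N4063 F8923) (tt N4190 F8924) (tt N7117 D7117) (tt N4061 (iv D5414)) (tt N4261 F8925) (tt N4188 F8926))
theorem Q5416 : ∀ i, i < 5416 → P i := stepQ 5415 Q5415 (allL N5415 (tt N7104 (iv F11766)) (tt N7118 D7118) (tt N4062 (iv D5415)) (tt N6500 (iv F10758)) (tt N7119 D7119) (tt N6499 F10755))
theorem Q5417 : ∀ i, i < 5417 → P i := stepQ 5416 Q5416 (allL N5416 (tt N7116 (iv F11796)) (tt N6973 (iv F11559)) (tt N7119 (iv F11801)) (tt N4443 F8927) (tt N4062 (iv D5416)) (tt N7120 D7120))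
theorem Q5418 : ∀ i, i < 5418 → P i := stepQ 5417 Q5417 (allL N5417 (tt N7117 (iv F11798)) (tt N4186 F8928) (tt N4063 (iv D5417)) (tt N7121 D7121) (tt N4262 F8929) (tt N4192 F8930))
theorem Q5419 : ∀ i, i < 5419 → P i := stepQ 5418 Q5418 (allL N5418 (tt N4064 (iv D5418)) (tt N4068 F8931) (tt N6964 (iv F11542)) (tt N4483 (iv F8932)) (tt N7122 D7122) (tt N4440 (iv F8933)))
theorem Q5420 : ∀ i, i < 5420 → P i := stepQ 5419 Q5419 (allL N5419 (tt N4483 F8934) (tt N4065 F8935) (tt N7123 D7123) (tt N4064 (iv D5419)) (tt N7124 D7124) (tt N7053 (iv F11697)))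
theorem Q5421 : ∀ i, i < 5421 → P i := stepQ 5420 Q5420 (allL N5420 (tt N7122 (iv F11806)) (tt N4066 F8936) (tt N4245 F8937) (tt N7125 D7125) (tt N4064 (iv D5420)) (tt N4245 (iv F8938)))
theorem Q5422 : ∀ i, i < 5422 → P i := stepQ 5421 Q5421 (allL N5421 (tt N4440 F8939) (tt N4067 F8940) (tt N6966 (iv F11548)) (tt N7053 (iv F11696)) (tt N6966 (iv F11549)) (tt N4064 (iv D5421)))
theorem Q5423 : ∀ i, i < 5423 → P i := stepQ 5422 Q5422 (allL N5422 (tt N4072 F8941) (tt N7124 (iv F11812)) (tt N7057 (iv F11702)) (tt N7126 D7126) (tt N4065 (iv D5422)) (tt N7127 D7127))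
theorem Q5424 : ∀ i, i < 5424 → P i := stepQ 5423 Q5423 (allL N5423 (tt N4074 F8942) (tt N7125 (iv F11813)) (tt N4230 F8944) (tt N4066 (iv D5423)) (tt N7126 (iv F11816)) (tt N4246 F8943))
theorem Q5425 : ∀ i, i < 5425 → P i := stepQ 5424 Q5424 (allL N5424 (tt N4070 F8945) (tt N7122 (iv F11807)) (tt N4075 F8946) (tt N7128 D7128) (tt N4068 (iv D5424)) (tt N4257 F8947))
theorem Q5426 : ∀ i, i < 5426 → P i := stepQ 5425 Q5425 (allL N5425 (tt N4484 F8948) (tt N4072 F8949) (tt N4478 F8950) (tt N7129 D7129) (tt N4069 (iv D5425)) (tt N7130 D7130))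
theorem Q5427 : ∀ i, i < 5427 → P i := stepQ 5426 Q5426 (allL N5426 (tt N7128 (iv F11819)) (tt N4074 F8951) (tt N7131 D7131) (tt N4070 (iv D5426)) (tt N7129 (iv F11824)) (tt N4258 F8952))
theorem Q5428 : ∀ i, i < 5428 → P i := stepQ 5427 Q5427 (allL N5427 (tt N7132 D7132) (tt N4071 (iv D5427)) (tt N4476 F8953) (tt N7040 (iv F11675)) (tt N7133 D7133) (tt N7038 F11672))
theorem Q5429 : ∀ i, i < 5429 → P i := stepQ 5428 Q5428 (allL N5428 (tt N7057 (iv F11701)) (tt N7133 (iv F11831)) (tt N4072 F8954) (tt N7134 D7134) (tt N4071 (iv D5428)) (tt N7135 D7135))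
theorem Q5430 : ∀ i, i < 5430 → P i := stepQ 5429 Q5429 (allL N5429 (tt N7126 (iv F11815)) (tt N7129 (iv F11823)) (tt N7136 D7136) (tt N4072 (iv D5429)) (tt N4074 F8955) (tt N7137 D7137))
theorem Q5431 : ∀ i, i < 5431 → P i := stepQ 5430 Q5430 (allL N5430 (tt N7127 (iv F11818)) (tt N7130 (iv F11826)) (tt N7135 (iv F11833)) (tt N7137 (iv F11836)) (tt N7138 D7138) (tt N4072 (iv D5430)))
theorem Q5432 : ∀ i, i < 5432 → P i := stepQ 5431 Q5431 (allL N5431 (tt N7054 (iv F11698)) (tt N4443 F8956) (tt N7041 (iv F11677)) (tt N6973 (iv F11560)) (tt N4073 (iv D5431)) (tt N7138 (iv F11839)))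
theorem Q5433 : ∀ i, i < 5433 → P i := stepQ 5432 Q5432 (allL N5432 (tt N4230 F8957) (tt N7139 D7139) (tt N4074 (iv D5432)) (tt N4215 F8959) (tt N7136 (iv F11835)) (tt N4259 F8958))
theorem Q5434 : ∀ i, i < 5434 → P i := stepQ 5433 Q5433 (allL N5433 (tt N4076 F8960) (tt N4261 F8961) (tt N7140 D7140) (tt N4075 (iv D5433)) (tt N4190 F8962) (tt N4261 F8963))
theorem Q5435 : ∀ i, i < 5435 → P i := stepQ 5434 Q5434 (allL N5434 (tt N7140 (iv F11842)) (tt N4153 F8964) (tt N4076 (iv D5434)) (tt N7141 D7141) (tt N4195 F8965) (tt N4262 F8966))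
theorem Q5436 : ∀ i, i < 5436 → P i := stepQ 5435 Q5435 (allL N5435 (tt N4477 F8967) (tt N4078 (iv D5435)) (tt N4469 F8968) (tt N7142 D7142) (tt N7143 D7143) (tt N4475 F8969))
theorem Q5437 : ∀ i, i < 5437 → P i := stepQ 5436 Q5436 (allL N5436 (tt N4080 F8970) (tt N7142 (iv F11848)) (tt N6266 (iv F10339)) (tt N4078 (iv D5436)) (tt N7144 D7144) (tt N4480 F8971))
theorem Q5438 : ∀ i, i < 5438 → P i := stepQ 5437 Q5437 (allL N5437 (tt N4081 F8972) (tt N7143 (iv F11851)) (tt N4079 F8973) (tt N7145 D7145) (tt N4078 (iv D5437)) (tt N4086 F8974))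
theorem Q5439 : ∀ i, i < 5439 → P i := stepQ 5438 Q5438 (allL N5438 (tt N6266 (iv F10338)) (tt N7146 D7146) (tt N4080 (iv D5438)) (tt N6258 (iv F10326)) (tt N7147 D7147) (tt N4481 F8975))
theorem Q5440 : ∀ i, i < 5440 → P i := stepQ 5439 Q5439 (allL N5439 (tt N7144 (iv F11854)) (tt N4486 F8976) (tt N7147 (iv F11859)) (tt N7148 D7148) (tt N4080 (iv D5439)) (tt N7149 D7149))
theorem Q5441 : ∀ i, i < 5441 → P i := stepQ 5440 Q5440 (allL N5440 (tt N7145 (iv F11855)) (tt N4487 F8977) (tt N7150 D7150) (tt N4081 (iv D5440)) (tt N7148 (iv F11861)) (tt N4089 F8978))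
theorem Q5442 : ∀ i, i < 5442 → P i := stepQ 5441 Q5441 (allL N5441 (tt N4083 F8979) (tt N7151 D7151) (tt N4082 (iv D5441)) (tt N4259 F8980) (tt N6543 (iv F10833)) (tt N4215 F8981))
theorem Q5443 : ∀ i, i < 5443 → P i := stepQ 5442 Q5442 (allL N5442 (tt N7152 D7152) (tt N4083 (iv D5442)) (tt N4151 F8982) (tt N7153 D7153) (tt N6439 (iv F10636)) (tt N4229 F8983))
theorem Q5444 : ∀ i, i < 5444 → P i := stepQ 5443 Q5443 (allL N5443 (tt N4259 F8984) (tt N7153 (iv F11869)) (tt N4246 F8985) (tt N4083 (iv D5443)) (tt N7154 D7154) (tt N4230 F8986))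
theorem Q5445 : ∀ i, i < 5445 → P i := stepQ 5444 Q5444 (allL N5444 (tt N6347 (iv F10472)) (tt N4085 F8987) (tt N6151 (iv F10127)) (tt N4084 (iv D5444)) (tt N7155 D7155) (tt N6283 (iv F10368)))
theorem Q5446 : ∀ i, i < 5446 → P i := stepQ 5445 Q5445 (allL N5445 (tt N6981 (iv F11576)) (tt N4086 F8988) (tt N6974 (iv F11563)) (tt N7156 D7156) (tt N4084 (iv D5445)) (tt N7143 (iv F11853)))
theorem Q5447 : ∀ i, i < 5447 → P i := stepQ 5446 Q5446 (allL N5446 (tt N4088 F8989) (tt N7155 (iv F11873)) (tt N6150 (iv F10125)) (tt N7157 D7157) (tt N4085 (iv D5446)) (tt N7158 D7158))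
theorem Q5448 : ∀ i, i < 5448 → P i := stepQ 5447 Q5447 (allL N5447 (tt N4089 F8990) (tt N7156 (iv F11874)) (tt N7159 D7159) (tt N4086 (iv D5447)) (tt N7157 (iv F11876)) (tt N7145 (iv F11856)))
theorem Q5449 : ∀ i, i < 5449 → P i := stepQ 5448 Q5448 (allL N5448 (tt N6140 (iv F10099)) (tt N4087 (iv D5448)) (tt N5853 F9613) (tt N6139 F10097) (tt N7160 D7160) (tt N6277 (iv F10356)))
theorem Q5450 : ∀ i, i < 5450 → P i := stepQ 5449 Q5449 (allL N5449 (tt N6150 (iv F10123)) (tt N7160 (iv F11880)) (tt N4088 F8991) (tt N7161 D7161) (tt N4087 (iv D5449)) (tt N7162 D7162))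
theorem Q5451 : ∀ i, i < 5451 → P i := stepQ 5450 Q5450 (allL N5450 (tt N7157 (iv F11875)) (tt N6983 (iv F11582)) (tt N7163 D7163) (tt N4088 (iv D5450)) (tt N4089 F8992) (tt N7164 D7164))
theorem Q5452 : ∀ i, i < 5452 → P i := stepQ 5451 Q5451 (allL N5451 (tt N7158 (iv F11877)) (tt N6984 (iv F11584)) (tt N7162 (iv F11881)) (tt N7164 (iv F11883)) (tt N6988 (iv F11593)) (tt N4088 (iv D5451)))
theorem Q5453 : ∀ i, i < 5453 → P i := stepQ 5452 Q5452 (allL N5452 (tt N7159 (iv F11878)) (tt N7165 D7165) (tt N4089 (iv D5452)) (tt N7159 (iv F11879)) (tt N7163 (iv F11882)) (tt N7150 (iv F11864)))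
theorem Q5454 : ∀ i, i < 5454 → P i := stepQ 5453 Q5453 (allL N5453 (tt N6974 (iv F11561)) (tt N4091 F8993) (tt N6981 (iv F11578)) (tt N7166 D7166) (tt N4090 (iv D5453)) (tt N7167 D7167))
theorem Q5455 : ∀ i, i < 5455 → P i := stepQ 5454 Q5454 (allL N5454 (tt N4094 F8994) (tt N7166 (iv F11884)) (tt N7168 D7168) (tt N4091 (iv D5454)) (tt N4146 F8995) (tt N7169 D7169))
theorem Q5456 : ∀ i, i < 5456 → P i := stepQ 5455 Q5455 (allL N5455 (tt N4095 F8996) (tt N7167 (iv F11887)) (tt N4092 F8997) (tt N7169 (iv F11896)) (tt N4099 F8998) (tt N4091 (iv D5455)))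
theorem Q5457 : ∀ i, i < 5457 → P i := stepQ 5456 Q5456 (allL N5456 (tt N4146 F8999) (tt N6978 (iv F11571)) (tt N7170 D7170) (tt N4093 (iv D5456)) (tt N4094 F9000) (tt N7171 D7171))
theorem Q5458 : ∀ i, i < 5458 → P i := stepQ 5457 Q5457 (allL N5457 (tt N4147 F9001) (tt N6979 (iv F11573)) (tt N4143 F9002) (tt N7171 (iv F11903)) (tt N4106 F9003) (tt N4093 (iv D5457)))
theorem Q5459 : ∀ i, i < 5459 → P i := stepQ 5458 Q5458 (allL N5458 (tt N7168 (iv F11890)) (tt N7172 D7172) (tt N4094 (iv D5458)) (tt N7173 D7173) (tt N7170 (iv F11898)) (tt N7174 D7174))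
theorem Q5460 : ∀ i, i < 5460 → P i := stepQ 5459 Q5459 (allL N5459 (tt N7169 (iv F11894)) (tt N4474 F9004) (tt N7174 (iv F11908)) (tt N4095 F9005) (tt N7175 D7175) (tt N4094 (iv D5459)))
theorem Q5461 : ∀ i, i < 5461 → P i := stepQ 5460 Q5460 (allL N5460 (tt N4097 F9006) (tt N4101 F9007) (tt N4475 F9008) (tt N7176 D7176) (tt N4096 (iv D5460)) (tt N4469 (iv F9009)))
theorem Q5462 : ∀ i, i < 5462 → P i := stepQ 5461 Q5461 (allL N5461 (tt N7176 (iv F11912)) (tt N4098 F9010) (tt N7177 D7177) (tt N4097 (iv D5461)) (tt N6711 (iv F11101)) (tt N7178 D7178))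
theorem Q5463 : ∀ i, i < 5463 → P i := stepQ 5462 Q5462 (allL N5462 (tt N4469 F9011) (tt N4099 F9012) (tt N4477 F9013) (tt N7178 (iv F11917)) (tt N7167 (iv F11889)) (tt N4097 (iv D5462)))
theorem Q5464 : ∀ i, i < 5464 → P i := stepQ 5463 Q5463 (allL N5463 (tt N4107 F9014) (tt N7021 (iv F11650)) (tt N4098 (iv D5463)) (tt N4115 F9015) (tt N6713 (iv F11106)) (tt N4114 (iv F9016)))
theorem Q5465 : ∀ i, i < 5465 → P i := stepQ 5464 Q5464 (allL N5464 (tt N4108 F9017) (tt N7178 (iv F11916)) (tt N4114 F9018) (tt N4099 F9019) (tt N7179 D7179) (tt N4098 (iv D5464)))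
theorem Q5466 : ∀ i, i < 5466 → P i := stepQ 5465 Q5465 (allL N5465 (tt N4103 F9020) (tt N6710 (iv F11098)) (tt N6961 (iv F11539)) (tt N7180 D7180) (tt N4100 (iv D5465)) (tt N7181 D7181))
theorem Q5467 : ∀ i, i < 5467 → P i := stepQ 5466 Q5466 (allL N5466 (tt N4104 F9021) (tt N7176 (iv F11913)) (tt N4456 F9023) (tt N4101 (iv D5466)) (tt N7180 (iv F11921)) (tt N4470 F9022))
theorem Q5468 : ∀ i, i < 5468 → P i := stepQ 5467 Q5467 (allL N5467 (tt N6961 (iv F11537)) (tt N5218 F9024) (tt N4103 F9025) (tt N7182 D7182) (tt N4102 (iv D5467)) (tt N7183 D7183))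
theorem Q5469 : ∀ i, i < 5469 → P i := stepQ 5468 Q5468 (allL N5468 (tt N7180 (iv F11920)) (tt N4105 F9026) (tt N7184 D7184) (tt N4103 (iv D5468)) (tt N4104 F9027) (tt N7185 D7185))
theorem Q5470 : ∀ i, i < 5470 → P i := stepQ 5469 Q5469 (allL N5469 (tt N7181 (iv F11923)) (tt N4106 F9028) (tt N7183 (iv F11926)) (tt N7185 (iv F11930)) (tt N6979 (iv F11574)) (tt N4103 (iv D5469)))
theorem Q5471 : ∀ i, i < 5471 → P i := stepQ 5470 Q5470 (allL N5470 (tt N4456 F9029) (tt N7186 D7186) (tt N4104 (iv D5470)) (tt N4451 F9031) (tt N7184 (iv F11928)) (tt N4472 F9030))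
theorem Q5472 : ∀ i, i < 5472 → P i := stepQ 5471 Q5471 (allL N5471 (tt N6713 (iv F11105)) (tt N7187 D7187) (tt N4105 (iv D5471)) (tt N6726 (iv F11130)) (tt N4107 F9032) (tt N6725 (iv F11128)))
theorem Q5473 : ∀ i, i < 5473 → P i := stepQ 5472 Q5472 (allL N5472 (tt N6714 (iv F11107)) (tt N7185 (iv F11929)) (tt N6725 (iv F11127)) (tt N4106 F9033) (tt N7188 D7188) (tt N4105 (iv D5472)))
theorem Q5474 : ∀ i, i < 5474 → P i := stepQ 5473 Q5473 (allL N5473 (tt N7189 D7189) (tt N4107 (iv D5473)) (tt N7186 (iv F11932)) (tt N7190 D7190) (tt N7187 (iv F11935)) (tt N7191 D7191))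
theorem Q5475 : ∀ i, i < 5475 → P i := stepQ 5474 Q5474 (allL N5474 (tt N4115 F9034) (tt N7190 (iv F11938)) (tt N4110 F9035) (tt N4107 (iv D5474)) (tt N7192 D7192) (tt N4109 F9036))
theorem Q5476 : ∀ i, i < 5476 → P i := stepQ 5475 Q5475 (allL N5475 (tt N4114 F9037) (tt N7191 (iv F11940)) (tt N4108 F9038) (tt N4109 F9039) (tt N7193 D7193) (tt N4107 (iv D5475)))
theorem Q5477 : ∀ i, i < 5477 → P i := stepQ 5476 Q5476 (allL N5476 (tt N7179 (iv F11918)) (tt N4473 F9040) (tt N7193 (iv F11947)) (tt N7175 (iv F11911)) (tt N4108 (iv D5476)) (tt N7188 (iv F11937)))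
theorem Q5478 : ∀ i, i < 5478 → P i := stepQ 5477 Q5477 (allL N5477 (tt N7194 D7194) (tt N4109 (iv D5477)) (tt N6498 (iv F10751)) (tt N7191 (iv F11942)) (tt N4405 F9041) (tt N7190 F11939))
theorem Q5479 : ∀ i, i < 5479 → P i := stepQ 5478 Q5478 (allL N5478 (tt N4116 F9042) (tt N6501 (iv F10760)) (tt N7192 (iv F11944)) (tt N4308 F9043) (tt N4110 (iv D5478)) (tt N4408 F9044))
theorem Q5480 : ∀ i, i < 5480 → P i := stepQ 5479 Q5479 (allL N5479 (tt N7195 D7195) (tt N4111 (iv D5479)) (tt N4434 F9045) (tt N7196 D7196) (tt N4113 F9046) (tt N7197 D7197))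
theorem Q5481 : ∀ i, i < 5481 → P i := stepQ 5480 Q5480 (allL N5480 (tt N4406 F9047) (tt N7196 (iv F11954)) (tt N4414 F9048) (tt N4111 (iv D5480)) (tt N7198 D7198) (tt N4412 (iv F9049)))
theorem Q5482 : ∀ i, i < 5482 → P i := stepQ 5481 Q5481 (allL N5481 (tt N4407 F9050) (tt N7197 (iv F11956)) (tt N4112 F9051) (tt N4412 F9052) (tt N7199 D7199) (tt N4111 (iv D5481)))
theorem Q5483 : ∀ i, i < 5483 → P i := stepQ 5482 Q5482 (allL N5482 (tt N4408 F9053) (tt N4437 F9054) (tt N7199 (iv F11963)) (tt N4318 F9055) (tt N4112 (iv D5482)) (tt N4116 F9056))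
theorem Q5484 : ∀ i, i < 5484 → P i := stepQ 5483 Q5483 (allL N5483 (tt N4113 (iv D5483)) (tt N7194 (iv F11949)) (tt N4433 F9057) (tt N7031 (iv F11667)) (tt N7195 (iv F11953)) (tt N7018 (iv F11644)))
theorem Q5485 : ∀ i, i < 5485 → P i := stepQ 5484 Q5484 (allL N5484 (tt N7031 (iv F11666)) (tt N4114 F9058) (tt N7027 (iv F11661)) (tt N4113 (iv D5484)) (tt N7200 D7200) (tt N7021 (iv F11651)))
theorem Q5486 : ∀ i, i < 5486 → P i := stepQ 5485 Q5485 (allL N5485 (tt N7193 (iv F11946)) (tt N7200 (iv F11965)) (tt N7179 (iv F11919)) (tt N7198 (iv F11961)) (tt N4114 (iv D5485)) (tt N7201 D7201))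
theorem Q5487 : ∀ i, i < 5487 → P i := stepQ 5486 Q5486 (allL N5486 (tt N7192 (iv F11943)) (tt N7022 (iv F11652)) (tt N4116 F9059) (tt N7202 D7202) (tt N4115 (iv D5486)) (tt N7199 (iv F11964)))
theorem Q5488 : ∀ i, i < 5488 → P i := stepQ 5487 Q5487 (allL N5487 (tt N4121 F9060) (tt N5705 (iv F9392)) (tt N7203 D7203) (tt N4117 (iv D5487)) (tt N6515 (iv F10782)) (tt N7204 D7204))
theorem Q5489 : ∀ i, i < 5489 → P i := stepQ 5488 Q5488 (allL N5488 (tt N4122 F9061) (tt N5706 (iv F9395)) (tt N4118 F9062) (tt N7204 (iv F11968)) (tt N5835 (iv F9584)) (tt N4117 (iv D5488)))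
theorem Q5490 : ∀ i, i < 5490 → P i := stepQ 5489 Q5489 (allL N5489 (tt N6372 (iv F10522)) (tt N6449 (iv F10659)) (tt N4120 F9063) (tt N7205 D7205) (tt N4119 (iv D5489)) (tt N7206 D7206))
theorem Q5491 : ∀ i, i < 5491 → P i := stepQ 5490 Q5490 (allL N5490 (tt N6515 (iv F10780)) (tt N6523 (iv F10799)) (tt N7207 D7207) (tt N4120 (iv D5490)) (tt N4121 F9064) (tt N7208 D7208))
theorem Q5492 : ∀ i, i < 5492 → P i := stepQ 5491 Q5491 (allL N5491 (tt N6516 (iv F10783)) (tt N6524 (iv F10802)) (tt N7206 (iv F11970)) (tt N7208 (iv F11972)) (tt N7078 (iv F11736)) (tt N4120 (iv D5491)))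
theorem Q5493 : ∀ i, i < 5493 → P i := stepQ 5492 Q5492 (allL N5492 (tt N7203 (iv F11966)) (tt N7209 D7209) (tt N4121 (iv D5492)) (tt N7210 D7210) (tt N7207 (iv F11971)) (tt N7211 D7211))
theorem Q5494 : ∀ i, i < 5494 → P i := stepQ 5493 Q5493 (allL N5493 (tt N7204 (iv F11967)) (tt N7087 (iv F11747)) (tt N7211 (iv F11973)) (tt N4122 F9065) (tt N7212 D7212) (tt N4121 (iv D5493)))
theorem Q5495 : ∀ i, i < 5495 → P i := stepQ 5494 Q5494 (allL N5494 (tt N5838 (iv F9590)) (tt N6178 (iv F10187)) (tt N6640 (iv F10968)) (tt N4123 (iv D5494)) (tt N7213 D7213) (tt N6166 (iv F10162)))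
theorem Q5496 : ∀ i, i < 5496 → P i := stepQ 5495 Q5495 (allL N5495 (tt N4125 F9066) (tt N5701 (iv F9383)) (tt N7214 D7214) (tt N4124 (iv D5495)) (tt N5695 (iv F9370)) (tt N7215 D7215))
theorem Q5497 : ∀ i, i < 5497 → P i := stepQ 5496 Q5496 (allL N5496 (tt N4126 F9067) (tt N5702 (iv F9386)) (tt N4130 F9068) (tt N7215 (iv F11976)) (tt N5840 (iv F9595)) (tt N4124 (iv D5496)))
theorem Q5498 : ∀ i, i < 5498 → P i := stepQ 5497 Q5497 (allL N5497 (tt N7214 (iv F11974)) (tt N7216 D7216) (tt N4125 (iv D5497)) (tt N7217 D7217) (tt N5697 (iv F9373)) (tt N7218 D7218))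
theorem Q5499 : ∀ i, i < 5499 → P i := stepQ 5498 Q5498 (allL N5498 (tt N7215 (iv F11975)) (tt N4128 F9069) (tt N7218 (iv F11978)) (tt N4126 F9070) (tt N7219 D7219) (tt N4125 (iv D5498)))
theorem Q5500 : ∀ i, i < 5500 → P i := stepQ 5499 Q5499 (allL N5499 (tt N7220 D7220) (tt N4127 (iv D5499)) (tt N7216 (iv F11977)) (tt N7221 D7221) (tt N5699 (iv F9377)) (tt N7222 D7222))
theorem Q5501 : ∀ i, i < 5501 → P i := stepQ 5500 Q5500 (allL N5500 (tt N5714 (iv F9404)) (tt N7221 (iv F11980)) (tt N5213 F9071) (tt N4127 (iv D5500)) (tt N5750 (iv F9459)) (tt N5212 F9072))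
theorem Q5502 : ∀ i, i < 5502 → P i := stepQ 5501 Q5501 (allL N5501 (tt N5715 (iv F9407)) (tt N7222 (iv F11982)) (tt N4128 F9073) (tt N5212 F9074) (tt N5749 (iv F9458)) (tt N4127 (iv D5501)))
theorem Q5503 : ∀ i, i < 5503 → P i := stepQ 5502 Q5502 (allL N5502 (tt N5716 (iv F9410)) (tt N7219 (iv F11979)) (tt N5749 (iv F9457)) (tt N5846 (iv F9599)) (tt N4128 (iv D5502)) (tt N5700 (iv F9381)))
theorem Q5504 : ∀ i, i < 5504 → P i := stepQ 5503 Q5503 (allL N5503 (tt N4131 F9075) (tt N7223 D7223) (tt N4129 (iv D5503)) (tt N7224 D7224) (tt N7014 (iv F11638)) (tt N7225 D7225))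
theorem Q5505 : ∀ i, i < 5505 → P i := stepQ 5504 Q5504 (allL N5504 (tt N4132 F9076) (tt N7074 (iv F11727)) (tt N7225 (iv F11986)) (tt N4130 F9077) (tt N7226 D7226) (tt N4129 (iv D5504)))
theorem Q5506 : ∀ i, i < 5506 → P i := stepQ 5505 Q5505 (allL N5505 (tt N7227 D7227) (tt N4131 (iv D5505)) (tt N4133 F9078) (tt N7228 D7228) (tt N7015 (iv F11640)) (tt N7229 D7229))
theorem Q5507 : ∀ i, i < 5507 → P i := stepQ 5506 Q5506 (allL N5506 (tt N7224 (iv F11984)) (tt N7228 (iv F11989)) (tt N7230 D7230) (tt N4131 (iv D5506)) (tt N7231 D7231) (tt N7232 D7232))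
theorem Q5508 : ∀ i, i < 5508 → P i := stepQ 5507 Q5507 (allL N5507 (tt N7225 (iv F11985)) (tt N7229 (iv F11990)) (tt N4132 F9079) (tt N7232 (iv F11992)) (tt N7233 D7233) (tt N4131 (iv D5507)))
theorem Q5509 : ∀ i, i < 5509 → P i := stepQ 5508 Q5508 (allL N5508 (tt N7226 (iv F11987)) (tt N4136 F9080) (tt N7233 (iv F11993)) (tt N7008 (iv F11625)) (tt N4132 (iv D5508)) (tt N7009 (iv F11629)))
theorem Q5510 : ∀ i, i < 5510 → P i := stepQ 5509 Q5509 (allL N5509 (tt N4133 (iv D5509)) (tt N7097 (iv F11758)) (tt N7227 (iv F11988)) (tt N7234 D7234) (tt N7017 (iv F11642)) (tt N7235 D7235))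
theorem Q5511 : ∀ i, i < 5511 → P i := stepQ 5510 Q5510 (allL N5510 (tt N7234 (iv F11994)) (tt N4134 F9081) (tt N7236 D7236) (tt N4133 (iv D5510)) (tt N7237 D7237) (tt N6036 F9905))
theorem Q5512 : ∀ i, i < 5512 → P i := stepQ 5511 Q5511 (allL N5511 (tt N7235 (iv F11995)) (tt N4135 F9082) (tt N7229 (iv F11991)) (tt N6036 F9904) (tt N7238 D7238) (tt N4133 (iv D5511)))
theorem Q5513 : ∀ i, i < 5513 → P i := stepQ 5512 Q5512 (allL N5512 (tt N6007 (iv F9836)) (tt N7237 (iv F11996)) (tt N6030 (iv F9893)) (tt N6194 (iv F10208)) (tt N4134 (iv D5512)) (tt N5991 (iv F9800)))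
theorem Q5514 : ∀ i, i < 5514 → P i := stepQ 5513 Q5513 (allL N5513 (tt N6008 (iv F9840)) (tt N7238 (iv F11997)) (tt N4136 F9083) (tt N5987 (iv F9790)) (tt N4135 (iv D5513)) (tt N6195 (iv F10213)))
theorem Q5515 : ∀ i, i < 5515 → P i := stepQ 5514 Q5514 (allL N5514 (tt N7239 D7239) (tt N4137 (iv D5514)) (tt N5849 (iv F9604)) (tt N7069 (iv F11718)) (tt N6224 (iv F10271)) (tt N4138 F9084))
theorem Q5516 : ∀ i, i < 5516 → P i := stepQ 5515 Q5515 (allL N5515 (tt N4138 (iv D5515)) (tt N6176 (iv F10183)) (tt N5847 (iv F9600)) (tt N7240 D7240) (tt N4140 F9085) (tt N7239 (iv F11998)))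
theorem Q5517 : ∀ i, i < 5517 → P i := stepQ 5516 Q5516 (allL N5516 (tt N7240 (iv F11999)) (tt N4139 F9086) (tt N7241 D7241) (tt N4138 (iv D5516)) (tt N6014 (iv F9856)) (tt N7069 (iv F11719)))
theorem Q5518 : ∀ i, i < 5518 → P i := stepQ 5517 Q5517 (allL N5517 (tt N6478 (iv F10711)) (tt N6739 (iv F11151)) (tt N6166 (iv F10161)) (tt N4141 (iv D5517)) (tt N7242 D7242) (tt N6640 (iv F10967)))
theorem Q5519 : ∀ i, i < 5519 → P i := stepQ 5518 Q5518 (allL N5518 (tt N6386 (iv F10547)) (tt N6977 (iv F11569)) (tt N4142 F9087) (tt N7243 D7243) (tt N4141 (iv D5518)) (tt N7244 D7244))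
theorem Q5520 : ∀ i, i < 5520 → P i := stepQ 5519 Q5519 (allL N5519 (tt N5223 F9088) (tt N4143 F9089) (tt N7244 (iv F12001)) (tt N4378 F9090) (tt N5219 F9091) (tt N4142 (iv D5519)))
theorem Q5521 : ∀ i, i < 5521 → P i := stepQ 5520 Q5520 (allL N5520 (tt N4145 F9092) (tt N6975 (iv F11566)) (tt N6495 (iv F10744)) (tt N7245 D7245) (tt N4144 (iv D5520)) (tt N7246 D7246))
theorem Q5522 : ∀ i, i < 5522 → P i := stepQ 5521 Q5521 (allL N5521 (tt N7245 (iv F12003)) (tt N4146 F9093) (tt N7247 D7247) (tt N4145 (iv D5521)) (tt N7166 (iv F11885)) (tt N7248 D7248))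
theorem Q5523 : ∀ i, i < 5523 → P i := stepQ 5522 Q5522 (allL N5522 (tt N7246 (iv F12004)) (tt N4147 F9094) (tt N6494 (iv F10740)) (tt N7248 (iv F12006)) (tt N6712 (iv F11104)) (tt N4145 (iv D5522)))
theorem Q5524 : ∀ i, i < 5524 → P i := stepQ 5523 Q5523 (allL N5523 (tt N7170 (iv F11897)) (tt N7249 D7249) (tt N4146 (iv D5523)) (tt N7250 D7250) (tt N7168 (iv F11891)) (tt N7251 D7251))
theorem Q5525 : ∀ i, i < 5525 → P i := stepQ 5524 Q5524 (allL N5524 (tt N7171 (iv F11901)) (tt N7248 (iv F12005)) (tt N7251 (iv F12011)) (tt N4147 F9095) (tt N7252 D7252) (tt N4146 (iv D5524)))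
theorem Q5526 : ∀ i, i < 5526 → P i := stepQ 5525 Q5525 (allL N5525 (tt N7081 (iv F11739)) (tt N7253 D7253) (tt N4149 (iv D5525)) (tt N7254 D7254) (tt N7072 (iv F11723)) (tt N7255 D7255))
theorem Q5527 : ∀ i, i < 5527 → P i := stepQ 5526 Q5526 (allL N5526 (tt N7082 (iv F11743)) (tt N6537 (iv F10826)) (tt N7255 (iv F12017)) (tt N4150 F9096) (tt N7256 D7256) (tt N4149 (iv D5526)))
theorem Q5528 : ∀ i, i < 5528 → P i := stepQ 5527 Q5527 (allL N5527 (tt N4151 (iv D5527)) (tt N4982 F9097) (tt N7152 (iv F11867)) (tt N4869 F9098) (tt N6438 (iv F10633)) (tt N4235 F9099))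
theorem Q5529 : ∀ i, i < 5529 → P i := stepQ 5528 Q5528 (allL N5528 (tt N4153 F9100) (tt N7257 D7257) (tt N4152 (iv D5528)) (tt N4980 F9103) (tt N4302 F9101) (tt N4263 F9102))
theorem Q5530 : ∀ i, i < 5530 → P i := stepQ 5529 Q5529 (allL N5529 (tt N4980 F9104) (tt N7141 (iv F11845)) (tt N4968 F9106) (tt N4153 (iv D5529)) (tt N7258 D7258) (tt N4264 F9105))
theorem Q5531 : ∀ i, i < 5531 → P i := stepQ 5530 Q5530 (allL N5530 (tt N4276 F9107) (tt N4156 F9108) (tt N4266 F9109) (tt N7259 D7259) (tt N4154 (iv D5530)) (tt N7260 D7260))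
theorem Q5532 : ∀ i, i < 5532 → P i := stepQ 5531 Q5531 (allL N5531 (tt N4159 F9110) (tt N4390 F9111) (tt N4948 F9112) (tt N7261 D7261) (tt N4155 (iv D5531)) (tt N7262 D7262))
theorem Q5533 : ∀ i, i < 5533 → P i := stepQ 5532 Q5532 (allL N5532 (tt N4160 F9113) (tt N7259 (iv F12027)) (tt N7263 D7263) (tt N4156 (iv D5532)) (tt N7261 (iv F12035)) (tt N7264 D7264))
theorem Q5534 : ∀ i, i < 5534 → P i := stepQ 5533 Q5533 (allL N5533 (tt N4161 F9114) (tt N7260 (iv F12030)) (tt N4157 F9115) (tt N7264 (iv F12045)) (tt N4290 F9116) (tt N4156 (iv D5533)))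
theorem Q5535 : ∀ i, i < 5535 → P i := stepQ 5534 Q5534 (allL N5534 (tt N4948 F9117) (tt N4385 F9118) (tt N4159 F9119) (tt N7265 D7265) (tt N4158 (iv D5534)) (tt N7266 D7266))
theorem Q5536 : ∀ i, i < 5536 → P i := stepQ 5535 Q5535 (allL N5535 (tt N7261 (iv F12033)) (tt N4279 F9120) (tt N7267 D7267) (tt N4159 (iv D5535)) (tt N4160 F9121) (tt N7268 D7268))
theorem Q5537 : ∀ i, i < 5537 → P i := stepQ 5536 Q5536 (allL N5536 (tt N7262 (iv F12036)) (tt N4280 F9122) (tt N7266 (iv F12051)) (tt N7268 (iv F12055)) (tt N4293 F9123) (tt N4159 (iv D5536)))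
theorem Q5538 : ∀ i, i < 5538 → P i := stepQ 5537 Q5537 (allL N5537 (tt N7263 (iv F12040)) (tt N7269 D7269) (tt N4160 (iv D5537)) (tt N7270 D7270) (tt N7267 (iv F12053)) (tt N7271 D7271))
theorem Q5539 : ∀ i, i < 5539 → P i := stepQ 5538 Q5538 (allL N5538 (tt N7264 (iv F12043)) (tt N4282 F9124) (tt N7271 (iv F12061)) (tt N4161 F9125) (tt N7272 D7272) (tt N4160 (iv D5538)))
theorem Q5540 : ∀ i, i < 5540 → P i := stepQ 5539 Q5539 (allL N5539 (tt N4266 F9126) (tt N4163 F9127) (tt N4276 F9128) (tt N7273 D7273) (tt N4162 (iv D5539)) (tt N7274 D7274))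
theorem Q5541 : ∀ i, i < 5541 → P i := stepQ 5540 Q5540 (allL N5540 (tt N4166 F9129) (tt N7273 (iv F12066)) (tt N7275 D7275) (tt N4163 (iv D5540)) (tt N5758 (iv F9479)) (tt N7276 D7276))
theorem Q5542 : ∀ i, i < 5542 → P i := stepQ 5541 Q5541 (allL N5541 (tt N4167 F9130) (tt N7274 (iv F12068)) (tt N4164 F9131) (tt N7276 (iv F12074)) (tt N4173 F9132) (tt N4163 (iv D5541)))
theorem Q5543 : ∀ i, i < 5543 → P i := stepQ 5542 Q5542 (allL N5542 (tt N5758 (iv F9478)) (tt N4272 F9133) (tt N7277 D7277) (tt N4165 (iv D5542)) (tt N4166 F9134) (tt N7278 D7278))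
theorem Q5544 : ∀ i, i < 5544 → P i := stepQ 5543 Q5543 (allL N5543 (tt N5759 (iv F9480)) (tt N4273 F9135) (tt N5754 (iv F9466)) (tt N7278 (iv F12077)) (tt N4181 F9136) (tt N4165 (iv D5543)))
theorem Q5545 : ∀ i, i < 5545 → P i := stepQ 5544 Q5544 (allL N5544 (tt N7275 (iv F12071)) (tt N7279 D7279) (tt N4166 (iv D5544)) (tt N7280 D7280) (tt N7277 (iv F12075)) (tt N7281 D7281))
theorem Q5546 : ∀ i, i < 5546 → P i := stepQ 5545 Q5545 (allL N5545 (tt N7276 (iv F12073)) (tt N4275 F9137) (tt N7281 (iv F12081)) (tt N4167 F9138) (tt N7282 D7282) (tt N4166 (iv D5545)))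
theorem Q5547 : ∀ i, i < 5547 → P i := stepQ 5546 Q5546 (allL N5546 (tt N4170 F9139) (tt N4174 F9140) (tt N4283 F9141) (tt N7283 D7283) (tt N4168 (iv D5546)) (tt N7284 D7284))
theorem Q5548 : ∀ i, i < 5548 → P i := stepQ 5547 Q5547 (allL N5547 (tt N4969 F9142) (tt N4171 F9143) (tt N5248 F9144) (tt N7285 D7285) (tt N4169 (iv D5547)) (tt N7286 D7286))
theorem Q5549 : ∀ i, i < 5549 → P i := stepQ 5548 Q5548 (allL N5548 (tt N7283 (iv F12084)) (tt N4172 F9145) (tt N7287 D7287) (tt N4170 (iv D5548)) (tt N7285 (iv F12093)) (tt N7288 D7288))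
theorem Q5550 : ∀ i, i < 5550 → P i := stepQ 5549 Q5549 (allL N5549 (tt N7284 (iv F12087)) (tt N4173 F9146) (tt N4285 F9147) (tt N7288 (iv F12099)) (tt N7274 (iv F12070)) (tt N4170 (iv D5549)))
theorem Q5551 : ∀ i, i < 5551 → P i := stepQ 5550 Q5550 (allL N5550 (tt N4180 F9148) (tt N7285 (iv F12092)) (tt N7289 D7289) (tt N4171 (iv D5550)) (tt N4172 F9149) (tt N7290 D7290))
theorem Q5552 : ∀ i, i < 5552 → P i := stepQ 5551 Q5551 (allL N5551 (tt N4181 F9150) (tt N7286 (iv F12095)) (tt N5607 (iv F9258)) (tt N7290 (iv F12104)) (tt N5759 (iv F9482)) (tt N4171 (iv D5551)))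
theorem Q5553 : ∀ i, i < 5553 → P i := stepQ 5552 Q5552 (allL N5552 (tt N4182 F9151) (tt N4304 (iv F9153)) (tt N4172 (iv D5552)) (tt N4195 F9152) (tt N7289 (iv F12101)) (tt N4194 (iv F9154)))
theorem Q5554 : ∀ i, i < 5554 → P i := stepQ 5553 Q5553 (allL N5553 (tt N4183 F9155) (tt N7288 (iv F12098)) (tt N4194 F9156) (tt N4173 F9157) (tt N7291 D7291) (tt N4172 (iv D5553)))
theorem Q5555 : ∀ i, i < 5555 → P i := stepQ 5554 Q5554 (allL N5554 (tt N4176 F9158) (tt N7283 (iv F12085)) (tt N7292 D7292) (tt N4174 (iv D5554)) (tt N4970 F9159) (tt N7293 D7293))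
theorem Q5556 : ∀ i, i < 5556 → P i := stepQ 5555 Q5555 (allL N5555 (tt N4177 F9160) (tt N7284 (iv F12088)) (tt N4185 F9161) (tt N7293 (iv F12110)) (tt N4269 F9162) (tt N4174 (iv D5555)))
theorem Q5557 : ∀ i, i < 5557 → P i := stepQ 5556 Q5556 (allL N5556 (tt N4970 F9163) (tt N4180 F9164) (tt N7294 D7294) (tt N4175 (iv D5556)) (tt N4176 F9165) (tt N7295 D7295))
theorem Q5558 : ∀ i, i < 5558 → P i := stepQ 5557 Q5557 (allL N5557 (tt N4971 F9166) (tt N4181 F9167) (tt N4964 F9168) (tt N7295 (iv F12115)) (tt N4273 F9169) (tt N4175 (iv D5557)))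
theorem Q5559 : ∀ i, i < 5559 → P i := stepQ 5558 Q5558 (allL N5558 (tt N7292 (iv F12107)) (tt N7296 D7296) (tt N4176 (iv D5558)) (tt N7297 D7297) (tt N7294 (iv F12112)) (tt N7298 D7298))
theorem Q5560 : ∀ i, i < 5560 → P i := stepQ 5559 Q5559 (allL N5559 (tt N7293 (iv F12109)) (tt N4183 F9170) (tt N7298 (iv F12117)) (tt N4177 F9171) (tt N7299 D7299) (tt N4176 (iv D5559)))
theorem Q5561 : ∀ i, i < 5561 → P i := stepQ 5560 Q5560 (allL N5560 (tt N5269 F9172) (tt N4179 F9173) (tt N4960 F9174) (tt N7300 D7300) (tt N4178 (iv D5560)) (tt N7301 D7301))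
theorem Q5562 : ∀ i, i < 5562 → P i := stepQ 5561 Q5561 (allL N5561 (tt N5606 (iv F9253)) (tt N7300 (iv F12121)) (tt N7302 D7302) (tt N4179 (iv D5561)) (tt N5604 (iv F9249)) (tt N7303 D7303))
theorem Q5563 : ∀ i, i < 5563 → P i := stepQ 5562 Q5562 (allL N5562 (tt N5607 (iv F9256)) (tt N7301 (iv F12123)) (tt N4181 F9175) (tt N7303 (iv F12125)) (tt N5754 (iv F9467)) (tt N4179 (iv D5562)))
theorem Q5564 : ∀ i, i < 5564 → P i := stepQ 5563 Q5563 (allL N5563 (tt N7289 (iv F12100)) (tt N7304 D7304) (tt N4180 (iv D5563)) (tt N7305 D7305) (tt N4182 F9176) (tt N7306 D7306))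
theorem Q5565 : ∀ i, i < 5565 → P i := stepQ 5564 Q5564 (allL N5564 (tt N7290 (iv F12103)) (tt N7295 (iv F12114)) (tt N7306 (iv F12127)) (tt N4181 F9177) (tt N7307 D7307) (tt N4180 (iv D5564)))
theorem Q5566 : ∀ i, i < 5566 → P i := stepQ 5565 Q5565 (allL N5565 (tt N7308 D7308) (tt N4182 (iv D5565)) (tt N7296 (iv F12116)) (tt N7309 D7309) (tt N7304 (iv F12126)) (tt N7310 D7310))
theorem Q5567 : ∀ i, i < 5567 → P i := stepQ 5566 Q5566 (allL N5566 (tt N4195 F9178) (tt N7309 (iv F12132)) (tt N4190 F9179) (tt N4182 (iv D5566)) (tt N7140 (iv F11843)) (tt N4189 F9180))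
theorem Q5568 : ∀ i, i < 5568 → P i := stepQ 5567 Q5567 (allL N5567 (tt N4194 F9181) (tt N7310 (iv F12134)) (tt N4183 F9182) (tt N4189 F9183) (tt N7311 D7311) (tt N4182 (iv D5567)))
theorem Q5569 : ∀ i, i < 5569 → P i := stepQ 5568 Q5568 (allL N5568 (tt N7291 (iv F12105)) (tt N7299 (iv F12118)) (tt N7311 (iv F12137)) (tt N7282 (iv F12083)) (tt N4183 (iv D5568)) (tt N7307 (iv F12128)))
theorem Q5570 : ∀ i, i < 5570 → P i := stepQ 5569 Q5569 (allL N5569 (tt N4186 F9184) (tt N7312 D7312) (tt N4184 (iv D5569)) (tt N7313 D7313) (tt N4263 F9185) (tt N7314 D7314))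
theorem Q5571 : ∀ i, i < 5571 → P i := stepQ 5570 Q5570 (allL N5570 (tt N4187 F9186) (tt N4303 F9187) (tt N7314 (iv F12142)) (tt N4185 F9188) (tt N4303 F9189) (tt N4184 (iv D5570)))
theorem Q5572 : ∀ i, i < 5572 → P i := stepQ 5571 Q5571 (allL N5571 (tt N7313 (iv F12140)) (tt N7121 (iv F11803)) (tt N7315 D7315) (tt N4186 (iv D5571)) (tt N7316 D7316) (tt N7317 D7317))
theorem Q5573 : ∀ i, i < 5573 → P i := stepQ 5572 Q5572 (allL N5572 (tt N7314 (iv F12141)) (tt N4192 F9190) (tt N4187 F9191) (tt N7317 (iv F12146)) (tt N4193 F9192) (tt N4186 (iv D5572)))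
theorem Q5574 : ∀ i, i < 5574 → P i := stepQ 5573 Q5573 (allL N5573 (tt N4192 F9193) (tt N7318 D7318) (tt N4188 (iv D5573)) (tt N7319 D7319) (tt N4189 F9194) (tt N7117 (iv F11800)))
theorem Q5575 : ∀ i, i < 5575 → P i := stepQ 5574 Q5574 (allL N5574 (tt N7320 D7320) (tt N4189 (iv D5574)) (tt N7318 (iv F12147)) (tt N7310 (iv F12135)) (tt N7318 (iv F12148)) (tt N7309 F12133))
theorem Q5576 : ∀ i, i < 5576 → P i := stepQ 5575 Q5575 (allL N5575 (tt N4305 F9195) (tt N7321 D7321) (tt N4191 (iv D5575)) (tt N7322 D7322) (tt N4984 F9196) (tt N7107 (iv F11777)))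
theorem Q5577 : ∀ i, i < 5577 → P i := stepQ 5576 Q5576 (allL N5576 (tt N7319 (iv F12149)) (tt N7317 (iv F12145)) (tt N7323 D7323) (tt N4192 (iv D5576)) (tt N7324 D7324) (tt N7121 (iv F11804)))
theorem Q5578 : ∀ i, i < 5578 → P i := stepQ 5577 Q5577 (allL N5577 (tt N4193 (iv D5577)) (tt N7320 (iv F12150)) (tt N4303 F9197) (tt N7325 D7325) (tt N7314 (iv F12143)) (tt N4302 F9198))
theorem Q5579 : ∀ i, i < 5579 → P i := stepQ 5578 Q5578 (allL N5578 (tt N7325 (iv F12158)) (tt N4194 F9199) (tt N7326 D7326) (tt N4193 (iv D5578)) (tt N7327 D7327) (tt N4304 F9200))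
theorem Q5580 : ∀ i, i < 5580 → P i := stepQ 5579 Q5579 (allL N5579 (tt N7311 (iv F12136)) (tt N7327 (iv F12164)) (tt N7291 (iv F12106)) (tt N7324 (iv F12157)) (tt N4194 (iv D5579)) (tt N7328 D7328))
theorem Q5581 : ∀ i, i < 5581 → P i := stepQ 5580 Q5580 (allL N5580 (tt N4338 F9201) (tt N4198 F9202) (tt N4208 F9203) (tt N7329 D7329) (tt N4196 (iv D5580)) (tt N7330 D7330))
theorem Q5582 : ∀ i, i < 5582 → P i := stepQ 5581 Q5581 (allL N5581 (tt N4202 F9204) (tt N4379 F9205) (tt N6365 (iv F10507)) (tt N7331 D7331) (tt N4197 (iv D5581)) (tt N7332 D7332))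
theorem Q5583 : ∀ i, i < 5583 → P i := stepQ 5582 Q5582 (allL N5582 (tt N4203 F9206) (tt N7329 (iv F12166)) (tt N7333 D7333) (tt N4198 (iv D5582)) (tt N7331 (iv F12174)) (tt N7334 D7334))
theorem Q5584 : ∀ i, i < 5584 → P i := stepQ 5583 Q5583 (allL N5583 (tt N4204 F9207) (tt N7330 (iv F12169)) (tt N4199 F9208) (tt N7334 (iv F12180)) (tt N4348 F9209) (tt N4198 (iv D5583)))
theorem Q5585 : ∀ i, i < 5585 → P i := stepQ 5584 Q5584 (allL N5584 (tt N4205 F9210) (tt N7335 D7335) (tt N4200 (iv D5584)) (tt N7336 D7336) (tt N4368 F9211) (tt N6509 (iv F10773)))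
theorem Q5586 : ∀ i, i < 5586 → P i := stepQ 5585 Q5585 (allL N5585 (tt N6365 (iv F10505)) (tt N4377 F9212) (tt N4202 F9213) (tt N7337 D7337) (tt N4201 (iv D5585)) (tt N7338 D7338))
theorem Q5587 : ∀ i, i < 5587 → P i := stepQ 5586 Q5586 (allL N5586 (tt N7331 (iv F12172)) (tt N4357 F9214) (tt N7339 D7339) (tt N4202 (iv D5586)) (tt N4203 F9215) (tt N7340 D7340))
theorem Q5588 : ∀ i, i < 5588 → P i := stepQ 5587 Q5587 (allL N5587 (tt N7332 (iv F12175)) (tt N4356 F9216) (tt N7338 (iv F12187)) (tt N7340 (iv F12191)) (tt N4351 F9217) (tt N4202 (iv D5587)))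
theorem Q5589 : ∀ i, i < 5589 → P i := stepQ 5588 Q5588 (allL N5588 (tt N7333 (iv F12178)) (tt N7341 D7341) (tt N4203 (iv D5588)) (tt N7342 D7342) (tt N7339 (iv F12189)) (tt N7343 D7343))
theorem Q5590 : ∀ i, i < 5590 → P i := stepQ 5589 Q5589 (allL N5589 (tt N7334 (iv F12179)) (tt N4360 F9218) (tt N7343 (iv F12193)) (tt N4204 F9219) (tt N7344 D7344) (tt N4203 (iv D5589)))
theorem Q5591 : ∀ i, i < 5591 → P i := stepQ 5590 Q5590 (allL N5590 (tt N7345 D7345) (tt N4205 (iv D5590)) (tt N4206 F9220) (tt N7346 D7346) (tt N4370 F9221) (tt N4983 F9222))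
theorem Q5592 : ∀ i, i < 5592 → P i := stepQ 5591 Q5591 (allL N5591 (tt N7336 (iv F12183)) (tt N7346 (iv F12199)) (tt N7336 (iv F12184)) (tt N4205 (iv D5591)) (tt N7347 D7347) (tt N6514 (iv F10779)))
theorem Q5593 : ∀ i, i < 5593 → P i := stepQ 5592 Q5592 (allL N5592 (tt N4206 (iv D5592)) (tt N4235 F9223) (tt N7345 (iv F12196)) (tt N4959 F9224) (tt N4374 F9225) (tt N4982 F9226))
theorem Q5594 : ∀ i, i < 5594 → P i := stepQ 5593 Q5593 (allL N5593 (tt N4208 F9227) (tt N4216 F9228) (tt N4338 F9229) (tt N7348 D7348) (tt N4207 (iv D5593)) (tt N7349 D7349))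
theorem Q5595 : ∀ i, i < 5595 → P i := stepQ 5594 Q5594 (allL N5594 (tt N7348 (iv F12202)) (tt N4210 F9230) (tt N7350 D7350) (tt N4208 (iv D5594)) (tt N6941 (iv F11508)) (tt N7351 D7351))
theorem Q5596 : ∀ i, i < 5596 → P i := stepQ 5595 Q5595 (allL N5595 (tt N7349 (iv F12205)) (tt N4211 F9231) (tt N7330 (iv F12170)) (tt N7351 (iv F12210)) (tt N7352 D7352) (tt N4208 (iv D5595)))
theorem Q5597 : ∀ i, i < 5597 → P i := stepQ 5596 Q5596 (allL N5596 (tt N4324 F9232) (tt N4212 F9233) (tt N4335 F9234) (tt N7353 D7353) (tt N4209 (iv D5596)) (tt N7352 (iv F12214)))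
theorem Q5598 : ∀ i, i < 5598 → P i := stepQ 5597 Q5597 (allL N5597 (tt N4223 F9235) (tt N7354 D7354) (tt N4210 (iv D5597)) (tt N7255 (iv F12018)) (tt N6943 (iv F11513)) (tt N7254 (iv F12015)))
theorem Q5599 : ∀ i, i < 5599 → P i := stepQ 5598 Q5598 (allL N5598 (tt N4224 F9236) (tt N7351 (iv F12209)) (tt N7254 (iv F12014)) (tt N4211 F9237) (tt N7355 D7355) (tt N4210 (iv D5598)))
theorem Q5600 : ∀ i, i < 5600 → P i := stepQ 5599 Q5599 (allL N5599 (tt N4225 F9238) (tt N7352 (iv F12212)) (tt N4213 F9239) (tt N7356 D7356) (tt N4211 (iv D5599)) (tt N4212 F9240))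
theorem Q5601 : ∀ i, i < 5601 → P i := stepQ 5600 Q5600 (allL N5600 (tt N4226 F9241) (tt N7353 (iv F12216)) (tt N7357 D7357) (tt N4212 (iv D5600)) (tt N4249 F9242) (tt N7356 (iv F12220)))
theorem Q5602 : ∀ i, i < 5602 → P i := stepQ 5601 Q5601 (allL N5601 (tt N4227 F9243) (tt N4369 F9244) (tt N7358 D7358) (tt N4213 (iv D5601)) (tt N6457 (iv F10676)) (tt N4214 F9245))
theorem Q5603 : ∀ i, i < 5603 → P i := stepQ 5602 Q5602 (allL N5602 (tt N4228 F9246) (tt N7359 D7359) (tt N4214 (iv D5602)) (tt N7360 D7360) (tt N4215 F9247) (tt N7358 (iv F12224)))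
theorem Q5604 : ∀ i, i < 5604 → P i := stepQ 5603 Q5603 (allL N5603 (tt N7361 D7361) (tt N4215 (iv D5603)) (tt N7335 (iv F12181)) (tt N7139 (iv F11840)) (tt N7359 (iv F12226)) (tt N7151 (iv F11866)))
theorem Q5605 : ∀ i, i < 5605 → P i := stepQ 5604 Q5604 (allL N5604 (tt N4218 F9248) (tt N7348 (iv F12203)) (tt N7362 D7362) (tt N4216 (iv D5604)) (tt N5561 F9249) (tt N7363 D7363))
theorem Q5606 : ∀ i, i < 5606 → P i := stepQ 5605 Q5605 (allL N5605 (tt N4219 F9250) (tt N7349 (iv F12206)) (tt N4232 F9251) (tt N7363 (iv F12232)) (tt N4327 F9252) (tt N4216 (iv D5605)))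
theorem Q5607 : ∀ i, i < 5607 → P i := stepQ 5606 Q5606 (allL N5606 (tt N5561 F9253) (tt N4220 F9254) (tt N7364 D7364) (tt N4217 (iv D5606)) (tt N4218 F9255) (tt N7365 D7365))
theorem Q5608 : ∀ i, i < 5608 → P i := stepQ 5607 Q5607 (allL N5607 (tt N5562 F9256) (tt N4221 F9257) (tt N5551 F9258) (tt N7365 (iv F12237)) (tt N4331 F9259) (tt N4217 (iv D5607)))
theorem Q5609 : ∀ i, i < 5609 → P i := stepQ 5608 Q5608 (allL N5608 (tt N7362 (iv F12229)) (tt N7366 D7366) (tt N4218 (iv D5608)) (tt N7367 D7367) (tt N7364 (iv F12234)) (tt N7368 D7368))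
theorem Q5610 : ∀ i, i < 5610 → P i := stepQ 5609 Q5609 (allL N5609 (tt N7363 (iv F12231)) (tt N4224 F9260) (tt N7368 (iv F12239)) (tt N4219 F9261) (tt N7369 D7369) (tt N4218 (iv D5609)))
theorem Q5611 : ∀ i, i < 5611 → P i := stepQ 5610 Q5610 (allL N5610 (tt N6943 (iv F11512)) (tt N7370 D7370) (tt N4220 (iv D5610)) (tt N7371 D7371) (tt N4223 F9262) (tt N7372 D7372))
theorem Q5612 : ∀ i, i < 5612 → P i := stepQ 5611 Q5611 (allL N5611 (tt N6944 (iv F11514)) (tt N7365 (iv F12236)) (tt N7372 (iv F12243)) (tt N4221 F9263) (tt N7373 D7373) (tt N4220 (iv D5611)))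
theorem Q5613 : ∀ i, i < 5613 → P i := stepQ 5612 Q5612 (allL N5612 (tt N4250 F9264) (tt N4331 F9265) (tt N4242 F9266) (tt N7374 D7374) (tt N4221 (iv D5612)) (tt N4222 F9267))
theorem Q5614 : ∀ i, i < 5614 → P i := stepQ 5613 Q5613 (allL N5613 (tt N4249 F9268) (tt N4330 F9269) (tt N7375 D7375) (tt N4222 (iv D5613)) (tt N4226 F9270) (tt N7374 (iv F12247)))
theorem Q5615 : ∀ i, i < 5615 → P i := stepQ 5614 Q5614 (allL N5614 (tt N7376 D7376) (tt N4223 (iv D5614)) (tt N7366 (iv F12238)) (tt N7377 D7377) (tt N7370 (iv F12242)) (tt N7378 D7378))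
theorem Q5616 : ∀ i, i < 5616 → P i := stepQ 5615 Q5615 (allL N5615 (tt N7255 (iv F12016)) (tt N7377 (iv F12250)) (tt N7082 (iv F11744)) (tt N4223 (iv D5615)) (tt N7379 D7379) (tt N7081 F11742))
theorem Q5617 : ∀ i, i < 5617 → P i := stepQ 5616 Q5616 (allL N5616 (tt N7254 (iv F12013)) (tt N7378 (iv F12251)) (tt N4224 F9271) (tt N7081 (iv F11741)) (tt N7380 D7380) (tt N4223 (iv D5616)))
theorem Q5618 : ∀ i, i < 5618 → P i := stepQ 5617 Q5617 (allL N5617 (tt N7355 (iv F12218)) (tt N7369 (iv F12240)) (tt N7380 (iv F12252)) (tt N7381 D7381) (tt N4224 (iv D5617)) (tt N7373 (iv F12244)))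
theorem Q5619 : ∀ i, i < 5619 → P i := stepQ 5618 Q5618 (allL N5618 (tt N7356 (iv F12219)) (tt N4333 F9272) (tt N7382 D7382) (tt N4225 (iv D5618)) (tt N7381 (iv F12254)) (tt N4226 F9273))
theorem Q5620 : ∀ i, i < 5620 → P i := stepQ 5619 Q5619 (allL N5619 (tt N7357 (iv F12221)) (tt N7383 D7383) (tt N4226 (iv D5619)) (tt N7384 D7384) (tt N7375 (iv F12249)) (tt N7382 (iv F12255)))
theorem Q5621 : ∀ i, i < 5621 → P i := stepQ 5620 Q5620 (allL N5620 (tt N7358 (iv F12223)) (tt N5008 F9274) (tt N4227 (iv D5620)) (tt N7385 D7385) (tt N6455 (iv F10672)) (tt N4228 F9275))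
theorem Q5622 : ∀ i, i < 5622 → P i := stepQ 5621 Q5621 (allL N5621 (tt N7386 D7386) (tt N4228 (iv D5621)) (tt N4234 F9276) (tt N7387 D7387) (tt N4229 F9277) (tt N5008 F9278))
theorem Q5623 : ∀ i, i < 5623 → P i := stepQ 5622 Q5622 (allL N5622 (tt N7360 (iv F12227)) (tt N7387 (iv F12262)) (tt N7388 D7388) (tt N4228 (iv D5622)) (tt N7389 D7389) (tt N7385 (iv F12258)))
theorem Q5624 : ∀ i, i < 5624 → P i := stepQ 5623 Q5623 (allL N5623 (tt N4229 (iv D5623)) (tt N7361 (iv F12228)) (tt N4235 F9279) (tt N7390 D7390) (tt N7386 (iv F12260)) (tt N7152 (iv F11868)))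
theorem Q5625 : ∀ i, i < 5625 → P i := stepQ 5624 Q5624 (allL N5624 (tt N7390 (iv F12265)) (tt N4230 F9280) (tt N7391 D7391) (tt N4229 (iv D5624)) (tt N7392 D7392) (tt N7153 (iv F11870)))
theorem Q5626 : ∀ i, i < 5626 → P i := stepQ 5625 Q5625 (allL N5625 (tt N7136 (iv F11834)) (tt N7392 (iv F12266)) (tt N7126 F11817) (tt N7389 (iv F12264)) (tt N4230 (iv D5625)) (tt N7393 D7393))
theorem Q5627 : ∀ i, i < 5627 → P i := stepQ 5626 Q5626 (allL N5626 (tt N4233 F9281) (tt N7394 D7394) (tt N4231 (iv D5626)) (tt N7395 D7395) (tt N4328 F9282) (tt N6599 (iv F10902)))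
theorem Q5628 : ∀ i, i < 5628 → P i := stepQ 5627 Q5627 (allL N5627 (tt N7395 (iv F12270)) (tt N4893 F9283) (tt N7396 D7396) (tt N4233 (iv D5627)) (tt N7397 D7397) (tt N6609 (iv F10914)))
theorem Q5629 : ∀ i, i < 5629 → P i := stepQ 5628 Q5628 (allL N5628 (tt N4234 (iv D5628)) (tt N4374 F9284) (tt N7386 (iv F12259)) (tt N5007 F9285) (tt N4235 F9286) (tt N5006 F9287))
theorem Q5630 : ∀ i, i < 5630 → P i := stepQ 5629 Q5629 (allL N5629 (tt N4236 F9288) (tt N4959 F9289) (tt N7398 D7398) (tt N4235 (iv D5629)) (tt N6443 (iv F10649)) (tt N4869 F9290))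
theorem Q5631 : ∀ i, i < 5631 → P i := stepQ 5630 Q5630 (allL N5630 (tt N7398 (iv F12275)) (tt N4864 F9291) (tt N4236 (iv D5630)) (tt N7399 D7399) (tt N6447 (iv F10657)) (tt N4859 F9292))
theorem Q5632 : ∀ i, i < 5632 → P i := stepQ 5631 Q5631 (allL N5631 (tt N5669 (iv F9330)) (tt N4329 F9293) (tt N4238 F9294) (tt N7400 D7400) (tt N4237 (iv D5631)) (tt N7401 D7401))
theorem Q5633 : ∀ i, i < 5633 → P i := stepQ 5632 Q5632 (allL N5632 (tt N6320 (iv F10416)) (tt N4241 F9295) (tt N7402 D7402) (tt N4238 (iv D5632)) (tt N4239 F9296) (tt N7403 D7403))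
theorem Q5634 : ∀ i, i < 5634 → P i := stepQ 5633 Q5633 (allL N5633 (tt N6321 (iv F10419)) (tt N4242 F9297) (tt N7401 (iv F12282)) (tt N7403 (iv F12286)) (tt N6914 (iv F11454)) (tt N4238 (iv D5633)))
theorem Q5635 : ∀ i, i < 5635 → P i := stepQ 5634 Q5634 (allL N5634 (tt N6915 (iv F11455)) (tt N7404 D7404) (tt N4239 (iv D5634)) (tt N7405 D7405) (tt N7402 (iv F12284)) (tt N7406 D7406))
theorem Q5636 : ∀ i, i < 5636 → P i := stepQ 5635 Q5635 (allL N5635 (tt N6912 (iv F11444)) (tt N4244 F9298) (tt N7406 (iv F12288)) (tt N4240 F9299) (tt N7407 D7407) (tt N4239 (iv D5635)))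
theorem Q5637 : ∀ i, i < 5637 → P i := stepQ 5636 Q5636 (allL N5636 (tt N4251 F9300) (tt N7408 D7408) (tt N4241 (iv D5636)) (tt N7409 D7409) (tt N4243 F9301) (tt N7410 D7410))
theorem Q5638 : ∀ i, i < 5638 → P i := stepQ 5637 Q5637 (allL N5637 (tt N4252 F9302) (tt N7403 (iv F12285)) (tt N7410 (iv F12295)) (tt N4242 F9303) (tt N7411 D7411) (tt N4241 (iv D5637)))
theorem Q5639 : ∀ i, i < 5639 → P i := stepQ 5638 Q5638 (allL N5638 (tt N7412 D7412) (tt N4243 (iv D5638)) (tt N7404 (iv F12287)) (tt N7064 (iv F11712)) (tt N7408 (iv F12292)) (tt N7093 (iv F11754)))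
theorem Q5640 : ∀ i, i < 5640 → P i := stepQ 5639 Q5639 (allL N5639 (tt N4256 F9304) (tt N7407 (iv F12290)) (tt N7094 (iv F11756)) (tt N6922 (iv F11469)) (tt N4244 (iv D5639)) (tt N7411 (iv F12297)))
theorem Q5641 : ∀ i, i < 5641 → P i := stepQ 5640 Q5640 (allL N5640 (tt N4245 (iv D5640)) (tt N4257 F9305) (tt N7122 (iv F11808)) (tt N7413 D7413) (tt N6964 (iv F11543)) (tt N7122 (iv F11809)))
theorem Q5642 : ∀ i, i < 5642 → P i := stepQ 5641 Q5641 (allL N5641 (tt N7413 (iv F12299)) (tt N4246 F9306) (tt N7414 D7414) (tt N4245 (iv D5641)) (tt N7415 D7415) (tt N7125 (iv F11814)))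
theorem Q5643 : ∀ i, i < 5643 → P i := stepQ 5642 Q5642 (allL N5642 (tt N4260 F9307) (tt N7415 (iv F12301)) (tt N7154 (iv F11872)) (tt N6967 (iv F11551)) (tt N4246 (iv D5642)) (tt N7416 D7416))
theorem Q5644 : ∀ i, i < 5644 → P i := stepQ 5643 Q5643 (allL N5643 (tt N4248 F9308) (tt N4325 F9309) (tt N5676 (iv F9345)) (tt N7417 D7417) (tt N4247 (iv D5643)) (tt N7418 D7418))
theorem Q5645 : ∀ i, i < 5645 → P i := stepQ 5644 Q5644 (allL N5644 (tt N7417 (iv F12303)) (tt N4249 F9310) (tt N7419 D7419) (tt N4248 (iv D5644)) (tt N7353 (iv F12217)) (tt N7420 D7420))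
theorem Q5646 : ∀ i, i < 5646 → P i := stepQ 5645 Q5645 (allL N5645 (tt N7418 (iv F12306)) (tt N4250 F9311) (tt N6307 (iv F10393)) (tt N7420 (iv F12310)) (tt N6942 (iv F11511)) (tt N4248 (iv D5645)))
theorem Q5647 : ∀ i, i < 5647 → P i := stepQ 5646 Q5646 (allL N5646 (tt N7375 (iv F12248)) (tt N7421 D7421) (tt N4249 (iv D5646)) (tt N7422 D7422) (tt N7357 (iv F12222)) (tt N7423 D7423))
theorem Q5648 : ∀ i, i < 5648 → P i := stepQ 5647 Q5647 (allL N5647 (tt N7374 (iv F12245)) (tt N7420 (iv F12309)) (tt N7423 (iv F12311)) (tt N4250 F9312) (tt N7424 D7424) (tt N4249 (iv D5647)))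
theorem Q5649 : ∀ i, i < 5649 → P i := stepQ 5648 Q5648 (allL N5648 (tt N7425 D7425) (tt N4251 (iv D5648)) (tt N6952 (iv F11525)) (tt N7426 D7426) (tt N4253 F9313) (tt N7427 D7427))
theorem Q5650 : ∀ i, i < 5650 → P i := stepQ 5649 Q5649 (allL N5649 (tt N7409 (iv F12293)) (tt N7426 (iv F12313)) (tt N7428 D7428) (tt N4251 (iv D5649)) (tt N7429 D7429) (tt N7430 D7430))
theorem Q5651 : ∀ i, i < 5651 → P i := stepQ 5650 Q5650 (allL N5650 (tt N7410 (iv F12294)) (tt N7427 (iv F12314)) (tt N4252 F9314) (tt N7430 (iv F12316)) (tt N7431 D7431) (tt N4251 (iv D5650)))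
theorem Q5652 : ∀ i, i < 5652 → P i := stepQ 5651 Q5651 (allL N5651 (tt N7411 (iv F12296)) (tt N6938 (iv F11500)) (tt N7431 (iv F12317)) (tt N6932 (iv F11487)) (tt N4252 (iv D5651)) (tt N4256 F9315))
theorem Q5653 : ∀ i, i < 5653 → P i := stepQ 5652 Q5652 (allL N5652 (tt N4253 (iv D5652)) (tt N7412 (iv F12298)) (tt N6954 (iv F11527)) (tt N7432 D7432) (tt N7425 (iv F12312)) (tt N7433 D7433))
theorem Q5654 : ∀ i, i < 5654 → P i := stepQ 5653 Q5653 (allL N5653 (tt N7432 (iv F12319)) (tt N4254 F9316) (tt N7434 D7434) (tt N4253 (iv D5653)) (tt N7435 D7435) (tt N7076 (iv F11732)))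
theorem Q5655 : ∀ i, i < 5655 → P i := stepQ 5654 Q5654 (allL N5654 (tt N7433 (iv F12320)) (tt N4255 F9317) (tt N6940 (iv F11505)) (tt N7076 (iv F11731)) (tt N7436 D7436) (tt N4253 (iv D5654)))
theorem Q5656 : ∀ i, i < 5656 → P i := stepQ 5655 Q5655 (allL N5655 (tt N7063 (iv F11709)) (tt N7435 (iv F12321)) (tt N7046 F11687) (tt N7429 (iv F12315)) (tt N4254 (iv D5655)) (tt N7437 D7437))
theorem Q5657 : ∀ i, i < 5657 → P i := stepQ 5656 Q5656 (allL N5656 (tt N7094 (iv F11755)) (tt N7436 (iv F12322)) (tt N4256 F9318) (tt N7438 D7438) (tt N4255 (iv D5656)) (tt N7431 (iv F12318)))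
theorem Q5658 : ∀ i, i < 5658 → P i := stepQ 5657 Q5657 (allL N5657 (tt N4258 F9319) (tt N7413 (iv F12300)) (tt N7439 D7439) (tt N4257 (iv D5657)) (tt N7440 D7440) (tt N7128 (iv F11821)))
theorem Q5659 : ∀ i, i < 5659 → P i := stepQ 5658 Q5658 (allL N5658 (tt N7439 (iv F12323)) (tt N7441 D7441) (tt N4258 (iv D5658)) (tt N7442 D7442) (tt N7443 D7443) (tt N7131 (iv F11829)))
theorem Q5660 : ∀ i, i < 5660 → P i := stepQ 5659 Q5659 (allL N5659 (tt N7440 (iv F12324)) (tt N4260 F9320) (tt N7443 (iv F12326)) (tt N6969 (iv F11556)) (tt N4258 (iv D5659)) (tt N7444 D7444))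
theorem Q5661 : ∀ i, i < 5661 → P i := stepQ 5660 Q5660 (allL N5660 (tt N7445 D7445) (tt N4259 (iv D5660)) (tt N7441 (iv F12325)) (tt N7151 (iv F11865)) (tt N7446 D7446) (tt N7139 (iv F11841)))
theorem Q5662 : ∀ i, i < 5662 → P i := stepQ 5661 Q5661 (allL N5661 (tt N7154 (iv F11871)) (tt N7446 (iv F12328)) (tt N4260 F9321) (tt N7447 D7447) (tt N4259 (iv D5661)) (tt N7448 D7448))
theorem Q5663 : ∀ i, i < 5663 → P i := stepQ 5662 Q5662 (allL N5662 (tt N7416 (iv F12302)) (tt N7444 (iv F12327)) (tt N7448 (iv F12329)) (tt N6972 (iv F11558)) (tt N7137 (iv F11837)) (tt N4260 (iv D5662)))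
theorem Q5664 : ∀ i, i < 5664 → P i := stepQ 5663 Q5663 (allL N5663 (tt N4262 F9322) (tt N7449 D7449) (tt N4261 (iv D5663)) (tt N7450 D7450) (tt N7117 (iv F11799)) (tt N7140 (iv F11844)))
theorem Q5665 : ∀ i, i < 5665 → P i := stepQ 5664 Q5664 (allL N5664 (tt N7450 (iv F12331)) (tt N4264 F9323) (tt N7451 D7451) (tt N4262 (iv D5664)) (tt N7452 D7452) (tt N7141 (iv F11846)))
theorem Q5666 : ∀ i, i < 5666 → P i := stepQ 5665 Q5665 (allL N5665 (tt N7449 (iv F12330)) (tt N4263 (iv D5665)) (tt N7257 (iv F12019)) (tt N7453 D7453) (tt N7312 (iv F12139)) (tt N7257 (iv F12022)))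
theorem Q5667 : ∀ i, i < 5667 → P i := stepQ 5666 Q5666 (allL N5666 (tt N4264 F9324) (tt N7453 (iv F12333)) (tt N4955 F9325) (tt N4263 (iv D5666)) (tt N7454 D7454) (tt N4980 F9326))
theorem Q5668 : ∀ i, i < 5668 → P i := stepQ 5667 Q5667 (allL N5667 (tt N4955 F9327) (tt N7455 D7455) (tt N4264 (iv D5667)) (tt N4941 F9328) (tt N7456 D7456) (tt N4968 F9329))
theorem Q5669 : ∀ i, i < 5669 → P i := stepQ 5668 Q5668 (allL N5668 (tt N7454 (iv F12335)) (tt N7452 (iv F12332)) (tt N7456 (iv F12340)) (tt N7316 (iv F12144)) (tt N4264 (iv D5668)) (tt N7457 D7457))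
theorem Q5670 : ∀ i, i < 5670 → P i := stepQ 5669 Q5669 (allL N5669 (tt N5631 F9330) (tt N4267 F9331) (tt N4773 F9332) (tt N7458 D7458) (tt N4265 (iv D5669)) (tt N7459 D7459))
theorem Q5671 : ∀ i, i < 5671 → P i := stepQ 5670 Q5670 (allL N5670 (tt N7273 (iv F12065)) (tt N4268 F9333) (tt N7460 D7460) (tt N4266 (iv D5670)) (tt N7458 (iv F12343)) (tt N7461 D7461))
theorem Q5672 : ∀ i, i < 5672 → P i := stepQ 5671 Q5671 (allL N5671 (tt N7274 (iv F12067)) (tt N4269 F9334) (tt N7260 (iv F12031)) (tt N7461 (iv F12349)) (tt N7284 (iv F12090)) (tt N4266 (iv D5671)))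
theorem Q5673 : ∀ i, i < 5673 → P i := stepQ 5672 Q5672 (allL N5672 (tt N4272 F9335) (tt N7458 (iv F12342)) (tt N7462 D7462) (tt N4267 (iv D5672)) (tt N4268 F9336) (tt N7463 D7463))
theorem Q5674 : ∀ i, i < 5674 → P i := stepQ 5673 Q5673 (allL N5673 (tt N4273 F9337) (tt N7459 (iv F12345)) (tt N4772 F9338) (tt N7463 (iv F12353)) (tt N4971 F9339) (tt N4267 (iv D5673)))
theorem Q5675 : ∀ i, i < 5675 → P i := stepQ 5674 Q5674 (allL N5674 (tt N4274 F9340) (tt N7464 D7464) (tt N4268 (iv D5674)) (tt N7271 (iv F12062)) (tt N7462 (iv F12351)) (tt N7270 (iv F12059)))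
theorem Q5676 : ∀ i, i < 5676 → P i := stepQ 5675 Q5675 (allL N5675 (tt N4275 F9341) (tt N7461 (iv F12348)) (tt N7270 (iv F12058)) (tt N4269 F9342) (tt N7465 D7465) (tt N4268 (iv D5675)))
theorem Q5677 : ∀ i, i < 5677 → P i := stepQ 5676 Q5676 (allL N5676 (tt N4760 F9343) (tt N4271 F9344) (tt N5643 F9345) (tt N6776 (iv F11203)) (tt N4270 (iv D5676)) (tt N7466 D7466))
theorem Q5678 : ∀ i, i < 5678 → P i := stepQ 5677 Q5677 (allL N5677 (tt N4767 F9346) (tt N6776 (iv F11202)) (tt N7467 D7467) (tt N4271 (iv D5677)) (tt N4764 F9347) (tt N7468 D7468))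
theorem Q5679 : ∀ i, i < 5679 → P i := stepQ 5678 Q5678 (allL N5678 (tt N4772 F9348) (tt N7466 (iv F12356)) (tt N4273 F9349) (tt N7468 (iv F12362)) (tt N4964 F9350) (tt N4271 (iv D5678)))
theorem Q5680 : ∀ i, i < 5680 → P i := stepQ 5679 Q5679 (allL N5679 (tt N7462 (iv F12350)) (tt N7469 D7469) (tt N4272 (iv D5679)) (tt N7470 D7470) (tt N4274 F9351) (tt N7471 D7471))
theorem Q5681 : ∀ i, i < 5681 → P i := stepQ 5680 Q5680 (allL N5680 (tt N7463 (iv F12352)) (tt N7278 (iv F12076)) (tt N7471 (iv F12364)) (tt N4273 F9352) (tt N7472 D7472) (tt N4272 (iv D5680)))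
theorem Q5682 : ∀ i, i < 5682 → P i := stepQ 5681 Q5681 (allL N5681 (tt N7473 D7473) (tt N4274 (iv D5681)) (tt N7279 (iv F12078)) (tt N7474 D7474) (tt N7469 (iv F12363)) (tt N7475 D7475))
theorem Q5683 : ∀ i, i < 5683 → P i := stepQ 5682 Q5682 (allL N5682 (tt N7271 (iv F12060)) (tt N7474 (iv F12366)) (tt N7264 (iv F12044)) (tt N4274 (iv D5682)) (tt N7476 D7476) (tt N7263 F12042))
theorem Q5684 : ∀ i, i < 5684 → P i := stepQ 5683 Q5683 (allL N5683 (tt N7270 (iv F12057)) (tt N7475 (iv F12367)) (tt N4275 F9353) (tt N7263 (iv F12041)) (tt N7477 D7477) (tt N4274 (iv D5683)))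
theorem Q5685 : ∀ i, i < 5685 → P i := stepQ 5684 Q5684 (allL N5684 (tt N7465 (iv F12354)) (tt N7282 (iv F12082)) (tt N7477 (iv F12368)) (tt N7299 (iv F12119)) (tt N4275 (iv D5684)) (tt N7472 (iv F12365)))
theorem Q5686 : ∀ i, i < 5686 → P i := stepQ 5685 Q5685 (allL N5685 (tt N7259 (iv F12026)) (tt N4277 F9354) (tt N7478 D7478) (tt N4276 (iv D5685)) (tt N4391 F9355) (tt N7479 D7479))
theorem Q5687 : ∀ i, i < 5687 → P i := stepQ 5686 Q5686 (allL N5686 (tt N7260 (iv F12029)) (tt N4278 F9356) (tt N7274 (iv F12069)) (tt N7479 (iv F12371)) (tt N4285 F9357) (tt N4276 (iv D5686)))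
theorem Q5688 : ∀ i, i < 5688 → P i := stepQ 5687 Q5687 (allL N5687 (tt N4281 F9358) (tt N7480 D7480) (tt N4277 (iv D5687)) (tt N7174 (iv F11909)) (tt N4393 F9359) (tt N7173 (iv F11906)))
theorem Q5689 : ∀ i, i < 5689 → P i := stepQ 5688 Q5688 (allL N5688 (tt N4282 F9360) (tt N7479 (iv F12370)) (tt N7173 (iv F11905)) (tt N4278 F9361) (tt N7481 D7481) (tt N4277 (iv D5688)))
theorem Q5690 : ∀ i, i < 5690 → P i := stepQ 5689 Q5689 (allL N5689 (tt N4393 F9362) (tt N7482 D7482) (tt N4279 (iv D5689)) (tt N7483 D7483) (tt N4281 F9363) (tt N7484 D7484))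
theorem Q5691 : ∀ i, i < 5691 → P i := stepQ 5690 Q5690 (allL N5690 (tt N4394 F9364) (tt N7268 (iv F12054)) (tt N7484 (iv F12381)) (tt N4280 F9365) (tt N7485 D7485) (tt N4279 (iv D5690)))
theorem Q5692 : ∀ i, i < 5692 → P i := stepQ 5691 Q5691 (allL N5691 (tt N7486 D7486) (tt N4281 (iv D5691)) (tt N7269 (iv F12056)) (tt N7487 D7487) (tt N7482 (iv F12376)) (tt N7488 D7488))
theorem Q5693 : ∀ i, i < 5693 → P i := stepQ 5692 Q5692 (allL N5692 (tt N7174 (iv F11907)) (tt N7487 (iv F12386)) (tt N7169 (iv F11895)) (tt N4281 (iv D5692)) (tt N7489 D7489) (tt N7168 F11893))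
theorem Q5694 : ∀ i, i < 5694 → P i := stepQ 5693 Q5693 (allL N5693 (tt N7173 (iv F11904)) (tt N7488 (iv F12387)) (tt N4282 F9366) (tt N7168 (iv F11892)) (tt N7490 D7490) (tt N4281 (iv D5693)))
theorem Q5695 : ∀ i, i < 5695 → P i := stepQ 5694 Q5694 (allL N5694 (tt N7481 (iv F12373)) (tt N7272 (iv F12063)) (tt N7490 (iv F12388)) (tt N4301 F9367) (tt N4282 (iv D5694)) (tt N7485 (iv F12385)))
theorem Q5696 : ∀ i, i < 5696 → P i := stepQ 5695 Q5695 (allL N5695 (tt N4284 F9368) (tt N4289 F9369) (tt N7491 D7491) (tt N4283 (iv D5695)) (tt N5495 F9370) (tt N7492 D7492))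
theorem Q5697 : ∀ i, i < 5697 → P i := stepQ 5696 Q5696 (allL N5696 (tt N4285 F9371) (tt N4290 F9372) (tt N7284 (iv F12089)) (tt N7492 (iv F12393)) (tt N7260 (iv F12032)) (tt N4283 (iv D5696)))
theorem Q5698 : ∀ i, i < 5698 → P i := stepQ 5697 Q5697 (allL N5697 (tt N7491 (iv F12389)) (tt N7493 D7493) (tt N4284 (iv D5697)) (tt N7494 D7494) (tt N5497 F9373) (tt N7495 D7495))
theorem Q5699 : ∀ i, i < 5699 → P i := stepQ 5698 Q5698 (allL N5698 (tt N7492 (iv F12391)) (tt N4287 F9374) (tt N7495 (iv F12398)) (tt N4285 F9375) (tt N7496 D7496) (tt N4284 (iv D5698)))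
theorem Q5700 : ∀ i, i < 5700 → P i := stepQ 5699 Q5699 (allL N5699 (tt N7497 D7497) (tt N4286 (iv D5699)) (tt N7493 (iv F12394)) (tt N4321 F9376) (tt N5499 F9377) (tt N4320 F9378))
theorem Q5701 : ∀ i, i < 5701 → P i := stepQ 5700 Q5700 (allL N5700 (tt N4301 F9379) (tt N7496 (iv F12399)) (tt N4322 F9380) (tt N7481 (iv F12374)) (tt N4287 (iv D5700)) (tt N5502 F9381))
theorem Q5702 : ∀ i, i < 5702 → P i := stepQ 5701 Q5701 (allL N5701 (tt N4292 F9382) (tt N5495 F9383) (tt N7498 D7498) (tt N4288 (iv D5701)) (tt N4289 F9384) (tt N7499 D7499))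
theorem Q5703 : ∀ i, i < 5703 → P i := stepQ 5702 Q5702 (allL N5702 (tt N4293 F9385) (tt N5496 F9386) (tt N4947 F9387) (tt N7499 (iv F12409)) (tt N7262 (iv F12039)) (tt N4288 (iv D5702)))
theorem Q5704 : ∀ i, i < 5704 → P i := stepQ 5703 Q5703 (allL N5703 (tt N4294 F9388) (tt N7500 D7500) (tt N4289 (iv D5703)) (tt N7326 (iv F12163)) (tt N7498 (iv F12406)) (tt N7501 D7501))
theorem Q5705 : ∀ i, i < 5705 → P i := stepQ 5704 Q5704 (allL N5704 (tt N4295 F9389) (tt N7492 (iv F12392)) (tt N7501 (iv F12411)) (tt N4290 F9390) (tt N7502 D7502) (tt N4289 (iv D5704)))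
theorem Q5706 : ∀ i, i < 5706 → P i := stepQ 5705 Q5705 (allL N5705 (tt N4946 F9391) (tt N5487 F9392) (tt N7503 D7503) (tt N4291 (iv D5705)) (tt N4936 F9393) (tt N7504 D7504))
theorem Q5707 : ∀ i, i < 5707 → P i := stepQ 5706 Q5706 (allL N5706 (tt N4947 F9394) (tt N5488 F9395) (tt N4293 F9396) (tt N7504 (iv F12418)) (tt N7266 (iv F12052)) (tt N4291 (iv D5706)))
theorem Q5708 : ∀ i, i < 5708 → P i := stepQ 5707 Q5707 (allL N5707 (tt N7498 (iv F12405)) (tt N7505 D7505) (tt N4292 (iv D5707)) (tt N7506 D7506) (tt N4294 F9397) (tt N7507 D7507))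
theorem Q5709 : ∀ i, i < 5709 → P i := stepQ 5708 Q5708 (allL N5708 (tt N7499 (iv F12407)) (tt N4297 F9398) (tt N7507 (iv F12421)) (tt N4293 F9399) (tt N7508 D7508) (tt N4292 (iv D5708)))
theorem Q5710 : ∀ i, i < 5710 → P i := stepQ 5709 Q5709 (allL N5709 (tt N7509 D7509) (tt N4294 (iv D5709)) (tt N4298 F9400) (tt N7510 D7510) (tt N7505 (iv F12420)) (tt N7511 D7511))
theorem Q5711 : ∀ i, i < 5711 → P i := stepQ 5710 Q5710 (allL N5710 (tt N7326 (iv F12161)) (tt N7510 (iv F12425)) (tt N7325 (iv F12160)) (tt N4294 (iv D5710)) (tt N7512 D7512) (tt N7513 D7513))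
theorem Q5712 : ∀ i, i < 5712 → P i := stepQ 5711 Q5711 (allL N5711 (tt N7501 (iv F12410)) (tt N7511 (iv F12426)) (tt N4295 F9401) (tt N7513 (iv F12430)) (tt N7514 D7514) (tt N4294 (iv D5711)))
theorem Q5713 : ∀ i, i < 5713 → P i := stepQ 5712 Q5712 (allL N5712 (tt N7502 (iv F12413)) (tt N4301 F9402) (tt N7514 (iv F12431)) (tt N7272 (iv F12064)) (tt N4295 (iv D5712)) (tt N7508 (iv F12423)))
theorem Q5714 : ∀ i, i < 5714 → P i := stepQ 5713 Q5713 (allL N5713 (tt N7515 D7515) (tt N4296 (iv D5713)) (tt N7505 (iv F12419)) (tt N7516 D7516) (tt N4298 F9403) (tt N7517 D7517))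
theorem Q5715 : ∀ i, i < 5715 → P i := stepQ 5714 Q5714 (allL N5714 (tt N5500 F9404) (tt N7516 (iv F12434)) (tt N4751 F9405) (tt N4296 (iv D5714)) (tt N7518 D7518) (tt N4750 F9406))
theorem Q5716 : ∀ i, i < 5716 → P i := stepQ 5715 Q5715 (allL N5715 (tt N5501 F9407) (tt N7517 (iv F12436)) (tt N4297 F9408) (tt N4750 F9409) (tt N7519 D7519) (tt N4296 (iv D5715)))
theorem Q5717 : ∀ i, i < 5717 → P i := stepQ 5716 Q5716 (allL N5716 (tt N5502 F9410) (tt N7508 (iv F12422)) (tt N7519 (iv F12443)) (tt N7485 (iv F12384)) (tt N4297 (iv D5716)) (tt N4301 F9411))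
theorem Q5718 : ∀ i, i < 5718 → P i := stepQ 5717 Q5717 (allL N5717 (tt N4298 (iv D5717)) (tt N7497 (iv F12401)) (tt N7509 (iv F12424)) (tt N7520 D7520) (tt N7515 (iv F12433)) (tt N7521 D7521))
theorem Q5719 : ∀ i, i < 5719 → P i := stepQ 5718 Q5718 (allL N5718 (tt N7520 (iv F12446)) (tt N4299 F9412) (tt N7522 D7522) (tt N4298 (iv D5718)) (tt N7523 D7523) (tt N4307 (iv F9413)))
theorem Q5720 : ∀ i, i < 5720 → P i := stepQ 5719 Q5719 (allL N5719 (tt N7521 (iv F12449)) (tt N4300 F9414) (tt N7511 (iv F12427)) (tt N4307 F9415) (tt N7524 D7524) (tt N4298 (iv D5719)))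
theorem Q5721 : ∀ i, i < 5721 → P i := stepQ 5720 Q5720 (allL N5720 (tt N4323 F9416) (tt N7523 (iv F12454)) (tt N4308 F9417) (tt N7518 (iv F12440)) (tt N4299 (iv D5720)) (tt N4994 F9418))
theorem Q5722 : ∀ i, i < 5722 → P i := stepQ 5721 Q5721 (allL N5721 (tt N4322 F9419) (tt N7524 (iv F12456)) (tt N4301 F9420) (tt N4993 F9421) (tt N4300 (iv D5721)) (tt N7519 (iv F12445)))
theorem Q5723 : ∀ i, i < 5723 → P i := stepQ 5722 Q5722 (allL N5722 (tt N7309 (iv F12131)) (tt N4302 (iv D5722)) (tt N7312 (iv F12138)) (tt N7308 F12130) (tt N7257 (iv F12021)) (tt N7320 (iv F12151)))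
theorem Q5724 : ∀ i, i < 5724 → P i := stepQ 5723 Q5723 (allL N5723 (tt N4304 F9422) (tt N7308 (iv F12129)) (tt N7513 (iv F12429)) (tt N4302 (iv D5723)) (tt N7525 D7525) (tt N7325 (iv F12159)))
theorem Q5725 : ∀ i, i < 5725 → P i := stepQ 5724 Q5724 (allL N5724 (tt N7513 (iv F12428)) (tt N7287 (iv F12097)) (tt N4304 (iv D5724)) (tt N7501 (iv F12412)) (tt N7526 D7526) (tt N7326 (iv F12162)))
theorem Q5726 : ∀ i, i < 5726 → P i := stepQ 5725 Q5725 (allL N5725 (tt N7525 (iv F12458)) (tt N7289 F12102) (tt N7526 (iv F12460)) (tt N7258 (iv F12025)) (tt N4304 (iv D5725)) (tt N7527 D7527))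
theorem Q5727 : ∀ i, i < 5727 → P i := stepQ 5726 Q5726 (allL N5726 (tt N7528 D7528) (tt N4305 (iv D5726)) (tt N4307 F9423) (tt N7529 D7529) (tt N4986 F9424) (tt N7522 (iv F12453)))
theorem Q5728 : ∀ i, i < 5728 → P i := stepQ 5727 Q5727 (allL N5727 (tt N7322 (iv F12154)) (tt N7529 (iv F12463)) (tt N7121 (iv F11805)) (tt N4305 (iv D5727)) (tt N7530 D7530) (tt N7323 (iv F12155)))
theorem Q5729 : ∀ i, i < 5729 → P i := stepQ 5728 Q5728 (allL N5728 (tt N7107 (iv F11776)) (tt N7522 (iv F12452)) (tt N4306 F9425) (tt N7323 (iv F12156)) (tt N7531 D7531) (tt N4305 (iv D5728)))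
theorem Q5730 : ∀ i, i < 5730 → P i := stepQ 5729 Q5729 (allL N5729 (tt N7106 (iv F11772)) (tt N4308 F9426) (tt N7531 (iv F12465)) (tt N6501 (iv F10761)) (tt N4306 (iv D5729)) (tt N4989 F9427))
theorem Q5731 : ∀ i, i < 5731 → P i := stepQ 5730 Q5730 (allL N5730 (tt N4307 (iv D5730)) (tt N4319 F9428) (tt N7528 (iv F12461)) (tt N7521 (iv F12451)) (tt N4990 F9429) (tt N7520 F12448))
theorem Q5732 : ∀ i, i < 5732 → P i := stepQ 5731 Q5731 (allL N5731 (tt N7532 D7532) (tt N4309 (iv D5731)) (tt N7321 (iv F12152)) (tt N7114 (iv F11793)) (tt N5903 (iv F9673)) (tt N7114 (iv F11794)))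
theorem Q5733 : ∀ i, i < 5733 → P i := stepQ 5732 Q5732 (allL N5732 (tt N7533 D7533) (tt N4310 (iv D5732)) (tt N4315 F9430) (tt N7534 D7534) (tt N4312 F9431) (tt N7535 D7535))
theorem Q5734 : ∀ i, i < 5734 → P i := stepQ 5733 Q5733 (allL N5733 (tt N5904 (iv F9674)) (tt N7534 (iv F12470)) (tt N5902 (iv F9671)) (tt N4310 (iv D5733)) (tt N7536 D7536) (tt N5901 F9670))
theorem Q5735 : ∀ i, i < 5735 → P i := stepQ 5734 Q5734 (allL N5734 (tt N5905 (iv F9675)) (tt N7535 (iv F12471)) (tt N4311 F9432) (tt N5901 (iv F9669)) (tt N7537 D7537) (tt N4310 (iv D5734)))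
theorem Q5736 : ∀ i, i < 5736 → P i := stepQ 5735 Q5735 (allL N5735 (tt N5906 (iv F9677)) (tt N4318 F9433) (tt N7537 (iv F12474)) (tt N4437 F9434) (tt N4311 (iv D5735)) (tt N4314 F9435))
theorem Q5737 : ∀ i, i < 5737 → P i := stepQ 5736 Q5736 (allL N5736 (tt N4312 (iv D5736)) (tt N7532 (iv F12467)) (tt N4319 F9436) (tt N7538 D7538) (tt N7533 (iv F12469)) (tt N7538 F12478))
theorem Q5738 : ∀ i, i < 5738 → P i := stepQ 5737 Q5737 (allL N5737 (tt N7538 (iv F12476)) (tt N4313 F9437) (tt N4321 (iv F9438)) (tt N4312 (iv D5737)) (tt N7539 D7539) (tt N4312 (iv F9439)))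
theorem Q5739 : ∀ i, i < 5739 → P i := stepQ 5738 Q5738 (allL N5738 (tt N7113 (iv F11791)) (tt N7539 (iv F12479)) (tt N4314 F9440) (tt N7536 (iv F12473)) (tt N4313 (iv D5738)) (tt N7537 (iv F12475)))
theorem Q5740 : ∀ i, i < 5740 → P i := stepQ 5739 Q5739 (allL N5739 (tt N4315 (iv D5739)) (tt N4990 F9441) (tt N7533 (iv F12468)) (tt N7540 D7540) (tt N4319 F9442) (tt N7541 D7541))
theorem Q5741 : ∀ i, i < 5741 → P i := stepQ 5740 Q5740 (allL N5740 (tt N7540 (iv F12481)) (tt N4316 F9443) (tt N7542 D7542) (tt N4315 (iv D5740)) (tt N7543 D7543) (tt N4358 (iv F9444)))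
theorem Q5742 : ∀ i, i < 5742 → P i := stepQ 5741 Q5741 (allL N5741 (tt N7541 (iv F12484)) (tt N4317 F9445) (tt N7535 (iv F12472)) (tt N4358 F9446) (tt N7544 D7544) (tt N4315 (iv D5741)))
theorem Q5743 : ∀ i, i < 5743 → P i := stepQ 5742 Q5742 (allL N5742 (tt N4993 F9447) (tt N7543 (iv F12489)) (tt N4359 F9448) (tt N4322 F9449) (tt N4316 (iv D5742)) (tt N6875 (iv F11362)))
theorem Q5744 : ∀ i, i < 5744 → P i := stepQ 5743 Q5743 (allL N5743 (tt N4994 F9450) (tt N7544 (iv F12491)) (tt N4318 F9451) (tt N6876 (iv F11365)) (tt N4317 (iv D5743)) (tt N4323 F9452))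
theorem Q5745 : ∀ i, i < 5745 → P i := stepQ 5744 Q5744 (allL N5744 (tt N4320 F9453) (tt N7521 (iv F12450)) (tt N7545 D7545) (tt N4319 (iv D5744)) (tt N7546 D7546) (tt N7497 (iv F12404)))
theorem Q5746 : ∀ i, i < 5746 → P i := stepQ 5745 Q5745 (allL N5745 (tt N4321 F9454) (tt N7520 (iv F12447)) (tt N7538 F12477) (tt N7497 (iv F12402)) (tt N7547 D7547) (tt N4319 (iv D5745)))
theorem Q5747 : ∀ i, i < 5747 → P i := stepQ 5746 Q5746 (allL N5746 (tt N7545 (iv F12493)) (tt N7495 (iv F12397)) (tt N4320 (iv D5746)) (tt N7545 (iv F12494)) (tt N7548 D7548) (tt N7493 F12396))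
theorem Q5748 : ∀ i, i < 5748 → P i := stepQ 5747 Q5747 (allL N5747 (tt N7546 (iv F12495)) (tt N4322 F9455) (tt N7548 (iv F12497)) (tt N7543 (iv F12490)) (tt N4320 (iv D5747)) (tt N7549 D7549))
theorem Q5749 : ∀ i, i < 5749 → P i := stepQ 5748 Q5748 (allL N5748 (tt N7547 (iv F12496)) (tt N4323 F9456) (tt N7539 (iv F12480)) (tt N7550 D7550) (tt N4321 (iv D5748)) (tt N7544 (iv F12492)))
theorem Q5750 : ∀ i, i < 5750 → P i := stepQ 5749 Q5749 (allL N5749 (tt N7519 (iv F12442)) (tt N7549 (iv F12498)) (tt N5502 F9457) (tt N6875 (iv F11361)) (tt N5501 F9458) (tt N4322 (iv D5749)))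
theorem Q5751 : ∀ i, i < 5751 → P i := stepQ 5750 Q5750 (allL N5750 (tt N7518 (iv F12438)) (tt N7550 (iv F12500)) (tt N6871 (iv F11353)) (tt N4323 (iv D5750)) (tt N5500 F9459) (tt N6876 (iv F11366)))
theorem Q5752 : ∀ i, i < 5752 → P i := stepQ 5751 Q5751 (allL N5751 (tt N7353 (iv F12215)) (tt N4326 F9460) (tt N7551 D7551) (tt N4324 (iv D5751)) (tt N7417 (iv F12305)) (tt N7552 D7552))
theorem Q5753 : ∀ i, i < 5753 → P i := stepQ 5752 Q5752 (allL N5752 (tt N7352 (iv F12211)) (tt N4327 F9461) (tt N4337 F9462) (tt N7552 (iv F12503)) (tt N7349 (iv F12208)) (tt N4324 (iv D5752)))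
theorem Q5754 : ∀ i, i < 5754 → P i := stepQ 5753 Q5753 (allL N5753 (tt N4330 F9463) (tt N7417 (iv F12304)) (tt N7553 D7553) (tt N4325 (iv D5753)) (tt N4326 F9464) (tt N7554 D7554))
theorem Q5755 : ∀ i, i < 5755 → P i := stepQ 5754 Q5754 (allL N5754 (tt N4331 F9465) (tt N7418 (iv F12307)) (tt N5543 F9466) (tt N7554 (iv F12507)) (tt N5562 F9467) (tt N4325 (iv D5754)))
theorem Q5756 : ∀ i, i < 5756 → P i := stepQ 5755 Q5755 (allL N5755 (tt N4332 F9468) (tt N7555 D7555) (tt N4326 (iv D5755)) (tt N4926 F9469) (tt N7553 (iv F12505)) (tt N4925 (iv F9470)))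
theorem Q5757 : ∀ i, i < 5757 → P i := stepQ 5756 Q5756 (allL N5756 (tt N4333 F9471) (tt N7552 (iv F12502)) (tt N4925 F9472) (tt N4327 F9473) (tt N7556 D7556) (tt N4326 (iv D5756)))
theorem Q5758 : ∀ i, i < 5758 → P i := stepQ 5757 Q5757 (allL N5757 (tt N4887 F9474) (tt N4328 (iv D5757)) (tt N4345 F9475) (tt N5310 F9476) (tt N7394 (iv F12269)) (tt N4399 F9477))
theorem Q5759 : ∀ i, i < 5759 → P i := stepQ 5758 Q5758 (allL N5758 (tt N5542 F9478) (tt N7400 (iv F12279)) (tt N7557 D7557) (tt N4329 (iv D5758)) (tt N5540 F9479) (tt N7558 D7558))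
theorem Q5760 : ∀ i, i < 5760 → P i := stepQ 5759 Q5759 (allL N5759 (tt N5543 F9480) (tt N7401 (iv F12281)) (tt N4331 F9481) (tt N7558 (iv F12515)) (tt N5551 F9482) (tt N4329 (iv D5759)))
theorem Q5761 : ∀ i, i < 5761 → P i := stepQ 5760 Q5760 (allL N5760 (tt N7553 (iv F12504)) (tt N7559 D7559) (tt N4330 (iv D5760)) (tt N7560 D7560) (tt N4332 F9483) (tt N7561 D7561))
theorem Q5762 : ∀ i, i < 5762 → P i := stepQ 5761 Q5761 (allL N5761 (tt N7554 (iv F12506)) (tt N7374 (iv F12246)) (tt N7561 (iv F12517)) (tt N4331 F9484) (tt N7562 D7562) (tt N4330 (iv D5761)))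
theorem Q5763 : ∀ i, i < 5763 → P i := stepQ 5762 Q5762 (allL N5762 (tt N7563 D7563) (tt N4332 (iv D5762)) (tt N7383 (iv F12256)) (tt N7564 D7564) (tt N7559 (iv F12516)) (tt N7565 D7565))
theorem Q5764 : ∀ i, i < 5764 → P i := stepQ 5763 Q5763 (allL N5763 (tt N4926 F9485) (tt N7564 (iv F12519)) (tt N4921 F9486) (tt N4332 (iv D5763)) (tt N7566 D7566) (tt N4920 F9487))
theorem Q5765 : ∀ i, i < 5765 → P i := stepQ 5764 Q5764 (allL N5764 (tt N4925 F9488) (tt N7565 (iv F12522)) (tt N4333 F9489) (tt N4920 F9490) (tt N7567 D7567) (tt N4332 (iv D5764)))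
theorem Q5766 : ∀ i, i < 5766 → P i := stepQ 5765 Q5765 (allL N5765 (tt N7556 (iv F12510)) (tt N7381 (iv F12253)) (tt N7567 (iv F12528)) (tt N7369 (iv F12241)) (tt N4333 (iv D5765)) (tt N7562 (iv F12518)))
theorem Q5767 : ∀ i, i < 5767 → P i := stepQ 5766 Q5766 (allL N5766 (tt N5311 F9491) (tt N4892 F9492) (tt N5308 F9493) (tt N7397 (iv F12274)) (tt N4334 (iv D5766)) (tt N7568 D7568))
theorem Q5768 : ∀ i, i < 5768 → P i := stepQ 5767 Q5767 (allL N5767 (tt N4336 F9494) (tt N4347 F9495) (tt N7569 D7569) (tt N4335 (iv D5767)) (tt N6479 (iv F10716)) (tt N7570 D7570))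
theorem Q5769 : ∀ i, i < 5769 → P i := stepQ 5768 Q5768 (allL N5768 (tt N4337 F9496) (tt N4348 F9497) (tt N7352 (iv F12213)) (tt N7570 (iv F12537)) (tt N7330 (iv F12171)) (tt N4335 (iv D5768)))
theorem Q5770 : ∀ i, i < 5770 → P i := stepQ 5769 Q5769 (allL N5769 (tt N7569 (iv F12534)) (tt N7571 D7571) (tt N4336 (iv D5769)) (tt N7572 D7572) (tt N6481 (iv F10721)) (tt N7573 D7573))
theorem Q5771 : ∀ i, i < 5771 → P i := stepQ 5770 Q5770 (allL N5770 (tt N7570 (iv F12535)) (tt N4340 F9498) (tt N7573 (iv F12541)) (tt N4337 F9499) (tt N7574 D7574) (tt N4336 (iv D5770)))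
theorem Q5772 : ∀ i, i < 5772 → P i := stepQ 5771 Q5771 (allL N5771 (tt N7330 (iv F12168)) (tt N4341 F9500) (tt N7349 (iv F12207)) (tt N7575 D7575) (tt N4337 (iv D5771)) (tt N4338 F9501))
theorem Q5773 : ∀ i, i < 5773 → P i := stepQ 5772 Q5772 (allL N5772 (tt N7329 (iv F12165)) (tt N4342 F9502) (tt N7576 D7576) (tt N4338 (iv D5772)) (tt N4380 F9503) (tt N7575 (iv F12544)))
theorem Q5774 : ∀ i, i < 5774 → P i := stepQ 5773 Q5773 (allL N5773 (tt N7577 D7577) (tt N4339 (iv D5773)) (tt N7571 (iv F12538)) (tt N4992 F9504) (tt N6483 (iv F10724)) (tt N4991 F9505))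
theorem Q5775 : ∀ i, i < 5775 → P i := stepQ 5774 Q5774 (allL N5774 (tt N4359 F9506) (tt N7574 (iv F12542)) (tt N4993 F9507) (tt N7578 D7578) (tt N4340 (iv D5774)) (tt N6486 (iv F10733)))
theorem Q5776 : ∀ i, i < 5776 → P i := stepQ 5775 Q5775 (allL N5775 (tt N4360 F9508) (tt N7575 (iv F12543)) (tt N7579 D7579) (tt N4341 (iv D5775)) (tt N7578 (iv F12550)) (tt N4342 F9509))
theorem Q5777 : ∀ i, i < 5777 → P i := stepQ 5776 Q5776 (allL N5776 (tt N4361 F9510) (tt N7580 D7580) (tt N4342 (iv D5776)) (tt N7581 D7581) (tt N4382 F9511) (tt N7579 (iv F12553)))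
theorem Q5778 : ∀ i, i < 5778 → P i := stepQ 5777 Q5777 (allL N5777 (tt N4362 F9512) (tt N7582 D7582) (tt N4343 (iv D5777)) (tt N7583 D7583) (tt N4403 F9513) (tt N4344 F9514))
theorem Q5779 : ∀ i, i < 5779 → P i := stepQ 5778 Q5778 (allL N5778 (tt N7584 D7584) (tt N4344 (iv D5778)) (tt N7394 (iv F12268)) (tt N7585 D7585) (tt N4345 F9515) (tt N7582 (iv F12560)))
theorem Q5780 : ∀ i, i < 5780 → P i := stepQ 5779 Q5779 (allL N5779 (tt N4364 F9516) (tt N7585 (iv F12567)) (tt N7586 D7586) (tt N4344 (iv D5779)) (tt N4396 F9517) (tt N7583 (iv F12563)))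
theorem Q5781 : ∀ i, i < 5781 → P i := stepQ 5780 Q5780 (allL N5780 (tt N4345 (iv D5780)) (tt N4365 F9518) (tt N4887 F9519) (tt N4398 F9520) (tt N7584 (iv F12566)) (tt N4404 F9521))
theorem Q5782 : ∀ i, i < 5782 → P i := stepQ 5781 Q5781 (allL N5781 (tt N4350 F9522) (tt N6479 (iv F10715)) (tt N7587 D7587) (tt N4346 (iv D5781)) (tt N4347 F9523) (tt N7588 D7588))
theorem Q5783 : ∀ i, i < 5783 → P i := stepQ 5782 Q5782 (allL N5782 (tt N4351 F9524) (tt N6480 (iv F10718)) (tt N6511 (iv F10777)) (tt N7588 (iv F12576)) (tt N7332 (iv F12177)) (tt N4346 (iv D5782)))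
theorem Q5784 : ∀ i, i < 5784 → P i := stepQ 5783 Q5783 (allL N5783 (tt N4352 F9525) (tt N7589 D7589) (tt N4347 (iv D5783)) (tt N7590 D7590) (tt N7587 (iv F12574)) (tt N7591 D7591))
theorem Q5785 : ∀ i, i < 5785 → P i := stepQ 5784 Q5784 (allL N5784 (tt N4353 F9526) (tt N7570 (iv F12536)) (tt N7591 (iv F12581)) (tt N4348 F9527) (tt N7592 D7592) (tt N4347 (iv D5784)))
theorem Q5786 : ∀ i, i < 5786 → P i := stepQ 5785 Q5785 (allL N5785 (tt N6510 (iv F10774)) (tt N6472 (iv F10704)) (tt N7593 D7593) (tt N4349 (iv D5785)) (tt N6507 (iv F10769)) (tt N7594 D7594))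
theorem Q5787 : ∀ i, i < 5787 → P i := stepQ 5786 Q5786 (allL N5786 (tt N6511 (iv F10776)) (tt N6473 (iv F10706)) (tt N4351 F9528) (tt N7594 (iv F12584)) (tt N7338 (iv F12188)) (tt N4349 (iv D5786)))
theorem Q5788 : ∀ i, i < 5788 → P i := stepQ 5787 Q5787 (allL N5787 (tt N7587 (iv F12573)) (tt N7595 D7595) (tt N4350 (iv D5787)) (tt N7596 D7596) (tt N4352 F9529) (tt N7597 D7597))
theorem Q5789 : ∀ i, i < 5789 → P i := stepQ 5788 Q5788 (allL N5788 (tt N7588 (iv F12575)) (tt N4355 F9530) (tt N7597 (iv F12587)) (tt N4351 F9531) (tt N7598 D7598) (tt N4350 (iv D5788)))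
theorem Q5790 : ∀ i, i < 5790 → P i := stepQ 5789 Q5789 (allL N5789 (tt N7599 D7599) (tt N4352 (iv D5789)) (tt N4358 F9532) (tt N7600 D7600) (tt N7595 (iv F12586)) (tt N7542 (iv F12488)))
theorem Q5791 : ∀ i, i < 5791 → P i := stepQ 5790 Q5790 (allL N5790 (tt N7590 (iv F12577)) (tt N7600 (iv F12591)) (tt N7601 D7601) (tt N4352 (iv D5790)) (tt N7602 D7602) (tt N7603 D7603))
theorem Q5792 : ∀ i, i < 5792 → P i := stepQ 5791 Q5791 (allL N5791 (tt N7591 (iv F12580)) (tt N7542 (iv F12487)) (tt N4353 F9533) (tt N7603 (iv F12597)) (tt N7604 D7604) (tt N4352 (iv D5791)))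
theorem Q5793 : ∀ i, i < 5793 → P i := stepQ 5792 Q5792 (allL N5792 (tt N7592 (iv F12583)) (tt N4359 F9534) (tt N7604 (iv F12598)) (tt N7344 (iv F12195)) (tt N4353 (iv D5792)) (tt N7598 (iv F12589)))
theorem Q5794 : ∀ i, i < 5794 → P i := stepQ 5793 Q5793 (allL N5793 (tt N7605 D7605) (tt N4354 (iv D5793)) (tt N7595 (iv F12585)) (tt N6874 (iv F11358)) (tt N4358 F9535) (tt N6873 F11356))
theorem Q5795 : ∀ i, i < 5795 → P i := stepQ 5794 Q5794 (allL N5794 (tt N6486 (iv F10731)) (tt N7598 (iv F12588)) (tt N6875 (iv F11360)) (tt N7606 D7606) (tt N4355 (iv D5794)) (tt N4359 F9536))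
theorem Q5796 : ∀ i, i < 5796 → P i := stepQ 5795 Q5795 (allL N5795 (tt N4383 F9537) (tt N7340 (iv F12190)) (tt N7250 (iv F12008)) (tt N4356 (iv D5795)) (tt N7606 (iv F12601)) (tt N4357 F9538))
theorem Q5797 : ∀ i, i < 5797 → P i := stepQ 5796 Q5796 (allL N5796 (tt N4382 F9539) (tt N7607 D7607) (tt N4357 (iv D5796)) (tt N7251 (iv F12012)) (tt N4361 F9540) (tt N7250 (iv F12009)))
theorem Q5798 : ∀ i, i < 5798 → P i := stepQ 5797 Q5797 (allL N5797 (tt N4358 (iv D5797)) (tt N7577 (iv F12546)) (tt N7599 (iv F12590)) (tt N7541 (iv F12486)) (tt N7605 (iv F12599)) (tt N7540 F12483))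
theorem Q5799 : ∀ i, i < 5799 → P i := stepQ 5798 Q5798 (allL N5798 (tt N7578 (iv F12549)) (tt N7344 (iv F12194)) (tt N7608 D7608) (tt N4359 (iv D5798)) (tt N4360 F9541) (tt N7606 (iv F12602)))
theorem Q5800 : ∀ i, i < 5800 → P i := stepQ 5799 Q5799 (allL N5799 (tt N7579 (iv F12552)) (tt N7609 D7609) (tt N4360 (iv D5799)) (tt N7586 (iv F12570)) (tt N7608 (iv F12604)) (tt N4361 F9542))
theorem Q5801 : ∀ i, i < 5801 → P i := stepQ 5800 Q5800 (allL N5800 (tt N7610 D7610) (tt N4361 (iv D5800)) (tt N7341 (iv F12192)) (tt N7611 D7611) (tt N7607 (iv F12603)) (tt N7609 (iv F12605)))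
theorem Q5802 : ∀ i, i < 5802 → P i := stepQ 5801 Q5801 (allL N5801 (tt N7581 (iv F12556)) (tt N7611 (iv F12606)) (tt N7583 (iv F12562)) (tt N4361 (iv D5801)) (tt N7612 D7612) (tt N7586 (iv F12572)))
theorem Q5803 : ∀ i, i < 5803 → P i := stepQ 5802 Q5802 (allL N5802 (tt N7613 D7613) (tt N4362 (iv D5802)) (tt N4375 F9543) (tt N7614 D7614) (tt N4411 F9544) (tt N4363 F9545))
theorem Q5804 : ∀ i, i < 5804 → P i := stepQ 5803 Q5803 (allL N5803 (tt N7583 (iv F12561)) (tt N7614 (iv F12610)) (tt N7581 (iv F12558)) (tt N4362 (iv D5803)) (tt N7615 D7615) (tt N4364 F9546))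
theorem Q5805 : ∀ i, i < 5805 → P i := stepQ 5804 Q5804 (allL N5804 (tt N4363 (iv D5804)) (tt N7584 (iv F12564)) (tt N4376 F9547) (tt N7616 D7616) (tt N4365 F9548) (tt N7613 (iv F12609)))
theorem Q5806 : ∀ i, i < 5806 → P i := stepQ 5805 Q5805 (allL N5805 (tt N7616 (iv F12613)) (tt N4364 F9549) (tt N7617 D7617) (tt N4363 (iv D5805)) (tt N7618 D7618) (tt N7614 (iv F12611)))
theorem Q5807 : ∀ i, i < 5807 → P i := stepQ 5806 Q5806 (allL N5806 (tt N7586 (iv F12569)) (tt N7619 D7619) (tt N4364 (iv D5806)) (tt N7579 (iv F12554)) (tt N7620 D7620) (tt N7581 (iv F12557)))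
theorem Q5808 : ∀ i, i < 5808 → P i := stepQ 5807 Q5807 (allL N5807 (tt N4396 F9550) (tt N7618 (iv F12614)) (tt N7620 (iv F12617)) (tt N4367 F9551) (tt N4364 (iv D5807)) (tt N7621 D7621))
theorem Q5809 : ∀ i, i < 5809 → P i := stepQ 5808 Q5808 (allL N5808 (tt N4366 F9552) (tt N4398 F9553) (tt N7622 D7622) (tt N4365 (iv D5808)) (tt N7623 D7623) (tt N4415 F9554))
theorem Q5810 : ∀ i, i < 5810 → P i := stepQ 5809 Q5809 (allL N5809 (tt N7622 (iv F12623)) (tt N4388 F9555) (tt N4366 (iv D5809)) (tt N7624 D7624) (tt N7625 D7625) (tt N4416 F9556))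
theorem Q5811 : ∀ i, i < 5811 → P i := stepQ 5810 Q5810 (allL N5810 (tt N7623 (iv F12627)) (tt N4367 F9557) (tt N7625 (iv F12634)) (tt N7618 (iv F12615)) (tt N4366 (iv D5810)) (tt N7626 D7626))
theorem Q5812 : ∀ i, i < 5812 → P i := stepQ 5811 Q5811 (allL N5811 (tt N4397 F9558) (tt N7626 (iv F12635)) (tt N4389 F9559) (tt N7621 (iv F12622)) (tt N4418 F9560) (tt N4367 (iv D5811)))
theorem Q5813 : ∀ i, i < 5813 → P i := stepQ 5812 Q5812 (allL N5812 (tt N7627 D7627) (tt N4368 (iv D5812)) (tt N7359 (iv F12225)) (tt N7628 D7628) (tt N7335 (iv F12182)) (tt N7629 D7629))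
theorem Q5814 : ∀ i, i < 5814 → P i := stepQ 5813 Q5813 (allL N5813 (tt N4371 F9561) (tt N7628 (iv F12638)) (tt N7603 (iv F12596)) (tt N4368 (iv D5813)) (tt N7630 D7630) (tt N7601 F12594))
theorem Q5815 : ∀ i, i < 5815 → P i := stepQ 5814 Q5814 (allL N5814 (tt N4372 F9562) (tt N7629 (iv F12639)) (tt N4369 F9563) (tt N7601 (iv F12593)) (tt N7631 D7631) (tt N4368 (iv D5814)))
theorem Q5816 : ∀ i, i < 5816 → P i := stepQ 5815 Q5815 (allL N5815 (tt N4373 F9564) (tt N6457 (iv F10674)) (tt N7631 (iv F12642)) (tt N6437 (iv F10628)) (tt N4369 (iv D5815)) (tt N6452 (iv F10666)))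
theorem Q5817 : ∀ i, i < 5817 → P i := stepQ 5816 Q5816 (allL N5816 (tt N4370 (iv D5816)) (tt N7627 (iv F12637)) (tt N4374 F9565) (tt N7632 D7632) (tt N7345 (iv F12197)) (tt N6469 (iv F10697)))
theorem Q5818 : ∀ i, i < 5818 → P i := stepQ 5817 Q5817 (allL N5817 (tt N7632 (iv F12643)) (tt N4371 F9566) (tt N7633 D7633) (tt N4370 (iv D5817)) (tt N7634 D7634) (tt N6470 (iv F10699)))
theorem Q5819 : ∀ i, i < 5819 → P i := stepQ 5818 Q5818 (allL N5818 (tt N7603 (iv F12595)) (tt N7635 D7635) (tt N4371 (iv D5818)) (tt N7591 (iv F12582)) (tt N7636 D7636) (tt N7590 F12579))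
theorem Q5820 : ∀ i, i < 5820 → P i := stepQ 5819 Q5819 (allL N5819 (tt N7630 (iv F12640)) (tt N7634 (iv F12644)) (tt N7636 (iv F12645)) (tt N7347 (iv F12201)) (tt N4371 (iv D5819)) (tt N7637 D7637))
theorem Q5821 : ∀ i, i < 5821 → P i := stepQ 5820 Q5820 (allL N5820 (tt N7601 (iv F12592)) (tt N6470 (iv F10698)) (tt N7590 (iv F12578)) (tt N4372 F9567) (tt N7638 D7638) (tt N4371 (iv D5820)))
theorem Q5822 : ∀ i, i < 5822 → P i := stepQ 5821 Q5821 (allL N5821 (tt N7631 (iv F12641)) (tt N6345 (iv F10467)) (tt N4373 F9568) (tt N7639 D7639) (tt N4372 (iv D5821)) (tt N6453 (iv F10669)))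
theorem Q5823 : ∀ i, i < 5823 → P i := stepQ 5822 Q5822 (allL N5822 (tt N4375 (iv D5822)) (tt N4890 F9569) (tt N7613 (iv F12607)) (tt N6406 (iv F10581)) (tt N4896 F9570) (tt N4376 F9571))
theorem Q5824 : ∀ i, i < 5824 → P i := stepQ 5823 Q5823 (allL N5823 (tt N6373 (iv F10525)) (tt N7337 (iv F12185)) (tt N7640 D7640) (tt N4377 (iv D5823)) (tt N7205 (iv F11969)) (tt N7641 D7641))
theorem Q5825 : ∀ i, i < 5825 → P i := stepQ 5824 Q5824 (allL N5824 (tt N6374 (iv F10527)) (tt N7338 (iv F12186)) (tt N4378 F9572) (tt N7641 (iv F12646)) (tt N6473 (iv F10708)) (tt N4377 (iv D5824)))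
theorem Q5826 : ∀ i, i < 5826 → P i := stepQ 5825 Q5825 (allL N5825 (tt N4380 F9573) (tt N7331 (iv F12173)) (tt N7642 D7642) (tt N4379 (iv D5825)) (tt N7329 (iv F12167)) (tt N7643 D7643))
theorem Q5827 : ∀ i, i < 5827 → P i := stepQ 5826 Q5826 (allL N5826 (tt N4381 F9574) (tt N7332 (iv F12176)) (tt N6350 (iv F10480)) (tt N7643 (iv F12649)) (tt N6480 (iv F10720)) (tt N4379 (iv D5826)))
theorem Q5828 : ∀ i, i < 5828 → P i := stepQ 5827 Q5827 (allL N5827 (tt N7642 (iv F12647)) (tt N7644 D7644) (tt N4380 (iv D5827)) (tt N7645 D7645) (tt N7576 (iv F12545)) (tt N7646 D7646))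
theorem Q5829 : ∀ i, i < 5829 → P i := stepQ 5828 Q5828 (allL N5828 (tt N7643 (iv F12648)) (tt N4383 F9575) (tt N7646 (iv F12651)) (tt N4381 F9576) (tt N7647 D7647) (tt N4380 (iv D5828)))
theorem Q5830 : ∀ i, i < 5830 → P i := stepQ 5829 Q5829 (allL N5829 (tt N7648 D7648) (tt N4382 (iv D5829)) (tt N7644 (iv F12650)) (tt N7649 D7649) (tt N7580 (iv F12555)) (tt N7650 D7650))
theorem Q5831 : ∀ i, i < 5831 → P i := stepQ 5830 Q5830 (allL N5830 (tt N7251 (iv F12010)) (tt N7649 (iv F12653)) (tt N7171 (iv F11902)) (tt N4382 (iv D5830)) (tt N7651 D7651) (tt N7170 F11900))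
theorem Q5832 : ∀ i, i < 5832 → P i := stepQ 5831 Q5831 (allL N5831 (tt N7250 (iv F12007)) (tt N7650 (iv F12654)) (tt N4383 F9577) (tt N7170 (iv F11899)) (tt N7652 D7652) (tt N4382 (iv D5831)))
theorem Q5833 : ∀ i, i < 5833 → P i := stepQ 5832 Q5832 (allL N5832 (tt N7606 (iv F12600)) (tt N7647 (iv F12652)) (tt N7652 (iv F12655)) (tt N6486 (iv F10732)) (tt N4383 (iv D5832)) (tt N7578 (iv F12551)))
theorem Q5834 : ∀ i, i < 5834 → P i := stepQ 5833 Q5833 (allL N5833 (tt N5381 F9578) (tt N4938 F9579) (tt N4901 F9580) (tt N7653 D7653) (tt N4384 (iv D5833)) (tt N7654 D7654))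
theorem Q5835 : ∀ i, i < 5835 → P i := stepQ 5834 Q5834 (allL N5834 (tt N5382 F9581) (tt N7265 (iv F12047)) (tt N7655 D7655) (tt N4385 (iv D5834)) (tt N7653 (iv F12658)) (tt N7656 D7656))
theorem Q5836 : ∀ i, i < 5836 → P i := stepQ 5835 Q5835 (allL N5835 (tt N5383 F9582) (tt N7266 (iv F12050)) (tt N4387 F9583) (tt N7656 (iv F12665)) (tt N5488 F9584) (tt N4385 (iv D5835)))
theorem Q5837 : ∀ i, i < 5837 → P i := stepQ 5836 Q5836 (allL N5836 (tt N5394 F9585) (tt N7625 (iv F12633)) (tt N4386 (iv D5836)) (tt N7657 D7657) (tt N4388 F9586) (tt N7658 D7658))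
theorem Q5838 : ∀ i, i < 5838 → P i := stepQ 5837 Q5837 (allL N5837 (tt N5395 F9587) (tt N4389 F9588) (tt N7658 (iv F12668)) (tt N4387 F9589) (tt N6892 (iv F11401)) (tt N4386 (iv D5837)))
theorem Q5839 : ∀ i, i < 5839 → P i := stepQ 5838 Q5838 (allL N5838 (tt N5494 F9590) (tt N7624 (iv F12630)) (tt N5037 F9591) (tt N4388 (iv D5838)) (tt N7659 D7659) (tt N6893 (iv F11405)))
theorem Q5840 : ∀ i, i < 5840 → P i := stepQ 5839 Q5839 (allL N5839 (tt N4391 F9592) (tt N7261 (iv F12034)) (tt N7660 D7660) (tt N4390 (iv D5839)) (tt N7259 (iv F12028)) (tt N7661 D7661))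
theorem Q5841 : ∀ i, i < 5841 → P i := stepQ 5840 Q5840 (allL N5840 (tt N4392 F9593) (tt N7262 (iv F12037)) (tt N5330 F9594) (tt N7661 (iv F12673)) (tt N5496 F9595) (tt N4390 (iv D5840)))
theorem Q5842 : ∀ i, i < 5842 → P i := stepQ 5841 Q5841 (allL N5841 (tt N7660 (iv F12671)) (tt N7662 D7662) (tt N4391 (iv D5841)) (tt N7663 D7663) (tt N7478 (iv F12369)) (tt N7664 D7664))
theorem Q5843 : ∀ i, i < 5843 → P i := stepQ 5842 Q5842 (allL N5842 (tt N7661 (iv F12672)) (tt N4394 F9596) (tt N7664 (iv F12675)) (tt N4392 F9597) (tt N7665 D7665) (tt N4391 (iv D5842)))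
theorem Q5844 : ∀ i, i < 5844 → P i := stepQ 5843 Q5843 (allL N5843 (tt N7666 D7666) (tt N4393 (iv D5843)) (tt N7662 (iv F12674)) (tt N7667 D7667) (tt N7480 (iv F12372)) (tt N7668 D7668))
theorem Q5845 : ∀ i, i < 5845 → P i := stepQ 5844 Q5844 (allL N5844 (tt N7483 (iv F12377)) (tt N7667 (iv F12678)) (tt N7621 (iv F12621)) (tt N4393 (iv D5844)) (tt N7669 D7669) (tt N7620 (iv F12619)))
theorem Q5846 : ∀ i, i < 5846 → P i := stepQ 5845 Q5845 (allL N5845 (tt N7484 (iv F12380)) (tt N7668 (iv F12679)) (tt N4394 F9598) (tt N7620 F12618) (tt N7670 D7670) (tt N4393 (iv D5845)))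
theorem Q5847 : ∀ i, i < 5847 → P i := stepQ 5846 Q5846 (allL N5846 (tt N7485 (iv F12383)) (tt N7665 (iv F12676)) (tt N7670 (iv F12680)) (tt N5502 F9599) (tt N4394 (iv D5846)) (tt N7481 (iv F12375)))
theorem Q5848 : ∀ i, i < 5848 → P i := stepQ 5847 Q5847 (allL N5847 (tt N4395 (iv D5847)) (tt N7623 (iv F12628)) (tt N5515 F9600) (tt N7671 D7671) (tt N4398 F9601) (tt N7672 D7672))
theorem Q5849 : ∀ i, i < 5849 → P i := stepQ 5848 Q5848 (allL N5848 (tt N7671 (iv F12681)) (tt N4396 F9602) (tt N7673 D7673) (tt N4395 (iv D5848)) (tt N7585 (iv F12568)) (tt N7674 D7674))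
theorem Q5850 : ∀ i, i < 5850 → P i := stepQ 5849 Q5849 (allL N5849 (tt N7672 (iv F12682)) (tt N4397 F9603) (tt N5514 F9604) (tt N7674 (iv F12685)) (tt N6904 (iv F11427)) (tt N4395 (iv D5849)))
theorem Q5851 : ∀ i, i < 5851 → P i := stepQ 5850 Q5850 (allL N5850 (tt N7620 (iv F12616)) (tt N7675 D7675) (tt N4396 (iv D5850)) (tt N7484 (iv F12382)) (tt N7586 (iv F12571)) (tt N7483 F12379))
theorem Q5852 : ∀ i, i < 5852 → P i := stepQ 5851 Q5851 (allL N5851 (tt N7621 (iv F12620)) (tt N7674 (iv F12684)) (tt N7483 (iv F12378)) (tt N4397 F9605) (tt N7676 D7676) (tt N4396 (iv D5851)))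
theorem Q5853 : ∀ i, i < 5853 → P i := stepQ 5852 Q5852 (allL N5852 (tt N4399 (iv D5852)) (tt N4795 F9606) (tt N4404 F9607) (tt N5189 (iv F9609)) (tt N6595 (iv F10894)) (tt N4887 F9608))
theorem Q5854 : ∀ i, i < 5854 → P i := stepQ 5853 Q5853 (allL N5853 (tt N5189 F9610) (tt N4400 F9611) (tt N5448 (iv F9613)) (tt N4399 (iv D5853)) (tt N7677 D7677) (tt N5310 F9612))
theorem Q5855 : ∀ i, i < 5855 → P i := stepQ 5854 Q5854 (allL N5854 (tt N4798 F9614) (tt N7677 (iv F12687)) (tt N5304 F9615) (tt N6598 (iv F10899)) (tt N4400 (iv D5854)) (tt N7678 D7678))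
theorem Q5856 : ∀ i, i < 5856 → P i := stepQ 5855 Q5855 (allL N5855 (tt N4401 (iv D5855)) (tt N4409 F9616) (tt N6595 (iv F10893)) (tt N7679 D7679) (tt N4404 F9617) (tt N7680 D7680))
theorem Q5857 : ∀ i, i < 5857 → P i := stepQ 5856 Q5856 (allL N5856 (tt N7679 (iv F12692)) (tt N4402 F9618) (tt N7681 D7681) (tt N4401 (iv D5856)) (tt N6903 (iv F11424)) (tt N7682 D7682))
theorem Q5858 : ∀ i, i < 5858 → P i := stepQ 5857 Q5857 (allL N5857 (tt N7680 (iv F12694)) (tt N4403 F9619) (tt N6597 (iv F10897)) (tt N7682 (iv F12697)) (tt N7582 (iv F12559)) (tt N4401 (iv D5857)))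
theorem Q5859 : ∀ i, i < 5859 → P i := stepQ 5858 Q5858 (allL N5858 (tt N4412 F9620) (tt N7683 D7683) (tt N4402 (iv D5858)) (tt N4407 F9621) (tt N6905 (iv F11429)) (tt N4406 (iv F9622)))
theorem Q5860 : ∀ i, i < 5860 → P i := stepQ 5859 Q5859 (allL N5859 (tt N4414 F9623) (tt N7682 (iv F12696)) (tt N4406 F9624) (tt N4403 F9625) (tt N7684 D7684) (tt N4402 (iv D5859)))
theorem Q5861 : ∀ i, i < 5861 → P i := stepQ 5860 Q5860 (allL N5860 (tt N4405 (iv D5860)) (tt N7195 (iv F11951)) (tt N6502 (iv F10763)) (tt N7685 D7685) (tt N7194 (iv F11950)) (tt N7686 D7686))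
theorem Q5862 : ∀ i, i < 5862 → P i := stepQ 5861 Q5861 (allL N5861 (tt N7685 (iv F12702)) (tt N4406 F9626) (tt N7687 D7687) (tt N4405 (iv D5861)) (tt N7688 D7688) (tt N7683 (iv F12699)))
theorem Q5863 : ∀ i, i < 5863 → P i := stepQ 5862 Q5862 (allL N5862 (tt N7686 (iv F12703)) (tt N4407 F9627) (tt N6504 (iv F10766)) (tt N7683 (iv F12698)) (tt N7689 D7689) (tt N4405 (iv D5862)))
theorem Q5864 : ∀ i, i < 5864 → P i := stepQ 5863 Q5863 (allL N5863 (tt N7198 (iv F11959)) (tt N7688 (iv F12704)) (tt N7684 (iv F12701)) (tt N7193 (iv F11948)) (tt N4406 (iv D5863)) (tt N7690 D7690))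
theorem Q5865 : ∀ i, i < 5865 → P i := stepQ 5864 Q5864 (allL N5864 (tt N7199 (iv F11962)) (tt N7689 (iv F12705)) (tt N4408 F9628) (tt N7691 D7691) (tt N4407 (iv D5864)) (tt N7192 (iv F11945)))
theorem Q5866 : ∀ i, i < 5866 → P i := stepQ 5865 Q5865 (allL N5865 (tt N4410 F9629) (tt N7679 (iv F12693)) (tt N7692 D7692) (tt N4409 (iv D5865)) (tt N7693 D7693) (tt N7694 D7694))
theorem Q5867 : ∀ i, i < 5867 → P i := stepQ 5866 Q5866 (allL N5866 (tt N4411 F9630) (tt N7680 (iv F12695)) (tt N4896 F9631) (tt N7694 (iv F12711)) (tt N7613 (iv F12608)) (tt N4409 (iv D5866)))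
theorem Q5868 : ∀ i, i < 5868 → P i := stepQ 5867 Q5867 (allL N5867 (tt N7692 (iv F12706)) (tt N7695 D7695) (tt N4410 (iv D5867)) (tt N7696 D7696) (tt N7697 D7697) (tt N7698 D7698))
theorem Q5869 : ∀ i, i < 5869 → P i := stepQ 5868 Q5868 (allL N5868 (tt N7693 (iv F12708)) (tt N4413 F9632) (tt N7697 (iv F12715)) (tt N4417 F9633) (tt N4410 (iv D5868)) (tt N7699 D7699))
theorem Q5870 : ∀ i, i < 5870 → P i := stepQ 5869 Q5869 (allL N5869 (tt N7694 (iv F12710)) (tt N4414 F9634) (tt N7698 (iv F12716)) (tt N4411 F9635) (tt N7700 D7700) (tt N4410 (iv D5869)))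
theorem Q5871 : ∀ i, i < 5871 → P i := stepQ 5870 Q5870 (allL N5870 (tt N7701 D7701) (tt N4412 (iv D5870)) (tt N7695 (iv F12712)) (tt N7197 (iv F11958)) (tt N7702 D7702) (tt N7196 F11955))
theorem Q5872 : ∀ i, i < 5872 → P i := stepQ 5871 Q5871 (allL N5871 (tt N6905 (iv F11428)) (tt N7702 (iv F12720)) (tt N4413 F9636) (tt N6900 (iv F11418)) (tt N4412 (iv D5871)) (tt N6899 F11416))
theorem Q5873 : ∀ i, i < 5873 → P i := stepQ 5872 Q5872 (allL N5872 (tt N6906 (iv F11430)) (tt N7699 (iv F12717)) (tt N6899 (iv F11415)) (tt N4418 F9637) (tt N7703 D7703) (tt N4413 (iv D5872)))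
theorem Q5874 : ∀ i, i < 5874 → P i := stepQ 5873 Q5873 (allL N5873 (tt N7684 (iv F12700)) (tt N7700 (iv F12719)) (tt N7198 (iv F11960)) (tt N7615 (iv F12612)) (tt N4414 (iv D5873)) (tt N7703 (iv F12721)))
theorem Q5875 : ∀ i, i < 5875 → P i := stepQ 5874 Q5874 (allL N5874 (tt N4416 F9638) (tt N7704 D7704) (tt N4415 (iv D5874)) (tt N4783 F9639) (tt N7705 D7705) (tt N7622 (iv F12626)))
theorem Q5876 : ∀ i, i < 5876 → P i := stepQ 5875 Q5875 (allL N5875 (tt N4417 F9640) (tt N6902 (iv F11420)) (tt N7705 (iv F12727)) (tt N7693 (iv F12709)) (tt N4415 (iv D5875)) (tt N7706 D7706))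
theorem Q5877 : ∀ i, i < 5877 → P i := stepQ 5876 Q5876 (allL N5876 (tt N4783 F9641) (tt N6893 (iv F11403)) (tt N4782 F9642) (tt N4416 (iv D5876)) (tt N7707 D7707) (tt N7624 (iv F12632)))
theorem Q5878 : ∀ i, i < 5878 → P i := stepQ 5877 Q5877 (allL N5877 (tt N7705 (iv F12726)) (tt N6891 (iv F11396)) (tt N4417 F9643) (tt N7708 D7708) (tt N4416 (iv D5877)) (tt N7709 D7709))
theorem Q5879 : ∀ i, i < 5879 → P i := stepQ 5878 Q5878 (allL N5878 (tt N7706 (iv F12728)) (tt N4418 F9644) (tt N7709 (iv F12731)) (tt N7699 (iv F12718)) (tt N7626 (iv F12636)) (tt N4417 (iv D5878)))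
theorem Q5880 : ∀ i, i < 5880 → P i := stepQ 5879 Q5879 (allL N5879 (tt N4420 F9645) (tt N6041 (iv F9917)) (tt N7710 D7710) (tt N4419 (iv D5879)) (tt N7711 D7711) (tt N7712 D7712))
theorem Q5881 : ∀ i, i < 5881 → P i := stepQ 5880 Q5880 (allL N5880 (tt N4421 F9646) (tt N6026 F9882) (tt N6048 (iv F9931)) (tt N7712 (iv F12736)) (tt N7713 D7713) (tt N4419 (iv D5880)))
theorem Q5882 : ∀ i, i < 5882 → P i := stepQ 5881 Q5881 (allL N5881 (tt N7710 (iv F12732)) (tt N7714 D7714) (tt N4420 (iv D5881)) (tt N7715 D7715) (tt N7716 D7716) (tt N7717 D7717))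
theorem Q5883 : ∀ i, i < 5883 → P i := stepQ 5882 Q5882 (allL N5882 (tt N7711 (iv F12733)) (tt N4423 F9647) (tt N7716 (iv F12741)) (tt N4429 F9648) (tt N4420 (iv D5882)) (tt N7718 D7718))
theorem Q5884 : ∀ i, i < 5884 → P i := stepQ 5883 Q5883 (allL N5883 (tt N7712 (iv F12735)) (tt N4424 F9649) (tt N7717 (iv F12743)) (tt N4421 F9650) (tt N7719 D7719) (tt N4420 (iv D5883)))
theorem Q5885 : ∀ i, i < 5885 → P i := stepQ 5884 Q5884 (allL N5884 (tt N7713 (iv F12737)) (tt N4425 F9651) (tt N6046 (iv F9924)) (tt N7720 D7720) (tt N4421 (iv D5884)) (tt N4430 F9652))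
theorem Q5886 : ∀ i, i < 5886 → P i := stepQ 5885 Q5885 (allL N5885 (tt N7721 D7721) (tt N4422 (iv D5885)) (tt N7714 (iv F12739)) (tt N4534 F9653) (tt N7722 D7722) (tt N4549 F9654))
theorem Q5887 : ∀ i, i < 5887 → P i := stepQ 5886 Q5886 (allL N5886 (tt N5888 (iv F9657)) (tt N7722 (iv F12752)) (tt N4423 F9655) (tt N7723 D7723) (tt N4422 (iv D5886)) (tt N7724 D7724))
theorem Q5888 : ∀ i, i < 5888 → P i := stepQ 5887 Q5887 (allL N5887 (tt N6044 (iv F9920)) (tt N7718 (iv F12744)) (tt N7724 (iv F12754)) (tt N4431 F9656) (tt N7725 D7725) (tt N4423 (iv D5887)))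
theorem Q5889 : ∀ i, i < 5889 → P i := stepQ 5888 Q5888 (allL N5888 (tt N5886 F9657) (tt N7719 (iv F12746)) (tt N4550 F9658) (tt N7726 D7726) (tt N4424 (iv D5888)) (tt N7725 (iv F12758)))
theorem Q5890 : ∀ i, i < 5890 → P i := stepQ 5889 Q5889 (allL N5889 (tt N6045 (iv F9922)) (tt N7720 (iv F12747)) (tt N7727 D7727) (tt N4425 (iv D5889)) (tt N7726 (iv F12760)) (tt N4432 F9659))
theorem Q5891 : ∀ i, i < 5891 → P i := stepQ 5890 Q5890 (allL N5890 (tt N4428 F9660) (tt N7728 D7728) (tt N4426 (iv D5890)) (tt N7729 D7729) (tt N7730 D7730) (tt N7101 (iv F11763)))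
theorem Q5892 : ∀ i, i < 5892 → P i := stepQ 5891 Q5891 (allL N5891 (tt N4429 F9661) (tt N7019 (iv F11646)) (tt N7730 (iv F12765)) (tt N7711 (iv F12734)) (tt N4426 (iv D5891)) (tt N7731 D7731))
theorem Q5893 : ∀ i, i < 5893 → P i := stepQ 5892 Q5892 (allL N5892 (tt N4430 F9662) (tt N7020 (iv F11648)) (tt N6251 (iv F10317)) (tt N7732 D7732) (tt N4427 (iv D5892)) (tt N7713 (iv F12738)))
theorem Q5894 : ∀ i, i < 5894 → P i := stepQ 5893 Q5893 (allL N5893 (tt N7729 (iv F12763)) (tt N7104 (iv F11767)) (tt N7733 D7733) (tt N4428 (iv D5893)) (tt N7734 D7734) (tt N7102 (iv F11765)))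
theorem Q5895 : ∀ i, i < 5895 → P i := stepQ 5894 Q5894 (allL N5894 (tt N7730 (iv F12764)) (tt N7105 (iv F11770)) (tt N4429 F9663) (tt N7735 D7735) (tt N4428 (iv D5894)) (tt N7736 D7736))
theorem Q5896 : ∀ i, i < 5896 → P i := stepQ 5895 Q5895 (allL N5895 (tt N7731 (iv F12766)) (tt N4431 F9664) (tt N7736 (iv F12769)) (tt N7718 (iv F12745)) (tt N7110 (iv F11783)) (tt N4429 (iv D5895)))
theorem Q5897 : ∀ i, i < 5897 → P i := stepQ 5896 Q5896 (allL N5896 (tt N7732 (iv F12767)) (tt N4432 F9665) (tt N7737 D7737) (tt N4430 (iv D5896)) (tt N7109 (iv F11781)) (tt N7720 (iv F12748)))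
theorem Q5898 : ∀ i, i < 5898 → P i := stepQ 5897 Q5897 (allL N5897 (tt N7025 (iv F11658)) (tt N7738 D7738) (tt N4432 (iv D5897)) (tt N7727 (iv F12762)) (tt N7111 (iv F11786)) (tt N7727 (iv F12761)))
theorem Q5899 : ∀ i, i < 5899 → P i := stepQ 5898 Q5898 (allL N5898 (tt N4434 F9666) (tt N7108 (iv F11779)) (tt N7195 (iv F11952)) (tt N7739 D7739) (tt N4433 (iv D5898)) (tt N7740 D7740))
theorem Q5900 : ∀ i, i < 5900 → P i := stepQ 5899 Q5899 (allL N5899 (tt N7739 (iv F12771)) (tt N4435 F9667) (tt N7741 D7741) (tt N4434 (iv D5899)) (tt N7024 (iv F11657)) (tt N7742 D7742))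
theorem Q5901 : ∀ i, i < 5901 → P i := stepQ 5900 Q5900 (allL N5900 (tt N7740 (iv F12772)) (tt N4436 F9668) (tt N7197 (iv F11957)) (tt N7742 (iv F12774)) (tt N7023 (iv F11655)) (tt N4434 (iv D5900)))
theorem Q5902 : ∀ i, i < 5902 → P i := stepQ 5901 Q5901 (allL N5901 (tt N7111 (iv F11784)) (tt N7743 D7743) (tt N4435 (iv D5901)) (tt N5734 F9669) (tt N7025 (iv F11659)) (tt N5733 (iv F9670)))
theorem Q5903 : ∀ i, i < 5903 → P i := stepQ 5902 Q5902 (allL N5902 (tt N7112 (iv F11788)) (tt N7742 (iv F12773)) (tt N5733 F9671) (tt N4436 F9672) (tt N7744 D7744) (tt N4435 (iv D5902)))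
theorem Q5904 : ∀ i, i < 5904 → P i := stepQ 5903 Q5903 (allL N5903 (tt N7745 D7745) (tt N4438 (iv D5903)) (tt N6577 (iv F10864)) (tt N7746 D7746) (tt N5731 F9673) (tt N7747 D7747))
theorem Q5905 : ∀ i, i < 5905 → P i := stepQ 5904 Q5904 (allL N5904 (tt N5733 F9674) (tt N7746 (iv F12782)) (tt N7112 (iv F11789)) (tt N4438 (iv D5904)) (tt N7748 D7748) (tt N7111 F11787))
theorem Q5906 : ∀ i, i < 5906 → P i := stepQ 5905 Q5905 (allL N5905 (tt N5734 F9675) (tt N7747 (iv F12783)) (tt N4439 F9676) (tt N7111 (iv F11785)) (tt N7749 D7749) (tt N4438 (iv D5905)))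
theorem Q5907 : ∀ i, i < 5907 → P i := stepQ 5906 Q5906 (allL N5906 (tt N5735 F9677) (tt N6580 (iv F10872)) (tt N7749 (iv F12787)) (tt N5409 F9678) (tt N4439 (iv D5906)) (tt N5410 F9679))
theorem Q5908 : ∀ i, i < 5908 → P i := stepQ 5907 Q5907 (allL N5907 (tt N7053 (iv F11695)) (tt N4441 F9680) (tt N7146 (iv F11857)) (tt N4440 (iv D5907)) (tt N7750 D7750) (tt N4483 F9681))
theorem Q5909 : ∀ i, i < 5909 → P i := stepQ 5908 Q5908 (allL N5908 (tt N4443 F9682) (tt N7750 (iv F12789)) (tt N4486 F9683) (tt N7116 (iv F11797)) (tt N4441 (iv D5908)) (tt N7751 D7751))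
theorem Q5910 : ∀ i, i < 5910 → P i := stepQ 5909 Q5909 (allL N5909 (tt N7142 (iv F11847)) (tt N4442 (iv D5909)) (tt N7038 F11671) (tt N4477 F9684) (tt N7752 D7752) (tt N4476 F9685))
theorem Q5911 : ∀ i, i < 5911 → P i := stepQ 5910 Q5910 (allL N5910 (tt N4486 F9686) (tt N7752 (iv F12793)) (tt N4443 F9687) (tt N7753 D7753) (tt N4442 (iv D5910)) (tt N7754 D7754))
theorem Q5912 : ∀ i, i < 5912 → P i := stepQ 5911 Q5911 (allL N5911 (tt N7751 (iv F12790)) (tt N7138 (iv F11838)) (tt N7754 (iv F12797)) (tt N7120 (iv F11802)) (tt N7130 (iv F11828)) (tt N4443 (iv D5911)))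
theorem Q5913 : ∀ i, i < 5913 → P i := stepQ 5912 Q5912 (allL N5912 (tt N4446 F9688) (tt N7755 D7755) (tt N4444 (iv D5912)) (tt N7756 D7756) (tt N7757 D7757) (tt N6923 (iv F11471)))
theorem Q5914 : ∀ i, i < 5914 → P i := stepQ 5913 Q5913 (allL N5913 (tt N4447 F9689) (tt N4452 F9690) (tt N7757 (iv F12802)) (tt N6225 (iv F10274)) (tt N4444 (iv D5913)) (tt N7758 D7758))
theorem Q5915 : ∀ i, i < 5915 → P i := stepQ 5914 Q5914 (allL N5914 (tt N4448 F9691) (tt N4454 F9692) (tt N6214 (iv F10254)) (tt N7759 D7759) (tt N4445 (iv D5914)) (tt N6213 (iv F10251)))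
theorem Q5916 : ∀ i, i < 5916 → P i := stepQ 5915 Q5915 (allL N5915 (tt N7756 (iv F12800)) (tt N6928 (iv F11480)) (tt N7760 D7760) (tt N4446 (iv D5915)) (tt N7761 D7761) (tt N6924 (iv F11473)))
theorem Q5917 : ∀ i, i < 5917 → P i := stepQ 5916 Q5916 (allL N5916 (tt N7757 (iv F12801)) (tt N6931 (iv F11484)) (tt N4447 F9693) (tt N7762 D7762) (tt N4446 (iv D5916)) (tt N7763 D7763))
theorem Q5918 : ∀ i, i < 5918 → P i := stepQ 5917 Q5917 (allL N5917 (tt N7758 (iv F12803)) (tt N4449 F9694) (tt N7763 (iv F12807)) (tt N6228 (iv F10279)) (tt N6935 (iv F11494)) (tt N4447 (iv D5917)))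
theorem Q5919 : ∀ i, i < 5919 → P i := stepQ 5918 Q5918 (allL N5918 (tt N7759 (iv F12805)) (tt N4450 F9695) (tt N7764 D7764) (tt N4448 (iv D5918)) (tt N6934 (iv F11492)) (tt N6218 (iv F10263)))
theorem Q5920 : ∀ i, i < 5920 → P i := stepQ 5919 Q5919 (allL N5919 (tt N7765 D7765) (tt N4451 (iv D5919)) (tt N7755 (iv F12799)) (tt N7186 (iv F11933)) (tt N7766 D7766) (tt N7767 D7767))
theorem Q5921 : ∀ i, i < 5921 → P i := stepQ 5920 Q5920 (allL N5920 (tt N4457 F9696) (tt N7766 (iv F12809)) (tt N4452 F9697) (tt N7768 D7768) (tt N4451 (iv D5920)) (tt N7769 D7769))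
theorem Q5922 : ∀ i, i < 5922 → P i := stepQ 5921 Q5921 (allL N5921 (tt N4458 F9698) (tt N7767 (iv F12810)) (tt N4453 F9699) (tt N4472 F9700) (tt N7770 D7770) (tt N4451 (iv D5921)))
theorem Q5923 : ∀ i, i < 5923 → P i := stepQ 5922 Q5922 (allL N5922 (tt N4459 F9701) (tt N7758 (iv F12804)) (tt N7769 (iv F12814)) (tt N6960 (iv F11536)) (tt N7771 D7771) (tt N4452 (iv D5922)))
theorem Q5924 : ∀ i, i < 5924 → P i := stepQ 5923 Q5923 (allL N5923 (tt N4460 F9702) (tt N6933 (iv F11490)) (tt N7770 (iv F12816)) (tt N7772 D7772) (tt N4453 (iv D5923)) (tt N7771 (iv F12818)))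
theorem Q5925 : ∀ i, i < 5925 → P i := stepQ 5924 Q5924 (allL N5924 (tt N4461 F9703) (tt N7759 (iv F12806)) (tt N7773 D7773) (tt N4454 (iv D5924)) (tt N7772 (iv F12820)) (tt N6956 (iv F11530)))
theorem Q5926 : ∀ i, i < 5926 → P i := stepQ 5925 Q5925 (allL N5925 (tt N4455 (iv D5925)) (tt N7765 (iv F12808)) (tt N4462 F9704) (tt N7002 (iv F11618)) (tt N7774 D7774) (tt N6907 (iv F11433)))
theorem Q5927 : ∀ i, i < 5927 → P i := stepQ 5926 Q5926 (allL N5926 (tt N7002 (iv F11617)) (tt N4456 F9705) (tt N6993 (iv F11598)) (tt N4455 (iv D5926)) (tt N7775 D7775) (tt N6909 (iv F11438)))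
theorem Q5928 : ∀ i, i < 5928 → P i := stepQ 5927 Q5927 (allL N5927 (tt N7774 (iv F12823)) (tt N4457 F9706) (tt N4463 F9707) (tt N7776 D7776) (tt N4455 (iv D5927)) (tt N7777 D7777))
theorem Q5929 : ∀ i, i < 5929 → P i := stepQ 5928 Q5928 (allL N5928 (tt N7184 (iv F11927)) (tt N7775 (iv F12825)) (tt N7180 F11922) (tt N7778 D7778) (tt N4456 (iv D5928)) (tt N7779 D7779))
theorem Q5930 : ∀ i, i < 5930 → P i := stepQ 5929 Q5929 (allL N5929 (tt N4472 F9708) (tt N6909 (iv F11437)) (tt N4470 F9709) (tt N4458 F9710) (tt N7780 D7780) (tt N4456 (iv D5929)))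
theorem Q5931 : ∀ i, i < 5931 → P i := stepQ 5930 Q5930 (allL N5930 (tt N7768 (iv F12812)) (tt N7776 (iv F12826)) (tt N7781 D7781) (tt N4457 (iv D5930)) (tt N7778 (iv F12829)) (tt N7782 D7782))
theorem Q5932 : ∀ i, i < 5932 → P i := stepQ 5931 Q5931 (allL N5931 (tt N7769 (iv F12813)) (tt N7777 (iv F12827)) (tt N4459 F9711) (tt N7782 (iv F12832)) (tt N7783 D7783) (tt N4457 (iv D5931)))
theorem Q5933 : ∀ i, i < 5933 → P i := stepQ 5932 Q5932 (allL N5932 (tt N7770 (iv F12815)) (tt N6910 (iv F11439)) (tt N4460 F9712) (tt N7784 D7784) (tt N4458 (iv D5932)) (tt N7783 (iv F12834)))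
theorem Q5934 : ∀ i, i < 5934 → P i := stepQ 5933 Q5933 (allL N5933 (tt N7771 (iv F12817)) (tt N4466 F9713) (tt N7783 (iv F12833)) (tt N7785 D7785) (tt N4459 (iv D5933)) (tt N4460 F9714))
theorem Q5935 : ∀ i, i < 5935 → P i := stepQ 5934 Q5934 (allL N5934 (tt N7772 (iv F12819)) (tt N4467 F9715) (tt N7786 D7786) (tt N4460 (iv D5934)) (tt N4461 F9716) (tt N7785 (iv F12836)))
theorem Q5936 : ∀ i, i < 5936 → P i := stepQ 5935 Q5935 (allL N5935 (tt N7773 (iv F12821)) (tt N7787 D7787) (tt N4461 (iv D5935)) (tt N7773 (iv F12822)) (tt N7786 (iv F12837)) (tt N6957 (iv F11531)))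
theorem Q5937 : ∀ i, i < 5937 → P i := stepQ 5936 Q5936 (allL N5936 (tt N4463 F9717) (tt N6922 (iv F11468)) (tt N7774 (iv F12824)) (tt N7407 (iv F12291)) (tt N4462 (iv D5936)) (tt N7788 D7788))
theorem Q5938 : ∀ i, i < 5938 → P i := stepQ 5937 Q5937 (allL N5937 (tt N7407 (iv F12289)) (tt N4464 F9718) (tt N7789 D7789) (tt N4463 (iv D5937)) (tt N6912 (iv F11446)) (tt N7790 D7790))
theorem Q5939 : ∀ i, i < 5939 → P i := stepQ 5938 Q5938 (allL N5938 (tt N7788 (iv F12839)) (tt N4465 F9719) (tt N7777 (iv F12828)) (tt N7790 (iv F12841)) (tt N6911 (iv F11443)) (tt N4463 (iv D5938)))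
theorem Q5940 : ∀ i, i < 5940 → P i := stepQ 5939 Q5939 (allL N5939 (tt N6939 (iv F11503)) (tt N7791 D7791) (tt N4464 (iv D5939)) (tt N7792 D7792) (tt N6913 (iv F11450)) (tt N7793 D7793))
theorem Q5941 : ∀ i, i < 5941 → P i := stepQ 5940 Q5940 (allL N5940 (tt N6938 (iv F11499)) (tt N7790 (iv F12840)) (tt N7793 (iv F12842)) (tt N4465 F9720) (tt N6323 (iv F10426)) (tt N4464 (iv D5940)))
theorem Q5942 : ∀ i, i < 5942 → P i := stepQ 5941 Q5941 (allL N5941 (tt N6937 (iv F11497)) (tt N7785 (iv F12835)) (tt N6948 (iv F11518)) (tt N4466 (iv D5941)) (tt N6747 (iv F11165)) (tt N4467 F9721))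
theorem Q5943 : ∀ i, i < 5943 → P i := stepQ 5942 Q5942 (allL N5942 (tt N6936 (iv F11495)) (tt N7794 D7794) (tt N4467 (iv D5942)) (tt N6949 (iv F11521)) (tt N4468 F9722) (tt N6948 (iv F11519)))
theorem Q5944 : ∀ i, i < 5944 → P i := stepQ 5943 Q5943 (allL N5943 (tt N7795 D7795) (tt N4468 (iv D5943)) (tt N7787 (iv F12838)) (tt N6916 (iv F11456)) (tt N7794 (iv F12843)) (tt N6958 (iv F11532)))
theorem Q5945 : ∀ i, i < 5945 → P i := stepQ 5944 Q5944 (allL N5944 (tt N7178 (iv F11915)) (tt N4470 F9723) (tt N7796 D7796) (tt N4469 (iv D5944)) (tt N7797 D7797) (tt N7176 (iv F11914)))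
theorem Q5946 : ∀ i, i < 5946 → P i := stepQ 5945 Q5945 (allL N5945 (tt N7167 (iv F11886)) (tt N4471 F9724) (tt N7143 (iv F11852)) (tt N7798 D7798) (tt N4469 (iv D5945)) (tt N6974 (iv F11564)))
theorem Q5947 : ∀ i, i < 5947 → P i := stepQ 5946 Q5946 (allL N5946 (tt N4473 F9725) (tt N7797 (iv F12844)) (tt N7780 (iv F12831)) (tt N7799 D7799) (tt N4470 (iv D5946)) (tt N7800 D7800))
theorem Q5948 : ∀ i, i < 5948 → P i := stepQ 5947 Q5947 (allL N5947 (tt N4474 F9726) (tt N7798 (iv F12845)) (tt N7801 D7801) (tt N4471 (iv D5947)) (tt N7799 (iv F12847)) (tt N6976 (iv F11568)))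
theorem Q5949 : ∀ i, i < 5949 → P i := stepQ 5948 Q5948 (allL N5948 (tt N7802 D7802) (tt N4472 (iv D5948)) (tt N7191 (iv F11941)) (tt N7767 (iv F12811)) (tt N7803 D7803) (tt N7186 (iv F11934)))
theorem Q5950 : ∀ i, i < 5950 → P i := stepQ 5949 Q5949 (allL N5949 (tt N7780 (iv F12830)) (tt N7803 (iv F12851)) (tt N4473 F9727) (tt N7804 D7804) (tt N4472 (iv D5949)) (tt N7805 D7805))
theorem Q5951 : ∀ i, i < 5951 → P i := stepQ 5950 Q5950 (allL N5950 (tt N7799 (iv F12846)) (tt N7175 (iv F11910)) (tt N7806 D7806) (tt N4473 (iv D5950)) (tt N4474 F9728) (tt N7807 D7807))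
theorem Q5952 : ∀ i, i < 5952 → P i := stepQ 5951 Q5951 (allL N5951 (tt N7800 (iv F12848)) (tt N7188 (iv F11936)) (tt N7805 (iv F12852)) (tt N7807 (iv F12854)) (tt N7185 (iv F11931)) (tt N4473 (iv D5951)))
theorem Q5953 : ∀ i, i < 5953 → P i := stepQ 5952 Q5952 (allL N5952 (tt N7801 (iv F12849)) (tt N7808 D7808) (tt N4474 (iv D5952)) (tt N7801 (iv F12850)) (tt N7806 (iv F12853)) (tt N6980 (iv F11575)))
theorem Q5954 : ∀ i, i < 5954 → P i := stepQ 5953 Q5953 (allL N5953 (tt N4476 F9729) (tt N4480 F9730) (tt N7132 (iv F11830)) (tt N4475 (iv D5953)) (tt N7809 D7809) (tt N7142 (iv F11849)))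
theorem Q5955 : ∀ i, i < 5955 → P i := stepQ 5954 Q5954 (allL N5954 (tt N7809 (iv F12855)) (tt N4478 F9731) (tt N7133 (iv F11832)) (tt N6986 (iv F11588)) (tt N4476 (iv D5954)) (tt N7810 D7810))
theorem Q5956 : ∀ i, i < 5956 → P i := stepQ 5955 Q5955 (allL N5955 (tt N7143 (iv F11850)) (tt N4479 F9732) (tt N7167 (iv F11888)) (tt N7811 D7811) (tt N4477 (iv D5955)) (tt N6981 (iv F11579)))
theorem Q5957 : ∀ i, i < 5957 → P i := stepQ 5956 Q5956 (allL N5956 (tt N4485 F9733) (tt N7810 (iv F12857)) (tt N7130 (iv F11827)) (tt N6987 (iv F11590)) (tt N7754 (iv F12798)) (tt N4478 (iv D5956)))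
theorem Q5958 : ∀ i, i < 5958 → P i := stepQ 5957 Q5957 (allL N5957 (tt N4487 F9734) (tt N7811 (iv F12858)) (tt N7280 (iv F12080)) (tt N4479 (iv D5957)) (tt N7753 (iv F12795)) (tt N6982 (iv F11581)))
theorem Q5959 : ∀ i, i < 5959 → P i := stepQ 5958 Q5958 (allL N5958 (tt N4482 F9735) (tt N7809 (iv F12856)) (tt N6265 (iv F10337)) (tt N6284 (iv F10371)) (tt N4480 (iv D5958)) (tt N7812 D7812))
theorem Q5960 : ∀ i, i < 5960 → P i := stepQ 5959 Q5959 (allL N5959 (tt N7123 (iv F11810)) (tt N4481 (iv D5959)) (tt N4483 F9736) (tt N6256 (iv F10321)) (tt N7813 D7813) (tt N7146 (iv F11858)))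
theorem Q5961 : ∀ i, i < 5961 → P i := stepQ 5960 Q5960 (allL N5960 (tt N6265 (iv F10336)) (tt N7813 (iv F12860)) (tt N4482 F9737) (tt N7814 D7814) (tt N4481 (iv D5960)) (tt N7815 D7815))
theorem Q5962 : ∀ i, i < 5962 → P i := stepQ 5961 Q5961 (allL N5961 (tt N7812 (iv F12859)) (tt N4485 F9738) (tt N7815 (iv F12862)) (tt N6988 (iv F11592)) (tt N7149 (iv F11863)) (tt N4482 (iv D5961)))
theorem Q5963 : ∀ i, i < 5963 → P i := stepQ 5962 Q5962 (allL N5962 (tt N7124 (iv F11811)) (tt N4484 F9739) (tt N7813 (iv F12861)) (tt N7816 D7816) (tt N4483 (iv D5962)) (tt N7817 D7817))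
theorem Q5964 : ∀ i, i < 5964 → P i := stepQ 5963 Q5963 (allL N5963 (tt N7129 (iv F11822)) (tt N7816 (iv F12863)) (tt N7818 D7818) (tt N4484 (iv D5963)) (tt N7128 (iv F11820)) (tt N7819 D7819))
theorem Q5965 : ∀ i, i < 5965 → P i := stepQ 5964 Q5964 (allL N5964 (tt N7130 (iv F11825)) (tt N7817 (iv F12864)) (tt N4485 F9740) (tt N7819 (iv F12865)) (tt N7751 (iv F12792)) (tt N4484 (iv D5964)))
theorem Q5966 : ∀ i, i < 5966 → P i := stepQ 5965 Q5965 (allL N5965 (tt N7754 (iv F12796)) (tt N7149 (iv F11862)) (tt N7751 (iv F12791)) (tt N7820 D7820) (tt N4485 (iv D5965)) (tt N4486 F9741))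
theorem Q5967 : ∀ i, i < 5967 → P i := stepQ 5966 Q5966 (allL N5966 (tt N7753 (iv F12794)) (tt N7148 (iv F11860)) (tt N7821 D7821) (tt N4486 (iv D5966)) (tt N4487 F9742) (tt N7820 (iv F12866)))
theorem Q5968 : ∀ i, i < 5968 → P i := stepQ 5967 Q5967 (allL N5967 (tt N7280 (iv F12079)) (tt N7822 D7822) (tt N4487 (iv D5967)) (tt N7275 (iv F12072)) (tt N7821 (iv F12867)) (tt N6985 (iv F11586)))
theorem Q5969 : ∀ i, i < 5969 → P i := stepQ 5968 Q5968 (allL N5968 (tt N7823 D7823) (tt N4488 (iv D5968)) (tt N4503 F9743) (tt N7824 D7824) (tt N4659 F9744) (tt N7825 D7825))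
theorem Q5970 : ∀ i, i < 5970 → P i := stepQ 5969 Q5969 (allL N5969 (tt N4493 F9745) (tt N7824 (iv F12872)) (tt N5980 (iv F9769)) (tt N4488 (iv D5969)) (tt N7826 D7826) (tt N5978 F9766))
theorem Q5971 : ∀ i, i < 5971 → P i := stepQ 5970 Q5970 (allL N5970 (tt N4494 F9746) (tt N7825 (iv F12874)) (tt N4489 F9747) (tt N5978 (iv F9765)) (tt N7827 D7827) (tt N4488 (iv D5970)))
theorem Q5972 : ∀ i, i < 5972 → P i := stepQ 5971 Q5971 (allL N5971 (tt N4495 F9748) (tt N4501 F9749) (tt N7827 (iv F12879)) (tt N4495 F9750) (tt N4489 (iv D5971)) (tt N4662 F9751))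
theorem Q5973 : ∀ i, i < 5973 → P i := stepQ 5972 Q5972 (allL N5972 (tt N7828 D7828) (tt N4490 (iv D5972)) (tt N4496 F9752) (tt N7829 D7829) (tt N4492 F9753) (tt N7830 D7830))
theorem Q5974 : ∀ i, i < 5974 → P i := stepQ 5973 Q5973 (allL N5973 (tt N4660 F9754) (tt N7829 (iv F12884)) (tt N7831 D7831) (tt N4490 (iv D5973)) (tt N7832 D7832) (tt N7831 F12890))
theorem Q5975 : ∀ i, i < 5975 → P i := stepQ 5974 Q5974 (allL N5974 (tt N4661 F9755) (tt N7830 (iv F12885)) (tt N4491 F9756) (tt N7831 (iv F12889)) (tt N7833 D7833) (tt N4490 (iv D5974)))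
theorem Q5976 : ∀ i, i < 5976 → P i := stepQ 5975 Q5975 (allL N5975 (tt N4662 F9757) (tt N4499 F9758) (tt N7833 (iv F12895)) (tt N4662 F9759) (tt N4491 (iv D5975)) (tt N4495 F9760))
theorem Q5977 : ∀ i, i < 5977 → P i := stepQ 5976 Q5976 (allL N5976 (tt N4492 (iv D5976)) (tt N7823 (iv F12868)) (tt N4500 F9761) (tt N7834 D7834) (tt N7828 (iv F12883)) (tt N4587 F9762))
theorem Q5978 : ∀ i, i < 5978 → P i := stepQ 5977 Q5977 (allL N5977 (tt N7834 (iv F12897)) (tt N4493 F9763) (tt N7835 D7835) (tt N4492 (iv D5977)) (tt N7836 D7836) (tt N4590 F9764))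
theorem Q5979 : ∀ i, i < 5979 → P i := stepQ 5978 Q5978 (allL N5978 (tt N5980 (iv F9767)) (tt N7837 D7837) (tt N4493 (iv D5978)) (tt N5970 F9765) (tt N7838 D7838) (tt N5969 (iv F9766)))
theorem Q5980 : ∀ i, i < 5980 → P i := stepQ 5979 Q5979 (allL N5979 (tt N7826 (iv F12876)) (tt N7836 (iv F12903)) (tt N7838 (iv F12906)) (tt N7832 (iv F12892)) (tt N4493 (iv D5979)) (tt N7839 D7839))
theorem Q5981 : ∀ i, i < 5981 → P i := stepQ 5980 Q5980 (allL N5980 (tt N5978 F9767) (tt N4590 F9768) (tt N5969 F9769) (tt N4494 F9770) (tt N7840 D7840) (tt N4493 (iv D5980)))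
theorem Q5982 : ∀ i, i < 5982 → P i := stepQ 5981 Q5981 (allL N5981 (tt N7827 (iv F12878)) (tt N4591 F9771) (tt N4495 F9772) (tt N7841 D7841) (tt N4494 (iv D5981)) (tt N7833 (iv F12896)))
theorem Q5983 : ∀ i, i < 5983 → P i := stepQ 5982 Q5982 (allL N5982 (tt N4496 (iv D5982)) (tt N4525 F9773) (tt N7828 (iv F12882)) (tt N7842 D7842) (tt N4500 F9774) (tt N7843 D7843))
theorem Q5984 : ∀ i, i < 5984 → P i := stepQ 5983 Q5983 (allL N5983 (tt N7842 (iv F12911)) (tt N4497 F9775) (tt N7844 D7844) (tt N4496 (iv D5983)) (tt N4593 F9776) (tt N7845 D7845))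
theorem Q5985 : ∀ i, i < 5985 → P i := stepQ 5984 Q5984 (allL N5984 (tt N7843 (iv F12914)) (tt N4498 F9777) (tt N7830 (iv F12886)) (tt N7845 (iv F12919)) (tt N4592 F9778) (tt N4496 (iv D5984)))
theorem Q5986 : ∀ i, i < 5986 → P i := stepQ 5985 Q5985 (allL N5985 (tt N4528 F9779) (tt N7846 D7846) (tt N4497 (iv D5985)) (tt N4523 F9780) (tt N4594 F9781) (tt N4522 (iv F9782)))
theorem Q5987 : ∀ i, i < 5987 → P i := stepQ 5986 Q5986 (allL N5986 (tt N4530 F9783) (tt N7845 (iv F12918)) (tt N4522 F9784) (tt N4498 F9785) (tt N5372 F9786) (tt N4497 (iv D5986)))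
theorem Q5988 : ∀ i, i < 5988 → P i := stepQ 5987 Q5987 (allL N5987 (tt N4518 F9787) (tt N7847 D7847) (tt N4501 (iv D5987)) (tt N5513 F9790) (tt N4502 F9788) (tt N4667 F9789))
theorem Q5989 : ∀ i, i < 5989 → P i := stepQ 5988 Q5988 (allL N5988 (tt N7848 D7848) (tt N4502 (iv D5988)) (tt N7825 (iv F12875)) (tt N4541 F9791) (tt N7847 (iv F12925)) (tt N4503 F9792))
theorem Q5990 : ∀ i, i < 5990 → P i := stepQ 5989 Q5989 (allL N5989 (tt N4503 (iv D5989)) (tt N4514 F9793) (tt N7823 (iv F12869)) (tt N7849 D7849) (tt N4663 F9794) (tt N7848 (iv F12930)))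
theorem Q5991 : ∀ i, i < 5991 → P i := stepQ 5990 Q5990 (allL N5990 (tt N7849 (iv F12931)) (tt N4504 F9795) (tt N6136 (iv F10089)) (tt N4503 (iv D5990)) (tt N7850 D7850) (tt N4541 F9796))
theorem Q5992 : ∀ i, i < 5992 → P i := stepQ 5991 Q5991 (allL N5991 (tt N4517 F9797) (tt N7850 (iv F12934)) (tt N4537 F9798) (tt N4666 F9799) (tt N4504 (iv D5991)) (tt N5512 F9800))
theorem Q5993 : ∀ i, i < 5993 → P i := stepQ 5992 Q5992 (allL N5992 (tt N6134 (iv F10084)) (tt N4506 F9801) (tt N7851 D7851) (tt N4505 (iv D5992)) (tt N7852 D7852) (tt N4508 F9802))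
theorem Q5994 : ∀ i, i < 5994 → P i := stepQ 5993 Q5993 (allL N5993 (tt N4537 F9803) (tt N7852 (iv F12939)) (tt N4517 F9804) (tt N4559 F9805) (tt N4506 (iv D5993)) (tt N4759 F9806))
theorem Q5995 : ∀ i, i < 5995 → P i := stepQ 5994 Q5994 (allL N5994 (tt N4508 F9807) (tt N4538 F9808) (tt N7853 D7853) (tt N4507 (iv D5994)) (tt N4752 F9809) (tt N6134 (iv F10086)))
theorem Q5996 : ∀ i, i < 5996 → P i := stepQ 5995 Q5995 (allL N5995 (tt N7853 (iv F12942)) (tt N7854 D7854) (tt N4508 (iv D5995)) (tt N7855 D7855) (tt N4754 F9810) (tt N7851 (iv F12938)))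
theorem Q5997 : ∀ i, i < 5997 → P i := stepQ 5996 Q5996 (allL N5996 (tt N7856 D7856) (tt N4509 (iv D5996)) (tt N7854 (iv F12944)) (tt N4516 F9811) (tt N4756 F9812) (tt N4515 F9813))
theorem Q5998 : ∀ i, i < 5998 → P i := stepQ 5997 Q5997 (allL N5997 (tt N4510 (iv D5997)) (tt N4663 F9814) (tt N4525 F9815) (tt N7857 D7857) (tt N4514 F9816) (tt N7858 D7858))
theorem Q5999 : ∀ i, i < 5999 → P i := stepQ 5998 Q5998 (allL N5998 (tt N7857 (iv F12951)) (tt N4511 F9817) (tt N7859 D7859) (tt N4510 (iv D5998)) (tt N7860 D7860) (tt N4674 (iv F9818)))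
theorem Q6000 : ∀ i, i < 6000 → P i := stepQ 5999 Q5999 (allL N5999 (tt N7858 (iv F12954)) (tt N4512 F9819) (tt N4527 F9820) (tt N4674 F9821) (tt N7861 D7861) (tt N4510 (iv D5999)))
theorem Q6001 : ∀ i, i < 6001 → P i := stepQ 6000 Q6000 (allL N6000 (tt N4666 F9822) (tt N7860 (iv F12960)) (tt N4677 F9823) (tt N4517 F9824) (tt N4511 (iv D6000)) (tt N5399 F9825))
theorem Q6002 : ∀ i, i < 6002 → P i := stepQ 6001 Q6001 (allL N6001 (tt N4667 F9826) (tt N7861 (iv F12963)) (tt N4513 F9827) (tt N5374 F9828) (tt N4512 (iv D6001)) (tt N4518 F9829))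
theorem Q6003 : ∀ i, i < 6003 → P i := stepQ 6002 Q6002 (allL N6002 (tt N4515 F9830) (tt N7849 (iv F12932)) (tt N7862 D7862) (tt N4514 (iv D6002)) (tt N7863 D7863) (tt N7856 (iv F12950)))
theorem Q6004 : ∀ i, i < 6004 → P i := stepQ 6003 Q6003 (allL N6003 (tt N4516 F9831) (tt N7848 (iv F12927)) (tt N4533 F9832) (tt N7856 (iv F12948)) (tt N7864 D7864) (tt N4514 (iv D6003)))
theorem Q6005 : ∀ i, i < 6005 → P i := stepQ 6004 Q6004 (allL N6004 (tt N7862 (iv F12967)) (tt N7851 (iv F12937)) (tt N4515 (iv D6004)) (tt N7865 D7865) (tt N7866 D7866) (tt N7854 (iv F12946)))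
theorem Q6006 : ∀ i, i < 6006 → P i := stepQ 6005 Q6005 (allL N6005 (tt N7863 (iv F12969)) (tt N4517 F9833) (tt N7866 (iv F12974)) (tt N7860 (iv F12961)) (tt N4515 (iv D6005)) (tt N7867 D7867))
theorem Q6007 : ∀ i, i < 6007 → P i := stepQ 6006 Q6006 (allL N6006 (tt N7864 (iv F12970)) (tt N4518 F9834) (tt N4536 F9835) (tt N7868 D7868) (tt N4516 (iv D6006)) (tt N7861 (iv F12966)))
theorem Q6008 : ∀ i, i < 6008 → P i := stepQ 6007 Q6007 (allL N6007 (tt N5512 F9836) (tt N7867 (iv F12975)) (tt N4759 F9837) (tt N5399 F9838) (tt N4758 F9839) (tt N4517 (iv D6007)))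
theorem Q6009 : ∀ i, i < 6009 → P i := stepQ 6008 Q6008 (allL N6008 (tt N5513 F9840) (tt N7868 (iv F12978)) (tt N5373 F9843) (tt N4518 (iv D6008)) (tt N4757 F9841) (tt N5374 F9842))
theorem Q6010 : ∀ i, i < 6010 → P i := stepQ 6009 Q6009 (allL N6009 (tt N7869 D7869) (tt N4519 (iv D6009)) (tt N4521 F9844) (tt N7870 D7870) (tt N4623 F9845) (tt N7871 D7871))
theorem Q6011 : ∀ i, i < 6011 → P i := stepQ 6010 Q6010 (allL N6010 (tt N4628 F9846) (tt N7870 (iv F12984)) (tt N7872 D7872) (tt N4519 (iv D6010)) (tt N7873 D7873) (tt N7872 F12989))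
theorem Q6012 : ∀ i, i < 6012 → P i := stepQ 6011 Q6011 (allL N6011 (tt N4629 F9847) (tt N7871 (iv F12985)) (tt N4520 F9848) (tt N7872 (iv F12988)) (tt N7874 D7874) (tt N4519 (iv D6011)))
theorem Q6013 : ∀ i, i < 6013 → P i := stepQ 6012 Q6012 (allL N6012 (tt N4630 F9849) (tt N4524 F9850) (tt N7874 (iv F12993)) (tt N4630 F9851) (tt N4520 (iv D6012)) (tt N4626 F9852))
theorem Q6014 : ∀ i, i < 6014 → P i := stepQ 6013 Q6013 (allL N6013 (tt N4521 (iv D6013)) (tt N4647 F9853) (tt N7869 (iv F12982)) (tt N7875 D7875) (tt N4644 F9854) (tt N7876 D7876))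
theorem Q6015 : ∀ i, i < 6015 → P i := stepQ 6014 Q6014 (allL N6014 (tt N7875 (iv F12995)) (tt N4522 F9855) (tt N7877 D7877) (tt N4521 (iv D6014)) (tt N5516 F9856) (tt N7846 (iv F12923)))
theorem Q6016 : ∀ i, i < 6016 → P i := stepQ 6015 Q6015 (allL N6015 (tt N7876 (iv F12998)) (tt N4523 F9857) (tt N7871 (iv F12986)) (tt N7846 (iv F12921)) (tt N7878 D7878) (tt N4521 (iv D6015)))
theorem Q6017 : ∀ i, i < 6017 → P i := stepQ 6016 Q6016 (allL N6016 (tt N4651 F9858) (tt N7878 (iv F13001)) (tt N4524 F9859) (tt N7879 D7879) (tt N4523 (iv D6016)) (tt N4642 F9860))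
theorem Q6018 : ∀ i, i < 6018 → P i := stepQ 6017 Q6017 (allL N6017 (tt N4526 F9861) (tt N7842 (iv F12912)) (tt N7880 D7880) (tt N4525 (iv D6017)) (tt N7881 D7881) (tt N7882 D7882))
theorem Q6019 : ∀ i, i < 6019 → P i := stepQ 6018 Q6018 (allL N6018 (tt N4527 F9862) (tt N7843 (iv F12915)) (tt N7858 (iv F12956)) (tt N7882 (iv F13013)) (tt N7883 D7883) (tt N4525 (iv D6018)))
theorem Q6020 : ∀ i, i < 6020 → P i := stepQ 6019 Q6019 (allL N6019 (tt N7880 (iv F13007)) (tt N7884 D7884) (tt N4526 (iv D6019)) (tt N7885 D7885) (tt N7886 D7886) (tt N7887 D7887))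
theorem Q6021 : ∀ i, i < 6021 → P i := stepQ 6020 Q6020 (allL N6020 (tt N7881 (iv F13008)) (tt N4529 F9863) (tt N7886 (iv F13020)) (tt N4535 F9864) (tt N4526 (iv D6020)) (tt N5347 (iv F9865)))
theorem Q6022 : ∀ i, i < 6022 → P i := stepQ 6021 Q6021 (allL N6021 (tt N7882 (iv F13012)) (tt N4530 F9866) (tt N7887 (iv F13023)) (tt N4527 F9867) (tt N7888 D7888) (tt N4526 (iv D6021)))
theorem Q6023 : ∀ i, i < 6023 → P i := stepQ 6022 Q6022 (allL N6022 (tt N7883 (iv F13014)) (tt N4531 F9868) (tt N7861 (iv F12964)) (tt N5346 (iv F9870)) (tt N4527 (iv D6022)) (tt N4536 F9869))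
theorem Q6024 : ∀ i, i < 6024 → P i := stepQ 6023 Q6023 (allL N6023 (tt N7889 D7889) (tt N4528 (iv D6023)) (tt N7884 (iv F13018)) (tt N4649 F9871) (tt N7890 D7890) (tt N4648 F9872))
theorem Q6025 : ∀ i, i < 6025 → P i := stepQ 6024 Q6024 (allL N6024 (tt N4594 F9873) (tt N7890 (iv F13029)) (tt N4529 F9874) (tt N7891 D7891) (tt N4528 (iv D6024)) (tt N5348 (iv F9875)))
theorem Q6026 : ∀ i, i < 6026 → P i := stepQ 6025 Q6025 (allL N6025 (tt N5372 F9876) (tt N7888 (iv F13024)) (tt N4650 F9877) (tt N5327 F9878) (tt N4530 (iv D6025)) (tt N5326 F9879))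
theorem Q6027 : ∀ i, i < 6027 → P i := stepQ 6026 Q6026 (allL N6026 (tt N4534 F9880) (tt N5880 (iv F9882)) (tt N4532 (iv D6026)) (tt N7721 (iv F12750)) (tt N7892 D7892) (tt N4548 F9881))
theorem Q6028 : ∀ i, i < 6028 → P i := stepQ 6027 Q6027 (allL N6027 (tt N4535 F9883) (tt N4589 F9884) (tt N7892 (iv F13037)) (tt N7881 (iv F13010)) (tt N4532 (iv D6027)) (tt N5343 F9885))
theorem Q6029 : ∀ i, i < 6029 → P i := stepQ 6028 Q6028 (allL N6028 (tt N4536 F9886) (tt N4588 F9887) (tt N7864 (iv F12971)) (tt N5342 F9888) (tt N4533 (iv D6028)) (tt N7883 (iv F13016)))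
theorem Q6030 : ∀ i, i < 6030 → P i := stepQ 6029 Q6029 (allL N6029 (tt N7892 (iv F13035)) (tt N4551 F9889) (tt N4535 F9890) (tt N7893 D7893) (tt N4534 (iv D6029)) (tt N5338 F9891))
theorem Q6031 : ∀ i, i < 6031 → P i := stepQ 6030 Q6030 (allL N6030 (tt N4759 F9892) (tt N6138 (iv F10092)) (tt N5512 F9893) (tt N4598 F9894) (tt N4543 F9895) (tt N4537 (iv D6030)))
theorem Q6032 : ∀ i, i < 6032 → P i := stepQ 6031 Q6031 (allL N6031 (tt N4540 F9896) (tt N4752 F9897) (tt N6114 (iv F10053)) (tt N4545 F9898) (tt N4538 (iv D6031)) (tt N7894 D7894))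
theorem Q6033 : ∀ i, i < 6033 → P i := stepQ 6032 Q6032 (allL N6032 (tt N7895 D7895) (tt N4539 (iv D6032)) (tt N4541 F9899) (tt N6108 (iv F10043)) (tt N7896 D7896) (tt N6136 (iv F10090)))
theorem Q6034 : ∀ i, i < 6034 → P i := stepQ 6033 Q6033 (allL N6033 (tt N6114 (iv F10052)) (tt N7896 (iv F13045)) (tt N4540 F9900) (tt N7897 D7897) (tt N4539 (iv D6033)) (tt N7898 D7898))
theorem Q6035 : ∀ i, i < 6035 → P i := stepQ 6034 Q6034 (allL N6034 (tt N7894 (iv F13041)) (tt N4543 F9901) (tt N7898 (iv F13049)) (tt N4547 F9902) (tt N6138 (iv F10094)) (tt N4540 (iv D6034)))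
theorem Q6036 : ∀ i, i < 6036 → P i := stepQ 6035 Q6035 (allL N6035 (tt N4541 (iv D6035)) (tt N7856 (iv F12947)) (tt N7895 (iv F13044)) (tt N7848 (iv F12929)) (tt N7899 D7899) (tt N7849 (iv F12933)))
theorem Q6037 : ∀ i, i < 6037 → P i := stepQ 6036 Q6036 (allL N6036 (tt N7899 (iv F13050)) (tt N4542 F9903) (tt N7896 (iv F13046)) (tt N5511 (iv F9904)) (tt N4541 (iv D6036)) (tt N5510 (iv F9905)))
theorem Q6038 : ∀ i, i < 6038 → P i := stepQ 6037 Q6037 (allL N6037 (tt N4546 F9906) (tt N4707 F9907) (tt N4545 F9908) (tt N7900 D7900) (tt N4544 (iv D6037)) (tt N7901 D7901))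
theorem Q6039 : ∀ i, i < 6039 → P i := stepQ 6038 Q6038 (allL N6038 (tt N4547 F9909) (tt N4753 F9910) (tt N7901 (iv F13059)) (tt N7894 (iv F13043)) (tt N4611 F9911) (tt N4545 (iv D6038)))
theorem Q6040 : ∀ i, i < 6040 → P i := stepQ 6039 Q6039 (allL N6039 (tt N7900 (iv F13054)) (tt N4708 F9912) (tt N7902 D7902) (tt N4546 (iv D6039)) (tt N7900 (iv F13056)) (tt N7903 D7903))
theorem Q6041 : ∀ i, i < 6041 → P i := stepQ 6040 Q6040 (allL N6040 (tt N7901 (iv F13057)) (tt N4709 F9913) (tt N4547 F9914) (tt N7903 (iv F13062)) (tt N4614 F9915) (tt N4546 (iv D6040)))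
theorem Q6042 : ∀ i, i < 6042 → P i := stepQ 6041 Q6041 (allL N6041 (tt N4549 F9916) (tt N5879 F9917) (tt N7865 (iv F12973)) (tt N4548 (iv D6041)) (tt N7904 D7904) (tt N7721 (iv F12751)))
theorem Q6043 : ∀ i, i < 6043 → P i := stepQ 6042 Q6042 (allL N6042 (tt N7865 (iv F12972)) (tt N7717 (iv F12742)) (tt N4549 (iv D6042)) (tt N7862 (iv F12968)) (tt N7905 D7905) (tt N7714 F12740))
theorem Q6044 : ∀ i, i < 6044 → P i := stepQ 6043 Q6043 (allL N6043 (tt N7904 (iv F13063)) (tt N4550 F9918) (tt N7905 (iv F13066)) (tt N5337 F9919) (tt N4549 (iv D6043)) (tt N7906 D7906))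
theorem Q6045 : ∀ i, i < 6045 → P i := stepQ 6044 Q6044 (allL N6044 (tt N5887 F9920) (tt N7906 (iv F13067)) (tt N7725 (iv F12757)) (tt N5339 F9921) (tt N7724 (iv F12755)) (tt N4550 (iv D6044)))
theorem Q6046 : ∀ i, i < 6046 → P i := stepQ 6045 Q6045 (allL N6045 (tt N5889 F9922) (tt N7893 (iv F13039)) (tt N7907 D7907) (tt N4551 (iv D6045)) (tt N7723 (iv F12753)) (tt N5340 F9923))
theorem Q6047 : ∀ i, i < 6047 → P i := stepQ 6046 Q6046 (allL N6046 (tt N7908 D7908) (tt N4552 (iv D6046)) (tt N5884 F9924) (tt N7909 D7909) (tt N4553 F9925) (tt N4714 F9926))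
theorem Q6048 : ∀ i, i < 6048 → P i := stepQ 6047 Q6047 (allL N6047 (tt N4579 F9927) (tt N7909 (iv F13076)) (tt N7910 D7910) (tt N4552 (iv D6047)) (tt N4607 F9928) (tt N4716 F9929))
theorem Q6049 : ∀ i, i < 6049 → P i := stepQ 6048 Q6048 (allL N6048 (tt N4553 (iv D6048)) (tt N4574 F9930) (tt N5880 F9931) (tt N4605 F9932) (tt N7908 (iv F13074)) (tt N4554 F9933))
theorem Q6050 : ∀ i, i < 6050 → P i := stepQ 6049 Q6049 (allL N6049 (tt N4555 F9934) (tt N4573 F9935) (tt N7911 D7911) (tt N4554 (iv D6049)) (tt N7912 D7912) (tt N4605 F9936))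
theorem Q6051 : ∀ i, i < 6051 → P i := stepQ 6050 Q6050 (allL N6050 (tt N7911 (iv F13083)) (tt N4596 F9937) (tt N4555 (iv D6050)) (tt N7913 D7913) (tt N7914 D7914) (tt N4601 F9938))
theorem Q6052 : ∀ i, i < 6052 → P i := stepQ 6051 Q6051 (allL N6051 (tt N7912 (iv F13085)) (tt N4556 F9939) (tt N7914 (iv F13091)) (tt N4713 F9940) (tt N4555 (iv D6051)) (tt N7915 D7915))
theorem Q6053 : ∀ i, i < 6053 → P i := stepQ 6052 Q6052 (allL N6052 (tt N4578 F9941) (tt N7915 (iv F13092)) (tt N4598 F9942) (tt N4715 F9943) (tt N4608 F9944) (tt N4556 (iv D6052)))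
theorem Q6054 : ∀ i, i < 6054 → P i := stepQ 6053 Q6053 (allL N6053 (tt N4558 F9945) (tt N4595 F9946) (tt N7916 D7916) (tt N4557 (iv D6053)) (tt N7917 D7917) (tt N4560 F9947))
theorem Q6055 : ∀ i, i < 6055 → P i := stepQ 6054 Q6054 (allL N6054 (tt N7916 (iv F13095)) (tt N4575 F9948) (tt N4558 (iv D6054)) (tt N7918 D7918) (tt N7919 D7919) (tt N4561 F9949))
theorem Q6056 : ∀ i, i < 6056 → P i := stepQ 6055 Q6055 (allL N6055 (tt N7917 (iv F13097)) (tt N4559 F9950) (tt N7919 (iv F13102)) (tt N7852 (iv F12940)) (tt N4558 (iv D6055)) (tt N7920 D7920))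
theorem Q6057 : ∀ i, i < 6057 → P i := stepQ 6056 Q6056 (allL N6056 (tt N4598 F9951) (tt N7920 (iv F13103)) (tt N4578 F9952) (tt N4759 F9953) (tt N4565 F9954) (tt N4559 (iv D6056)))
theorem Q6058 : ∀ i, i < 6058 → P i := stepQ 6057 Q6057 (allL N6057 (tt N4561 F9955) (tt N7921 D7921) (tt N4560 (iv D6057)) (tt N7922 D7922) (tt N7923 D7923) (tt N7916 (iv F13096)))
theorem Q6059 : ∀ i, i < 6059 → P i := stepQ 6058 Q6058 (allL N6058 (tt N4562 F9956) (tt N4600 F9957) (tt N7923 (iv F13110)) (tt N4566 F9958) (tt N4560 (iv D6058)) (tt N7924 D7924))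
theorem Q6060 : ∀ i, i < 6060 → P i := stepQ 6059 Q6059 (allL N6059 (tt N7925 D7925) (tt N4561 (iv D6059)) (tt N4563 F9959) (tt N7926 D7926) (tt N7927 D7927) (tt N4575 F9960))
theorem Q6061 : ∀ i, i < 6061 → P i := stepQ 6060 Q6060 (allL N6060 (tt N7922 (iv F13107)) (tt N7926 (iv F13118)) (tt N7928 D7928) (tt N4561 (iv D6060)) (tt N7929 D7929) (tt N7918 (iv F13100)))
theorem Q6062 : ∀ i, i < 6062 → P i := stepQ 6061 Q6061 (allL N6061 (tt N7923 (iv F13109)) (tt N7927 (iv F13121)) (tt N4562 F9961) (tt N7930 D7930) (tt N4561 (iv D6061)) (tt N7931 D7931))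
theorem Q6063 : ∀ i, i < 6063 → P i := stepQ 6062 Q6062 (allL N6062 (tt N7924 (iv F13111)) (tt N4565 F9962) (tt N7931 (iv F13126)) (tt N4567 F9963) (tt N7920 (iv F13105)) (tt N4562 (iv D6062)))
theorem Q6064 : ∀ i, i < 6064 → P i := stepQ 6063 Q6063 (allL N6063 (tt N4563 (iv D6063)) (tt N4605 F9964) (tt N7925 (iv F13114)) (tt N4574 F9965) (tt N7932 D7932) (tt N4573 F9966))
theorem Q6065 : ∀ i, i < 6065 → P i := stepQ 6064 Q6064 (allL N6064 (tt N7932 (iv F13127)) (tt N4564 F9967) (tt N7927 (iv F13122)) (tt N7933 D7933) (tt N4563 (iv D6064)) (tt N7934 D7934))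
theorem Q6066 : ∀ i, i < 6066 → P i := stepQ 6065 Q6065 (allL N6065 (tt N4607 F9968) (tt N7933 (iv F13129)) (tt N7935 D7935) (tt N4564 (iv D6065)) (tt N4579 F9969) (tt N7936 D7936))
theorem Q6067 : ∀ i, i < 6067 → P i := stepQ 6066 Q6066 (allL N6066 (tt N4608 F9970) (tt N7934 (iv F13131)) (tt N4565 F9971) (tt N7936 (iv F13139)) (tt N4578 F9972) (tt N4564 (iv D6066)))
theorem Q6068 : ∀ i, i < 6068 → P i := stepQ 6067 Q6067 (allL N6067 (tt N4567 F9973) (tt N4611 F9974) (tt N6895 (iv F11411)) (tt N7924 (iv F13113)) (tt N4753 F9975) (tt N4566 (iv D6067)))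
theorem Q6069 : ∀ i, i < 6069 → P i := stepQ 6068 Q6068 (allL N6068 (tt N4569 F9976) (tt N4710 F9977) (tt N7937 D7937) (tt N4568 (iv D6068)) (tt N7938 D7938) (tt N4728 (iv F9978)))
theorem Q6070 : ∀ i, i < 6070 → P i := stepQ 6069 Q6069 (allL N6069 (tt N4570 F9979) (tt N4711 F9980) (tt N4581 F9981) (tt N4728 F9982) (tt N7939 D7939) (tt N4568 (iv D6069)))
theorem Q6071 : ∀ i, i < 6071 → P i := stepQ 6070 Q6070 (allL N6070 (tt N7937 (iv F13141)) (tt N4724 F9983) (tt N4569 (iv D6070)) (tt N7940 D7940) (tt N7941 D7941) (tt N4721 F9984))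
theorem Q6072 : ∀ i, i < 6072 → P i := stepQ 6071 Q6071 (allL N6071 (tt N7938 (iv F13144)) (tt N4571 F9985) (tt N7941 (iv F13156)) (tt N4576 F9986) (tt N4569 (iv D6071)) (tt N7942 D7942))
theorem Q6073 : ∀ i, i < 6073 → P i := stepQ 6072 Q6072 (allL N6072 (tt N7939 (iv F13147)) (tt N4572 F9987) (tt N4584 F9988) (tt N7943 D7943) (tt N4570 (iv D6072)) (tt N4577 F9989))
theorem Q6074 : ∀ i, i < 6074 → P i := stepQ 6073 Q6073 (allL N6073 (tt N4715 F9990) (tt N7942 (iv F13157)) (tt N4732 F9991) (tt N4578 F9992) (tt N4731 F9993) (tt N4571 (iv D6073)))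
theorem Q6075 : ∀ i, i < 6075 → P i := stepQ 6074 Q6074 (allL N6074 (tt N4716 F9994) (tt N7943 (iv F13160)) (tt N7891 (iv F13034)) (tt N4572 (iv D6074)) (tt N4730 F9995) (tt N4579 F9996))
theorem Q6076 : ∀ i, i < 6076 → P i := stepQ 6075 Q6075 (allL N6075 (tt N4575 F9997) (tt N7944 D7944) (tt N4573 (iv D6075)) (tt N7835 (iv F12902)) (tt N7945 D7945) (tt N7925 (iv F13115)))
theorem Q6077 : ∀ i, i < 6077 → P i := stepQ 6076 Q6076 (allL N6076 (tt N4576 F9998) (tt N7912 (iv F13086)) (tt N7945 (iv F13164)) (tt N7938 (iv F13146)) (tt N4573 (iv D6076)) (tt N7946 D7946))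
theorem Q6078 : ∀ i, i < 6078 → P i := stepQ 6077 Q6077 (allL N6077 (tt N4577 F9999) (tt N7908 (iv F13072)) (tt N4589 F10000) (tt N7947 D7947) (tt N4574 (iv D6077)) (tt N7939 (iv F13150)))
theorem Q6079 : ∀ i, i < 6079 → P i := stepQ 6078 Q6078 (allL N6078 (tt N7835 (iv F12900)) (tt N7918 (iv F13099)) (tt N7834 (iv F12899)) (tt N4575 (iv D6078)) (tt N7948 D7948) (tt N7926 (iv F13120)))
theorem Q6080 : ∀ i, i < 6080 → P i := stepQ 6079 Q6079 (allL N6079 (tt N7945 (iv F13163)) (tt N7919 (iv F13101)) (tt N4576 F10001) (tt N7949 D7949) (tt N4575 (iv D6079)) (tt N7950 D7950))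
theorem Q6081 : ∀ i, i < 6081 → P i := stepQ 6080 Q6080 (allL N6080 (tt N7946 (iv F13165)) (tt N4578 F10002) (tt N7950 (iv F13167)) (tt N7942 (iv F13158)) (tt N7934 (iv F13132)) (tt N4576 (iv D6080)))
theorem Q6082 : ∀ i, i < 6082 → P i := stepQ 6081 Q6081 (allL N6081 (tt N7947 (iv F13166)) (tt N4579 F10003) (tt N7951 D7951) (tt N4577 (iv D6081)) (tt N7933 (iv F13130)) (tt N7943 (iv F13162)))
theorem Q6083 : ∀ i, i < 6083 → P i := stepQ 6082 Q6082 (allL N6082 (tt N7910 (iv F13079)) (tt N7952 D7952) (tt N4579 (iv D6082)) (tt N5348 F10004) (tt N7935 (iv F13135)) (tt N7891 (iv F13033)))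
theorem Q6084 : ∀ i, i < 6084 → P i := stepQ 6083 Q6083 (allL N6083 (tt N4582 F10005) (tt N7953 D7953) (tt N4580 (iv D6083)) (tt N7954 D7954) (tt N7955 D7955) (tt N5356 F10006))
theorem Q6085 : ∀ i, i < 6085 → P i := stepQ 6084 Q6084 (allL N6084 (tt N4583 F10007) (tt N5342 F10008) (tt N7955 (iv F13178)) (tt N4588 F10009) (tt N4580 (iv D6084)) (tt N7956 D7956))
theorem Q6086 : ∀ i, i < 6086 → P i := stepQ 6085 Q6085 (allL N6085 (tt N4584 F10010) (tt N5343 F10011) (tt N7939 (iv F13149)) (tt N7957 D7957) (tt N4581 (iv D6085)) (tt N4589 F10012))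
theorem Q6087 : ∀ i, i < 6087 → P i := stepQ 6086 Q6086 (allL N6086 (tt N7954 (iv F13173)) (tt N5361 F10013) (tt N7958 D7958) (tt N4582 (iv D6086)) (tt N7959 D7959) (tt N5357 F10014))
theorem Q6088 : ∀ i, i < 6088 → P i := stepQ 6087 Q6087 (allL N6087 (tt N7955 (iv F13177)) (tt N5364 F10015) (tt N4583 F10016) (tt N7960 D7960) (tt N4582 (iv D6087)) (tt N7961 D7961))
theorem Q6089 : ∀ i, i < 6089 → P i := stepQ 6088 Q6088 (allL N6088 (tt N7956 (iv F13179)) (tt N4585 F10017) (tt N7961 (iv F13194)) (tt N4592 F10018) (tt N5370 F10019) (tt N4583 (iv D6088)))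
theorem Q6090 : ∀ i, i < 6090 → P i := stepQ 6089 Q6089 (allL N6089 (tt N7957 (iv F13183)) (tt N4586 F10020) (tt N7962 D7962) (tt N4584 (iv D6089)) (tt N5369 F10021) (tt N4593 F10022))
theorem Q6091 : ∀ i, i < 6091 → P i := stepQ 6090 Q6090 (allL N6090 (tt N5348 F10023) (tt N7963 D7963) (tt N4586 (iv D6090)) (tt N7910 (iv F13080)) (tt N5371 F10024) (tt N4594 F10025))
theorem Q6092 : ∀ i, i < 6092 → P i := stepQ 6091 Q6091 (allL N6091 (tt N7825 (iv F12873)) (tt N4587 (iv D6091)) (tt N7848 (iv F12928)) (tt N7964 D7964) (tt N7965 D7965) (tt N7823 F12871))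
theorem Q6093 : ∀ i, i < 6093 → P i := stepQ 6092 Q6092 (allL N6092 (tt N4590 F10026) (tt N7964 (iv F13201)) (tt N7926 (iv F13119)) (tt N4587 (iv D6092)) (tt N7966 D7966) (tt N7834 (iv F12898)))
theorem Q6094 : ∀ i, i < 6094 → P i := stepQ 6093 Q6093 (allL N6093 (tt N4591 F10027) (tt N7965 (iv F13202)) (tt N4588 F10028) (tt N7967 D7967) (tt N4587 (iv D6093)) (tt N7968 D7968))
theorem Q6095 : ∀ i, i < 6095 → P i := stepQ 6094 Q6094 (allL N6094 (tt N4592 F10029) (tt N7883 (iv F13015)) (tt N7968 (iv F13206)) (tt N7956 (iv F13181)) (tt N7843 (iv F12916)) (tt N4588 (iv D6094)))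
theorem Q6096 : ∀ i, i < 6096 → P i := stepQ 6095 Q6095 (allL N6095 (tt N4593 F10030) (tt N7881 (iv F13009)) (tt N7969 D7969) (tt N4589 (iv D6095)) (tt N7842 (iv F12913)) (tt N7957 (iv F13186)))
theorem Q6097 : ∀ i, i < 6097 → P i := stepQ 6096 Q6096 (allL N6096 (tt N7926 (iv F13117)) (tt N7970 D7970) (tt N4590 (iv D6096)) (tt N7925 F13116) (tt N7971 D7971) (tt N7835 (iv F12901)))
theorem Q6098 : ∀ i, i < 6098 → P i := stepQ 6097 Q6097 (allL N6097 (tt N7966 (iv F13203)) (tt N7840 (iv F12908)) (tt N7971 (iv F13209)) (tt N7972 D7972) (tt N4590 (iv D6097)) (tt N7973 D7973))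
theorem Q6099 : ∀ i, i < 6099 → P i := stepQ 6098 Q6098 (allL N6098 (tt N7967 (iv F13204)) (tt N7841 (iv F12910)) (tt N7974 D7974) (tt N4591 (iv D6098)) (tt N7972 (iv F13210)) (tt N7975 D7975))
theorem Q6100 : ∀ i, i < 6100 → P i := stepQ 6099 Q6099 (allL N6099 (tt N7968 (iv F13205)) (tt N7833 (iv F12894)) (tt N4592 F10031) (tt N7975 (iv F13211)) (tt N7830 (iv F12887)) (tt N4591 (iv D6099)))
theorem Q6101 : ∀ i, i < 6101 → P i := stepQ 6100 Q6100 (allL N6100 (tt N7969 (iv F13207)) (tt N7976 D7976) (tt N4593 (iv D6100)) (tt N7977 D7977) (tt N7844 (iv F12917)) (tt N7962 (iv F13197)))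
theorem Q6102 : ∀ i, i < 6102 → P i := stepQ 6101 Q6101 (allL N6101 (tt N7978 D7978) (tt N4594 (iv D6101)) (tt N7976 (iv F13212)) (tt N7979 D7979) (tt N7846 (iv F12922)) (tt N7963 (iv F13199)))
theorem Q6103 : ∀ i, i < 6103 → P i := stepQ 6102 Q6102 (allL N6102 (tt N7891 (iv F13031)) (tt N7979 (iv F13213)) (tt N4716 F10032) (tt N4594 (iv D6102)) (tt N7879 (iv F13005)) (tt N7910 (iv F13082)))
theorem Q6104 : ∀ i, i < 6104 → P i := stepQ 6103 Q6103 (allL N6103 (tt N4596 F10033) (tt N7980 D7980) (tt N4595 (iv D6103)) (tt N4621 F10034) (tt N7981 D7981) (tt N4599 F10035))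
theorem Q6105 : ∀ i, i < 6105 → P i := stepQ 6104 Q6104 (allL N6104 (tt N4597 F10036) (tt N7917 (iv F13098)) (tt N7981 (iv F13217)) (tt N6135 (iv F10088)) (tt N4595 (iv D6104)) (tt N7982 D7982))
theorem Q6106 : ∀ i, i < 6106 → P i := stepQ 6105 Q6105 (allL N6105 (tt N4621 F10037) (tt N7913 (iv F13088)) (tt N4620 F10038) (tt N4596 (iv D6105)) (tt N7983 D7983) (tt N4602 F10039))
theorem Q6107 : ∀ i, i < 6107 → P i := stepQ 6106 Q6106 (allL N6106 (tt N7981 (iv F13216)) (tt N7914 (iv F13090)) (tt N4597 F10040) (tt N7984 D7984) (tt N4596 (iv D6106)) (tt N7985 D7985))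
theorem Q6108 : ∀ i, i < 6108 → P i := stepQ 6107 Q6107 (allL N6107 (tt N7982 (iv F13218)) (tt N4598 F10041) (tt N7985 (iv F13222)) (tt N6138 (iv F10093)) (tt N4604 F10042) (tt N4597 (iv D6107)))
theorem Q6109 : ∀ i, i < 6109 → P i := stepQ 6108 Q6108 (allL N6108 (tt N7986 D7986) (tt N4599 (iv D6108)) (tt N7921 (iv F13106)) (tt N6032 F10043) (tt N7987 D7987) (tt N7980 (iv F13215)))
theorem Q6110 : ∀ i, i < 6110 → P i := stepQ 6109 Q6109 (allL N6109 (tt N4603 F10044) (tt N7987 (iv F13226)) (tt N4600 F10045) (tt N7988 D7988) (tt N4599 (iv D6109)) (tt N7989 D7989))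
theorem Q6111 : ∀ i, i < 6111 → P i := stepQ 6110 Q6110 (allL N6110 (tt N4604 F10046) (tt N7924 (iv F13112)) (tt N7989 (iv F13230)) (tt N4611 F10047) (tt N7982 (iv F13219)) (tt N4600 (iv D6110)))
theorem Q6112 : ∀ i, i < 6112 → P i := stepQ 6111 Q6111 (allL N6111 (tt N4601 (iv D6111)) (tt N7986 (iv F13224)) (tt N4605 F10048) (tt N7990 D7990) (tt N7991 D7991) (tt N7911 (iv F13084)))
theorem Q6113 : ∀ i, i < 6113 → P i := stepQ 6112 Q6112 (allL N6112 (tt N7990 (iv F13231)) (tt N4602 F10049) (tt N7992 D7992) (tt N4601 (iv D6112)) (tt N7993 D7993) (tt N7913 (iv F13089)))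
theorem Q6114 : ∀ i, i < 6114 → P i := stepQ 6113 Q6113 (allL N6113 (tt N7991 (iv F13234)) (tt N4603 F10050) (tt N4606 F10051) (tt N7994 D7994) (tt N4601 (iv D6113)) (tt N7995 D7995))
theorem Q6115 : ∀ i, i < 6115 → P i := stepQ 6114 Q6114 (allL N6114 (tt N6033 F10052) (tt N7993 (iv F13239)) (tt N6031 F10053) (tt N7996 D7996) (tt N4602 (iv D6114)) (tt N7997 D7997))
theorem Q6116 : ∀ i, i < 6116 → P i := stepQ 6115 Q6115 (allL N6115 (tt N7988 (iv F13227)) (tt N7994 (iv F13240)) (tt N7998 D7998) (tt N4603 (iv D6115)) (tt N7996 (iv F13244)) (tt N7999 D7999))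
theorem Q6117 : ∀ i, i < 6117 → P i := stepQ 6116 Q6116 (allL N6116 (tt N7989 (iv F13229)) (tt N7995 (iv F13241)) (tt N4604 F10054) (tt N7999 (iv F13247)) (tt N7985 (iv F13223)) (tt N4603 (iv D6116)))
theorem Q6118 : ∀ i, i < 6118 → P i := stepQ 6117 Q6117 (allL N6117 (tt N4606 F10055) (tt N7932 (iv F13128)) (tt N7991 (iv F13235)) (tt N8000 D8000) (tt N4605 (iv D6117)) (tt N8001 D8001))
theorem Q6119 : ∀ i, i < 6119 → P i := stepQ 6118 Q6118 (allL N6118 (tt N8000 (iv F13248)) (tt N4607 F10056) (tt N8002 D8002) (tt N4606 (iv D6118)) (tt N7909 (iv F13077)) (tt N8003 D8003))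
theorem Q6120 : ∀ i, i < 6120 → P i := stepQ 6119 Q6119 (allL N6119 (tt N8001 (iv F13249)) (tt N4608 F10057) (tt N7995 (iv F13242)) (tt N8003 (iv F13251)) (tt N7915 (iv F13094)) (tt N4606 (iv D6119)))
theorem Q6121 : ∀ i, i < 6121 → P i := stepQ 6120 Q6120 (allL N6120 (tt N7935 (iv F13133)) (tt N8004 D8004) (tt N4607 (iv D6120)) (tt N4690 F10058) (tt N7910 (iv F13081)) (tt N4689 (iv F10059)))
theorem Q6122 : ∀ i, i < 6122 → P i := stepQ 6121 Q6121 (allL N6121 (tt N7936 (iv F13137)) (tt N8003 (iv F13250)) (tt N4689 F10060) (tt N4608 F10061) (tt N8005 D8005) (tt N4607 (iv D6121)))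
theorem Q6123 : ∀ i, i < 6123 → P i := stepQ 6122 Q6122 (allL N6122 (tt N5139 F10062) (tt N4610 F10063) (tt N5136 F10064) (tt N8006 D8006) (tt N4609 (iv D6122)) (tt N8007 D8007))
theorem Q6124 : ∀ i, i < 6124 → P i := stepQ 6123 Q6123 (allL N6123 (tt N4613 F10065) (tt N8006 (iv F13259)) (tt N8008 D8008) (tt N4610 (iv D6123)) (tt N4613 F10066) (tt N8009 D8009))
theorem Q6125 : ∀ i, i < 6125 → P i := stepQ 6124 Q6124 (allL N6124 (tt N4614 F10067) (tt N8007 (iv F13262)) (tt N4611 F10068) (tt N8009 (iv F13268)) (tt N7901 (iv F13060)) (tt N4610 (iv D6124)))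
theorem Q6126 : ∀ i, i < 6126 → P i := stepQ 6125 Q6125 (allL N6125 (tt N6889 (iv F11388)) (tt N4613 F10069) (tt N8010 D8010) (tt N4612 (iv D6125)) (tt N8006 (iv F13260)) (tt N8011 D8011))
theorem Q6127 : ∀ i, i < 6127 → P i := stepQ 6126 Q6126 (allL N6126 (tt N6890 (iv F11391)) (tt N4614 F10070) (tt N4616 F10071) (tt N8011 (iv F13270)) (tt N4709 F10072) (tt N4612 (iv D6126)))
theorem Q6128 : ∀ i, i < 6128 → P i := stepQ 6127 Q6127 (allL N6127 (tt N8008 (iv F13265)) (tt N8012 D8012) (tt N4613 (iv D6127)) (tt N8013 D8013) (tt N8008 (iv F13266)) (tt N8014 D8014))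
theorem Q6129 : ∀ i, i < 6129 → P i := stepQ 6128 Q6128 (allL N6128 (tt N8009 (iv F13267)) (tt N8011 (iv F13269)) (tt N8014 (iv F13271)) (tt N4614 F10073) (tt N8015 D8015) (tt N4613 (iv D6128)))
theorem Q6130 : ∀ i, i < 6130 → P i := stepQ 6129 Q6129 (allL N6129 (tt N6891 (iv F11395)) (tt N8016 D8016) (tt N4615 (iv D6129)) (tt N8017 D8017) (tt N4645 F10074) (tt N8018 D8018))
theorem Q6131 : ∀ i, i < 6131 → P i := stepQ 6130 Q6130 (allL N6130 (tt N6892 (iv F11398)) (tt N4618 F10075) (tt N8018 (iv F13274)) (tt N4616 F10076) (tt N5395 F10077) (tt N4615 (iv D6130)))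
theorem Q6132 : ∀ i, i < 6132 → P i := stepQ 6131 Q6131 (allL N6131 (tt N8019 D8019) (tt N4617 (iv D6131)) (tt N8016 (iv F13272)) (tt N8020 D8020) (tt N4646 F10078) (tt N8021 D8021))
theorem Q6133 : ∀ i, i < 6133 → P i := stepQ 6132 Q6132 (allL N6132 (tt N4689 F10079) (tt N8020 (iv F13278)) (tt N7936 (iv F13138)) (tt N4617 (iv D6132)) (tt N4658 F10080) (tt N7935 F13136))
theorem Q6134 : ∀ i, i < 6134 → P i := stepQ 6133 Q6133 (allL N6133 (tt N4690 F10081) (tt N8021 (iv F13280)) (tt N4618 F10082) (tt N7935 (iv F13134)) (tt N4657 F10083) (tt N4617 (iv D6133)))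
theorem Q6135 : ∀ i, i < 6135 → P i := stepQ 6134 Q6134 (allL N6134 (tt N5992 F10084) (tt N4620 F10085) (tt N8022 D8022) (tt N4619 (iv D6134)) (tt N8023 D8023) (tt N5994 F10086))
theorem Q6136 : ∀ i, i < 6136 → P i := stepQ 6135 Q6135 (allL N6135 (tt N4622 F10087) (tt N8023 (iv F13285)) (tt N7983 (iv F13221)) (tt N6104 F10088) (tt N4620 (iv D6135)) (tt N8024 D8024))
theorem Q6137 : ∀ i, i < 6137 → P i := stepQ 6136 Q6136 (allL N6136 (tt N8025 D8025) (tt N4621 (iv D6136)) (tt N5990 F10089) (tt N7980 (iv F13214)) (tt N8026 D8026) (tt N6032 F10090))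
theorem Q6138 : ∀ i, i < 6138 → P i := stepQ 6137 Q6137 (allL N6137 (tt N7983 (iv F13220)) (tt N8026 (iv F13292)) (tt N4622 F10091) (tt N8027 D8027) (tt N4621 (iv D6137)) (tt N8028 D8028))
theorem Q6139 : ∀ i, i < 6139 → P i := stepQ 6138 Q6138 (allL N6138 (tt N8024 (iv F13287)) (tt N6030 F10092) (tt N8028 (iv F13294)) (tt N6107 F10093) (tt N6034 F10094) (tt N4622 (iv D6138)))
theorem Q6140 : ∀ i, i < 6140 → P i := stepQ 6139 Q6139 (allL N6139 (tt N4623 (iv D6139)) (tt N4631 F10095) (tt N4644 F10096) (tt N5448 (iv F10097)) (tt N7869 (iv F12983)) (tt N4735 (iv F10098)))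
theorem Q6141 : ∀ i, i < 6141 → P i := stepQ 6140 Q6140 (allL N6140 (tt N5448 F10099) (tt N4624 F10100) (tt N5189 F10101) (tt N4623 (iv D6140)) (tt N8029 D8029) (tt N5021 (iv F10102)))
theorem Q6142 : ∀ i, i < 6142 → P i := stepQ 6141 Q6141 (allL N6141 (tt N4735 F10103) (tt N4625 F10104) (tt N4643 F10105) (tt N5021 F10106) (tt N8030 D8030) (tt N4623 (iv D6141)))
theorem Q6143 : ∀ i, i < 6143 → P i := stepQ 6142 Q6142 (allL N6142 (tt N4634 F10107) (tt N8029 (iv F13297)) (tt N5024 F10108) (tt N7873 (iv F12991)) (tt N4624 (iv D6142)) (tt N8031 D8031))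
theorem Q6144 : ∀ i, i < 6144 → P i := stepQ 6143 Q6143 (allL N6143 (tt N4636 F10109) (tt N8030 (iv F13300)) (tt N4626 F10110) (tt N8032 D8032) (tt N4625 (iv D6143)) (tt N7874 (iv F12994)))
theorem Q6145 : ∀ i, i < 6145 → P i := stepQ 6144 Q6144 (allL N6144 (tt N4627 (iv D6144)) (tt N7869 (iv F12981)) (tt N4637 F10111) (tt N8033 D8033) (tt N4631 F10112) (tt N8034 D8034))
theorem Q6146 : ∀ i, i < 6146 → P i := stepQ 6145 Q6145 (allL N6145 (tt N8033 (iv F13307)) (tt N4628 F10113) (tt N8035 D8035) (tt N4627 (iv D6145)) (tt N8036 D8036) (tt N8037 D8037))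
theorem Q6147 : ∀ i, i < 6147 → P i := stepQ 6146 Q6146 (allL N6146 (tt N8034 (iv F13309)) (tt N4629 F10114) (tt N4639 F10115) (tt N8037 (iv F13316)) (tt N4743 F10116) (tt N4627 (iv D6146)))
theorem Q6148 : ∀ i, i < 6148 → P i := stepQ 6147 Q6147 (allL N6147 (tt N7872 (iv F12987)) (tt N8037 (iv F13315)) (tt N4628 (iv D6147)) (tt N4629 F10117) (tt N8038 D8038) (tt N4628 (iv F10118)))
theorem Q6149 : ∀ i, i < 6149 → P i := stepQ 6148 Q6148 (allL N6148 (tt N7873 (iv F12990)) (tt N8036 (iv F13313)) (tt N8038 (iv F13317)) (tt N4634 F10119) (tt N4628 (iv D6148)) (tt N8039 D8039))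
theorem Q6150 : ∀ i, i < 6150 → P i := stepQ 6149 Q6149 (allL N6149 (tt N7874 (iv F12992)) (tt N4743 F10120) (tt N4630 F10121) (tt N8040 D8040) (tt N4629 (iv D6149)) (tt N4636 F10122))
theorem Q6151 : ∀ i, i < 6151 → P i := stepQ 6150 Q6150 (allL N6150 (tt N5449 F10123) (tt N4634 F10124) (tt N5446 F10125) (tt N8036 (iv F13314)) (tt N4632 (iv D6150)) (tt N8041 D8041))
theorem Q6152 : ∀ i, i < 6152 → P i := stepQ 6151 Q6151 (allL N6151 (tt N5183 F10126) (tt N4633 (iv D6151)) (tt N5444 F10127) (tt N5011 F10128) (tt N8042 D8042) (tt N5010 F10129))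
theorem Q6153 : ∀ i, i < 6153 → P i := stepQ 6152 Q6152 (allL N6152 (tt N5024 F10130) (tt N8042 (iv F13326)) (tt N4634 F10131) (tt N8043 D8043) (tt N4633 (iv D6152)) (tt N8044 D8044))
theorem Q6154 : ∀ i, i < 6154 → P i := stepQ 6153 Q6153 (allL N6153 (tt N8031 (iv F13302)) (tt N8041 (iv F13322)) (tt N8044 (iv F13331)) (tt N8039 (iv F13318)) (tt N8045 D8045) (tt N4634 (iv D6153)))
theorem Q6155 : ∀ i, i < 6155 → P i := stepQ 6154 Q6154 (allL N6154 (tt N5022 F10132) (tt N4741 F10133) (tt N5012 F10134) (tt N8046 D8046) (tt N4635 (iv D6154)) (tt N8045 (iv F13336)))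
theorem Q6156 : ∀ i, i < 6156 → P i := stepQ 6155 Q6155 (allL N6155 (tt N8032 (iv F13305)) (tt N4742 F10135) (tt N8047 D8047) (tt N4636 (iv D6155)) (tt N8046 (iv F13339)) (tt N8040 (iv F13320)))
theorem Q6157 : ∀ i, i < 6157 → P i := stepQ 6156 Q6156 (allL N6156 (tt N4638 F10136) (tt N4668 F10137) (tt N8048 D8048) (tt N4637 (iv D6156)) (tt N4739 F10138) (tt N8049 D8049))
theorem Q6158 : ∀ i, i < 6158 → P i := stepQ 6157 Q6157 (allL N6157 (tt N4639 F10139) (tt N4669 F10140) (tt N8034 (iv F13310)) (tt N8049 (iv F13344)) (tt N4738 F10141) (tt N4637 (iv D6157)))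
theorem Q6159 : ∀ i, i < 6159 → P i := stepQ 6158 Q6158 (allL N6158 (tt N8048 (iv F13340)) (tt N8050 D8050) (tt N4638 (iv D6158)) (tt N8051 D8051) (tt N4744 F10142) (tt N8052 D8052))
theorem Q6160 : ∀ i, i < 6160 → P i := stepQ 6159 Q6159 (allL N6159 (tt N8049 (iv F13342)) (tt N4641 F10143) (tt N8052 (iv F13349)) (tt N4639 F10144) (tt N8053 D8053) (tt N4638 (iv D6159)))
theorem Q6161 : ∀ i, i < 6161 → P i := stepQ 6160 Q6160 (allL N6160 (tt N8054 D8054) (tt N4640 (iv D6160)) (tt N8050 (iv F13345)) (tt N4665 F10145) (tt N4745 F10146) (tt N4664 F10147))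
theorem Q6162 : ∀ i, i < 6162 → P i := stepQ 6161 Q6161 (allL N6161 (tt N4677 F10148) (tt N8053 (iv F13350)) (tt N4666 F10149) (tt N4732 F10150) (tt N4641 (iv D6161)) (tt N4733 F10151))
theorem Q6163 : ∀ i, i < 6163 → P i := stepQ 6162 Q6162 (allL N6162 (tt N8055 D8055) (tt N4642 (iv D6162)) (tt N8030 (iv F13301)) (tt N8056 D8056) (tt N4643 F10152) (tt N7878 (iv F13002)))
theorem Q6164 : ∀ i, i < 6164 → P i := stepQ 6163 Q6163 (allL N6163 (tt N4658 F10153) (tt N8056 (iv F13360)) (tt N8005 (iv F13255)) (tt N4642 (iv D6163)) (tt N4689 F10154) (tt N7879 (iv F13006)))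
theorem Q6165 : ∀ i, i < 6165 → P i := stepQ 6164 Q6164 (allL N6164 (tt N4643 (iv D6164)) (tt N4653 F10155) (tt N4735 F10156) (tt N4687 F10157) (tt N8055 (iv F13359)) (tt N4644 F10158))
theorem Q6166 : ∀ i, i < 6166 → P i := stepQ 6165 Q6165 (allL N6165 (tt N7704 (iv F12722)) (tt N4645 (iv D6165)) (tt N4646 F10159) (tt N8057 D8057) (tt N8016 (iv F13273)) (tt N4654 F10160))
theorem Q6167 : ∀ i, i < 6167 → P i := stepQ 6166 Q6166 (allL N6166 (tt N6893 (iv F11402)) (tt N8057 (iv F13363)) (tt N5517 F10161) (tt N4645 (iv D6166)) (tt N8058 D8058) (tt N5494 F10162))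
theorem Q6168 : ∀ i, i < 6168 → P i := stepQ 6167 Q6167 (allL N6167 (tt N4646 (iv D6167)) (tt N4687 F10163) (tt N7704 (iv F12723)) (tt N4653 F10164) (tt N8019 (iv F13277)) (tt N4652 F10165))
theorem Q6169 : ∀ i, i < 6169 → P i := stepQ 6168 Q6168 (allL N6168 (tt N4648 F10166) (tt N7875 (iv F12996)) (tt N8059 D8059) (tt N4647 (iv D6168)) (tt N8060 D8060) (tt N7889 (iv F13028)))
theorem Q6170 : ∀ i, i < 6170 → P i := stepQ 6169 Q6169 (allL N6169 (tt N4649 F10167) (tt N7876 (iv F12999)) (tt N4669 F10168) (tt N7889 (iv F13027)) (tt N8061 D8061) (tt N4647 (iv D6169)))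
theorem Q6171 : ∀ i, i < 6171 → P i := stepQ 6170 Q6170 (allL N6170 (tt N8059 (iv F13367)) (tt N7887 (iv F13022)) (tt N4648 (iv D6170)) (tt N8062 D8062) (tt N8063 D8063) (tt N7884 F13019))
theorem Q6172 : ∀ i, i < 6172 → P i := stepQ 6171 Q6171 (allL N6171 (tt N8060 (iv F13368)) (tt N4650 F10169) (tt N8063 (iv F13374)) (tt N4655 F10170) (tt N4648 (iv D6171)) (tt N8064 D8064))
theorem Q6173 : ∀ i, i < 6173 → P i := stepQ 6172 Q6172 (allL N6172 (tt N8061 (iv F13371)) (tt N4651 F10171) (tt N4673 F10172) (tt N8065 D8065) (tt N4649 (iv D6172)) (tt N4656 F10173))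
theorem Q6174 : ∀ i, i < 6174 → P i := stepQ 6173 Q6173 (allL N6173 (tt N5371 F10174) (tt N8064 (iv F13375)) (tt N5326 F10175) (tt N4657 F10176) (tt N5348 F10177) (tt N4650 (iv D6173)))
theorem Q6175 : ∀ i, i < 6175 → P i := stepQ 6174 Q6174 (allL N6174 (tt N7879 (iv F13003)) (tt N8065 (iv F13378)) (tt N4730 F10179) (tt N4651 (iv D6174)) (tt N7891 (iv F13032)) (tt N4658 F10178))
theorem Q6176 : ∀ i, i < 6176 → P i := stepQ 6175 Q6175 (allL N6175 (tt N4654 F10180) (tt N7622 (iv F12624)) (tt N4652 (iv D6175)) (tt N4692 F10181) (tt N8066 D8066) (tt N7704 (iv F12725)))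
theorem Q6177 : ∀ i, i < 6177 → P i := stepQ 6176 Q6176 (allL N6176 (tt N4655 F10182) (tt N5515 F10183) (tt N8066 (iv F13381)) (tt N8060 (iv F13370)) (tt N4652 (iv D6176)) (tt N8067 D8067))
theorem Q6178 : ∀ i, i < 6178 → P i := stepQ 6177 Q6177 (allL N6177 (tt N4656 F10184) (tt N8055 (iv F13357)) (tt N4681 F10185) (tt N8068 D8068) (tt N4653 (iv D6177)) (tt N8061 (iv F13373)))
theorem Q6179 : ∀ i, i < 6179 → P i := stepQ 6178 Q6178 (allL N6178 (tt N4692 F10186) (tt N5494 F10187) (tt N4691 F10188) (tt N4654 (iv D6178)) (tt N8069 D8069) (tt N8057 (iv F13365)))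
theorem Q6180 : ∀ i, i < 6180 → P i := stepQ 6179 Q6179 (allL N6179 (tt N8066 (iv F13380)) (tt N5394 F10189) (tt N4655 F10190) (tt N8070 D8070) (tt N4654 (iv D6179)) (tt N8071 D8071))
theorem Q6181 : ∀ i, i < 6181 → P i := stepQ 6180 Q6180 (allL N6180 (tt N8067 (iv F13382)) (tt N4657 F10191) (tt N8071 (iv F13390)) (tt N8064 (iv F13376)) (tt N8021 (iv F13281)) (tt N4655 (iv D6180)))
theorem Q6182 : ∀ i, i < 6182 → P i := stepQ 6181 Q6181 (allL N6181 (tt N8068 (iv F13384)) (tt N4658 F10192) (tt N8072 D8072) (tt N4656 (iv D6181)) (tt N8020 (iv F13279)) (tt N8065 (iv F13379)))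
theorem Q6183 : ∀ i, i < 6183 → P i := stepQ 6182 Q6182 (allL N6182 (tt N8005 (iv F13254)) (tt N8073 D8073) (tt N4658 (iv D6182)) (tt N4731 F10194) (tt N7936 (iv F13140)) (tt N4730 F10193))
theorem Q6184 : ∀ i, i < 6184 → P i := stepQ 6183 Q6183 (allL N6183 (tt N4659 (iv D6183)) (tt N7828 (iv F12881)) (tt N4663 F10195) (tt N8074 D8074) (tt N7823 (iv F12870)) (tt N8075 D8075))
theorem Q6185 : ∀ i, i < 6185 → P i := stepQ 6184 Q6184 (allL N6184 (tt N8074 (iv F13393)) (tt N4660 F10196) (tt N8076 D8076) (tt N4659 (iv D6184)) (tt N8077 D8077) (tt N8078 D8078))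
theorem Q6186 : ∀ i, i < 6186 → P i := stepQ 6185 Q6185 (allL N6185 (tt N8075 (iv F13394)) (tt N4661 F10197) (tt N4665 F10198) (tt N8078 (iv F13398)) (tt N8079 D8079) (tt N4659 (iv D6185)))
theorem Q6187 : ∀ i, i < 6187 → P i := stepQ 6186 Q6186 (allL N6186 (tt N7831 (iv F12888)) (tt N8078 (iv F13397)) (tt N4660 (iv D6186)) (tt N4661 F10199) (tt N8080 D8080) (tt N4660 (iv F10200)))
theorem Q6188 : ∀ i, i < 6188 → P i := stepQ 6187 Q6187 (allL N6187 (tt N7832 (iv F12891)) (tt N8077 (iv F13396)) (tt N8080 (iv F13401)) (tt N7826 (iv F12877)) (tt N4660 (iv D6187)) (tt N8081 D8081))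
theorem Q6189 : ∀ i, i < 6189 → P i := stepQ 6188 Q6188 (allL N6188 (tt N7833 (iv F12893)) (tt N8079 (iv F13399)) (tt N4662 F10201) (tt N8082 D8082) (tt N4661 (iv D6188)) (tt N7827 (iv F12880)))
theorem Q6190 : ∀ i, i < 6190 → P i := stepQ 6189 Q6189 (allL N6189 (tt N4664 F10202) (tt N7857 (iv F12952)) (tt N8083 D8083) (tt N4663 (iv D6189)) (tt N8084 D8084) (tt N8054 (iv F13356)))
theorem Q6191 : ∀ i, i < 6191 → P i := stepQ 6190 Q6190 (allL N6190 (tt N4665 F10203) (tt N7858 (iv F12955)) (tt N8075 (iv F13395)) (tt N8054 (iv F13354)) (tt N8085 D8085) (tt N4663 (iv D6190)))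
theorem Q6192 : ∀ i, i < 6192 → P i := stepQ 6191 Q6191 (allL N6191 (tt N8083 (iv F13402)) (tt N8052 (iv F13348)) (tt N4664 (iv D6191)) (tt N8086 D8086) (tt N8087 D8087) (tt N8050 F13347))
theorem Q6193 : ∀ i, i < 6193 → P i := stepQ 6192 Q6192 (allL N6192 (tt N8084 (iv F13403)) (tt N4666 F10204) (tt N8087 (iv F13405)) (tt N7850 (iv F12935)) (tt N4664 (iv D6192)) (tt N8088 D8088))
theorem Q6194 : ∀ i, i < 6194 → P i := stepQ 6193 Q6193 (allL N6193 (tt N8085 (iv F13404)) (tt N4667 F10205) (tt N8079 (iv F13400)) (tt N8089 D8089) (tt N4665 (iv D6193)) (tt N7847 (iv F12926)))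
theorem Q6195 : ∀ i, i < 6195 → P i := stepQ 6194 Q6194 (allL N6194 (tt N5399 F10206) (tt N8088 (iv F13406)) (tt N4733 F10207) (tt N5512 F10208) (tt N4734 F10209) (tt N4666 (iv D6194)))
theorem Q6196 : ∀ i, i < 6196 → P i := stepQ 6195 Q6195 (allL N6195 (tt N5374 F10210) (tt N8089 (iv F13409)) (tt N5329 F10211) (tt N4667 (iv D6195)) (tt N4746 F10212) (tt N5513 F10213))
theorem Q6197 : ∀ i, i < 6197 → P i := stepQ 6196 Q6196 (allL N6196 (tt N4670 F10214) (tt N8090 D8090) (tt N4668 (iv D6196)) (tt N8091 D8091) (tt N8092 D8092) (tt N8093 D8093))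
theorem Q6198 : ∀ i, i < 6198 → P i := stepQ 6197 Q6197 (allL N6197 (tt N4671 F10215) (tt N4739 F10216) (tt N8092 (iv F13414)) (tt N4680 F10217) (tt N4668 (iv D6197)) (tt N8094 D8094))
theorem Q6199 : ∀ i, i < 6199 → P i := stepQ 6198 Q6198 (allL N6198 (tt N4672 F10218) (tt N8049 (iv F13343)) (tt N8093 (iv F13416)) (tt N4669 F10219) (tt N8095 D8095) (tt N4668 (iv D6198)))
theorem Q6200 : ∀ i, i < 6200 → P i := stepQ 6199 Q6199 (allL N6199 (tt N4673 F10220) (tt N4738 F10221) (tt N8061 (iv F13372)) (tt N8096 D8096) (tt N4669 (iv D6199)) (tt N4681 F10222))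
theorem Q6201 : ∀ i, i < 6201 → P i := stepQ 6200 Q6200 (allL N6200 (tt N8097 D8097) (tt N4670 (iv D6200)) (tt N4674 F10223) (tt N8098 D8098) (tt N8099 D8099) (tt N7859 (iv F12959)))
theorem Q6202 : ∀ i, i < 6202 → P i := stepQ 6201 Q6201 (allL N6201 (tt N8091 (iv F13412)) (tt N8098 (iv F13425)) (tt N8100 D8100) (tt N4670 (iv D6201)) (tt N8101 D8101) (tt N8102 D8102))
theorem Q6203 : ∀ i, i < 6203 → P i := stepQ 6202 Q6202 (allL N6202 (tt N8092 (iv F13413)) (tt N8099 (iv F13426)) (tt N4671 F10224) (tt N8103 D8103) (tt N4670 (iv D6202)) (tt N8104 D8104))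
theorem Q6204 : ∀ i, i < 6204 → P i := stepQ 6203 Q6203 (allL N6203 (tt N8093 (iv F13415)) (tt N7859 (iv F12958)) (tt N4672 F10225) (tt N8102 (iv F13429)) (tt N8105 D8105) (tt N4670 (iv D6203)))
theorem Q6205 : ∀ i, i < 6205 → P i := stepQ 6204 Q6204 (allL N6204 (tt N8094 (iv F13417)) (tt N4676 F10226) (tt N8104 (iv F13431)) (tt N4684 F10227) (tt N8106 D8106) (tt N4671 (iv D6204)))
theorem Q6206 : ∀ i, i < 6206 → P i := stepQ 6205 Q6205 (allL N6205 (tt N8095 (iv F13420)) (tt N4677 F10228) (tt N8105 (iv F13432)) (tt N8107 D8107) (tt N4672 (iv D6205)) (tt N8106 (iv F13435)))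
theorem Q6207 : ∀ i, i < 6207 → P i := stepQ 6206 Q6206 (allL N6206 (tt N8096 (iv F13421)) (tt N4678 F10229) (tt N8108 D8108) (tt N4673 (iv D6206)) (tt N8107 (iv F13437)) (tt N4685 F10230))
theorem Q6208 : ∀ i, i < 6208 → P i := stepQ 6207 Q6207 (allL N6207 (tt N4674 (iv D6207)) (tt N8054 (iv F13353)) (tt N8097 (iv F13424)) (tt N7858 (iv F12957)) (tt N8109 D8109) (tt N7857 F12953))
theorem Q6209 : ∀ i, i < 6209 → P i := stepQ 6208 Q6208 (allL N6208 (tt N8109 (iv F13440)) (tt N4675 F10231) (tt N8099 (iv F13427)) (tt N5375 (iv F10232)) (tt N4674 (iv D6208)) (tt N5398 (iv F10233)))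
theorem Q6210 : ∀ i, i < 6210 → P i := stepQ 6209 Q6209 (allL N6209 (tt N4733 F10234) (tt N8106 (iv F13433)) (tt N5399 F10235) (tt N4704 F10236) (tt N4676 (iv D6209)) (tt N4677 F10237))
theorem Q6211 : ∀ i, i < 6211 → P i := stepQ 6210 Q6210 (allL N6210 (tt N4732 F10238) (tt N8107 (iv F13436)) (tt N4715 F10239) (tt N4677 (iv D6210)) (tt N4678 F10240) (tt N4704 F10241))
theorem Q6212 : ∀ i, i < 6212 → P i := stepQ 6211 Q6211 (allL N6211 (tt N4731 F10242) (tt N8110 D8110) (tt N4678 (iv D6211)) (tt N8005 (iv F13256)) (tt N4715 F10243) (tt N4686 F10244))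
theorem Q6213 : ∀ i, i < 6213 → P i := stepQ 6212 Q6212 (allL N6212 (tt N4682 F10245) (tt N5121 F10246) (tt N8057 (iv F13364)) (tt N4679 (iv D6212)) (tt N8111 D8111) (tt N4691 F10247))
theorem Q6214 : ∀ i, i < 6214 → P i := stepQ 6213 Q6213 (allL N6213 (tt N4683 F10248) (tt N5280 F10249) (tt N4680 F10250) (tt N8112 D8112) (tt N4679 (iv D6213)) (tt N5914 F10251))
theorem Q6215 : ∀ i, i < 6215 → P i := stepQ 6214 Q6214 (allL N6214 (tt N4684 F10252) (tt N4720 F10253) (tt N5914 F10254) (tt N8094 (iv F13419)) (tt N4700 F10255) (tt N4680 (iv D6214)))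
theorem Q6216 : ∀ i, i < 6216 → P i := stepQ 6215 Q6215 (allL N6215 (tt N4685 F10256) (tt N4718 F10257) (tt N8113 D8113) (tt N4681 (iv D6215)) (tt N4699 F10258) (tt N8096 (iv F13423)))
theorem Q6217 : ∀ i, i < 6217 → P i := stepQ 6216 Q6216 (allL N6216 (tt N8057 (iv F13362)) (tt N4783 F10259) (tt N4682 (iv D6216)) (tt N7704 (iv F12724)) (tt N8114 D8114) (tt N4692 F10260))
theorem Q6218 : ∀ i, i < 6218 → P i := stepQ 6217 Q6217 (allL N6217 (tt N8111 (iv F13446)) (tt N4697 F10261) (tt N8114 (iv F13454)) (tt N8115 D8115) (tt N4682 (iv D6217)) (tt N8116 D8116))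
theorem Q6219 : ∀ i, i < 6219 → P i := stepQ 6218 Q6218 (allL N6218 (tt N8112 (iv F13448)) (tt N4698 F10262) (tt N8117 D8117) (tt N4683 (iv D6218)) (tt N8115 (iv F13456)) (tt N5918 F10263))
theorem Q6220 : ∀ i, i < 6220 → P i := stepQ 6219 Q6219 (allL N6219 (tt N8113 (iv F13451)) (tt N8118 D8118) (tt N4685 (iv D6219)) (tt N8119 D8119) (tt N4701 F10264) (tt N8108 (iv F13439)))
theorem Q6221 : ∀ i, i < 6221 → P i := stepQ 6220 Q6220 (allL N6220 (tt N8120 D8120) (tt N4686 (iv D6220)) (tt N8118 (iv F13460)) (tt N8121 D8121) (tt N4703 F10265) (tt N8110 (iv F13445)))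
theorem Q6222 : ∀ i, i < 6222 → P i := stepQ 6221 Q6221 (allL N6221 (tt N4730 F10266) (tt N8121 (iv F13464)) (tt N7879 (iv F13004)) (tt N4686 (iv D6221)) (tt N4716 F10267) (tt N8005 (iv F13257)))
theorem Q6223 : ∀ i, i < 6223 → P i := stepQ 6222 Q6222 (allL N6222 (tt N4688 F10268) (tt N8019 (iv F13276)) (tt N6902 (iv F11421)) (tt N8122 D8122) (tt N4687 (iv D6222)) (tt N8123 D8123))
theorem Q6224 : ∀ i, i < 6224 → P i := stepQ 6223 Q6223 (allL N6223 (tt N8122 (iv F13466)) (tt N4689 F10269) (tt N8124 D8124) (tt N4688 (iv D6223)) (tt N8056 (iv F13361)) (tt N8004 (iv F13253)))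
theorem Q6225 : ∀ i, i < 6225 → P i := stepQ 6224 Q6224 (allL N6224 (tt N8123 (iv F13467)) (tt N4690 F10270) (tt N6904 (iv F11426)) (tt N8004 (iv F13252)) (tt N5514 F10271) (tt N4688 (iv D6224)))
theorem Q6226 : ∀ i, i < 6226 → P i := stepQ 6225 Q6225 (allL N6225 (tt N4693 F10272) (tt N5284 F10273) (tt N8069 (iv F13387)) (tt N5913 F10274) (tt N4691 (iv D6225)) (tt N8125 D8125))
theorem Q6227 : ∀ i, i < 6227 → P i := stepQ 6226 Q6226 (allL N6226 (tt N7624 (iv F12629)) (tt N4692 (iv D6226)) (tt N4694 F10275) (tt N7622 (iv F12625)) (tt N8126 D8126) (tt N4783 F10276))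
theorem Q6228 : ∀ i, i < 6228 → P i := stepQ 6227 Q6227 (allL N6227 (tt N8069 (iv F13385)) (tt N8126 (iv F13472)) (tt N4693 F10277) (tt N8127 D8127) (tt N4692 (iv D6227)) (tt N8128 D8128))
theorem Q6229 : ∀ i, i < 6229 → P i := stepQ 6228 Q6228 (allL N6228 (tt N8125 (iv F13469)) (tt N4696 F10278) (tt N8128 (iv F13474)) (tt N5917 F10279) (tt N8116 (iv F13458)) (tt N4693 (iv D6228)))
theorem Q6230 : ∀ i, i < 6230 → P i := stepQ 6229 Q6229 (allL N6229 (tt N4694 (iv D6229)) (tt N5083 F10280) (tt N7624 (iv F12631)) (tt N4781 F10281) (tt N8129 D8129) (tt N4782 F10282))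
theorem Q6231 : ∀ i, i < 6231 → P i := stepQ 6230 Q6230 (allL N6230 (tt N8129 (iv F13475)) (tt N4695 F10283) (tt N8126 (iv F13473)) (tt N8130 D8130) (tt N4694 (iv D6230)) (tt N8131 D8131))
theorem Q6232 : ∀ i, i < 6232 → P i := stepQ 6231 Q6231 (allL N6231 (tt N5126 F10284) (tt N8130 (iv F13477)) (tt N8132 D8132) (tt N4695 (iv D6231)) (tt N4780 F10285) (tt N8133 D8133))
theorem Q6233 : ∀ i, i < 6233 → P i := stepQ 6232 Q6232 (allL N6232 (tt N5125 F10286) (tt N8131 (iv F13479)) (tt N4696 F10287) (tt N8133 (iv F13487)) (tt N4785 F10288) (tt N4695 (iv D6232)))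
theorem Q6234 : ∀ i, i < 6234 → P i := stepQ 6233 Q6233 (allL N6233 (tt N5124 F10289) (tt N8116 (iv F13457)) (tt N4785 F10290) (tt N8134 D8134) (tt N4696 (iv D6233)) (tt N4697 F10291))
theorem Q6235 : ∀ i, i < 6235 → P i := stepQ 6234 Q6234 (allL N6234 (tt N5123 F10292) (tt N8115 (iv F13455)) (tt N8135 D8135) (tt N4697 (iv D6234)) (tt N4698 F10293) (tt N8134 (iv F13490)))
theorem Q6236 : ∀ i, i < 6236 → P i := stepQ 6235 Q6235 (allL N6235 (tt N5282 F10294) (tt N8136 D8136) (tt N4698 (iv D6235)) (tt N5267 F10295) (tt N8135 (iv F13492)) (tt N5279 F10296))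
theorem Q6237 : ∀ i, i < 6237 → P i := stepQ 6236 Q6236 (allL N6236 (tt N4701 F10297) (tt N8137 D8137) (tt N4699 (iv D6236)) (tt N8138 D8138) (tt N8113 (iv F13452)) (tt N8139 D8139))
theorem Q6238 : ∀ i, i < 6238 → P i := stepQ 6237 Q6237 (allL N6237 (tt N4702 F10298) (tt N4719 F10299) (tt N8139 (iv F13500)) (tt N4700 F10300) (tt N8140 D8140) (tt N4699 (iv D6237)))
theorem Q6239 : ∀ i, i < 6239 → P i := stepQ 6238 Q6238 (allL N6238 (tt N8141 D8141) (tt N4701 (iv D6238)) (tt N4703 F10301) (tt N8142 D8142) (tt N8118 (iv F13461)) (tt N4712 (iv F10302)))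
theorem Q6240 : ∀ i, i < 6240 → P i := stepQ 6239 Q6239 (allL N6239 (tt N8138 (iv F13496)) (tt N8142 (iv F13508)) (tt N8143 D8143) (tt N4701 (iv D6239)) (tt N8144 D8144) (tt N8145 D8145))
theorem Q6241 : ∀ i, i < 6241 → P i := stepQ 6240 Q6240 (allL N6240 (tt N8139 (iv F13499)) (tt N4712 F10303) (tt N4702 F10304) (tt N8145 (iv F13517)) (tt N8146 D8146) (tt N4701 (iv D6240)))
theorem Q6242 : ∀ i, i < 6242 → P i := stepQ 6241 Q6241 (allL N6241 (tt N8140 (iv F13502)) (tt N4704 F10305) (tt N8146 (iv F13519)) (tt N8106 (iv F13434)) (tt N4702 (iv D6241)) (tt N8107 (iv F13438)))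
theorem Q6243 : ∀ i, i < 6243 → P i := stepQ 6242 Q6242 (allL N6242 (tt N4703 (iv D6242)) (tt N4728 F10306) (tt N8141 (iv F13504)) (tt N4711 F10307) (tt N8120 (iv F13463)) (tt N4710 F10308))
theorem Q6244 : ∀ i, i < 6244 → P i := stepQ 6243 Q6243 (allL N6243 (tt N4708 F10309) (tt N6862 (iv F11338)) (tt N8147 D8147) (tt N4705 (iv D6243)) (tt N6862 (iv F11339)) (tt N8148 D8148))
theorem Q6245 : ∀ i, i < 6245 → P i := stepQ 6244 Q6244 (allL N6244 (tt N4709 F10310) (tt N6863 (iv F11341)) (tt N4706 F10311) (tt N8148 (iv F13525)) (tt N6890 (iv F11394)) (tt N4705 (iv D6244)))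
theorem Q6246 : ∀ i, i < 6246 → P i := stepQ 6245 Q6245 (allL N6245 (tt N6862 (iv F11337)) (tt N7900 (iv F13055)) (tt N8149 D8149) (tt N4707 (iv D6245)) (tt N4708 F10312) (tt N8150 D8150))
theorem Q6247 : ∀ i, i < 6247 → P i := stepQ 6246 Q6246 (allL N6246 (tt N6863 (iv F11340)) (tt N7901 (iv F13058)) (tt N6859 (iv F11332)) (tt N8150 (iv F13527)) (tt N8007 (iv F13264)) (tt N4707 (iv D6246)))
theorem Q6248 : ∀ i, i < 6248 → P i := stepQ 6247 Q6247 (allL N6247 (tt N8147 (iv F13520)) (tt N8151 D8151) (tt N4708 (iv D6247)) (tt N8152 D8152) (tt N8149 (iv F13526)) (tt N8153 D8153))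
theorem Q6249 : ∀ i, i < 6249 → P i := stepQ 6248 Q6248 (allL N6248 (tt N8148 (iv F13523)) (tt N7903 (iv F13061)) (tt N8153 (iv F13532)) (tt N4709 F10313) (tt N8154 D8154) (tt N4708 (iv D6248)))
theorem Q6250 : ∀ i, i < 6250 → P i := stepQ 6249 Q6249 (allL N6249 (tt N4712 F10314) (tt N8155 D8155) (tt N4710 (iv D6249)) (tt N8156 D8156) (tt N8157 D8157) (tt N8141 (iv F13505)))
theorem Q6251 : ∀ i, i < 6251 → P i := stepQ 6250 Q6250 (allL N6250 (tt N4713 F10315) (tt N7938 (iv F13145)) (tt N8157 (iv F13538)) (tt N7912 (iv F13087)) (tt N4710 (iv D6250)) (tt N8158 D8158))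
theorem Q6252 : ∀ i, i < 6252 → P i := stepQ 6251 Q6251 (allL N6251 (tt N4714 F10316) (tt N7939 (iv F13148)) (tt N5892 F10317) (tt N8159 D8159) (tt N4711 (iv D6251)) (tt N7908 (iv F13075)))
theorem Q6253 : ∀ i, i < 6253 → P i := stepQ 6252 Q6252 (allL N6252 (tt N8156 (iv F13534)) (tt N8145 (iv F13515)) (tt N8160 D8160) (tt N4712 (iv D6252)) (tt N8161 D8161) (tt N8142 (iv F13509)))
theorem Q6254 : ∀ i, i < 6254 → P i := stepQ 6253 Q6253 (allL N6253 (tt N8157 (iv F13537)) (tt N8146 (iv F13518)) (tt N4713 F10318) (tt N8162 D8162) (tt N4712 (iv D6253)) (tt N8163 D8163))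
theorem Q6255 : ∀ i, i < 6255 → P i := stepQ 6254 Q6254 (allL N6254 (tt N8158 (iv F13539)) (tt N4715 F10319) (tt N8163 (iv F13544)) (tt N7915 (iv F13093)) (tt N8110 (iv F13444)) (tt N4713 (iv D6254)))
theorem Q6256 : ∀ i, i < 6256 → P i := stepQ 6255 Q6255 (allL N6255 (tt N8159 (iv F13540)) (tt N4716 F10320) (tt N8164 D8164) (tt N4714 (iv D6255)) (tt N8121 (iv F13465)) (tt N7909 (iv F13078)))
theorem Q6257 : ∀ i, i < 6257 → P i := stepQ 6256 Q6256 (allL N6256 (tt N8165 D8165) (tt N4717 (iv D6256)) (tt N8137 (iv F13495)) (tt N5959 F10321) (tt N8166 D8166) (tt N8167 D8167))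
theorem Q6258 : ∀ i, i < 6258 → P i := stepQ 6257 Q6257 (allL N6257 (tt N4723 F10322) (tt N8166 (iv F13547)) (tt N4718 F10323) (tt N8168 D8168) (tt N4717 (iv D6257)) (tt N8169 D8169))
theorem Q6259 : ∀ i, i < 6259 → P i := stepQ 6258 Q6258 (allL N6258 (tt N4724 F10324) (tt N8167 (iv F13548)) (tt N4719 F10325) (tt N5438 F10326) (tt N8170 D8170) (tt N4717 (iv D6258)))
theorem Q6260 : ∀ i, i < 6260 → P i := stepQ 6259 Q6259 (allL N6259 (tt N4725 F10327) (tt N8096 (iv F13422)) (tt N8169 (iv F13553)) (tt N4738 F10328) (tt N8171 D8171) (tt N4718 (iv D6259)))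
theorem Q6261 : ∀ i, i < 6261 → P i := stepQ 6260 Q6260 (allL N6260 (tt N4726 F10329) (tt N8140 (iv F13503)) (tt N8170 (iv F13555)) (tt N8172 D8172) (tt N4719 (iv D6260)) (tt N8171 (iv F13557)))
theorem Q6262 : ∀ i, i < 6262 → P i := stepQ 6261 Q6261 (allL N6261 (tt N4727 F10330) (tt N8094 (iv F13418)) (tt N8173 D8173) (tt N4720 (iv D6261)) (tt N8172 (iv F13559)) (tt N4739 F10331))
theorem Q6263 : ∀ i, i < 6263 → P i := stepQ 6262 Q6262 (allL N6262 (tt N4721 (iv D6262)) (tt N8165 (iv F13545)) (tt N4728 F10332) (tt N7958 (iv F13189)) (tt N8174 D8174) (tt N7937 (iv F13142)))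
theorem Q6264 : ∀ i, i < 6264 → P i := stepQ 6263 Q6263 (allL N6263 (tt N7958 (iv F13187)) (tt N4722 F10333) (tt N7954 (iv F13175)) (tt N4721 (iv D6263)) (tt N8175 D8175) (tt N7940 (iv F13153)))
theorem Q6265 : ∀ i, i < 6265 → P i := stepQ 6264 Q6264 (allL N6264 (tt N8174 (iv F13563)) (tt N4723 F10334) (tt N4729 F10335) (tt N8176 D8176) (tt N4721 (iv D6264)) (tt N8177 D8177))
theorem Q6266 : ∀ i, i < 6266 → P i := stepQ 6265 Q6265 (allL N6265 (tt N5960 F10336) (tt N8175 (iv F13565)) (tt N5958 F10337) (tt N8178 D8178) (tt N4722 (iv D6265)) (tt N8179 D8179))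
theorem Q6267 : ∀ i, i < 6267 → P i := stepQ 6266 Q6266 (allL N6266 (tt N5438 F10338) (tt N7940 (iv F13152)) (tt N5436 F10339) (tt N4724 F10340) (tt N8180 D8180) (tt N4722 (iv D6266)))
theorem Q6268 : ∀ i, i < 6268 → P i := stepQ 6267 Q6267 (allL N6267 (tt N8168 (iv F13550)) (tt N8176 (iv F13566)) (tt N8181 D8181) (tt N4723 (iv D6267)) (tt N8178 (iv F13570)) (tt N8182 D8182))
theorem Q6269 : ∀ i, i < 6269 → P i := stepQ 6268 Q6268 (allL N6268 (tt N8169 (iv F13552)) (tt N8177 (iv F13567)) (tt N4725 F10341) (tt N8182 (iv F13575)) (tt N8183 D8183) (tt N4723 (iv D6268)))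
theorem Q6270 : ∀ i, i < 6270 → P i := stepQ 6269 Q6269 (allL N6269 (tt N8170 (iv F13554)) (tt N7941 (iv F13155)) (tt N4726 F10342) (tt N8184 D8184) (tt N4724 (iv D6269)) (tt N8183 (iv F13577)))
theorem Q6271 : ∀ i, i < 6271 → P i := stepQ 6270 Q6270 (allL N6270 (tt N8171 (iv F13556)) (tt N4732 F10343) (tt N8183 (iv F13576)) (tt N8053 (iv F13351)) (tt N4725 (iv D6270)) (tt N4726 F10344))
theorem Q6272 : ∀ i, i < 6272 → P i := stepQ 6271 Q6271 (allL N6271 (tt N8172 (iv F13558)) (tt N4733 F10345) (tt N8185 D8185) (tt N4726 (iv D6271)) (tt N4727 F10346) (tt N8053 (iv F13352)))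
theorem Q6273 : ∀ i, i < 6273 → P i := stepQ 6272 Q6272 (allL N6272 (tt N8173 (iv F13560)) (tt N8186 D8186) (tt N4727 (iv D6272)) (tt N8173 (iv F13561)) (tt N8185 (iv F13578)) (tt N4744 F10347))
theorem Q6274 : ∀ i, i < 6274 → P i := stepQ 6273 Q6273 (allL N6273 (tt N4729 F10348) (tt N8120 (iv F13462)) (tt N8174 (iv F13564)) (tt N8187 D8187) (tt N4728 (iv D6273)) (tt N8188 D8188))
theorem Q6275 : ∀ i, i < 6275 → P i := stepQ 6274 Q6274 (allL N6274 (tt N8187 (iv F13581)) (tt N4730 F10349) (tt N8189 D8189) (tt N4729 (iv D6274)) (tt N7943 (iv F13161)) (tt N8073 (iv F13392)))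
theorem Q6276 : ∀ i, i < 6276 → P i := stepQ 6275 Q6275 (allL N6275 (tt N8188 (iv F13582)) (tt N4731 F10350) (tt N8177 (iv F13568)) (tt N8073 (iv F13391)) (tt N7942 (iv F13159)) (tt N4729 (iv D6275)))
theorem Q6277 : ∀ i, i < 6277 → P i := stepQ 6276 Q6276 (allL N6276 (tt N8190 D8190) (tt N4734 (iv D6276)) (tt N8186 (iv F13579)) (tt N5333 F10351) (tt N8088 (iv F13408)) (tt N4745 F10352))
theorem Q6278 : ∀ i, i < 6278 → P i := stepQ 6277 Q6277 (allL N6277 (tt N5021 F10353) (tt N4736 F10354) (tt N5310 F10355) (tt N4735 (iv D6277)) (tt N8191 D8191) (tt N5448 F10356))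
theorem Q6279 : ∀ i, i < 6279 → P i := stepQ 6278 Q6278 (allL N6278 (tt N8030 (iv F13299)) (tt N4737 F10357) (tt N8055 (iv F13358)) (tt N8192 D8192) (tt N4735 (iv D6278)) (tt N8193 D8193))
theorem Q6280 : ∀ i, i < 6280 → P i := stepQ 6279 Q6279 (allL N6279 (tt N4741 F10358) (tt N8191 (iv F13587)) (tt N5309 F10359) (tt N8194 D8194) (tt N4736 (iv D6279)) (tt N8195 D8195))
theorem Q6281 : ∀ i, i < 6281 → P i := stepQ 6280 Q6280 (allL N6280 (tt N4742 F10360) (tt N8192 (iv F13589)) (tt N8196 D8196) (tt N4737 (iv D6280)) (tt N8194 (iv F13592)) (tt N8197 D8197))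
theorem Q6282 : ∀ i, i < 6282 → P i := stepQ 6281 Q6281 (allL N6281 (tt N4743 F10361) (tt N8193 (iv F13590)) (tt N4738 F10362) (tt N8197 (iv F13598)) (tt N8034 (iv F13311)) (tt N4737 (iv D6281)))
theorem Q6283 : ∀ i, i < 6283 → P i := stepQ 6282 Q6282 (allL N6282 (tt N4744 F10363) (tt N8198 D8198) (tt N4739 (iv D6282)) (tt N4744 F10364) (tt N8048 (iv F13341)) (tt N8173 (iv F13562)))
theorem Q6284 : ∀ i, i < 6284 → P i := stepQ 6283 Q6283 (allL N6283 (tt N5307 F10365) (tt N4740 (iv D6283)) (tt N5010 F10366) (tt N5306 F10367) (tt N8199 D8199) (tt N5444 F10368))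
theorem Q6285 : ∀ i, i < 6285 → P i := stepQ 6284 Q6284 (allL N6284 (tt N5309 F10369) (tt N8199 (iv F13601)) (tt N4741 F10370) (tt N5958 F10371) (tt N4740 (iv D6284)) (tt N8200 D8200))
theorem Q6286 : ∀ i, i < 6286 → P i := stepQ 6285 Q6285 (allL N6285 (tt N8194 (iv F13591)) (tt N8046 (iv F13338)) (tt N8201 D8201) (tt N4741 (iv D6285)) (tt N4742 F10372) (tt N8202 D8202))
theorem Q6287 : ∀ i, i < 6287 → P i := stepQ 6286 Q6286 (allL N6286 (tt N8195 (iv F13593)) (tt N8045 (iv F13334)) (tt N8200 (iv F13605)) (tt N8202 (iv F13609)) (tt N8041 (iv F13324)) (tt N4741 (iv D6286)))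
theorem Q6288 : ∀ i, i < 6288 → P i := stepQ 6287 Q6287 (allL N6287 (tt N8196 (iv F13596)) (tt N8203 D8203) (tt N4742 (iv D6287)) (tt N8204 D8204) (tt N8201 (iv F13608)) (tt N8205 D8205))
theorem Q6289 : ∀ i, i < 6289 → P i := stepQ 6288 Q6288 (allL N6288 (tt N8197 (iv F13597)) (tt N8040 (iv F13319)) (tt N8205 (iv F13610)) (tt N4743 F10373) (tt N8206 D8206) (tt N4742 (iv D6288)))
theorem Q6290 : ∀ i, i < 6290 → P i := stepQ 6289 Q6289 (allL N6289 (tt N8207 D8207) (tt N4744 (iv D6289)) (tt N4745 F10374) (tt N8198 (iv F13599)) (tt N8050 (iv F13346)) (tt N8186 (iv F13580)))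
theorem Q6291 : ∀ i, i < 6291 → P i := stepQ 6290 Q6290 (allL N6290 (tt N4745 (iv D6290)) (tt N8109 (iv F13441)) (tt N8207 (iv F13611)) (tt N8208 D8208) (tt N8054 (iv F13355)) (tt N8190 (iv F13585)))
theorem Q6292 : ∀ i, i < 6292 → P i := stepQ 6291 Q6291 (allL N6291 (tt N8208 (iv F13612)) (tt N4746 F10375) (tt N8209 D8209) (tt N4745 (iv D6291)) (tt N8089 (iv F13410)) (tt N5333 F10376))
theorem Q6293 : ∀ i, i < 6293 → P i := stepQ 6292 Q6292 (allL N6292 (tt N4748 F10377) (tt N6858 (iv F11328)) (tt N8210 D8210) (tt N4747 (iv D6292)) (tt N6852 (iv F11315)) (tt N8211 D8211))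
theorem Q6294 : ∀ i, i < 6294 → P i := stepQ 6293 Q6293 (allL N6293 (tt N4749 F10378) (tt N6859 (iv F11331)) (tt N4753 F10379) (tt N8211 (iv F13619)) (tt N6895 (iv F11412)) (tt N4747 (iv D6293)))
theorem Q6295 : ∀ i, i < 6295 → P i := stepQ 6294 Q6294 (allL N6294 (tt N8210 (iv F13617)) (tt N8212 D8212) (tt N4748 (iv D6294)) (tt N8213 D8213) (tt N6854 (iv F11320)) (tt N8214 D8214))
theorem Q6296 : ∀ i, i < 6296 → P i := stepQ 6295 Q6295 (allL N6295 (tt N8211 (iv F13618)) (tt N4751 F10380) (tt N8214 (iv F13621)) (tt N4749 F10381) (tt N8215 D8215) (tt N4748 (iv D6295)))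
theorem Q6297 : ∀ i, i < 6297 → P i := stepQ 6296 Q6296 (allL N6296 (tt N8216 D8216) (tt N4750 (iv D6296)) (tt N8212 (iv F13620)) (tt N7517 (iv F12437)) (tt N6856 (iv F11323)) (tt N7516 F12435))
theorem Q6298 : ∀ i, i < 6298 → P i := stepQ 6297 Q6297 (allL N6297 (tt N6871 (iv F11352)) (tt N8215 (iv F13622)) (tt N7518 (iv F12439)) (tt N6901 (iv F11419)) (tt N4751 (iv D6297)) (tt N6857 (iv F11326)))
theorem Q6299 : ∀ i, i < 6299 → P i := stepQ 6298 Q6298 (allL N6298 (tt N4754 F10382) (tt N8217 D8217) (tt N4752 (iv D6298)) (tt N8218 D8218) (tt N7853 (iv F12943)) (tt N8219 D8219))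
theorem Q6300 : ∀ i, i < 6300 → P i := stepQ 6299 Q6299 (allL N6299 (tt N4755 F10383) (tt N7894 (iv F13042)) (tt N8219 (iv F13627)) (tt N4753 F10384) (tt N8220 D8220) (tt N4752 (iv D6299)))
theorem Q6301 : ∀ i, i < 6301 → P i := stepQ 6300 Q6300 (allL N6300 (tt N8221 D8221) (tt N4754 (iv D6300)) (tt N4756 F10385) (tt N8222 D8222) (tt N7854 (iv F12945)) (tt N8223 D8223))
theorem Q6302 : ∀ i, i < 6302 → P i := stepQ 6301 Q6301 (allL N6301 (tt N8218 (iv F13625)) (tt N8222 (iv F13632)) (tt N8224 D8224) (tt N4754 (iv D6301)) (tt N8225 D8225) (tt N8226 D8226))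
theorem Q6303 : ∀ i, i < 6303 → P i := stepQ 6302 Q6302 (allL N6302 (tt N8219 (iv F13626)) (tt N8223 (iv F13633)) (tt N4755 F10386) (tt N8226 (iv F13635)) (tt N8227 D8227) (tt N4754 (iv D6302)))
theorem Q6304 : ∀ i, i < 6304 → P i := stepQ 6303 Q6303 (allL N6303 (tt N8220 (iv F13628)) (tt N4759 F10387) (tt N8227 (iv F13636)) (tt N7920 (iv F13104)) (tt N4755 (iv D6303)) (tt N7852 (iv F12941)))
theorem Q6305 : ∀ i, i < 6305 → P i := stepQ 6304 Q6304 (allL N6304 (tt N4756 (iv D6304)) (tt N7899 (iv F13051)) (tt N8221 (iv F13631)) (tt N8228 D8228) (tt N7856 (iv F12949)) (tt N8229 D8229))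
theorem Q6306 : ∀ i, i < 6306 → P i := stepQ 6305 Q6305 (allL N6305 (tt N8228 (iv F13637)) (tt N4757 F10388) (tt N8230 D8230) (tt N4756 (iv D6305)) (tt N7868 (iv F12979)) (tt N5396 (iv F10389)))
theorem Q6307 : ∀ i, i < 6307 → P i := stepQ 6306 Q6306 (allL N6306 (tt N8229 (iv F13640)) (tt N4758 F10390) (tt N8223 (iv F13634)) (tt N5396 F10391) (tt N7867 (iv F12977)) (tt N4756 (iv D6306)))
theorem Q6308 : ∀ i, i < 6308 → P i := stepQ 6307 Q6307 (allL N6307 (tt N7466 (iv F12355)) (tt N4762 F10392) (tt N5645 F10393) (tt N6781 (iv F11211)) (tt N5273 F10394) (tt N4760 (iv D6307)))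
theorem Q6309 : ∀ i, i < 6309 → P i := stepQ 6308 Q6308 (allL N6308 (tt N4961 F10395) (tt N4763 F10396) (tt N8231 D8231) (tt N4761 (iv D6308)) (tt N5272 F10397) (tt N6783 (iv F11215)))
theorem Q6310 : ∀ i, i < 6310 → P i := stepQ 6309 Q6309 (allL N6309 (tt N4778 F10398) (tt N8232 D8232) (tt N4763 (iv D6309)) (tt N6402 (iv F10575)) (tt N5274 F10399) (tt N6786 (iv F11223)))
theorem Q6311 : ∀ i, i < 6311 → P i := stepQ 6310 Q6310 (allL N6310 (tt N4766 F10400) (tt N8233 D8233) (tt N4764 (iv D6310)) (tt N8234 D8234) (tt N7467 (iv F12360)) (tt N8235 D8235))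
theorem Q6312 : ∀ i, i < 6312 → P i := stepQ 6311 Q6311 (allL N6311 (tt N4768 F10401) (tt N6777 (iv F11205)) (tt N8235 (iv F13652)) (tt N4765 F10402) (tt N8236 D8236) (tt N4764 (iv D6311)))
theorem Q6313 : ∀ i, i < 6313 → P i := stepQ 6312 Q6312 (allL N6312 (tt N8235 (iv F13651)) (tt N4766 (iv D6312)) (tt N4768 F10403) (tt N8237 D8237) (tt N8238 D8238) (tt N4766 (iv F10404)))
theorem Q6314 : ∀ i, i < 6314 → P i := stepQ 6313 Q6313 (allL N6313 (tt N8234 (iv F13648)) (tt N8237 (iv F13657)) (tt N8239 D8239) (tt N4766 (iv D6313)) (tt N8240 D8240) (tt N8237 (iv F13659)))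
theorem Q6315 : ∀ i, i < 6315 → P i := stepQ 6314 Q6314 (allL N6314 (tt N7467 (iv F12359)) (tt N8238 (iv F13660)) (tt N4767 F10405) (tt N8241 D8241) (tt N4766 (iv D6314)) (tt N8242 D8242))
theorem Q6316 : ∀ i, i < 6316 → P i := stepQ 6315 Q6315 (allL N6315 (tt N7468 (iv F12361)) (tt N4770 F10406) (tt N8242 (iv F13665)) (tt N4772 F10407) (tt N8243 D8243) (tt N4767 (iv D6315)))
theorem Q6317 : ∀ i, i < 6317 → P i := stepQ 6316 Q6316 (allL N6316 (tt N8236 (iv F13654)) (tt N4769 F10408) (tt N8238 (iv F13661)) (tt N4977 F10409) (tt N4768 (iv D6316)) (tt N8243 (iv F13668)))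
theorem Q6318 : ∀ i, i < 6318 → P i := stepQ 6317 Q6317 (allL N6317 (tt N6784 (iv F11216)) (tt N4977 F10410) (tt N8244 D8244) (tt N4769 (iv D6317)) (tt N4771 F10411) (tt N8245 D8245))
theorem Q6319 : ∀ i, i < 6319 → P i := stepQ 6318 Q6318 (allL N6318 (tt N6785 (iv F11218)) (tt N8243 (iv F13666)) (tt N4770 F10412) (tt N8245 (iv F13675)) (tt N4770 F10413) (tt N4769 (iv D6318)))
theorem Q6320 : ∀ i, i < 6320 → P i := stepQ 6319 Q6319 (allL N6319 (tt N6786 (iv F11221)) (tt N8246 D8246) (tt N4771 (iv D6319)) (tt N5127 F10415) (tt N8244 (iv F13669)) (tt N4778 F10414))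
theorem Q6321 : ∀ i, i < 6321 → P i := stepQ 6320 Q6320 (allL N6320 (tt N5632 F10416) (tt N4774 F10417) (tt N8247 D8247) (tt N4773 (iv D6320)) (tt N5250 F10418) (tt N8248 D8248))
theorem Q6322 : ∀ i, i < 6322 → P i := stepQ 6321 Q6321 (allL N6321 (tt N5633 F10419) (tt N4775 F10420) (tt N7459 (iv F12346)) (tt N8248 (iv F13684)) (tt N5249 F10421) (tt N4773 (iv D6321)))
theorem Q6323 : ∀ i, i < 6323 → P i := stepQ 6322 Q6322 (allL N6322 (tt N5277 F10422) (tt N8249 D8249) (tt N4774 (iv D6322)) (tt N8250 D8250) (tt N5251 F10423) (tt N8251 D8251))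
theorem Q6324 : ∀ i, i < 6324 → P i := stepQ 6323 Q6323 (allL N6323 (tt N5276 F10424) (tt N8248 (iv F13683)) (tt N8251 (iv F13691)) (tt N4775 F10425) (tt N5940 F10426) (tt N4774 (iv D6323)))
theorem Q6325 : ∀ i, i < 6325 → P i := stepQ 6324 Q6324 (allL N6324 (tt N5275 F10427) (tt N4973 F10428) (tt N8252 D8252) (tt N4776 (iv D6324)) (tt N8245 (iv F13676)) (tt N4777 F10429))
theorem Q6326 : ∀ i, i < 6326 → P i := stepQ 6325 Q6325 (allL N6325 (tt N5274 F10430) (tt N8253 D8253) (tt N4777 (iv D6325)) (tt N8254 D8254) (tt N4778 F10431) (tt N8252 (iv F13696)))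
theorem Q6327 : ∀ i, i < 6327 → P i := stepQ 6326 Q6326 (allL N6326 (tt N8255 D8255) (tt N4778 (iv D6326)) (tt N4974 F10432) (tt N8256 D8256) (tt N8253 (iv F13698)) (tt N8246 (iv F13679)))
theorem Q6328 : ∀ i, i < 6328 → P i := stepQ 6327 Q6327 (allL N6327 (tt N6402 (iv F10574)) (tt N8256 (iv F13703)) (tt N5116 F10434) (tt N4778 (iv D6327)) (tt N8257 D8257) (tt N5127 F10433))
theorem Q6329 : ∀ i, i < 6329 → P i := stepQ 6328 Q6328 (allL N6328 (tt N4779 (iv D6328)) (tt N5084 F10435) (tt N4793 F10436) (tt N8258 D8258) (tt N4781 F10437) (tt N6393 (iv F10562)))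
theorem Q6330 : ∀ i, i < 6330 → P i := stepQ 6329 Q6329 (allL N6329 (tt N8258 (iv F13706)) (tt N4780 F10438) (tt N8259 D8259) (tt N4779 (iv D6329)) (tt N8130 (iv F13478)) (tt N6399 (iv F10570)))
theorem Q6331 : ∀ i, i < 6331 → P i := stepQ 6330 Q6330 (allL N6330 (tt N5127 F10439) (tt N8260 D8260) (tt N4780 (iv D6330)) (tt N6786 (iv F11222)) (tt N8132 (iv F13482)) (tt N6402 (iv F10576)))
theorem Q6332 : ∀ i, i < 6332 → P i := stepQ 6331 Q6331 (allL N6331 (tt N4784 F10440) (tt N5117 F10441) (tt N7707 (iv F12730)) (tt N6391 (iv F10557)) (tt N4782 (iv D6331)) (tt N8261 D8261))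
theorem Q6333 : ∀ i, i < 6333 → P i := stepQ 6332 Q6332 (allL N6332 (tt N7707 (iv F12729)) (tt N8114 (iv F13453)) (tt N4784 F10442) (tt N8262 D8262) (tt N4783 (iv D6332)) (tt N8263 D8263))
theorem Q6334 : ∀ i, i < 6334 → P i := stepQ 6333 Q6333 (allL N6333 (tt N8261 (iv F13708)) (tt N4785 F10443) (tt N8263 (iv F13710)) (tt N6397 (iv F10567)) (tt N8131 (iv F13480)) (tt N4784 (iv D6333)))
theorem Q6335 : ∀ i, i < 6335 → P i := stepQ 6334 Q6334 (allL N6334 (tt N8264 D8264) (tt N4786 (iv D6334)) (tt N4850 F10444) (tt N8265 D8265) (tt N4967 F10445) (tt N8266 D8266))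
theorem Q6336 : ∀ i, i < 6336 → P i := stepQ 6335 Q6335 (allL N6335 (tt N4789 F10446) (tt N8265 (iv F13715)) (tt N8237 (iv F13658)) (tt N4786 (iv D6335)) (tt N8267 D8267) (tt N8239 (iv F13664)))
theorem Q6337 : ∀ i, i < 6337 → P i := stepQ 6336 Q6336 (allL N6336 (tt N4790 F10447) (tt N8266 (iv F13717)) (tt N4787 F10448) (tt N8239 (iv F13663)) (tt N8268 D8268) (tt N4786 (iv D6336)))
theorem Q6338 : ∀ i, i < 6338 → P i := stepQ 6337 Q6337 (allL N6337 (tt N4791 F10449) (tt N4855 F10450) (tt N8268 (iv F13722)) (tt N4939 F10451) (tt N4787 (iv D6337)) (tt N4940 F10452))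
theorem Q6339 : ∀ i, i < 6339 → P i := stepQ 6338 Q6338 (allL N6338 (tt N4788 (iv D6338)) (tt N8264 (iv F13711)) (tt N4792 F10453) (tt N8269 D8269) (tt N4978 F10454) (tt N4843 F10455))
theorem Q6340 : ∀ i, i < 6340 → P i := stepQ 6339 Q6339 (allL N6339 (tt N8269 (iv F13724)) (tt N4789 F10456) (tt N8270 D8270) (tt N4788 (iv D6339)) (tt N8271 D8271) (tt N4846 F10457))
theorem Q6341 : ∀ i, i < 6341 → P i := stepQ 6340 Q6340 (allL N6340 (tt N8237 (iv F13656)) (tt N8272 D8272) (tt N4789 (iv D6340)) (tt N8235 (iv F13653)) (tt N8273 D8273) (tt N8234 F13650))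
theorem Q6342 : ∀ i, i < 6342 → P i := stepQ 6341 Q6341 (allL N6341 (tt N8267 (iv F13719)) (tt N8271 (iv F13730)) (tt N8273 (iv F13732)) (tt N4981 F10458) (tt N4789 (iv D6341)) (tt N8274 D8274))
theorem Q6343 : ∀ i, i < 6343 → P i := stepQ 6342 Q6342 (allL N6342 (tt N8239 (iv F13662)) (tt N4846 F10459) (tt N8234 (iv F13649)) (tt N4790 F10460) (tt N8275 D8275) (tt N4789 (iv D6342)))
theorem Q6344 : ∀ i, i < 6344 → P i := stepQ 6343 Q6343 (allL N6343 (tt N8268 (iv F13721)) (tt N4847 F10461) (tt N4791 F10462) (tt N8276 D8276) (tt N4790 (iv D6343)) (tt N4953 F10463))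
theorem Q6345 : ∀ i, i < 6345 → P i := stepQ 6344 Q6344 (allL N6344 (tt N4794 F10464) (tt N4884 F10465) (tt N8277 D8277) (tt N4793 (iv D6344)) (tt N4895 F10466) (tt N6407 (iv F10585)))
theorem Q6346 : ∀ i, i < 6346 → P i := stepQ 6345 Q6345 (allL N6345 (tt N8277 (iv F13737)) (tt N5821 F10467) (tt N4794 (iv D6345)) (tt N8278 D8278) (tt N4897 F10468) (tt N6412 (iv F10590)))
theorem Q6347 : ∀ i, i < 6347 → P i := stepQ 6346 Q6346 (allL N6346 (tt N5190 F10469) (tt N4798 F10470) (tt N5185 F10471) (tt N6603 (iv F10908)) (tt N4796 (iv D6346)) (tt N8279 D8279))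
theorem Q6348 : ∀ i, i < 6348 → P i := stepQ 6347 Q6347 (allL N6347 (tt N5444 F10472) (tt N4797 (iv D6347)) (tt N5183 F10473) (tt N5302 F10474) (tt N8280 D8280) (tt N5307 F10475))
theorem Q6349 : ∀ i, i < 6349 → P i := stepQ 6348 Q6348 (allL N6348 (tt N5304 F10476) (tt N8280 (iv F13745)) (tt N4798 F10477) (tt N8281 D8281) (tt N4797 (iv D6348)) (tt N8282 D8282))
theorem Q6350 : ∀ i, i < 6350 → P i := stepQ 6349 Q6349 (allL N6349 (tt N7678 (iv F12689)) (tt N8279 (iv F13741)) (tt N8282 (iv F13750)) (tt N6607 (iv F10912)) (tt N7568 (iv F12533)) (tt N4798 (iv D6349)))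
theorem Q6351 : ∀ i, i < 6351 → P i := stepQ 6350 Q6350 (allL N6350 (tt N4801 F10478) (tt N4815 F10479) (tt N5826 F10480) (tt N6790 (iv F11230)) (tt N4911 F10481) (tt N4799 (iv D6350)))
theorem Q6352 : ∀ i, i < 6352 → P i := stepQ 6351 Q6351 (allL N6351 (tt N4802 F10482) (tt N4817 F10483) (tt N8283 D8283) (tt N4800 (iv D6351)) (tt N4910 F10484) (tt N6791 (iv F11233)))
theorem Q6353 : ∀ i, i < 6353 → P i := stepQ 6352 Q6352 (allL N6352 (tt N8283 (iv F13752)) (tt N8284 D8284) (tt N4802 (iv D6352)) (tt N8285 D8285) (tt N4912 F10485) (tt N6796 (iv F11235)))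
theorem Q6354 : ∀ i, i < 6354 → P i := stepQ 6353 Q6353 (allL N6353 (tt N8286 D8286) (tt N4803 (iv D6353)) (tt N8284 (iv F13754)) (tt N5182 F10486) (tt N4914 F10487) (tt N5198 F10488))
theorem Q6355 : ∀ i, i < 6355 → P i := stepQ 6354 Q6354 (allL N6354 (tt N6800 (iv F11243)) (tt N4804 (iv D6354)) (tt N6787 (iv F11224)) (tt N8287 D8287) (tt N8288 D8288) (tt N6797 F11238))
theorem Q6356 : ∀ i, i < 6356 → P i := stepQ 6355 Q6355 (allL N6355 (tt N4807 F10489) (tt N8287 (iv F13761)) (tt N4862 F10490) (tt N4804 (iv D6355)) (tt N8289 D8289) (tt N4860 F10491))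
theorem Q6357 : ∀ i, i < 6357 → P i := stepQ 6356 Q6356 (allL N6356 (tt N4808 F10492) (tt N8288 (iv F13763)) (tt N4805 F10493) (tt N8290 D8290) (tt N4804 (iv D6356)) (tt N8291 D8291))
theorem Q6358 : ∀ i, i < 6358 → P i := stepQ 6357 Q6357 (allL N6357 (tt N4809 F10494) (tt N6790 (iv F11229)) (tt N8291 (iv F13768)) (tt N4815 F10495) (tt N6825 (iv F11286)) (tt N4805 (iv D6357)))
theorem Q6359 : ∀ i, i < 6359 → P i := stepQ 6358 Q6358 (allL N6358 (tt N4810 F10496) (tt N6791 (iv F11232)) (tt N8292 D8292) (tt N4806 (iv D6358)) (tt N6824 (iv F11284)) (tt N4817 F10497))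
theorem Q6360 : ∀ i, i < 6360 → P i := stepQ 6359 Q6359 (allL N6359 (tt N4862 F10498) (tt N8293 D8293) (tt N4807 (iv D6359)) (tt N4853 F10499) (tt N8294 D8294) (tt N4851 F10500))
theorem Q6361 : ∀ i, i < 6361 → P i := stepQ 6360 Q6360 (allL N6360 (tt N8289 (iv F13764)) (tt N6816 (iv F11273)) (tt N8294 (iv F13775)) (tt N8295 D8295) (tt N4807 (iv D6360)) (tt N8296 D8296))
theorem Q6362 : ∀ i, i < 6362 → P i := stepQ 6361 Q6361 (allL N6361 (tt N8290 (iv F13766)) (tt N6820 (iv F11278)) (tt N8297 D8297) (tt N4808 (iv D6361)) (tt N8295 (iv F13776)) (tt N8298 D8298))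
theorem Q6363 : ∀ i, i < 6363 → P i := stepQ 6362 Q6362 (allL N6362 (tt N8291 (iv F13767)) (tt N6819 (iv F11275)) (tt N4809 F10501) (tt N8298 (iv F13777)) (tt N6811 (iv F11266)) (tt N4808 (iv D6362)))
theorem Q6364 : ∀ i, i < 6364 → P i := stepQ 6363 Q6363 (allL N6363 (tt N8292 (iv F13769)) (tt N8299 D8299) (tt N4810 (iv D6363)) (tt N8300 D8300) (tt N6826 (iv F11287)) (tt N4827 F10502))
theorem Q6365 : ∀ i, i < 6365 → P i := stepQ 6364 Q6364 (allL N6364 (tt N8301 D8301) (tt N4811 (iv D6364)) (tt N8299 (iv F13778)) (tt N5079 F10503) (tt N6650 (iv F10988)) (tt N4832 F10504))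
theorem Q6366 : ∀ i, i < 6366 → P i := stepQ 6365 Q6365 (allL N6365 (tt N5585 F10505) (tt N4813 F10506) (tt N5581 F10507) (tt N8302 D8302) (tt N4812 (iv D6365)) (tt N8303 D8303))
theorem Q6367 : ∀ i, i < 6367 → P i := stepQ 6366 Q6366 (allL N6366 (tt N4822 F10508) (tt N8302 (iv F13788)) (tt N8304 D8304) (tt N4813 (iv D6366)) (tt N4881 F10509) (tt N8305 D8305))
theorem Q6368 : ∀ i, i < 6368 → P i := stepQ 6367 Q6367 (allL N6367 (tt N4823 F10510) (tt N8303 (iv F13791)) (tt N4815 F10511) (tt N8305 (iv F13797)) (tt N8306 D8306) (tt N4813 (iv D6367)))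
theorem Q6369 : ∀ i, i < 6369 → P i := stepQ 6368 Q6368 (allL N6368 (tt N4824 F10512) (tt N4931 F10513) (tt N4816 F10514) (tt N8307 D8307) (tt N4814 (iv D6368)) (tt N8306 (iv F13801)))
theorem Q6370 : ∀ i, i < 6370 → P i := stepQ 6369 Q6369 (allL N6369 (tt N4825 F10515) (tt N4911 F10516) (tt N8306 (iv F13800)) (tt N8308 D8308) (tt N4815 (iv D6369)) (tt N4816 F10517))
theorem Q6371 : ∀ i, i < 6371 → P i := stepQ 6370 Q6370 (allL N6370 (tt N4826 F10518) (tt N4910 F10519) (tt N8309 D8309) (tt N4816 (iv D6370)) (tt N4817 F10520) (tt N8308 (iv F13807)))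
theorem Q6372 : ∀ i, i < 6372 → P i := stepQ 6371 Q6371 (allL N6371 (tt N4827 F10521) (tt N8310 D8310) (tt N4817 (iv D6371)) (tt N8311 D8311) (tt N8309 (iv F13809)) (tt N8292 (iv F13770)))
theorem Q6373 : ∀ i, i < 6373 → P i := stepQ 6372 Q6372 (allL N6372 (tt N5489 F10522) (tt N4820 F10523) (tt N4935 F10524) (tt N8312 D8312) (tt N4818 (iv D6372)) (tt N8313 D8313))
theorem Q6374 : ∀ i, i < 6374 → P i := stepQ 6373 Q6373 (allL N6373 (tt N5823 F10525) (tt N4822 F10526) (tt N8314 D8314) (tt N4819 (iv D6373)) (tt N8312 (iv F13815)) (tt N8315 D8315))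
theorem Q6375 : ∀ i, i < 6375 → P i := stepQ 6374 Q6374 (allL N6374 (tt N5824 F10527) (tt N4823 F10528) (tt N4829 F10529) (tt N8315 (iv F13823)) (tt N4903 F10530) (tt N4819 (iv D6374)))
theorem Q6376 : ∀ i, i < 6376 → P i := stepQ 6375 Q6375 (allL N6375 (tt N4881 F10531) (tt N8312 (iv F13814)) (tt N8300 (iv F13782)) (tt N4820 (iv D6375)) (tt N4822 F10532) (tt N8316 D8316))
theorem Q6377 : ∀ i, i < 6377 → P i := stepQ 6376 Q6376 (allL N6376 (tt N4868 F10533) (tt N8313 (iv F13817)) (tt N4856 F10534) (tt N8316 (iv F13826)) (tt N8317 D8317) (tt N4820 (iv D6376)))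
theorem Q6378 : ∀ i, i < 6378 → P i := stepQ 6377 Q6377 (allL N6377 (tt N4879 F10535) (tt N4901 F10536) (tt N4878 F10537) (tt N8318 D8318) (tt N4821 (iv D6377)) (tt N8317 (iv F13830)))
theorem Q6379 : ∀ i, i < 6379 → P i := stepQ 6378 Q6378 (allL N6378 (tt N8304 (iv F13794)) (tt N8319 D8319) (tt N4822 (iv D6378)) (tt N8320 D8320) (tt N8300 F13783) (tt N8321 D8321))
theorem Q6380 : ∀ i, i < 6380 → P i := stepQ 6379 Q6379 (allL N6379 (tt N8305 (iv F13796)) (tt N8315 (iv F13822)) (tt N8321 (iv F13834)) (tt N4823 F10538) (tt N8322 D8322) (tt N4822 (iv D6379)))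
theorem Q6381 : ∀ i, i < 6381 → P i := stepQ 6380 Q6380 (allL N6380 (tt N8306 (iv F13798)) (tt N4903 F10539) (tt N4825 F10540) (tt N8323 D8323) (tt N4823 (iv D6380)) (tt N4824 F10541))
theorem Q6382 : ∀ i, i < 6382 → P i := stepQ 6381 Q6381 (allL N6381 (tt N8307 (iv F13802)) (tt N4902 F10542) (tt N8324 D8324) (tt N4824 (iv D6381)) (tt N8318 (iv F13833)) (tt N8323 (iv F13836)))
theorem Q6383 : ∀ i, i < 6383 → P i := stepQ 6382 Q6382 (allL N6382 (tt N8308 (iv F13805)) (tt N4830 F10543) (tt N8325 D8325) (tt N4825 (iv D6382)) (tt N6659 (iv F11002)) (tt N4826 F10544))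
theorem Q6384 : ∀ i, i < 6384 → P i := stepQ 6383 Q6383 (allL N6383 (tt N8309 (iv F13808)) (tt N8326 D8326) (tt N4826 (iv D6383)) (tt N8327 D8327) (tt N4827 F10545) (tt N8325 (iv F13838)))
theorem Q6385 : ∀ i, i < 6385 → P i := stepQ 6384 Q6384 (allL N6384 (tt N8328 D8328) (tt N4827 (iv D6384)) (tt N4832 F10546) (tt N8329 D8329) (tt N8326 (iv F13840)) (tt N8299 (iv F13779)))
theorem Q6386 : ∀ i, i < 6386 → P i := stepQ 6385 Q6385 (allL N6385 (tt N8311 (iv F13810)) (tt N8329 (iv F13843)) (tt N8316 (iv F13825)) (tt N4827 (iv D6385)) (tt N8330 D8330) (tt N8300 (iv F13781)))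
theorem Q6387 : ∀ i, i < 6387 → P i := stepQ 6386 Q6386 (allL N6386 (tt N5518 F10547) (tt N5050 F10548) (tt N4828 (iv D6386)) (tt N8331 D8331) (tt N4904 F10549) (tt N6885 (iv F11380)))
theorem Q6388 : ∀ i, i < 6388 → P i := stepQ 6387 Q6387 (allL N6387 (tt N8332 D8332) (tt N4831 (iv D6387)) (tt N8326 (iv F13839)) (tt N5226 F10550) (tt N4832 F10551) (tt N5225 F10552))
theorem Q6389 : ∀ i, i < 6389 → P i := stepQ 6388 Q6388 (allL N6388 (tt N4832 (iv D6388)) (tt N8286 (iv F13757)) (tt N8328 (iv F13842)) (tt N8333 D8333) (tt N8332 (iv F13848)) (tt N8301 (iv F13786)))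
theorem Q6390 : ∀ i, i < 6390 → P i := stepQ 6389 Q6389 (allL N6389 (tt N8333 (iv F13850)) (tt N4833 F10553) (tt N8334 D8334) (tt N4832 (iv D6389)) (tt N6649 (iv F10986)) (tt N5079 F10554))
theorem Q6391 : ∀ i, i < 6391 → P i := stepQ 6390 Q6390 (allL N6390 (tt N4836 F10555) (tt N8335 D8335) (tt N4834 (iv D6390)) (tt N8270 (iv F13729)) (tt N8336 D8336) (tt N8337 D8337))
theorem Q6392 : ∀ i, i < 6392 → P i := stepQ 6391 Q6391 (allL N6391 (tt N4837 F10556) (tt N6729 (iv F11134)) (tt N8336 (iv F13856)) (tt N6331 F10557) (tt N4834 (iv D6391)) (tt N8338 D8338))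
theorem Q6393 : ∀ i, i < 6393 → P i := stepQ 6392 Q6392 (allL N6392 (tt N4838 F10558) (tt N6730 (iv F11137)) (tt N8337 (iv F13858)) (tt N4835 F10559) (tt N8339 D8339) (tt N4834 (iv D6392)))
theorem Q6394 : ∀ i, i < 6394 → P i := stepQ 6393 Q6393 (allL N6393 (tt N4839 F10560) (tt N6699 (iv F11077)) (tt N4845 F10561) (tt N8340 D8340) (tt N4835 (iv D6393)) (tt N6328 F10562))
theorem Q6395 : ∀ i, i < 6395 → P i := stepQ 6394 Q6394 (allL N6394 (tt N8337 (iv F13857)) (tt N4836 (iv D6394)) (tt N4838 F10563) (tt N8341 D8341) (tt N8342 D8342) (tt N4836 (iv F10564)))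
theorem Q6396 : ∀ i, i < 6396 → P i := stepQ 6395 Q6395 (allL N6395 (tt N8270 (iv F13727)) (tt N8341 (iv F13866)) (tt N8269 (iv F13726)) (tt N4836 (iv D6395)) (tt N8343 D8343) (tt N8341 (iv F13868)))
theorem Q6397 : ∀ i, i < 6397 → P i := stepQ 6396 Q6396 (allL N6396 (tt N8336 (iv F13855)) (tt N8342 (iv F13869)) (tt N4837 F10565) (tt N8344 D8344) (tt N4836 (iv D6396)) (tt N8345 D8345))
theorem Q6398 : ∀ i, i < 6398 → P i := stepQ 6397 Q6397 (allL N6397 (tt N8338 (iv F13860)) (tt N4841 F10566) (tt N8345 (iv F13871)) (tt N6333 F10567) (tt N8346 D8346) (tt N4837 (iv D6397)))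
theorem Q6399 : ∀ i, i < 6399 → P i := stepQ 6398 Q6398 (allL N6398 (tt N8339 (iv F13862)) (tt N4840 F10568) (tt N8342 (iv F13870)) (tt N8347 D8347) (tt N4838 (iv D6398)) (tt N8346 (iv F13873)))
theorem Q6400 : ∀ i, i < 6400 → P i := stepQ 6399 Q6399 (allL N6399 (tt N8340 (iv F13863)) (tt N4842 F10569) (tt N8348 D8348) (tt N4839 (iv D6399)) (tt N8347 (iv F13875)) (tt N6329 F10570))
theorem Q6401 : ∀ i, i < 6401 → P i := stepQ 6400 Q6400 (allL N6400 (tt N6736 (iv F11145)) (tt N8347 (iv F13874)) (tt N8349 D8349) (tt N4840 (iv D6400)) (tt N4842 F10571) (tt N8350 D8350))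
theorem Q6402 : ∀ i, i < 6402 → P i := stepQ 6401 Q6401 (allL N6401 (tt N6737 (iv F11147)) (tt N8346 (iv F13872)) (tt N4841 F10572) (tt N8350 (iv F13879)) (tt N4841 F10573) (tt N4840 (iv D6401)))
theorem Q6403 : ∀ i, i < 6403 → P i := stepQ 6402 Q6402 (allL N6402 (tt N6327 F10574) (tt N8351 D8351) (tt N4842 (iv D6402)) (tt N6309 F10575) (tt N8349 (iv F13878)) (tt N6330 F10576))
theorem Q6404 : ∀ i, i < 6404 → P i := stepQ 6403 Q6403 (allL N6403 (tt N8266 (iv F13716)) (tt N4843 (iv D6403)) (tt N6440 (iv F10639)) (tt N8352 D8352) (tt N8353 D8353) (tt N8264 F13714))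
theorem Q6405 : ∀ i, i < 6405 → P i := stepQ 6404 Q6404 (allL N6404 (tt N4846 F10577) (tt N8352 (iv F13883)) (tt N8341 (iv F13867)) (tt N4843 (iv D6404)) (tt N8354 D8354) (tt N8269 (iv F13725)))
theorem Q6406 : ∀ i, i < 6406 → P i := stepQ 6405 Q6405 (allL N6405 (tt N4847 F10578) (tt N8353 (iv F13884)) (tt N4844 F10579) (tt N8355 D8355) (tt N4843 (iv D6405)) (tt N8356 D8356))
theorem Q6407 : ∀ i, i < 6407 → P i := stepQ 6406 Q6406 (allL N6406 (tt N4848 F10580) (tt N6443 (iv F10647)) (tt N8356 (iv F13888)) (tt N5822 F10581) (tt N4959 F10582) (tt N4844 (iv D6406)))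
theorem Q6408 : ∀ i, i < 6408 → P i := stepQ 6407 Q6407 (allL N6407 (tt N4849 F10583) (tt N6438 (iv F10632)) (tt N8357 D8357) (tt N4845 (iv D6407)) (tt N4982 F10584) (tt N6344 F10585))
theorem Q6409 : ∀ i, i < 6409 → P i := stepQ 6408 Q6408 (allL N6408 (tt N8341 (iv F13865)) (tt N8358 D8358) (tt N4846 (iv D6408)) (tt N8337 (iv F13859)) (tt N8359 D8359) (tt N8270 (iv F13728)))
theorem Q6410 : ∀ i, i < 6410 → P i := stepQ 6409 Q6409 (allL N6409 (tt N8354 (iv F13885)) (tt N8275 (iv F13734)) (tt N8359 (iv F13893)) (tt N8360 D8360) (tt N4846 (iv D6409)) (tt N8361 D8361))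
theorem Q6411 : ∀ i, i < 6411 → P i := stepQ 6410 Q6410 (allL N6410 (tt N8355 (iv F13886)) (tt N8276 (iv F13735)) (tt N8362 D8362) (tt N4847 (iv D6410)) (tt N8360 (iv F13894)) (tt N8363 D8363))
theorem Q6412 : ∀ i, i < 6412 → P i := stepQ 6411 Q6411 (allL N6411 (tt N8356 (iv F13887)) (tt N4953 F10586) (tt N4848 F10587) (tt N8363 (iv F13896)) (tt N4954 F10588) (tt N4847 (iv D6411)))
theorem Q6413 : ∀ i, i < 6413 → P i := stepQ 6412 Q6412 (allL N6412 (tt N8357 (iv F13890)) (tt N6453 (iv F10667)) (tt N4849 (iv D6412)) (tt N8364 D8364) (tt N4983 F10589) (tt N6345 F10590))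
theorem Q6414 : ∀ i, i < 6414 → P i := stepQ 6413 Q6413 (allL N6413 (tt N4850 (iv D6413)) (tt N4857 F10591) (tt N8264 (iv F13712)) (tt N6812 (iv F11269)) (tt N8365 D8365) (tt N6440 (iv F10640)))
theorem Q6415 : ∀ i, i < 6415 → P i := stepQ 6414 Q6414 (allL N6414 (tt N6812 (iv F11267)) (tt N4851 F10592) (tt N6812 (iv F11268)) (tt N4850 (iv D6414)) (tt N8366 D8366) (tt N8293 (iv F13773)))
theorem Q6416 : ∀ i, i < 6416 → P i := stepQ 6415 Q6415 (allL N6415 (tt N8365 (iv F13898)) (tt N4852 F10593) (tt N4967 F10594) (tt N8367 D8367) (tt N4850 (iv D6415)) (tt N8368 D8368))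
theorem Q6417 : ∀ i, i < 6417 → P i := stepQ 6416 Q6416 (allL N6416 (tt N6440 (iv F10638)) (tt N4853 F10595) (tt N8266 (iv F13718)) (tt N8293 (iv F13772)) (tt N8369 D8369) (tt N4850 (iv D6416)))
theorem Q6418 : ∀ i, i < 6418 → P i := stepQ 6417 Q6417 (allL N6417 (tt N4861 F10596) (tt N8366 (iv F13901)) (tt N6809 (iv F11262)) (tt N8370 D8370) (tt N4851 (iv D6417)) (tt N8371 D8371))
theorem Q6419 : ∀ i, i < 6419 → P i := stepQ 6418 Q6418 (allL N6418 (tt N4863 F10597) (tt N8367 (iv F13902)) (tt N4863 F10598) (tt N4852 (iv D6418)) (tt N8370 (iv F13907)) (tt N8372 D8372))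
theorem Q6420 : ∀ i, i < 6420 → P i := stepQ 6419 Q6419 (allL N6419 (tt N4864 F10599) (tt N8368 (iv F13903)) (tt N4854 F10600) (tt N8372 (iv F13912)) (tt N8373 D8373) (tt N4852 (iv D6419)))
theorem Q6421 : ∀ i, i < 6421 → P i := stepQ 6420 Q6420 (allL N6420 (tt N4865 F10601) (tt N8369 (iv F13905)) (tt N4855 F10602) (tt N8374 D8374) (tt N4853 (iv D6420)) (tt N8373 (iv F13915)))
theorem Q6422 : ∀ i, i < 6422 → P i := stepQ 6421 Q6421 (allL N6421 (tt N4866 F10603) (tt N4940 F10604) (tt N8373 (iv F13914)) (tt N4878 F10605) (tt N4854 (iv D6421)) (tt N4855 F10606))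
theorem Q6423 : ∀ i, i < 6423 → P i := stepQ 6422 Q6422 (allL N6422 (tt N4867 F10607) (tt N4939 F10608) (tt N8317 (iv F13829)) (tt N4855 (iv D6422)) (tt N4856 F10609) (tt N4878 F10610))
theorem Q6424 : ∀ i, i < 6424 → P i := stepQ 6423 Q6423 (allL N6423 (tt N4859 F10611) (tt N8365 (iv F13899)) (tt N4869 F10612) (tt N8375 D8375) (tt N4857 (iv D6423)) (tt N7398 (iv F12276)))
theorem Q6425 : ∀ i, i < 6425 → P i := stepQ 6424 Q6424 (allL N6424 (tt N6813 (iv F11270)) (tt N4861 F10613) (tt N6801 (iv F11246)) (tt N8376 D8376) (tt N4858 (iv D6424)) (tt N8377 D8377))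
theorem Q6426 : ∀ i, i < 6426 → P i := stepQ 6425 Q6425 (allL N6425 (tt N8375 (iv F13917)) (tt N4863 F10614) (tt N8378 D8378) (tt N4859 (iv D6425)) (tt N8376 (iv F13919)) (tt N7399 (iv F12278)))
theorem Q6427 : ∀ i, i < 6427 → P i := stepQ 6426 Q6426 (allL N6426 (tt N6798 (iv F11239)) (tt N4860 (iv D6426)) (tt N6798 F11241) (tt N6797 F11237) (tt N8379 D8379) (tt N8287 (iv F13762)))
theorem Q6428 : ∀ i, i < 6428 → P i := stepQ 6427 Q6427 (allL N6427 (tt N6809 (iv F11260)) (tt N8379 (iv F13921)) (tt N4861 F10615) (tt N8380 D8380) (tt N4860 (iv D6427)) (tt N8381 D8381))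
theorem Q6429 : ∀ i, i < 6429 → P i := stepQ 6428 Q6428 (allL N6428 (tt N8370 (iv F13906)) (tt N8376 (iv F13918)) (tt N8370 F13908) (tt N4861 (iv D6428)) (tt N4863 F10616) (tt N8382 D8382))
theorem Q6430 : ∀ i, i < 6430 → P i := stepQ 6429 Q6429 (allL N6429 (tt N8371 (iv F13909)) (tt N8377 (iv F13920)) (tt N8381 (iv F13922)) (tt N8382 (iv F13923)) (tt N8383 D8383) (tt N4861 (iv D6429)))
theorem Q6431 : ∀ i, i < 6431 → P i := stepQ 6430 Q6430 (allL N6430 (tt N8294 (iv F13774)) (tt N6445 (iv F10653)) (tt N8289 (iv F13765)) (tt N8384 D8384) (tt N4862 (iv D6430)) (tt N8383 (iv F13924)))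
theorem Q6432 : ∀ i, i < 6432 → P i := stepQ 6431 Q6431 (allL N6431 (tt N8372 (iv F13910)) (tt N7399 (iv F12277)) (tt N8372 (iv F13911)) (tt N4864 F10617) (tt N8385 D8385) (tt N4863 (iv D6431)))
theorem Q6433 : ∀ i, i < 6433 → P i := stepQ 6432 Q6432 (allL N6432 (tt N8373 (iv F13913)) (tt N6447 (iv F10655)) (tt N4866 F10618) (tt N8386 D8386) (tt N4864 (iv D6432)) (tt N4865 F10619))
theorem Q6434 : ∀ i, i < 6434 → P i := stepQ 6433 Q6433 (allL N6433 (tt N8374 (iv F13916)) (tt N6446 (iv F10654)) (tt N8387 D8387) (tt N4865 (iv D6433)) (tt N8384 (iv F13925)) (tt N8386 (iv F13926)))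
theorem Q6435 : ∀ i, i < 6435 → P i := stepQ 6434 Q6434 (allL N6434 (tt N8317 (iv F13827)) (tt N4933 F10620) (tt N4867 (iv D6434)) (tt N8388 D8388) (tt N4868 F10621) (tt N4879 F10622))
theorem Q6436 : ∀ i, i < 6436 → P i := stepQ 6435 Q6435 (allL N6435 (tt N8389 D8389) (tt N4868 (iv D6435)) (tt N4870 F10623) (tt N8390 D8390) (tt N4933 F10624) (tt N4880 F10625))
theorem Q6437 : ∀ i, i < 6437 → P i := stepQ 6436 Q6436 (allL N6436 (tt N8316 (iv F13824)) (tt N8390 (iv F13933)) (tt N8311 (iv F13811)) (tt N4868 (iv D6436)) (tt N8391 D8391) (tt N4881 F10626))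
theorem Q6438 : ∀ i, i < 6438 → P i := stepQ 6437 Q6437 (allL N6437 (tt N4870 (iv D6437)) (tt N4957 F10627) (tt N8389 (iv F13930)) (tt N5815 F10628) (tt N4929 F10629) (tt N4882 F10630))
theorem Q6439 : ∀ i, i < 6439 → P i := stepQ 6438 Q6438 (allL N6438 (tt N4872 F10631) (tt N6407 F10632) (tt N8392 D8392) (tt N4871 (iv D6438)) (tt N5527 F10633) (tt N4884 F10634))
theorem Q6440 : ∀ i, i < 6440 → P i := stepQ 6439 Q6439 (allL N6439 (tt N8392 (iv F13935)) (tt N4958 F10635) (tt N4872 (iv D6439)) (tt N8393 D8393) (tt N5442 F10636) (tt N4885 F10637))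
theorem Q6441 : ∀ i, i < 6441 → P i := stepQ 6440 Q6440 (allL N6440 (tt N6416 F10638) (tt N4873 (iv D6440)) (tt N6403 F10639) (tt N8394 D8394) (tt N8395 D8395) (tt N6413 F10640))
theorem Q6442 : ∀ i, i < 6442 → P i := stepQ 6441 Q6441 (allL N6441 (tt N4875 F10641) (tt N8394 (iv F13944)) (tt N5172 F10642) (tt N4873 (iv D6441)) (tt N8396 D8396) (tt N5170 F10643))
theorem Q6443 : ∀ i, i < 6443 → P i := stepQ 6442 Q6442 (allL N6442 (tt N4876 F10644) (tt N8395 (iv F13948)) (tt N4874 F10645) (tt N8397 D8397) (tt N4873 (iv D6442)) (tt N8398 D8398))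
theorem Q6444 : ∀ i, i < 6444 → P i := stepQ 6443 Q6443 (allL N6443 (tt N4877 F10646) (tt N6406 F10647) (tt N8398 (iv F13954)) (tt N4890 F10648) (tt N5629 F10649) (tt N4874 (iv D6443)))
theorem Q6445 : ∀ i, i < 6445 → P i := stepQ 6444 Q6444 (allL N6444 (tt N5172 F10650) (tt N8399 D8399) (tt N4875 (iv D6444)) (tt N5163 F10651) (tt N8400 D8400) (tt N5161 F10652))
theorem Q6446 : ∀ i, i < 6446 → P i := stepQ 6445 Q6445 (allL N6445 (tt N8396 (iv F13950)) (tt N6430 F10653) (tt N8400 (iv F13961)) (tt N8401 D8401) (tt N4875 (iv D6445)) (tt N8402 D8402))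
theorem Q6447 : ∀ i, i < 6447 → P i := stepQ 6446 Q6446 (allL N6446 (tt N8397 (iv F13952)) (tt N6433 F10654) (tt N8403 D8403) (tt N4876 (iv D6446)) (tt N8401 (iv F13963)) (tt N8404 D8404))
theorem Q6448 : ∀ i, i < 6448 → P i := stepQ 6447 Q6447 (allL N6447 (tt N8398 (iv F13953)) (tt N6432 F10655) (tt N4877 F10656) (tt N8404 (iv F13967)) (tt N5630 F10657) (tt N4876 (iv D6447)))
theorem Q6449 : ∀ i, i < 6449 → P i := stepQ 6448 Q6448 (allL N6448 (tt N8318 (iv F13831)) (tt N4932 F10658) (tt N8405 D8405) (tt N4879 (iv D6448)) (tt N8307 (iv F13804)) (tt N8388 (iv F13928)))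
theorem Q6450 : ∀ i, i < 6450 → P i := stepQ 6449 Q6449 (allL N6449 (tt N4880 (iv D6449)) (tt N5489 F10659) (tt N4882 F10660) (tt N8406 D8406) (tt N4919 F10661) (tt N8389 (iv F13932)))
theorem Q6451 : ∀ i, i < 6451 → P i := stepQ 6450 Q6450 (allL N6450 (tt N8406 (iv F13968)) (tt N4881 F10662) (tt N8407 D8407) (tt N4880 (iv D6450)) (tt N8302 (iv F13789)) (tt N8390 (iv F13934)))
theorem Q6452 : ∀ i, i < 6452 → P i := stepQ 6451 Q6451 (allL N6451 (tt N8300 (iv F13780)) (tt N8408 D8408) (tt N4881 (iv D6451)) (tt N8292 (iv F13771)) (tt N8304 (iv F13795)) (tt N8311 (iv F13812)))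
theorem Q6453 : ∀ i, i < 6453 → P i := stepQ 6452 Q6452 (allL N6452 (tt N4883 F10663) (tt N4956 F10664) (tt N8409 D8409) (tt N4882 (iv D6452)) (tt N4930 F10665) (tt N5815 F10666))
theorem Q6454 : ∀ i, i < 6454 → P i := stepQ 6453 Q6453 (allL N6453 (tt N8409 (iv F13971)) (tt N6412 F10667) (tt N4883 (iv D6453)) (tt N8410 D8410) (tt N4934 F10668) (tt N5821 F10669))
theorem Q6455 : ∀ i, i < 6455 → P i := stepQ 6454 Q6454 (allL N6454 (tt N4885 F10670) (tt N8411 D8411) (tt N4884 (iv D6454)) (tt N8412 D8412) (tt N6610 (iv F10916)) (tt N8392 (iv F13937)))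
theorem Q6456 : ∀ i, i < 6456 → P i := stepQ 6455 Q6455 (allL N6455 (tt N8413 D8413) (tt N4885 (iv D6455)) (tt N4886 F10671) (tt N8414 D8414) (tt N5620 F10672) (tt N4958 F10673))
theorem Q6457 : ∀ i, i < 6457 → P i := stepQ 6456 Q6456 (allL N6456 (tt N8412 (iv F13976)) (tt N8414 (iv F13982)) (tt N8415 D8415) (tt N4885 (iv D6456)) (tt N8416 D8416) (tt N8393 (iv F13941)))
theorem Q6458 : ∀ i, i < 6458 → P i := stepQ 6457 Q6457 (allL N6457 (tt N4886 (iv D6457)) (tt N5815 F10674) (tt N8413 (iv F13979)) (tt N4957 F10675) (tt N5601 F10676) (tt N4956 F10677))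
theorem Q6459 : ∀ i, i < 6459 → P i := stepQ 6458 Q6458 (allL N6458 (tt N5310 F10678) (tt N4888 F10679) (tt N5021 F10680) (tt N4887 (iv D6458)) (tt N8417 D8417) (tt N5189 F10681))
theorem Q6460 : ∀ i, i < 6460 → P i := stepQ 6459 Q6459 (allL N6459 (tt N7394 (iv F12267)) (tt N4889 F10682) (tt N7584 (iv F12565)) (tt N8418 D8418) (tt N4887 (iv D6459)) (tt N8419 D8419))
theorem Q6461 : ∀ i, i < 6461 → P i := stepQ 6460 Q6460 (allL N6460 (tt N4892 F10683) (tt N8417 (iv F13988)) (tt N5020 F10684) (tt N8420 D8420) (tt N4888 (iv D6460)) (tt N8421 D8421))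
theorem Q6462 : ∀ i, i < 6462 → P i := stepQ 6461 Q6461 (allL N6461 (tt N4893 F10685) (tt N8418 (iv F13990)) (tt N8422 D8422) (tt N4889 (iv D6461)) (tt N8420 (iv F13993)) (tt N8423 D8423))
theorem Q6463 : ∀ i, i < 6463 → P i := stepQ 6462 Q6462 (allL N6462 (tt N4894 F10686) (tt N8419 (iv F13991)) (tt N4890 F10687) (tt N8423 (iv F13999)) (tt N6601 (iv F10906)) (tt N4889 (iv D6462)))
theorem Q6464 : ∀ i, i < 6464 → P i := stepQ 6463 Q6463 (allL N6463 (tt N5010 F10688) (tt N4891 (iv D6463)) (tt N5307 F10689) (tt N5009 F10690) (tt N8424 D8424) (tt N5183 F10691))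
theorem Q6465 : ∀ i, i < 6465 → P i := stepQ 6464 Q6464 (allL N6464 (tt N5020 F10692) (tt N8424 (iv F14001)) (tt N4892 F10693) (tt N8425 D8425) (tt N4891 (iv D6464)) (tt N8426 D8426))
theorem Q6466 : ∀ i, i < 6466 → P i := stepQ 6465 Q6465 (allL N6465 (tt N8420 (iv F13992)) (tt N7397 (iv F12273)) (tt N8427 D8427) (tt N4892 (iv D6465)) (tt N4893 F10694) (tt N8428 D8428))
theorem Q6467 : ∀ i, i < 6467 → P i := stepQ 6466 Q6466 (allL N6466 (tt N8421 (iv F13994)) (tt N7568 (iv F12531)) (tt N8426 (iv F14006)) (tt N8428 (iv F14009)) (tt N8279 (iv F13743)) (tt N4892 (iv D6466)))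
theorem Q6468 : ∀ i, i < 6468 → P i := stepQ 6467 Q6467 (allL N6467 (tt N8422 (iv F13997)) (tt N8429 D8429) (tt N4893 (iv D6467)) (tt N8430 D8430) (tt N8427 (iv F14008)) (tt N8431 D8431))
theorem Q6469 : ∀ i, i < 6469 → P i := stepQ 6468 Q6468 (allL N6468 (tt N8423 (iv F13998)) (tt N6609 (iv F10913)) (tt N8431 (iv F14010)) (tt N4894 F10695) (tt N8432 D8432) (tt N4893 (iv D6468)))
theorem Q6470 : ∀ i, i < 6470 → P i := stepQ 6469 Q6469 (allL N6469 (tt N4897 F10696) (tt N8433 D8433) (tt N4895 (iv D6469)) (tt N8434 D8434) (tt N8277 (iv F13738)) (tt N5816 F10697))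
theorem Q6471 : ∀ i, i < 6471 → P i := stepQ 6470 Q6470 (allL N6470 (tt N8434 (iv F14013)) (tt N5820 F10698) (tt N8435 D8435) (tt N4897 (iv D6470)) (tt N8436 D8436) (tt N5817 F10699))
theorem Q6472 : ∀ i, i < 6472 → P i := stepQ 6471 Q6471 (allL N6471 (tt N4901 F10700) (tt N4928 F10701) (tt N5381 F10702) (tt N8437 D8437) (tt N4898 (iv D6471)) (tt N8438 D8438))
theorem Q6473 : ∀ i, i < 6473 → P i := stepQ 6472 Q6472 (allL N6472 (tt N4902 F10703) (tt N5785 F10704) (tt N8439 D8439) (tt N4899 (iv D6472)) (tt N8437 (iv F14019)) (tt N8440 D8440))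
theorem Q6474 : ∀ i, i < 6474 → P i := stepQ 6473 Q6473 (allL N6473 (tt N4903 F10705) (tt N5786 F10706) (tt N4900 F10707) (tt N8440 (iv F14030)) (tt N5824 F10708) (tt N4899 (iv D6473)))
theorem Q6475 : ∀ i, i < 6475 → P i := stepQ 6474 Q6474 (allL N6474 (tt N8437 (iv F14017)) (tt N8318 (iv F13832)) (tt N8441 D8441) (tt N4901 (iv D6474)) (tt N4902 F10709) (tt N8442 D8442))
theorem Q6476 : ∀ i, i < 6476 → P i := stepQ 6475 Q6475 (allL N6475 (tt N8438 (iv F14020)) (tt N8317 (iv F13828)) (tt N7654 (iv F12661)) (tt N8442 (iv F14032)) (tt N8313 (iv F13819)) (tt N4901 (iv D6475)))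
theorem Q6477 : ∀ i, i < 6477 → P i := stepQ 6476 Q6476 (allL N6476 (tt N8439 (iv F14024)) (tt N8443 D8443) (tt N4902 (iv D6476)) (tt N8444 D8444) (tt N8441 (iv F14031)) (tt N8445 D8445))
theorem Q6478 : ∀ i, i < 6478 → P i := stepQ 6477 Q6477 (allL N6477 (tt N8440 (iv F14027)) (tt N8323 (iv F13835)) (tt N8445 (iv F14037)) (tt N4903 F10710) (tt N8446 D8446) (tt N4902 (iv D6477)))
theorem Q6479 : ∀ i, i < 6479 → P i := stepQ 6478 Q6478 (allL N6478 (tt N5517 F10711) (tt N5049 F10712) (tt N6893 (iv F11404)) (tt N4904 (iv D6478)) (tt N8447 D8447) (tt N5037 F10713))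
theorem Q6480 : ∀ i, i < 6480 → P i := stepQ 6479 Q6479 (allL N6479 (tt N4906 F10714) (tt N5781 F10715) (tt N8448 D8448) (tt N4905 (iv D6479)) (tt N5767 F10716) (tt N8449 D8449))
theorem Q6481 : ∀ i, i < 6481 → P i := stepQ 6480 Q6480 (allL N6480 (tt N4907 F10717) (tt N5782 F10718) (tt N4911 F10719) (tt N8449 (iv F14045)) (tt N5826 F10720) (tt N4905 (iv D6480)))
theorem Q6482 : ∀ i, i < 6482 → P i := stepQ 6481 Q6481 (allL N6481 (tt N8448 (iv F14041)) (tt N8450 D8450) (tt N4906 (iv D6481)) (tt N8451 D8451) (tt N5769 F10721) (tt N8452 D8452))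
theorem Q6483 : ∀ i, i < 6483 → P i := stepQ 6482 Q6482 (allL N6482 (tt N8449 (iv F14043)) (tt N4909 F10722) (tt N8452 (iv F14048)) (tt N4907 F10723) (tt N8453 D8453) (tt N4906 (iv D6482)))
theorem Q6484 : ∀ i, i < 6484 → P i := stepQ 6483 Q6483 (allL N6483 (tt N8454 D8454) (tt N4908 (iv D6483)) (tt N8450 (iv F14046)) (tt N8455 D8455) (tt N5773 F10724) (tt N8456 D8456))
theorem Q6485 : ∀ i, i < 6485 → P i := stepQ 6484 Q6484 (allL N6484 (tt N5216 F10725) (tt N8455 (iv F14054)) (tt N5203 F10726) (tt N4908 (iv D6484)) (tt N6594 (iv F10891)) (tt N5202 F10727))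
theorem Q6486 : ∀ i, i < 6486 → P i := stepQ 6485 Q6485 (allL N6485 (tt N5215 F10728) (tt N8456 (iv F14056)) (tt N4909 F10729) (tt N5202 F10730) (tt N6593 (iv F10890)) (tt N4908 (iv D6485)))
theorem Q6487 : ∀ i, i < 6487 → P i := stepQ 6486 Q6486 (allL N6486 (tt N5794 F10731) (tt N8453 (iv F14049)) (tt N6593 (iv F10889)) (tt N5832 F10732) (tt N4909 (iv D6486)) (tt N5774 F10733))
theorem Q6488 : ∀ i, i < 6488 → P i := stepQ 6487 Q6487 (allL N6487 (tt N4912 F10734) (tt N8457 D8457) (tt N4910 (iv D6487)) (tt N8458 D8458) (tt N8283 (iv F13753)) (tt N8459 D8459))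
theorem Q6489 : ∀ i, i < 6489 → P i := stepQ 6488 Q6488 (allL N6488 (tt N4913 F10735) (tt N8308 (iv F13806)) (tt N8459 (iv F14060)) (tt N4911 F10736) (tt N8460 D8460) (tt N4910 (iv D6488)))
theorem Q6490 : ∀ i, i < 6490 → P i := stepQ 6489 Q6489 (allL N6489 (tt N8461 D8461) (tt N4912 (iv D6489)) (tt N4914 F10737) (tt N8462 D8462) (tt N8284 (iv F13755)) (tt N6717 (iv F11114)))
theorem Q6491 : ∀ i, i < 6491 → P i := stepQ 6490 Q6490 (allL N6490 (tt N8458 (iv F14058)) (tt N8462 (iv F14063)) (tt N8463 D8463) (tt N4912 (iv D6490)) (tt N8464 D8464) (tt N8465 D8465))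
theorem Q6492 : ∀ i, i < 6492 → P i := stepQ 6491 Q6491 (allL N6491 (tt N8459 (iv F14059)) (tt N6717 (iv F11113)) (tt N4913 F10738) (tt N8465 (iv F14064)) (tt N8466 D8466) (tt N4912 (iv D6491)))
theorem Q6493 : ∀ i, i < 6493 → P i := stepQ 6492 Q6492 (allL N6492 (tt N8460 (iv F14061)) (tt N4915 F10739) (tt N8466 (iv F14065)) (tt N6696 (iv F11071)) (tt N4913 (iv D6492)) (tt N6709 (iv F11096)))
theorem Q6494 : ∀ i, i < 6494 → P i := stepQ 6493 Q6493 (allL N6493 (tt N4914 (iv D6493)) (tt N8332 (iv F13846)) (tt N8461 (iv F14062)) (tt N6716 (iv F11112)) (tt N8286 (iv F13759)) (tt N6715 F11110))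
theorem Q6495 : ∀ i, i < 6495 → P i := stepQ 6494 Q6494 (allL N6494 (tt N8467 D8467) (tt N4916 (iv D6494)) (tt N5522 F10740) (tt N6674 (iv F11031)) (tt N5101 F10741) (tt N4917 F10742))
theorem Q6496 : ∀ i, i < 6496 → P i := stepQ 6495 Q6495 (allL N6495 (tt N4917 (iv D6495)) (tt N5047 F10743) (tt N5520 F10744) (tt N6670 (iv F11025)) (tt N4918 F10745) (tt N8467 (iv F14069)))
theorem Q6497 : ∀ i, i < 6497 → P i := stepQ 6496 Q6496 (allL N6496 (tt N8468 D8468) (tt N4920 (iv D6496)) (tt N5406 F10746) (tt N7565 (iv F12523)) (tt N5400 F10747) (tt N7564 F12521))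
theorem Q6498 : ∀ i, i < 6498 → P i := stepQ 6497 Q6497 (allL N6497 (tt N4927 F10748) (tt N5409 F10749) (tt N7566 (iv F12525)) (tt N6580 (iv F10873)) (tt N4921 (iv D6497)) (tt N5403 F10750))
theorem Q6499 : ∀ i, i < 6499 → P i := stepQ 6498 Q6498 (allL N6498 (tt N8469 D8469) (tt N4922 (iv D6498)) (tt N5477 F10751) (tt N8470 D8470) (tt N4924 F10752) (tt N8471 D8471))
theorem Q6500 : ∀ i, i < 6500 → P i := stepQ 6499 Q6499 (allL N6499 (tt N5401 F10753) (tt N8470 (iv F14077)) (tt N5292 F10754) (tt N4922 (iv D6499)) (tt N8472 D8472) (tt N5415 (iv F10755)))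
theorem Q6501 : ∀ i, i < 6501 → P i := stepQ 6500 Q6500 (allL N6500 (tt N5402 F10756) (tt N8471 (iv F14081)) (tt N4923 F10757) (tt N5415 F10758) (tt N8473 D8473) (tt N4922 (iv D6500)))
theorem Q6502 : ∀ i, i < 6502 → P i := stepQ 6501 Q6501 (allL N6501 (tt N5403 F10759) (tt N5478 F10760) (tt N8473 (iv F14088)) (tt N5729 F10761) (tt N4923 (iv D6501)) (tt N4927 F10762))
theorem Q6503 : ∀ i, i < 6503 → P i := stepQ 6502 Q6502 (allL N6502 (tt N4924 (iv D6502)) (tt N8468 (iv F14070)) (tt N5860 F10763) (tt N8474 D8474) (tt N8469 (iv F14075)) (tt N8475 D8475))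
theorem Q6504 : ∀ i, i < 6504 → P i := stepQ 6503 Q6503 (allL N6503 (tt N8474 (iv F14090)) (tt N4925 F10764) (tt N8476 D8476) (tt N4924 (iv D6503)) (tt N8477 D8477) (tt N7555 (iv F12509)))
theorem Q6505 : ∀ i, i < 6505 → P i := stepQ 6504 Q6504 (allL N6504 (tt N8475 (iv F14091)) (tt N4926 F10765) (tt N5862 F10766) (tt N7555 (iv F12508)) (tt N8478 D8478) (tt N4924 (iv D6504)))
theorem Q6506 : ∀ i, i < 6506 → P i := stepQ 6505 Q6505 (allL N6505 (tt N7567 (iv F12527)) (tt N8477 (iv F14093)) (tt N7556 (iv F12511)) (tt N8472 (iv F14086)) (tt N4925 (iv D6505)) (tt N8479 D8479))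
theorem Q6507 : ∀ i, i < 6507 → P i := stepQ 6506 Q6506 (allL N6506 (tt N7566 (iv F12524)) (tt N8478 (iv F14094)) (tt N4927 F10767) (tt N8480 D8480) (tt N4926 (iv D6506)) (tt N8473 (iv F14089)))
theorem Q6508 : ∀ i, i < 6508 → P i := stepQ 6507 Q6507 (allL N6507 (tt N4932 F10768) (tt N8437 (iv F14018)) (tt N8481 D8481) (tt N4928 (iv D6507)) (tt N5785 F10769) (tt N8482 D8482))
theorem Q6509 : ∀ i, i < 6509 → P i := stepQ 6508 Q6508 (allL N6508 (tt N4933 F10770) (tt N8438 (iv F14021)) (tt N4929 F10771) (tt N8482 (iv F14102)) (tt N8389 (iv F13931)) (tt N4928 (iv D6508)))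
theorem Q6510 : ∀ i, i < 6510 → P i := stepQ 6509 Q6509 (allL N6509 (tt N4934 F10772) (tt N8483 D8483) (tt N4930 (iv D6509)) (tt N8484 D8484) (tt N8409 (iv F13972)) (tt N5584 F10773))
theorem Q6511 : ∀ i, i < 6511 → P i := stepQ 6510 Q6510 (allL N6510 (tt N5785 F10774) (tt N8307 (iv F13803)) (tt N8485 D8485) (tt N4931 (iv D6510)) (tt N4932 F10775) (tt N8486 D8486))
theorem Q6512 : ∀ i, i < 6512 → P i := stepQ 6511 Q6511 (allL N6511 (tt N5786 F10776) (tt N8306 (iv F13799)) (tt N5782 F10777) (tt N8486 (iv F14111)) (tt N8303 (iv F13793)) (tt N4931 (iv D6511)))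
theorem Q6513 : ∀ i, i < 6513 → P i := stepQ 6512 Q6512 (allL N6512 (tt N8481 (iv F14096)) (tt N8487 D8487) (tt N4932 (iv D6512)) (tt N8488 D8488) (tt N8485 (iv F14109)) (tt N8489 D8489))
theorem Q6514 : ∀ i, i < 6514 → P i := stepQ 6513 Q6513 (allL N6513 (tt N8482 (iv F14100)) (tt N8388 (iv F13927)) (tt N8489 (iv F14116)) (tt N4933 F10778) (tt N8490 D8490) (tt N4932 (iv D6513)))
theorem Q6515 : ∀ i, i < 6515 → P i := stepQ 6514 Q6514 (allL N6514 (tt N8484 (iv F14105)) (tt N6576 (iv F10863)) (tt N8484 (iv F14106)) (tt N4934 (iv D6514)) (tt N8491 D8491) (tt N5591 F10779))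
theorem Q6516 : ∀ i, i < 6516 → P i := stepQ 6515 Q6515 (allL N6515 (tt N5490 F10780) (tt N4936 F10781) (tt N8492 D8492) (tt N4935 (iv D6515)) (tt N5487 F10782) (tt N8493 D8493))
theorem Q6517 : ∀ i, i < 6517 → P i := stepQ 6516 Q6516 (allL N6516 (tt N5491 F10783) (tt N4937 F10784) (tt N8313 (iv F13818)) (tt N8493 (iv F14122)) (tt N7654 (iv F12662)) (tt N4935 (iv D6516)))
theorem Q6518 : ∀ i, i < 6518 → P i := stepQ 6517 Q6517 (allL N6517 (tt N4949 F10785) (tt N8494 D8494) (tt N4936 (iv D6517)) (tt N4976 F10786) (tt N7503 (iv F12415)) (tt N4975 (iv F10787)))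
theorem Q6519 : ∀ i, i < 6519 → P i := stepQ 6518 Q6518 (allL N6518 (tt N4950 F10788) (tt N8493 (iv F14121)) (tt N4975 F10789) (tt N4937 F10790) (tt N8495 D8495) (tt N4936 (iv D6518)))
theorem Q6520 : ∀ i, i < 6520 → P i := stepQ 6519 Q6519 (allL N6519 (tt N4951 F10791) (tt N7654 (iv F12660)) (tt N4939 F10792) (tt N8496 D8496) (tt N4937 (iv D6519)) (tt N4938 F10793))
theorem Q6521 : ∀ i, i < 6521 → P i := stepQ 6520 Q6520 (allL N6520 (tt N4952 F10794) (tt N7653 (iv F12657)) (tt N8497 D8497) (tt N4938 (iv D6520)) (tt N7265 (iv F12048)) (tt N8496 (iv F14128)))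
theorem Q6522 : ∀ i, i < 6522 → P i := stepQ 6521 Q6521 (allL N6521 (tt N4953 F10795) (tt N8498 D8498) (tt N4940 (iv D6521)) (tt N8499 D8499) (tt N4941 F10796) (tt N8268 (iv F13723)))
theorem Q6523 : ∀ i, i < 6523 → P i := stepQ 6522 Q6522 (allL N6522 (tt N8500 D8500) (tt N4941 (iv D6522)) (tt N8368 (iv F13904)) (tt N7455 (iv F12337)) (tt N8498 (iv F14130)) (tt N4967 F10797))
theorem Q6524 : ∀ i, i < 6524 → P i := stepQ 6523 Q6523 (allL N6523 (tt N4944 F10798) (tt N5490 F10799) (tt N8501 D8501) (tt N4942 (iv D6523)) (tt N5389 F10800) (tt N8502 D8502))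
theorem Q6525 : ∀ i, i < 6525 → P i := stepQ 6524 Q6524 (allL N6524 (tt N4945 F10801) (tt N5491 F10802) (tt N4957 F10803) (tt N8502 (iv F14138)) (tt N5385 F10804) (tt N4942 (iv D6524)))
theorem Q6526 : ∀ i, i < 6526 → P i := stepQ 6525 Q6525 (allL N6525 (tt N5389 F10805) (tt N4946 F10806) (tt N8503 D8503) (tt N4943 (iv D6525)) (tt N4944 F10807) (tt N8504 D8504))
theorem Q6527 : ∀ i, i < 6527 → P i := stepQ 6526 Q6526 (allL N6526 (tt N5388 F10808) (tt N4947 F10809) (tt N5378 F10810) (tt N8504 (iv F14143)) (tt N5377 F10811) (tt N4943 (iv D6526)))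
theorem Q6528 : ∀ i, i < 6528 → P i := stepQ 6527 Q6527 (allL N6527 (tt N8501 (iv F14134)) (tt N8505 D8505) (tt N4944 (iv D6527)) (tt N8506 D8506) (tt N8503 (iv F14140)) (tt N8507 D8507))
theorem Q6529 : ∀ i, i < 6529 → P i := stepQ 6528 Q6528 (allL N6528 (tt N8502 (iv F14136)) (tt N4950 F10812) (tt N8507 (iv F14145)) (tt N4945 F10813) (tt N8508 D8508) (tt N4944 (iv D6528)))
theorem Q6530 : ∀ i, i < 6530 → P i := stepQ 6529 Q6529 (allL N6529 (tt N7503 (iv F12414)) (tt N8509 D8509) (tt N4946 (iv D6529)) (tt N8510 D8510) (tt N4949 F10814) (tt N8511 D8511))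
theorem Q6531 : ∀ i, i < 6531 → P i := stepQ 6530 Q6530 (allL N6530 (tt N7504 (iv F12416)) (tt N8504 (iv F14142)) (tt N8511 (iv F14149)) (tt N4947 F10815) (tt N8512 D8512) (tt N4946 (iv D6530)))
theorem Q6532 : ∀ i, i < 6532 → P i := stepQ 6531 Q6531 (allL N6531 (tt N7266 (iv F12049)) (tt N5377 F10816) (tt N7262 (iv F12038)) (tt N8513 D8513) (tt N4947 (iv D6531)) (tt N4948 F10817))
theorem Q6533 : ∀ i, i < 6533 → P i := stepQ 6532 Q6532 (allL N6532 (tt N7265 (iv F12046)) (tt N5376 F10818) (tt N8514 D8514) (tt N4948 (iv D6532)) (tt N4952 F10819) (tt N8513 (iv F14152)))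
theorem Q6534 : ∀ i, i < 6534 → P i := stepQ 6533 Q6533 (allL N6533 (tt N8515 D8515) (tt N4949 (iv D6533)) (tt N8505 (iv F14144)) (tt N8516 D8516) (tt N8509 (iv F14148)) (tt N8517 D8517))
theorem Q6535 : ∀ i, i < 6535 → P i := stepQ 6534 Q6534 (allL N6534 (tt N4976 F10820) (tt N8516 (iv F14154)) (tt N4966 F10821) (tt N4949 (iv D6534)) (tt N8518 D8518) (tt N4965 F10822))
theorem Q6536 : ∀ i, i < 6536 → P i := stepQ 6535 Q6535 (allL N6535 (tt N4975 F10823) (tt N8517 (iv F14156)) (tt N4950 F10824) (tt N4965 F10825) (tt N8519 D8519) (tt N4949 (iv D6535)))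
theorem Q6537 : ∀ i, i < 6537 → P i := stepQ 6536 Q6536 (allL N6536 (tt N8495 (iv F14125)) (tt N8508 (iv F14146)) (tt N8519 (iv F14161)) (tt N8520 D8520) (tt N4950 (iv D6536)) (tt N8512 (iv F14150)))
theorem Q6538 : ∀ i, i < 6538 → P i := stepQ 6537 Q6537 (allL N6537 (tt N8496 (iv F14127)) (tt N5526 F10826) (tt N8521 D8521) (tt N4951 (iv D6537)) (tt N8520 (iv F14163)) (tt N4952 F10827))
theorem Q6539 : ∀ i, i < 6539 → P i := stepQ 6538 Q6538 (allL N6538 (tt N8497 (iv F14129)) (tt N8522 D8522) (tt N4952 (iv D6538)) (tt N8523 D8523) (tt N8514 (iv F14153)) (tt N8521 (iv F14164)))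
theorem Q6540 : ∀ i, i < 6540 → P i := stepQ 6539 Q6539 (allL N6539 (tt N8499 (iv F14131)) (tt N8363 (iv F13895)) (tt N8524 D8524) (tt N4953 (iv D6539)) (tt N8525 D8525) (tt N8276 (iv F13736)))
theorem Q6541 : ∀ i, i < 6541 → P i := stepQ 6540 Q6540 (allL N6540 (tt N4954 (iv D6540)) (tt N8500 (iv F14132)) (tt N4959 F10828) (tt N8526 D8526) (tt N8356 (iv F13889)) (tt N4978 F10829))
theorem Q6542 : ∀ i, i < 6542 → P i := stepQ 6541 Q6541 (allL N6541 (tt N8526 (iv F14167)) (tt N4955 F10830) (tt N8527 D8527) (tt N4954 (iv D6541)) (tt N8528 D8528) (tt N4979 F10831))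
theorem Q6543 : ∀ i, i < 6543 → P i := stepQ 6542 Q6542 (allL N6542 (tt N7456 (iv F12339)) (tt N8528 (iv F14170)) (tt N7454 (iv F12336)) (tt N8525 (iv F14166)) (tt N4955 (iv D6542)) (tt N8529 D8529))
theorem Q6544 : ∀ i, i < 6544 → P i := stepQ 6543 Q6543 (allL N6543 (tt N4958 F10832) (tt N8530 D8530) (tt N4956 (iv D6543)) (tt N8531 D8531) (tt N5441 F10833) (tt N8413 (iv F13981)))
theorem Q6545 : ∀ i, i < 6545 → P i := stepQ 6544 Q6544 (allL N6544 (tt N8531 (iv F14173)) (tt N8393 (iv F13940)) (tt N8532 D8532) (tt N4958 (iv D6544)) (tt N8533 D8533) (tt N8414 (iv F13983)))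
theorem Q6546 : ∀ i, i < 6546 → P i := stepQ 6545 Q6545 (allL N6545 (tt N5272 F10834) (tt N4963 F10835) (tt N8534 D8534) (tt N4960 (iv D6545)) (tt N4961 F10836) (tt N8535 D8535))
theorem Q6547 : ∀ i, i < 6547 → P i := stepQ 6546 Q6546 (allL N6546 (tt N5273 F10837) (tt N4964 F10838) (tt N7301 (iv F12124)) (tt N8535 (iv F14181)) (tt N7466 (iv F12358)) (tt N4960 (iv D6546)))
theorem Q6548 : ∀ i, i < 6548 → P i := stepQ 6547 Q6547 (allL N6547 (tt N8231 (iv F13645)) (tt N8536 D8536) (tt N4961 (iv D6547)) (tt N8537 D8537) (tt N8534 (iv F14178)) (tt N8538 D8538))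
theorem Q6549 : ∀ i, i < 6549 → P i := stepQ 6548 Q6548 (allL N6548 (tt N6783 (iv F11213)) (tt N4966 F10839) (tt N8538 (iv F14183)) (tt N4962 F10840) (tt N8539 D8539) (tt N4961 (iv D6548)))
theorem Q6550 : ∀ i, i < 6550 → P i := stepQ 6549 Q6549 (allL N6549 (tt N4972 F10841) (tt N8540 D8540) (tt N4963 (iv D6549)) (tt N8541 D8541) (tt N4965 F10842) (tt N8542 D8542))
theorem Q6551 : ∀ i, i < 6551 → P i := stepQ 6550 Q6550 (allL N6550 (tt N4973 F10843) (tt N8535 (iv F14180)) (tt N8542 (iv F14188)) (tt N4964 F10844) (tt N8543 D8543) (tt N4963 (iv D6550)))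
theorem Q6552 : ∀ i, i < 6552 → P i := stepQ 6551 Q6551 (allL N6551 (tt N8544 D8544) (tt N4965 (iv D6551)) (tt N8536 (iv F14182)) (tt N8517 (iv F14157)) (tt N8540 (iv F14185)) (tt N8516 F14155))
theorem Q6553 : ∀ i, i < 6553 → P i := stepQ 6552 Q6552 (allL N6552 (tt N4977 F10845) (tt N8539 (iv F14184)) (tt N8518 (iv F14159)) (tt N8236 (iv F13655)) (tt N4966 (iv D6552)) (tt N8543 (iv F14190)))
theorem Q6554 : ∀ i, i < 6554 → P i := stepQ 6553 Q6553 (allL N6553 (tt N4967 (iv D6553)) (tt N4978 F10846) (tt N8365 (iv F13900)) (tt N8545 D8545) (tt N8264 (iv F13713)) (tt N8500 (iv F14133)))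
theorem Q6555 : ∀ i, i < 6555 → P i := stepQ 6554 Q6554 (allL N6554 (tt N8545 (iv F14192)) (tt N4968 F10847) (tt N8546 D8546) (tt N4967 (iv D6554)) (tt N8547 D8547) (tt N7455 (iv F12338)))
theorem Q6556 : ∀ i, i < 6556 → P i := stepQ 6555 Q6555 (allL N6555 (tt N4981 F10848) (tt N8547 (iv F14194)) (tt N7258 (iv F12024)) (tt N8267 (iv F13720)) (tt N4968 (iv D6555)) (tt N8548 D8548))
theorem Q6557 : ∀ i, i < 6557 → P i := stepQ 6556 Q6556 (allL N6556 (tt N7285 (iv F12091)) (tt N4970 F10849) (tt N8549 D8549) (tt N4969 (iv D6556)) (tt N7283 (iv F12086)) (tt N8550 D8550))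
theorem Q6558 : ∀ i, i < 6558 → P i := stepQ 6557 Q6557 (allL N6557 (tt N7286 (iv F12094)) (tt N4971 F10850) (tt N5249 F10851) (tt N8550 (iv F14197)) (tt N7459 (iv F12347)) (tt N4969 (iv D6557)))
theorem Q6559 : ∀ i, i < 6559 → P i := stepQ 6558 Q6558 (allL N6558 (tt N7294 (iv F12111)) (tt N8551 D8551) (tt N4970 (iv D6558)) (tt N8552 D8552) (tt N7292 (iv F12108)) (tt N8553 D8553))
theorem Q6560 : ∀ i, i < 6560 → P i := stepQ 6559 Q6559 (allL N6559 (tt N7295 (iv F12113)) (tt N8550 (iv F14196)) (tt N8553 (iv F14198)) (tt N4971 F10852) (tt N8554 D8554) (tt N4970 (iv D6559)))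
theorem Q6561 : ∀ i, i < 6561 → P i := stepQ 6560 Q6560 (allL N6560 (tt N8555 D8555) (tt N4972 (iv D6560)) (tt N8253 (iv F13697)) (tt N8556 D8556) (tt N4974 F10853) (tt N8557 D8557))
theorem Q6562 : ∀ i, i < 6562 → P i := stepQ 6561 Q6561 (allL N6561 (tt N8541 (iv F14186)) (tt N8556 (iv F14200)) (tt N8558 D8558) (tt N4972 (iv D6561)) (tt N8559 D8559) (tt N8560 D8560))
theorem Q6563 : ∀ i, i < 6563 → P i := stepQ 6562 Q6562 (allL N6562 (tt N8542 (iv F14187)) (tt N8557 (iv F14201)) (tt N4973 F10854) (tt N8560 (iv F14203)) (tt N8561 D8561) (tt N4972 (iv D6562)))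
theorem Q6564 : ∀ i, i < 6564 → P i := stepQ 6563 Q6563 (allL N6563 (tt N8543 (iv F14189)) (tt N8245 (iv F13673)) (tt N8561 (iv F14204)) (tt N8243 (iv F13667)) (tt N4973 (iv D6563)) (tt N4977 F10855))
theorem Q6565 : ∀ i, i < 6565 → P i := stepQ 6564 Q6564 (allL N6564 (tt N4974 (iv D6564)) (tt N8544 (iv F14191)) (tt N8255 (iv F13702)) (tt N8562 D8562) (tt N8555 (iv F14199)) (tt N8563 D8563))
theorem Q6566 : ∀ i, i < 6566 → P i := stepQ 6565 Q6565 (allL N6565 (tt N8562 (iv F14206)) (tt N4975 F10856) (tt N8564 D8564) (tt N4974 (iv D6565)) (tt N8565 D8565) (tt N8494 (iv F14124)))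
theorem Q6567 : ∀ i, i < 6567 → P i := stepQ 6566 Q6566 (allL N6566 (tt N8563 (iv F14207)) (tt N4976 F10857) (tt N8246 (iv F13677)) (tt N8494 (iv F14123)) (tt N8566 D8566) (tt N4974 (iv D6566)))
theorem Q6568 : ∀ i, i < 6568 → P i := stepQ 6567 Q6567 (allL N6567 (tt N8519 (iv F14160)) (tt N8565 (iv F14208)) (tt N8495 (iv F14126)) (tt N8559 (iv F14202)) (tt N4975 (iv D6567)) (tt N8567 D8567))
theorem Q6569 : ∀ i, i < 6569 → P i := stepQ 6568 Q6568 (allL N6568 (tt N8518 (iv F14158)) (tt N8566 (iv F14209)) (tt N4977 F10858) (tt N8568 D8568) (tt N4976 (iv D6568)) (tt N8561 (iv F14205)))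
theorem Q6570 : ∀ i, i < 6570 → P i := stepQ 6569 Q6569 (allL N6569 (tt N4979 F10859) (tt N8545 (iv F14193)) (tt N8569 D8569) (tt N4978 (iv D6569)) (tt N8570 D8570) (tt N8526 (iv F14168)))
theorem Q6571 : ∀ i, i < 6571 → P i := stepQ 6570 Q6570 (allL N6570 (tt N8569 (iv F14210)) (tt N8571 D8571) (tt N4979 (iv D6570)) (tt N8572 D8572) (tt N8573 D8573) (tt N8527 (iv F14169)))
theorem Q6572 : ∀ i, i < 6572 → P i := stepQ 6571 Q6571 (allL N6571 (tt N8570 (iv F14211)) (tt N4981 F10860) (tt N8573 (iv F14213)) (tt N8271 (iv F13731)) (tt N4979 (iv D6571)) (tt N8574 D8574))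
theorem Q6573 : ∀ i, i < 6573 → P i := stepQ 6572 Q6572 (allL N6572 (tt N8575 D8575) (tt N4980 (iv D6572)) (tt N8571 (iv F14212)) (tt N7257 (iv F12020)) (tt N8576 D8576) (tt N7453 (iv F12334)))
theorem Q6574 : ∀ i, i < 6574 → P i := stepQ 6573 Q6573 (allL N6573 (tt N7258 (iv F12023)) (tt N8576 (iv F14215)) (tt N4981 F10861) (tt N7525 (iv F12459)) (tt N4980 (iv D6573)) (tt N8577 D8577))
theorem Q6575 : ∀ i, i < 6575 → P i := stepQ 6574 Q6574 (allL N6574 (tt N8548 (iv F14195)) (tt N8574 (iv F14214)) (tt N8577 (iv F14216)) (tt N8274 (iv F13733)) (tt N8529 (iv F14171)) (tt N4981 (iv D6574)))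
theorem Q6576 : ∀ i, i < 6576 → P i := stepQ 6575 Q6575 (allL N6575 (tt N4983 F10862) (tt N8578 D8578) (tt N4982 (iv D6575)) (tt N8579 D8579) (tt N8357 (iv F13891)) (tt N7345 (iv F12198)))
theorem Q6577 : ∀ i, i < 6577 → P i := stepQ 6576 Q6576 (allL N6576 (tt N8579 (iv F14218)) (tt N6514 F10863) (tt N8580 D8580) (tt N4983 (iv D6576)) (tt N8581 D8581) (tt N7346 (iv F12200)))
theorem Q6578 : ∀ i, i < 6578 → P i := stepQ 6577 Q6577 (allL N6577 (tt N8582 D8582) (tt N4984 (iv D6577)) (tt N5903 F10864) (tt N8583 D8583) (tt N7321 (iv F12153)) (tt N8584 D8584))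
theorem Q6579 : ∀ i, i < 6579 → P i := stepQ 6578 Q6578 (allL N6578 (tt N4987 F10865) (tt N8583 (iv F14222)) (tt N5004 F10866) (tt N4984 (iv D6578)) (tt N8585 D8585) (tt N5002 (iv F10867)))
theorem Q6580 : ∀ i, i < 6580 → P i := stepQ 6579 Q6579 (allL N6579 (tt N4988 F10868) (tt N8584 (iv F14224)) (tt N4985 F10869) (tt N5002 F10870) (tt N8586 D8586) (tt N4984 (iv D6579)))
theorem Q6581 : ∀ i, i < 6581 → P i := stepQ 6580 Q6580 (allL N6580 (tt N4989 F10871) (tt N5906 F10872) (tt N8586 (iv F14230)) (tt N6497 F10873) (tt N4985 (iv D6580)) (tt N7106 (iv F11775)))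
theorem Q6582 : ∀ i, i < 6582 → P i := stepQ 6581 Q6581 (allL N6581 (tt N4986 (iv D6581)) (tt N8582 (iv F14220)) (tt N4990 F10874) (tt N8587 D8587) (tt N7528 (iv F12462)) (tt N8588 D8588))
theorem Q6583 : ∀ i, i < 6583 → P i := stepQ 6582 Q6582 (allL N6582 (tt N8587 (iv F14231)) (tt N4987 F10875) (tt N8589 D8589) (tt N4986 (iv D6582)) (tt N8590 D8590) (tt N8591 D8591))
theorem Q6584 : ∀ i, i < 6584 → P i := stepQ 6583 Q6583 (allL N6583 (tt N8588 (iv F14232)) (tt N4988 F10876) (tt N4992 F10877) (tt N8591 (iv F14236)) (tt N8592 D8592) (tt N4986 (iv D6583)))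
theorem Q6585 : ∀ i, i < 6585 → P i := stepQ 6584 Q6584 (allL N6584 (tt N5004 F10878) (tt N8593 D8593) (tt N4987 (iv D6584)) (tt N4997 F10879) (tt N8594 D8594) (tt N4996 (iv F10880)))
theorem Q6586 : ∀ i, i < 6586 → P i := stepQ 6585 Q6585 (allL N6585 (tt N8585 (iv F14227)) (tt N8590 (iv F14234)) (tt N8594 (iv F14242)) (tt N7530 (iv F12464)) (tt N4987 (iv D6585)) (tt N8595 D8595))
theorem Q6587 : ∀ i, i < 6587 → P i := stepQ 6586 Q6586 (allL N6586 (tt N5002 F10881) (tt N8591 (iv F14235)) (tt N4996 F10882) (tt N4988 F10883) (tt N8596 D8596) (tt N4987 (iv D6586)))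
theorem Q6588 : ∀ i, i < 6588 → P i := stepQ 6587 Q6587 (allL N6587 (tt N8586 (iv F14229)) (tt N8592 (iv F14237)) (tt N4989 F10884) (tt N8597 D8597) (tt N4988 (iv D6587)) (tt N7531 (iv F12466)))
theorem Q6589 : ∀ i, i < 6589 → P i := stepQ 6588 Q6588 (allL N6588 (tt N4991 F10885) (tt N7540 (iv F12482)) (tt N8598 D8598) (tt N4990 (iv D6588)) (tt N8599 D8599) (tt N7577 (iv F12548)))
theorem Q6590 : ∀ i, i < 6590 → P i := stepQ 6589 Q6589 (allL N6589 (tt N4992 F10886) (tt N7541 (iv F12485)) (tt N8588 (iv F14233)) (tt N7577 (iv F12547)) (tt N8600 D8600) (tt N4990 (iv D6589)))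
theorem Q6591 : ∀ i, i < 6591 → P i := stepQ 6590 Q6590 (allL N6590 (tt N8598 (iv F14245)) (tt N7573 (iv F12540)) (tt N4991 (iv D6590)) (tt N8601 D8601) (tt N8602 D8602) (tt N7571 F12539))
theorem Q6592 : ∀ i, i < 6592 → P i := stepQ 6591 Q6591 (allL N6591 (tt N8599 (iv F14246)) (tt N4993 F10887) (tt N8602 (iv F14248)) (tt N7524 (iv F12457)) (tt N4991 (iv D6591)) (tt N8603 D8603))
theorem Q6593 : ∀ i, i < 6593 → P i := stepQ 6592 Q6592 (allL N6592 (tt N8600 (iv F14247)) (tt N4994 F10888) (tt N8592 (iv F14238)) (tt N8604 D8604) (tt N4992 (iv D6592)) (tt N7523 (iv F12455)))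
theorem Q6594 : ∀ i, i < 6594 → P i := stepQ 6593 Q6593 (allL N6593 (tt N6875 (iv F11359)) (tt N8603 (iv F14249)) (tt N6486 F10889) (tt N7519 (iv F12444)) (tt N6485 F10890) (tt N4993 (iv D6593)))
theorem Q6595 : ∀ i, i < 6595 → P i := stepQ 6594 Q6594 (allL N6594 (tt N6876 (iv F11363)) (tt N8604 (iv F14251)) (tt N6857 (iv F11325)) (tt N4994 (iv D6594)) (tt N6484 F10891) (tt N7518 (iv F12441)))
theorem Q6596 : ∀ i, i < 6596 → P i := stepQ 6595 Q6595 (allL N6595 (tt N4995 (iv D6595)) (tt N4999 F10892) (tt N5855 F10893) (tt N8605 D8605) (tt N5852 F10894) (tt N8606 D8606))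
theorem Q6597 : ∀ i, i < 6597 → P i := stepQ 6596 Q6596 (allL N6596 (tt N8605 (iv F14253)) (tt N4996 F10895) (tt N8607 D8607) (tt N4995 (iv D6596)) (tt N8608 D8608) (tt N8593 (iv F14240)))
theorem Q6598 : ∀ i, i < 6598 → P i := stepQ 6597 Q6597 (allL N6597 (tt N8606 (iv F14255)) (tt N4997 F10896) (tt N5857 F10897) (tt N8593 (iv F14239)) (tt N8609 D8609) (tt N4995 (iv D6597)))
theorem Q6599 : ∀ i, i < 6599 → P i := stepQ 6598 Q6598 (allL N6598 (tt N5003 F10898) (tt N8608 (iv F14259)) (tt N8596 (iv F14244)) (tt N5854 F10899) (tt N4996 (iv D6598)) (tt N8610 D8610))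
theorem Q6600 : ∀ i, i < 6600 → P i := stepQ 6599 Q6599 (allL N6599 (tt N5005 F10900) (tt N8609 (iv F14262)) (tt N4998 F10901) (tt N8611 D8611) (tt N4997 (iv D6599)) (tt N5626 F10902))
theorem Q6601 : ∀ i, i < 6601 → P i := stepQ 6600 Q6600 (allL N6600 (tt N5000 F10903) (tt N8605 (iv F14254)) (tt N8612 D8612) (tt N4999 (iv D6600)) (tt N6838 (iv F11304)) (tt N8613 D8613))
theorem Q6602 : ∀ i, i < 6602 → P i := stepQ 6601 Q6601 (allL N6601 (tt N5001 F10904) (tt N8606 (iv F14256)) (tt N5007 F10905) (tt N8613 (iv F14272)) (tt N6462 F10906) (tt N4999 (iv D6601)))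
theorem Q6603 : ∀ i, i < 6603 → P i := stepQ 6602 Q6602 (allL N6602 (tt N8612 (iv F14270)) (tt N8614 D8614) (tt N5000 (iv D6602)) (tt N8615 D8615) (tt N8616 D8616) (tt N8617 D8617))
theorem Q6604 : ∀ i, i < 6604 → P i := stepQ 6603 Q6603 (allL N6603 (tt N6838 (iv F11303)) (tt N5003 F10907) (tt N8616 (iv F14274)) (tt N6346 F10908) (tt N5000 (iv D6603)) (tt N8618 D8618))
theorem Q6605 : ∀ i, i < 6605 → P i := stepQ 6604 Q6604 (allL N6604 (tt N8613 (iv F14271)) (tt N5004 F10909) (tt N8617 (iv F14275)) (tt N5001 F10910) (tt N8619 D8619) (tt N5000 (iv D6604)))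
theorem Q6606 : ∀ i, i < 6606 → P i := stepQ 6605 Q6605 (allL N6605 (tt N8620 D8620) (tt N5002 (iv D6605)) (tt N8614 (iv F14273)) (tt N8584 (iv F14226)) (tt N8621 D8621) (tt N8583 F14223))
theorem Q6607 : ∀ i, i < 6607 → P i := stepQ 6606 Q6606 (allL N6606 (tt N8596 (iv F14243)) (tt N8621 (iv F14280)) (tt N5003 F10911) (tt N8622 D8622) (tt N5002 (iv D6606)) (tt N8623 D8623))
theorem Q6608 : ∀ i, i < 6608 → P i := stepQ 6607 Q6607 (allL N6607 (tt N8610 (iv F14265)) (tt N8618 (iv F14276)) (tt N8623 (iv F14281)) (tt N6349 F10912) (tt N8624 D8624) (tt N5003 (iv D6607)))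
theorem Q6609 : ∀ i, i < 6609 → P i := stepQ 6608 Q6608 (allL N6608 (tt N8594 (iv F14241)) (tt N8619 (iv F14278)) (tt N8585 (iv F14228)) (tt N8625 D8625) (tt N5004 (iv D6608)) (tt N8624 (iv F14282)))
theorem Q6610 : ∀ i, i < 6610 → P i := stepQ 6609 Q6609 (allL N6609 (tt N8611 (iv F14267)) (tt N6468 F10913) (tt N8626 D8626) (tt N5005 (iv D6609)) (tt N8625 (iv F14284)) (tt N5627 F10914))
theorem Q6611 : ∀ i, i < 6611 → P i := stepQ 6610 Q6610 (allL N6610 (tt N5008 F10915) (tt N8627 D8627) (tt N5006 (iv D6610)) (tt N8628 D8628) (tt N6454 F10916) (tt N7386 (iv F12261)))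
theorem Q6612 : ∀ i, i < 6612 → P i := stepQ 6611 Q6611 (allL N6611 (tt N8628 (iv F14290)) (tt N7385 (iv F12257)) (tt N8629 D8629) (tt N5008 (iv D6611)) (tt N8630 D8630) (tt N7387 (iv F12263)))
theorem Q6613 : ∀ i, i < 6613 → P i := stepQ 6612 Q6612 (allL N6612 (tt N8424 (iv F14000)) (tt N5012 F10917) (tt N8199 (iv F13602)) (tt N6663 (iv F11010)) (tt N5010 (iv D6612)) (tt N8631 D8631))
theorem Q6614 : ∀ i, i < 6614 → P i := stepQ 6613 Q6613 (allL N6613 (tt N5184 F10918) (tt N5013 F10919) (tt N5032 F10920) (tt N8632 D8632) (tt N5011 (iv D6613)) (tt N6665 (iv F11015)))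
theorem Q6615 : ∀ i, i < 6615 → P i := stepQ 6614 Q6614 (allL N6614 (tt N5023 F10921) (tt N8631 (iv F14292)) (tt N8045 (iv F13335)) (tt N6667 (iv F11019)) (tt N8044 (iv F13332)) (tt N5012 (iv D6614)))
theorem Q6616 : ∀ i, i < 6616 → P i := stepQ 6615 Q6615 (allL N6615 (tt N5025 F10922) (tt N8632 (iv F14294)) (tt N8633 D8633) (tt N5013 (iv D6615)) (tt N8043 (iv F13329)) (tt N6668 (iv F11021)))
theorem Q6617 : ∀ i, i < 6617 → P i := stepQ 6616 Q6616 (allL N6616 (tt N5015 F10923) (tt N6660 (iv F11005)) (tt N8634 D8634) (tt N5014 (iv D6616)) (tt N8425 (iv F14004)) (tt N8635 D8635))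
theorem Q6618 : ∀ i, i < 6618 → P i := stepQ 6617 Q6617 (allL N6617 (tt N5016 F10924) (tt N6661 (iv F11007)) (tt N5027 F10925) (tt N8635 (iv F14298)) (tt N5187 F10926) (tt N5014 (iv D6617)))
theorem Q6619 : ∀ i, i < 6619 → P i := stepQ 6618 Q6618 (allL N6618 (tt N8634 (iv F14296)) (tt N8636 D8636) (tt N5015 (iv D6618)) (tt N8637 D8637) (tt N8638 D8638) (tt N8636 F14300))
theorem Q6620 : ∀ i, i < 6620 → P i := stepQ 6619 Q6619 (allL N6619 (tt N8425 (iv F14003)) (tt N5018 F10927) (tt N8638 (iv F14301)) (tt N5020 F10928) (tt N5015 (iv D6619)) (tt N8639 D8639))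
theorem Q6621 : ∀ i, i < 6621 → P i := stepQ 6620 Q6620 (allL N6620 (tt N8635 (iv F14297)) (tt N5017 F10929) (tt N8636 (iv F14299)) (tt N5016 F10930) (tt N8640 D8640) (tt N5015 (iv D6620)))
theorem Q6622 : ∀ i, i < 6622 → P i := stepQ 6621 Q6621 (allL N6621 (tt N6666 (iv F11016)) (tt N8640 (iv F14304)) (tt N5018 F10931) (tt N8641 D8641) (tt N5017 (iv D6621)) (tt N8642 D8642))
theorem Q6623 : ∀ i, i < 6623 → P i := stepQ 6622 Q6622 (allL N6622 (tt N6667 (iv F11018)) (tt N8639 (iv F14302)) (tt N8642 (iv F14308)) (tt N5023 F10932) (tt N8642 (iv F14309)) (tt N5018 (iv D6622)))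
theorem Q6624 : ∀ i, i < 6624 → P i := stepQ 6623 Q6623 (allL N6623 (tt N6668 (iv F11020)) (tt N5194 F10933) (tt N8643 D8643) (tt N5019 (iv D6623)) (tt N8641 (iv F14307)) (tt N5025 F10934))
theorem Q6625 : ∀ i, i < 6625 → P i := stepQ 6624 Q6624 (allL N6624 (tt N8426 (iv F14005)) (tt N5023 F10935) (tt N8421 (iv F13995)) (tt N8639 (iv F14303)) (tt N5192 F10936) (tt N5020 (iv D6624)))
theorem Q6626 : ∀ i, i < 6626 → P i := stepQ 6625 Q6625 (allL N6625 (tt N8191 (iv F13586)) (tt N5022 F10937) (tt N8417 (iv F13989)) (tt N8644 D8644) (tt N5021 (iv D6625)) (tt N8645 D8645))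
theorem Q6627 : ∀ i, i < 6627 → P i := stepQ 6626 Q6626 (allL N6626 (tt N8046 (iv F13337)) (tt N8644 (iv F14312)) (tt N8646 D8646) (tt N5022 (iv D6626)) (tt N8032 (iv F13306)) (tt N8647 D8647))
theorem Q6628 : ∀ i, i < 6628 → P i := stepQ 6627 Q6627 (allL N6627 (tt N8045 (iv F13333)) (tt N8645 (iv F14313)) (tt N5023 F10938) (tt N8647 (iv F14314)) (tt N8031 (iv F13304)) (tt N5022 (iv D6627)))
theorem Q6629 : ∀ i, i < 6629 → P i := stepQ 6628 Q6628 (allL N6628 (tt N8044 (iv F13330)) (tt N5192 F10939) (tt N8031 (iv F13303)) (tt N8648 D8648) (tt N5023 (iv D6628)) (tt N5024 F10940))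
theorem Q6630 : ∀ i, i < 6630 → P i := stepQ 6629 Q6629 (allL N6629 (tt N8043 (iv F13328)) (tt N5191 F10941) (tt N8649 D8649) (tt N5024 (iv D6629)) (tt N5025 F10942) (tt N8648 (iv F14316)))
theorem Q6631 : ∀ i, i < 6631 → P i := stepQ 6630 Q6630 (allL N6630 (tt N8633 (iv F14295)) (tt N8650 D8650) (tt N5025 (iv D6630)) (tt N8643 (iv F14311)) (tt N8649 (iv F14317)) (tt N8643 (iv F14310)))
theorem Q6632 : ∀ i, i < 6632 → P i := stepQ 6631 Q6631 (allL N6631 (tt N5028 F10943) (tt N8651 D8651) (tt N5026 (iv D6631)) (tt N8652 D8652) (tt N5188 F10944) (tt N8653 D8653))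
theorem Q6633 : ∀ i, i < 6633 → P i := stepQ 6632 Q6632 (allL N6632 (tt N5029 F10945) (tt N5069 F10946) (tt N8653 (iv F14323)) (tt N5027 F10947) (tt N8654 D8654) (tt N5026 (iv D6632)))
theorem Q6634 : ∀ i, i < 6634 → P i := stepQ 6633 Q6633 (allL N6633 (tt N8655 D8655) (tt N5028 (iv D6633)) (tt N5030 F10948) (tt N8656 D8656) (tt N5195 F10949) (tt N5062 (iv F10950)))
theorem Q6635 : ∀ i, i < 6635 → P i := stepQ 6634 Q6634 (allL N6634 (tt N8652 (iv F14321)) (tt N8656 (iv F14331)) (tt N8657 D8657) (tt N5028 (iv D6634)) (tt N8658 D8658) (tt N8659 D8659))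
theorem Q6636 : ∀ i, i < 6636 → P i := stepQ 6635 Q6635 (allL N6635 (tt N8653 (iv F14322)) (tt N5062 F10951) (tt N5029 F10952) (tt N8659 (iv F14335)) (tt N8660 D8660) (tt N5028 (iv D6635)))
theorem Q6637 : ∀ i, i < 6637 → P i := stepQ 6636 Q6636 (allL N6636 (tt N8654 (iv F14324)) (tt N5031 F10953) (tt N8660 (iv F14337)) (tt N5176 F10954) (tt N5029 (iv D6636)) (tt N5177 F10955))
theorem Q6638 : ∀ i, i < 6638 → P i := stepQ 6637 Q6637 (allL N6637 (tt N5030 (iv D6637)) (tt N5078 F10956) (tt N8655 (iv F14328)) (tt N5061 F10957) (tt N5197 F10958) (tt N5060 F10959))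
theorem Q6639 : ∀ i, i < 6639 → P i := stepQ 6638 Q6638 (allL N6638 (tt N5032 (iv D6638)) (tt N5048 F10960) (tt N5184 F10961) (tt N8661 D8661) (tt N5034 F10962) (tt N6671 (iv F11028)))
theorem Q6640 : ∀ i, i < 6640 → P i := stepQ 6639 Q6639 (allL N6639 (tt N8661 (iv F14339)) (tt N5033 F10963) (tt N8662 D8662) (tt N5032 (iv D6639)) (tt N5100 F10964) (tt N6675 (iv F11035)))
theorem Q6641 : ∀ i, i < 6641 → P i := stepQ 6640 Q6640 (allL N6640 (tt N5037 F10965) (tt N5283 F10966) (tt N5494 F10968) (tt N5035 (iv D6640)) (tt N8663 D8663) (tt N5517 F10967))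
theorem Q6642 : ∀ i, i < 6642 → P i := stepQ 6641 Q6641 (allL N6641 (tt N5036 (iv D6641)) (tt N5285 F10969) (tt N5038 F10970) (tt N5087 (iv F10972)) (tt N6879 (iv F11371)) (tt N5046 F10971))
theorem Q6643 : ∀ i, i < 6643 → P i := stepQ 6642 Q6642 (allL N6642 (tt N5087 F10973) (tt N5037 F10974) (tt N5083 F10975) (tt N5036 (iv D6642)) (tt N8664 D8664) (tt N5049 F10976))
theorem Q6644 : ∀ i, i < 6644 → P i := stepQ 6643 Q6643 (allL N6643 (tt N8663 (iv F14344)) (tt N8664 (iv F14348)) (tt N7659 (iv F12670)) (tt N6883 (iv F11376)) (tt N5037 (iv D6643)) (tt N8665 D8665))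
theorem Q6645 : ∀ i, i < 6645 → P i := stepQ 6644 Q6644 (allL N6644 (tt N5041 F10977) (tt N8666 D8666) (tt N5039 (iv D6644)) (tt N8667 D8667) (tt N8668 D8668) (tt N6683 (iv F11049)))
theorem Q6646 : ∀ i, i < 6646 → P i := stepQ 6645 Q6645 (allL N6645 (tt N5042 F10978) (tt N6670 (iv F11024)) (tt N8668 (iv F14354)) (tt N5047 F10979) (tt N5039 (iv D6645)) (tt N8669 D8669))
theorem Q6647 : ∀ i, i < 6647 → P i := stepQ 6646 Q6646 (allL N6646 (tt N5043 F10980) (tt N6671 (iv F11027)) (tt N5070 F10981) (tt N8670 D8670) (tt N5040 (iv D6646)) (tt N5048 F10982))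
theorem Q6648 : ∀ i, i < 6648 → P i := stepQ 6647 Q6647 (allL N6647 (tt N8667 (iv F14350)) (tt N6688 (iv F11057)) (tt N8671 D8671) (tt N5041 (iv D6647)) (tt N8672 D8672) (tt N6684 (iv F11051)))
theorem Q6649 : ∀ i, i < 6649 → P i := stepQ 6648 Q6648 (allL N6648 (tt N8668 (iv F14353)) (tt N6691 (iv F11060)) (tt N5042 F10983) (tt N8673 D8673) (tt N5041 (iv D6648)) (tt N8674 D8674))
theorem Q6650 : ∀ i, i < 6650 → P i := stepQ 6649 Q6649 (allL N6649 (tt N8669 (iv F14355)) (tt N5044 F10984) (tt N8674 (iv F14364)) (tt N5051 F10985) (tt N6389 F10986) (tt N5042 (iv D6649)))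
theorem Q6651 : ∀ i, i < 6651 → P i := stepQ 6650 Q6650 (allL N6650 (tt N8670 (iv F14358)) (tt N5045 F10987) (tt N8675 D8675) (tt N5043 (iv D6650)) (tt N6364 F10988) (tt N5052 F10989))
theorem Q6652 : ∀ i, i < 6652 → P i := stepQ 6651 Q6651 (allL N6651 (tt N5299 F10990) (tt N5046 (iv D6651)) (tt N5297 F10991) (tt N5118 F10992) (tt N8676 D8676) (tt N5285 F10993))
theorem Q6653 : ∀ i, i < 6653 → P i := stepQ 6652 Q6652 (allL N6652 (tt N5050 F10994) (tt N8676 (iv F14370)) (tt N5047 F10995) (tt N8677 D8677) (tt N5046 (iv D6652)) (tt N8678 D8678))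
theorem Q6654 : ∀ i, i < 6654 → P i := stepQ 6653 Q6653 (allL N6653 (tt N5051 F10996) (tt N8467 (iv F14066)) (tt N8678 (iv F14375)) (tt N8669 (iv F14356)) (tt N6887 (iv F11386)) (tt N5047 (iv D6653)))
theorem Q6655 : ∀ i, i < 6655 → P i := stepQ 6654 Q6654 (allL N6654 (tt N5052 F10997) (tt N8661 (iv F14340)) (tt N8679 D8679) (tt N5048 (iv D6654)) (tt N6886 (iv F11383)) (tt N8670 (iv F14360)))
theorem Q6656 : ∀ i, i < 6656 → P i := stepQ 6655 Q6655 (allL N6655 (tt N5119 F10998) (tt N8447 (iv F14040)) (tt N5117 F10999) (tt N8680 D8680) (tt N5049 (iv D6655)) (tt N8681 D8681))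
theorem Q6657 : ∀ i, i < 6657 → P i := stepQ 6656 Q6656 (allL N6656 (tt N8677 (iv F14372)) (tt N8331 (iv F13845)) (tt N8682 D8682) (tt N5050 (iv D6656)) (tt N8680 (iv F14378)) (tt N8683 D8683))
theorem Q6658 : ∀ i, i < 6658 → P i := stepQ 6657 Q6657 (allL N6657 (tt N8678 (iv F14374)) (tt N6885 (iv F11378)) (tt N5051 F11000) (tt N8683 (iv F14381)) (tt N6881 (iv F11375)) (tt N5050 (iv D6657)))
theorem Q6659 : ∀ i, i < 6659 → P i := stepQ 6658 Q6658 (allL N6658 (tt N8679 (iv F14376)) (tt N8684 D8684) (tt N5052 (iv D6658)) (tt N8685 D8685) (tt N6888 (iv F11387)) (tt N8675 (iv F14368)))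
theorem Q6660 : ∀ i, i < 6660 → P i := stepQ 6659 Q6659 (allL N6659 (tt N8686 D8686) (tt N5053 (iv D6659)) (tt N8684 (iv F14382)) (tt N5181 F11001) (tt N6382 F11002) (tt N5180 F11003))
theorem Q6661 : ∀ i, i < 6661 → P i := stepQ 6660 Q6660 (allL N6660 (tt N5055 F11004) (tt N6616 F11005) (tt N8687 D8687) (tt N5054 (iv D6660)) (tt N8688 D8688) (tt N8689 D8689))
theorem Q6662 : ∀ i, i < 6662 → P i := stepQ 6661 Q6661 (allL N6661 (tt N5056 F11006) (tt N6617 F11007) (tt N5061 F11008) (tt N8689 (iv F14395)) (tt N6830 (iv F11294)) (tt N5054 (iv D6661)))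
theorem Q6663 : ∀ i, i < 6663 → P i := stepQ 6662 Q6662 (allL N6662 (tt N8687 (iv F14389)) (tt N8690 D8690) (tt N5055 (iv D6662)) (tt N8691 D8691) (tt N8692 D8692) (tt N8690 F14397))
theorem Q6664 : ∀ i, i < 6664 → P i := stepQ 6663 Q6663 (allL N6663 (tt N8688 (iv F14390)) (tt N5058 F11009) (tt N8692 (iv F14398)) (tt N6612 F11010) (tt N5055 (iv D6663)) (tt N8693 D8693))
theorem Q6665 : ∀ i, i < 6665 → P i := stepQ 6664 Q6664 (allL N6664 (tt N8689 (iv F14393)) (tt N5057 F11011) (tt N8690 (iv F14396)) (tt N5056 F11012) (tt N8694 D8694) (tt N5055 (iv D6664)))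
theorem Q6666 : ∀ i, i < 6666 → P i := stepQ 6665 Q6665 (allL N6665 (tt N6830 (iv F11291)) (tt N5059 F11013) (tt N5064 F11014) (tt N8695 D8695) (tt N5056 (iv D6665)) (tt N6613 F11015))
theorem Q6667 : ∀ i, i < 6667 → P i := stepQ 6666 Q6666 (allL N6666 (tt N6621 F11016) (tt N8694 (iv F14401)) (tt N5058 F11017) (tt N8696 D8696) (tt N5057 (iv D6666)) (tt N8697 D8697))
theorem Q6668 : ∀ i, i < 6668 → P i := stepQ 6667 Q6667 (allL N6667 (tt N6622 F11018) (tt N8693 (iv F14399)) (tt N8697 (iv F14407)) (tt N6614 F11019) (tt N8697 (iv F14408)) (tt N5058 (iv D6667)))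
theorem Q6669 : ∀ i, i < 6669 → P i := stepQ 6668 Q6668 (allL N6668 (tt N6623 F11020) (tt N8695 (iv F14402)) (tt N8698 D8698) (tt N5059 (iv D6668)) (tt N8696 (iv F14405)) (tt N6615 F11021))
theorem Q6670 : ∀ i, i < 6670 → P i := stepQ 6669 Q6669 (allL N6669 (tt N5062 F11022) (tt N8699 D8699) (tt N5060 (iv D6669)) (tt N8700 D8700) (tt N8701 D8701) (tt N8655 (iv F14330)))
theorem Q6671 : ∀ i, i < 6671 → P i := stepQ 6670 Q6670 (allL N6670 (tt N5063 F11023) (tt N6645 F11024) (tt N8701 (iv F14415)) (tt N6495 F11025) (tt N5060 (iv D6670)) (tt N8702 D8702))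
theorem Q6672 : ∀ i, i < 6672 → P i := stepQ 6671 Q6671 (allL N6671 (tt N5064 F11026) (tt N6646 F11027) (tt N6830 (iv F11293)) (tt N8703 D8703) (tt N5061 (iv D6671)) (tt N6638 F11028))
theorem Q6673 : ∀ i, i < 6673 → P i := stepQ 6672 Q6672 (allL N6672 (tt N8700 (iv F14413)) (tt N8659 (iv F14334)) (tt N8704 D8704) (tt N5062 (iv D6672)) (tt N8705 D8705) (tt N8656 (iv F14332)))
theorem Q6674 : ∀ i, i < 6674 → P i := stepQ 6673 Q6673 (allL N6673 (tt N8701 (iv F14414)) (tt N8660 (iv F14336)) (tt N5063 F11029) (tt N8706 D8706) (tt N5062 (iv D6673)) (tt N8707 D8707))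
theorem Q6675 : ∀ i, i < 6675 → P i := stepQ 6674 Q6674 (allL N6674 (tt N8702 (iv F14416)) (tt N5065 F11030) (tt N8707 (iv F14425)) (tt N6494 F11031) (tt N5182 F11032) (tt N5063 (iv D6674)))
theorem Q6676 : ∀ i, i < 6676 → P i := stepQ 6675 Q6675 (allL N6675 (tt N8703 (iv F14420)) (tt N5066 F11033) (tt N8708 D8708) (tt N5064 (iv D6675)) (tt N5198 F11034) (tt N6639 F11035))
theorem Q6677 : ∀ i, i < 6677 → P i := stepQ 6676 Q6676 (allL N6676 (tt N8709 D8709) (tt N5067 (iv D6676)) (tt N8651 (iv F14319)) (tt N8710 D8710) (tt N8711 D8711) (tt N8712 D8712))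
theorem Q6678 : ∀ i, i < 6678 → P i := stepQ 6677 Q6677 (allL N6677 (tt N5072 F11036) (tt N8710 (iv F14431)) (tt N6684 (iv F11052)) (tt N5067 (iv D6677)) (tt N8713 D8713) (tt N8671 (iv F14363)))
theorem Q6679 : ∀ i, i < 6679 → P i := stepQ 6678 Q6678 (allL N6678 (tt N5073 F11037) (tt N8711 (iv F14432)) (tt N5068 F11038) (tt N8714 D8714) (tt N5067 (iv D6678)) (tt N8715 D8715))
theorem Q6680 : ∀ i, i < 6680 → P i := stepQ 6679 Q6679 (allL N6679 (tt N5074 F11039) (tt N8712 (iv F14435)) (tt N5069 F11040) (tt N8671 (iv F14362)) (tt N8716 D8716) (tt N5067 (iv D6679)))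
theorem Q6681 : ∀ i, i < 6681 → P i := stepQ 6680 Q6680 (allL N6680 (tt N5075 F11041) (tt N5166 F11042) (tt N8715 (iv F14439)) (tt N5085 F11043) (tt N8717 D8717) (tt N5068 (iv D6680)))
theorem Q6682 : ∀ i, i < 6682 → P i := stepQ 6681 Q6681 (allL N6681 (tt N5076 F11044) (tt N8654 (iv F14325)) (tt N8716 (iv F14441)) (tt N8718 D8718) (tt N5069 (iv D6681)) (tt N8717 (iv F14445)))
theorem Q6683 : ∀ i, i < 6683 → P i := stepQ 6682 Q6682 (allL N6682 (tt N5077 F11045) (tt N5164 F11046) (tt N8719 D8719) (tt N5070 (iv D6682)) (tt N8718 (iv F14448)) (tt N5086 F11047))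
theorem Q6684 : ∀ i, i < 6684 → P i := stepQ 6683 Q6683 (allL N6683 (tt N5071 (iv D6683)) (tt N8709 (iv F14429)) (tt N5078 F11048) (tt N6686 (iv F11056)) (tt N8720 D8720) (tt N6644 F11049))
theorem Q6685 : ∀ i, i < 6685 → P i := stepQ 6684 Q6684 (allL N6684 (tt N6686 (iv F11055)) (tt N5072 F11050) (tt N6677 F11052) (tt N5071 (iv D6684)) (tt N8721 D8721) (tt N6647 F11051))
theorem Q6686 : ∀ i, i < 6686 → P i := stepQ 6685 Q6685 (allL N6685 (tt N8720 (iv F14452)) (tt N5073 F11053) (tt N5079 F11054) (tt N8722 D8722) (tt N5071 (iv D6685)) (tt N8334 (iv F13854)))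
theorem Q6687 : ∀ i, i < 6687 → P i := stepQ 6686 Q6686 (allL N6686 (tt N6684 F11055) (tt N8723 D8723) (tt N5072 (iv D6686)) (tt N6683 F11056) (tt N8724 D8724) (tt N8667 (iv F14352)))
theorem Q6688 : ∀ i, i < 6688 → P i := stepQ 6687 Q6687 (allL N6687 (tt N8713 (iv F14436)) (tt N8721 (iv F14454)) (tt N8724 (iv F14461)) (tt N8725 D8725) (tt N5072 (iv D6687)) (tt N8726 D8726))
theorem Q6689 : ∀ i, i < 6689 → P i := stepQ 6688 Q6688 (allL N6688 (tt N8671 (iv F14361)) (tt N6647 F11057) (tt N8667 (iv F14351)) (tt N5074 F11058) (tt N8727 D8727) (tt N5072 (iv D6688)))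
theorem Q6690 : ∀ i, i < 6690 → P i := stepQ 6689 Q6689 (allL N6689 (tt N8714 (iv F14437)) (tt N8722 (iv F14456)) (tt N8728 D8728) (tt N5073 (iv D6689)) (tt N8725 (iv F14462)) (tt N8729 D8729))
theorem Q6691 : ∀ i, i < 6691 → P i := stepQ 6690 Q6690 (allL N6690 (tt N8715 (iv F14438)) (tt N8334 (iv F13853)) (tt N5075 F11059) (tt N8729 (iv F14464)) (tt N8730 D8730) (tt N5073 (iv D6690)))
theorem Q6692 : ∀ i, i < 6692 → P i := stepQ 6691 Q6691 (allL N6691 (tt N8716 (iv F14440)) (tt N6648 F11060) (tt N5076 F11061) (tt N8731 D8731) (tt N5074 (iv D6691)) (tt N8730 (iv F14467)))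
theorem Q6693 : ∀ i, i < 6693 → P i := stepQ 6692 Q6692 (allL N6692 (tt N8717 (iv F14442)) (tt N5080 F11062) (tt N8730 (iv F14466)) (tt N5133 F11063) (tt N5075 (iv D6692)) (tt N5076 F11064))
theorem Q6694 : ∀ i, i < 6694 → P i := stepQ 6693 Q6693 (allL N6693 (tt N8718 (iv F14446)) (tt N5081 F11065) (tt N8732 D8732) (tt N5076 (iv D6693)) (tt N5077 F11066) (tt N5133 F11067))
theorem Q6695 : ∀ i, i < 6695 → P i := stepQ 6694 Q6694 (allL N6694 (tt N8719 (iv F14450)) (tt N8733 D8733) (tt N5077 (iv D6694)) (tt N8734 D8734) (tt N8732 (iv F14470)) (tt N5091 F11068))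
theorem Q6696 : ∀ i, i < 6696 → P i := stepQ 6695 Q6695 (allL N6695 (tt N5079 F11069) (tt N5197 F11070) (tt N8720 (iv F14453)) (tt N8301 (iv F13785)) (tt N5078 (iv D6695)) (tt N8333 (iv F13852)))
theorem Q6697 : ∀ i, i < 6697 → P i := stepQ 6696 Q6696 (allL N6696 (tt N8735 D8735) (tt N5082 (iv D6696)) (tt N8733 (iv F14472)) (tt N6492 F11071) (tt N5158 F11072) (tt N5092 F11073))
theorem Q6698 : ∀ i, i < 6698 → P i := stepQ 6697 Q6697 (allL N6697 (tt N5088 F11074) (tt N8129 (iv F13476)) (tt N8664 (iv F14349)) (tt N8736 D8736) (tt N5083 (iv D6697)) (tt N8737 D8737))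
theorem Q6699 : ∀ i, i < 6699 → P i := stepQ 6698 Q6698 (allL N6698 (tt N5089 F11075) (tt N8258 (iv F13707)) (tt N8738 D8738) (tt N5084 (iv D6698)) (tt N8736 (iv F14481)) (tt N8739 D8739))
theorem Q6700 : ∀ i, i < 6700 → P i := stepQ 6699 Q6699 (allL N6699 (tt N5090 F11076) (tt N6393 F11077) (tt N5085 F11078) (tt N8739 (iv F14487)) (tt N5110 F11079) (tt N5084 (iv D6699)))
theorem Q6701 : ∀ i, i < 6701 → P i := stepQ 6700 Q6700 (allL N6700 (tt N5091 F11080) (tt N8740 D8740) (tt N5086 (iv D6700)) (tt N8741 D8741) (tt N5128 F11081) (tt N8719 (iv F14451)))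
theorem Q6702 : ∀ i, i < 6702 → P i := stepQ 6701 Q6701 (allL N6701 (tt N8664 (iv F14347)) (tt N5286 F11082) (tt N5088 F11083) (tt N8742 D8742) (tt N5087 (iv D6701)) (tt N8743 D8743))
theorem Q6703 : ∀ i, i < 6703 → P i := stepQ 6702 Q6702 (allL N6702 (tt N8736 (iv F14480)) (tt N5126 F11084) (tt N8744 D8744) (tt N5088 (iv D6702)) (tt N5089 F11085) (tt N8745 D8745))
theorem Q6704 : ∀ i, i < 6704 → P i := stepQ 6703 Q6703 (allL N6703 (tt N8737 (iv F14482)) (tt N5125 F11086) (tt N8743 (iv F14493)) (tt N8745 (iv F14497)) (tt N5120 F11087) (tt N5088 (iv D6703)))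
theorem Q6705 : ∀ i, i < 6705 → P i := stepQ 6704 Q6704 (allL N6704 (tt N8738 (iv F14484)) (tt N8746 D8746) (tt N5089 (iv D6704)) (tt N8747 D8747) (tt N8744 (iv F14495)) (tt N8748 D8748))
theorem Q6706 : ∀ i, i < 6706 → P i := stepQ 6705 Q6705 (allL N6705 (tt N8739 (iv F14485)) (tt N5116 F11088) (tt N8748 (iv F14499)) (tt N5090 F11089) (tt N8749 D8749) (tt N5089 (iv D6705)))
theorem Q6707 : ∀ i, i < 6707 → P i := stepQ 6706 Q6706 (allL N6706 (tt N8750 D8750) (tt N5091 (iv D6706)) (tt N5092 F11090) (tt N8751 D8751) (tt N5130 F11091) (tt N8733 (iv F14474)))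
theorem Q6708 : ∀ i, i < 6708 → P i := stepQ 6707 Q6707 (allL N6707 (tt N8741 (iv F14490)) (tt N8751 (iv F14504)) (tt N8752 D8752) (tt N5091 (iv D6707)) (tt N8753 D8753) (tt N8734 (iv F14475)))
theorem Q6709 : ∀ i, i < 6709 → P i := stepQ 6708 Q6708 (allL N6708 (tt N5092 (iv D6708)) (tt N5179 F11092) (tt N8750 (iv F14502)) (tt N8754 D8754) (tt N5134 F11093) (tt N8735 (iv F14479)))
theorem Q6710 : ∀ i, i < 6710 → P i := stepQ 6709 Q6709 (allL N6709 (tt N8754 (iv F14506)) (tt N5093 F11094) (tt N8755 D8755) (tt N5092 (iv D6709)) (tt N5159 F11095) (tt N6492 F11096))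
theorem Q6711 : ∀ i, i < 6711 → P i := stepQ 6710 Q6710 (allL N6710 (tt N5096 F11097) (tt N5465 F11098) (tt N5099 F11099) (tt N8756 D8756) (tt N5095 (iv D6710)) (tt N8757 D8757))
theorem Q6712 : ∀ i, i < 6712 → P i := stepQ 6711 Q6711 (allL N6711 (tt N8756 (iv F14513)) (tt N5097 F11100) (tt N8758 D8758) (tt N5096 (iv D6711)) (tt N5461 F11101) (tt N8759 D8759))
theorem Q6713 : ∀ i, i < 6713 → P i := stepQ 6712 Q6712 (allL N6712 (tt N8757 (iv F14516)) (tt N5098 F11102) (tt N5101 F11103) (tt N8759 (iv F14522)) (tt N5522 F11104) (tt N5096 (iv D6712)))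
theorem Q6714 : ∀ i, i < 6714 → P i := stepQ 6713 Q6713 (allL N6713 (tt N5471 F11105) (tt N8760 D8760) (tt N5097 (iv D6713)) (tt N8761 D8761) (tt N5463 F11106) (tt N8762 D8762))
theorem Q6715 : ∀ i, i < 6715 → P i := stepQ 6714 Q6714 (allL N6714 (tt N5472 F11107) (tt N8759 (iv F14521)) (tt N8762 (iv F14529)) (tt N5098 F11108) (tt N8763 D8763) (tt N5097 (iv D6714)))
theorem Q6716 : ∀ i, i < 6716 → P i := stepQ 6715 Q6715 (allL N6715 (tt N5100 F11109) (tt N6886 (iv F11382)) (tt N8764 D8764) (tt N5099 (iv D6715)) (tt N8661 (iv F14341)) (tt N6493 (iv F11110)))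
theorem Q6717 : ∀ i, i < 6717 → P i := stepQ 6716 Q6716 (allL N6716 (tt N5101 F11111) (tt N6887 (iv F11385)) (tt N8757 (iv F14518)) (tt N6493 F11112) (tt N8467 (iv F14068)) (tt N5099 (iv D6716)))
theorem Q6718 : ∀ i, i < 6718 → P i := stepQ 6717 Q6717 (allL N6717 (tt N8764 (iv F14536)) (tt N6491 F11113) (tt N5100 (iv D6717)) (tt N8765 D8765) (tt N8662 (iv F14343)) (tt N6489 F11114))
theorem Q6719 : ∀ i, i < 6719 → P i := stepQ 6718 Q6718 (allL N6718 (tt N6761 (iv F11182)) (tt N5103 F11115) (tt N8766 D8766) (tt N5102 (iv D6718)) (tt N5233 F11116) (tt N8767 D8767))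
theorem Q6720 : ∀ i, i < 6720 → P i := stepQ 6719 Q6719 (allL N6719 (tt N6762 (iv F11184)) (tt N5104 F11117) (tt N6853 (iv F11318)) (tt N8767 (iv F14542)) (tt N5201 F11118) (tt N5102 (iv D6719)))
theorem Q6721 : ∀ i, i < 6721 → P i := stepQ 6720 Q6720 (allL N6720 (tt N5107 F11119) (tt N8768 D8768) (tt N5103 (iv D6720)) (tt N8762 (iv F14530)) (tt N5235 F11120) (tt N8761 (iv F14527)))
theorem Q6722 : ∀ i, i < 6722 → P i := stepQ 6721 Q6721 (allL N6721 (tt N5108 F11121) (tt N8767 (iv F14541)) (tt N8761 (iv F14525)) (tt N5104 F11122) (tt N8769 D8769) (tt N5103 (iv D6721)))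
theorem Q6723 : ∀ i, i < 6723 → P i := stepQ 6722 Q6722 (allL N6722 (tt N5235 F11123) (tt N8770 D8770) (tt N5105 (iv D6722)) (tt N8771 D8771) (tt N5107 F11124) (tt N8772 D8772))
theorem Q6724 : ∀ i, i < 6724 → P i := stepQ 6723 Q6723 (allL N6723 (tt N5236 F11125) (tt N6770 (iv F11195)) (tt N8772 (iv F14554)) (tt N5106 F11126) (tt N8773 D8773) (tt N5105 (iv D6723)))
theorem Q6725 : ∀ i, i < 6725 → P i := stepQ 6724 Q6724 (allL N6724 (tt N8774 D8774) (tt N5107 (iv D6724)) (tt N6771 (iv F11197)) (tt N8775 D8775) (tt N8770 (iv F14548)) (tt N8776 D8776))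
theorem Q6726 : ∀ i, i < 6726 → P i := stepQ 6725 Q6725 (allL N6725 (tt N8762 (iv F14528)) (tt N8775 (iv F14561)) (tt N5472 F11127) (tt N5107 (iv D6725)) (tt N8777 D8777) (tt N5471 F11128))
theorem Q6727 : ∀ i, i < 6727 → P i := stepQ 6726 Q6726 (allL N6726 (tt N8761 (iv F14524)) (tt N8776 (iv F14563)) (tt N5108 F11129) (tt N5471 F11130) (tt N8778 D8778) (tt N5107 (iv D6726)))
theorem Q6728 : ∀ i, i < 6728 → P i := stepQ 6727 Q6727 (allL N6727 (tt N8769 (iv F14544)) (tt N6774 (iv F11199)) (tt N8778 (iv F14570)) (tt N5217 F11131) (tt N5108 (iv D6727)) (tt N8773 (iv F14560)))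
theorem Q6729 : ∀ i, i < 6729 → P i := stepQ 6728 Q6728 (allL N6728 (tt N5111 F11132) (tt N8779 D8779) (tt N5109 (iv D6728)) (tt N8780 D8780) (tt N8781 D8781) (tt N8782 D8782))
theorem Q6730 : ∀ i, i < 6730 → P i := stepQ 6729 Q6729 (allL N6729 (tt N5112 F11133) (tt N6391 F11134) (tt N8781 (iv F14578)) (tt N5117 F11135) (tt N5109 (iv D6729)) (tt N8783 D8783))
theorem Q6731 : ∀ i, i < 6731 → P i := stepQ 6730 Q6730 (allL N6730 (tt N5113 F11136) (tt N6392 F11137) (tt N8782 (iv F14580)) (tt N5110 F11138) (tt N8784 D8784) (tt N5109 (iv D6730)))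
theorem Q6732 : ∀ i, i < 6732 → P i := stepQ 6731 Q6731 (allL N6731 (tt N8782 (iv F14579)) (tt N5111 (iv D6731)) (tt N5113 F11139) (tt N8785 D8785) (tt N8786 D8786) (tt N5111 (iv F11140)))
theorem Q6733 : ∀ i, i < 6733 → P i := stepQ 6732 Q6732 (allL N6732 (tt N8780 (iv F14574)) (tt N8785 (iv F14588)) (tt N8787 D8787) (tt N5111 (iv D6732)) (tt N8788 D8788) (tt N8785 (iv F14590)))
theorem Q6734 : ∀ i, i < 6734 → P i := stepQ 6733 Q6733 (allL N6733 (tt N8781 (iv F14577)) (tt N8786 (iv F14591)) (tt N5112 F11141) (tt N8789 D8789) (tt N5111 (iv D6733)) (tt N8790 D8790))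
theorem Q6735 : ∀ i, i < 6735 → P i := stepQ 6734 Q6734 (allL N6734 (tt N8783 (iv F14582)) (tt N5115 F11142) (tt N8790 (iv F14596)) (tt N5120 F11143) (tt N8791 D8791) (tt N5112 (iv D6734)))
theorem Q6736 : ∀ i, i < 6736 → P i := stepQ 6735 Q6735 (allL N6735 (tt N8784 (iv F14585)) (tt N5114 F11144) (tt N8786 (iv F14592)) (tt N8749 (iv F14501)) (tt N5113 (iv D6735)) (tt N8791 (iv F14598)))
theorem Q6737 : ∀ i, i < 6737 → P i := stepQ 6736 Q6736 (allL N6736 (tt N6400 F11145) (tt N8749 (iv F14500)) (tt N8257 (iv F13705)) (tt N5114 (iv D6736)) (tt N5116 F11146) (tt N8792 D8792))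
theorem Q6738 : ∀ i, i < 6738 → P i := stepQ 6737 Q6737 (allL N6737 (tt N6401 F11147) (tt N8791 (iv F14597)) (tt N5115 F11148) (tt N8792 (iv F14600)) (tt N5115 F11149) (tt N5114 (iv D6737)))
theorem Q6739 : ∀ i, i < 6739 → P i := stepQ 6738 Q6738 (allL N6738 (tt N5120 F11150) (tt N8261 (iv F13709)) (tt N8681 (iv F14380)) (tt N8783 (iv F14584)) (tt N8737 (iv F14483)) (tt N5117 (iv D6738)))
theorem Q6740 : ∀ i, i < 6740 → P i := stepQ 6739 Q6739 (allL N6739 (tt N5118 (iv D6739)) (tt N5517 F11151) (tt N5121 F11152) (tt N5299 F11153) (tt N8793 D8793) (tt N5283 F11154))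
theorem Q6741 : ∀ i, i < 6741 → P i := stepQ 6740 Q6740 (allL N6740 (tt N8793 (iv F14602)) (tt N5119 F11155) (tt N5122 F11156) (tt N8794 D8794) (tt N5118 (iv D6740)) (tt N8795 D8795))
theorem Q6742 : ∀ i, i < 6742 → P i := stepQ 6741 Q6741 (allL N6741 (tt N8680 (iv F14377)) (tt N8794 (iv F14605)) (tt N8796 D8796) (tt N5119 (iv D6741)) (tt N8677 (iv F14373)) (tt N8797 D8797))
theorem Q6743 : ∀ i, i < 6743 → P i := stepQ 6742 Q6742 (allL N6742 (tt N8681 (iv F14379)) (tt N8795 (iv F14606)) (tt N5120 F11157) (tt N8797 (iv F14609)) (tt N8743 (iv F14494)) (tt N5119 (iv D6742)))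
theorem Q6744 : ∀ i, i < 6744 → P i := stepQ 6743 Q6743 (allL N6743 (tt N5122 F11158) (tt N8111 (iv F13447)) (tt N8793 (iv F14604)) (tt N8798 D8798) (tt N5121 (iv D6743)) (tt N8799 D8799))
theorem Q6745 : ∀ i, i < 6745 → P i := stepQ 6744 Q6744 (allL N6744 (tt N8798 (iv F14610)) (tt N5123 F11159) (tt N8800 D8800) (tt N5122 (iv D6744)) (tt N5281 F11160) (tt N8801 D8801))
theorem Q6746 : ∀ i, i < 6746 → P i := stepQ 6745 Q6745 (allL N6745 (tt N8799 (iv F14612)) (tt N5124 F11161) (tt N8795 (iv F14607)) (tt N8801 (iv F14616)) (tt N5287 F11162) (tt N5122 (iv D6745)))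
theorem Q6747 : ∀ i, i < 6747 → P i := stepQ 6746 Q6746 (allL N6746 (tt N8135 (iv F13491)) (tt N8802 D8802) (tt N5123 (iv D6746)) (tt N8803 D8803) (tt N5282 F11163) (tt N8804 D8804))
theorem Q6748 : ∀ i, i < 6748 → P i := stepQ 6747 Q6747 (allL N6747 (tt N8134 (iv F13488)) (tt N8801 (iv F14615)) (tt N8804 (iv F14622)) (tt N5124 F11164) (tt N5941 F11165) (tt N5123 (iv D6747)))
theorem Q6749 : ∀ i, i < 6749 → P i := stepQ 6748 Q6748 (allL N6748 (tt N8133 (iv F13485)) (tt N8745 (iv F14496)) (tt N8805 D8805) (tt N5125 (iv D6748)) (tt N8792 (iv F14601)) (tt N5126 F11166))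
theorem Q6750 : ∀ i, i < 6750 → P i := stepQ 6749 Q6749 (allL N6749 (tt N8132 (iv F13481)) (tt N8806 D8806) (tt N5126 (iv D6749)) (tt N8807 D8807) (tt N5127 F11167) (tt N8805 (iv F14627)))
theorem Q6751 : ∀ i, i < 6751 → P i := stepQ 6750 Q6750 (allL N6750 (tt N8808 D8808) (tt N5127 (iv D6750)) (tt N8746 (iv F14498)) (tt N8246 (iv F13678)) (tt N8806 (iv F14628)) (tt N8256 (iv F13704)))
theorem Q6752 : ∀ i, i < 6752 → P i := stepQ 6751 Q6751 (allL N6751 (tt N8809 D8809) (tt N5128 (iv D6751)) (tt N5160 F11168) (tt N8810 D8810) (tt N8740 (iv F14489)) (tt N8811 D8811))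
theorem Q6753 : ∀ i, i < 6753 → P i := stepQ 6752 Q6752 (allL N6752 (tt N5131 F11169) (tt N8810 (iv F14636)) (tt N8785 (iv F14589)) (tt N5128 (iv D6752)) (tt N8812 D8812) (tt N8787 (iv F14595)))
theorem Q6754 : ∀ i, i < 6754 → P i := stepQ 6753 Q6753 (allL N6753 (tt N5132 F11170) (tt N8811 (iv F14638)) (tt N5129 F11171) (tt N8787 (iv F14594)) (tt N8813 D8813) (tt N5128 (iv D6753)))
theorem Q6755 : ∀ i, i < 6755 → P i := stepQ 6754 Q6754 (allL N6754 (tt N5133 F11172) (tt N5165 F11173) (tt N8813 (iv F14642)) (tt N8717 (iv F14444)) (tt N5129 (iv D6754)) (tt N8718 (iv F14449)))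
theorem Q6756 : ∀ i, i < 6756 → P i := stepQ 6755 Q6755 (allL N6755 (tt N5130 (iv D6755)) (tt N8809 (iv F14633)) (tt N5134 F11174) (tt N8814 D8814) (tt N8750 (iv F14503)) (tt N5153 F11175))
theorem Q6757 : ∀ i, i < 6757 → P i := stepQ 6756 Q6756 (allL N6756 (tt N8814 (iv F14643)) (tt N5131 F11176) (tt N8815 D8815) (tt N5130 (iv D6756)) (tt N8816 D8816) (tt N5156 F11177))
theorem Q6758 : ∀ i, i < 6758 → P i := stepQ 6757 Q6757 (allL N6757 (tt N8785 (iv F14587)) (tt N8817 D8817) (tt N5131 (iv D6757)) (tt N8782 (iv F14581)) (tt N8818 D8818) (tt N8780 F14576))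
theorem Q6759 : ∀ i, i < 6759 → P i := stepQ 6758 Q6758 (allL N6758 (tt N8812 (iv F14640)) (tt N8816 (iv F14649)) (tt N8818 (iv F14650)) (tt N8753 (iv F14505)) (tt N5131 (iv D6758)) (tt N8819 D8819))
theorem Q6760 : ∀ i, i < 6760 → P i := stepQ 6759 Q6759 (allL N6759 (tt N8787 (iv F14593)) (tt N5156 F11178) (tt N8780 (iv F14575)) (tt N5132 F11179) (tt N8820 D8820) (tt N5131 (iv D6759)))
theorem Q6761 : ∀ i, i < 6761 → P i := stepQ 6760 Q6760 (allL N6760 (tt N8813 (iv F14641)) (tt N5157 F11180) (tt N5133 F11181) (tt N8821 D8821) (tt N5132 (iv D6760)) (tt N8732 (iv F14471)))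
theorem Q6762 : ∀ i, i < 6762 → P i := stepQ 6761 Q6761 (allL N6761 (tt N6718 F11182) (tt N5137 F11183) (tt N8822 D8822) (tt N5135 (iv D6761)) (tt N6894 (iv F11408)) (tt N8823 D8823))
theorem Q6763 : ∀ i, i < 6763 → P i := stepQ 6762 Q6762 (allL N6762 (tt N6719 F11184) (tt N5138 F11185) (tt N5201 F11186) (tt N8823 (iv F14656)) (tt N6853 (iv F11319)) (tt N5135 (iv D6762)))
theorem Q6764 : ∀ i, i < 6764 → P i := stepQ 6763 Q6763 (allL N6763 (tt N5140 F11187) (tt N6894 (iv F11407)) (tt N8824 D8824) (tt N5136 (iv D6763)) (tt N5137 F11188) (tt N8825 D8825))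
theorem Q6765 : ∀ i, i < 6765 → P i := stepQ 6764 Q6764 (allL N6764 (tt N5141 F11189) (tt N6895 (iv F11410)) (tt N8007 (iv F13263)) (tt N8825 (iv F14660)) (tt N6859 (iv F11333)) (tt N5136 (iv D6764)))
theorem Q6766 : ∀ i, i < 6766 → P i := stepQ 6765 Q6765 (allL N6765 (tt N5142 F11190) (tt N8826 D8826) (tt N5137 (iv D6765)) (tt N8445 (iv F14038)) (tt N8824 (iv F14658)) (tt N8444 (iv F14035)))
theorem Q6767 : ∀ i, i < 6767 → P i := stepQ 6766 Q6766 (allL N6766 (tt N5143 F11191) (tt N8823 (iv F14655)) (tt N8444 (iv F14034)) (tt N5138 F11192) (tt N8827 D8827) (tt N5137 (iv D6766)))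
theorem Q6768 : ∀ i, i < 6768 → P i := stepQ 6767 Q6767 (allL N6767 (tt N8006 (iv F13258)) (tt N6889 (iv F11389)) (tt N8828 D8828) (tt N5139 (iv D6767)) (tt N6889 (iv F11390)) (tt N8829 D8829))
theorem Q6769 : ∀ i, i < 6769 → P i := stepQ 6768 Q6768 (allL N6768 (tt N8007 (iv F13261)) (tt N6890 (iv F11392)) (tt N5141 F11193) (tt N8829 (iv F14662)) (tt N6863 (iv F11343)) (tt N5139 (iv D6768)))
theorem Q6770 : ∀ i, i < 6770 → P i := stepQ 6769 Q6769 (allL N6769 (tt N8824 (iv F14657)) (tt N8830 D8830) (tt N5140 (iv D6769)) (tt N8831 D8831) (tt N5142 F11194) (tt N8832 D8832))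
theorem Q6771 : ∀ i, i < 6771 → P i := stepQ 6770 Q6770 (allL N6770 (tt N8825 (iv F14659)) (tt N6723 F11195) (tt N8832 (iv F14665)) (tt N5141 F11196) (tt N8833 D8833) (tt N5140 (iv D6770)))
theorem Q6772 : ∀ i, i < 6772 → P i := stepQ 6771 Q6771 (allL N6771 (tt N8834 D8834) (tt N5142 (iv D6771)) (tt N6724 F11197) (tt N8835 D8835) (tt N8830 (iv F14664)) (tt N8836 D8836))
theorem Q6773 : ∀ i, i < 6773 → P i := stepQ 6772 Q6772 (allL N6772 (tt N8445 (iv F14036)) (tt N8835 (iv F14669)) (tt N8440 (iv F14029)) (tt N5142 (iv D6772)) (tt N8837 D8837) (tt N8439 F14026))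
theorem Q6774 : ∀ i, i < 6774 → P i := stepQ 6773 Q6773 (allL N6773 (tt N8444 (iv F14033)) (tt N8836 (iv F14670)) (tt N5143 F11198) (tt N8439 (iv F14025)) (tt N8838 D8838) (tt N5142 (iv D6773)))
theorem Q6775 : ∀ i, i < 6775 → P i := stepQ 6774 Q6774 (allL N6774 (tt N8827 (iv F14661)) (tt N6727 F11199) (tt N8838 (iv F14672)) (tt N6869 (iv F11350)) (tt N5143 (iv D6774)) (tt N8833 (iv F14667)))
theorem Q6776 : ∀ i, i < 6776 → P i := stepQ 6775 Q6775 (allL N6775 (tt N5146 F11200) (tt N8839 D8839) (tt N5144 (iv D6775)) (tt N8815 (iv F14648)) (tt N8840 D8840) (tt N8841 D8841))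
theorem Q6777 : ∀ i, i < 6777 → P i := stepQ 6776 Q6776 (allL N6776 (tt N5147 F11201) (tt N5677 F11202) (tt N8840 (iv F14675)) (tt N5676 F11203) (tt N5144 (iv D6776)) (tt N8842 D8842))
theorem Q6778 : ∀ i, i < 6778 → P i := stepQ 6777 Q6777 (allL N6777 (tt N5148 F11204) (tt N6311 F11205) (tt N8841 (iv F14677)) (tt N5145 F11206) (tt N8843 D8843) (tt N5144 (iv D6777)))
theorem Q6779 : ∀ i, i < 6779 → P i := stepQ 6778 Q6778 (allL N6778 (tt N8841 (iv F14676)) (tt N5146 (iv D6778)) (tt N5148 F11207) (tt N8844 D8844) (tt N8845 D8845) (tt N5146 (iv F11208)))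
theorem Q6780 : ∀ i, i < 6780 → P i := stepQ 6779 Q6779 (allL N6779 (tt N8815 (iv F14646)) (tt N8844 (iv F14686)) (tt N8814 (iv F14645)) (tt N5146 (iv D6779)) (tt N8846 D8846) (tt N8844 (iv F14688)))
theorem Q6781 : ∀ i, i < 6781 → P i := stepQ 6780 Q6780 (allL N6780 (tt N8840 (iv F14674)) (tt N8845 (iv F14689)) (tt N5147 F11209) (tt N8847 D8847) (tt N5146 (iv D6780)) (tt N8848 D8848))
theorem Q6782 : ∀ i, i < 6782 → P i := stepQ 6781 Q6781 (allL N6781 (tt N8842 (iv F14679)) (tt N5151 F11210) (tt N8848 (iv F14691)) (tt N6307 F11211) (tt N8849 D8849) (tt N5147 (iv D6781)))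
theorem Q6783 : ∀ i, i < 6783 → P i := stepQ 6782 Q6782 (allL N6782 (tt N8843 (iv F14682)) (tt N5150 F11212) (tt N8845 (iv F14690)) (tt N8850 D8850) (tt N5148 (iv D6782)) (tt N8849 (iv F14693)))
theorem Q6784 : ∀ i, i < 6784 → P i := stepQ 6783 Q6783 (allL N6783 (tt N6548 F11213) (tt N5152 F11214) (tt N8851 D8851) (tt N5149 (iv D6783)) (tt N8850 (iv F14696)) (tt N6308 F11215))
theorem Q6785 : ∀ i, i < 6785 → P i := stepQ 6784 Q6784 (allL N6784 (tt N6317 F11216) (tt N8850 (iv F14695)) (tt N8852 D8852) (tt N5150 (iv D6784)) (tt N5152 F11217) (tt N6950 (iv F11523)))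
theorem Q6786 : ∀ i, i < 6786 → P i := stepQ 6785 Q6785 (allL N6785 (tt N6318 F11218) (tt N8849 (iv F14692)) (tt N5151 F11219) (tt N6950 (iv F11522)) (tt N5151 F11220) (tt N5150 (iv D6785)))
theorem Q6787 : ∀ i, i < 6787 → P i := stepQ 6786 Q6786 (allL N6786 (tt N6319 F11221) (tt N8853 D8853) (tt N5152 (iv D6786)) (tt N6330 F11222) (tt N8852 (iv F14701)) (tt N6309 F11223))
theorem Q6788 : ∀ i, i < 6788 → P i := stepQ 6787 Q6787 (allL N6787 (tt N8811 (iv F14637)) (tt N5153 (iv D6787)) (tt N6354 F11224) (tt N8854 D8854) (tt N8855 D8855) (tt N8809 F14635))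
theorem Q6789 : ∀ i, i < 6789 → P i := stepQ 6788 Q6788 (allL N6788 (tt N5156 F11225) (tt N8854 (iv F14705)) (tt N8844 (iv F14687)) (tt N5153 (iv D6788)) (tt N8856 D8856) (tt N8814 (iv F14644)))
theorem Q6790 : ∀ i, i < 6790 → P i := stepQ 6789 Q6789 (allL N6789 (tt N5157 F11226) (tt N8855 (iv F14706)) (tt N5154 F11227) (tt N8857 D8857) (tt N5153 (iv D6789)) (tt N8858 D8858))
theorem Q6791 : ∀ i, i < 6791 → P i := stepQ 6790 Q6790 (allL N6790 (tt N5158 F11228) (tt N6357 F11229) (tt N8858 (iv F14711)) (tt N6350 F11230) (tt N8735 (iv F14478)) (tt N5154 (iv D6790)))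
theorem Q6792 : ∀ i, i < 6792 → P i := stepQ 6791 Q6791 (allL N6791 (tt N5159 F11231) (tt N6358 F11232) (tt N8859 D8859) (tt N5155 (iv D6791)) (tt N8754 (iv F14508)) (tt N6351 F11233))
theorem Q6793 : ∀ i, i < 6793 → P i := stepQ 6792 Q6792 (allL N6792 (tt N8844 (iv F14685)) (tt N8860 D8860) (tt N5156 (iv D6792)) (tt N8841 (iv F14678)) (tt N8861 D8861) (tt N8815 (iv F14647)))
theorem Q6794 : ∀ i, i < 6794 → P i := stepQ 6793 Q6793 (allL N6793 (tt N8856 (iv F14708)) (tt N8820 (iv F14651)) (tt N8861 (iv F14714)) (tt N8862 D8862) (tt N5156 (iv D6793)) (tt N8863 D8863))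
theorem Q6795 : ∀ i, i < 6795 → P i := stepQ 6794 Q6794 (allL N6794 (tt N8857 (iv F14709)) (tt N8821 (iv F14652)) (tt N8864 D8864) (tt N5157 (iv D6794)) (tt N8862 (iv F14715)) (tt N8865 D8865))
theorem Q6796 : ∀ i, i < 6796 → P i := stepQ 6795 Q6795 (allL N6795 (tt N8858 (iv F14710)) (tt N8732 (iv F14469)) (tt N5158 F11234) (tt N8865 (iv F14716)) (tt N8733 (iv F14473)) (tt N5157 (iv D6795)))
theorem Q6797 : ∀ i, i < 6797 → P i := stepQ 6796 Q6796 (allL N6796 (tt N8859 (iv F14712)) (tt N6851 (iv F11312)) (tt N5159 (iv D6796)) (tt N8866 D8866) (tt N8755 (iv F14511)) (tt N6352 F11235))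
theorem Q6798 : ∀ i, i < 6798 → P i := stepQ 6797 Q6797 (allL N6797 (tt N5160 (iv D6797)) (tt N5167 F11236) (tt N8809 (iv F14634)) (tt N6426 (iv F11237)) (tt N8867 D8867) (tt N6354 (iv F11238)))
theorem Q6799 : ∀ i, i < 6799 → P i := stepQ 6798 Q6798 (allL N6798 (tt N6426 F11239) (tt N5161 F11240) (tt N6426 (iv F11241)) (tt N5160 (iv D6798)) (tt N8868 D8868) (tt N8399 (iv F13959)))
theorem Q6800 : ∀ i, i < 6800 → P i := stepQ 6799 Q6799 (allL N6799 (tt N8867 (iv F14719)) (tt N5162 F11242) (tt N8740 (iv F14488)) (tt N8869 D8869) (tt N5160 (iv D6799)) (tt N8870 D8870))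
theorem Q6801 : ∀ i, i < 6801 → P i := stepQ 6800 Q6800 (allL N6800 (tt N6354 F11243) (tt N5163 F11244) (tt N8811 (iv F14639)) (tt N8399 (iv F13958)) (tt N8871 D8871) (tt N5160 (iv D6800)))
theorem Q6802 : ∀ i, i < 6802 → P i := stepQ 6801 Q6801 (allL N6801 (tt N5171 F11245) (tt N8868 (iv F14722)) (tt N6424 F11246) (tt N8872 D8872) (tt N5161 (iv D6801)) (tt N8873 D8873))
theorem Q6803 : ∀ i, i < 6803 → P i := stepQ 6802 Q6802 (allL N6802 (tt N5173 F11247) (tt N8869 (iv F14724)) (tt N8874 D8874) (tt N5162 (iv D6802)) (tt N8872 (iv F14729)) (tt N8875 D8875))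
theorem Q6804 : ∀ i, i < 6804 → P i := stepQ 6803 Q6803 (allL N6803 (tt N5174 F11248) (tt N8870 (iv F14725)) (tt N5164 F11249) (tt N8875 (iv F14737)) (tt N8876 D8876) (tt N5162 (iv D6803)))
theorem Q6805 : ∀ i, i < 6805 → P i := stepQ 6804 Q6804 (allL N6804 (tt N5175 F11250) (tt N8871 (iv F14727)) (tt N5165 F11251) (tt N8877 D8877) (tt N5163 (iv D6804)) (tt N8876 (iv F14740)))
theorem Q6806 : ∀ i, i < 6806 → P i := stepQ 6805 Q6805 (allL N6805 (tt N5176 F11252) (tt N8718 (iv F14447)) (tt N8876 (iv F14739)) (tt N8654 (iv F14326)) (tt N5164 (iv D6805)) (tt N5165 F11253))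
theorem Q6807 : ∀ i, i < 6807 → P i := stepQ 6806 Q6806 (allL N6806 (tt N5177 F11254) (tt N8717 (iv F14443)) (tt N8878 D8878) (tt N5165 (iv D6806)) (tt N5166 F11255) (tt N8654 (iv F14327)))
theorem Q6808 : ∀ i, i < 6808 → P i := stepQ 6807 Q6807 (allL N6807 (tt N5178 F11256) (tt N8879 D8879) (tt N5166 (iv D6807)) (tt N8415 (iv F13985)) (tt N8878 (iv F14743)) (tt N5188 F11257))
theorem Q6809 : ∀ i, i < 6809 → P i := stepQ 6808 Q6808 (allL N6808 (tt N5169 F11258) (tt N8867 (iv F14720)) (tt N5179 F11259) (tt N8880 D8880) (tt N5167 (iv D6808)) (tt N8881 D8881))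
theorem Q6810 : ∀ i, i < 6810 → P i := stepQ 6809 Q6809 (allL N6809 (tt N6427 F11260) (tt N5171 F11261) (tt N6417 F11262) (tt N8882 D8882) (tt N5168 (iv D6809)) (tt N8883 D8883))
theorem Q6811 : ∀ i, i < 6811 → P i := stepQ 6810 Q6810 (allL N6810 (tt N8880 (iv F14745)) (tt N5173 F11263) (tt N8884 D8884) (tt N5169 (iv D6810)) (tt N8882 (iv F14752)) (tt N8885 D8885))
theorem Q6812 : ∀ i, i < 6812 → P i := stepQ 6811 Q6811 (allL N6811 (tt N8881 (iv F14747)) (tt N5174 F11264) (tt N5181 F11265) (tt N8885 (iv F14758)) (tt N6362 F11266) (tt N5169 (iv D6811)))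
theorem Q6813 : ∀ i, i < 6813 → P i := stepQ 6812 Q6812 (allL N6812 (tt N6414 F11267) (tt N5170 (iv D6812)) (tt N6414 F11268) (tt N6413 F11269) (tt N8886 D8886) (tt N8394 (iv F13945)))
theorem Q6814 : ∀ i, i < 6814 → P i := stepQ 6813 Q6813 (allL N6813 (tt N6424 F11270) (tt N8886 (iv F14760)) (tt N5171 F11271) (tt N8887 D8887) (tt N5170 (iv D6813)) (tt N8888 D8888))
theorem Q6815 : ∀ i, i < 6815 → P i := stepQ 6814 Q6814 (allL N6814 (tt N8872 (iv F14728)) (tt N8882 (iv F14751)) (tt N8889 D8889) (tt N5171 (iv D6814)) (tt N5173 F11272) (tt N8890 D8890))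
theorem Q6816 : ∀ i, i < 6816 → P i := stepQ 6815 Q6815 (allL N6815 (tt N8873 (iv F14730)) (tt N8883 (iv F14754)) (tt N8888 (iv F14765)) (tt N8890 (iv F14767)) (tt N8891 D8891) (tt N5171 (iv D6815)))
theorem Q6817 : ∀ i, i < 6817 → P i := stepQ 6816 Q6816 (allL N6816 (tt N8400 (iv F13960)) (tt N6360 F11273) (tt N8396 (iv F13951)) (tt N8892 D8892) (tt N5172 (iv D6816)) (tt N8891 (iv F14769)))
theorem Q6818 : ∀ i, i < 6818 → P i := stepQ 6817 Q6817 (allL N6817 (tt N8874 (iv F14732)) (tt N8893 D8893) (tt N5173 (iv D6817)) (tt N8894 D8894) (tt N8889 (iv F14766)) (tt N8895 D8895))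
theorem Q6819 : ∀ i, i < 6819 → P i := stepQ 6818 Q6818 (allL N6818 (tt N8875 (iv F14735)) (tt N8885 (iv F14757)) (tt N8895 (iv F14776)) (tt N5174 F11274) (tt N8896 D8896) (tt N5173 (iv D6818)))
theorem Q6820 : ∀ i, i < 6820 → P i := stepQ 6819 Q6819 (allL N6819 (tt N8876 (iv F14738)) (tt N6362 F11275) (tt N5176 F11276) (tt N8897 D8897) (tt N5174 (iv D6819)) (tt N5175 F11277))
theorem Q6821 : ∀ i, i < 6821 → P i := stepQ 6820 Q6820 (allL N6820 (tt N8877 (iv F14741)) (tt N6361 F11278) (tt N8898 D8898) (tt N5175 (iv D6820)) (tt N8892 (iv F14771)) (tt N8897 (iv F14779)))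
theorem Q6822 : ∀ i, i < 6822 → P i := stepQ 6821 Q6821 (allL N6821 (tt N8878 (iv F14742)) (tt N8707 (iv F14424)) (tt N5177 (iv D6821)) (tt N8899 D8899) (tt N5178 F11279) (tt N8660 (iv F14338)))
theorem Q6823 : ∀ i, i < 6823 → P i := stepQ 6822 Q6822 (allL N6822 (tt N8900 D8900) (tt N5178 (iv D6822)) (tt N5182 F11280) (tt N8901 D8901) (tt N8707 (iv F14426)) (tt N5195 F11281))
theorem Q6824 : ∀ i, i < 6824 → P i := stepQ 6823 Q6823 (allL N6823 (tt N8415 (iv F13984)) (tt N8901 (iv F14782)) (tt N8412 (iv F13977)) (tt N5178 (iv D6823)) (tt N8902 D8902) (tt N5196 F11282))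
theorem Q6825 : ∀ i, i < 6825 → P i := stepQ 6824 Q6824 (allL N6824 (tt N5180 F11283) (tt N8754 (iv F14507)) (tt N8903 D8903) (tt N5179 (iv D6824)) (tt N6358 F11284) (tt N8686 (iv F14388)))
theorem Q6826 : ∀ i, i < 6826 → P i := stepQ 6825 Q6825 (allL N6825 (tt N5181 F11285) (tt N8735 (iv F14476)) (tt N8881 (iv F14748)) (tt N8686 (iv F14386)) (tt N6357 F11286) (tt N5179 (iv D6825)))
theorem Q6827 : ∀ i, i < 6827 → P i := stepQ 6826 Q6826 (allL N6826 (tt N8903 (iv F14784)) (tt N8675 (iv F14366)) (tt N5180 (iv D6826)) (tt N8904 D8904) (tt N6363 F11287) (tt N8684 (iv F14384)))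
theorem Q6828 : ∀ i, i < 6828 → P i := stepQ 6827 Q6827 (allL N6827 (tt N5182 (iv D6827)) (tt N8333 (iv F13851)) (tt N8900 (iv F14780)) (tt N8286 (iv F13758)) (tt N8702 (iv F14419)) (tt N5197 F11288))
theorem Q6829 : ∀ i, i < 6829 → P i := stepQ 6828 Q6828 (allL N6828 (tt N8042 (iv F13325)) (tt N5185 F11289) (tt N8280 (iv F13746)) (tt N8905 D8905) (tt N5183 (iv D6828)) (tt N8906 D8906))
theorem Q6830 : ∀ i, i < 6830 → P i := stepQ 6829 Q6829 (allL N6829 (tt N8632 (iv F14293)) (tt N5186 F11290) (tt N8907 D8907) (tt N5184 (iv D6829)) (tt N8905 (iv F14788)) (tt N8908 D8908))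
theorem Q6831 : ∀ i, i < 6831 → P i := stepQ 6830 Q6830 (allL N6830 (tt N6665 F11291) (tt N5187 F11292) (tt N6671 F11293) (tt N8908 (iv F14792)) (tt N6661 F11294) (tt N5184 (iv D6830)))
theorem Q6832 : ∀ i, i < 6832 → P i := stepQ 6831 Q6831 (allL N6831 (tt N5191 F11295) (tt N8905 (iv F14787)) (tt N8909 D8909) (tt N5185 (iv D6831)) (tt N5186 F11296) (tt N8910 D8910))
theorem Q6833 : ∀ i, i < 6833 → P i := stepQ 6832 Q6832 (allL N6832 (tt N5192 F11297) (tt N8906 (iv F14789)) (tt N8279 (iv F13742)) (tt N8910 (iv F14796)) (tt N8426 (iv F14007)) (tt N5185 (iv D6832)))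
theorem Q6834 : ∀ i, i < 6834 → P i := stepQ 6833 Q6833 (allL N6833 (tt N5193 F11298) (tt N8911 D8911) (tt N5186 (iv D6833)) (tt N8895 (iv F14777)) (tt N8909 (iv F14794)) (tt N8894 (iv F14774)))
theorem Q6835 : ∀ i, i < 6835 → P i := stepQ 6834 Q6834 (allL N6834 (tt N5194 F11299) (tt N8908 (iv F14791)) (tt N8894 (iv F14773)) (tt N5187 F11300) (tt N8912 D8912) (tt N5186 (iv D6834)))
theorem Q6836 : ∀ i, i < 6836 → P i := stepQ 6835 Q6835 (allL N6835 (tt N8913 D8913) (tt N5188 (iv D6835)) (tt N8711 (iv F14433)) (tt N8914 D8914) (tt N8651 (iv F14320)) (tt N8879 (iv F14744)))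
theorem Q6837 : ∀ i, i < 6837 → P i := stepQ 6836 Q6836 (allL N6836 (tt N5196 F11301) (tt N8914 (iv F14799)) (tt N8393 (iv F13942)) (tt N5188 (iv D6836)) (tt N8915 D8915) (tt N8415 (iv F13986)))
theorem Q6838 : ∀ i, i < 6838 → P i := stepQ 6837 Q6837 (allL N6837 (tt N7677 (iv F12686)) (tt N5190 F11302) (tt N8029 (iv F13298)) (tt N8916 D8916) (tt N5189 (iv D6837)) (tt N8917 D8917))
theorem Q6839 : ∀ i, i < 6839 → P i := stepQ 6838 Q6838 (allL N6838 (tt N6603 F11303) (tt N8916 (iv F14802)) (tt N8918 D8918) (tt N5190 (iv D6838)) (tt N6600 F11304) (tt N8919 D8919))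
theorem Q6840 : ∀ i, i < 6840 → P i := stepQ 6839 Q6839 (allL N6839 (tt N8279 (iv F13740)) (tt N8917 (iv F14804)) (tt N5192 F11305) (tt N8919 (iv F14808)) (tt N8421 (iv F13996)) (tt N5190 (iv D6839)))
theorem Q6841 : ∀ i, i < 6841 → P i := stepQ 6840 Q6840 (allL N6840 (tt N8909 (iv F14793)) (tt N8920 D8920) (tt N5191 (iv D6840)) (tt N8921 D8921) (tt N5193 F11306) (tt N8922 D8922))
theorem Q6842 : ∀ i, i < 6842 → P i := stepQ 6841 Q6841 (allL N6841 (tt N8910 (iv F14795)) (tt N8648 (iv F14315)) (tt N8922 (iv F14810)) (tt N5192 F11307) (tt N8923 D8923) (tt N5191 (iv D6841)))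
theorem Q6843 : ∀ i, i < 6843 → P i := stepQ 6842 Q6842 (allL N6842 (tt N8924 D8924) (tt N5193 (iv D6842)) (tt N8650 (iv F14318)) (tt N8925 D8925) (tt N8920 (iv F14809)) (tt N8926 D8926))
theorem Q6844 : ∀ i, i < 6844 → P i := stepQ 6843 Q6843 (allL N6843 (tt N8895 (iv F14775)) (tt N8925 (iv F14812)) (tt N8875 (iv F14736)) (tt N5193 (iv D6843)) (tt N8927 D8927) (tt N8874 F14734))
theorem Q6845 : ∀ i, i < 6845 → P i := stepQ 6844 Q6844 (allL N6844 (tt N8894 (iv F14772)) (tt N8926 (iv F14813)) (tt N5194 F11308) (tt N8874 (iv F14733)) (tt N8928 D8928) (tt N5193 (iv D6844)))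
theorem Q6846 : ∀ i, i < 6846 → P i := stepQ 6845 Q6845 (allL N6845 (tt N8912 (iv F14797)) (tt N8641 (iv F14306)) (tt N8928 (iv F14814)) (tt N8640 (iv F14305)) (tt N5194 (iv D6845)) (tt N8923 (iv F14811)))
theorem Q6847 : ∀ i, i < 6847 → P i := stepQ 6846 Q6846 (allL N6846 (tt N5195 (iv D6846)) (tt N8913 (iv F14798)) (tt N5197 F11309) (tt N8929 D8929) (tt N8655 (iv F14329)) (tt N8900 (iv F14781)))
theorem Q6848 : ∀ i, i < 6848 → P i := stepQ 6847 Q6847 (allL N6847 (tt N8929 (iv F14815)) (tt N5196 F11310) (tt N8930 D8930) (tt N5195 (iv D6847)) (tt N8931 D8931) (tt N8901 (iv F14783)))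
theorem Q6849 : ∀ i, i < 6849 → P i := stepQ 6848 Q6848 (allL N6848 (tt N8393 (iv F13939)) (tt N8932 D8932) (tt N5196 (iv D6848)) (tt N8392 (iv F13938)) (tt N8933 D8933) (tt N8412 (iv F13978)))
theorem Q6850 : ∀ i, i < 6850 → P i := stepQ 6849 Q6849 (allL N6849 (tt N8915 (iv F14800)) (tt N8931 (iv F14816)) (tt N8933 (iv F14817)) (tt N8658 (iv F14333)) (tt N5196 (iv D6849)) (tt N8934 D8934))
theorem Q6851 : ∀ i, i < 6851 → P i := stepQ 6850 Q6850 (allL N6850 (tt N5198 F11311) (tt N8301 (iv F13784)) (tt N8935 D8935) (tt N5197 (iv D6850)) (tt N8703 (iv F14422)) (tt N8286 (iv F13760)))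
theorem Q6852 : ∀ i, i < 6852 → P i := stepQ 6851 Q6851 (allL N6851 (tt N8935 (iv F14818)) (tt N6796 F11312) (tt N5198 (iv D6851)) (tt N8936 D8936) (tt N8708 (iv F14427)) (tt N8284 (iv F13756)))
theorem Q6853 : ∀ i, i < 6853 → P i := stepQ 6852 Q6852 (allL N6852 (tt N5200 F11313) (tt N5205 F11314) (tt N8937 D8937) (tt N5199 (iv D6852)) (tt N6292 F11315) (tt N8938 D8938))
theorem Q6854 : ∀ i, i < 6854 → P i := stepQ 6853 Q6853 (allL N6853 (tt N5201 F11316) (tt N5206 F11317) (tt N6719 F11318) (tt N8938 (iv F14824)) (tt N6762 F11319) (tt N5199 (iv D6853)))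
theorem Q6855 : ∀ i, i < 6855 → P i := stepQ 6854 Q6854 (allL N6854 (tt N8937 (iv F14820)) (tt N8939 D8939) (tt N5200 (iv D6854)) (tt N8940 D8940) (tt N6294 F11320) (tt N8941 D8941))
theorem Q6856 : ∀ i, i < 6856 → P i := stepQ 6855 Q6855 (allL N6855 (tt N8938 (iv F14822)) (tt N5203 F11321) (tt N8941 (iv F14827)) (tt N5201 F11322) (tt N8942 D8942) (tt N5200 (iv D6855)))
theorem Q6857 : ∀ i, i < 6857 → P i := stepQ 6856 Q6856 (allL N6856 (tt N8943 D8943) (tt N5202 (iv D6856)) (tt N8939 (iv F14825)) (tt N8456 (iv F14057)) (tt N6296 F11323) (tt N8455 F14055))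
theorem Q6858 : ∀ i, i < 6858 → P i := stepQ 6857 Q6857 (allL N6857 (tt N5217 F11324) (tt N8942 (iv F14828)) (tt N6594 F11325) (tt N8769 (iv F14546)) (tt N5203 (iv D6857)) (tt N6297 F11326))
theorem Q6859 : ∀ i, i < 6859 → P i := stepQ 6858 Q6858 (allL N6858 (tt N5208 F11327) (tt N6292 F11328) (tt N8944 D8944) (tt N5204 (iv D6858)) (tt N5205 F11329) (tt N8945 D8945))
theorem Q6860 : ∀ i, i < 6860 → P i := stepQ 6859 Q6859 (allL N6859 (tt N5209 F11330) (tt N6293 F11331) (tt N6246 F11332) (tt N8945 (iv F14836)) (tt N6764 F11333) (tt N5204 (iv D6859)))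
theorem Q6861 : ∀ i, i < 6861 → P i := stepQ 6860 Q6860 (allL N6860 (tt N5210 F11334) (tt N8946 D8946) (tt N5205 (iv D6860)) (tt N8947 D8947) (tt N8944 (iv F14833)) (tt N8948 D8948))
theorem Q6862 : ∀ i, i < 6862 → P i := stepQ 6861 Q6861 (allL N6861 (tt N5211 F11335) (tt N8938 (iv F14823)) (tt N8948 (iv F14841)) (tt N5206 F11336) (tt N8949 D8949) (tt N5205 (iv D6861)))
theorem Q6863 : ∀ i, i < 6863 → P i := stepQ 6862 Q6862 (allL N6862 (tt N6245 F11337) (tt N6243 F11338) (tt N8950 D8950) (tt N5207 (iv D6862)) (tt N6243 F11339) (tt N8951 D8951))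
theorem Q6864 : ∀ i, i < 6864 → P i := stepQ 6863 Q6863 (allL N6863 (tt N6246 F11340) (tt N6244 F11341) (tt N5209 F11342) (tt N8951 (iv F14849)) (tt N6768 F11343) (tt N5207 (iv D6863)))
theorem Q6865 : ∀ i, i < 6865 → P i := stepQ 6864 Q6864 (allL N6864 (tt N8944 (iv F14832)) (tt N8952 D8952) (tt N5208 (iv D6864)) (tt N8953 D8953) (tt N5210 F11344) (tt N8954 D8954))
theorem Q6866 : ∀ i, i < 6866 → P i := stepQ 6865 Q6865 (allL N6865 (tt N8945 (iv F14834)) (tt N5213 F11345) (tt N8954 (iv F14852)) (tt N5209 F11346) (tt N8955 D8955) (tt N5208 (iv D6865)))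
theorem Q6867 : ∀ i, i < 6867 → P i := stepQ 6866 Q6866 (allL N6866 (tt N8956 D8956) (tt N5210 (iv D6866)) (tt N5214 F11347) (tt N8957 D8957) (tt N8952 (iv F14851)) (tt N8958 D8958))
theorem Q6868 : ∀ i, i < 6868 → P i := stepQ 6867 Q6867 (allL N6867 (tt N8947 (iv F14837)) (tt N8957 (iv F14857)) (tt N8959 D8959) (tt N5210 (iv D6867)) (tt N8960 D8960) (tt N8961 D8961))
theorem Q6869 : ∀ i, i < 6869 → P i := stepQ 6868 Q6868 (allL N6868 (tt N8948 (iv F14840)) (tt N8958 (iv F14858)) (tt N5211 F11348) (tt N8961 (iv F14865)) (tt N8962 D8962) (tt N5210 (iv D6868)))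
theorem Q6870 : ∀ i, i < 6870 → P i := stepQ 6869 Q6869 (allL N6869 (tt N8949 (iv F14843)) (tt N5217 F11349) (tt N8962 (iv F14866)) (tt N6774 F11350) (tt N5211 (iv D6869)) (tt N8955 (iv F14855)))
theorem Q6871 : ∀ i, i < 6871 → P i := stepQ 6870 Q6870 (allL N6870 (tt N8963 D8963) (tt N5212 (iv D6870)) (tt N8952 (iv F14850)) (tt N7222 (iv F11983)) (tt N5214 F11351) (tt N7221 F11981))
theorem Q6872 : ∀ i, i < 6872 → P i := stepQ 6871 Q6871 (allL N6871 (tt N6297 F11352) (tt N8955 (iv F14853)) (tt N5750 F11353) (tt N8773 (iv F14559)) (tt N5213 (iv D6871)) (tt N5217 F11354))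
theorem Q6873 : ∀ i, i < 6873 → P i := stepQ 6872 Q6872 (allL N6872 (tt N5214 (iv D6872)) (tt N8943 (iv F14830)) (tt N8956 (iv F14856)) (tt N8964 D8964) (tt N8963 (iv F14868)) (tt N8965 D8965))
theorem Q6874 : ∀ i, i < 6874 → P i := stepQ 6873 Q6873 (allL N6873 (tt N8964 (iv F14869)) (tt N5215 F11355) (tt N8966 D8966) (tt N5214 (iv D6873)) (tt N8967 D8967) (tt N5793 (iv F11356)))
theorem Q6875 : ∀ i, i < 6875 → P i := stepQ 6874 Q6874 (allL N6874 (tt N8965 (iv F14871)) (tt N5216 F11357) (tt N8958 (iv F14859)) (tt N5793 F11358) (tt N8968 D8968) (tt N5214 (iv D6874)))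
theorem Q6876 : ∀ i, i < 6876 → P i := stepQ 6875 Q6875 (allL N6875 (tt N6593 F11359) (tt N8967 (iv F14875)) (tt N5794 F11360) (tt N5749 F11361) (tt N5215 (iv D6875)) (tt N5742 F11362))
theorem Q6877 : ∀ i, i < 6877 → P i := stepQ 6876 Q6876 (allL N6876 (tt N6594 F11363) (tt N8968 (iv F14878)) (tt N5217 F11364) (tt N5743 F11365) (tt N5216 (iv D6876)) (tt N5750 F11366))
theorem Q6878 : ∀ i, i < 6878 → P i := stepQ 6877 Q6877 (allL N6877 (tt N5221 F11367) (tt N7182 (iv F11924)) (tt N8961 (iv F14864)) (tt N5218 (iv D6877)) (tt N8969 D8969) (tt N8959 F14862))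
theorem Q6879 : ∀ i, i < 6879 → P i := stepQ 6878 Q6878 (allL N6878 (tt N5222 F11368) (tt N7183 (iv F11925)) (tt N5219 F11369) (tt N8959 (iv F14861)) (tt N7244 (iv F12002)) (tt N5218 (iv D6878)))
theorem Q6880 : ∀ i, i < 6880 → P i := stepQ 6879 Q6879 (allL N6879 (tt N5220 (iv D6879)) (tt N6961 (iv F11538)) (tt N5224 F11370) (tt N8970 D8970) (tt N6641 F11371) (tt N8971 D8971))
theorem Q6881 : ∀ i, i < 6881 → P i := stepQ 6880 Q6880 (allL N6880 (tt N8970 (iv F14883)) (tt N5221 F11372) (tt N8972 D8972) (tt N5220 (iv D6880)) (tt N8973 D8973) (tt N8974 D8974))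
theorem Q6882 : ∀ i, i < 6882 → P i := stepQ 6881 Q6881 (allL N6881 (tt N8971 (iv F14885)) (tt N5222 F11373) (tt N5226 F11374) (tt N8974 (iv F14892)) (tt N6657 F11375) (tt N5220 (iv D6881)))
theorem Q6883 : ∀ i, i < 6883 → P i := stepQ 6882 Q6882 (allL N6882 (tt N8961 (iv F14863)) (tt N8975 D8975) (tt N5221 (iv D6882)) (tt N8948 (iv F14842)) (tt N8976 D8976) (tt N8947 F14839))
theorem Q6884 : ∀ i, i < 6884 → P i := stepQ 6883 Q6883 (allL N6883 (tt N8969 (iv F14881)) (tt N8973 (iv F14889)) (tt N8976 (iv F14893)) (tt N6643 F11376) (tt N5221 (iv D6883)) (tt N8977 D8977))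
theorem Q6885 : ∀ i, i < 6885 → P i := stepQ 6884 Q6884 (allL N6884 (tt N8959 (iv F14860)) (tt N8974 (iv F14891)) (tt N8947 (iv F14838)) (tt N5222 F11377) (tt N8978 D8978) (tt N5221 (iv D6884)))
theorem Q6886 : ∀ i, i < 6886 → P i := stepQ 6885 Q6885 (allL N6885 (tt N7244 (iv F12000)) (tt N6657 F11378) (tt N5223 F11379) (tt N8979 D8979) (tt N5222 (iv D6885)) (tt N6386 F11380))
theorem Q6887 : ∀ i, i < 6887 → P i := stepQ 6886 Q6886 (allL N6886 (tt N5225 F11381) (tt N6715 F11382) (tt N8980 D8980) (tt N5224 (iv D6886)) (tt N6654 F11383) (tt N8332 (iv F13849)))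
theorem Q6888 : ∀ i, i < 6888 → P i := stepQ 6887 Q6887 (allL N6887 (tt N5226 F11384) (tt N6716 F11385) (tt N8971 (iv F14886)) (tt N8332 (iv F13847)) (tt N6653 F11386) (tt N5224 (iv D6887)))
theorem Q6889 : ∀ i, i < 6889 → P i := stepQ 6888 Q6888 (allL N6888 (tt N8980 (iv F14897)) (tt N8325 (iv F13837)) (tt N5225 (iv D6888)) (tt N8981 D8981) (tt N6658 F11387) (tt N8326 (iv F13841)))
theorem Q6890 : ∀ i, i < 6890 → P i := stepQ 6889 Q6889 (allL N6889 (tt N6125 F11388) (tt N6767 F11389) (tt N8982 D8982) (tt N5227 (iv D6889)) (tt N6767 F11390) (tt N8983 D8983))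
theorem Q6891 : ∀ i, i < 6891 → P i := stepQ 6890 Q6890 (allL N6890 (tt N6126 F11391) (tt N6768 F11392) (tt N5229 F11393) (tt N8983 (iv F14903)) (tt N6244 F11394) (tt N5227 (iv D6890)))
theorem Q6892 : ∀ i, i < 6892 → P i := stepQ 6891 Q6891 (allL N6891 (tt N6129 F11395) (tt N5877 F11396) (tt N5228 (iv D6891)) (tt N8984 D8984) (tt N5230 F11397) (tt N8985 D8985))
theorem Q6893 : ∀ i, i < 6893 → P i := stepQ 6892 Q6892 (allL N6892 (tt N6130 F11398) (tt N5231 F11399) (tt N8985 (iv F14908)) (tt N5229 F11400) (tt N5837 F11401) (tt N5228 (iv D6892)))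
theorem Q6894 : ∀ i, i < 6894 → P i := stepQ 6893 Q6893 (allL N6893 (tt N6166 F11402) (tt N5876 F11403) (tt N6478 F11404) (tt N5230 (iv D6893)) (tt N8986 D8986) (tt N5838 F11405))
theorem Q6895 : ∀ i, i < 6895 → P i := stepQ 6894 Q6894 (allL N6894 (tt N5233 F11406) (tt N6763 F11407) (tt N8987 D8987) (tt N5232 (iv D6894)) (tt N6761 F11408) (tt N8988 D8988))
theorem Q6896 : ∀ i, i < 6896 → P i := stepQ 6895 Q6895 (allL N6895 (tt N5234 F11409) (tt N6764 F11410) (tt N6067 F11411) (tt N8988 (iv F14917)) (tt N6293 F11412) (tt N5232 (iv D6895)))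
theorem Q6897 : ∀ i, i < 6897 → P i := stepQ 6896 Q6896 (allL N6896 (tt N8987 (iv F14913)) (tt N8989 D8989) (tt N5233 (iv D6896)) (tt N8990 D8990) (tt N8766 (iv F14540)) (tt N8991 D8991))
theorem Q6898 : ∀ i, i < 6898 → P i := stepQ 6897 Q6897 (allL N6897 (tt N8988 (iv F14915)) (tt N5236 F11413) (tt N8991 (iv F14919)) (tt N5234 F11414) (tt N8992 D8992) (tt N5233 (iv D6897)))
theorem Q6899 : ∀ i, i < 6899 → P i := stepQ 6898 Q6898 (allL N6898 (tt N8993 D8993) (tt N5235 (iv D6898)) (tt N8989 (iv F14918)) (tt N8994 D8994) (tt N8768 (iv F14543)) (tt N8995 D8995))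
theorem Q6900 : ∀ i, i < 6900 → P i := stepQ 6899 Q6899 (allL N6899 (tt N8771 (iv F14549)) (tt N8994 (iv F14922)) (tt N5872 F11415) (tt N5235 (iv D6899)) (tt N8996 D8996) (tt N5871 (iv F11416)))
theorem Q6901 : ∀ i, i < 6901 → P i := stepQ 6900 Q6900 (allL N6900 (tt N8772 (iv F14553)) (tt N8995 (iv F14924)) (tt N5236 F11417) (tt N5871 F11418) (tt N8997 D8997) (tt N5235 (iv D6900)))
theorem Q6902 : ∀ i, i < 6902 → P i := stepQ 6901 Q6901 (allL N6901 (tt N8773 (iv F14557)) (tt N8992 (iv F14920)) (tt N8997 (iv F14931)) (tt N6297 F11419) (tt N5236 (iv D6901)) (tt N8769 (iv F14547)))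
theorem Q6903 : ∀ i, i < 6903 → P i := stepQ 6902 Q6902 (allL N6902 (tt N5237 (iv D6902)) (tt N5875 F11420) (tt N6222 F11421) (tt N8998 D8998) (tt N5240 F11422) (tt N8999 D8999))
theorem Q6904 : ∀ i, i < 6904 → P i := stepQ 6903 Q6903 (allL N6903 (tt N8998 (iv F14934)) (tt N5238 F11423) (tt N9000 D9000) (tt N5237 (iv D6903)) (tt N5856 F11424) (tt N9001 D9001))
theorem Q6905 : ∀ i, i < 6905 → P i := stepQ 6904 Q6904 (allL N6904 (tt N8999 (iv F14937)) (tt N5239 F11425) (tt N6224 F11426) (tt N9001 (iv F14943)) (tt N5849 F11427) (tt N5237 (iv D6904)))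
theorem Q6906 : ∀ i, i < 6906 → P i := stepQ 6905 Q6905 (allL N6905 (tt N5871 F11428) (tt N9002 D9002) (tt N5238 (iv D6905)) (tt N8772 (iv F14555)) (tt N5858 F11429) (tt N8771 (iv F14551)))
theorem Q6907 : ∀ i, i < 6907 → P i := stepQ 6906 Q6906 (allL N6906 (tt N5872 F11430) (tt N9001 (iv F14942)) (tt N8771 (iv F14550)) (tt N5239 F11431) (tt N9003 D9003) (tt N5238 (iv D6906)))
theorem Q6908 : ∀ i, i < 6908 → P i := stepQ 6907 Q6907 (allL N6907 (tt N5243 F11432) (tt N9004 D9004) (tt N5241 (iv D6907)) (tt N9005 D9005) (tt N9006 D9006) (tt N5925 F11433))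
theorem Q6909 : ∀ i, i < 6909 → P i := stepQ 6908 Q6908 (allL N6908 (tt N5244 F11434) (tt N5253 F11435) (tt N9006 (iv F14958)) (tt N5248 F11436) (tt N5241 (iv D6908)) (tt N9007 D9007))
theorem Q6910 : ∀ i, i < 6910 → P i := stepQ 6909 Q6909 (allL N6909 (tt N9005 (iv F14953)) (tt N5929 F11437) (tt N9008 D9008) (tt N5243 (iv D6909)) (tt N9009 D9009) (tt N5926 F11438))
theorem Q6911 : ∀ i, i < 6911 → P i := stepQ 6910 Q6910 (allL N6910 (tt N9006 (iv F14957)) (tt N5932 F11439) (tt N5244 F11440) (tt N9010 D9010) (tt N5243 (iv D6910)) (tt N9011 D9011))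
theorem Q6912 : ∀ i, i < 6912 → P i := stepQ 6911 Q6911 (allL N6911 (tt N9007 (iv F14959)) (tt N5246 F11441) (tt N9011 (iv F14970)) (tt N5249 F11442) (tt N5938 F11443) (tt N5244 (iv D6911)))
theorem Q6913 : ∀ i, i < 6913 → P i := stepQ 6912 Q6912 (allL N6912 (tt N5635 F11444) (tt N5247 F11445) (tt N9012 D9012) (tt N5245 (iv D6912)) (tt N5937 F11446) (tt N5250 F11447))
theorem Q6914 : ∀ i, i < 6914 → P i := stepQ 6913 Q6913 (allL N6913 (tt N5267 F11448) (tt N9013 D9013) (tt N5247 (iv D6913)) (tt N5282 F11449) (tt N5939 F11450) (tt N5251 F11451))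
theorem Q6915 : ∀ i, i < 6915 → P i := stepQ 6914 Q6914 (allL N6914 (tt N5249 F11452) (tt N5268 F11453) (tt N7286 (iv F12096)) (tt N9007 (iv F14961)) (tt N5633 F11454) (tt N5248 (iv D6914)))
theorem Q6916 : ∀ i, i < 6916 → P i := stepQ 6915 Q6915 (allL N6915 (tt N5634 F11455) (tt N9014 D9014) (tt N5250 (iv D6915)) (tt N9015 D9015) (tt N8247 (iv F13681)) (tt N9012 (iv F14974)))
theorem Q6917 : ∀ i, i < 6917 → P i := stepQ 6916 Q6916 (allL N6916 (tt N9016 D9016) (tt N5251 (iv D6916)) (tt N9014 (iv F14978)) (tt N5943 F11456) (tt N8249 (iv F13686)) (tt N9013 (iv F14977)))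
theorem Q6918 : ∀ i, i < 6918 → P i := stepQ 6917 Q6917 (allL N6917 (tt N9017 D9017) (tt N5252 (iv D6917)) (tt N9004 (iv F14950)) (tt N9018 D9018) (tt N9019 D9019) (tt N9020 D9020))
theorem Q6919 : ∀ i, i < 6919 → P i := stepQ 6918 Q6918 (allL N6918 (tt N5256 F11457) (tt N9018 (iv F14985)) (tt N5295 F11458) (tt N5252 (iv D6918)) (tt N9021 D9021) (tt N5293 (iv F11459)))
theorem Q6920 : ∀ i, i < 6920 → P i := stepQ 6919 Q6919 (allL N6919 (tt N5257 F11460) (tt N9019 (iv F14988)) (tt N5253 F11461) (tt N9022 D9022) (tt N5252 (iv D6919)) (tt N9023 D9023))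
theorem Q6921 : ∀ i, i < 6921 → P i := stepQ 6920 Q6920 (allL N6920 (tt N5258 F11462) (tt N9020 (iv F14990)) (tt N5254 F11463) (tt N5293 F11464) (tt N9024 D9024) (tt N5252 (iv D6920)))
theorem Q6922 : ∀ i, i < 6922 → P i := stepQ 6921 Q6921 (allL N6921 (tt N5259 F11465) (tt N9007 (iv F14960)) (tt N9023 (iv F14997)) (tt N5268 F11466) (tt N9025 D9025) (tt N5253 (iv D6921)))
theorem Q6923 : ∀ i, i < 6923 → P i := stepQ 6922 Q6922 (allL N6922 (tt N5260 F11467) (tt N5936 F11468) (tt N9024 (iv F14999)) (tt N5639 F11469) (tt N5254 (iv D6922)) (tt N9025 (iv F15003)))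
theorem Q6924 : ∀ i, i < 6924 → P i := stepQ 6923 Q6923 (allL N6923 (tt N5255 (iv D6923)) (tt N9017 (iv F14982)) (tt N5261 F11470) (tt N8143 (iv F13512)) (tt N9026 D9026) (tt N5912 F11471))
theorem Q6925 : ∀ i, i < 6925 → P i := stepQ 6924 Q6924 (allL N6924 (tt N8143 (iv F13511)) (tt N5256 F11472) (tt N8138 (iv F13497)) (tt N5255 (iv D6924)) (tt N9027 D9027) (tt N5915 F11473))
theorem Q6926 : ∀ i, i < 6926 → P i := stepQ 6925 Q6925 (allL N6925 (tt N9026 (iv F15004)) (tt N5257 F11474) (tt N5262 F11475) (tt N9028 D9028) (tt N5255 (iv D6925)) (tt N9029 D9029))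
theorem Q6927 : ∀ i, i < 6927 → P i := stepQ 6926 Q6926 (allL N6926 (tt N5295 F11476) (tt N9030 D9030) (tt N5256 (iv D6926)) (tt N5290 F11477) (tt N9031 D9031) (tt N5289 (iv F11478)))
theorem Q6928 : ∀ i, i < 6928 → P i := stepQ 6927 Q6927 (allL N6927 (tt N9021 (iv F14993)) (tt N9027 (iv F15006)) (tt N9031 (iv F15015)) (tt N9032 D9032) (tt N5256 (iv D6927)) (tt N9033 D9033))
theorem Q6929 : ∀ i, i < 6929 → P i := stepQ 6928 Q6928 (allL N6928 (tt N5293 F11479) (tt N5915 F11480) (tt N5289 F11481) (tt N5258 F11482) (tt N9034 D9034) (tt N5256 (iv D6928)))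
theorem Q6930 : ∀ i, i < 6930 → P i := stepQ 6929 Q6929 (allL N6929 (tt N9022 (iv F14995)) (tt N9028 (iv F15007)) (tt N9035 D9035) (tt N5257 (iv D6929)) (tt N9032 (iv F15017)) (tt N9036 D9036))
theorem Q6931 : ∀ i, i < 6931 → P i := stepQ 6930 Q6930 (allL N6930 (tt N9023 (iv F14996)) (tt N9029 (iv F15008)) (tt N5259 F11483) (tt N9036 (iv F15024)) (tt N9037 D9037) (tt N5257 (iv D6930)))
theorem Q6932 : ∀ i, i < 6932 → P i := stepQ 6931 Q6931 (allL N6931 (tt N9024 (iv F14998)) (tt N5916 F11484) (tt N5260 F11485) (tt N9038 D9038) (tt N5258 (iv D6931)) (tt N9037 (iv F15027)))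
theorem Q6933 : ∀ i, i < 6933 → P i := stepQ 6932 Q6932 (allL N6932 (tt N9025 (iv F15000)) (tt N5265 F11486) (tt N9037 (iv F15026)) (tt N5651 F11487) (tt N5259 (iv D6932)) (tt N5260 F11488))
theorem Q6934 : ∀ i, i < 6934 → P i := stepQ 6933 Q6933 (allL N6933 (tt N5262 F11489) (tt N5923 F11490) (tt N9026 (iv F15005)) (tt N9039 D9039) (tt N5261 (iv D6933)) (tt N9040 D9040))
theorem Q6935 : ∀ i, i < 6935 → P i := stepQ 6934 Q6934 (allL N6934 (tt N9039 (iv F15029)) (tt N5263 F11491) (tt N9041 D9041) (tt N5262 (iv D6934)) (tt N5918 F11492) (tt N9042 D9042))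
theorem Q6936 : ∀ i, i < 6936 → P i := stepQ 6935 Q6935 (allL N6935 (tt N9040 (iv F15032)) (tt N5264 F11493) (tt N9029 (iv F15009)) (tt N9042 (iv F15037)) (tt N5917 F11494) (tt N5262 (iv D6935)))
theorem Q6937 : ∀ i, i < 6937 → P i := stepQ 6936 Q6936 (allL N6936 (tt N5942 F11495) (tt N9043 D9043) (tt N5263 (iv D6936)) (tt N8252 (iv F13694)) (tt N5279 F11496) (tt N8254 (iv F13701)))
theorem Q6938 : ∀ i, i < 6938 → P i := stepQ 6937 Q6937 (allL N6937 (tt N5941 F11497) (tt N9042 (iv F15036)) (tt N8254 (iv F13700)) (tt N5264 F11498) (tt N8134 (iv F13489)) (tt N5263 (iv D6937)))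
theorem Q6939 : ∀ i, i < 6939 → P i := stepQ 6938 Q6938 (allL N6938 (tt N5940 F11499) (tt N5651 F11500) (tt N8807 (iv F14630)) (tt N5265 (iv D6938)) (tt N5276 F11501) (tt N5266 F11502))
theorem Q6940 : ∀ i, i < 6940 → P i := stepQ 6939 Q6939 (allL N6939 (tt N5939 F11503) (tt N9044 D9044) (tt N5266 (iv D6939)) (tt N8805 (iv F14626)) (tt N5267 F11504) (tt N8807 (iv F14632)))
theorem Q6941 : ∀ i, i < 6941 → P i := stepQ 6940 Q6940 (allL N6940 (tt N9045 D9045) (tt N5267 (iv D6940)) (tt N5654 F11505) (tt N8136 (iv F13493)) (tt N9044 (iv F15040)) (tt N5278 F11506))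
theorem Q6942 : ∀ i, i < 6942 → P i := stepQ 6941 Q6941 (allL N6941 (tt N7300 (iv F12120)) (tt N5270 F11507) (tt N9046 D9046) (tt N5269 (iv D6941)) (tt N5594 F11508) (tt N9047 D9047))
theorem Q6943 : ∀ i, i < 6943 → P i := stepQ 6942 Q6942 (allL N6942 (tt N7301 (iv F12122)) (tt N5271 F11509) (tt N5273 F11510) (tt N9047 (iv F15045)) (tt N5645 F11511) (tt N5269 (iv D6942)))
theorem Q6944 : ∀ i, i < 6944 → P i := stepQ 6943 Q6943 (allL N6943 (tt N5610 F11512) (tt N9048 D9048) (tt N5270 (iv D6943)) (tt N9049 D9049) (tt N5597 F11513) (tt N9050 D9050))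
theorem Q6945 : ∀ i, i < 6945 → P i := stepQ 6944 Q6944 (allL N6944 (tt N5611 F11514) (tt N9047 (iv F15044)) (tt N9050 (iv F15049)) (tt N5271 F11515) (tt N9051 D9051) (tt N5270 (iv D6944)))
theorem Q6946 : ∀ i, i < 6946 → P i := stepQ 6945 Q6945 (allL N6945 (tt N8534 (iv F14177)) (tt N9052 D9052) (tt N5272 (iv D6945)) (tt N9053 D9053) (tt N8231 (iv F13646)) (tt N9054 D9054))
theorem Q6947 : ∀ i, i < 6947 → P i := stepQ 6946 Q6946 (allL N6946 (tt N8535 (iv F14179)) (tt N5275 F11516) (tt N9054 (iv F15054)) (tt N5273 F11517) (tt N9055 D9055) (tt N5272 (iv D6946)))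
theorem Q6948 : ∀ i, i < 6948 → P i := stepQ 6947 Q6947 (allL N6947 (tt N9056 D9056) (tt N5274 (iv D6947)) (tt N9052 (iv F15053)) (tt N9057 D9057) (tt N8232 (iv F13647)) (tt N9058 D9058))
theorem Q6949 : ∀ i, i < 6949 → P i := stepQ 6948 Q6948 (allL N6948 (tt N8254 (iv F13699)) (tt N9057 (iv F15058)) (tt N5941 F11518) (tt N5274 (iv D6948)) (tt N8804 (iv F14624)) (tt N5942 F11519))
theorem Q6950 : ∀ i, i < 6950 → P i := stepQ 6949 Q6949 (allL N6949 (tt N8252 (iv F13693)) (tt N9058 (iv F15060)) (tt N5275 F11520) (tt N5942 F11521) (tt N8250 (iv F13689)) (tt N5274 (iv D6949)))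
theorem Q6951 : ∀ i, i < 6951 → P i := stepQ 6950 Q6950 (allL N6950 (tt N8245 (iv F13672)) (tt N9055 (iv F15055)) (tt N8250 (iv F13688)) (tt N6785 F11522) (tt N5275 (iv D6950)) (tt N6784 F11523))
theorem Q6952 : ∀ i, i < 6952 → P i := stepQ 6951 Q6951 (allL N6951 (tt N8251 (iv F13690)) (tt N9059 D9059) (tt N5276 (iv D6951)) (tt N8244 (iv F13670)) (tt N8807 (iv F14631)) (tt N5277 F11524))
theorem Q6953 : ∀ i, i < 6953 → P i := stepQ 6952 Q6952 (allL N6952 (tt N9060 D9060) (tt N5277 (iv D6952)) (tt N5648 F11525) (tt N9061 D9061) (tt N5278 F11526) (tt N9059 (iv F15063)))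
theorem Q6954 : ∀ i, i < 6954 → P i := stepQ 6953 Q6953 (allL N6953 (tt N8250 (iv F13687)) (tt N9061 (iv F15066)) (tt N8245 (iv F13674)) (tt N5277 (iv D6953)) (tt N8252 (iv F13695)) (tt N8244 F13671))
theorem Q6955 : ∀ i, i < 6955 → P i := stepQ 6954 Q6954 (allL N6954 (tt N5278 (iv D6954)) (tt N9016 (iv F14980)) (tt N5652 F11527) (tt N9062 D9062) (tt N9060 (iv F15065)) (tt N9045 (iv F15042)))
theorem Q6956 : ∀ i, i < 6956 → P i := stepQ 6955 Q6955 (allL N6955 (tt N9062 (iv F15067)) (tt N5279 F11528) (tt N9063 D9063) (tt N5278 (iv D6955)) (tt N9043 (iv F15038)) (tt N8136 (iv F13494)))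
theorem Q6957 : ∀ i, i < 6957 → P i := stepQ 6956 Q6956 (allL N6956 (tt N5281 F11529) (tt N8112 (iv F13449)) (tt N9064 D9064) (tt N5280 (iv D6956)) (tt N8798 (iv F14611)) (tt N5924 F11530))
theorem Q6958 : ∀ i, i < 6958 → P i := stepQ 6957 Q6957 (allL N6957 (tt N9064 (iv F15070)) (tt N9065 D9065) (tt N5281 (iv D6957)) (tt N9064 (iv F15071)) (tt N8800 (iv F14614)) (tt N5935 F11531))
theorem Q6959 : ∀ i, i < 6959 → P i := stepQ 6958 Q6958 (allL N6958 (tt N9066 D9066) (tt N5282 (iv D6958)) (tt N9065 (iv F15073)) (tt N9013 (iv F14975)) (tt N8802 (iv F14618)) (tt N5943 F11532))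
theorem Q6960 : ∀ i, i < 6960 → P i := stepQ 6959 Q6959 (allL N6959 (tt N5286 F11533) (tt N8663 (iv F14345)) (tt N5284 F11534) (tt N9067 D9067) (tt N5283 (iv D6959)) (tt N9068 D9068))
theorem Q6961 : ∀ i, i < 6961 → P i := stepQ 6960 Q6960 (allL N6960 (tt N5287 F11535) (tt N8125 (iv F13470)) (tt N9068 (iv F15080)) (tt N5922 F11536) (tt N8799 (iv F14613)) (tt N5284 (iv D6960)))
theorem Q6962 : ∀ i, i < 6962 → P i := stepQ 6961 Q6961 (allL N6961 (tt N5467 F11537) (tt N6879 F11538) (tt N5465 F11539) (tt N9069 D9069) (tt N5285 (iv D6961)) (tt N9070 D9070))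
theorem Q6963 : ∀ i, i < 6963 → P i := stepQ 6962 Q6962 (allL N6962 (tt N9067 (iv F15076)) (tt N8742 (iv F14491)) (tt N9071 D9071) (tt N5286 (iv D6962)) (tt N9069 (iv F15083)) (tt N9072 D9072))
theorem Q6964 : ∀ i, i < 6964 → P i := stepQ 6963 Q6963 (allL N6963 (tt N9068 (iv F15079)) (tt N8743 (iv F14492)) (tt N5287 F11540) (tt N9072 (iv F15087)) (tt N8795 (iv F14608)) (tt N5286 (iv D6963)))
theorem Q6965 : ∀ i, i < 6965 → P i := stepQ 6964 Q6964 (allL N6964 (tt N5288 (iv D6964)) (tt N5291 F11541) (tt N5418 F11542) (tt N9073 D9073) (tt N5640 F11543) (tt N5412 (iv F11544)))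
theorem Q6966 : ∀ i, i < 6966 → P i := stepQ 6965 Q6965 (allL N6965 (tt N9073 (iv F15088)) (tt N5289 F11545) (tt N9074 D9074) (tt N5288 (iv D6965)) (tt N9075 D9075) (tt N9030 (iv F15013)))
theorem Q6967 : ∀ i, i < 6967 → P i := stepQ 6966 Q6966 (allL N6966 (tt N5412 F11546) (tt N5290 F11547) (tt N5421 F11548) (tt N9030 (iv F15012)) (tt N5421 F11549) (tt N5288 (iv D6966)))
theorem Q6968 : ∀ i, i < 6968 → P i := stepQ 6967 Q6967 (allL N6967 (tt N5294 F11550) (tt N9075 (iv F15092)) (tt N9034 (iv F15020)) (tt N5642 F11551) (tt N5289 (iv D6967)) (tt N9076 D9076))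
theorem Q6969 : ∀ i, i < 6969 → P i := stepQ 6968 Q6968 (allL N6968 (tt N5292 F11552) (tt N9073 (iv F15089)) (tt N5401 F11553) (tt N5291 (iv D6968)) (tt N9077 D9077) (tt N5413 F11554))
theorem Q6970 : ∀ i, i < 6970 → P i := stepQ 6969 Q6969 (allL N6969 (tt N9077 (iv F15096)) (tt N5294 F11555) (tt N8472 (iv F14085)) (tt N5659 F11556) (tt N5292 (iv D6969)) (tt N9078 D9078))
theorem Q6971 : ∀ i, i < 6971 → P i := stepQ 6970 Q6970 (allL N6970 (tt N9079 D9079) (tt N5293 (iv D6970)) (tt N8470 F14078) (tt N9020 (iv F14992)) (tt N9080 D9080) (tt N9018 F14987))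
theorem Q6972 : ∀ i, i < 6972 → P i := stepQ 6971 Q6971 (allL N6971 (tt N9034 (iv F15018)) (tt N9080 (iv F15104)) (tt N5294 F11557) (tt N9081 D9081) (tt N5293 (iv D6971)) (tt N9082 D9082))
theorem Q6973 : ∀ i, i < 6973 → P i := stepQ 6972 Q6972 (allL N6972 (tt N9076 (iv F15094)) (tt N9078 (iv F15099)) (tt N9082 (iv F15105)) (tt N5662 F11558) (tt N9083 D9083) (tt N5294 (iv D6972)))
theorem Q6974 : ∀ i, i < 6974 → P i := stepQ 6973 Q6973 (allL N6973 (tt N9031 (iv F15014)) (tt N5416 F11559) (tt N9021 (iv F14994)) (tt N5431 F11560) (tt N5295 (iv D6973)) (tt N9083 (iv F15108)))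
theorem Q6975 : ∀ i, i < 6975 → P i := stepQ 6974 Q6974 (allL N6974 (tt N5453 F11561) (tt N5298 F11562) (tt N5445 F11563) (tt N9084 D9084) (tt N5296 (iv D6974)) (tt N5945 F11564))
theorem Q6976 : ∀ i, i < 6976 → P i := stepQ 6975 Q6975 (allL N6975 (tt N5300 F11565) (tt N5520 F11566) (tt N8676 (iv F14371)) (tt N9085 D9085) (tt N5297 (iv D6975)) (tt N9086 D9086))
theorem Q6977 : ∀ i, i < 6977 → P i := stepQ 6976 Q6976 (allL N6976 (tt N5301 F11567) (tt N9084 (iv F15110)) (tt N9087 D9087) (tt N5298 (iv D6976)) (tt N9085 (iv F15115)) (tt N5947 F11568))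
theorem Q6978 : ∀ i, i < 6978 → P i := stepQ 6977 Q6977 (allL N6977 (tt N8676 (iv F14369)) (tt N5518 F11569) (tt N5300 F11570) (tt N9088 D9088) (tt N5299 (iv D6977)) (tt N9089 D9089))
theorem Q6979 : ∀ i, i < 6979 → P i := stepQ 6978 Q6978 (allL N6978 (tt N9085 (iv F15113)) (tt N5456 F11571) (tt N9090 D9090) (tt N5300 (iv D6978)) (tt N5301 F11572) (tt N9091 D9091))
theorem Q6980 : ∀ i, i < 6980 → P i := stepQ 6979 Q6979 (allL N6979 (tt N9086 (iv F15116)) (tt N5457 F11573) (tt N9089 (iv F15124)) (tt N9091 (iv F15128)) (tt N5469 F11574) (tt N5300 (iv D6979)))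
theorem Q6981 : ∀ i, i < 6981 → P i := stepQ 6980 Q6980 (allL N6980 (tt N9087 (iv F15119)) (tt N9092 D9092) (tt N5301 (iv D6980)) (tt N9087 (iv F15120)) (tt N9090 (iv F15126)) (tt N5952 F11575))
theorem Q6982 : ∀ i, i < 6982 → P i := stepQ 6981 Q6981 (allL N6981 (tt N5445 F11576) (tt N5303 F11577) (tt N5453 F11578) (tt N9093 D9093) (tt N5302 (iv D6981)) (tt N5955 F11579))
theorem Q6983 : ∀ i, i < 6983 → P i := stepQ 6982 Q6982 (allL N6982 (tt N5305 F11580) (tt N9093 (iv F15133)) (tt N9094 D9094) (tt N5303 (iv D6982)) (tt N8281 (iv F13748)) (tt N5957 F11581))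
theorem Q6984 : ∀ i, i < 6984 → P i := stepQ 6983 Q6983 (allL N6983 (tt N8281 (iv F13747)) (tt N5450 F11582) (tt N9095 D9095) (tt N5304 (iv D6983)) (tt N5305 F11583) (tt N9096 D9096))
theorem Q6985 : ∀ i, i < 6985 → P i := stepQ 6984 Q6984 (allL N6984 (tt N8282 (iv F13749)) (tt N5451 F11584) (tt N7678 (iv F12690)) (tt N9096 (iv F15140)) (tt N5312 F11585) (tt N5304 (iv D6984)))
theorem Q6986 : ∀ i, i < 6986 → P i := stepQ 6985 Q6985 (allL N6985 (tt N9094 (iv F15135)) (tt N9097 D9097) (tt N5305 (iv D6985)) (tt N9098 D9098) (tt N9095 (iv F15138)) (tt N5967 F11586))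
theorem Q6987 : ∀ i, i < 6987 → P i := stepQ 6986 Q6986 (allL N6986 (tt N8199 (iv F13600)) (tt N5308 F11587) (tt N8424 (iv F14002)) (tt N5954 F11588) (tt N5307 (iv D6986)) (tt N9099 D9099))
theorem Q6988 : ∀ i, i < 6988 → P i := stepQ 6987 Q6987 (allL N6987 (tt N5312 F11589) (tt N9099 (iv F15147)) (tt N7568 (iv F12532)) (tt N5956 F11590) (tt N8282 (iv F13751)) (tt N5308 (iv D6987)))
theorem Q6989 : ∀ i, i < 6989 → P i := stepQ 6988 Q6988 (allL N6988 (tt N8200 (iv F13604)) (tt N5312 F11591) (tt N8195 (iv F13594)) (tt N5961 F11592) (tt N5451 F11593) (tt N5309 (iv D6988)))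
theorem Q6990 : ∀ i, i < 6990 → P i := stepQ 6989 Q6989 (allL N6989 (tt N8417 (iv F13987)) (tt N5311 F11594) (tt N8191 (iv F13588)) (tt N9100 D9100) (tt N5310 (iv D6989)) (tt N9101 D9101))
theorem Q6991 : ∀ i, i < 6991 → P i := stepQ 6990 Q6990 (allL N6990 (tt N7397 (iv F12272)) (tt N9100 (iv F15149)) (tt N9102 D9102) (tt N5311 (iv D6990)) (tt N7395 (iv F12271)) (tt N9103 D9103))
theorem Q6992 : ∀ i, i < 6992 → P i := stepQ 6991 Q6991 (allL N6991 (tt N7568 (iv F12530)) (tt N9101 (iv F15150)) (tt N5312 F11595) (tt N9103 (iv F15151)) (tt N7678 (iv F12691)) (tt N5311 (iv D6991)))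
theorem Q6993 : ∀ i, i < 6993 → P i := stepQ 6992 Q6992 (allL N6992 (tt N9104 D9104) (tt N5313 (iv D6992)) (tt N5349 F11596) (tt N9105 D9105) (tt N9106 D9106) (tt N9107 D9107))
theorem Q6994 : ∀ i, i < 6994 → P i := stepQ 6993 Q6993 (allL N6993 (tt N5318 F11597) (tt N9105 (iv F15157)) (tt N5926 F11598) (tt N5313 (iv D6993)) (tt N9108 D9108) (tt N9008 (iv F14966)))
theorem Q6995 : ∀ i, i < 6995 → P i := stepQ 6994 Q6994 (allL N6994 (tt N5319 F11599) (tt N9106 (iv F15160)) (tt N5314 F11600) (tt N9109 D9109) (tt N5313 (iv D6994)) (tt N9110 D9110))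
theorem Q6996 : ∀ i, i < 6996 → P i := stepQ 6995 Q6995 (allL N6995 (tt N5320 F11601) (tt N9107 (iv F15163)) (tt N5315 F11602) (tt N9008 (iv F14965)) (tt N9111 D9111) (tt N5313 (iv D6995)))
theorem Q6997 : ∀ i, i < 6997 → P i := stepQ 6996 Q6996 (allL N6996 (tt N5321 F11603) (tt N5353 F11604) (tt N9110 (iv F15170)) (tt N5330 F11605) (tt N9112 D9112) (tt N5314 (iv D6996)))
theorem Q6998 : ∀ i, i < 6998 → P i := stepQ 6997 Q6997 (allL N6997 (tt N5322 F11606) (tt N5354 F11607) (tt N9111 (iv F15172)) (tt N9113 D9113) (tt N5315 (iv D6997)) (tt N9112 (iv F15176)))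
theorem Q6999 : ∀ i, i < 6999 → P i := stepQ 6998 Q6998 (allL N6998 (tt N5323 F11608) (tt N5355 F11609) (tt N9114 D9114) (tt N5316 (iv D6998)) (tt N9113 (iv F15179)) (tt N5331 F11610))
theorem Q7000 : ∀ i, i < 7000 → P i := stepQ 6999 Q6999 (allL N6999 (tt N5317 (iv D6999)) (tt N9104 (iv F15152)) (tt N5324 F11611) (tt N9115 D9115) (tt N9116 D9116) (tt N5341 F11612))
theorem Q7001 : ∀ i, i < 7001 → P i := stepQ 7000 Q7000 (allL N7000 (tt N9115 (iv F15184)) (tt N5318 F11613) (tt N9117 D9117) (tt N5317 (iv D7000)) (tt N9118 D9118) (tt N5344 F11614))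
theorem Q7002 : ∀ i, i < 7002 → P i := stepQ 7001 Q7001 (allL N7001 (tt N9116 (iv F15188)) (tt N5319 F11615) (tt N5325 F11616) (tt N9119 D9119) (tt N5317 (iv D7001)) (tt N9120 D9120))
theorem Q7003 : ∀ i, i < 7003 → P i := stepQ 7002 Q7002 (allL N7002 (tt N5926 F11617) (tt N9121 D9121) (tt N5318 (iv D7002)) (tt N5925 F11618) (tt N9122 D9122) (tt N9005 (iv F14956)))
theorem Q7004 : ∀ i, i < 7004 → P i := stepQ 7003 Q7003 (allL N7003 (tt N9108 (iv F15166)) (tt N9118 (iv F15194)) (tt N9122 (iv F15204)) (tt N9123 D9123) (tt N5318 (iv D7003)) (tt N9124 D9124))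
theorem Q7005 : ∀ i, i < 7005 → P i := stepQ 7004 Q7004 (allL N7004 (tt N9008 (iv F14963)) (tt N5344 F11619) (tt N9005 (iv F14955)) (tt N5320 F11620) (tt N9125 D9125) (tt N5318 (iv D7004)))
theorem Q7006 : ∀ i, i < 7006 → P i := stepQ 7005 Q7005 (allL N7005 (tt N9109 (iv F15168)) (tt N9119 (iv F15195)) (tt N9126 D9126) (tt N5319 (iv D7005)) (tt N9123 (iv F15205)) (tt N9127 D9127))
theorem Q7007 : ∀ i, i < 7007 → P i := stepQ 7006 Q7006 (allL N7006 (tt N9110 (iv F15169)) (tt N9120 (iv F15196)) (tt N5321 F11621) (tt N9127 (iv F15207)) (tt N9128 D9128) (tt N5319 (iv D7006)))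
theorem Q7008 : ∀ i, i < 7008 → P i := stepQ 7007 Q7007 (allL N7007 (tt N9111 (iv F15171)) (tt N5345 F11622) (tt N5322 F11623) (tt N9129 D9129) (tt N5320 (iv D7007)) (tt N9128 (iv F15210)))
theorem Q7009 : ∀ i, i < 7009 → P i := stepQ 7008 Q7008 (allL N7008 (tt N9112 (iv F15173)) (tt N5328 F11624) (tt N9128 (iv F15209)) (tt N5508 F11625) (tt N5321 (iv D7008)) (tt N5322 F11626))
theorem Q7010 : ∀ i, i < 7010 → P i := stepQ 7009 Q7009 (allL N7009 (tt N9113 (iv F15177)) (tt N5329 F11627) (tt N9130 D9130) (tt N5322 (iv D7009)) (tt N5323 F11628) (tt N5508 F11629))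
theorem Q7011 : ∀ i, i < 7011 → P i := stepQ 7010 Q7010 (allL N7010 (tt N9114 (iv F15181)) (tt N8209 (iv F13615)) (tt N5323 (iv D7010)) (tt N9131 D9131) (tt N9130 (iv F15212)) (tt N5332 F11630))
theorem Q7012 : ∀ i, i < 7012 → P i := stepQ 7011 Q7011 (allL N7011 (tt N5325 F11631) (tt N5368 F11632) (tt N9116 (iv F15189)) (tt N9132 D9132) (tt N5324 (iv D7011)) (tt N9133 D9133))
theorem Q7013 : ∀ i, i < 7013 → P i := stepQ 7012 Q7012 (allL N7012 (tt N9132 (iv F15216)) (tt N5326 F11633) (tt N9134 D9134) (tt N5325 (iv D7012)) (tt N5347 F11634) (tt N7888 (iv F13026)))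
theorem Q7014 : ∀ i, i < 7014 → P i := stepQ 7013 Q7013 (allL N7013 (tt N9133 (iv F15219)) (tt N5327 F11635) (tt N9120 (iv F15197)) (tt N7888 (iv F13025)) (tt N5346 F11636) (tt N5325 (iv D7013)))
theorem Q7015 : ∀ i, i < 7015 → P i := stepQ 7014 Q7014 (allL N7014 (tt N5332 F11637) (tt N9135 D9135) (tt N5331 (iv D7014)) (tt N9136 D9136) (tt N5503 F11638) (tt N9114 (iv F15183)))
theorem Q7016 : ∀ i, i < 7016 → P i := stepQ 7015 Q7015 (allL N7015 (tt N9137 D9137) (tt N5332 (iv D7015)) (tt N5333 F11639) (tt N9138 D9138) (tt N5505 F11640) (tt N8209 (iv F13616)))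
theorem Q7017 : ∀ i, i < 7017 → P i := stepQ 7016 Q7016 (allL N7016 (tt N9136 (iv F15226)) (tt N9138 (iv F15229)) (tt N9139 D9139) (tt N5332 (iv D7016)) (tt N9140 D9140) (tt N9131 (iv F15214)))
theorem Q7018 : ∀ i, i < 7018 → P i := stepQ 7017 Q7017 (allL N7017 (tt N5333 (iv D7017)) (tt N5397 F11641) (tt N9137 (iv F15227)) (tt N8190 (iv F13584)) (tt N5509 F11642) (tt N8208 (iv F13614)))
theorem Q7019 : ∀ i, i < 7019 → P i := stepQ 7018 Q7018 (allL N7018 (tt N5336 F11643) (tt N9141 D9141) (tt N5334 (iv D7018)) (tt N9117 (iv F15191)) (tt N9142 D9142) (tt N5483 F11644))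
theorem Q7020 : ∀ i, i < 7020 → P i := stepQ 7019 Q7019 (allL N7019 (tt N5337 F11645) (tt N5891 F11646) (tt N9142 (iv F15238)) (tt N7904 (iv F13065)) (tt N5334 (iv D7019)) (tt N9143 D9143))
theorem Q7021 : ∀ i, i < 7021 → P i := stepQ 7020 Q7020 (allL N7020 (tt N5338 F11647) (tt N5892 F11648) (tt N5343 F11649) (tt N9144 D9144) (tt N5335 (iv D7020)) (tt N7892 (iv F13038)))
theorem Q7022 : ∀ i, i < 7022 → P i := stepQ 7021 Q7021 (allL N7021 (tt N9117 (iv F15190)) (tt N5463 F11650) (tt N9115 (iv F15186)) (tt N5336 (iv D7021)) (tt N8760 (iv F14523)) (tt N5484 F11651))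
theorem Q7023 : ∀ i, i < 7023 → P i := stepQ 7022 Q7022 (allL N7022 (tt N9142 (iv F15237)) (tt N5486 F11652) (tt N5337 F11653) (tt N9145 D9145) (tt N5336 (iv D7022)) (tt N9146 D9146))
theorem Q7024 : ∀ i, i < 7024 → P i := stepQ 7023 Q7023 (allL N7023 (tt N9143 (iv F15239)) (tt N5339 F11654) (tt N9146 (iv F15247)) (tt N7906 (iv F13068)) (tt N5900 F11655) (tt N5337 (iv D7023)))
theorem Q7025 : ∀ i, i < 7025 → P i := stepQ 7024 Q7024 (allL N7024 (tt N9144 (iv F15242)) (tt N5340 F11656) (tt N9147 D9147) (tt N5338 (iv D7024)) (tt N5899 F11657) (tt N7893 (iv F13040)))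
theorem Q7026 : ∀ i, i < 7026 → P i := stepQ 7025 Q7025 (allL N7025 (tt N5897 F11658) (tt N9148 D9148) (tt N5340 (iv D7025)) (tt N7907 (iv F13070)) (tt N5901 F11659) (tt N7907 (iv F13071)))
theorem Q7027 : ∀ i, i < 7027 → P i := stepQ 7026 Q7026 (allL N7026 (tt N9107 (iv F15162)) (tt N5341 (iv D7026)) (tt N7953 (iv F13170)) (tt N9149 D9149) (tt N9150 D9150) (tt N9104 F15154))
theorem Q7028 : ∀ i, i < 7028 → P i := stepQ 7027 Q7027 (allL N7027 (tt N5344 F11660) (tt N9149 (iv F15252)) (tt N5484 F11661) (tt N5341 (iv D7027)) (tt N9151 D9151) (tt N9115 (iv F15187)))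
theorem Q7029 : ∀ i, i < 7029 → P i := stepQ 7028 Q7028 (allL N7028 (tt N5345 F11662) (tt N9150 (iv F15255)) (tt N5342 F11663) (tt N9152 D9152) (tt N5341 (iv D7028)) (tt N9153 D9153))
theorem Q7030 : ∀ i, i < 7030 → P i := stepQ 7029 Q7029 (allL N7029 (tt N5346 F11664) (tt N7956 (iv F13180)) (tt N9153 (iv F15260)) (tt N7883 F13017) (tt N9133 (iv F15221)) (tt N5342 (iv D7029)))
theorem Q7031 : ∀ i, i < 7031 → P i := stepQ 7030 Q7030 (allL N7030 (tt N5347 F11665) (tt N7957 (iv F13184)) (tt N9154 D9154) (tt N5343 (iv D7030)) (tt N9132 (iv F15218)) (tt N7881 F13011))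
theorem Q7032 : ∀ i, i < 7032 → P i := stepQ 7031 Q7031 (allL N7031 (tt N5484 F11666) (tt N9155 D9155) (tt N5344 (iv D7031)) (tt N5483 F11667) (tt N9156 D9156) (tt N9117 (iv F15192)))
theorem Q7033 : ∀ i, i < 7033 → P i := stepQ 7032 Q7032 (allL N7032 (tt N9151 (iv F15256)) (tt N9125 (iv F15206)) (tt N9156 (iv F15267)) (tt N9157 D9157) (tt N5344 (iv D7032)) (tt N9158 D9158))
theorem Q7034 : ∀ i, i < 7034 → P i := stepQ 7033 Q7033 (allL N7033 (tt N9152 (iv F15258)) (tt N9129 (iv F15211)) (tt N9159 D9159) (tt N5345 (iv D7033)) (tt N9157 (iv F15268)) (tt N9160 D9160))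
theorem Q7035 : ∀ i, i < 7035 → P i := stepQ 7034 Q7034 (allL N7034 (tt N9153 (iv F15259)) (tt N9128 (iv F15208)) (tt N5346 F11668) (tt N9160 (iv F15269)) (tt N9120 (iv F15198)) (tt N5345 (iv D7034)))
theorem Q7036 : ∀ i, i < 7036 → P i := stepQ 7035 Q7035 (allL N7035 (tt N9154 (iv F15261)) (tt N9161 D9161) (tt N5347 (iv D7035)) (tt N9162 D9162) (tt N9134 (iv F15222)) (tt N7886 F13021))
theorem Q7037 : ∀ i, i < 7037 → P i := stepQ 7036 Q7036 (allL N7036 (tt N9163 D9163) (tt N5348 (iv D7036)) (tt N9161 (iv F15270)) (tt N7952 (iv F13168)) (tt N8064 (iv F13377)) (tt N7890 F13030))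
theorem Q7038 : ∀ i, i < 7038 → P i := stepQ 7037 Q7037 (allL N7037 (tt N5349 (iv D7037)) (tt N5356 F11669) (tt N9104 (iv F15153)) (tt N9164 D9164) (tt N9165 D9165) (tt N7953 (iv F13171)))
theorem Q7039 : ∀ i, i < 7039 → P i := stepQ 7038 Q7038 (allL N7038 (tt N9164 (iv F15271)) (tt N5350 F11670) (tt N5909 (iv F11671)) (tt N5349 (iv D7038)) (tt N9166 D9166) (tt N5427 (iv F11672)))
theorem Q7040 : ∀ i, i < 7040 → P i := stepQ 7039 Q7039 (allL N7039 (tt N9165 (iv F15275)) (tt N5351 F11673) (tt N9106 (iv F15161)) (tt N9167 D9167) (tt N5349 (iv D7039)) (tt N9168 D9168))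
theorem Q7041 : ∀ i, i < 7041 → P i := stepQ 7040 Q7040 (allL N7040 (tt N7953 (iv F13169)) (tt N5352 F11674) (tt N9107 (iv F15164)) (tt N5427 F11675) (tt N9169 D9169) (tt N5349 (iv D7040)))
theorem Q7042 : ∀ i, i < 7042 → P i := stepQ 7041 Q7041 (allL N7041 (tt N5360 F11676) (tt N9166 (iv F15277)) (tt N5431 F11677) (tt N9170 D9170) (tt N5350 (iv D7041)) (tt N9171 D9171))
theorem Q7043 : ∀ i, i < 7043 → P i := stepQ 7042 Q7042 (allL N7042 (tt N5362 F11678) (tt N9167 (iv F15279)) (tt N9172 D9172) (tt N5351 (iv D7042)) (tt N9170 (iv F15283)) (tt N9173 D9173))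
theorem Q7044 : ∀ i, i < 7044 → P i := stepQ 7043 Q7043 (allL N7043 (tt N5363 F11679) (tt N9168 (iv F15280)) (tt N5353 F11680) (tt N9173 (iv F15292)) (tt N9174 D9174) (tt N5351 (iv D7043)))
theorem Q7045 : ∀ i, i < 7045 → P i := stepQ 7044 Q7044 (allL N7044 (tt N5364 F11681) (tt N9169 (iv F15281)) (tt N5354 F11682) (tt N9175 D9175) (tt N5352 (iv D7044)) (tt N9174 (iv F15295)))
theorem Q7046 : ∀ i, i < 7046 → P i := stepQ 7045 Q7045 (allL N7045 (tt N5365 F11683) (tt N9112 (iv F15174)) (tt N9174 (iv F15294)) (tt N9176 D9176) (tt N5353 (iv D7045)) (tt N5354 F11684))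
theorem Q7047 : ∀ i, i < 7047 → P i := stepQ 7046 Q7046 (allL N7046 (tt N5366 F11685) (tt N9113 (iv F15178)) (tt N5655 (iv F11687)) (tt N5354 (iv D7046)) (tt N5355 F11686) (tt N9176 (iv F15301)))
theorem Q7048 : ∀ i, i < 7048 → P i := stepQ 7047 Q7047 (allL N7047 (tt N5357 F11688) (tt N9164 (iv F15272)) (tt N7940 (iv F13154)) (tt N5356 (iv D7047)) (tt N9177 D9177) (tt N7954 (iv F13176)))
theorem Q7049 : ∀ i, i < 7049 → P i := stepQ 7048 Q7048 (allL N7048 (tt N5358 F11689) (tt N9165 (iv F15276)) (tt N5368 F11690) (tt N9178 D9178) (tt N5356 (iv D7048)) (tt N9179 D9179))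
theorem Q7050 : ∀ i, i < 7050 → P i := stepQ 7049 Q7049 (allL N7049 (tt N7940 (iv F13151)) (tt N9180 D9180) (tt N5357 (iv D7049)) (tt N7937 (iv F13143)) (tt N9181 D9181) (tt N7958 (iv F13190)))
theorem Q7051 : ∀ i, i < 7051 → P i := stepQ 7050 Q7050 (allL N7050 (tt N9177 (iv F15303)) (tt N5360 F11691) (tt N9181 (iv F15310)) (tt N9182 D9182) (tt N5357 (iv D7050)) (tt N9183 D9183))
theorem Q7052 : ∀ i, i < 7052 → P i := stepQ 7051 Q7051 (allL N7051 (tt N9178 (iv F15304)) (tt N5362 F11692) (tt N9184 D9184) (tt N5358 (iv D7051)) (tt N9182 (iv F15312)) (tt N9185 D9185))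
theorem Q7053 : ∀ i, i < 7053 → P i := stepQ 7052 Q7052 (allL N7052 (tt N9179 (iv F15305)) (tt N5363 F11693) (tt N5370 F11694) (tt N9185 (iv F15315)) (tt N7961 (iv F13195)) (tt N5358 (iv D7052)))
theorem Q7054 : ∀ i, i < 7054 → P i := stepQ 7053 Q7053 (allL N7053 (tt N5907 F11695) (tt N5359 (iv D7053)) (tt N9180 (iv F15308)) (tt N5421 F11696) (tt N9186 D9186) (tt N5419 F11697))
theorem Q7055 : ∀ i, i < 7055 → P i := stepQ 7054 Q7054 (allL N7054 (tt N5431 F11698) (tt N9186 (iv F15317)) (tt N5360 F11699) (tt N9031 (iv F15016)) (tt N5359 (iv D7054)) (tt N9187 D9187))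
theorem Q7056 : ∀ i, i < 7056 → P i := stepQ 7055 Q7055 (allL N7055 (tt N9170 (iv F15282)) (tt N9182 (iv F15311)) (tt N9188 D9188) (tt N5360 (iv D7055)) (tt N5362 F11700) (tt N9189 D9189))
theorem Q7057 : ∀ i, i < 7057 → P i := stepQ 7056 Q7056 (allL N7056 (tt N9171 (iv F15284)) (tt N9183 (iv F15313)) (tt N9187 (iv F15319)) (tt N9189 (iv F15322)) (tt N9190 D9190) (tt N5360 (iv D7056)))
theorem Q7058 : ∀ i, i < 7058 → P i := stepQ 7057 Q7057 (allL N7057 (tt N5428 F11701) (tt N7959 (iv F13191)) (tt N5422 F11702) (tt N9191 D9191) (tt N5361 (iv D7057)) (tt N9190 (iv F15325)))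
theorem Q7059 : ∀ i, i < 7059 → P i := stepQ 7058 Q7058 (allL N7058 (tt N9172 (iv F15287)) (tt N9192 D9192) (tt N5362 (iv D7058)) (tt N9193 D9193) (tt N9188 (iv F15321)) (tt N9194 D9194))
theorem Q7060 : ∀ i, i < 7060 → P i := stepQ 7059 Q7059 (allL N7059 (tt N9173 (iv F15290)) (tt N9185 (iv F15314)) (tt N9194 (iv F15332)) (tt N5363 F11703) (tt N9195 D9195) (tt N5362 (iv D7059)))
theorem Q7061 : ∀ i, i < 7061 → P i := stepQ 7060 Q7060 (allL N7060 (tt N9174 (iv F15293)) (tt N7961 (iv F13193)) (tt N5365 F11704) (tt N9196 D9196) (tt N5363 (iv D7060)) (tt N5364 F11705))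
theorem Q7062 : ∀ i, i < 7062 → P i := stepQ 7061 Q7061 (allL N7061 (tt N9175 (iv F15296)) (tt N7960 (iv F13192)) (tt N9197 D9197) (tt N5364 (iv D7061)) (tt N9191 (iv F15327)) (tt N9196 (iv F15334)))
theorem Q7063 : ∀ i, i < 7063 → P i := stepQ 7062 Q7062 (allL N7062 (tt N9176 (iv F15298)) (tt N5373 F11706) (tt N9198 D9198) (tt N5365 (iv D7062)) (tt N5390 F11707) (tt N5366 F11708))
theorem Q7064 : ∀ i, i < 7064 → P i := stepQ 7063 Q7063 (allL N7063 (tt N5655 F11709) (tt N9199 D9199) (tt N5366 (iv D7063)) (tt N9200 D9200) (tt N5367 F11710) (tt N9198 (iv F15337)))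
theorem Q7065 : ∀ i, i < 7065 → P i := stepQ 7064 Q7064 (allL N7064 (tt N9201 D9201) (tt N5367 (iv D7064)) (tt N5375 F11711) (tt N5638 F11712) (tt N9199 (iv F15339)) (tt N5392 F11713))
theorem Q7066 : ∀ i, i < 7066 → P i := stepQ 7065 Q7065 (allL N7065 (tt N5369 F11714) (tt N9132 (iv F15217)) (tt N9202 D9202) (tt N5368 (iv D7065)) (tt N7957 (iv F13185)) (tt N9203 D9203))
theorem Q7067 : ∀ i, i < 7067 → P i := stepQ 7066 Q7066 (allL N7066 (tt N5370 F11715) (tt N9133 (iv F15220)) (tt N9179 (iv F15306)) (tt N9203 (iv F15348)) (tt N7956 (iv F13182)) (tt N5368 (iv D7066)))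
theorem Q7068 : ∀ i, i < 7068 → P i := stepQ 7067 Q7067 (allL N7067 (tt N9202 (iv F15346)) (tt N9204 D9204) (tt N5369 (iv D7067)) (tt N9205 D9205) (tt N7962 (iv F13196)) (tt N9206 D9206))
theorem Q7069 : ∀ i, i < 7069 → P i := stepQ 7068 Q7068 (allL N7068 (tt N9203 (iv F15347)) (tt N5372 F11716) (tt N9206 (iv F15352)) (tt N5370 F11717) (tt N7845 (iv F12920)) (tt N5369 (iv D7068)))
theorem Q7070 : ∀ i, i < 7070 → P i := stepQ 7069 Q7069 (allL N7069 (tt N9207 D9207) (tt N5371 (iv D7069)) (tt N9204 (iv F15349)) (tt N5514 F11718) (tt N7963 (iv F13198)) (tt N5516 F11719))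
theorem Q7071 : ∀ i, i < 7071 → P i := stepQ 7070 Q7070 (allL N7070 (tt N9208 D9208) (tt N5374 (iv D7070)) (tt N9199 (iv F15338)) (tt N7861 (iv F12965)) (tt N5375 F11720) (tt N7868 (iv F12980)))
theorem Q7072 : ∀ i, i < 7072 → P i := stepQ 7071 Q7071 (allL N7071 (tt N5375 (iv D7071)) (tt N8208 (iv F13613)) (tt N9201 (iv F15343)) (tt N8109 F13442) (tt N9208 (iv F15355)) (tt N5397 F11721))
theorem Q7073 : ∀ i, i < 7073 → P i := stepQ 7072 Q7072 (allL N7072 (tt N5386 F11722) (tt N9209 D9209) (tt N5376 (iv D7072)) (tt N9194 (iv F15333)) (tt N5525 F11723) (tt N9193 (iv F15330)))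
theorem Q7074 : ∀ i, i < 7074 → P i := stepQ 7073 Q7073 (allL N7073 (tt N5387 F11724) (tt N8513 (iv F14151)) (tt N9193 (iv F15329)) (tt N5377 F11725) (tt N9210 D9210) (tt N5376 (iv D7073)))
theorem Q7075 : ∀ i, i < 7075 → P i := stepQ 7074 Q7074 (allL N7074 (tt N5390 F11726) (tt N5504 F11727) (tt N9211 D9211) (tt N5378 (iv D7074)) (tt N9176 (iv F15300)) (tt N5379 F11728))
theorem Q7076 : ∀ i, i < 7076 → P i := stepQ 7075 Q7075 (allL N7075 (tt N5391 F11729) (tt N9212 D9212) (tt N5379 (iv D7075)) (tt N9213 D9213) (tt N5380 F11730) (tt N9211 (iv F15361)))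
theorem Q7077 : ∀ i, i < 7077 → P i := stepQ 7076 Q7076 (allL N7076 (tt N9214 D9214) (tt N5380 (iv D7076)) (tt N9135 (iv F15223)) (tt N5654 F11731) (tt N9212 (iv F15363)) (tt N5653 F11732))
theorem Q7078 : ∀ i, i < 7078 → P i := stepQ 7077 Q7077 (allL N7077 (tt N7653 (iv F12656)) (tt N5384 F11733) (tt N9215 D9215) (tt N5381 (iv D7077)) (tt N5382 F11734) (tt N9216 D9216))
theorem Q7079 : ∀ i, i < 7079 → P i := stepQ 7078 Q7078 (allL N7078 (tt N7654 (iv F12659)) (tt N5385 F11735) (tt N8438 (iv F14022)) (tt N9216 (iv F15371)) (tt N5491 F11736) (tt N5381 (iv D7078)))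
theorem Q7080 : ∀ i, i < 7080 → P i := stepQ 7079 Q7079 (allL N7079 (tt N7655 (iv F12663)) (tt N9217 D9217) (tt N5382 (iv D7079)) (tt N9218 D9218) (tt N9215 (iv F15369)) (tt N9219 D9219))
theorem Q7081 : ∀ i, i < 7081 → P i := stepQ 7080 Q7080 (allL N7080 (tt N7656 (iv F12664)) (tt N5387 F11737) (tt N9219 (iv F15373)) (tt N5383 F11738) (tt N9220 D9220) (tt N5382 (iv D7080)))
theorem Q7082 : ∀ i, i < 7082 → P i := stepQ 7081 Q7081 (allL N7081 (tt N5525 F11739) (tt N9221 D9221) (tt N5384 (iv D7081)) (tt N5616 F11741) (tt N5386 F11740) (tt N5615 (iv F11742)))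
theorem Q7083 : ∀ i, i < 7083 → P i := stepQ 7082 Q7082 (allL N7082 (tt N5526 F11743) (tt N9216 (iv F15370)) (tt N5615 F11744) (tt N5385 F11745) (tt N9222 D9222) (tt N5384 (iv D7082)))
theorem Q7084 : ∀ i, i < 7084 → P i := stepQ 7083 Q7083 (allL N7083 (tt N9223 D9223) (tt N5386 (iv D7083)) (tt N9217 (iv F15372)) (tt N9224 D9224) (tt N9221 (iv F15377)) (tt N9225 D9225))
theorem Q7085 : ∀ i, i < 7085 → P i := stepQ 7084 Q7084 (allL N7084 (tt N9194 (iv F15331)) (tt N9224 (iv F15382)) (tt N9173 (iv F15291)) (tt N5386 (iv D7084)) (tt N9226 D9226) (tt N9172 F15289))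
theorem Q7086 : ∀ i, i < 7086 → P i := stepQ 7085 Q7085 (allL N7085 (tt N9193 (iv F15328)) (tt N9225 (iv F15383)) (tt N5387 F11746) (tt N9172 (iv F15288)) (tt N9227 D9227) (tt N5386 (iv D7085)))
theorem Q7087 : ∀ i, i < 7087 → P i := stepQ 7086 Q7086 (allL N7086 (tt N9210 (iv F15357)) (tt N9220 (iv F15374)) (tt N9227 (iv F15385)) (tt N9228 D9228) (tt N5387 (iv D7086)) (tt N9222 (iv F15381)))
theorem Q7088 : ∀ i, i < 7088 → P i := stepQ 7087 Q7087 (allL N7087 (tt N8504 (iv F14141)) (tt N5493 F11747) (tt N9229 D9229) (tt N5388 (iv D7087)) (tt N9228 (iv F15388)) (tt N5389 F11748))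
theorem Q7089 : ∀ i, i < 7089 → P i := stepQ 7088 Q7088 (allL N7088 (tt N8503 (iv F14139)) (tt N9230 D9230) (tt N5389 (iv D7088)) (tt N9231 D9231) (tt N8501 (iv F14135)) (tt N9229 (iv F15389)))
theorem Q7090 : ∀ i, i < 7090 → P i := stepQ 7089 Q7089 (allL N7089 (tt N9211 (iv F15359)) (tt N8230 (iv F13643)) (tt N5390 (iv D7089)) (tt N9232 D9232) (tt N9198 (iv F15336)) (tt N5391 F11749))
theorem Q7091 : ∀ i, i < 7091 → P i := stepQ 7090 Q7090 (allL N7090 (tt N9233 D9233) (tt N5391 (iv D7090)) (tt N5396 F11750) (tt N9234 D9234) (tt N5392 F11751) (tt N8230 (iv F13644)))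
theorem Q7092 : ∀ i, i < 7092 → P i := stepQ 7091 Q7091 (allL N7091 (tt N9213 (iv F15364)) (tt N9234 (iv F15394)) (tt N9235 D9235) (tt N5391 (iv D7091)) (tt N9236 D9236) (tt N9232 (iv F15391)))
theorem Q7093 : ∀ i, i < 7093 → P i := stepQ 7092 Q7092 (allL N7092 (tt N5392 (iv D7092)) (tt N9214 (iv F15366)) (tt N5397 F11752) (tt N9237 D9237) (tt N9233 (iv F15393)) (tt N9201 (iv F15345)))
theorem Q7094 : ∀ i, i < 7094 → P i := stepQ 7093 Q7093 (allL N7093 (tt N9237 (iv F15397)) (tt N5393 F11753) (tt N9238 D9238) (tt N5392 (iv D7093)) (tt N9239 D9239) (tt N5638 F11754))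
theorem Q7095 : ∀ i, i < 7095 → P i := stepQ 7094 Q7094 (allL N7094 (tt N5656 F11755) (tt N9239 (iv F15402)) (tt N5639 F11756) (tt N9236 (iv F15396)) (tt N5393 (iv D7094)) (tt N9240 D9240))
theorem Q7096 : ∀ i, i < 7096 → P i := stepQ 7095 Q7095 (allL N7095 (tt N7657 (iv F12666)) (tt N8070 (iv F13388)) (tt N9241 D9241) (tt N5394 (iv D7095)) (tt N9242 D9242) (tt N9243 D9243))
theorem Q7097 : ∀ i, i < 7097 → P i := stepQ 7096 Q7096 (allL N7096 (tt N7658 (iv F12667)) (tt N8071 (iv F13389)) (tt N5395 F11757) (tt N9243 (iv F15407)) (tt N8018 (iv F13275)) (tt N5394 (iv D7096)))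
theorem Q7098 : ∀ i, i < 7098 → P i := stepQ 7097 Q7097 (allL N7097 (tt N5396 (iv D7097)) (tt N5509 F11758) (tt N9233 (iv F15392)) (tt N8229 (iv F13642)) (tt N5397 F11759) (tt N8228 F13639))
theorem Q7099 : ∀ i, i < 7099 → P i := stepQ 7098 Q7098 (allL N7098 (tt N5398 F11760) (tt N8190 (iv F13583)) (tt N9244 D9244) (tt N5397 (iv D7098)) (tt N9245 D9245) (tt N8109 F13443))
theorem Q7100 : ∀ i, i < 7100 → P i := stepQ 7099 Q7099 (allL N7099 (tt N9244 (iv F15408)) (tt N8104 (iv F13430)) (tt N5398 (iv D7099)) (tt N9246 D9246) (tt N9247 D9247) (tt N8099 F13428))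
theorem Q7101 : ∀ i, i < 7101 → P i := stepQ 7100 Q7100 (allL N7100 (tt N9245 (iv F15409)) (tt N5399 F11761) (tt N9247 (iv F15410)) (tt N7867 (iv F12976)) (tt N5398 (iv D7100)) (tt N7860 (iv F12962)))
theorem Q7102 : ∀ i, i < 7102 → P i := stepQ 7101 Q7101 (allL N7101 (tt N5400 (iv D7101)) (tt N8469 (iv F14073)) (tt N5405 F11762) (tt N8160 (iv F13542)) (tt N8468 (iv F14072)) (tt N5890 F11763))
theorem Q7103 : ∀ i, i < 7103 → P i := stepQ 7102 Q7102 (allL N7102 (tt N8160 (iv F13541)) (tt N5401 F11764) (tt N8156 (iv F13535)) (tt N5400 (iv D7102)) (tt N9248 D9248) (tt N5893 F11765))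
theorem Q7104 : ∀ i, i < 7104 → P i := stepQ 7103 Q7103 (allL N7103 (tt N8472 (iv F14084)) (tt N9248 (iv F15411)) (tt N9077 (iv F15097)) (tt N7567 (iv F12529)) (tt N5401 (iv D7103)) (tt N9249 D9249))
theorem Q7105 : ∀ i, i < 7105 → P i := stepQ 7104 Q7104 (allL N7104 (tt N5415 F11766) (tt N5893 F11767) (tt N5413 F11768) (tt N5402 F11769) (tt N9250 D9250) (tt N5401 (iv D7104)))
theorem Q7106 : ∀ i, i < 7106 → P i := stepQ 7105 Q7105 (allL N7105 (tt N8473 (iv F14087)) (tt N5894 F11770) (tt N5403 F11771) (tt N9251 D9251) (tt N5402 (iv D7105)) (tt N7566 (iv F12526)))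
theorem Q7107 : ∀ i, i < 7107 → P i := stepQ 7106 Q7106 (allL N7106 (tt N5729 F11772) (tt N5410 F11773) (tt N9252 D9252) (tt N5403 (iv D7106)) (tt N5404 F11774) (tt N6580 F11775))
theorem Q7108 : ∀ i, i < 7108 → P i := stepQ 7107 Q7107 (allL N7107 (tt N5728 F11776) (tt N9253 D9253) (tt N5404 (iv D7107)) (tt N9254 D9254) (tt N9252 (iv F15417)) (tt N5575 F11777))
theorem Q7109 : ∀ i, i < 7109 → P i := stepQ 7108 Q7108 (allL N7108 (tt N5406 F11778) (tt N5898 F11779) (tt N8468 (iv F14071)) (tt N9255 D9255) (tt N5405 (iv D7108)) (tt N9256 D9256))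
theorem Q7110 : ∀ i, i < 7110 → P i := stepQ 7109 Q7109 (allL N7109 (tt N9255 (iv F15424)) (tt N5407 F11780) (tt N9257 D9257) (tt N5406 (iv D7109)) (tt N5896 F11781) (tt N9258 D9258))
theorem Q7111 : ∀ i, i < 7111 → P i := stepQ 7110 Q7110 (allL N7110 (tt N9256 (iv F15427)) (tt N5408 F11782) (tt N7564 F12520) (tt N9258 (iv F15432)) (tt N5895 F11783) (tt N5406 (iv D7110)))
theorem Q7112 : ∀ i, i < 7112 → P i := stepQ 7111 Q7111 (allL N7111 (tt N5901 F11784) (tt N9259 D9259) (tt N5407 (iv D7111)) (tt N5905 F11785) (tt N5897 F11786) (tt N5904 (iv F11787)))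
theorem Q7113 : ∀ i, i < 7113 → P i := stepQ 7112 Q7112 (allL N7112 (tt N5902 F11788) (tt N9258 (iv F15431)) (tt N5904 F11789) (tt N5408 F11790) (tt N9260 D9260) (tt N5407 (iv D7112)))
theorem Q7114 : ∀ i, i < 7114 → P i := stepQ 7113 Q7113 (allL N7113 (tt N5738 F11791) (tt N9261 D9261) (tt N5410 (iv D7113)) (tt N7748 (iv F12785)) (tt N5411 F11792) (tt N7749 (iv F12788)))
theorem Q7115 : ∀ i, i < 7115 → P i := stepQ 7114 Q7114 (allL N7114 (tt N9262 D9262) (tt N5411 (iv D7114)) (tt N9253 (iv F15419)) (tt N5731 F11793) (tt N9261 (iv F15440)) (tt N5731 F11794))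
theorem Q7116 : ∀ i, i < 7116 → P i := stepQ 7115 Q7115 (allL N7115 (tt N9030 (iv F15011)) (tt N5413 F11795) (tt N9263 D9263) (tt N5412 (iv D7115)) (tt N9264 D9264) (tt N9073 (iv F15090)))
theorem Q7117 : ∀ i, i < 7117 → P i := stepQ 7116 Q7116 (allL N7116 (tt N5416 F11796) (tt N9264 (iv F15445)) (tt N9250 (iv F15414)) (tt N5908 F11797) (tt N5413 (iv D7116)) (tt N9265 D9265))
theorem Q7118 : ∀ i, i < 7118 → P i := stepQ 7117 Q7117 (allL N7117 (tt N5417 F11798) (tt N9266 D9266) (tt N5414 (iv D7117)) (tt N9267 D9267) (tt N5663 F11799) (tt N5573 F11800))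
theorem Q7119 : ∀ i, i < 7119 → P i := stepQ 7118 Q7118 (allL N7118 (tt N9268 D9268) (tt N5415 (iv D7118)) (tt N9018 (iv F14986)) (tt N8471 (iv F14083)) (tt N9269 D9269) (tt N8470 F14079))
theorem Q7120 : ∀ i, i < 7120 → P i := stepQ 7119 Q7119 (allL N7119 (tt N9250 (iv F15412)) (tt N9269 (iv F15458)) (tt N5416 F11801) (tt N9270 D9270) (tt N5415 (iv D7119)) (tt N9271 D9271))
theorem Q7121 : ∀ i, i < 7121 → P i := stepQ 7120 Q7120 (allL N7120 (tt N9265 (iv F15447)) (tt N9083 (iv F15106)) (tt N9271 (iv F15459)) (tt N5911 F11802) (tt N9078 (iv F15101)) (tt N5416 (iv D7120)))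
theorem Q7122 : ∀ i, i < 7122 → P i := stepQ 7121 Q7121 (allL N7121 (tt N9267 (iv F15453)) (tt N5571 F11803) (tt N5727 F11805) (tt N5417 (iv D7121)) (tt N9272 D9272) (tt N5576 F11804))
theorem Q7123 : ∀ i, i < 7123 → P i := stepQ 7122 Q7122 (allL N7122 (tt N5420 F11806) (tt N5424 F11807) (tt N5640 F11808) (tt N9273 D9273) (tt N5418 (iv D7122)) (tt N5640 F11809))
theorem Q7124 : ∀ i, i < 7124 → P i := stepQ 7123 Q7123 (allL N7123 (tt N5959 F11810) (tt N7958 (iv F13188)) (tt N5419 (iv D7123)) (tt N8165 (iv F13546)) (tt N9274 D9274) (tt N9180 (iv F15309)))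
theorem Q7125 : ∀ i, i < 7125 → P i := stepQ 7124 Q7124 (allL N7124 (tt N5962 F11811) (tt N5422 F11812) (tt N9274 (iv F15468)) (tt N9275 D9275) (tt N5419 (iv D7124)) (tt N9276 D9276))
theorem Q7126 : ∀ i, i < 7126 → P i := stepQ 7125 Q7125 (allL N7125 (tt N9273 (iv F15463)) (tt N5423 F11813) (tt N9277 D9277) (tt N5420 (iv D7125)) (tt N9275 (iv F15471)) (tt N5641 F11814))
theorem Q7127 : ∀ i, i < 7127 → P i := stepQ 7126 Q7126 (allL N7126 (tt N5429 F11815) (tt N9275 (iv F15470)) (tt N5625 (iv F11817)) (tt N5422 (iv D7126)) (tt N5423 F11816) (tt N9278 D9278))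
theorem Q7128 : ∀ i, i < 7128 → P i := stepQ 7127 Q7127 (allL N7127 (tt N5430 F11818) (tt N9276 (iv F15473)) (tt N9190 (iv F15324)) (tt N9278 (iv F15478)) (tt N9187 (iv F15320)) (tt N5422 (iv D7127)))
theorem Q7129 : ∀ i, i < 7129 → P i := stepQ 7128 Q7128 (allL N7128 (tt N5426 F11819) (tt N9273 (iv F15464)) (tt N9279 D9279) (tt N5424 (iv D7128)) (tt N5963 F11820) (tt N5657 F11821))
theorem Q7130 : ∀ i, i < 7130 → P i := stepQ 7129 Q7129 (allL N7129 (tt N5963 F11822) (tt N5429 F11823) (tt N9280 D9280) (tt N5425 (iv D7129)) (tt N5426 F11824) (tt N9281 D9281))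
theorem Q7131 : ∀ i, i < 7131 → P i := stepQ 7130 Q7130 (allL N7130 (tt N5964 F11825) (tt N5430 F11826) (tt N5956 F11827) (tt N9281 (iv F15488)) (tt N5911 F11828) (tt N5425 (iv D7130)))
theorem Q7132 : ∀ i, i < 7132 → P i := stepQ 7131 Q7131 (allL N7131 (tt N9279 (iv F15480)) (tt N9282 D9282) (tt N5426 (iv D7131)) (tt N9283 D9283) (tt N9280 (iv F15485)) (tt N5658 F11829))
theorem Q7133 : ∀ i, i < 7133 → P i := stepQ 7132 Q7132 (allL N7132 (tt N5427 (iv D7132)) (tt N7954 (iv F13174)) (tt N5953 F11830) (tt N7953 F13172) (tt N9284 D9284) (tt N9164 (iv F15274)))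
theorem Q7134 : ∀ i, i < 7134 → P i := stepQ 7133 Q7133 (allL N7133 (tt N9284 (iv F15495)) (tt N5428 F11831) (tt N5954 F11832) (tt N9285 D9285) (tt N5427 (iv D7133)) (tt N9286 D9286))
theorem Q7135 : ∀ i, i < 7135 → P i := stepQ 7134 Q7134 (allL N7134 (tt N9191 (iv F15326)) (tt N9285 (iv F15497)) (tt N9287 D9287) (tt N5428 (iv D7134)) (tt N9175 (iv F15297)) (tt N9288 D9288))
theorem Q7136 : ∀ i, i < 7136 → P i := stepQ 7135 Q7135 (allL N7135 (tt N9190 (iv F15323)) (tt N9286 (iv F15498)) (tt N5430 F11833) (tt N9288 (iv F15500)) (tt N9171 (iv F15286)) (tt N5428 (iv D7135)))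
theorem Q7137 : ∀ i, i < 7137 → P i := stepQ 7136 Q7136 (allL N7136 (tt N5625 F11834) (tt N9289 D9289) (tt N5429 (iv D7136)) (tt N9290 D9290) (tt N5432 F11835) (tt N9291 D9291))
theorem Q7138 : ∀ i, i < 7138 → P i := stepQ 7137 Q7137 (allL N7137 (tt N9278 (iv F15476)) (tt N9281 (iv F15487)) (tt N9291 (iv F15505)) (tt N5430 F11836) (tt N5662 F11837) (tt N5429 (iv D7137)))
theorem Q7139 : ∀ i, i < 7139 → P i := stepQ 7138 Q7138 (allL N7138 (tt N9187 (iv F15318)) (tt N5911 F11838) (tt N9171 (iv F15285)) (tt N9083 (iv F15107)) (tt N5430 (iv D7138)) (tt N5431 F11839))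
theorem Q7140 : ∀ i, i < 7140 → P i := stepQ 7139 Q7139 (allL N7139 (tt N9292 D9292) (tt N5432 (iv D7139)) (tt N9282 (iv F15490)) (tt N5603 F11840) (tt N9289 (iv F15501)) (tt N5660 F11841))
theorem Q7141 : ∀ i, i < 7141 → P i := stepQ 7140 Q7140 (allL N7140 (tt N5434 F11842) (tt N9293 D9293) (tt N5433 (iv D7140)) (tt N9294 D9294) (tt N5566 F11843) (tt N5663 F11844))
theorem Q7142 : ∀ i, i < 7142 → P i := stepQ 7141 Q7141 (allL N7141 (tt N9294 (iv F15515)) (tt N5529 F11845) (tt N9295 D9295) (tt N5434 (iv D7141)) (tt N9296 D9296) (tt N5664 F11846))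
theorem Q7143 : ∀ i, i < 7143 → P i := stepQ 7142 Q7142 (allL N7142 (tt N5909 F11847) (tt N5436 F11848) (tt N9164 (iv F15273)) (tt N5435 (iv D7142)) (tt N9297 D9297) (tt N5953 F11849))
theorem Q7144 : ∀ i, i < 7144 → P i := stepQ 7143 Q7143 (allL N7143 (tt N5955 F11850) (tt N5437 F11851) (tt N5945 F11852) (tt N9298 D9298) (tt N5435 (iv D7143)) (tt N5445 F11853))
theorem Q7145 : ∀ i, i < 7145 → P i := stepQ 7144 Q7144 (allL N7144 (tt N5439 F11854) (tt N9297 (iv F15528)) (tt N8180 (iv F13574)) (tt N9299 D9299) (tt N5436 (iv D7144)) (tt N9300 D9300))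
theorem Q7146 : ∀ i, i < 7146 → P i := stepQ 7145 Q7145 (allL N7145 (tt N5440 F11855) (tt N9298 (iv F15530)) (tt N9301 D9301) (tt N5437 (iv D7145)) (tt N9299 (iv F15533)) (tt N5447 F11856))
theorem Q7147 : ∀ i, i < 7147 → P i := stepQ 7146 Q7146 (allL N7146 (tt N9180 (iv F15307)) (tt N5438 (iv D7146)) (tt N5907 F11857) (tt N8167 (iv F13549)) (tt N9302 D9302) (tt N5959 F11858))
theorem Q7148 : ∀ i, i < 7148 → P i := stepQ 7147 Q7147 (allL N7147 (tt N8180 (iv F13573)) (tt N9302 (iv F15539)) (tt N5439 F11859) (tt N9303 D9303) (tt N5438 (iv D7147)) (tt N9304 D9304))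
theorem Q7149 : ∀ i, i < 7149 → P i := stepQ 7148 Q7148 (allL N7148 (tt N9299 (iv F15532)) (tt N5966 F11860) (tt N9305 D9305) (tt N5439 (iv D7148)) (tt N5440 F11861) (tt N9306 D9306))
theorem Q7150 : ∀ i, i < 7150 → P i := stepQ 7149 Q7149 (allL N7149 (tt N9300 (iv F15534)) (tt N5965 F11862) (tt N9304 (iv F15541)) (tt N9306 (iv F15545)) (tt N5961 F11863) (tt N5439 (iv D7149)))
theorem Q7151 : ∀ i, i < 7151 → P i := stepQ 7150 Q7150 (allL N7150 (tt N9301 (iv F15536)) (tt N9307 D9307) (tt N5440 (iv D7150)) (tt N9301 (iv F15537)) (tt N9305 (iv F15543)) (tt N5452 F11864))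
theorem Q7152 : ∀ i, i < 7152 → P i := stepQ 7151 Q7151 (allL N7151 (tt N9308 D9308) (tt N5441 (iv D7151)) (tt N8483 (iv F14103)) (tt N5660 F11865) (tt N8530 (iv F14172)) (tt N5603 F11866))
theorem Q7153 : ∀ i, i < 7153 → P i := stepQ 7152 Q7152 (allL N7152 (tt N5442 (iv D7152)) (tt N9308 (iv F15549)) (tt N5527 F11867) (tt N9309 D9309) (tt N8392 (iv F13936)) (tt N5623 F11868))
theorem Q7154 : ∀ i, i < 7154 → P i := stepQ 7153 Q7153 (allL N7153 (tt N9309 (iv F15553)) (tt N5443 F11869) (tt N9310 D9310) (tt N5442 (iv D7153)) (tt N9311 D9311) (tt N5624 F11870))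
theorem Q7155 : ∀ i, i < 7155 → P i := stepQ 7154 Q7154 (allL N7154 (tt N5661 F11871) (tt N9311 (iv F15558)) (tt N5642 F11872) (tt N8533 (iv F14176)) (tt N5443 (iv D7154)) (tt N9312 D9312))
theorem Q7156 : ∀ i, i < 7156 → P i := stepQ 7155 Q7155 (allL N7155 (tt N8280 (iv F13744)) (tt N5446 F11873) (tt N8042 (iv F13327)) (tt N9313 D9313) (tt N5444 (iv D7155)) (tt N9314 D9314))
theorem Q7157 : ∀ i, i < 7157 → P i := stepQ 7156 Q7156 (allL N7156 (tt N9093 (iv F15132)) (tt N5447 F11874) (tt N9315 D9315) (tt N5445 (iv D7156)) (tt N9313 (iv F15563)) (tt N9298 (iv F15531)))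
theorem Q7158 : ∀ i, i < 7158 → P i := stepQ 7157 Q7157 (allL N7157 (tt N5450 F11875) (tt N9313 (iv F15562)) (tt N9316 D9316) (tt N5446 (iv D7157)) (tt N5447 F11876) (tt N9317 D9317))
theorem Q7159 : ∀ i, i < 7159 → P i := stepQ 7158 Q7158 (allL N7158 (tt N5451 F11877) (tt N9314 (iv F15564)) (tt N8041 (iv F13323)) (tt N9317 (iv F15568)) (tt N8200 (iv F13607)) (tt N5446 (iv D7158)))
theorem Q7160 : ∀ i, i < 7160 → P i := stepQ 7159 Q7159 (allL N7159 (tt N5452 F11878) (tt N9318 D9318) (tt N5447 (iv D7159)) (tt N5452 F11879) (tt N9316 (iv F15566)) (tt N9301 (iv F15538)))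
theorem Q7161 : ∀ i, i < 7161 → P i := stepQ 7160 Q7160 (allL N7160 (tt N8029 (iv F13296)) (tt N5449 F11880) (tt N7677 (iv F12688)) (tt N9319 D9319) (tt N5448 (iv D7160)) (tt N9320 D9320))
theorem Q7162 : ∀ i, i < 7162 → P i := stepQ 7161 Q7161 (allL N7161 (tt N8036 (iv F13312)) (tt N9319 (iv F15570)) (tt N9321 D9321) (tt N5449 (iv D7161)) (tt N8033 (iv F13308)) (tt N9322 D9322))
theorem Q7163 : ∀ i, i < 7163 → P i := stepQ 7162 Q7162 (allL N7162 (tt N8041 (iv F13321)) (tt N9320 (iv F15571)) (tt N5451 F11881) (tt N9322 (iv F15572)) (tt N8195 (iv F13595)) (tt N5449 (iv D7162)))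
theorem Q7164 : ∀ i, i < 7164 → P i := stepQ 7163 Q7163 (allL N7163 (tt N9316 (iv F15565)) (tt N9323 D9323) (tt N5450 (iv D7163)) (tt N9324 D9324) (tt N5452 F11882) (tt N9325 D9325))
theorem Q7165 : ∀ i, i < 7165 → P i := stepQ 7164 Q7164 (allL N7164 (tt N9317 (iv F15567)) (tt N9096 (iv F15139)) (tt N9325 (iv F15574)) (tt N5451 F11883) (tt N9306 (iv F15546)) (tt N5450 (iv D7164)))
theorem Q7166 : ∀ i, i < 7166 → P i := stepQ 7165 Q7165 (allL N7165 (tt N9326 D9326) (tt N5452 (iv D7165)) (tt N9097 (iv F15142)) (tt N9318 (iv F15569)) (tt N9323 (iv F15573)) (tt N9307 (iv F15548)))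
theorem Q7167 : ∀ i, i < 7167 → P i := stepQ 7166 Q7166 (allL N7166 (tt N9084 (iv F15109)) (tt N5454 F11884) (tt N9327 D9327) (tt N5453 (iv D7166)) (tt N5521 F11885) (tt N9328 D9328))
theorem Q7168 : ∀ i, i < 7168 → P i := stepQ 7167 Q7167 (allL N7167 (tt N5945 F11886) (tt N5455 F11887) (tt N5955 F11888) (tt N9328 (iv F15578)) (tt N5462 F11889) (tt N5453 (iv D7167)))
theorem Q7169 : ∀ i, i < 7169 → P i := stepQ 7168 Q7168 (allL N7168 (tt N5458 F11890) (tt N9329 D9329) (tt N5454 (iv D7168)) (tt N5693 F11892) (tt N5523 F11891) (tt N5692 (iv F11893)))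
theorem Q7170 : ∀ i, i < 7170 → P i := stepQ 7169 Q7169 (allL N7169 (tt N5459 F11894) (tt N9328 (iv F15577)) (tt N5692 F11895) (tt N5455 F11896) (tt N9330 D9330) (tt N5454 (iv D7169)))
theorem Q7171 : ∀ i, i < 7171 → P i := stepQ 7170 Q7170 (allL N7170 (tt N5523 F11897) (tt N9331 D9331) (tt N5456 (iv D7170)) (tt N5831 F11899) (tt N5458 F11898) (tt N5830 (iv F11900)))
theorem Q7172 : ∀ i, i < 7172 → P i := stepQ 7171 Q7171 (allL N7171 (tt N5524 F11901) (tt N9091 (iv F15127)) (tt N5830 F11902) (tt N5457 F11903) (tt N9332 D9332) (tt N5456 (iv D7171)))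
theorem Q7173 : ∀ i, i < 7173 → P i := stepQ 7172 Q7172 (allL N7172 (tt N9333 D9333) (tt N5458 (iv D7172)) (tt N9092 (iv F15130)) (tt N9334 D9334) (tt N9331 (iv F15587)) (tt N9335 D9335))
theorem Q7174 : ∀ i, i < 7174 → P i := stepQ 7173 Q7173 (allL N7173 (tt N5693 F11904) (tt N9334 (iv F15594)) (tt N5688 F11905) (tt N5458 (iv D7173)) (tt N9336 D9336) (tt N5687 F11906))
theorem Q7175 : ∀ i, i < 7175 → P i := stepQ 7174 Q7174 (allL N7174 (tt N5692 F11907) (tt N9335 (iv F15596)) (tt N5459 F11908) (tt N5687 F11909) (tt N9337 D9337) (tt N5458 (iv D7174)))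
theorem Q7176 : ∀ i, i < 7176 → P i := stepQ 7175 Q7175 (allL N7175 (tt N9330 (iv F15582)) (tt N5950 F11910) (tt N9337 (iv F15604)) (tt N5476 F11911) (tt N5459 (iv D7175)) (tt N9332 (iv F15593)))
theorem Q7177 : ∀ i, i < 7177 → P i := stepQ 7176 Q7176 (allL N7176 (tt N5461 F11912) (tt N5466 F11913) (tt N9105 (iv F15158)) (tt N5460 (iv D7176)) (tt N8756 (iv F14515)) (tt N5944 F11914))
theorem Q7178 : ∀ i, i < 7178 → P i := stepQ 7177 Q7177 (allL N7177 (tt N9105 (iv F15156)) (tt N9115 (iv F15185)) (tt N5461 (iv D7177)) (tt N9104 (iv F15155)) (tt N8758 (iv F14520)) (tt N9149 (iv F15254)))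
theorem Q7179 : ∀ i, i < 7179 → P i := stepQ 7178 Q7178 (allL N7178 (tt N5944 F11915) (tt N5464 F11916) (tt N9149 (iv F15253)) (tt N5462 F11917) (tt N9338 D9338) (tt N5461 (iv D7178)))
theorem Q7180 : ∀ i, i < 7180 → P i := stepQ 7179 Q7179 (allL N7179 (tt N5476 F11918) (tt N9338 (iv F15608)) (tt N5485 F11919) (tt N9330 (iv F15584)) (tt N5464 (iv D7179)) (tt N8763 (iv F14535)))
theorem Q7181 : ∀ i, i < 7181 → P i := stepQ 7180 Q7180 (allL N7180 (tt N5468 F11920) (tt N8756 (iv F14514)) (tt N5928 (iv F11922)) (tt N5465 (iv D7180)) (tt N5466 F11921) (tt N9339 D9339))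
theorem Q7182 : ∀ i, i < 7182 → P i := stepQ 7181 Q7181 (allL N7181 (tt N5469 F11923) (tt N8757 (iv F14517)) (tt N9070 (iv F15086)) (tt N9339 (iv F15611)) (tt N9086 (iv F15118)) (tt N5465 (iv D7181)))
theorem Q7183 : ∀ i, i < 7183 → P i := stepQ 7182 Q7182 (allL N7182 (tt N9069 (iv F15081)) (tt N6877 F11924) (tt N9340 D9340) (tt N5467 (iv D7182)) (tt N9067 (iv F15078)) (tt N9341 D9341))
theorem Q7184 : ∀ i, i < 7184 → P i := stepQ 7183 Q7183 (allL N7183 (tt N9070 (iv F15084)) (tt N6878 F11925) (tt N5469 F11926) (tt N9341 (iv F15614)) (tt N9089 (iv F15125)) (tt N5467 (iv D7183)))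
theorem Q7185 : ∀ i, i < 7185 → P i := stepQ 7184 Q7184 (allL N7184 (tt N5928 F11927) (tt N9342 D9342) (tt N5468 (iv D7184)) (tt N9343 D9343) (tt N5470 F11928) (tt N9344 D9344))
theorem Q7186 : ∀ i, i < 7186 → P i := stepQ 7185 Q7185 (allL N7185 (tt N9339 (iv F15609)) (tt N5472 F11929) (tt N9344 (iv F15620)) (tt N5469 F11930) (tt N5951 F11931) (tt N5468 (iv D7185)))
theorem Q7187 : ∀ i, i < 7187 → P i := stepQ 7186 Q7186 (allL N7186 (tt N9121 (iv F15199)) (tt N5470 (iv D7186)) (tt N5473 F11932) (tt N5919 F11933) (tt N9342 (iv F15616)) (tt N5948 F11934))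
theorem Q7188 : ∀ i, i < 7188 → P i := stepQ 7187 Q7187 (allL N7187 (tt N9345 D9345) (tt N5471 (iv D7187)) (tt N9342 (iv F15615)) (tt N8776 (iv F14564)) (tt N5473 F11935) (tt N8775 F14562))
theorem Q7189 : ∀ i, i < 7189 → P i := stepQ 7188 Q7188 (allL N7188 (tt N8763 (iv F14532)) (tt N5951 F11936) (tt N8777 (iv F14566)) (tt N9332 (iv F15592)) (tt N5472 (iv D7188)) (tt N5476 F11937))
theorem Q7190 : ∀ i, i < 7190 → P i := stepQ 7189 Q7189 (allL N7189 (tt N5473 (iv D7189)) (tt N9117 F15193) (tt N9121 (iv F15200)) (tt N9141 (iv F15235)) (tt N9345 (iv F15622)) (tt N9155 (iv F15265)))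
theorem Q7191 : ∀ i, i < 7191 → P i := stepQ 7190 Q7190 (allL N7190 (tt N9141 (iv F15233)) (tt N5474 F11938) (tt N8471 (iv F14082)) (tt N5473 (iv D7190)) (tt N9346 D9346) (tt N5477 (iv F11939)))
theorem Q7192 : ∀ i, i < 7192 → P i := stepQ 7191 Q7191 (allL N7191 (tt N9155 (iv F15262)) (tt N5475 F11940) (tt N5948 F11941) (tt N5477 F11942) (tt N9347 D9347) (tt N5473 (iv D7191)))
theorem Q7193 : ∀ i, i < 7193 → P i := stepQ 7192 Q7192 (allL N7192 (tt N5486 F11943) (tt N9346 (iv F15623)) (tt N5478 F11944) (tt N8778 (iv F14571)) (tt N5474 (iv D7192)) (tt N5864 F11945))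
theorem Q7194 : ∀ i, i < 7194 → P i := stepQ 7193 Q7193 (allL N7193 (tt N5485 F11946) (tt N9347 (iv F15625)) (tt N5476 F11947) (tt N5863 F11948) (tt N5475 (iv D7193)) (tt N8777 (iv F14568)))
theorem Q7195 : ∀ i, i < 7195 → P i := stepQ 7194 Q7194 (allL N7194 (tt N5477 (iv D7194)) (tt N5483 F11949) (tt N8469 (iv F14074)) (tt N9155 (iv F15264)) (tt N5860 F11950) (tt N9141 (iv F15236)))
theorem Q7196 : ∀ i, i < 7196 → P i := stepQ 7195 Q7195 (allL N7195 (tt N5479 (iv D7195)) (tt N5860 F11951) (tt N5898 F11952) (tt N9348 D9348) (tt N5483 F11953) (tt N9349 D9349))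
theorem Q7197 : ∀ i, i < 7197 → P i := stepQ 7196 Q7196 (allL N7196 (tt N9348 (iv F15628)) (tt N5480 F11954) (tt N9350 D9350) (tt N5479 (iv D7196)) (tt N9351 D9351) (tt N5870 (iv F11955)))
theorem Q7198 : ∀ i, i < 7198 → P i := stepQ 7197 Q7197 (allL N7197 (tt N9349 (iv F15631)) (tt N5481 F11956) (tt N5900 F11957) (tt N5870 F11958) (tt N9146 (iv F15248)) (tt N5479 (iv D7197)))
theorem Q7199 : ∀ i, i < 7199 → P i := stepQ 7198 Q7198 (allL N7198 (tt N5863 F11959) (tt N9351 (iv F15637)) (tt N5873 F11960) (tt N5485 F11961) (tt N5480 (iv D7198)) (tt N8996 (iv F14929)))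
theorem Q7200 : ∀ i, i < 7200 → P i := stepQ 7199 Q7199 (allL N7199 (tt N5864 F11962) (tt N9146 (iv F15246)) (tt N5482 F11963) (tt N8997 (iv F14932)) (tt N5481 (iv D7199)) (tt N5486 F11964))
theorem Q7201 : ∀ i, i < 7201 → P i := stepQ 7200 Q7200 (allL N7200 (tt N9156 (iv F15266)) (tt N5485 F11965) (tt N9151 (iv F15257)) (tt N9351 (iv F15638)) (tt N5484 (iv D7200)) (tt N9352 D9352))
theorem Q7202 : ∀ i, i < 7202 → P i := stepQ 7201 Q7201 (allL N7201 (tt N8777 (iv F14565)) (tt N9352 (iv F15639)) (tt N8763 (iv F14533)) (tt N8996 (iv F14928)) (tt N8762 (iv F14531)) (tt N5485 (iv D7201)))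
theorem Q7203 : ∀ i, i < 7203 → P i := stepQ 7202 Q7202 (allL N7202 (tt N8778 (iv F14569)) (tt N9145 (iv F15245)) (tt N8769 (iv F14545)) (tt N5486 (iv D7202)) (tt N8761 (iv F14526)) (tt N8997 (iv F14933)))
theorem Q7204 : ∀ i, i < 7204 → P i := stepQ 7203 Q7203 (allL N7203 (tt N5492 F11966) (tt N9353 D9353) (tt N5487 (iv D7203)) (tt N8153 (iv F13533)) (tt N8492 (iv F14119)) (tt N8152 (iv F13530)))
theorem Q7205 : ∀ i, i < 7205 → P i := stepQ 7204 Q7204 (allL N7204 (tt N5493 F11967) (tt N7504 (iv F12417)) (tt N8152 (iv F13529)) (tt N5488 F11968) (tt N9354 D9354) (tt N5487 (iv D7204)))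
theorem Q7206 : ∀ i, i < 7206 → P i := stepQ 7205 Q7205 (allL N7205 (tt N8312 (iv F13813)) (tt N8406 (iv F13969)) (tt N9355 D9355) (tt N5489 (iv D7205)) (tt N5823 F11969) (tt N9356 D9356))
theorem Q7207 : ∀ i, i < 7207 → P i := stepQ 7206 Q7206 (allL N7206 (tt N8313 (iv F13816)) (tt N8389 (iv F13929)) (tt N5491 F11970) (tt N9356 (iv F15642)) (tt N8438 (iv F14023)) (tt N5489 (iv D7206)))
theorem Q7208 : ∀ i, i < 7208 → P i := stepQ 7207 Q7207 (allL N7207 (tt N8492 (iv F14118)) (tt N9357 D9357) (tt N5490 (iv D7207)) (tt N9358 D9358) (tt N5492 F11971) (tt N9359 D9359))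
theorem Q7209 : ∀ i, i < 7209 → P i := stepQ 7208 Q7208 (allL N7208 (tt N8493 (iv F14120)) (tt N8502 (iv F14137)) (tt N9359 (iv F15644)) (tt N5491 F11972) (tt N9360 D9360) (tt N5490 (iv D7208)))
theorem Q7210 : ∀ i, i < 7210 → P i := stepQ 7209 Q7209 (allL N7209 (tt N9361 D9361) (tt N5492 (iv D7209)) (tt N9230 (iv F15390)) (tt N9362 D9362) (tt N9357 (iv F15643)) (tt N9363 D9363))
theorem Q7211 : ∀ i, i < 7211 → P i := stepQ 7210 Q7210 (allL N7210 (tt N8153 (iv F13531)) (tt N9362 (iv F15646)) (tt N8148 (iv F13524)) (tt N5492 (iv D7210)) (tt N9364 D9364) (tt N8147 F13522))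
theorem Q7212 : ∀ i, i < 7212 → P i := stepQ 7211 Q7211 (allL N7211 (tt N8152 (iv F13528)) (tt N9363 (iv F15647)) (tt N5493 F11973) (tt N8147 (iv F13521)) (tt N9365 D9365) (tt N5492 (iv D7211)))
theorem Q7213 : ∀ i, i < 7213 → P i := stepQ 7212 Q7212 (allL N7212 (tt N9354 (iv F15640)) (tt N9228 (iv F15387)) (tt N9365 (iv F15648)) (tt N9220 (iv F15375)) (tt N5493 (iv D7212)) (tt N9360 (iv F15645)))
theorem Q7214 : ∀ i, i < 7214 → P i := stepQ 7213 Q7213 (allL N7213 (tt N7659 (iv F12669)) (tt N8069 (iv F13386)) (tt N8663 (iv F14346)) (tt N9242 (iv F15406)) (tt N5494 (iv D7213)) (tt N9366 D9366))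
theorem Q7215 : ∀ i, i < 7215 → P i := stepQ 7214 Q7214 (allL N7214 (tt N5497 F11974) (tt N9367 D9367) (tt N5495 (iv D7214)) (tt N9368 D9368) (tt N7491 (iv F12390)) (tt N9369 D9369))
theorem Q7216 : ∀ i, i < 7216 → P i := stepQ 7215 Q7215 (allL N7215 (tt N5498 F11975) (tt N7499 (iv F12408)) (tt N9369 (iv F15653)) (tt N5496 F11976) (tt N9370 D9370) (tt N5495 (iv D7215)))
theorem Q7217 : ∀ i, i < 7217 → P i := stepQ 7216 Q7216 (allL N7216 (tt N9371 D9371) (tt N5497 (iv D7216)) (tt N5499 F11977) (tt N9372 D9372) (tt N7493 (iv F12395)) (tt N9373 D9373))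
theorem Q7218 : ∀ i, i < 7218 → P i := stepQ 7217 Q7217 (allL N7217 (tt N9368 (iv F15649)) (tt N9372 (iv F15657)) (tt N9374 D9374) (tt N5497 (iv D7217)) (tt N9375 D9375) (tt N9376 D9376))
theorem Q7219 : ∀ i, i < 7219 → P i := stepQ 7218 Q7218 (allL N7218 (tt N9369 (iv F15652)) (tt N9373 (iv F15658)) (tt N5498 F11978) (tt N9376 (iv F15665)) (tt N9377 D9377) (tt N5497 (iv D7218)))
theorem Q7220 : ∀ i, i < 7220 → P i := stepQ 7219 Q7219 (allL N7219 (tt N9370 (iv F15655)) (tt N5502 F11979) (tt N9377 (iv F15666)) (tt N7665 (iv F12677)) (tt N5498 (iv D7219)) (tt N7496 (iv F12400)))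
theorem Q7221 : ∀ i, i < 7221 → P i := stepQ 7220 Q7220 (allL N7220 (tt N5499 (iv D7220)) (tt N7515 (iv F12432)) (tt N9371 (iv F15656)) (tt N9378 D9378) (tt N7497 (iv F12403)) (tt N9379 D9379))
theorem Q7222 : ∀ i, i < 7222 → P i := stepQ 7221 Q7221 (allL N7221 (tt N9378 (iv F15667)) (tt N5500 F11980) (tt N9380 D9380) (tt N5499 (iv D7221)) (tt N7550 (iv F12501)) (tt N6870 (iv F11981)))
theorem Q7223 : ∀ i, i < 7223 → P i := stepQ 7222 Q7222 (allL N7222 (tt N9379 (iv F15669)) (tt N5501 F11982) (tt N9373 (iv F15659)) (tt N6870 F11983) (tt N7549 (iv F12499)) (tt N5499 (iv D7222)))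
theorem Q7224 : ∀ i, i < 7224 → P i := stepQ 7223 Q7223 (allL N7223 (tt N9381 D9381) (tt N5503 (iv D7223)) (tt N9212 (iv F15362)) (tt N9382 D9382) (tt N9135 (iv F15224)) (tt N9383 D9383))
theorem Q7225 : ∀ i, i < 7225 → P i := stepQ 7224 Q7224 (allL N7224 (tt N5506 F11984) (tt N9382 (iv F15674)) (tt N9376 (iv F15664)) (tt N5503 (iv D7224)) (tt N9384 D9384) (tt N9374 F15662))
theorem Q7226 : ∀ i, i < 7226 → P i := stepQ 7225 Q7225 (allL N7225 (tt N5507 F11985) (tt N9383 (iv F15675)) (tt N5504 F11986) (tt N9374 (iv F15661)) (tt N9385 D9385) (tt N5503 (iv D7225)))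
theorem Q7227 : ∀ i, i < 7227 → P i := stepQ 7226 Q7226 (allL N7226 (tt N5508 F11987) (tt N9176 (iv F15299)) (tt N9385 (iv F15678)) (tt N9112 (iv F15175)) (tt N5504 (iv D7226)) (tt N9113 (iv F15180)))
theorem Q7228 : ∀ i, i < 7228 → P i := stepQ 7227 Q7227 (allL N7227 (tt N5505 (iv D7227)) (tt N9381 (iv F15673)) (tt N5509 F11988) (tt N9386 D9386) (tt N9137 (iv F15228)) (tt N9387 D9387))
theorem Q7229 : ∀ i, i < 7229 → P i := stepQ 7228 Q7228 (allL N7228 (tt N9386 (iv F15679)) (tt N5506 F11989) (tt N9388 D9388) (tt N5505 (iv D7228)) (tt N9389 D9389) (tt N9390 D9390))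
theorem Q7230 : ∀ i, i < 7230 → P i := stepQ 7229 Q7229 (allL N7229 (tt N9387 (iv F15680)) (tt N5507 F11990) (tt N5511 F11991) (tt N9390 (iv F15684)) (tt N9391 D9391) (tt N5505 (iv D7229)))
theorem Q7231 : ∀ i, i < 7231 → P i := stepQ 7230 Q7230 (allL N7230 (tt N9376 (iv F15663)) (tt N9392 D9392) (tt N5506 (iv D7230)) (tt N9369 (iv F15654)) (tt N9393 D9393) (tt N9368 F15651))
theorem Q7232 : ∀ i, i < 7232 → P i := stepQ 7231 Q7231 (allL N7231 (tt N9384 (iv F15676)) (tt N9389 (iv F15682)) (tt N9393 (iv F15687)) (tt N9140 (iv F15232)) (tt N5506 (iv D7231)) (tt N9394 D9394))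
theorem Q7233 : ∀ i, i < 7233 → P i := stepQ 7232 Q7232 (allL N7232 (tt N9374 (iv F15660)) (tt N9390 (iv F15683)) (tt N9368 (iv F15650)) (tt N5507 F11992) (tt N9395 D9395) (tt N5506 (iv D7232)))
theorem Q7234 : ∀ i, i < 7234 → P i := stepQ 7233 Q7233 (allL N7233 (tt N9385 (iv F15677)) (tt N9391 (iv F15685)) (tt N5508 F11993) (tt N9396 D9396) (tt N5507 (iv D7233)) (tt N9130 (iv F15213)))
theorem Q7235 : ∀ i, i < 7235 → P i := stepQ 7234 Q7234 (allL N7234 (tt N5510 F11994) (tt N8229 (iv F13641)) (tt N9397 D9397) (tt N5509 (iv D7234)) (tt N9398 D9398) (tt N7899 F13053))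
theorem Q7236 : ∀ i, i < 7236 → P i := stepQ 7235 Q7235 (allL N7235 (tt N5511 F11995) (tt N8228 (iv F13638)) (tt N9387 (iv F15681)) (tt N7899 F13052) (tt N9399 D9399) (tt N5509 (iv D7235)))
theorem Q7237 : ∀ i, i < 7237 → P i := stepQ 7236 Q7236 (allL N7236 (tt N9397 (iv F15688)) (tt N7898 (iv F13048)) (tt N5510 (iv D7236)) (tt N9400 D9400) (tt N9401 D9401) (tt N7896 F13047))
theorem Q7238 : ∀ i, i < 7238 → P i := stepQ 7237 Q7237 (allL N7237 (tt N9398 (iv F15689)) (tt N5512 F11996) (tt N9401 (iv F15692)) (tt N8088 (iv F13407)) (tt N5510 (iv D7237)) (tt N7850 (iv F12936)))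
theorem Q7239 : ∀ i, i < 7239 → P i := stepQ 7238 Q7238 (allL N7238 (tt N9399 (iv F15690)) (tt N5513 F11997) (tt N9391 (iv F15686)) (tt N7847 (iv F12924)) (tt N5511 (iv D7238)) (tt N8089 (iv F13411)))
theorem Q7240 : ∀ i, i < 7240 → P i := stepQ 7239 Q7239 (allL N7239 (tt N5514 (iv D7239)) (tt N8067 (iv F13383)) (tt N7672 (iv F12683)) (tt N9207 (iv F15353)) (tt N8123 (iv F13468)) (tt N5515 F11998))
theorem Q7241 : ∀ i, i < 7241 → P i := stepQ 7240 Q7240 (allL N7240 (tt N5516 F11999) (tt N8060 (iv F13369)) (tt N9402 D9402) (tt N5515 (iv D7240)) (tt N7875 (iv F12997)) (tt N9207 (iv F15354)))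
theorem Q7242 : ∀ i, i < 7242 → P i := stepQ 7241 Q7241 (allL N7241 (tt N9402 (iv F15694)) (tt N9206 (iv F15351)) (tt N5516 (iv D7241)) (tt N9403 D9403) (tt N7877 (iv F13000)) (tt N9204 F15350))
theorem Q7243 : ∀ i, i < 7243 → P i := stepQ 7242 Q7242 (allL N7242 (tt N8447 (iv F14039)) (tt N8793 (iv F14603)) (tt N8058 (iv F13366)) (tt N9404 D9404) (tt N5517 (iv D7242)) (tt N9405 D9405))
theorem Q7244 : ∀ i, i < 7244 → P i := stepQ 7243 Q7243 (allL N7243 (tt N8331 (iv F13844)) (tt N9088 (iv F15122)) (tt N9406 D9406) (tt N5518 (iv D7243)) (tt N9404 (iv F15695)) (tt N9407 D9407))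
theorem Q7245 : ∀ i, i < 7245 → P i := stepQ 7244 Q7244 (allL N7244 (tt N6885 F12000) (tt N9089 (iv F15123)) (tt N5519 F12001) (tt N9407 (iv F15697)) (tt N6878 F12002) (tt N5518 (iv D7244)))
theorem Q7246 : ∀ i, i < 7246 → P i := stepQ 7245 Q7245 (allL N7245 (tt N5521 F12003) (tt N9085 (iv F15114)) (tt N9408 D9408) (tt N5520 (iv D7245)) (tt N9084 (iv F15111)) (tt N9409 D9409))
theorem Q7247 : ∀ i, i < 7247 → P i := stepQ 7246 Q7246 (allL N7246 (tt N5522 F12004) (tt N9086 (iv F15117)) (tt N8467 (iv F14067)) (tt N9409 (iv F15700)) (tt N8757 (iv F14519)) (tt N5520 (iv D7246)))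
theorem Q7248 : ∀ i, i < 7248 → P i := stepQ 7247 Q7247 (allL N7247 (tt N9408 (iv F15698)) (tt N9410 D9410) (tt N5521 (iv D7247)) (tt N9411 D9411) (tt N9327 (iv F15575)) (tt N9412 D9412))
theorem Q7249 : ∀ i, i < 7249 → P i := stepQ 7248 Q7248 (allL N7248 (tt N9409 (iv F15699)) (tt N5524 F12005) (tt N9412 (iv F15702)) (tt N5522 F12006) (tt N9413 D9413) (tt N5521 (iv D7248)))
theorem Q7250 : ∀ i, i < 7250 → P i := stepQ 7249 Q7249 (allL N7249 (tt N9414 D9414) (tt N5523 (iv D7249)) (tt N9410 (iv F15701)) (tt N9415 D9415) (tt N9329 (iv F15580)) (tt N9416 D9416))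
theorem Q7251 : ∀ i, i < 7251 → P i := stepQ 7250 Q7250 (allL N7250 (tt N5831 F12007) (tt N9415 (iv F15704)) (tt N5795 F12008) (tt N5523 (iv D7250)) (tt N9417 D9417) (tt N5796 F12009))
theorem Q7252 : ∀ i, i < 7252 → P i := stepQ 7251 Q7251 (allL N7251 (tt N5830 F12010) (tt N9416 (iv F15706)) (tt N5524 F12011) (tt N5796 F12012) (tt N9418 D9418) (tt N5523 (iv D7251)))
theorem Q7253 : ∀ i, i < 7253 → P i := stepQ 7252 Q7252 (allL N7252 (tt N9332 (iv F15589)) (tt N9413 (iv F15703)) (tt N9418 (iv F15713)) (tt N8763 (iv F14534)) (tt N5524 (iv D7252)) (tt N9330 (iv F15585)))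
theorem Q7254 : ∀ i, i < 7254 → P i := stepQ 7253 Q7253 (allL N7253 (tt N9419 D9419) (tt N5525 (iv D7253)) (tt N8522 (iv F14165)) (tt N9420 D9420) (tt N9209 (iv F15356)) (tt N9421 D9421))
theorem Q7255 : ∀ i, i < 7255 → P i := stepQ 7254 Q7254 (allL N7254 (tt N5616 F12013) (tt N9420 (iv F15716)) (tt N5598 F12014) (tt N5525 (iv D7254)) (tt N9422 D9422) (tt N5597 F12015))
theorem Q7256 : ∀ i, i < 7256 → P i := stepQ 7255 Q7255 (allL N7255 (tt N5615 F12016) (tt N9421 (iv F15718)) (tt N5526 F12017) (tt N5597 F12018) (tt N9423 D9423) (tt N5525 (iv D7255)))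
theorem Q7257 : ∀ i, i < 7257 → P i := stepQ 7256 Q7256 (allL N7256 (tt N9222 (iv F15379)) (tt N8520 (iv F14162)) (tt N9423 (iv F15723)) (tt N8508 (iv F14147)) (tt N5526 (iv D7256)) (tt N9210 (iv F15358)))
theorem Q7258 : ∀ i, i < 7258 → P i := stepQ 7257 Q7257 (allL N7257 (tt N9293 (iv F15510)) (tt N5528 (iv D7257)) (tt N5665 F12019) (tt N6572 F12020) (tt N5722 F12021) (tt N5665 F12022))
theorem Q7259 : ∀ i, i < 7259 → P i := stepQ 7258 Q7258 (allL N7258 (tt N6573 F12023) (tt N9296 (iv F15525)) (tt N6555 F12024) (tt N5725 F12025) (tt N5529 (iv D7258)) (tt N9424 D9424))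
theorem Q7260 : ∀ i, i < 7260 → P i := stepQ 7259 Q7259 (allL N7259 (tt N5685 F12026) (tt N5532 F12027) (tt N9425 D9425) (tt N5530 (iv D7259)) (tt N5839 F12028) (tt N9426 D9426))
theorem Q7261 : ∀ i, i < 7261 → P i := stepQ 7260 Q7260 (allL N7260 (tt N5686 F12029) (tt N5533 F12030) (tt N5671 F12031) (tt N9426 (iv F15732)) (tt N5696 F12032) (tt N5530 (iv D7260)))
theorem Q7262 : ∀ i, i < 7262 → P i := stepQ 7261 Q7261 (allL N7261 (tt N5535 F12033) (tt N5839 F12034) (tt N9427 D9427) (tt N5531 (iv D7261)) (tt N5532 F12035) (tt N9428 D9428))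
theorem Q7263 : ∀ i, i < 7263 → P i := stepQ 7262 Q7262 (allL N7262 (tt N5536 F12036) (tt N5840 F12037) (tt N6531 F12038) (tt N9428 (iv F15737)) (tt N5702 F12039) (tt N5531 (iv D7262)))
theorem Q7264 : ∀ i, i < 7264 → P i := stepQ 7263 Q7263 (allL N7263 (tt N5537 F12040) (tt N9429 D9429) (tt N5532 (iv D7263)) (tt N5683 F12041) (tt N9427 (iv F15734)) (tt N5682 (iv F12042)))
theorem Q7265 : ∀ i, i < 7265 → P i := stepQ 7264 Q7264 (allL N7264 (tt N5538 F12043) (tt N9426 (iv F15731)) (tt N5682 F12044) (tt N5533 F12045) (tt N9430 D9430) (tt N5532 (iv D7264)))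
theorem Q7266 : ∀ i, i < 7266 → P i := stepQ 7265 Q7265 (allL N7265 (tt N6532 F12046) (tt N5834 F12047) (tt N9431 D9431) (tt N5534 (iv D7265)) (tt N6520 F12048) (tt N9432 D9432))
theorem Q7267 : ∀ i, i < 7267 → P i := stepQ 7266 Q7266 (allL N7266 (tt N6531 F12049) (tt N5835 F12050) (tt N5536 F12051) (tt N9432 (iv F15747)) (tt N5706 F12052) (tt N5534 (iv D7266)))
theorem Q7268 : ∀ i, i < 7268 → P i := stepQ 7267 Q7267 (allL N7267 (tt N9427 (iv F15733)) (tt N9433 D9433) (tt N5535 (iv D7267)) (tt N9434 D9434) (tt N5537 F12053) (tt N9435 D9435))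
theorem Q7269 : ∀ i, i < 7269 → P i := stepQ 7268 Q7268 (allL N7268 (tt N9428 (iv F15735)) (tt N5690 F12054) (tt N9435 (iv F15750)) (tt N5536 F12055) (tt N9436 D9436) (tt N5535 (iv D7268)))
theorem Q7270 : ∀ i, i < 7270 → P i := stepQ 7269 Q7269 (allL N7269 (tt N9437 D9437) (tt N5537 (iv D7269)) (tt N5691 F12056) (tt N9438 D9438) (tt N9433 (iv F15749)) (tt N9439 D9439))
theorem Q7271 : ∀ i, i < 7271 → P i := stepQ 7270 Q7270 (allL N7270 (tt N5683 F12057) (tt N9438 (iv F15755)) (tt N5675 F12058) (tt N5537 (iv D7270)) (tt N9440 D9440) (tt N5674 F12059))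
theorem Q7272 : ∀ i, i < 7272 → P i := stepQ 7271 Q7271 (allL N7271 (tt N5682 F12060) (tt N9439 (iv F15757)) (tt N5538 F12061) (tt N5674 F12062) (tt N9441 D9441) (tt N5537 (iv D7271)))
theorem Q7273 : ∀ i, i < 7273 → P i := stepQ 7272 Q7272 (allL N7272 (tt N9430 (iv F15740)) (tt N5694 F12063) (tt N9441 (iv F15763)) (tt N5712 F12064) (tt N5538 (iv D7272)) (tt N9436 (iv F15753)))
theorem Q7274 : ∀ i, i < 7274 → P i := stepQ 7273 Q7273 (allL N7273 (tt N5670 F12065) (tt N5540 F12066) (tt N9442 D9442) (tt N5539 (iv D7273)) (tt N7400 (iv F12280)) (tt N9443 D9443))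
theorem Q7275 : ∀ i, i < 7275 → P i := stepQ 7274 Q7274 (allL N7274 (tt N5671 F12067) (tt N5541 F12068) (tt N5686 F12069) (tt N9443 (iv F15767)) (tt N5549 F12070) (tt N5539 (iv D7274)))
theorem Q7276 : ∀ i, i < 7276 → P i := stepQ 7275 Q7275 (allL N7275 (tt N5544 F12071) (tt N9444 D9444) (tt N5540 (iv D7275)) (tt N5967 F12072) (tt N7557 (iv F12513)) (tt N9098 (iv F15146)))
theorem Q7277 : ∀ i, i < 7277 → P i := stepQ 7276 Q7276 (allL N7276 (tt N5545 F12073) (tt N9443 (iv F15766)) (tt N9098 (iv F15145)) (tt N5541 F12074) (tt N9445 D9445) (tt N5540 (iv D7276)))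
theorem Q7278 : ∀ i, i < 7278 → P i := stepQ 7277 Q7277 (allL N7277 (tt N7557 (iv F12512)) (tt N9446 D9446) (tt N5542 (iv D7277)) (tt N9447 D9447) (tt N5544 F12075) (tt N9448 D9448))
theorem Q7279 : ∀ i, i < 7279 → P i := stepQ 7278 Q7278 (allL N7278 (tt N7558 (iv F12514)) (tt N5680 F12076) (tt N9448 (iv F15773)) (tt N5543 F12077) (tt N9449 D9449) (tt N5542 (iv D7278)))
theorem Q7280 : ∀ i, i < 7280 → P i := stepQ 7279 Q7279 (allL N7279 (tt N9450 D9450) (tt N5544 (iv D7279)) (tt N5681 F12078) (tt N9451 D9451) (tt N9446 (iv F15772)) (tt N9452 D9452))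
theorem Q7281 : ∀ i, i < 7281 → P i := stepQ 7280 Q7280 (allL N7280 (tt N5967 F12079) (tt N9451 (iv F15778)) (tt N5957 F12080) (tt N5544 (iv D7280)) (tt N9453 D9453) (tt N9094 (iv F15137)))
theorem Q7282 : ∀ i, i < 7282 → P i := stepQ 7281 Q7281 (allL N7281 (tt N9098 (iv F15144)) (tt N9452 (iv F15779)) (tt N5545 F12081) (tt N9094 (iv F15136)) (tt N9454 D9454) (tt N5544 (iv D7281)))
theorem Q7283 : ∀ i, i < 7283 → P i := stepQ 7282 Q7282 (allL N7282 (tt N9445 (iv F15769)) (tt N5684 F12082) (tt N9454 (iv F15783)) (tt N5568 F12083) (tt N5545 (iv D7282)) (tt N9449 (iv F15776)))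
theorem Q7284 : ∀ i, i < 7284 → P i := stepQ 7283 Q7283 (allL N7283 (tt N5548 F12084) (tt N5554 F12085) (tt N9455 D9455) (tt N5546 (iv D7283)) (tt N6556 F12086) (tt N9456 D9456))
theorem Q7285 : ∀ i, i < 7285 → P i := stepQ 7284 Q7284 (allL N7284 (tt N5549 F12087) (tt N5555 F12088) (tt N5696 F12089) (tt N9456 (iv F15788)) (tt N5671 F12090) (tt N5546 (iv D7284)))
theorem Q7286 : ∀ i, i < 7286 → P i := stepQ 7285 Q7285 (allL N7285 (tt N6556 F12091) (tt N5550 F12092) (tt N9457 D9457) (tt N5547 (iv D7285)) (tt N5548 F12093) (tt N9458 D9458))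
theorem Q7287 : ∀ i, i < 7287 → P i := stepQ 7286 Q7286 (allL N7286 (tt N6557 F12094) (tt N5551 F12095) (tt N6914 F12096) (tt N9458 (iv F15794)) (tt N7401 (iv F12283)) (tt N5547 (iv D7286)))
theorem Q7288 : ∀ i, i < 7288 → P i := stepQ 7287 Q7287 (allL N7287 (tt N9455 (iv F15784)) (tt N5724 F12097) (tt N5548 (iv D7287)) (tt N9459 D9459) (tt N9457 (iv F15791)) (tt N9460 D9460))
theorem Q7289 : ∀ i, i < 7289 → P i := stepQ 7288 Q7288 (allL N7288 (tt N9456 (iv F15786)) (tt N5553 F12098) (tt N9460 (iv F15798)) (tt N5549 F12099) (tt N9461 D9461) (tt N5548 (iv D7288)))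
theorem Q7290 : ∀ i, i < 7290 → P i := stepQ 7289 Q7289 (allL N7289 (tt N5563 F12100) (tt N5725 (iv F12102)) (tt N5550 (iv D7289)) (tt N9296 (iv F15526)) (tt N5552 F12101) (tt N9462 D9462))
theorem Q7291 : ∀ i, i < 7291 → P i := stepQ 7290 Q7290 (allL N7290 (tt N5564 F12103) (tt N9458 (iv F15793)) (tt N9462 (iv F15803)) (tt N5551 F12104) (tt N9463 D9463) (tt N5550 (iv D7290)))
theorem Q7292 : ∀ i, i < 7292 → P i := stepQ 7291 Q7291 (allL N7291 (tt N5568 F12105) (tt N9461 (iv F15800)) (tt N5579 F12106) (tt N9445 (iv F15770)) (tt N5553 (iv D7291)) (tt N9463 (iv F15807)))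
theorem Q7293 : ∀ i, i < 7293 → P i := stepQ 7292 Q7292 (allL N7292 (tt N5558 F12107) (tt N9464 D9464) (tt N5554 (iv D7292)) (tt N9465 D9465) (tt N6558 F12108) (tt N9466 D9466))
theorem Q7294 : ∀ i, i < 7294 → P i := stepQ 7293 Q7293 (allL N7293 (tt N5559 F12109) (tt N9456 (iv F15787)) (tt N9466 (iv F15813)) (tt N5555 F12110) (tt N9467 D9467) (tt N5554 (iv D7293)))
theorem Q7295 : ∀ i, i < 7295 → P i := stepQ 7294 Q7294 (allL N7294 (tt N6558 F12111) (tt N9468 D9468) (tt N5556 (iv D7294)) (tt N9469 D9469) (tt N5558 F12112) (tt N9470 D9470))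
theorem Q7296 : ∀ i, i < 7296 → P i := stepQ 7295 Q7295 (allL N7295 (tt N6559 F12113) (tt N5564 F12114) (tt N9470 (iv F15824)) (tt N5557 F12115) (tt N9471 D9471) (tt N5556 (iv D7295)))
theorem Q7297 : ∀ i, i < 7297 → P i := stepQ 7296 Q7296 (allL N7296 (tt N9472 D9472) (tt N5558 (iv D7296)) (tt N5565 F12116) (tt N9473 D9473) (tt N9468 (iv F15819)) (tt N9474 D9474))
theorem Q7298 : ∀ i, i < 7298 → P i := stepQ 7297 Q7297 (allL N7297 (tt N9465 (iv F15809)) (tt N9473 (iv F15831)) (tt N9475 D9475) (tt N5558 (iv D7297)) (tt N9476 D9476) (tt N9477 D9477))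
theorem Q7299 : ∀ i, i < 7299 → P i := stepQ 7298 Q7298 (allL N7298 (tt N9466 (iv F15812)) (tt N9474 (iv F15832)) (tt N5559 F12117) (tt N9477 (iv F15839)) (tt N9478 D9478) (tt N5558 (iv D7298)))
theorem Q7300 : ∀ i, i < 7300 → P i := stepQ 7299 Q7299 (allL N7299 (tt N9467 (iv F15815)) (tt N5568 F12118) (tt N9478 (iv F15840)) (tt N5684 F12119) (tt N5559 (iv D7299)) (tt N9471 (iv F15829)))
theorem Q7301 : ∀ i, i < 7301 → P i := stepQ 7300 Q7300 (allL N7300 (tt N6941 F12120) (tt N5561 F12121) (tt N9479 D9479) (tt N5560 (iv D7300)) (tt N7348 (iv F12204)) (tt N9480 D9480))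
theorem Q7302 : ∀ i, i < 7302 → P i := stepQ 7301 Q7301 (allL N7301 (tt N6942 F12122) (tt N5562 F12123) (tt N6546 F12124) (tt N9480 (iv F15844)) (tt N7418 (iv F12308)) (tt N5560 (iv D7301)))
theorem Q7303 : ∀ i, i < 7303 → P i := stepQ 7302 Q7302 (allL N7302 (tt N7364 (iv F12233)) (tt N9481 D9481) (tt N5561 (iv D7302)) (tt N9482 D9482) (tt N7362 (iv F12230)) (tt N9483 D9483))
theorem Q7304 : ∀ i, i < 7304 → P i := stepQ 7303 Q7303 (allL N7303 (tt N7365 (iv F12235)) (tt N9480 (iv F15843)) (tt N9483 (iv F15845)) (tt N5562 F12125) (tt N9484 D9484) (tt N5561 (iv D7303)))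
theorem Q7305 : ∀ i, i < 7305 → P i := stepQ 7304 Q7304 (allL N7304 (tt N9485 D9485) (tt N5563 (iv D7304)) (tt N9468 (iv F15818)) (tt N9486 D9486) (tt N5565 F12126) (tt N9487 D9487))
theorem Q7306 : ∀ i, i < 7306 → P i := stepQ 7305 Q7305 (allL N7305 (tt N9296 (iv F15524)) (tt N9486 (iv F15850)) (tt N9488 D9488) (tt N5563 (iv D7305)) (tt N9294 (iv F15518)) (tt N9489 D9489))
theorem Q7307 : ∀ i, i < 7307 → P i := stepQ 7306 Q7306 (allL N7306 (tt N9462 (iv F15801)) (tt N9487 (iv F15852)) (tt N5564 F12127) (tt N9489 (iv F15854)) (tt N9490 D9490) (tt N5563 (iv D7306)))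
theorem Q7308 : ∀ i, i < 7308 → P i := stepQ 7307 Q7307 (allL N7307 (tt N9463 (iv F15805)) (tt N9471 (iv F15827)) (tt N9490 (iv F15856)) (tt N9449 (iv F15775)) (tt N5564 (iv D7307)) (tt N5568 F12128))
theorem Q7309 : ∀ i, i < 7309 → P i := stepQ 7308 Q7308 (allL N7308 (tt N5565 (iv D7308)) (tt N5723 F12129) (tt N9472 (iv F15830)) (tt N5722 (iv F12130)) (tt N9485 (iv F15847)) (tt N9491 D9491))
theorem Q7310 : ∀ i, i < 7310 → P i := stepQ 7309 Q7309 (allL N7309 (tt N5722 F12131) (tt N5566 F12132) (tt N9266 (iv F15450)) (tt N5565 (iv D7309)) (tt N9293 (iv F15512)) (tt N5574 (iv F12133)))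
theorem Q7311 : ∀ i, i < 7311 → P i := stepQ 7310 Q7310 (allL N7310 (tt N9491 (iv F15858)) (tt N5567 F12134) (tt N9474 (iv F15833)) (tt N5574 F12135) (tt N9492 D9492) (tt N5565 (iv D7310)))
theorem Q7312 : ∀ i, i < 7312 → P i := stepQ 7311 Q7311 (allL N7311 (tt N5579 F12136) (tt N9492 (iv F15861)) (tt N5568 F12137) (tt N9493 D9493) (tt N5567 (iv D7311)) (tt N9490 (iv F15857)))
theorem Q7313 : ∀ i, i < 7313 → P i := stepQ 7312 Q7312 (allL N7312 (tt N9266 (iv F15449)) (tt N5569 (iv D7312)) (tt N5722 F12138) (tt N9494 D9494) (tt N5665 F12139) (tt N9495 D9495))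
theorem Q7314 : ∀ i, i < 7314 → P i := stepQ 7313 Q7313 (allL N7313 (tt N5571 F12140) (tt N9494 (iv F15864)) (tt N9477 (iv F15838)) (tt N5569 (iv D7313)) (tt N9496 D9496) (tt N9475 F15836))
theorem Q7315 : ∀ i, i < 7315 → P i := stepQ 7314 Q7314 (allL N7314 (tt N5572 F12141) (tt N9495 (iv F15866)) (tt N5570 F12142) (tt N9475 (iv F15835)) (tt N5577 F12143) (tt N5569 (iv D7314)))
theorem Q7316 : ∀ i, i < 7316 → P i := stepQ 7315 Q7315 (allL N7315 (tt N9477 (iv F15837)) (tt N9497 D9497) (tt N5571 (iv D7315)) (tt N9466 (iv F15814)) (tt N9498 D9498) (tt N9465 F15811))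
theorem Q7317 : ∀ i, i < 7317 → P i := stepQ 7316 Q7316 (allL N7316 (tt N9496 (iv F15869)) (tt N9272 (iv F15460)) (tt N9498 (iv F15872)) (tt N5668 F12144) (tt N5571 (iv D7316)) (tt N9499 D9499))
theorem Q7318 : ∀ i, i < 7318 → P i := stepQ 7317 Q7317 (allL N7317 (tt N9475 (iv F15834)) (tt N5576 F12145) (tt N9465 (iv F15810)) (tt N5572 F12146) (tt N9500 D9500) (tt N5571 (iv D7317)))
theorem Q7319 : ∀ i, i < 7319 → P i := stepQ 7318 Q7318 (allL N7318 (tt N9495 (iv F15865)) (tt N5573 (iv D7318)) (tt N5574 F12147) (tt N9501 D9501) (tt N5574 F12148) (tt N9266 (iv F15452)))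
theorem Q7320 : ∀ i, i < 7320 → P i := stepQ 7319 Q7319 (allL N7319 (tt N5576 F12149) (tt N9501 (iv F15876)) (tt N9254 (iv F15422)) (tt N5573 (iv D7319)) (tt N9493 (iv F15863)) (tt N9267 (iv F15455)))
theorem Q7321 : ∀ i, i < 7321 → P i := stepQ 7320 Q7320 (allL N7320 (tt N5574 (iv D7320)) (tt N5577 F12150) (tt N9495 (iv F15867)) (tt N9491 (iv F15860)) (tt N9495 (iv F15868)) (tt N5722 F12151))
theorem Q7322 : ∀ i, i < 7322 → P i := stepQ 7321 Q7321 (allL N7321 (tt N9502 D9502) (tt N5575 (iv D7321)) (tt N5731 F12152) (tt N9503 D9503) (tt N6577 F12153) (tt N9253 (iv F15420)))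
theorem Q7323 : ∀ i, i < 7323 → P i := stepQ 7322 Q7322 (allL N7322 (tt N5727 F12154) (tt N9503 (iv F15880)) (tt N9267 (iv F15454)) (tt N5575 (iv D7322)) (tt N9504 D9504) (tt N9254 (iv F15423)))
theorem Q7324 : ∀ i, i < 7324 → P i := stepQ 7323 Q7323 (allL N7323 (tt N9254 (iv F15421)) (tt N9505 D9505) (tt N5576 (iv D7323)) (tt N5728 F12156) (tt N9506 D9506) (tt N5727 F12155))
theorem Q7325 : ∀ i, i < 7325 → P i := stepQ 7324 Q7324 (allL N7324 (tt N9493 (iv F15862)) (tt N9500 (iv F15874)) (tt N9506 (iv F15885)) (tt N5579 F12157) (tt N5576 (iv D7324)) (tt N9507 D9507))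
theorem Q7326 : ∀ i, i < 7326 → P i := stepQ 7325 Q7325 (allL N7325 (tt N5578 F12158) (tt N9491 (iv F15859)) (tt N5710 F12160) (tt N5577 (iv D7325)) (tt N9508 D9508) (tt N5723 F12159))
theorem Q7327 : ∀ i, i < 7327 → P i := stepQ 7326 Q7326 (allL N7326 (tt N5710 F12161) (tt N9460 (iv F15797)) (tt N5578 (iv D7326)) (tt N5703 F12163) (tt N9509 D9509) (tt N5724 F12162))
theorem Q7328 : ∀ i, i < 7328 → P i := stepQ 7327 Q7327 (allL N7327 (tt N9508 (iv F15887)) (tt N5579 F12164) (tt N9509 (iv F15890)) (tt N9500 (iv F15875)) (tt N5578 (iv D7327)) (tt N9510 D9510))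
theorem Q7329 : ∀ i, i < 7329 → P i := stepQ 7328 Q7328 (allL N7328 (tt N9490 (iv F15855)) (tt N9510 (iv F15891)) (tt N9463 (iv F15806)) (tt N9507 (iv F15886)) (tt N9462 (iv F15804)) (tt N5579 (iv D7328)))
theorem Q7330 : ∀ i, i < 7330 → P i := stepQ 7329 Q7329 (allL N7329 (tt N5772 F12165) (tt N5582 F12166) (tt N9511 D9511) (tt N5580 (iv D7329)) (tt N5825 F12167) (tt N9512 D9512))
theorem Q7331 : ∀ i, i < 7331 → P i := stepQ 7330 Q7330 (allL N7330 (tt N5771 F12168) (tt N5583 F12169) (tt N5595 F12170) (tt N9512 (iv F15897)) (tt N5768 F12171) (tt N5580 (iv D7330)))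
theorem Q7332 : ∀ i, i < 7332 → P i := stepQ 7331 Q7331 (allL N7331 (tt N5586 F12172) (tt N5825 F12173) (tt N9513 D9513) (tt N5581 (iv D7331)) (tt N5582 F12174) (tt N9514 D9514))
theorem Q7333 : ∀ i, i < 7333 → P i := stepQ 7332 Q7332 (allL N7332 (tt N5587 F12175) (tt N5826 F12176) (tt N8303 (iv F13792)) (tt N9514 (iv F15902)) (tt N5782 F12177) (tt N5581 (iv D7332)))
theorem Q7334 : ∀ i, i < 7334 → P i := stepQ 7333 Q7333 (allL N7333 (tt N5588 F12178) (tt N9515 D9515) (tt N5582 (iv D7333)) (tt N8489 (iv F14117)) (tt N9513 (iv F15899)) (tt N8488 (iv F14114)))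
theorem Q7335 : ∀ i, i < 7335 → P i := stepQ 7334 Q7334 (allL N7334 (tt N5589 F12179) (tt N9512 (iv F15896)) (tt N8488 (iv F14113)) (tt N5583 F12180) (tt N9516 D9516) (tt N5582 (iv D7334)))
theorem Q7336 : ∀ i, i < 7336 → P i := stepQ 7335 Q7335 (allL N7335 (tt N9517 D9517) (tt N5584 (iv D7335)) (tt N5603 F12181) (tt N9518 D9518) (tt N5812 F12182) (tt N8483 (iv F14104)))
theorem Q7337 : ∀ i, i < 7337 → P i := stepQ 7336 Q7336 (allL N7336 (tt N5591 F12183) (tt N9518 (iv F15909)) (tt N5591 F12184) (tt N5584 (iv D7336)) (tt N9519 D9519) (tt N8484 (iv F14107)))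
theorem Q7338 : ∀ i, i < 7338 → P i := stepQ 7337 Q7337 (allL N7337 (tt N8302 (iv F13787)) (tt N5823 F12185) (tt N9520 D9520) (tt N5585 (iv D7337)) (tt N8406 (iv F13970)) (tt N9521 D9521))
theorem Q7339 : ∀ i, i < 7339 → P i := stepQ 7338 Q7338 (allL N7338 (tt N8303 (iv F13790)) (tt N5824 F12186) (tt N5587 F12187) (tt N9521 (iv F15914)) (tt N5786 F12188) (tt N5585 (iv D7338)))
theorem Q7340 : ∀ i, i < 7340 → P i := stepQ 7339 Q7339 (allL N7339 (tt N9513 (iv F15898)) (tt N9522 D9522) (tt N5586 (iv D7339)) (tt N9523 D9523) (tt N5588 F12189) (tt N9524 D9524))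
theorem Q7341 : ∀ i, i < 7341 → P i := stepQ 7340 Q7340 (allL N7340 (tt N9514 (iv F15900)) (tt N5795 F12190) (tt N9524 (iv F15917)) (tt N5587 F12191) (tt N9525 D9525) (tt N5586 (iv D7340)))
theorem Q7342 : ∀ i, i < 7342 → P i := stepQ 7341 Q7341 (allL N7341 (tt N9526 D9526) (tt N5588 (iv D7341)) (tt N5800 F12192) (tt N9527 D9527) (tt N9522 (iv F15916)) (tt N9528 D9528))
theorem Q7343 : ∀ i, i < 7343 → P i := stepQ 7342 Q7342 (allL N7342 (tt N8489 (iv F14115)) (tt N9527 (iv F15922)) (tt N8482 (iv F14101)) (tt N5588 (iv D7342)) (tt N9529 D9529) (tt N8481 F14099))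
theorem Q7344 : ∀ i, i < 7344 → P i := stepQ 7343 Q7343 (allL N7343 (tt N8488 (iv F14112)) (tt N9528 (iv F15923)) (tt N5589 F12193) (tt N8481 (iv F14098)) (tt N9530 D9530) (tt N5588 (iv D7343)))
theorem Q7345 : ∀ i, i < 7345 → P i := stepQ 7344 Q7344 (allL N7344 (tt N9516 (iv F15903)) (tt N5798 F12194) (tt N9530 (iv F15925)) (tt N5792 F12195) (tt N5589 (iv D7344)) (tt N9525 (iv F15920)))
theorem Q7346 : ∀ i, i < 7346 → P i := stepQ 7345 Q7345 (allL N7345 (tt N5590 (iv D7345)) (tt N9517 (iv F15905)) (tt N5592 F12196) (tt N9531 D9531) (tt N5816 F12197) (tt N6575 F12198))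
theorem Q7347 : ∀ i, i < 7347 → P i := stepQ 7346 Q7346 (allL N7346 (tt N9531 (iv F15926)) (tt N5591 F12199) (tt N9532 D9532) (tt N5590 (iv D7346)) (tt N9533 D9533) (tt N6576 F12200))
theorem Q7348 : ∀ i, i < 7348 → P i := stepQ 7347 Q7347 (allL N7347 (tt N9519 (iv F15910)) (tt N9533 (iv F15932)) (tt N9519 (iv F15911)) (tt N5819 F12201) (tt N5591 (iv D7347)) (tt N9534 D9534))
theorem Q7349 : ∀ i, i < 7349 → P i := stepQ 7348 Q7348 (allL N7348 (tt N5594 F12202) (tt N5604 F12203) (tt N9535 D9535) (tt N5593 (iv D7348)) (tt N7300 F12204) (tt N9536 D9536))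
theorem Q7350 : ∀ i, i < 7350 → P i := stepQ 7349 Q7349 (allL N7349 (tt N5595 F12205) (tt N5605 F12206) (tt N5771 F12207) (tt N9536 (iv F15939)) (tt N5752 F12208) (tt N5593 (iv D7349)))
theorem Q7351 : ∀ i, i < 7351 → P i := stepQ 7350 Q7350 (allL N7350 (tt N9535 (iv F15935)) (tt N9537 D9537) (tt N5594 (iv D7350)) (tt N9538 D9538) (tt N9046 (iv F15043)) (tt N9539 D9539))
theorem Q7352 : ∀ i, i < 7352 → P i := stepQ 7351 Q7351 (allL N7351 (tt N9536 (iv F15937)) (tt N5598 F12209) (tt N9539 (iv F15941)) (tt N5595 F12210) (tt N9540 D9540) (tt N5594 (iv D7351)))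
theorem Q7353 : ∀ i, i < 7353 → P i := stepQ 7352 Q7352 (allL N7352 (tt N5752 F12211) (tt N5599 F12212) (tt N5768 F12213) (tt N9541 D9541) (tt N5595 (iv D7352)) (tt N5596 F12214))
theorem Q7354 : ∀ i, i < 7354 → P i := stepQ 7353 Q7353 (allL N7353 (tt N5751 F12215) (tt N5600 F12216) (tt N9542 D9542) (tt N5596 (iv D7353)) (tt N5644 F12217) (tt N9541 (iv F15945)))
theorem Q7355 : ∀ i, i < 7355 → P i := stepQ 7354 Q7354 (allL N7354 (tt N9543 D9543) (tt N5597 (iv D7354)) (tt N9537 (iv F15940)) (tt N9421 (iv F15719)) (tt N9048 (iv F15046)) (tt N9420 F15717))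
theorem Q7356 : ∀ i, i < 7356 → P i := stepQ 7355 Q7355 (allL N7355 (tt N5617 F12218) (tt N9540 (iv F15942)) (tt N9422 (iv F15721)) (tt N9544 D9544) (tt N5598 (iv D7355)) (tt N9051 (iv F15052)))
theorem Q7357 : ∀ i, i < 7357 → P i := stepQ 7356 Q7356 (allL N7356 (tt N5618 F12219) (tt N9541 (iv F15944)) (tt N9545 D9545) (tt N5599 (iv D7356)) (tt N9544 (iv F15950)) (tt N5600 F12220))
theorem Q7358 : ∀ i, i < 7358 → P i := stepQ 7357 Q7357 (allL N7357 (tt N5619 F12221) (tt N9546 D9546) (tt N5600 (iv D7357)) (tt N9547 D9547) (tt N5646 F12222) (tt N9545 (iv F15953)))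
theorem Q7359 : ∀ i, i < 7359 → P i := stepQ 7358 Q7358 (allL N7358 (tt N5620 F12223) (tt N9548 D9548) (tt N5601 (iv D7358)) (tt N9549 D9549) (tt N8413 (iv F13980)) (tt N5602 F12224))
theorem Q7360 : ∀ i, i < 7360 → P i := stepQ 7359 Q7359 (allL N7359 (tt N9550 D9550) (tt N5602 (iv D7359)) (tt N5812 F12225) (tt N9551 D9551) (tt N5603 F12226) (tt N9548 (iv F15961)))
theorem Q7361 : ∀ i, i < 7361 → P i := stepQ 7360 Q7360 (allL N7360 (tt N5622 F12227) (tt N9551 (iv F15969)) (tt N9552 D9552) (tt N5602 (iv D7360)) (tt N9290 (iv F15503)) (tt N9549 (iv F15964)))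
theorem Q7362 : ∀ i, i < 7362 → P i := stepQ 7361 Q7361 (allL N7361 (tt N5603 (iv D7361)) (tt N5623 F12228) (tt N9517 (iv F15906)) (tt N9292 (iv F15508)) (tt N9550 (iv F15967)) (tt N9308 (iv F15552)))
theorem Q7363 : ∀ i, i < 7363 → P i := stepQ 7362 Q7362 (allL N7362 (tt N5608 F12229) (tt N9553 D9553) (tt N5604 (iv D7362)) (tt N8626 (iv F14287)) (tt N7302 F12230) (tt N9554 D9554))
theorem Q7364 : ∀ i, i < 7364 → P i := stepQ 7363 Q7363 (allL N7363 (tt N5609 F12231) (tt N9536 (iv F15938)) (tt N9554 (iv F15975)) (tt N5605 F12232) (tt N9555 D9555) (tt N5604 (iv D7363)))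
theorem Q7365 : ∀ i, i < 7365 → P i := stepQ 7364 Q7364 (allL N7364 (tt N7302 F12233) (tt N9556 D9556) (tt N5606 (iv D7364)) (tt N9557 D9557) (tt N5608 F12234) (tt N9558 D9558))
theorem Q7366 : ∀ i, i < 7366 → P i := stepQ 7365 Q7365 (allL N7365 (tt N7303 F12235) (tt N5611 F12236) (tt N9558 (iv F15986)) (tt N5607 F12237) (tt N9559 D9559) (tt N5606 (iv D7365)))
theorem Q7367 : ∀ i, i < 7367 → P i := stepQ 7366 Q7366 (allL N7366 (tt N9560 D9560) (tt N5608 (iv D7366)) (tt N5614 F12238) (tt N9561 D9561) (tt N9556 (iv F15981)) (tt N9562 D9562))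
theorem Q7368 : ∀ i, i < 7368 → P i := stepQ 7367 Q7367 (allL N7367 (tt N8626 (iv F14285)) (tt N9561 (iv F15993)) (tt N8611 (iv F14269)) (tt N5608 (iv D7367)) (tt N9563 D9563) (tt N9564 D9564))
theorem Q7369 : ∀ i, i < 7369 → P i := stepQ 7368 Q7368 (allL N7368 (tt N9554 (iv F15974)) (tt N9562 (iv F15994)) (tt N5609 F12239) (tt N9564 (iv F15998)) (tt N9565 D9565) (tt N5608 (iv D7368)))
theorem Q7370 : ∀ i, i < 7370 → P i := stepQ 7369 Q7369 (allL N7369 (tt N9555 (iv F15977)) (tt N5617 F12240) (tt N9565 (iv F16000)) (tt N5765 F12241) (tt N5609 (iv D7369)) (tt N9559 (iv F15991)))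
theorem Q7371 : ∀ i, i < 7371 → P i := stepQ 7370 Q7370 (allL N7370 (tt N9566 D9566) (tt N5610 (iv D7370)) (tt N9556 (iv F15980)) (tt N9567 D9567) (tt N5614 F12242) (tt N9568 D9568))
theorem Q7372 : ∀ i, i < 7372 → P i := stepQ 7371 Q7371 (allL N7371 (tt N9049 (iv F15047)) (tt N9567 (iv F16002)) (tt N9036 (iv F15023)) (tt N5610 (iv D7371)) (tt N9569 D9569) (tt N9035 F15022))
theorem Q7373 : ∀ i, i < 7373 → P i := stepQ 7372 Q7372 (allL N7372 (tt N9050 (iv F15048)) (tt N9568 (iv F16003)) (tt N5611 F12243) (tt N9035 (iv F15021)) (tt N9570 D9570) (tt N5610 (iv D7372)))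
theorem Q7374 : ∀ i, i < 7374 → P i := stepQ 7373 Q7373 (allL N7373 (tt N9051 (iv F15050)) (tt N9559 (iv F15989)) (tt N9570 (iv F16005)) (tt N9571 D9571) (tt N5611 (iv D7373)) (tt N5617 F12244))
theorem Q7375 : ∀ i, i < 7375 → P i := stepQ 7374 Q7374 (allL N7374 (tt N5647 F12245) (tt N5761 F12246) (tt N9572 D9572) (tt N5612 (iv D7374)) (tt N9571 (iv F16009)) (tt N5613 F12247))
theorem Q7376 : ∀ i, i < 7376 → P i := stepQ 7375 Q7375 (allL N7375 (tt N5646 F12248) (tt N9573 D9573) (tt N5613 (iv D7375)) (tt N9574 D9574) (tt N5619 F12249) (tt N9572 (iv F16012)))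
theorem Q7377 : ∀ i, i < 7377 → P i := stepQ 7376 Q7376 (allL N7376 (tt N5614 (iv D7376)) (tt N9543 (iv F15948)) (tt N9560 (iv F15992)) (tt N9575 D9575) (tt N9566 (iv F16001)) (tt N9576 D9576))
theorem Q7378 : ∀ i, i < 7378 → P i := stepQ 7377 Q7377 (allL N7377 (tt N9575 (iv F16019)) (tt N5615 F12250) (tt N9577 D9577) (tt N5614 (iv D7377)) (tt N9578 D9578) (tt N9221 (iv F15378)))
theorem Q7379 : ∀ i, i < 7379 → P i := stepQ 7378 Q7378 (allL N7378 (tt N9576 (iv F16020)) (tt N5616 F12251) (tt N9562 (iv F15995)) (tt N9221 (iv F15376)) (tt N9579 D9579) (tt N5614 (iv D7378)))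
theorem Q7380 : ∀ i, i < 7380 → P i := stepQ 7379 Q7379 (allL N7379 (tt N9423 (iv F15722)) (tt N9578 (iv F16021)) (tt N9222 (iv F15380)) (tt N9569 (iv F16004)) (tt N5615 (iv D7379)) (tt N9227 (iv F15386)))
theorem Q7381 : ∀ i, i < 7381 → P i := stepQ 7380 Q7380 (allL N7380 (tt N9422 (iv F15720)) (tt N9579 (iv F16022)) (tt N5617 F12252) (tt N9226 (iv F15384)) (tt N5616 (iv D7380)) (tt N9570 (iv F16006)))
theorem Q7382 : ∀ i, i < 7382 → P i := stepQ 7381 Q7381 (allL N7381 (tt N9544 (iv F15949)) (tt N5765 F12253) (tt N9580 D9580) (tt N5617 (iv D7381)) (tt N5618 F12254) (tt N9571 (iv F16010)))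
theorem Q7383 : ∀ i, i < 7383 → P i := stepQ 7382 Q7382 (allL N7382 (tt N9545 (iv F15952)) (tt N9581 D9581) (tt N5618 (iv D7382)) (tt N9552 (iv F15971)) (tt N9580 (iv F16023)) (tt N5619 F12255))
theorem Q7384 : ∀ i, i < 7384 → P i := stepQ 7383 Q7383 (allL N7383 (tt N9582 D9582) (tt N5619 (iv D7383)) (tt N5762 F12256) (tt N9583 D9583) (tt N9573 (iv F16015)) (tt N9581 (iv F16025)))
theorem Q7385 : ∀ i, i < 7385 → P i := stepQ 7384 Q7384 (allL N7384 (tt N9547 (iv F15956)) (tt N9583 (iv F16027)) (tt N9549 (iv F15963)) (tt N5619 (iv D7384)) (tt N9584 D9584) (tt N9552 (iv F15972)))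
theorem Q7386 : ∀ i, i < 7386 → P i := stepQ 7385 Q7385 (allL N7385 (tt N9549 (iv F15962)) (tt N6611 F12257) (tt N9547 (iv F15958)) (tt N5620 (iv D7385)) (tt N9585 D9585) (tt N5622 F12258))
theorem Q7387 : ∀ i, i < 7387 → P i := stepQ 7386 Q7386 (allL N7386 (tt N5621 (iv D7386)) (tt N9550 (iv F15965)) (tt N5628 F12259) (tt N9586 D9586) (tt N5623 F12260) (tt N6610 F12261))
theorem Q7388 : ∀ i, i < 7388 → P i := stepQ 7387 Q7387 (allL N7387 (tt N9586 (iv F16029)) (tt N5622 F12262) (tt N9587 D9587) (tt N5621 (iv D7387)) (tt N9588 D9588) (tt N6611 F12263))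
theorem Q7389 : ∀ i, i < 7389 → P i := stepQ 7388 Q7388 (allL N7388 (tt N9552 (iv F15970)) (tt N9589 D9589) (tt N5622 (iv D7388)) (tt N9545 (iv F15954)) (tt N9590 D9590) (tt N9547 (iv F15957)))
theorem Q7390 : ∀ i, i < 7390 → P i := stepQ 7389 Q7389 (allL N7389 (tt N9290 (iv F15502)) (tt N9588 (iv F16035)) (tt N9590 (iv F16037)) (tt N5625 F12264) (tt N5622 (iv D7389)) (tt N9591 D9591))
theorem Q7391 : ∀ i, i < 7391 → P i := stepQ 7390 Q7390 (allL N7390 (tt N5624 F12265) (tt N9292 (iv F15507)) (tt N9592 D9592) (tt N5623 (iv D7390)) (tt N9593 D9593) (tt N9309 (iv F15555)))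
theorem Q7392 : ∀ i, i < 7392 → P i := stepQ 7391 Q7391 (allL N7391 (tt N9592 (iv F16039)) (tt N9277 (iv F15474)) (tt N5624 (iv D7391)) (tt N9594 D9594) (tt N9595 D9595) (tt N9310 (iv F15557)))
theorem Q7393 : ∀ i, i < 7393 → P i := stepQ 7392 Q7392 (allL N7392 (tt N9593 (iv F16041)) (tt N5625 F12266) (tt N9595 (iv F16044)) (tt N9588 (iv F16036)) (tt N5624 (iv D7392)) (tt N9596 D9596))
theorem Q7394 : ∀ i, i < 7394 → P i := stepQ 7393 Q7393 (allL N7393 (tt N9291 (iv F15504)) (tt N9596 (iv F16045)) (tt N9278 (iv F15477)) (tt N9591 (iv F16038)) (tt N9312 (iv F15561)) (tt N5625 (iv D7393)))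
theorem Q7395 : ∀ i, i < 7395 → P i := stepQ 7394 Q7394 (allL N7394 (tt N6459 F12267) (tt N5626 (iv D7394)) (tt N5778 F12268) (tt N9597 D9597) (tt N5757 F12269) (tt N8609 (iv F14264)))
theorem Q7396 : ∀ i, i < 7396 → P i := stepQ 7395 Q7395 (allL N7395 (tt N5627 F12270) (tt N9597 (iv F16047)) (tt N9564 (iv F15997)) (tt N5626 (iv D7395)) (tt N6990 F12271) (tt N8611 (iv F14268)))
theorem Q7397 : ∀ i, i < 7397 → P i := stepQ 7396 Q7396 (allL N7396 (tt N9564 (iv F15996)) (tt N9598 D9598) (tt N5627 (iv D7396)) (tt N9554 (iv F15976)) (tt N9599 D9599) (tt N8626 (iv F14286)))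
theorem Q7398 : ∀ i, i < 7398 → P i := stepQ 7397 Q7397 (allL N7397 (tt N6990 F12272) (tt N6465 F12273) (tt N9599 (iv F16051)) (tt N5766 F12274) (tt N5627 (iv D7397)) (tt N9600 D9600))
theorem Q7399 : ∀ i, i < 7399 → P i := stepQ 7398 Q7398 (allL N7398 (tt N5630 F12275) (tt N9601 D9601) (tt N5629 (iv D7398)) (tt N9602 D9602) (tt N8398 (iv F13955)) (tt N6423 F12276))
theorem Q7400 : ∀ i, i < 7400 → P i := stepQ 7399 Q7399 (allL N7399 (tt N9602 (iv F16058)) (tt N6431 F12277) (tt N9603 D9603) (tt N5630 (iv D7399)) (tt N9604 D9604) (tt N6425 F12278))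
theorem Q7401 : ∀ i, i < 7401 → P i := stepQ 7400 Q7400 (allL N7400 (tt N7458 (iv F12341)) (tt N5758 F12279) (tt N9605 D9605) (tt N5631 (iv D7400)) (tt N7273 F12280) (tt N9606 D9606))
theorem Q7402 : ∀ i, i < 7402 → P i := stepQ 7401 Q7401 (allL N7401 (tt N7459 (iv F12344)) (tt N5759 F12281) (tt N5633 F12282) (tt N9606 (iv F16064)) (tt N7286 F12283) (tt N5631 (iv D7401)))
theorem Q7403 : ∀ i, i < 7403 → P i := stepQ 7402 Q7402 (allL N7402 (tt N8247 (iv F13680)) (tt N9607 D9607) (tt N5632 (iv D7402)) (tt N9608 D9608) (tt N5634 F12284) (tt N9609 D9609))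
theorem Q7404 : ∀ i, i < 7404 → P i := stepQ 7403 Q7403 (allL N7403 (tt N8248 (iv F13682)) (tt N5637 F12285) (tt N9609 (iv F16067)) (tt N5633 F12286) (tt N9610 D9610) (tt N5632 (iv D7403)))
theorem Q7405 : ∀ i, i < 7405 → P i := stepQ 7404 Q7404 (allL N7404 (tt N9611 D9611) (tt N5634 (iv D7404)) (tt N5638 F12287) (tt N9612 D9612) (tt N9607 (iv F16066)) (tt N9238 (iv F15401)))
theorem Q7406 : ∀ i, i < 7406 → P i := stepQ 7405 Q7405 (allL N7405 (tt N9015 (iv F14979)) (tt N9612 (iv F16073)) (tt N9131 (iv F15215)) (tt N5634 (iv D7405)) (tt N9613 D9613) (tt N9139 (iv F15230)))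
theorem Q7407 : ∀ i, i < 7407 → P i := stepQ 7406 Q7406 (allL N7406 (tt N9012 (iv F14972)) (tt N9238 (iv F15400)) (tt N5635 F12288) (tt N9139 (iv F15231)) (tt N9614 D9614) (tt N5634 (iv D7406)))
theorem Q7408 : ∀ i, i < 7408 → P i := stepQ 7407 Q7407 (allL N7407 (tt N5937 F12289) (tt N5639 F12290) (tt N9614 (iv F16075)) (tt N5936 F12291) (tt N5635 (iv D7407)) (tt N9610 (iv F16071)))
theorem Q7409 : ∀ i, i < 7409 → P i := stepQ 7408 Q7408 (allL N7408 (tt N9615 D9615) (tt N5636 (iv D7408)) (tt N9607 (iv F16065)) (tt N9616 D9616) (tt N5638 F12292) (tt N9617 D9617))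
theorem Q7410 : ∀ i, i < 7410 → P i := stepQ 7409 Q7409 (allL N7409 (tt N5649 F12293) (tt N9616 (iv F16078)) (tt N9618 D9618) (tt N5636 (iv D7409)) (tt N9200 (iv F15341)) (tt N9619 D9619))
theorem Q7411 : ∀ i, i < 7411 → P i := stepQ 7410 Q7410 (allL N7410 (tt N5650 F12294) (tt N9617 (iv F16079)) (tt N5637 F12295) (tt N9619 (iv F16085)) (tt N9240 (iv F15405)) (tt N5636 (iv D7410)))
theorem Q7412 : ∀ i, i < 7412 → P i := stepQ 7411 Q7411 (allL N7411 (tt N5651 F12296) (tt N9610 (iv F16069)) (tt N9240 (iv F15404)) (tt N9025 (iv F15002)) (tt N5637 (iv D7411)) (tt N5639 F12297))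
theorem Q7413 : ∀ i, i < 7413 → P i := stepQ 7412 Q7412 (allL N7412 (tt N5638 (iv D7412)) (tt N5652 F12298) (tt N9611 (iv F16072)) (tt N9201 (iv F15344)) (tt N9615 (iv F16077)) (tt N9237 (iv F15399)))
theorem Q7414 : ∀ i, i < 7414 → P i := stepQ 7413 Q7413 (allL N7413 (tt N5641 F12299) (tt N5657 F12300) (tt N9620 D9620) (tt N5640 (iv D7413)) (tt N9621 D9621) (tt N9273 (iv F15466)))
theorem Q7415 : ∀ i, i < 7415 → P i := stepQ 7414 Q7414 (allL N7414 (tt N9620 (iv F16086)) (tt N9310 (iv F15556)) (tt N5641 (iv D7414)) (tt N9622 D9622) (tt N9623 D9623) (tt N9277 (iv F15475)))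
theorem Q7416 : ∀ i, i < 7416 → P i := stepQ 7415 Q7415 (allL N7415 (tt N9621 (iv F16087)) (tt N5642 F12301) (tt N9623 (iv F16089)) (tt N9075 (iv F15093)) (tt N5641 (iv D7415)) (tt N9624 D9624))
theorem Q7417 : ∀ i, i < 7417 → P i := stepQ 7416 Q7416 (allL N7416 (tt N5662 F12302) (tt N9624 (iv F16090)) (tt N9312 (iv F15560)) (tt N9076 (iv F15095)) (tt N9278 (iv F15479)) (tt N5642 (iv D7416)))
theorem Q7418 : ∀ i, i < 7418 → P i := stepQ 7417 Q7417 (allL N7417 (tt N5644 F12303) (tt N5753 F12304) (tt N9625 D9625) (tt N5643 (iv D7417)) (tt N5751 F12305) (tt N9626 D9626))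
theorem Q7419 : ∀ i, i < 7419 → P i := stepQ 7418 Q7418 (allL N7418 (tt N5645 F12306) (tt N5754 F12307) (tt N7466 (iv F12357)) (tt N9626 (iv F16095)) (tt N7301 F12308) (tt N5643 (iv D7418)))
theorem Q7420 : ∀ i, i < 7420 → P i := stepQ 7419 Q7419 (allL N7419 (tt N9625 (iv F16091)) (tt N9627 D9627) (tt N5644 (iv D7419)) (tt N9628 D9628) (tt N9542 (iv F15947)) (tt N9629 D9629))
theorem Q7421 : ∀ i, i < 7421 → P i := stepQ 7420 Q7420 (allL N7420 (tt N9626 (iv F16093)) (tt N5647 F12309) (tt N9629 (iv F16097)) (tt N5645 F12310) (tt N9630 D9630) (tt N5644 (iv D7420)))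
theorem Q7422 : ∀ i, i < 7422 → P i := stepQ 7421 Q7421 (allL N7421 (tt N9631 D9631) (tt N5646 (iv D7421)) (tt N9627 (iv F16096)) (tt N9632 D9632) (tt N9546 (iv F15955)) (tt N9633 D9633))
theorem Q7423 : ∀ i, i < 7423 → P i := stepQ 7422 Q7422 (allL N7422 (tt N9574 (iv F16016)) (tt N9632 (iv F16099)) (tt N9619 (iv F16084)) (tt N5646 (iv D7422)) (tt N9634 D9634) (tt N9618 F16082))
theorem Q7424 : ∀ i, i < 7424 → P i := stepQ 7423 Q7423 (allL N7423 (tt N9572 (iv F16011)) (tt N9633 (iv F16100)) (tt N5647 F12311) (tt N9618 (iv F16081)) (tt N9635 D9635) (tt N5646 (iv D7423)))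
theorem Q7425 : ∀ i, i < 7425 → P i := stepQ 7424 Q7424 (allL N7424 (tt N9571 (iv F16007)) (tt N9630 (iv F16098)) (tt N9635 (iv F16101)) (tt N9051 (iv F15051)) (tt N5647 (iv D7424)) (tt N9544 (iv F15951)))
theorem Q7426 : ∀ i, i < 7426 → P i := stepQ 7425 Q7425 (allL N7425 (tt N5648 (iv D7425)) (tt N9615 (iv F16076)) (tt N9060 (iv F15064)) (tt N9636 D9636) (tt N5652 F12312) (tt N9637 D9637))
theorem Q7427 : ∀ i, i < 7427 → P i := stepQ 7426 Q7426 (allL N7426 (tt N9636 (iv F16102)) (tt N5649 F12313) (tt N9638 D9638) (tt N5648 (iv D7426)) (tt N9639 D9639) (tt N9640 D9640))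
theorem Q7428 : ∀ i, i < 7428 → P i := stepQ 7427 Q7427 (allL N7427 (tt N9637 (iv F16103)) (tt N5650 F12314) (tt N9059 (iv F15062)) (tt N9640 (iv F16107)) (tt N9641 D9641) (tt N5648 (iv D7427)))
theorem Q7429 : ∀ i, i < 7429 → P i := stepQ 7428 Q7428 (allL N7428 (tt N9618 (iv F16080)) (tt N9642 D9642) (tt N5649 (iv D7428)) (tt N9572 (iv F16013)) (tt N9643 D9643) (tt N9574 (iv F16017)))
theorem Q7430 : ∀ i, i < 7430 → P i := stepQ 7429 Q7429 (allL N7429 (tt N9200 (iv F15340)) (tt N9639 (iv F16104)) (tt N9643 (iv F16110)) (tt N5655 F12315) (tt N5649 (iv D7429)) (tt N9644 D9644))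
theorem Q7431 : ∀ i, i < 7431 → P i := stepQ 7430 Q7430 (allL N7430 (tt N9619 (iv F16083)) (tt N9640 (iv F16106)) (tt N9574 (iv F16018)) (tt N5650 F12316) (tt N9645 D9645) (tt N5649 (iv D7430)))
theorem Q7432 : ∀ i, i < 7432 → P i := stepQ 7431 Q7431 (allL N7431 (tt N9240 (iv F15403)) (tt N9641 (iv F16108)) (tt N5651 F12317) (tt N9646 D9646) (tt N5650 (iv D7431)) (tt N5656 F12318))
theorem Q7433 : ∀ i, i < 7433 → P i := stepQ 7432 Q7432 (allL N7432 (tt N5653 F12319) (tt N9201 (iv F15342)) (tt N9647 D9647) (tt N5652 (iv D7432)) (tt N9648 D9648) (tt N9214 (iv F15368)))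
theorem Q7434 : ∀ i, i < 7434 → P i := stepQ 7433 Q7433 (allL N7433 (tt N5654 F12320) (tt N9237 (iv F15398)) (tt N9045 (iv F15041)) (tt N9214 (iv F15367)) (tt N9649 D9649) (tt N5652 (iv D7433)))
theorem Q7435 : ∀ i, i < 7435 → P i := stepQ 7434 Q7434 (allL N7434 (tt N9647 (iv F16113)) (tt N9114 (iv F15182)) (tt N5653 (iv D7434)) (tt N9650 D9650) (tt N9651 D9651) (tt N9135 (iv F15225)))
theorem Q7436 : ∀ i, i < 7436 → P i := stepQ 7435 Q7435 (allL N7435 (tt N9648 (iv F16114)) (tt N5655 F12321) (tt N9651 (iv F16116)) (tt N9639 (iv F16105)) (tt N5653 (iv D7435)) (tt N9652 D9652))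
theorem Q7437 : ∀ i, i < 7437 → P i := stepQ 7436 Q7436 (allL N7436 (tt N9649 (iv F16115)) (tt N5656 F12322) (tt N9044 (iv F15039)) (tt N9653 D9653) (tt N5654 (iv D7436)) (tt N9641 (iv F16109)))
theorem Q7438 : ∀ i, i < 7438 → P i := stepQ 7437 Q7437 (allL N7437 (tt N9198 (iv F15335)) (tt N9652 (iv F16117)) (tt N9176 F15302) (tt N9644 (iv F16111)) (tt N9211 (iv F15360)) (tt N5655 (iv D7437)))
theorem Q7439 : ∀ i, i < 7439 → P i := stepQ 7438 Q7438 (allL N7438 (tt N9236 (iv F15395)) (tt N9653 (iv F16118)) (tt N9654 D9654) (tt N5656 (iv D7438)) (tt N9213 (iv F15365)) (tt N9646 (iv F16112)))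
theorem Q7440 : ∀ i, i < 7440 → P i := stepQ 7439 Q7439 (allL N7439 (tt N5658 F12323) (tt N9655 D9655) (tt N5657 (iv D7439)) (tt N9295 (iv F15522)) (tt N9656 D9656) (tt N9279 (iv F15482)))
theorem Q7441 : ∀ i, i < 7441 → P i := stepQ 7440 Q7440 (allL N7440 (tt N5659 F12324) (tt N9621 (iv F16088)) (tt N9656 (iv F16121)) (tt N9077 (iv F15098)) (tt N5657 (iv D7440)) (tt N9657 D9657))
theorem Q7442 : ∀ i, i < 7442 → P i := stepQ 7441 Q7441 (allL N7441 (tt N9658 D9658) (tt N5658 (iv D7441)) (tt N5660 F12325) (tt N9659 D9659) (tt N9660 D9660) (tt N9282 (iv F15491)))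
theorem Q7443 : ∀ i, i < 7443 → P i := stepQ 7442 Q7442 (allL N7442 (tt N9295 (iv F15520)) (tt N9659 (iv F16125)) (tt N9294 (iv F15517)) (tt N5658 (iv D7442)) (tt N9488 (iv F15853)) (tt N9283 (iv F15493)))
theorem Q7444 : ∀ i, i < 7444 → P i := stepQ 7443 Q7443 (allL N7443 (tt N9656 (iv F16120)) (tt N9660 (iv F16126)) (tt N5659 F12326) (tt N9661 D9661) (tt N5658 (iv D7443)) (tt N9662 D9662))
theorem Q7445 : ∀ i, i < 7445 → P i := stepQ 7444 Q7444 (allL N7444 (tt N9657 (iv F16122)) (tt N5662 F12327) (tt N9662 (iv F16131)) (tt N9078 (iv F15100)) (tt N9281 (iv F15489)) (tt N5659 (iv D7444)))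
theorem Q7446 : ∀ i, i < 7446 → P i := stepQ 7445 Q7445 (allL N7445 (tt N5660 (iv D7445)) (tt N9309 (iv F15554)) (tt N9658 (iv F16124)) (tt N9308 (iv F15551)) (tt N9663 D9663) (tt N9292 (iv F15509)))
theorem Q7447 : ∀ i, i < 7447 → P i := stepQ 7446 Q7446 (allL N7446 (tt N9663 (iv F16133)) (tt N5661 F12328) (tt N9660 (iv F16127)) (tt N9664 D9664) (tt N5660 (iv D7446)) (tt N9665 D9665))
theorem Q7448 : ∀ i, i < 7448 → P i := stepQ 7447 Q7447 (allL N7447 (tt N8533 (iv F14175)) (tt N9664 (iv F16134)) (tt N9666 D9666) (tt N5661 (iv D7447)) (tt N8531 (iv F14174)) (tt N9667 D9667))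
theorem Q7449 : ∀ i, i < 7449 → P i := stepQ 7448 Q7448 (allL N7448 (tt N9312 (iv F15559)) (tt N9665 (iv F16135)) (tt N5662 F12329) (tt N9667 (iv F16136)) (tt N9291 (iv F15506)) (tt N5661 (iv D7448)))
theorem Q7450 : ∀ i, i < 7450 → P i := stepQ 7449 Q7449 (allL N7449 (tt N5665 F12330) (tt N5663 (iv D7449)) (tt N9293 (iv F15511)) (tt N9668 D9668) (tt N9266 (iv F15451)) (tt N9293 (iv F15513)))
theorem Q7451 : ∀ i, i < 7451 → P i := stepQ 7450 Q7450 (allL N7450 (tt N5664 F12331) (tt N9668 (iv F16138)) (tt N9283 (iv F15494)) (tt N5663 (iv D7450)) (tt N9669 D9669) (tt N9294 (iv F15519)))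
theorem Q7452 : ∀ i, i < 7452 → P i := stepQ 7451 Q7451 (allL N7451 (tt N9283 (iv F15492)) (tt N9670 D9670) (tt N5664 (iv D7451)) (tt N9279 (iv F15483)) (tt N9671 D9671) (tt N9295 (iv F15523)))
theorem Q7453 : ∀ i, i < 7453 → P i := stepQ 7452 Q7452 (allL N7452 (tt N9669 (iv F16140)) (tt N5668 F12332) (tt N9671 (iv F16143)) (tt N9272 (iv F15462)) (tt N5664 (iv D7452)) (tt N9672 D9672))
theorem Q7454 : ∀ i, i < 7454 → P i := stepQ 7453 Q7453 (allL N7453 (tt N9668 (iv F16137)) (tt N5666 F12333) (tt N9673 D9673) (tt N5665 (iv D7453)) (tt N9674 D9674) (tt N6572 F12334))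
theorem Q7455 : ∀ i, i < 7455 → P i := stepQ 7454 Q7454 (allL N7454 (tt N5668 F12335) (tt N9674 (iv F16147)) (tt N6542 F12336) (tt N9496 (iv F15870)) (tt N5666 (iv D7454)) (tt N9675 D9675))
theorem Q7456 : ∀ i, i < 7456 → P i := stepQ 7455 Q7455 (allL N7455 (tt N9676 D9676) (tt N5667 (iv D7455)) (tt N9670 (iv F16141)) (tt N6522 F12337) (tt N9677 D9677) (tt N6554 F12338))
theorem Q7457 : ∀ i, i < 7457 → P i := stepQ 7456 Q7456 (allL N7456 (tt N6542 F12339) (tt N9677 (iv F16154)) (tt N5668 F12340) (tt N9678 D9678) (tt N5667 (iv D7456)) (tt N9679 D9679))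
theorem Q7458 : ∀ i, i < 7458 → P i := stepQ 7457 Q7457 (allL N7457 (tt N9675 (iv F16148)) (tt N9672 (iv F16144)) (tt N9679 (iv F16158)) (tt N9499 (iv F15873)) (tt N9424 (iv F15727)) (tt N5668 (iv D7457)))
theorem Q7459 : ∀ i, i < 7459 → P i := stepQ 7458 Q7458 (allL N7458 (tt N7400 F12341) (tt N5672 F12342) (tt N9680 D9680) (tt N5669 (iv D7458)) (tt N5670 F12343) (tt N9681 D9681))
theorem Q7460 : ∀ i, i < 7460 → P i := stepQ 7459 Q7459 (allL N7459 (tt N7401 F12344) (tt N5673 F12345) (tt N6321 F12346) (tt N9681 (iv F16164)) (tt N6557 F12347) (tt N5669 (iv D7459)))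
theorem Q7461 : ∀ i, i < 7461 → P i := stepQ 7460 Q7460 (allL N7460 (tt N9442 (iv F15764)) (tt N9682 D9682) (tt N5670 (iv D7460)) (tt N9683 D9683) (tt N9680 (iv F16161)) (tt N9684 D9684))
theorem Q7462 : ∀ i, i < 7462 → P i := stepQ 7461 Q7461 (allL N7461 (tt N9443 (iv F15765)) (tt N5675 F12348) (tt N9684 (iv F16166)) (tt N5671 F12349) (tt N9685 D9685) (tt N5670 (iv D7461)))
theorem Q7463 : ∀ i, i < 7463 → P i := stepQ 7462 Q7462 (allL N7462 (tt N5679 F12350) (tt N9686 D9686) (tt N5672 (iv D7462)) (tt N9687 D9687) (tt N5674 F12351) (tt N9688 D9688))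
theorem Q7464 : ∀ i, i < 7464 → P i := stepQ 7463 Q7463 (allL N7463 (tt N5680 F12352) (tt N9681 (iv F16163)) (tt N9688 (iv F16171)) (tt N5673 F12353) (tt N9689 D9689) (tt N5672 (iv D7463)))
theorem Q7465 : ∀ i, i < 7465 → P i := stepQ 7464 Q7464 (allL N7464 (tt N9690 D9690) (tt N5674 (iv D7464)) (tt N9682 (iv F16165)) (tt N9439 (iv F15759)) (tt N9686 (iv F16168)) (tt N9438 F15756))
theorem Q7466 : ∀ i, i < 7466 → P i := stepQ 7465 Q7465 (allL N7465 (tt N5684 F12354) (tt N9685 (iv F16167)) (tt N9440 (iv F15761)) (tt N9467 (iv F15816)) (tt N5675 (iv D7465)) (tt N9689 (iv F16174)))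
theorem Q7467 : ∀ i, i < 7467 → P i := stepQ 7466 Q7466 (allL N7466 (tt N6307 F12355) (tt N5678 F12356) (tt N7418 F12357) (tt N8842 (iv F14681)) (tt N6546 F12358) (tt N5676 (iv D7466)))
theorem Q7468 : ∀ i, i < 7468 → P i := stepQ 7467 Q7467 (allL N7467 (tt N6314 F12359) (tt N9691 D9691) (tt N5677 (iv D7467)) (tt N9692 D9692) (tt N6310 F12360) (tt N9693 D9693))
theorem Q7469 : ∀ i, i < 7469 → P i := stepQ 7468 Q7468 (allL N7468 (tt N6315 F12361) (tt N8842 (iv F14680)) (tt N9693 (iv F16179)) (tt N5678 F12362) (tt N9694 D9694) (tt N5677 (iv D7468)))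
theorem Q7470 : ∀ i, i < 7470 → P i := stepQ 7469 Q7469 (allL N7469 (tt N9695 D9695) (tt N5679 (iv D7469)) (tt N9446 (iv F15771)) (tt N9696 D9696) (tt N5681 F12363) (tt N9697 D9697))
theorem Q7471 : ∀ i, i < 7471 → P i := stepQ 7470 Q7470 (allL N7470 (tt N9687 (iv F16169)) (tt N9696 (iv F16184)) (tt N9698 D9698) (tt N5679 (iv D7470)) (tt N9699 D9699) (tt N9700 D9700))
theorem Q7472 : ∀ i, i < 7472 → P i := stepQ 7471 Q7471 (allL N7471 (tt N9688 (iv F16170)) (tt N9697 (iv F16185)) (tt N5680 F12364) (tt N9700 (iv F16190)) (tt N9701 D9701) (tt N5679 (iv D7471)))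
theorem Q7473 : ∀ i, i < 7473 → P i := stepQ 7472 Q7472 (allL N7472 (tt N9689 (iv F16172)) (tt N9449 (iv F15774)) (tt N9701 (iv F16191)) (tt N9471 (iv F15828)) (tt N5680 (iv D7472)) (tt N5684 F12365))
theorem Q7474 : ∀ i, i < 7474 → P i := stepQ 7473 Q7473 (allL N7473 (tt N5681 (iv D7473)) (tt N9690 (iv F16175)) (tt N9450 (iv F15777)) (tt N9702 D9702) (tt N9695 (iv F16183)) (tt N9703 D9703))
theorem Q7475 : ∀ i, i < 7475 → P i := stepQ 7474 Q7474 (allL N7474 (tt N9702 (iv F16193)) (tt N5682 F12366) (tt N9704 D9704) (tt N5681 (iv D7474)) (tt N9705 D9705) (tt N9429 (iv F15739)))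
theorem Q7476 : ∀ i, i < 7476 → P i := stepQ 7475 Q7475 (allL N7475 (tt N9703 (iv F16194)) (tt N5683 F12367) (tt N9452 (iv F15780)) (tt N9429 (iv F15738)) (tt N9706 D9706) (tt N5681 (iv D7475)))
theorem Q7477 : ∀ i, i < 7477 → P i := stepQ 7476 Q7476 (allL N7476 (tt N9441 (iv F15762)) (tt N9705 (iv F16195)) (tt N9430 (iv F15741)) (tt N9699 (iv F16188)) (tt N5682 (iv D7476)) (tt N9707 D9707))
theorem Q7478 : ∀ i, i < 7478 → P i := stepQ 7477 Q7477 (allL N7477 (tt N9440 (iv F15760)) (tt N9706 (iv F16196)) (tt N5684 F12368) (tt N9708 D9708) (tt N5683 (iv D7477)) (tt N9701 (iv F16192)))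
theorem Q7479 : ∀ i, i < 7479 → P i := stepQ 7478 Q7478 (allL N7478 (tt N9425 (iv F15728)) (tt N9709 D9709) (tt N5685 (iv D7478)) (tt N9710 D9710) (tt N5841 F12369) (tt N9711 D9711))
theorem Q7480 : ∀ i, i < 7480 → P i := stepQ 7479 Q7479 (allL N7479 (tt N9426 (iv F15730)) (tt N5688 F12370) (tt N9711 (iv F16199)) (tt N5686 F12371) (tt N9712 D9712) (tt N5685 (iv D7479)))
theorem Q7481 : ∀ i, i < 7481 → P i := stepQ 7480 Q7480 (allL N7480 (tt N9713 D9713) (tt N5687 (iv D7480)) (tt N9709 (iv F16197)) (tt N9335 (iv F15598)) (tt N5843 F12372) (tt N9334 F15595))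
theorem Q7482 : ∀ i, i < 7482 → P i := stepQ 7481 Q7481 (allL N7481 (tt N5694 F12373) (tt N9712 (iv F16200)) (tt N9336 (iv F15600)) (tt N5700 F12374) (tt N5688 (iv D7481)) (tt N5846 F12375))
theorem Q7483 : ∀ i, i < 7483 → P i := stepQ 7482 Q7482 (allL N7482 (tt N9714 D9714) (tt N5689 (iv D7482)) (tt N9433 (iv F15748)) (tt N9715 D9715) (tt N5691 F12376) (tt N9716 D9716))
theorem Q7484 : ∀ i, i < 7484 → P i := stepQ 7483 Q7483 (allL N7483 (tt N5844 F12377) (tt N9715 (iv F16207)) (tt N5851 F12378) (tt N5689 (iv D7483)) (tt N9717 D9717) (tt N5850 (iv F12379)))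
theorem Q7485 : ∀ i, i < 7485 → P i := stepQ 7484 Q7484 (allL N7484 (tt N5845 F12380) (tt N9716 (iv F16209)) (tt N5690 F12381) (tt N5850 F12382) (tt N9718 D9718) (tt N5689 (iv D7484)))
theorem Q7486 : ∀ i, i < 7486 → P i := stepQ 7485 Q7485 (allL N7485 (tt N5846 F12383) (tt N9436 (iv F15751)) (tt N9718 (iv F16216)) (tt N5716 F12384) (tt N5690 (iv D7485)) (tt N5694 F12385))
theorem Q7487 : ∀ i, i < 7487 → P i := stepQ 7486 Q7486 (allL N7486 (tt N5691 (iv D7486)) (tt N9713 (iv F16203)) (tt N9437 (iv F15754)) (tt N9719 D9719) (tt N9714 (iv F16206)) (tt N9720 D9720))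
theorem Q7488 : ∀ i, i < 7488 → P i := stepQ 7487 Q7487 (allL N7487 (tt N9719 (iv F16219)) (tt N5692 F12386) (tt N9721 D9721) (tt N5691 (iv D7487)) (tt N9722 D9722) (tt N9329 (iv F15581)))
theorem Q7489 : ∀ i, i < 7489 → P i := stepQ 7488 Q7488 (allL N7488 (tt N9720 (iv F16220)) (tt N5693 F12387) (tt N9439 (iv F15758)) (tt N9329 (iv F15579)) (tt N9723 D9723) (tt N5691 (iv D7488)))
theorem Q7490 : ∀ i, i < 7490 → P i := stepQ 7489 Q7489 (allL N7489 (tt N9337 (iv F15603)) (tt N9722 (iv F16221)) (tt N9330 (iv F15583)) (tt N9717 (iv F16213)) (tt N5692 (iv D7489)) (tt N9418 (iv F15715)))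
theorem Q7491 : ∀ i, i < 7491 → P i := stepQ 7490 Q7490 (allL N7490 (tt N9336 (iv F15599)) (tt N9723 (iv F16222)) (tt N5694 F12388) (tt N9417 (iv F15710)) (tt N5693 (iv D7490)) (tt N9718 (iv F16218)))
theorem Q7492 : ∀ i, i < 7492 → P i := stepQ 7491 Q7491 (allL N7491 (tt N5697 F12389) (tt N9724 D9724) (tt N5695 (iv D7491)) (tt N9724 F16225) (tt N7214 F12390) (tt N9725 D9725))
theorem Q7493 : ∀ i, i < 7493 → P i := stepQ 7492 Q7492 (allL N7492 (tt N5698 F12391) (tt N5704 F12392) (tt N9725 (iv F16228)) (tt N5696 F12393) (tt N9726 D9726) (tt N5695 (iv D7492)))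
theorem Q7494 : ∀ i, i < 7494 → P i := stepQ 7493 Q7493 (allL N7493 (tt N9727 D9727) (tt N5697 (iv D7493)) (tt N5699 F12394) (tt N9727 F16236) (tt N7216 F12395) (tt N5746 (iv F12396)))
theorem Q7495 : ∀ i, i < 7495 → P i := stepQ 7494 Q7494 (allL N7494 (tt N9724 (iv F16226)) (tt N9727 (iv F16232)) (tt N9728 D9728) (tt N5697 (iv D7494)) (tt N9729 D9729) (tt N9730 D9730))
theorem Q7496 : ∀ i, i < 7496 → P i := stepQ 7495 Q7495 (allL N7495 (tt N9725 (iv F16227)) (tt N5746 F12397) (tt N5698 F12398) (tt N9730 (iv F16243)) (tt N9731 D9731) (tt N5697 (iv D7495)))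
theorem Q7497 : ∀ i, i < 7497 → P i := stepQ 7496 Q7496 (allL N7496 (tt N9726 (iv F16229)) (tt N5700 F12399) (tt N9731 (iv F16245)) (tt N9712 (iv F16201)) (tt N5698 (iv D7496)) (tt N7219 F12400))
theorem Q7498 : ∀ i, i < 7498 → P i := stepQ 7497 Q7497 (allL N7497 (tt N5699 (iv D7497)) (tt N5717 F12401) (tt N9727 (iv F16233)) (tt N5745 F12402) (tt N7220 F12403) (tt N5744 F12404))
theorem Q7499 : ∀ i, i < 7499 → P i := stepQ 7498 Q7498 (allL N7498 (tt N5707 F12405) (tt N9732 D9732) (tt N5701 (iv D7498)) (tt N9733 D9733) (tt N5703 F12406) (tt N9734 D9734))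
theorem Q7500 : ∀ i, i < 7500 → P i := stepQ 7499 Q7499 (allL N7499 (tt N5708 F12407) (tt N7215 F12408) (tt N9734 (iv F16251)) (tt N5702 F12409) (tt N9735 D9735) (tt N5701 (iv D7499)))
theorem Q7501 : ∀ i, i < 7501 → P i := stepQ 7500 Q7500 (allL N7500 (tt N9728 (iv F16237)) (tt N5703 (iv D7500)) (tt N9724 (iv F16223)) (tt N9460 (iv F15799)) (tt N9732 (iv F16248)) (tt N9459 F15796))
theorem Q7502 : ∀ i, i < 7502 → P i := stepQ 7501 Q7501 (allL N7501 (tt N5711 F12410) (tt N9459 (iv F15795)) (tt N5704 F12411) (tt N5724 F12412) (tt N9736 D9736) (tt N5703 (iv D7501)))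
theorem Q7503 : ∀ i, i < 7503 → P i := stepQ 7502 Q7502 (allL N7502 (tt N5712 F12413) (tt N9726 (iv F16230)) (tt N9736 (iv F16256)) (tt N9430 (iv F15742)) (tt N5704 (iv D7502)) (tt N9735 (iv F16254)))
theorem Q7504 : ∀ i, i < 7504 → P i := stepQ 7503 Q7503 (allL N7503 (tt N6529 F12414) (tt N9737 D9737) (tt N5705 (iv D7503)) (tt N9738 D9738) (tt N6517 F12415) (tt N9739 D9739))
theorem Q7505 : ∀ i, i < 7505 → P i := stepQ 7504 Q7504 (allL N7504 (tt N6530 F12416) (tt N7204 F12417) (tt N9739 (iv F16262)) (tt N5706 F12418) (tt N9740 D9740) (tt N5705 (iv D7504)))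
theorem Q7506 : ∀ i, i < 7506 → P i := stepQ 7505 Q7505 (allL N7505 (tt N9741 D9741) (tt N5707 (iv D7505)) (tt N5713 F12419) (tt N9742 D9742) (tt N5709 F12420) (tt N9743 D9743))
theorem Q7507 : ∀ i, i < 7507 → P i := stepQ 7506 Q7506 (allL N7506 (tt N9733 (iv F16249)) (tt N9742 (iv F16270)) (tt N9744 D9744) (tt N5707 (iv D7506)) (tt N9745 D9745) (tt N9746 D9746))
theorem Q7508 : ∀ i, i < 7508 → P i := stepQ 7507 Q7507 (allL N7507 (tt N9734 (iv F16250)) (tt N9743 (iv F16271)) (tt N5708 F12421) (tt N9746 (iv F16277)) (tt N9747 D9747) (tt N5707 (iv D7507)))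
theorem Q7509 : ∀ i, i < 7509 → P i := stepQ 7508 Q7508 (allL N7508 (tt N9735 (iv F16252)) (tt N5716 F12422) (tt N9747 (iv F16278)) (tt N9436 (iv F15752)) (tt N5708 (iv D7508)) (tt N5712 F12423))
theorem Q7510 : ∀ i, i < 7510 → P i := stepQ 7509 Q7509 (allL N7509 (tt N5709 (iv D7509)) (tt N9728 (iv F16238)) (tt N5717 F12424) (tt N9748 D9748) (tt N9741 (iv F16269)) (tt N9749 D9749))
theorem Q7511 : ∀ i, i < 7511 → P i := stepQ 7510 Q7510 (allL N7510 (tt N9748 (iv F16280)) (tt N5710 F12425) (tt N9750 D9750) (tt N5709 (iv D7510)) (tt N9751 D9751) (tt N9752 D9752))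
theorem Q7512 : ∀ i, i < 7512 → P i := stepQ 7511 Q7511 (allL N7511 (tt N9749 (iv F16281)) (tt N5711 F12426) (tt N5719 F12427) (tt N9752 (iv F16285)) (tt N9753 D9753) (tt N5709 (iv D7511)))
theorem Q7513 : ∀ i, i < 7513 → P i := stepQ 7512 Q7512 (allL N7512 (tt N9509 (iv F15889)) (tt N9751 (iv F16283)) (tt N9508 (iv F15888)) (tt N9745 (iv F16275)) (tt N5710 (iv D7512)) (tt N9754 D9754))
theorem Q7514 : ∀ i, i < 7514 → P i := stepQ 7513 Q7513 (allL N7513 (tt N5724 F12428) (tt N9752 (iv F16284)) (tt N5723 F12429) (tt N5711 F12430) (tt N9755 D9755) (tt N5710 (iv D7513)))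
theorem Q7515 : ∀ i, i < 7515 → P i := stepQ 7514 Q7514 (allL N7514 (tt N9736 (iv F16255)) (tt N9753 (iv F16286)) (tt N5712 F12431) (tt N9756 D9756) (tt N5711 (iv D7514)) (tt N9747 (iv F16279)))
theorem Q7516 : ∀ i, i < 7516 → P i := stepQ 7515 Q7515 (allL N7515 (tt N5713 (iv D7515)) (tt N7220 F12432) (tt N9741 (iv F16268)) (tt N9757 D9757) (tt N5717 F12433) (tt N9758 D9758))
theorem Q7517 : ∀ i, i < 7517 → P i := stepQ 7516 Q7516 (allL N7516 (tt N9757 (iv F16290)) (tt N5714 F12434) (tt N9759 D9759) (tt N5713 (iv D7516)) (tt N9760 D9760) (tt N6296 (iv F12435)))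
theorem Q7518 : ∀ i, i < 7518 → P i := stepQ 7517 Q7517 (allL N7517 (tt N9758 (iv F16293)) (tt N5715 F12436) (tt N9743 (iv F16272)) (tt N6296 F12437) (tt N9761 D9761) (tt N5713 (iv D7517)))
theorem Q7519 : ∀ i, i < 7519 → P i := stepQ 7518 Q7518 (allL N7518 (tt N5750 F12438) (tt N9760 (iv F16298)) (tt N6297 F12439) (tt N5720 F12440) (tt N5714 (iv D7518)) (tt N6594 F12441))
theorem Q7520 : ∀ i, i < 7520 → P i := stepQ 7519 Q7519 (allL N7519 (tt N5749 F12442) (tt N9761 (iv F16301)) (tt N5716 F12443) (tt N6593 F12444) (tt N5715 (iv D7519)) (tt N5721 F12445))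
theorem Q7521 : ∀ i, i < 7521 → P i := stepQ 7520 Q7520 (allL N7520 (tt N5718 F12446) (tt N5745 F12447) (tt N9762 D9762) (tt N5717 (iv D7520)) (tt N9763 D9763) (tt N5730 (iv F12448)))
theorem Q7522 : ∀ i, i < 7522 → P i := stepQ 7521 Q7521 (allL N7521 (tt N5719 F12449) (tt N5744 F12450) (tt N9749 (iv F16282)) (tt N5730 F12451) (tt N9764 D9764) (tt N5717 (iv D7521)))
theorem Q7523 : ∀ i, i < 7523 → P i := stepQ 7522 Q7522 (allL N7522 (tt N9762 (iv F16304)) (tt N5728 F12452) (tt N5718 (iv D7522)) (tt N9505 (iv F15883)) (tt N9765 D9765) (tt N5726 F12453))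
theorem Q7524 : ∀ i, i < 7524 → P i := stepQ 7523 Q7523 (allL N7523 (tt N9763 (iv F16306)) (tt N5720 F12454) (tt N9765 (iv F16313)) (tt N9760 (iv F16299)) (tt N5718 (iv D7523)) (tt N6592 F12455))
theorem Q7525 : ∀ i, i < 7525 → P i := stepQ 7524 Q7524 (allL N7524 (tt N9764 (iv F16309)) (tt N5721 F12456) (tt N9753 (iv F16287)) (tt N6591 F12457) (tt N5719 (iv D7524)) (tt N9761 (iv F16303)))
theorem Q7526 : ∀ i, i < 7526 → P i := stepQ 7525 Q7525 (allL N7525 (tt N5725 F12458) (tt N9485 (iv F15846)) (tt N9755 (iv F16289)) (tt N6573 F12459) (tt N5723 (iv D7525)) (tt N9766 D9766))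
theorem Q7527 : ∀ i, i < 7527 → P i := stepQ 7526 Q7526 (allL N7526 (tt N9755 (iv F16288)) (tt N9457 (iv F15790)) (tt N5725 F12460) (tt N9767 D9767) (tt N5724 (iv D7526)) (tt N9768 D9768))
theorem Q7528 : ∀ i, i < 7528 → P i := stepQ 7527 Q7527 (allL N7527 (tt N9766 (iv F16315)) (tt N9462 (iv F15802)) (tt N9768 (iv F16317)) (tt N9424 (iv F15726)) (tt N9510 (iv F15892)) (tt N5725 (iv D7527)))
theorem Q7529 : ∀ i, i < 7529 → P i := stepQ 7528 Q7528 (allL N7528 (tt N5726 (iv D7528)) (tt N9502 (iv F15877)) (tt N5730 F12461) (tt N9769 D9769) (tt N6581 F12462) (tt N9762 (iv F16305)))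
theorem Q7530 : ∀ i, i < 7530 → P i := stepQ 7529 Q7529 (allL N7529 (tt N9769 (iv F16318)) (tt N5727 F12463) (tt N9497 (iv F15871)) (tt N5726 (iv D7529)) (tt N9770 D9770) (tt N9505 (iv F15884)))
theorem Q7531 : ∀ i, i < 7531 → P i := stepQ 7530 Q7530 (allL N7530 (tt N9504 (iv F15881)) (tt N9770 (iv F16319)) (tt N9272 (iv F15461)) (tt N6585 F12464) (tt N5727 (iv D7530)) (tt N9771 D9771))
theorem Q7532 : ∀ i, i < 7532 → P i := stepQ 7531 Q7531 (allL N7531 (tt N9252 (iv F15416)) (tt N9765 (iv F16312)) (tt N5729 F12465) (tt N9772 D9772) (tt N5728 (iv D7531)) (tt N6587 F12466))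
theorem Q7533 : ∀ i, i < 7533 → P i := stepQ 7532 Q7532 (allL N7532 (tt N5731 (iv D7532)) (tt N5736 F12467) (tt N9502 (iv F15878)) (tt N9262 (iv F15442)) (tt N7745 (iv F12781)) (tt N9262 (iv F15443)))
theorem Q7534 : ∀ i, i < 7534 → P i := stepQ 7533 Q7533 (allL N7533 (tt N5732 (iv D7533)) (tt N7745 (iv F12780)) (tt N5739 F12468) (tt N9773 D9773) (tt N5736 F12469) (tt N9774 D9774))
theorem Q7535 : ∀ i, i < 7535 → P i := stepQ 7534 Q7534 (allL N7534 (tt N9773 (iv F16323)) (tt N5733 F12470) (tt N9775 D9775) (tt N5732 (iv D7534)) (tt N9776 D9776) (tt N7743 (iv F12776)))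
theorem Q7536 : ∀ i, i < 7536 → P i := stepQ 7535 Q7535 (allL N7535 (tt N9774 (iv F16324)) (tt N5734 F12471) (tt N5741 F12472) (tt N7743 (iv F12775)) (tt N9777 D9777) (tt N5732 (iv D7535)))
theorem Q7537 : ∀ i, i < 7537 → P i := stepQ 7536 Q7536 (allL N7536 (tt N7748 (iv F12784)) (tt N9776 (iv F16326)) (tt N7744 (iv F12777)) (tt N5738 F12473) (tt N5733 (iv D7536)) (tt N9778 D9778))
theorem Q7538 : ∀ i, i < 7538 → P i := stepQ 7537 Q7537 (allL N7537 (tt N7749 (iv F12786)) (tt N9777 (iv F16328)) (tt N5735 F12474) (tt N9778 (iv F16332)) (tt N5734 (iv D7537)) (tt N5738 F12475))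
theorem Q7539 : ∀ i, i < 7539 → P i := stepQ 7538 Q7538 (allL N7538 (tt N5737 F12476) (tt N9262 (iv F15441)) (tt N5745 (iv F12477)) (tt N5736 (iv D7538)) (tt N9779 D9779) (tt N5736 (iv F12478)))
theorem Q7540 : ∀ i, i < 7540 → P i := stepQ 7539 Q7539 (allL N7539 (tt N9779 (iv F16334)) (tt N5738 F12479) (tt N5748 F12480) (tt N9776 (iv F16327)) (tt N5737 (iv D7539)) (tt N9777 (iv F16330)))
theorem Q7541 : ∀ i, i < 7541 → P i := stepQ 7540 Q7540 (allL N7540 (tt N5740 F12481) (tt N6588 F12482) (tt N9780 D9780) (tt N5739 (iv D7540)) (tt N9781 D9781) (tt N5797 (iv F12483)))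
theorem Q7542 : ∀ i, i < 7542 → P i := stepQ 7541 Q7541 (allL N7541 (tt N5741 F12484) (tt N6589 F12485) (tt N9774 (iv F16325)) (tt N5797 F12486) (tt N9782 D9782) (tt N5739 (iv D7541)))
theorem Q7543 : ∀ i, i < 7543 → P i := stepQ 7542 Q7542 (allL N7542 (tt N9780 (iv F16336)) (tt N5791 F12487) (tt N5740 (iv D7542)) (tt N9783 D9783) (tt N9784 D9784) (tt N5789 F12488))
theorem Q7544 : ∀ i, i < 7544 → P i := stepQ 7543 Q7543 (allL N7543 (tt N9781 (iv F16338)) (tt N5742 F12489) (tt N9784 (iv F16347)) (tt N5747 F12490) (tt N5740 (iv D7543)) (tt N8967 (iv F14877)))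
theorem Q7545 : ∀ i, i < 7545 → P i := stepQ 7544 Q7544 (allL N7544 (tt N9782 (iv F16341)) (tt N5743 F12491) (tt N9777 (iv F16329)) (tt N8968 (iv F14879)) (tt N5741 (iv D7544)) (tt N5748 F12492))
theorem Q7546 : ∀ i, i < 7546 → P i := stepQ 7545 Q7545 (allL N7545 (tt N5746 F12493) (tt N9730 (iv F16242)) (tt N5744 (iv D7545)) (tt N5746 F12494) (tt N9785 D9785) (tt N9727 (iv F16235)))
theorem Q7547 : ∀ i, i < 7547 → P i := stepQ 7546 Q7546 (allL N7546 (tt N5747 F12495) (tt N9764 (iv F16310)) (tt N9785 (iv F16349)) (tt N9781 (iv F16340)) (tt N5744 (iv D7546)) (tt N9786 D9786))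
theorem Q7548 : ∀ i, i < 7548 → P i := stepQ 7547 Q7547 (allL N7547 (tt N5748 F12496) (tt N9763 (iv F16307)) (tt N9779 (iv F16335)) (tt N9787 D9787) (tt N5745 (iv D7547)) (tt N9782 (iv F16343)))
theorem Q7549 : ∀ i, i < 7549 → P i := stepQ 7548 Q7548 (allL N7548 (tt N9785 (iv F16348)) (tt N9731 (iv F16244)) (tt N5747 F12497) (tt N9788 D9788) (tt N5746 (iv D7548)) (tt N9789 D9789))
theorem Q7550 : ∀ i, i < 7550 → P i := stepQ 7549 Q7549 (allL N7549 (tt N9786 (iv F16350)) (tt N5749 F12498) (tt N9789 (iv F16355)) (tt N8967 (iv F14876)) (tt N7222 F12499) (tt N5747 (iv D7549)))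
theorem Q7551 : ∀ i, i < 7551 → P i := stepQ 7550 Q7550 (allL N7550 (tt N9787 (iv F16352)) (tt N5750 F12500) (tt N9790 D9790) (tt N5748 (iv D7550)) (tt N7221 F12501) (tt N8968 (iv F14880)))
theorem Q7552 : ∀ i, i < 7552 → P i := stepQ 7551 Q7551 (allL N7551 (tt N9542 (iv F15946)) (tt N9791 D9791) (tt N5751 (iv D7551)) (tt N9792 D9792) (tt N9625 (iv F16092)) (tt N9793 D9793))
theorem Q7553 : ∀ i, i < 7553 → P i := stepQ 7552 Q7552 (allL N7552 (tt N9541 (iv F15943)) (tt N5756 F12502) (tt N9793 (iv F16361)) (tt N5752 F12503) (tt N9794 D9794) (tt N5751 (iv D7552)))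
theorem Q7554 : ∀ i, i < 7554 → P i := stepQ 7553 Q7553 (allL N7553 (tt N5760 F12504) (tt N9795 D9795) (tt N5753 (iv D7553)) (tt N9796 D9796) (tt N5755 F12505) (tt N9797 D9797))
theorem Q7555 : ∀ i, i < 7555 → P i := stepQ 7554 Q7554 (allL N7554 (tt N5761 F12506) (tt N9626 (iv F16094)) (tt N9797 (iv F16367)) (tt N5754 F12507) (tt N9798 D9798) (tt N5753 (iv D7554)))
theorem Q7556 : ∀ i, i < 7556 → P i := stepQ 7555 Q7555 (allL N7555 (tt N9799 D9799) (tt N5755 (iv D7555)) (tt N9791 (iv F16358)) (tt N6504 F12508) (tt N9795 (iv F16363)) (tt N6503 F12509))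
theorem Q7557 : ∀ i, i < 7557 → P i := stepQ 7556 Q7556 (allL N7556 (tt N5765 F12510) (tt N9794 (iv F16362)) (tt N6505 F12511) (tt N9555 (iv F15978)) (tt N5756 (iv D7556)) (tt N9798 (iv F16372)))
theorem Q7558 : ∀ i, i < 7558 → P i := stepQ 7557 Q7557 (allL N7557 (tt N7277 F12512) (tt N9800 D9800) (tt N5758 (iv D7557)) (tt N9801 D9801) (tt N7275 F12513) (tt N9802 D9802))
theorem Q7559 : ∀ i, i < 7559 → P i := stepQ 7558 Q7558 (allL N7558 (tt N7278 F12514) (tt N9606 (iv F16063)) (tt N9802 (iv F16379)) (tt N5759 F12515) (tt N9803 D9803) (tt N5758 (iv D7558)))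
theorem Q7560 : ∀ i, i < 7560 → P i := stepQ 7559 Q7559 (allL N7559 (tt N9804 D9804) (tt N5760 (iv D7559)) (tt N9573 (iv F16014)) (tt N9805 D9805) (tt N5762 F12516) (tt N9806 D9806))
theorem Q7561 : ∀ i, i < 7561 → P i := stepQ 7560 Q7560 (allL N7560 (tt N9796 (iv F16364)) (tt N9805 (iv F16384)) (tt N9807 D9807) (tt N5760 (iv D7560)) (tt N9808 D9808) (tt N9809 D9809))
theorem Q7562 : ∀ i, i < 7562 → P i := stepQ 7561 Q7561 (allL N7561 (tt N9797 (iv F16366)) (tt N9806 (iv F16385)) (tt N5761 F12517) (tt N9809 (iv F16392)) (tt N9810 D9810) (tt N5760 (iv D7561)))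
theorem Q7563 : ∀ i, i < 7563 → P i := stepQ 7562 Q7562 (allL N7562 (tt N9798 (iv F16369)) (tt N9571 (iv F16008)) (tt N9810 (iv F16394)) (tt N9559 (iv F15990)) (tt N5761 (iv D7562)) (tt N5765 F12518))
theorem Q7564 : ∀ i, i < 7564 → P i := stepQ 7563 Q7563 (allL N7563 (tt N5762 (iv D7563)) (tt N9799 (iv F16373)) (tt N9582 (iv F16026)) (tt N9811 D9811) (tt N9804 (iv F16383)) (tt N9812 D9812))
theorem Q7565 : ∀ i, i < 7565 → P i := stepQ 7564 Q7564 (allL N7564 (tt N9811 (iv F16397)) (tt N5763 F12519) (tt N7110 (iv F12520)) (tt N5762 (iv D7564)) (tt N7736 (iv F12770)) (tt N6496 (iv F12521)))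
theorem Q7566 : ∀ i, i < 7566 → P i := stepQ 7565 Q7565 (allL N7565 (tt N9812 (iv F16401)) (tt N5764 F12522) (tt N9581 (iv F16024)) (tt N6496 F12523) (tt N9813 D9813) (tt N5762 (iv D7565)))
theorem Q7567 : ∀ i, i < 7567 → P i := stepQ 7566 Q7566 (allL N7566 (tt N6506 F12524) (tt N7736 (iv F12768)) (tt N6497 F12525) (tt N9808 (iv F16389)) (tt N5763 (iv D7566)) (tt N7105 F12526))
theorem Q7568 : ∀ i, i < 7568 → P i := stepQ 7567 Q7567 (allL N7567 (tt N6505 F12527) (tt N9813 (iv F16404)) (tt N5765 F12528) (tt N7103 F12529) (tt N5764 (iv D7567)) (tt N9810 (iv F16395)))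
theorem Q7569 : ∀ i, i < 7569 → P i := stepQ 7568 Q7568 (allL N7568 (tt N6991 F12530) (tt N6466 F12531) (tt N6987 F12532) (tt N9600 (iv F16054)) (tt N6349 F12533) (tt N5766 (iv D7568)))
theorem Q7570 : ∀ i, i < 7570 → P i := stepQ 7569 Q7569 (allL N7569 (tt N5769 F12534) (tt N9814 D9814) (tt N5767 (iv D7569)) (tt N9815 D9815) (tt N8448 (iv F14042)) (tt N9816 D9816))
theorem Q7571 : ∀ i, i < 7571 → P i := stepQ 7570 Q7570 (allL N7570 (tt N5770 F12535) (tt N5784 F12536) (tt N9816 (iv F16409)) (tt N5768 F12537) (tt N9817 D9817) (tt N5767 (iv D7570)))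
theorem Q7572 : ∀ i, i < 7572 → P i := stepQ 7571 Q7571 (allL N7571 (tt N9818 D9818) (tt N5769 (iv D7571)) (tt N5773 F12538) (tt N9819 D9819) (tt N8450 (iv F14047)) (tt N6590 (iv F12539)))
theorem Q7573 : ∀ i, i < 7573 → P i := stepQ 7572 Q7572 (allL N7572 (tt N9815 (iv F16407)) (tt N9819 (iv F16414)) (tt N9820 D9820) (tt N5769 (iv D7572)) (tt N9821 D9821) (tt N9822 D9822))
theorem Q7574 : ∀ i, i < 7574 → P i := stepQ 7573 Q7573 (allL N7573 (tt N9816 (iv F16408)) (tt N6590 F12540) (tt N5770 F12541) (tt N9822 (iv F16417)) (tt N9823 D9823) (tt N5769 (iv D7573)))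
theorem Q7575 : ∀ i, i < 7575 → P i := stepQ 7574 Q7574 (allL N7574 (tt N9817 (iv F16410)) (tt N5774 F12542) (tt N9823 (iv F16419)) (tt N9824 D9824) (tt N5770 (iv D7574)) (tt N8453 (iv F14051)))
theorem Q7576 : ∀ i, i < 7576 → P i := stepQ 7575 Q7575 (allL N7575 (tt N9512 (iv F15895)) (tt N5775 F12543) (tt N9825 D9825) (tt N5771 (iv D7575)) (tt N9824 (iv F16421)) (tt N5772 F12544))
theorem Q7577 : ∀ i, i < 7577 → P i := stepQ 7576 Q7576 (allL N7576 (tt N9511 (iv F15893)) (tt N9826 D9826) (tt N5772 (iv D7576)) (tt N9827 D9827) (tt N5827 F12545) (tt N9825 (iv F16423)))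
theorem Q7578 : ∀ i, i < 7578 → P i := stepQ 7577 Q7577 (allL N7577 (tt N5773 (iv D7577)) (tt N5797 F12546) (tt N9818 (iv F16412)) (tt N6589 F12547) (tt N8454 (iv F14053)) (tt N6588 F12548))
theorem Q7579 : ∀ i, i < 7579 → P i := stepQ 7578 Q7578 (allL N7578 (tt N5798 F12549) (tt N9824 (iv F16420)) (tt N9828 D9828) (tt N5774 (iv D7578)) (tt N5775 F12550) (tt N5832 F12551))
theorem Q7580 : ∀ i, i < 7580 → P i := stepQ 7579 Q7579 (allL N7579 (tt N5799 F12552) (tt N9829 D9829) (tt N5775 (iv D7579)) (tt N5806 F12554) (tt N9828 (iv F16428)) (tt N5776 F12553))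
theorem Q7581 : ∀ i, i < 7581 → P i := stepQ 7580 Q7580 (allL N7580 (tt N9830 D9830) (tt N5776 (iv D7580)) (tt N9826 (iv F16424)) (tt N9831 D9831) (tt N5829 F12555) (tt N9829 (iv F16431)))
theorem Q7582 : ∀ i, i < 7582 → P i := stepQ 7581 Q7581 (allL N7581 (tt N5801 F12556) (tt N9831 (iv F16434)) (tt N5803 F12558) (tt N5776 (iv D7581)) (tt N9832 D9832) (tt N5806 F12557))
theorem Q7583 : ∀ i, i < 7583 → P i := stepQ 7582 Q7582 (allL N7582 (tt N9833 D9833) (tt N5777 (iv D7582)) (tt N8609 (iv F14263)) (tt N9834 D9834) (tt N5857 F12559) (tt N5778 F12560))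
theorem Q7584 : ∀ i, i < 7584 → P i := stepQ 7583 Q7583 (allL N7583 (tt N5803 F12561) (tt N9834 (iv F16444)) (tt N5801 F12562) (tt N5777 (iv D7583)) (tt N9835 D9835) (tt N5779 F12563))
theorem Q7585 : ∀ i, i < 7585 → P i := stepQ 7584 Q7584 (allL N7584 (tt N5778 (iv D7584)) (tt N5804 F12564) (tt N6459 F12565) (tt N9836 D9836) (tt N5780 F12566) (tt N9833 (iv F16443)))
theorem Q7586 : ∀ i, i < 7586 → P i := stepQ 7585 Q7585 (allL N7585 (tt N9836 (iv F16450)) (tt N5779 F12567) (tt N9837 D9837) (tt N5778 (iv D7585)) (tt N5848 F12568) (tt N9834 (iv F16445)))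
theorem Q7587 : ∀ i, i < 7587 → P i := stepQ 7586 Q7586 (allL N7586 (tt N5806 F12569) (tt N9838 D9838) (tt N5779 (iv D7586)) (tt N5799 F12570) (tt N5850 F12571) (tt N5801 F12572))
theorem Q7588 : ∀ i, i < 7588 → P i := stepQ 7587 Q7587 (allL N7587 (tt N5787 F12573) (tt N9839 D9839) (tt N5781 (iv D7587)) (tt N9840 D9840) (tt N5783 F12574) (tt N9841 D9841))
theorem Q7589 : ∀ i, i < 7589 → P i := stepQ 7588 Q7588 (allL N7588 (tt N5788 F12575) (tt N8449 (iv F14044)) (tt N9841 (iv F16460)) (tt N5782 F12576) (tt N9842 D9842) (tt N5781 (iv D7588)))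
theorem Q7590 : ∀ i, i < 7590 → P i := stepQ 7589 Q7589 (allL N7589 (tt N9843 D9843) (tt N5783 (iv D7589)) (tt N9814 (iv F16406)) (tt N9844 D9844) (tt N9839 (iv F16457)) (tt N9845 D9845))
theorem Q7591 : ∀ i, i < 7591 → P i := stepQ 7590 Q7590 (allL N7590 (tt N5790 F12577) (tt N9844 (iv F16464)) (tt N5820 F12578) (tt N5783 (iv D7590)) (tt N9846 D9846) (tt N5818 (iv F12579)))
theorem Q7592 : ∀ i, i < 7592 → P i := stepQ 7591 Q7591 (allL N7591 (tt N5791 F12580) (tt N9845 (iv F16466)) (tt N5784 F12581) (tt N5818 F12582) (tt N9847 D9847) (tt N5783 (iv D7591)))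
theorem Q7593 : ∀ i, i < 7593 → P i := stepQ 7592 Q7592 (allL N7592 (tt N5792 F12583) (tt N9817 (iv F16411)) (tt N9847 (iv F16471)) (tt N9516 (iv F15904)) (tt N5784 (iv D7592)) (tt N9842 (iv F16462)))
theorem Q7594 : ∀ i, i < 7594 → P i := stepQ 7593 Q7593 (allL N7593 (tt N8485 (iv F14108)) (tt N9848 D9848) (tt N5785 (iv D7593)) (tt N9849 D9849) (tt N8481 (iv F14097)) (tt N9850 D9850))
theorem Q7595 : ∀ i, i < 7595 → P i := stepQ 7594 Q7594 (allL N7594 (tt N8486 (iv F14110)) (tt N8440 (iv F14028)) (tt N9850 (iv F16472)) (tt N5786 F12584) (tt N9851 D9851) (tt N5785 (iv D7594)))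
theorem Q7596 : ∀ i, i < 7596 → P i := stepQ 7595 Q7595 (allL N7595 (tt N9852 D9852) (tt N5787 (iv D7595)) (tt N5793 F12585) (tt N9853 D9853) (tt N5789 F12586) (tt N8966 (iv F14874)))
theorem Q7597 : ∀ i, i < 7597 → P i := stepQ 7596 Q7596 (allL N7596 (tt N9840 (iv F16458)) (tt N9853 (iv F16475)) (tt N9854 D9854) (tt N5787 (iv D7596)) (tt N9855 D9855) (tt N9856 D9856))
theorem Q7598 : ∀ i, i < 7598 → P i := stepQ 7597 Q7597 (allL N7597 (tt N9841 (iv F16459)) (tt N8966 (iv F14873)) (tt N5788 F12587) (tt N9856 (iv F16477)) (tt N9857 D9857) (tt N5787 (iv D7597)))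
theorem Q7599 : ∀ i, i < 7599 → P i := stepQ 7598 Q7598 (allL N7598 (tt N9842 (iv F16461)) (tt N5794 F12588) (tt N9857 (iv F16478)) (tt N9525 (iv F15919)) (tt N5788 (iv D7598)) (tt N5792 F12589))
theorem Q7600 : ∀ i, i < 7600 → P i := stepQ 7599 Q7599 (allL N7599 (tt N5789 (iv D7599)) (tt N9843 (iv F16463)) (tt N5797 F12590) (tt N9858 D9858) (tt N9852 (iv F16474)) (tt N9780 (iv F16337)))
theorem Q7601 : ∀ i, i < 7601 → P i := stepQ 7600 Q7600 (allL N7600 (tt N9858 (iv F16480)) (tt N5790 F12591) (tt N9859 D9859) (tt N5789 (iv D7600)) (tt N9860 D9860) (tt N9783 (iv F16345)))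
theorem Q7602 : ∀ i, i < 7602 → P i := stepQ 7601 Q7601 (allL N7601 (tt N5820 F12592) (tt N9861 D9861) (tt N5790 (iv D7601)) (tt N5814 F12593) (tt N9862 D9862) (tt N5813 (iv F12594)))
theorem Q7603 : ∀ i, i < 7603 → P i := stepQ 7602 Q7602 (allL N7602 (tt N9846 (iv F16468)) (tt N9860 (iv F16481)) (tt N9862 (iv F16485)) (tt N9855 (iv F16476)) (tt N5790 (iv D7602)) (tt N9863 D9863))
theorem Q7604 : ∀ i, i < 7604 → P i := stepQ 7603 Q7603 (allL N7603 (tt N5818 F12595) (tt N9783 (iv F16344)) (tt N5813 F12596) (tt N5791 F12597) (tt N9864 D9864) (tt N5790 (iv D7603)))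
theorem Q7605 : ∀ i, i < 7605 → P i := stepQ 7604 Q7604 (allL N7604 (tt N9847 (iv F16470)) (tt N9784 (iv F16346)) (tt N5792 F12598) (tt N9865 D9865) (tt N5791 (iv D7604)) (tt N9857 (iv F16479)))
theorem Q7606 : ∀ i, i < 7606 → P i := stepQ 7605 Q7605 (allL N7605 (tt N5793 (iv D7605)) (tt N8454 (iv F14052)) (tt N9852 (iv F16473)) (tt N8965 (iv F14872)) (tt N5797 F12599) (tt N8964 F14870))
theorem Q7607 : ∀ i, i < 7607 → P i := stepQ 7606 Q7606 (allL N7606 (tt N5832 F12600) (tt N9525 (iv F15918)) (tt N9417 (iv F15709)) (tt N5794 (iv D7606)) (tt N5795 F12601) (tt N5798 F12602))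
theorem Q7608 : ∀ i, i < 7608 → P i := stepQ 7607 Q7607 (allL N7607 (tt N9866 D9866) (tt N5796 (iv D7607)) (tt N9522 (iv F15915)) (tt N9416 (iv F15707)) (tt N5800 F12603) (tt N9415 F15705))
theorem Q7609 : ∀ i, i < 7609 → P i := stepQ 7608 Q7608 (allL N7608 (tt N9828 (iv F16426)) (tt N9867 D9867) (tt N5798 (iv D7608)) (tt N9718 (iv F16217)) (tt N5799 F12604) (tt N9417 (iv F15711)))
theorem Q7610 : ∀ i, i < 7610 → P i := stepQ 7609 Q7609 (allL N7609 (tt N9868 D9868) (tt N5799 (iv D7609)) (tt N9528 (iv F15924)) (tt N9838 (iv F16454)) (tt N9867 (iv F16490)) (tt N5800 F12605))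
theorem Q7611 : ∀ i, i < 7611 → P i := stepQ 7610 Q7610 (allL N7610 (tt N5800 (iv D7610)) (tt N9830 (iv F16432)) (tt N9526 (iv F15921)) (tt N9869 D9869) (tt N9866 (iv F16489)) (tt N9868 (iv F16491)))
theorem Q7612 : ∀ i, i < 7612 → P i := stepQ 7611 Q7611 (allL N7611 (tt N9869 (iv F16492)) (tt N5801 F12606) (tt N9870 D9870) (tt N5800 (iv D7611)) (tt N9871 D9871) (tt N9838 (iv F16456)))
theorem Q7613 : ∀ i, i < 7613 → P i := stepQ 7612 Q7612 (allL N7612 (tt N9832 (iv F16436)) (tt N9871 (iv F16493)) (tt N9835 (iv F16447)) (tt N9418 (iv F15714)) (tt N5801 (iv D7612)) (tt N9717 (iv F16214)))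
theorem Q7614 : ∀ i, i < 7614 → P i := stepQ 7613 Q7613 (allL N7613 (tt N5802 (iv D7613)) (tt N9833 (iv F16440)) (tt N5822 F12607) (tt N9872 D9872) (tt N5866 F12608) (tt N5804 F12609))
theorem Q7615 : ∀ i, i < 7615 → P i := stepQ 7614 Q7614 (allL N7614 (tt N9872 (iv F16494)) (tt N5803 F12610) (tt N9873 D9873) (tt N5802 (iv D7614)) (tt N9874 D9874) (tt N5805 F12611))
theorem Q7616 : ∀ i, i < 7616 → P i := stepQ 7615 Q7615 (allL N7615 (tt N9835 (iv F16446)) (tt N9874 (iv F16497)) (tt N9832 (iv F16437)) (tt N5873 F12612) (tt N5803 (iv D7615)) (tt N9875 D9875))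
theorem Q7617 : ∀ i, i < 7617 → P i := stepQ 7616 Q7616 (allL N7616 (tt N5805 F12613) (tt N9836 (iv F16451)) (tt N9876 D9876) (tt N5804 (iv D7616)) (tt N9877 D9877) (tt N9872 (iv F16495)))
theorem Q7618 : ∀ i, i < 7618 → P i := stepQ 7617 Q7617 (allL N7617 (tt N9876 (iv F16503)) (tt N9878 D9878) (tt N5805 (iv D7617)) (tt N9879 D9879) (tt N9880 D9880) (tt N9873 (iv F16496)))
theorem Q7619 : ∀ i, i < 7619 → P i := stepQ 7618 Q7618 (allL N7618 (tt N9877 (iv F16504)) (tt N5807 F12614) (tt N9880 (iv F16508)) (tt N5810 F12615) (tt N5805 (iv D7618)) (tt N9881 D9881))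
theorem Q7620 : ∀ i, i < 7620 → P i := stepQ 7619 Q7619 (allL N7619 (tt N9882 D9882) (tt N5806 (iv D7619)) (tt N9878 (iv F16507)) (tt N9829 (iv F16430)) (tt N9883 D9883) (tt N9831 (iv F16435)))
theorem Q7621 : ∀ i, i < 7621 → P i := stepQ 7620 Q7620 (allL N7620 (tt N5850 F12616) (tt N9883 (iv F16511)) (tt N5807 F12617) (tt N5845 (iv F12618)) (tt N5806 (iv D7620)) (tt N5844 F12619))
theorem Q7622 : ∀ i, i < 7622 → P i := stepQ 7621 Q7621 (allL N7621 (tt N5851 F12620) (tt N9881 (iv F16509)) (tt N5844 F12621) (tt N5811 F12622) (tt N9875 (iv F16502)) (tt N5807 (iv D7621)))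
theorem Q7623 : ∀ i, i < 7623 → P i := stepQ 7622 Q7622 (allL N7622 (tt N5809 F12623) (tt N6175 F12624) (tt N5808 (iv D7622)) (tt N6226 F12625) (tt N9884 D9884) (tt N5874 F12626))
theorem Q7624 : ∀ i, i < 7624 → P i := stepQ 7623 Q7623 (allL N7623 (tt N5810 F12627) (tt N5847 F12628) (tt N9884 (iv F16516)) (tt N9877 (iv F16506)) (tt N5808 (iv D7623)) (tt N9885 D9885))
theorem Q7625 : ∀ i, i < 7625 → P i := stepQ 7624 Q7624 (allL N7624 (tt N6226 F12629) (tt N5838 F12630) (tt N6229 F12631) (tt N5809 (iv D7624)) (tt N9886 D9886) (tt N5876 F12632))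
theorem Q7626 : ∀ i, i < 7626 → P i := stepQ 7625 Q7625 (allL N7625 (tt N9884 (iv F16514)) (tt N5836 F12633) (tt N5810 F12634) (tt N9887 D9887) (tt N5809 (iv D7625)) (tt N9888 D9888))
theorem Q7627 : ∀ i, i < 7627 → P i := stepQ 7626 Q7626 (allL N7626 (tt N9885 (iv F16517)) (tt N5811 F12635) (tt N9888 (iv F16525)) (tt N9881 (iv F16510)) (tt N5878 F12636) (tt N5810 (iv D7626)))
theorem Q7628 : ∀ i, i < 7628 → P i := stepQ 7627 Q7627 (allL N7627 (tt N5812 (iv D7627)) (tt N5816 F12637) (tt N9550 (iv F15966)) (tt N9889 D9889) (tt N9517 (iv F15907)) (tt N8433 (iv F14012)))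
theorem Q7629 : ∀ i, i < 7629 → P i := stepQ 7628 Q7628 (allL N7628 (tt N9889 (iv F16527)) (tt N5813 F12638) (tt N9890 D9890) (tt N5812 (iv D7628)) (tt N9891 D9891) (tt N9861 (iv F16483)))
theorem Q7630 : ∀ i, i < 7630 → P i := stepQ 7629 Q7629 (allL N7629 (tt N8433 (iv F14011)) (tt N5814 F12639) (tt N9548 (iv F15960)) (tt N9861 (iv F16482)) (tt N9892 D9892) (tt N5812 (iv D7629)))
theorem Q7631 : ∀ i, i < 7631 → P i := stepQ 7630 Q7630 (allL N7630 (tt N5819 F12640) (tt N9891 (iv F16529)) (tt N9864 (iv F16487)) (tt N9519 (iv F15912)) (tt N5813 (iv D7630)) (tt N9893 D9893))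
theorem Q7632 : ∀ i, i < 7632 → P i := stepQ 7631 Q7631 (allL N7631 (tt N5821 F12641) (tt N9892 (iv F16530)) (tt N5815 F12642) (tt N9894 D9894) (tt N5814 (iv D7631)) (tt N8409 (iv F13973)))
theorem Q7633 : ∀ i, i < 7633 → P i := stepQ 7632 Q7632 (allL N7632 (tt N5817 F12643) (tt N9889 (iv F16528)) (tt N7696 (iv F12714)) (tt N5816 (iv D7632)) (tt N9895 D9895) (tt N8434 (iv F14014)))
theorem Q7634 : ∀ i, i < 7634 → P i := stepQ 7633 Q7633 (allL N7633 (tt N7696 (iv F12713)) (tt N9896 D9896) (tt N5817 (iv D7633)) (tt N7692 (iv F12707)) (tt N9897 D9897) (tt N8435 (iv F14015)))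
theorem Q7635 : ∀ i, i < 7635 → P i := stepQ 7634 Q7634 (allL N7634 (tt N9895 (iv F16533)) (tt N5819 F12644) (tt N9897 (iv F16535)) (tt N9533 (iv F15933)) (tt N5817 (iv D7634)) (tt N9898 D9898))
theorem Q7636 : ∀ i, i < 7636 → P i := stepQ 7635 Q7635 (allL N7635 (tt N9899 D9899) (tt N5818 (iv D7635)) (tt N9896 (iv F16534)) (tt N9845 (iv F16467)) (tt N9900 D9900) (tt N9844 F16465))
theorem Q7637 : ∀ i, i < 7637 → P i := stepQ 7636 Q7636 (allL N7636 (tt N9864 (iv F16486)) (tt N9900 (iv F16537)) (tt N5819 F12645) (tt N9901 D9901) (tt N5818 (iv D7636)) (tt N9902 D9902))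
theorem Q7638 : ∀ i, i < 7638 → P i := stepQ 7637 Q7637 (allL N7637 (tt N9893 (iv F16531)) (tt N9898 (iv F16536)) (tt N9902 (iv F16538)) (tt N9534 (iv F15934)) (tt N9903 D9903) (tt N5819 (iv D7637)))
theorem Q7639 : ∀ i, i < 7639 → P i := stepQ 7638 Q7638 (allL N7638 (tt N9862 (iv F16484)) (tt N8436 (iv F14016)) (tt N9846 (iv F16469)) (tt N9904 D9904) (tt N5820 (iv D7638)) (tt N9903 (iv F16539)))
theorem Q7640 : ∀ i, i < 7640 → P i := stepQ 7639 Q7639 (allL N7639 (tt N9894 (iv F16532)) (tt N8278 (iv F13739)) (tt N9905 D9905) (tt N5821 (iv D7639)) (tt N9904 (iv F16540)) (tt N8410 (iv F13975)))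
theorem Q7641 : ∀ i, i < 7641 → P i := stepQ 7640 Q7640 (allL N7640 (tt N8314 (iv F13820)) (tt N9906 D9906) (tt N5823 (iv D7640)) (tt N9907 D9907) (tt N9355 (iv F15641)) (tt N9908 D9908))
theorem Q7642 : ∀ i, i < 7642 → P i := stepQ 7641 Q7641 (allL N7641 (tt N8315 (iv F13821)) (tt N9521 (iv F15913)) (tt N9908 (iv F16542)) (tt N5824 F12646) (tt N9909 D9909) (tt N5823 (iv D7641)))
theorem Q7643 : ∀ i, i < 7643 → P i := stepQ 7642 Q7642 (allL N7642 (tt N5827 F12647) (tt N9910 D9910) (tt N5825 (iv D7642)) (tt N9911 D9911) (tt N9511 (iv F15894)) (tt N9912 D9912))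
theorem Q7644 : ∀ i, i < 7644 → P i := stepQ 7643 Q7643 (allL N7643 (tt N5828 F12648) (tt N9514 (iv F15901)) (tt N9912 (iv F16547)) (tt N5826 F12649) (tt N9913 D9913) (tt N5825 (iv D7643)))
theorem Q7645 : ∀ i, i < 7645 → P i := stepQ 7644 Q7644 (allL N7644 (tt N9914 D9914) (tt N5827 (iv D7644)) (tt N5829 F12650) (tt N9915 D9915) (tt N9826 (iv F16425)) (tt N9916 D9916))
theorem Q7646 : ∀ i, i < 7646 → P i := stepQ 7645 Q7645 (allL N7645 (tt N9911 (iv F16543)) (tt N9915 (iv F16551)) (tt N9917 D9917) (tt N5827 (iv D7645)) (tt N9918 D9918) (tt N9919 D9919))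
theorem Q7647 : ∀ i, i < 7647 → P i := stepQ 7646 Q7646 (allL N7646 (tt N9912 (iv F16546)) (tt N9916 (iv F16552)) (tt N5828 F12651) (tt N9919 (iv F16559)) (tt N9920 D9920) (tt N5827 (iv D7646)))
theorem Q7648 : ∀ i, i < 7648 → P i := stepQ 7647 Q7647 (allL N7647 (tt N9913 (iv F16549)) (tt N5832 F12652) (tt N9920 (iv F16560)) (tt N8453 (iv F14050)) (tt N5828 (iv D7647)) (tt N9824 (iv F16422)))
theorem Q7649 : ∀ i, i < 7649 → P i := stepQ 7648 Q7648 (allL N7648 (tt N5829 (iv D7648)) (tt N9866 (iv F16488)) (tt N9914 (iv F16550)) (tt N9921 D9921) (tt N9830 (iv F16433)) (tt N9922 D9922))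
theorem Q7650 : ∀ i, i < 7650 → P i := stepQ 7649 Q7649 (allL N7649 (tt N9921 (iv F16561)) (tt N5830 F12653) (tt N9923 D9923) (tt N5829 (iv D7649)) (tt N9924 D9924) (tt N9331 (iv F15588)))
theorem Q7651 : ∀ i, i < 7651 → P i := stepQ 7650 Q7650 (allL N7650 (tt N9922 (iv F16562)) (tt N5831 F12654) (tt N9916 (iv F16553)) (tt N9331 (iv F15586)) (tt N9925 D9925) (tt N5829 (iv D7650)))
theorem Q7652 : ∀ i, i < 7652 → P i := stepQ 7651 Q7651 (allL N7651 (tt N9418 (iv F15712)) (tt N9924 (iv F16563)) (tt N9332 (iv F15591)) (tt N9832 (iv F16438)) (tt N5830 (iv D7651)) (tt N9337 (iv F15606)))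
theorem Q7653 : ∀ i, i < 7653 → P i := stepQ 7652 Q7652 (allL N7652 (tt N9417 (iv F15708)) (tt N9925 (iv F16564)) (tt N5832 F12655) (tt N9336 (iv F15601)) (tt N5831 (iv D7652)) (tt N9828 (iv F16429)))
theorem Q7654 : ∀ i, i < 7654 → P i := stepQ 7653 Q7653 (allL N7653 (tt N7077 F12656) (tt N6520 F12657) (tt N9926 D9926) (tt N5833 (iv D7653)) (tt N5834 F12658) (tt N9927 D9927))
theorem Q7655 : ∀ i, i < 7655 → P i := stepQ 7654 Q7654 (allL N7654 (tt N7078 F12659) (tt N6519 F12660) (tt N6475 F12661) (tt N9927 (iv F16569)) (tt N6516 F12662) (tt N5833 (iv D7654)))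
theorem Q7656 : ∀ i, i < 7656 → P i := stepQ 7655 Q7655 (allL N7655 (tt N7079 F12663) (tt N9928 D9928) (tt N5834 (iv D7655)) (tt N9929 D9929) (tt N9926 (iv F16566)) (tt N9930 D9930))
theorem Q7657 : ∀ i, i < 7657 → P i := stepQ 7656 Q7656 (allL N7656 (tt N7080 F12664) (tt N9432 (iv F15746)) (tt N9930 (iv F16574)) (tt N5835 F12665) (tt N9931 D9931) (tt N5834 (iv D7656)))
theorem Q7658 : ∀ i, i < 7658 → P i := stepQ 7657 Q7657 (allL N7657 (tt N7095 F12666) (tt N9887 (iv F16523)) (tt N9932 D9932) (tt N5836 (iv D7657)) (tt N9933 D9933) (tt N9934 D9934))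
theorem Q7659 : ∀ i, i < 7659 → P i := stepQ 7658 Q7658 (allL N7658 (tt N7096 F12667) (tt N9888 (iv F16524)) (tt N5837 F12668) (tt N9934 (iv F16585)) (tt N8985 (iv F14909)) (tt N5836 (iv D7658)))
theorem Q7660 : ∀ i, i < 7660 → P i := stepQ 7659 Q7659 (allL N7659 (tt N7213 F12669) (tt N9886 (iv F16521)) (tt N6643 F12670) (tt N9933 (iv F16582)) (tt N5838 (iv D7659)) (tt N9935 D9935))
theorem Q7661 : ∀ i, i < 7661 → P i := stepQ 7660 Q7660 (allL N7660 (tt N5841 F12671) (tt N9936 D9936) (tt N5839 (iv D7660)) (tt N9937 D9937) (tt N9425 (iv F15729)) (tt N9938 D9938))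
theorem Q7662 : ∀ i, i < 7662 → P i := stepQ 7661 Q7661 (allL N7661 (tt N5842 F12672) (tt N9428 (iv F15736)) (tt N9938 (iv F16592)) (tt N5840 F12673) (tt N9939 D9939) (tt N5839 (iv D7661)))
theorem Q7663 : ∀ i, i < 7663 → P i := stepQ 7662 Q7662 (allL N7662 (tt N9940 D9940) (tt N5841 (iv D7662)) (tt N5843 F12674) (tt N9941 D9941) (tt N9709 (iv F16198)) (tt N9942 D9942))
theorem Q7664 : ∀ i, i < 7664 → P i := stepQ 7663 Q7663 (allL N7663 (tt N9937 (iv F16588)) (tt N9941 (iv F16597)) (tt N9943 D9943) (tt N5841 (iv D7663)) (tt N9944 D9944) (tt N9945 D9945))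
theorem Q7665 : ∀ i, i < 7665 → P i := stepQ 7664 Q7664 (allL N7664 (tt N9938 (iv F16591)) (tt N9942 (iv F16598)) (tt N5842 F12675) (tt N9945 (iv F16605)) (tt N9946 D9946) (tt N5841 (iv D7664)))
theorem Q7666 : ∀ i, i < 7666 → P i := stepQ 7665 Q7665 (allL N7665 (tt N9939 (iv F16594)) (tt N5846 F12676) (tt N9946 (iv F16606)) (tt N7219 F12677) (tt N5842 (iv D7665)) (tt N9712 (iv F16202)))
theorem Q7667 : ∀ i, i < 7667 → P i := stepQ 7666 Q7666 (allL N7666 (tt N5843 (iv D7666)) (tt N9714 (iv F16205)) (tt N9940 (iv F16596)) (tt N9947 D9947) (tt N9713 (iv F16204)) (tt N9948 D9948))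
theorem Q7668 : ∀ i, i < 7668 → P i := stepQ 7667 Q7667 (allL N7667 (tt N9947 (iv F16607)) (tt N5844 F12678) (tt N9949 D9949) (tt N5843 (iv D7667)) (tt N9950 D9950) (tt N9883 F16513))
theorem Q7669 : ∀ i, i < 7669 → P i := stepQ 7668 Q7668 (allL N7668 (tt N9948 (iv F16608)) (tt N5845 F12679) (tt N9942 (iv F16599)) (tt N9883 F16512) (tt N9951 D9951) (tt N5843 (iv D7668)))
theorem Q7670 : ∀ i, i < 7670 → P i := stepQ 7669 Q7669 (allL N7669 (tt N9717 (iv F16211)) (tt N9950 (iv F16609)) (tt N9875 (iv F16500)) (tt N9337 (iv F15605)) (tt N5844 (iv D7669)) (tt N9832 (iv F16439)))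
theorem Q7671 : ∀ i, i < 7671 → P i := stepQ 7670 Q7670 (allL N7670 (tt N9718 (iv F16215)) (tt N9951 (iv F16610)) (tt N5846 F12680) (tt N9828 (iv F16427)) (tt N5845 (iv D7670)) (tt N9336 (iv F15602)))
theorem Q7672 : ∀ i, i < 7672 → P i := stepQ 7671 Q7671 (allL N7671 (tt N5848 F12681) (tt N9877 (iv F16505)) (tt N9952 D9952) (tt N5847 (iv D7671)) (tt N9836 (iv F16452)) (tt N9953 D9953))
theorem Q7673 : ∀ i, i < 7673 → P i := stepQ 7672 Q7672 (allL N7672 (tt N5849 F12682) (tt N9885 (iv F16518)) (tt N7239 F12683) (tt N9953 (iv F16613)) (tt N8999 (iv F14940)) (tt N5847 (iv D7672)))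
theorem Q7674 : ∀ i, i < 7674 → P i := stepQ 7673 Q7673 (allL N7673 (tt N9952 (iv F16611)) (tt N9954 D9954) (tt N5848 (iv D7673)) (tt N9955 D9955) (tt N9837 (iv F16453)) (tt N9956 D9956))
theorem Q7675 : ∀ i, i < 7675 → P i := stepQ 7674 Q7674 (allL N7674 (tt N9953 (iv F16612)) (tt N5851 F12684) (tt N9956 (iv F16615)) (tt N5849 F12685) (tt N9957 D9957) (tt N5848 (iv D7674)))
theorem Q7676 : ∀ i, i < 7676 → P i := stepQ 7675 Q7675 (allL N7675 (tt N9958 D9958) (tt N5850 (iv D7675)) (tt N9954 (iv F16614)) (tt N9716 (iv F16210)) (tt N9838 (iv F16455)) (tt N9715 F16208))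
theorem Q7677 : ∀ i, i < 7677 → P i := stepQ 7676 Q7676 (allL N7676 (tt N9875 (iv F16499)) (tt N9957 (iv F16616)) (tt N9717 (iv F16212)) (tt N9003 (iv F14947)) (tt N5851 (iv D7676)) (tt N9835 (iv F16449)))
theorem Q7678 : ∀ i, i < 7678 → P i := stepQ 7677 Q7677 (allL N7677 (tt N6837 F12686) (tt N5854 F12687) (tt N7160 F12688) (tt N8608 (iv F14260)) (tt N5853 (iv D7677)) (tt N9959 D9959))
theorem Q7679 : ∀ i, i < 7679 → P i := stepQ 7678 Q7678 (allL N7678 (tt N6349 F12689) (tt N9959 (iv F16618)) (tt N6984 F12690) (tt N8610 (iv F14266)) (tt N6991 F12691) (tt N5854 (iv D7678)))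
theorem Q7680 : ∀ i, i < 7680 → P i := stepQ 7679 Q7679 (allL N7679 (tt N5856 F12692) (tt N5865 F12693) (tt N9960 D9960) (tt N5855 (iv D7679)) (tt N8998 (iv F14936)) (tt N9961 D9961))
theorem Q7681 : ∀ i, i < 7681 → P i := stepQ 7680 Q7680 (allL N7680 (tt N5857 F12694) (tt N5866 F12695) (tt N8606 (iv F14257)) (tt N9961 (iv F16624)) (tt N9833 (iv F16442)) (tt N5855 (iv D7680)))
theorem Q7682 : ∀ i, i < 7682 → P i := stepQ 7681 Q7681 (allL N7681 (tt N9960 (iv F16621)) (tt N9962 D9962) (tt N5856 (iv D7681)) (tt N9963 D9963) (tt N9000 (iv F14941)) (tt N9964 D9964))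
theorem Q7683 : ∀ i, i < 7683 → P i := stepQ 7682 Q7682 (allL N7682 (tt N9961 (iv F16622)) (tt N5859 F12696) (tt N9964 (iv F16628)) (tt N5857 F12697) (tt N9965 D9965) (tt N5856 (iv D7682)))
theorem Q7684 : ∀ i, i < 7684 → P i := stepQ 7683 Q7683 (allL N7683 (tt N9966 D9966) (tt N5858 (iv D7683)) (tt N9962 (iv F16625)) (tt N5862 F12698) (tt N9002 (iv F14944)) (tt N5861 F12699))
theorem Q7685 : ∀ i, i < 7685 → P i := stepQ 7684 Q7684 (allL N7684 (tt N5873 F12700) (tt N9965 (iv F16629)) (tt N5863 F12701) (tt N9835 (iv F16448)) (tt N5859 (iv D7684)) (tt N9003 (iv F14948)))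
theorem Q7686 : ∀ i, i < 7686 → P i := stepQ 7685 Q7685 (allL N7685 (tt N5861 F12702) (tt N9348 (iv F15629)) (tt N9967 D9967) (tt N5860 (iv D7685)) (tt N9968 D9968) (tt N9966 (iv F16632)))
theorem Q7687 : ∀ i, i < 7687 → P i := stepQ 7686 Q7686 (allL N7686 (tt N5862 F12703) (tt N9349 (iv F15632)) (tt N8475 (iv F14092)) (tt N9966 (iv F16631)) (tt N9969 D9969) (tt N5860 (iv D7686)))
theorem Q7688 : ∀ i, i < 7688 → P i := stepQ 7687 Q7687 (allL N7687 (tt N9967 (iv F16633)) (tt N9964 (iv F16627)) (tt N5861 (iv D7687)) (tt N9970 D9970) (tt N9971 D9971) (tt N9962 F16626))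
theorem Q7689 : ∀ i, i < 7689 → P i := stepQ 7688 Q7688 (allL N7688 (tt N9968 (iv F16634)) (tt N5863 F12704) (tt N9971 (iv F16636)) (tt N9347 (iv F15627)) (tt N5861 (iv D7688)) (tt N9972 D9972))
theorem Q7690 : ∀ i, i < 7690 → P i := stepQ 7689 Q7689 (allL N7689 (tt N9969 (iv F16635)) (tt N5864 F12705) (tt N8478 (iv F14095)) (tt N9973 D9973) (tt N5862 (iv D7689)) (tt N9346 (iv F15624)))
theorem Q7691 : ∀ i, i < 7691 → P i := stepQ 7690 Q7690 (allL N7690 (tt N8996 (iv F14926)) (tt N9972 (iv F16637)) (tt N9003 (iv F14946)) (tt N8777 (iv F14567)) (tt N8771 F14552) (tt N5863 (iv D7690)))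
theorem Q7692 : ∀ i, i < 7692 → P i := stepQ 7691 Q7691 (allL N7691 (tt N8997 (iv F14930)) (tt N9973 (iv F16638)) (tt N8773 (iv F14558)) (tt N5864 (iv D7691)) (tt N8772 F14556) (tt N8778 (iv F14572)))
theorem Q7693 : ∀ i, i < 7693 → P i := stepQ 7692 Q7692 (allL N7692 (tt N5867 F12706) (tt N9974 D9974) (tt N5865 (iv D7692)) (tt N7633 F12707) (tt N9975 D9975) (tt N9976 D9976))
theorem Q7694 : ∀ i, i < 7694 → P i := stepQ 7693 Q7693 (allL N7693 (tt N5868 F12708) (tt N8998 (iv F14935)) (tt N9975 (iv F16641)) (tt N5875 F12709) (tt N5865 (iv D7693)) (tt N9977 D9977))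
theorem Q7695 : ∀ i, i < 7695 → P i := stepQ 7694 Q7694 (allL N7694 (tt N5869 F12710) (tt N9961 (iv F16623)) (tt N9976 (iv F16643)) (tt N5866 F12711) (tt N9978 D9978) (tt N5865 (iv D7694)))
theorem Q7696 : ∀ i, i < 7696 → P i := stepQ 7695 Q7695 (allL N7695 (tt N9979 D9979) (tt N5867 (iv D7695)) (tt N5870 F12712) (tt N9980 D9980) (tt N9981 D9981) (tt N9350 (iv F15636)))
theorem Q7697 : ∀ i, i < 7697 → P i := stepQ 7696 Q7696 (allL N7696 (tt N7633 F12713) (tt N9980 (iv F16649)) (tt N7632 F12714) (tt N5867 (iv D7696)) (tt N9982 D9982) (tt N9983 D9983))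
theorem Q7698 : ∀ i, i < 7698 → P i := stepQ 7697 Q7697 (allL N7697 (tt N9975 (iv F16640)) (tt N9981 (iv F16650)) (tt N5868 F12715) (tt N9984 D9984) (tt N5867 (iv D7697)) (tt N9985 D9985))
theorem Q7699 : ∀ i, i < 7699 → P i := stepQ 7698 Q7698 (allL N7698 (tt N9976 (iv F16642)) (tt N9350 (iv F15635)) (tt N5869 F12716) (tt N9983 (iv F16656)) (tt N9986 D9986) (tt N5867 (iv D7698)))
theorem Q7700 : ∀ i, i < 7700 → P i := stepQ 7699 Q7699 (allL N7699 (tt N9977 (iv F16645)) (tt N5872 F12717) (tt N9985 (iv F16657)) (tt N5878 F12718) (tt N9987 D9987) (tt N5868 (iv D7699)))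
theorem Q7701 : ∀ i, i < 7701 → P i := stepQ 7700 Q7700 (allL N7700 (tt N9978 (iv F16647)) (tt N5873 F12719) (tt N9986 (iv F16658)) (tt N9874 (iv F16498)) (tt N5869 (iv D7700)) (tt N9987 (iv F16660)))
theorem Q7702 : ∀ i, i < 7702 → P i := stepQ 7701 Q7701 (allL N7701 (tt N5870 (iv D7701)) (tt N9966 (iv F16630)) (tt N9979 (iv F16648)) (tt N9349 (iv F15634)) (tt N9988 D9988) (tt N9348 F15630))
theorem Q7703 : ∀ i, i < 7703 → P i := stepQ 7702 Q7702 (allL N7702 (tt N9988 (iv F16661)) (tt N5871 F12720) (tt N9981 (iv F16651)) (tt N8995 (iv F14925)) (tt N5870 (iv D7702)) (tt N8994 F14923))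
theorem Q7704 : ∀ i, i < 7704 → P i := stepQ 7703 Q7703 (allL N7703 (tt N9003 (iv F14945)) (tt N9987 (iv F16659)) (tt N8996 (iv F14927)) (tt N9875 (iv F16501)) (tt N5872 (iv D7703)) (tt N5873 F12721))
theorem Q7705 : ∀ i, i < 7705 → P i := stepQ 7704 Q7704 (allL N7704 (tt N6165 F12722) (tt N5874 (iv D7704)) (tt N6167 F12723) (tt N6216 F12724) (tt N9989 D9989) (tt N6175 F12725))
theorem Q7706 : ∀ i, i < 7706 → P i := stepQ 7705 Q7705 (allL N7705 (tt N5877 F12726) (tt N9989 (iv F16663)) (tt N5875 F12727) (tt N9990 D9990) (tt N5874 (iv D7705)) (tt N9991 D9991))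
theorem Q7707 : ∀ i, i < 7707 → P i := stepQ 7706 Q7706 (allL N7706 (tt N5878 F12728) (tt N8999 (iv F14938)) (tt N9991 (iv F16668)) (tt N9977 (iv F16646)) (tt N9885 (iv F16519)) (tt N5875 (iv D7706)))
theorem Q7708 : ∀ i, i < 7708 → P i := stepQ 7707 Q7707 (allL N7707 (tt N6332 F12729) (tt N8986 (iv F14911)) (tt N6331 F12730) (tt N9992 D9992) (tt N5876 (iv D7707)) (tt N9993 D9993))
theorem Q7709 : ∀ i, i < 7709 → P i := stepQ 7708 Q7708 (allL N7708 (tt N9990 (iv F16665)) (tt N8984 (iv F14905)) (tt N9994 D9994) (tt N5877 (iv D7708)) (tt N9992 (iv F16670)) (tt N9995 D9995))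
theorem Q7710 : ∀ i, i < 7710 → P i := stepQ 7709 Q7709 (allL N7709 (tt N9991 (iv F16667)) (tt N8985 (iv F14907)) (tt N5878 F12731) (tt N9995 (iv F16673)) (tt N9888 (iv F16526)) (tt N5877 (iv D7709)))
theorem Q7711 : ∀ i, i < 7711 → P i := stepQ 7710 Q7710 (allL N7710 (tt N5881 F12732) (tt N9996 D9996) (tt N5879 (iv D7710)) (tt N7992 (iv F13238)) (tt N9997 D9997) (tt N9998 D9998))
theorem Q7712 : ∀ i, i < 7712 → P i := stepQ 7711 Q7711 (allL N7711 (tt N5882 F12733) (tt N7904 (iv F13064)) (tt N9997 (iv F16677)) (tt N5891 F12734) (tt N5879 (iv D7711)) (tt N9999 D9999))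
theorem Q7713 : ∀ i, i < 7713 → P i := stepQ 7712 Q7712 (allL N7712 (tt N5883 F12735) (tt N7721 (iv F12749)) (tt N9998 (iv F16679)) (tt N5880 F12736) (tt N10000 D10000) (tt N5879 (iv D7712)))
theorem Q7714 : ∀ i, i < 7714 → P i := stepQ 7713 Q7713 (allL N7713 (tt N5884 F12737) (tt N7892 (iv F13036)) (tt N7908 (iv F13073)) (tt N10001 D10001) (tt N5880 (iv D7713)) (tt N5892 F12738))
theorem Q7715 : ∀ i, i < 7715 → P i := stepQ 7714 Q7714 (allL N7714 (tt N10002 D10002) (tt N5881 (iv D7714)) (tt N5885 F12739) (tt N10003 D10003) (tt N10004 D10004) (tt N6042 (iv F12740)))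
theorem Q7716 : ∀ i, i < 7716 → P i := stepQ 7715 Q7715 (allL N7715 (tt N7992 (iv F13236)) (tt N10003 (iv F16690)) (tt N7990 (iv F13233)) (tt N5881 (iv D7715)) (tt N10005 D10005) (tt N10006 D10006))
theorem Q7717 : ∀ i, i < 7717 → P i := stepQ 7716 Q7716 (allL N7716 (tt N9997 (iv F16676)) (tt N10004 (iv F16694)) (tt N5882 F12741) (tt N10007 D10007) (tt N5881 (iv D7716)) (tt N10008 D10008))
theorem Q7718 : ∀ i, i < 7718 → P i := stepQ 7717 Q7717 (allL N7717 (tt N9998 (iv F16678)) (tt N6042 F12742) (tt N5883 F12743) (tt N10006 (iv F16699)) (tt N10009 D10009) (tt N5881 (iv D7717)))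
theorem Q7719 : ∀ i, i < 7719 → P i := stepQ 7718 Q7718 (allL N7718 (tt N9999 (iv F16680)) (tt N5887 F12744) (tt N10008 (iv F16700)) (tt N5895 F12745) (tt N10010 D10010) (tt N5882 (iv D7718)))
theorem Q7720 : ∀ i, i < 7720 → P i := stepQ 7719 Q7719 (allL N7719 (tt N10000 (iv F16682)) (tt N5888 F12746) (tt N10009 (iv F16702)) (tt N10011 D10011) (tt N5883 (iv D7719)) (tt N10010 (iv F16704)))
theorem Q7721 : ∀ i, i < 7721 → P i := stepQ 7720 Q7720 (allL N7720 (tt N10001 (iv F16683)) (tt N5889 F12747) (tt N10012 D10012) (tt N5884 (iv D7720)) (tt N10011 (iv F16706)) (tt N5896 F12748))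
theorem Q7722 : ∀ i, i < 7722 → P i := stepQ 7721 Q7721 (allL N7721 (tt N5885 (iv D7721)) (tt N7712 F12749) (tt N10002 (iv F16686)) (tt N6026 F12750) (tt N10013 D10013) (tt N6041 F12751))
theorem Q7723 : ∀ i, i < 7723 → P i := stepQ 7722 Q7722 (allL N7722 (tt N10013 (iv F16708)) (tt N5886 F12752) (tt N10004 (iv F16695)) (tt N10014 D10014) (tt N5885 (iv D7722)) (tt N10015 D10015))
theorem Q7724 : ∀ i, i < 7724 → P i := stepQ 7723 Q7723 (allL N7723 (tt N7726 (iv F12759)) (tt N10014 (iv F16710)) (tt N9778 (iv F16331)) (tt N5886 (iv D7723)) (tt N6045 F12753) (tt N7744 (iv F12779)))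
theorem Q7725 : ∀ i, i < 7725 → P i := stepQ 7724 Q7724 (allL N7724 (tt N7725 (iv F12756)) (tt N10015 (iv F16712)) (tt N5887 F12754) (tt N7744 (iv F12778)) (tt N6044 F12755) (tt N5886 (iv D7724)))
theorem Q7726 : ∀ i, i < 7726 → P i := stepQ 7725 Q7725 (allL N7725 (tt N7724 F12756) (tt N10010 (iv F16703)) (tt N6044 F12757) (tt N9260 (iv F15438)) (tt N5887 (iv D7725)) (tt N5888 F12758))
theorem Q7727 : ∀ i, i < 7727 → P i := stepQ 7726 Q7726 (allL N7726 (tt N7723 F12759) (tt N10011 (iv F16705)) (tt N10016 D10016) (tt N5888 (iv D7726)) (tt N5889 F12760) (tt N9260 (iv F15439)))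
theorem Q7728 : ∀ i, i < 7728 → P i := stepQ 7727 Q7727 (allL N7727 (tt N7907 (iv F13069)) (tt N10017 D10017) (tt N5889 (iv D7727)) (tt N5897 F12762) (tt N10016 (iv F16716)) (tt N5897 F12761))
theorem Q7729 : ∀ i, i < 7729 → P i := stepQ 7728 Q7728 (allL N7728 (tt N8471 (iv F14080)) (tt N5890 (iv D7728)) (tt N9141 (iv F15234)) (tt N9268 (iv F15457)) (tt N10018 D10018) (tt N8469 F14076))
theorem Q7730 : ∀ i, i < 7730 → P i := stepQ 7729 Q7729 (allL N7729 (tt N5893 F12763) (tt N9268 (iv F15456)) (tt N8142 (iv F13510)) (tt N5890 (iv D7729)) (tt N10019 D10019) (tt N8160 (iv F13543)))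
theorem Q7731 : ∀ i, i < 7731 → P i := stepQ 7730 Q7730 (allL N7730 (tt N5894 F12764) (tt N10018 (iv F16720)) (tt N5891 F12765) (tt N10020 D10020) (tt N5890 (iv D7730)) (tt N10021 D10021))
theorem Q7732 : ∀ i, i < 7732 → P i := stepQ 7731 Q7731 (allL N7731 (tt N5895 F12766) (tt N9143 (iv F15240)) (tt N10021 (iv F16724)) (tt N9999 (iv F16681)) (tt N9256 (iv F15429)) (tt N5891 (iv D7731)))
theorem Q7733 : ∀ i, i < 7733 → P i := stepQ 7732 Q7732 (allL N7732 (tt N5896 F12767) (tt N9144 (iv F15243)) (tt N10022 D10022) (tt N5892 (iv D7732)) (tt N9255 (iv F15426)) (tt N10001 (iv F16684)))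
theorem Q7734 : ∀ i, i < 7734 → P i := stepQ 7733 Q7733 (allL N7733 (tt N8142 (iv F13507)) (tt N9263 (iv F15444)) (tt N5893 (iv D7733)) (tt N8141 F13506) (tt N10023 D10023) (tt N8156 (iv F13536)))
theorem Q7735 : ∀ i, i < 7735 → P i := stepQ 7734 Q7734 (allL N7734 (tt N10019 (iv F16721)) (tt N9250 (iv F15413)) (tt N10023 (iv F16727)) (tt N10024 D10024) (tt N5893 (iv D7734)) (tt N10025 D10025))
theorem Q7736 : ∀ i, i < 7736 → P i := stepQ 7735 Q7735 (allL N7735 (tt N10020 (iv F16722)) (tt N9251 (iv F15415)) (tt N10026 D10026) (tt N5894 (iv D7735)) (tt N10024 (iv F16728)) (tt N10027 D10027))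
theorem Q7737 : ∀ i, i < 7737 → P i := stepQ 7736 Q7736 (allL N7736 (tt N10021 (iv F16723)) (tt N7566 F12768) (tt N5895 F12769) (tt N10027 (iv F16730)) (tt N7564 F12770) (tt N5894 (iv D7736)))
theorem Q7738 : ∀ i, i < 7738 → P i := stepQ 7737 Q7737 (allL N7737 (tt N10022 (iv F16726)) (tt N10028 D10028) (tt N5896 (iv D7737)) (tt N10029 D10029) (tt N9257 (iv F15430)) (tt N10012 (iv F16707)))
theorem Q7739 : ∀ i, i < 7739 → P i := stepQ 7738 Q7738 (allL N7738 (tt N10030 D10030) (tt N5897 (iv D7738)) (tt N10028 (iv F16732)) (tt N10017 (iv F16718)) (tt N9259 (iv F15434)) (tt N10017 (iv F16719)))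
theorem Q7740 : ∀ i, i < 7740 → P i := stepQ 7739 Q7739 (allL N7739 (tt N5899 F12771) (tt N9255 (iv F15425)) (tt N10031 D10031) (tt N5898 (iv D7739)) (tt N9144 (iv F15244)) (tt N10032 D10032))
theorem Q7741 : ∀ i, i < 7741 → P i := stepQ 7740 Q7740 (allL N7740 (tt N5900 F12772) (tt N9256 (iv F15428)) (tt N9349 (iv F15633)) (tt N10032 (iv F16735)) (tt N9143 (iv F15241)) (tt N5898 (iv D7740)))
theorem Q7742 : ∀ i, i < 7742 → P i := stepQ 7741 Q7741 (allL N7741 (tt N10031 (iv F16733)) (tt N10033 D10033) (tt N5899 (iv D7741)) (tt N10034 D10034) (tt N9147 (iv F15249)) (tt N10035 D10035))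
theorem Q7743 : ∀ i, i < 7743 → P i := stepQ 7742 Q7742 (allL N7742 (tt N10032 (iv F16734)) (tt N5902 F12773) (tt N10035 (iv F16739)) (tt N5900 F12774) (tt N10036 D10036) (tt N5899 (iv D7742)))
theorem Q7744 : ∀ i, i < 7744 → P i := stepQ 7743 Q7743 (allL N7743 (tt N10037 D10037) (tt N5901 (iv D7743)) (tt N10033 (iv F16736)) (tt N7535 F12775) (tt N9148 (iv F15250)) (tt N7534 F12776))
theorem Q7745 : ∀ i, i < 7745 → P i := stepQ 7744 Q7744 (allL N7744 (tt N9260 (iv F15436)) (tt N10036 (iv F16740)) (tt N7536 F12777) (tt N7724 F12778) (tt N5902 (iv D7744)) (tt N7723 F12779))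
theorem Q7746 : ∀ i, i < 7746 → P i := stepQ 7745 Q7745 (allL N7745 (tt N5903 (iv D7745)) (tt N7533 F12780) (tt N8582 (iv F14221)) (tt N10038 D10038) (tt N7532 F12781) (tt N10039 D10039))
theorem Q7747 : ∀ i, i < 7747 → P i := stepQ 7746 Q7746 (allL N7746 (tt N10038 (iv F16745)) (tt N5904 F12782) (tt N10040 D10040) (tt N5903 (iv D7746)) (tt N10041 D10041) (tt N9259 (iv F15435)))
theorem Q7748 : ∀ i, i < 7748 → P i := stepQ 7747 Q7747 (allL N7747 (tt N10039 (iv F16747)) (tt N5905 F12783) (tt N8584 (iv F14225)) (tt N9259 (iv F15433)) (tt N10042 D10042) (tt N5903 (iv D7747)))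
theorem Q7749 : ∀ i, i < 7749 → P i := stepQ 7748 Q7748 (allL N7748 (tt N7536 F12784) (tt N10041 (iv F16749)) (tt N9260 (iv F15437)) (tt N7113 F12785) (tt N5904 (iv D7748)) (tt N10016 (iv F16717)))
theorem Q7750 : ∀ i, i < 7750 → P i := stepQ 7749 Q7749 (allL N7749 (tt N7537 F12786) (tt N10042 (iv F16751)) (tt N5906 F12787) (tt N10016 (iv F16715)) (tt N5905 (iv D7749)) (tt N7113 F12788))
theorem Q7751 : ∀ i, i < 7751 → P i := stepQ 7750 Q7750 (allL N7750 (tt N9186 (iv F15316)) (tt N5908 F12789) (tt N9302 (iv F15540)) (tt N9264 (iv F15446)) (tt N5907 (iv D7750)) (tt N10043 D10043))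
theorem Q7752 : ∀ i, i < 7752 → P i := stepQ 7751 Q7751 (allL N7751 (tt N5911 F12790) (tt N10043 (iv F16753)) (tt N5965 F12791) (tt N9265 (iv F15448)) (tt N5964 F12792) (tt N5908 (iv D7751)))
theorem Q7753 : ∀ i, i < 7753 → P i := stepQ 7752 Q7752 (allL N7752 (tt N9297 (iv F15527)) (tt N5910 F12793) (tt N9166 (iv F15278)) (tt N10044 D10044) (tt N5909 (iv D7752)) (tt N10045 D10045))
theorem Q7754 : ∀ i, i < 7754 → P i := stepQ 7753 Q7753 (allL N7753 (tt N5966 F12794) (tt N10044 (iv F16755)) (tt N9453 (iv F15782)) (tt N5910 (iv D7753)) (tt N5957 F12795) (tt N10046 D10046))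
theorem Q7755 : ∀ i, i < 7755 → P i := stepQ 7754 Q7754 (allL N7754 (tt N5965 F12796) (tt N10045 (iv F16757)) (tt N5911 F12797) (tt N10046 (iv F16760)) (tt N5956 F12798) (tt N5910 (iv D7754)))
theorem Q7756 : ∀ i, i < 7756 → P i := stepQ 7755 Q7755 (allL N7755 (tt N9020 (iv F14989)) (tt N5912 (iv D7755)) (tt N5919 F12799) (tt N9079 (iv F15103)) (tt N10047 D10047) (tt N9017 F14984))
theorem Q7757 : ∀ i, i < 7757 → P i := stepQ 7756 Q7756 (allL N7756 (tt N5915 F12800) (tt N9079 (iv F15102)) (tt N8145 (iv F13516)) (tt N5912 (iv D7756)) (tt N10048 D10048) (tt N8143 F13513))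
theorem Q7758 : ∀ i, i < 7758 → P i := stepQ 7757 Q7757 (allL N7757 (tt N5916 F12801) (tt N10047 (iv F16761)) (tt N5913 F12802) (tt N10049 D10049) (tt N5912 (iv D7757)) (tt N10050 D10050))
theorem Q7759 : ∀ i, i < 7759 → P i := stepQ 7758 Q7758 (allL N7758 (tt N5917 F12803) (tt N5922 F12804) (tt N10050 (iv F16766)) (tt N8125 (iv F13471)) (tt N9040 (iv F15034)) (tt N5913 (iv D7758)))
theorem Q7760 : ∀ i, i < 7760 → P i := stepQ 7759 Q7759 (allL N7759 (tt N5918 F12805) (tt N5924 F12806) (tt N10051 D10051) (tt N5914 (iv D7759)) (tt N9039 (iv F15031)) (tt N8112 (iv F13450)))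
theorem Q7761 : ∀ i, i < 7761 → P i := stepQ 7760 Q7760 (allL N7760 (tt N8145 (iv F13514)) (tt N9074 (iv F15091)) (tt N5915 (iv D7760)) (tt N8139 (iv F13501)) (tt N10052 D10052) (tt N8138 F13498))
theorem Q7762 : ∀ i, i < 7762 → P i := stepQ 7761 Q7761 (allL N7761 (tt N10048 (iv F16763)) (tt N9034 (iv F15019)) (tt N10052 (iv F16768)) (tt N10053 D10053) (tt N5915 (iv D7761)) (tt N10054 D10054))
theorem Q7763 : ∀ i, i < 7763 → P i := stepQ 7762 Q7762 (allL N7762 (tt N10049 (iv F16764)) (tt N9038 (iv F15028)) (tt N10055 D10055) (tt N5916 (iv D7762)) (tt N10053 (iv F16769)) (tt N10056 D10056))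
theorem Q7764 : ∀ i, i < 7764 → P i := stepQ 7763 Q7763 (allL N7763 (tt N10050 (iv F16765)) (tt N9037 (iv F15025)) (tt N5917 F12807) (tt N10056 (iv F16770)) (tt N9029 (iv F15010)) (tt N5916 (iv D7763)))
theorem Q7765 : ∀ i, i < 7765 → P i := stepQ 7764 Q7764 (allL N7764 (tt N10051 (iv F16767)) (tt N9063 (iv F15069)) (tt N5918 (iv D7764)) (tt N10057 D10057) (tt N9041 (iv F15035)) (tt N8117 (iv F13459)))
theorem Q7766 : ∀ i, i < 7766 → P i := stepQ 7765 Q7765 (allL N7765 (tt N5919 (iv D7765)) (tt N5925 F12808) (tt N9020 (iv F14991)) (tt N9121 (iv F15201)) (tt N10058 D10058) (tt N9004 (iv F14951)))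
theorem Q7767 : ∀ i, i < 7767 → P i := stepQ 7766 Q7766 (allL N7766 (tt N10058 (iv F16771)) (tt N5920 F12809) (tt N10047 (iv F16762)) (tt N10059 D10059) (tt N5919 (iv D7766)) (tt N10060 D10060))
theorem Q7768 : ∀ i, i < 7768 → P i := stepQ 7767 Q7767 (allL N7767 (tt N9004 (iv F14949)) (tt N5921 F12810) (tt N9017 (iv F14983)) (tt N5948 F12811) (tt N10061 D10061) (tt N5919 (iv D7767)))
theorem Q7769 : ∀ i, i < 7769 → P i := stepQ 7768 Q7768 (allL N7768 (tt N5930 F12812) (tt N10059 (iv F16773)) (tt N10062 D10062) (tt N5920 (iv D7768)) (tt N9343 (iv F15618)) (tt N10063 D10063))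
theorem Q7770 : ∀ i, i < 7770 → P i := stepQ 7769 Q7769 (allL N7769 (tt N5931 F12813) (tt N10060 (iv F16774)) (tt N5922 F12814) (tt N10063 (iv F16778)) (tt N10064 D10064) (tt N5920 (iv D7769)))
theorem Q7771 : ∀ i, i < 7771 → P i := stepQ 7770 Q7770 (allL N7770 (tt N5932 F12815) (tt N10061 (iv F16775)) (tt N5923 F12816) (tt N10065 D10065) (tt N5921 (iv D7770)) (tt N10064 (iv F16781)))
theorem Q7772 : ∀ i, i < 7772 → P i := stepQ 7771 Q7771 (allL N7771 (tt N5933 F12817) (tt N9040 (iv F15033)) (tt N10064 (iv F16780)) (tt N10066 D10066) (tt N5922 (iv D7771)) (tt N5923 F12818))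
theorem Q7773 : ∀ i, i < 7773 → P i := stepQ 7772 Q7772 (allL N7772 (tt N5934 F12819) (tt N9039 (iv F15030)) (tt N10067 D10067) (tt N5923 (iv D7772)) (tt N5924 F12820) (tt N10066 (iv F16785)))
theorem Q7774 : ∀ i, i < 7774 → P i := stepQ 7773 Q7773 (allL N7773 (tt N5935 F12821) (tt N10068 D10068) (tt N5924 (iv D7773)) (tt N5935 F12822) (tt N10067 (iv F16787)) (tt N9064 (iv F15072)))
theorem Q7775 : ∀ i, i < 7775 → P i := stepQ 7774 Q7774 (allL N7774 (tt N5927 F12823) (tt N10058 (iv F16772)) (tt N5936 F12824) (tt N10069 D10069) (tt N5925 (iv D7774)) (tt N10070 D10070))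
theorem Q7776 : ∀ i, i < 7776 → P i := stepQ 7775 Q7775 (allL N7775 (tt N9122 (iv F15203)) (tt N5928 F12825) (tt N9108 (iv F15167)) (tt N10071 D10071) (tt N5926 (iv D7775)) (tt N10072 D10072))
theorem Q7777 : ∀ i, i < 7777 → P i := stepQ 7776 Q7776 (allL N7776 (tt N10069 (iv F16789)) (tt N5930 F12826) (tt N10073 D10073) (tt N5927 (iv D7776)) (tt N10071 (iv F16793)) (tt N10074 D10074))
theorem Q7778 : ∀ i, i < 7778 → P i := stepQ 7777 Q7777 (allL N7777 (tt N10070 (iv F16790)) (tt N5931 F12827) (tt N5938 F12828) (tt N10074 (iv F16796)) (tt N9011 (iv F14971)) (tt N5927 (iv D7777)))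
theorem Q7779 : ∀ i, i < 7779 → P i := stepQ 7778 Q7778 (allL N7778 (tt N9343 (iv F15617)) (tt N10071 (iv F16792)) (tt N10075 D10075) (tt N5928 (iv D7778)) (tt N5930 F12829) (tt N10076 D10076))
theorem Q7780 : ∀ i, i < 7780 → P i := stepQ 7779 Q7779 (allL N7779 (tt N9344 (iv F15619)) (tt N10072 (iv F16794)) (tt N9339 (iv F15610)) (tt N10076 (iv F16798)) (tt N10077 D10077) (tt N5928 (iv D7779)))
theorem Q7781 : ∀ i, i < 7781 → P i := stepQ 7780 Q7780 (allL N7780 (tt N5949 F12830) (tt N9009 (iv F14967)) (tt N5946 F12831) (tt N10078 D10078) (tt N5929 (iv D7780)) (tt N10077 (iv F16801)))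
theorem Q7782 : ∀ i, i < 7782 → P i := stepQ 7781 Q7781 (allL N7781 (tt N10062 (iv F16776)) (tt N10079 D10079) (tt N5930 (iv D7781)) (tt N10080 D10080) (tt N10075 (iv F16797)) (tt N10081 D10081))
theorem Q7783 : ∀ i, i < 7783 → P i := stepQ 7782 Q7782 (allL N7782 (tt N10063 (iv F16777)) (tt N10074 (iv F16795)) (tt N10081 (iv F16804)) (tt N5931 F12832) (tt N10082 D10082) (tt N5930 (iv D7782)))
theorem Q7784 : ∀ i, i < 7784 → P i := stepQ 7783 Q7783 (allL N7783 (tt N10064 (iv F16779)) (tt N9011 (iv F14969)) (tt N5933 F12833) (tt N10083 D10083) (tt N5931 (iv D7783)) (tt N5932 F12834))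
theorem Q7785 : ∀ i, i < 7785 → P i := stepQ 7784 Q7784 (allL N7784 (tt N10065 (iv F16782)) (tt N9010 (iv F14968)) (tt N10084 D10084) (tt N5932 (iv D7784)) (tt N10078 (iv F16803)) (tt N10083 (iv F16805)))
theorem Q7786 : ∀ i, i < 7786 → P i := stepQ 7785 Q7785 (allL N7785 (tt N10066 (iv F16784)) (tt N5941 F12835) (tt N10085 D10085) (tt N5933 (iv D7785)) (tt N8801 (iv F14617)) (tt N5934 F12836))
theorem Q7787 : ∀ i, i < 7787 → P i := stepQ 7786 Q7786 (allL N7786 (tt N10067 (iv F16786)) (tt N10086 D10086) (tt N5934 (iv D7786)) (tt N10087 D10087) (tt N5935 F12837) (tt N10085 (iv F16806)))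
theorem Q7788 : ∀ i, i < 7788 → P i := stepQ 7787 Q7787 (allL N7787 (tt N10088 D10088) (tt N5935 (iv D7787)) (tt N5943 F12838) (tt N10068 (iv F16788)) (tt N10086 (iv F16808)) (tt N9065 (iv F15074)))
theorem Q7789 : ∀ i, i < 7789 → P i := stepQ 7788 Q7788 (allL N7788 (tt N5938 F12839) (tt N9025 (iv F15001)) (tt N10070 (iv F16791)) (tt N9610 (iv F16070)) (tt N9007 (iv F14962)) (tt N5936 (iv D7788)))
theorem Q7790 : ∀ i, i < 7790 → P i := stepQ 7789 Q7789 (allL N7789 (tt N9614 (iv F16074)) (tt N10089 D10089) (tt N5937 (iv D7789)) (tt N10090 D10090) (tt N9012 (iv F14973)) (tt N10091 D10091))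
theorem Q7791 : ∀ i, i < 7791 → P i := stepQ 7790 Q7790 (allL N7790 (tt N9610 (iv F16068)) (tt N5940 F12840) (tt N10091 (iv F16811)) (tt N5938 F12841) (tt N8248 (iv F13685)) (tt N5937 (iv D7790)))
theorem Q7792 : ∀ i, i < 7792 → P i := stepQ 7791 Q7791 (allL N7791 (tt N10092 D10092) (tt N5939 (iv D7791)) (tt N10089 (iv F16810)) (tt N10093 D10093) (tt N9013 (iv F14976)) (tt N10094 D10094))
theorem Q7793 : ∀ i, i < 7793 → P i := stepQ 7792 Q7792 (allL N7792 (tt N8805 (iv F14625)) (tt N10093 (iv F16812)) (tt N8133 (iv F13486)) (tt N5939 (iv D7792)) (tt N8803 (iv F14619)) (tt N8132 F13484))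
theorem Q7794 : ∀ i, i < 7794 → P i := stepQ 7793 Q7793 (allL N7793 (tt N8807 (iv F14629)) (tt N10094 (iv F16813)) (tt N5940 F12842) (tt N8132 (iv F13483)) (tt N8251 (iv F13692)) (tt N5939 (iv D7793)))
theorem Q7795 : ∀ i, i < 7795 → P i := stepQ 7794 Q7794 (allL N7794 (tt N10095 D10095) (tt N5942 (iv D7794)) (tt N10086 (iv F16807)) (tt N9058 (iv F15061)) (tt N5943 F12843) (tt N9057 F15059))
theorem Q7796 : ∀ i, i < 7796 → P i := stepQ 7795 Q7795 (allL N7795 (tt N5943 (iv D7795)) (tt N9062 (iv F15068)) (tt N10088 (iv F16809)) (tt N9016 (iv F14981)) (tt N10095 (iv F16814)) (tt N9066 (iv F15075)))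
theorem Q7797 : ∀ i, i < 7797 → P i := stepQ 7796 Q7796 (allL N7796 (tt N9149 (iv F15251)) (tt N9008 (iv F14964)) (tt N5944 (iv D7796)) (tt N9107 (iv F15165)) (tt N10096 D10096) (tt N9105 F15159))
theorem Q7798 : ∀ i, i < 7798 → P i := stepQ 7797 Q7797 (allL N7797 (tt N9338 (iv F15607)) (tt N5946 F12844) (tt N10096 (iv F16815)) (tt N10097 D10097) (tt N5944 (iv D7797)) (tt N10098 D10098))
theorem Q7799 : ∀ i, i < 7799 → P i := stepQ 7798 Q7798 (allL N7798 (tt N9328 (iv F15576)) (tt N5947 F12845) (tt N10099 D10099) (tt N5945 (iv D7798)) (tt N10097 (iv F16817)) (tt N9084 (iv F15112)))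
theorem Q7800 : ∀ i, i < 7800 → P i := stepQ 7799 Q7799 (allL N7799 (tt N5950 F12846) (tt N10097 (iv F16816)) (tt N10100 D10100) (tt N5946 (iv D7799)) (tt N5947 F12847) (tt N10101 D10101))
theorem Q7801 : ∀ i, i < 7801 → P i := stepQ 7800 Q7800 (allL N7800 (tt N5951 F12848) (tt N10098 (iv F16818)) (tt N10077 (iv F16800)) (tt N10101 (iv F16822)) (tt N9339 (iv F15612)) (tt N5946 (iv D7800)))
theorem Q7802 : ∀ i, i < 7802 → P i := stepQ 7801 Q7801 (allL N7801 (tt N5952 F12849) (tt N10102 D10102) (tt N5947 (iv D7801)) (tt N5952 F12850) (tt N10100 (iv F16820)) (tt N9087 (iv F15121)))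
theorem Q7803 : ∀ i, i < 7803 → P i := stepQ 7802 Q7802 (allL N7802 (tt N5948 (iv D7802)) (tt N9005 (iv F14954)) (tt N9155 (iv F15263)) (tt N9004 F14952) (tt N10103 D10103) (tt N9121 (iv F15202)))
theorem Q7804 : ∀ i, i < 7804 → P i := stepQ 7803 Q7803 (allL N7803 (tt N10103 (iv F16824)) (tt N5949 F12851) (tt N9347 (iv F15626)) (tt N10104 D10104) (tt N5948 (iv D7803)) (tt N10105 D10105))
theorem Q7805 : ∀ i, i < 7805 → P i := stepQ 7804 Q7804 (allL N7804 (tt N10078 (iv F16802)) (tt N10104 (iv F16825)) (tt N10106 D10106) (tt N5949 (iv D7804)) (tt N10065 (iv F16783)) (tt N10107 D10107))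
theorem Q7806 : ∀ i, i < 7806 → P i := stepQ 7805 Q7805 (allL N7805 (tt N10077 (iv F16799)) (tt N10105 (iv F16826)) (tt N5951 F12852) (tt N10107 (iv F16827)) (tt N9344 (iv F15621)) (tt N5949 (iv D7805)))
theorem Q7807 : ∀ i, i < 7807 → P i := stepQ 7806 Q7806 (allL N7806 (tt N10100 (iv F16819)) (tt N10108 D10108) (tt N5950 (iv D7806)) (tt N10109 D10109) (tt N5952 F12853) (tt N10110 D10110))
theorem Q7808 : ∀ i, i < 7808 → P i := stepQ 7807 Q7807 (allL N7807 (tt N10101 (iv F16821)) (tt N9332 (iv F15590)) (tt N10110 (iv F16829)) (tt N5951 F12854) (tt N9091 (iv F15129)) (tt N5950 (iv D7807)))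
theorem Q7809 : ∀ i, i < 7809 → P i := stepQ 7808 Q7808 (allL N7808 (tt N10111 D10111) (tt N5952 (iv D7808)) (tt N9335 (iv F15597)) (tt N10102 (iv F16823)) (tt N10108 (iv F16828)) (tt N9092 (iv F15131)))
theorem Q7810 : ∀ i, i < 7810 → P i := stepQ 7809 Q7809 (allL N7809 (tt N5954 F12855) (tt N5958 F12856) (tt N9284 (iv F15496)) (tt N8199 (iv F13603)) (tt N5953 (iv D7809)) (tt N10112 D10112))
theorem Q7811 : ∀ i, i < 7811 → P i := stepQ 7810 Q7810 (allL N7810 (tt N10112 (iv F16830)) (tt N5956 F12857) (tt N9286 (iv F15499)) (tt N9099 (iv F15148)) (tt N10045 (iv F16758)) (tt N5954 (iv D7810)))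
theorem Q7812 : ∀ i, i < 7812 → P i := stepQ 7811 Q7811 (allL N7811 (tt N9298 (iv F15529)) (tt N5957 F12858) (tt N10113 D10113) (tt N5955 (iv D7811)) (tt N10044 (iv F16756)) (tt N9093 (iv F15134)))
theorem Q7813 : ∀ i, i < 7813 → P i := stepQ 7812 Q7812 (allL N7812 (tt N5961 F12859) (tt N10112 (iv F16831)) (tt N8179 (iv F13572)) (tt N8200 (iv F13606)) (tt N9300 (iv F15535)) (tt N5958 (iv D7812)))
theorem Q7814 : ∀ i, i < 7814 → P i := stepQ 7813 Q7813 (allL N7813 (tt N9274 (iv F15467)) (tt N5960 F12860) (tt N5962 F12861) (tt N10114 D10114) (tt N5959 (iv D7813)) (tt N10115 D10115))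
theorem Q7815 : ∀ i, i < 7815 → P i := stepQ 7814 Q7814 (allL N7814 (tt N8178 (iv F13569)) (tt N10114 (iv F16832)) (tt N10116 D10116) (tt N5960 (iv D7814)) (tt N8168 (iv F13551)) (tt N10117 D10117))
theorem Q7816 : ∀ i, i < 7816 → P i := stepQ 7815 Q7815 (allL N7815 (tt N8179 (iv F13571)) (tt N10115 (iv F16833)) (tt N5961 F12862) (tt N10117 (iv F16835)) (tt N9304 (iv F15542)) (tt N5960 (iv D7815)))
theorem Q7817 : ∀ i, i < 7817 → P i := stepQ 7816 Q7816 (allL N7816 (tt N9275 (iv F15469)) (tt N5963 F12863) (tt N10118 D10118) (tt N5962 (iv D7816)) (tt N9273 (iv F15465)) (tt N10119 D10119))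
theorem Q7818 : ∀ i, i < 7818 → P i := stepQ 7817 Q7817 (allL N7817 (tt N9276 (iv F15472)) (tt N5964 F12864) (tt N10115 (iv F16834)) (tt N10119 (iv F16837)) (tt N10043 (iv F16754)) (tt N5962 (iv D7817)))
theorem Q7819 : ∀ i, i < 7819 → P i := stepQ 7818 Q7818 (allL N7818 (tt N9280 (iv F15484)) (tt N10120 D10120) (tt N5963 (iv D7818)) (tt N10121 D10121) (tt N9279 (iv F15481)) (tt N10122 D10122))
theorem Q7820 : ∀ i, i < 7820 → P i := stepQ 7819 Q7819 (allL N7819 (tt N9281 (iv F15486)) (tt N10119 (iv F16836)) (tt N10122 (iv F16840)) (tt N5964 F12865) (tt N9657 (iv F16123)) (tt N5963 (iv D7819)))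
theorem Q7821 : ∀ i, i < 7821 → P i := stepQ 7820 Q7820 (allL N7820 (tt N10046 (iv F16759)) (tt N9306 (iv F15544)) (tt N10123 D10123) (tt N5965 (iv D7820)) (tt N9096 (iv F15141)) (tt N5966 F12866))
theorem Q7822 : ∀ i, i < 7822 → P i := stepQ 7821 Q7821 (allL N7821 (tt N9453 (iv F15781)) (tt N10124 D10124) (tt N5966 (iv D7821)) (tt N10125 D10125) (tt N5967 F12867) (tt N10123 (iv F16842)))
theorem Q7823 : ∀ i, i < 7823 → P i := stepQ 7822 Q7822 (allL N7822 (tt N10126 D10126) (tt N5967 (iv D7822)) (tt N9307 (iv F15547)) (tt N9444 (iv F15768)) (tt N10124 (iv F16843)) (tt N9097 (iv F15143)))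
theorem Q7824 : ∀ i, i < 7824 → P i := stepQ 7823 Q7823 (allL N7823 (tt N5968 (iv D7823)) (tt N5976 F12868) (tt N5989 F12869) (tt N10127 D10127) (tt N6183 F12870) (tt N6091 (iv F12871)))
theorem Q7825 : ∀ i, i < 7825 → P i := stepQ 7824 Q7824 (allL N7824 (tt N10127 (iv F16845)) (tt N5969 F12872) (tt N7970 (iv F13208)) (tt N5968 (iv D7824)) (tt N10128 D10128) (tt N7837 (iv F12905)))
theorem Q7826 : ∀ i, i < 7826 → P i := stepQ 7825 Q7825 (allL N7825 (tt N6091 F12873) (tt N5970 F12874) (tt N5988 F12875) (tt N7837 (iv F12904)) (tt N10129 D10129) (tt N5968 (iv D7825)))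
theorem Q7827 : ∀ i, i < 7827 → P i := stepQ 7826 Q7826 (allL N7826 (tt N5979 F12876) (tt N10128 (iv F16848)) (tt N7840 (iv F12909)) (tt N6187 F12877) (tt N5969 (iv D7826)) (tt N10130 D10130))
theorem Q7828 : ∀ i, i < 7828 → P i := stepQ 7827 Q7827 (allL N7827 (tt N5981 F12878) (tt N10129 (iv F16851)) (tt N5971 F12879) (tt N10131 D10131) (tt N5970 (iv D7827)) (tt N6188 F12880))
theorem Q7829 : ∀ i, i < 7829 → P i := stepQ 7828 Q7828 (allL N7828 (tt N5972 (iv D7828)) (tt N6183 F12881) (tt N5982 F12882) (tt N10132 D10132) (tt N5976 F12883) (tt N10133 D10133))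
theorem Q7830 : ∀ i, i < 7830 → P i := stepQ 7829 Q7829 (allL N7829 (tt N10132 (iv F16858)) (tt N5973 F12884) (tt N10134 D10134) (tt N5972 (iv D7829)) (tt N10135 D10135) (tt N10136 D10136))
theorem Q7831 : ∀ i, i < 7831 → P i := stepQ 7830 Q7830 (allL N7830 (tt N10133 (iv F16860)) (tt N5974 F12885) (tt N5984 F12886) (tt N10136 (iv F16867)) (tt N6099 F12887) (tt N5972 (iv D7830)))
theorem Q7832 : ∀ i, i < 7832 → P i := stepQ 7831 Q7831 (allL N7831 (tt N6186 F12888) (tt N10136 (iv F16866)) (tt N5973 (iv D7831)) (tt N5974 F12889) (tt N10137 D10137) (tt N5973 (iv F12890)))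
theorem Q7833 : ∀ i, i < 7833 → P i := stepQ 7832 Q7832 (allL N7832 (tt N6187 F12891) (tt N10135 (iv F16864)) (tt N10137 (iv F16869)) (tt N5979 F12892) (tt N5973 (iv D7832)) (tt N10138 D10138))
theorem Q7834 : ∀ i, i < 7834 → P i := stepQ 7833 Q7833 (allL N7833 (tt N6188 F12893) (tt N6099 F12894) (tt N5975 F12895) (tt N10139 D10139) (tt N5974 (iv D7833)) (tt N5981 F12896))
theorem Q7835 : ∀ i, i < 7835 → P i := stepQ 7834 Q7834 (allL N7834 (tt N5977 F12897) (tt N10127 (iv F16846)) (tt N6078 F12899) (tt N5976 (iv D7834)) (tt N10140 D10140) (tt N6092 F12898))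
theorem Q7836 : ∀ i, i < 7836 → P i := stepQ 7835 Q7835 (allL N7835 (tt N6078 F12900) (tt N10141 D10141) (tt N5977 (iv D7835)) (tt N6075 F12902) (tt N10142 D10142) (tt N6096 F12901))
theorem Q7837 : ∀ i, i < 7837 → P i := stepQ 7836 Q7836 (allL N7836 (tt N10140 (iv F16875)) (tt N5979 F12903) (tt N10142 (iv F16881)) (tt N10135 (iv F16865)) (tt N5977 (iv D7836)) (tt N10143 D10143))
theorem Q7838 : ∀ i, i < 7838 → P i := stepQ 7837 Q7837 (allL N7837 (tt N7964 (iv F13200)) (tt N5978 (iv D7837)) (tt N10141 (iv F16877)) (tt N7825 F12904) (tt N10144 D10144) (tt N7824 F12905))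
theorem Q7839 : ∀ i, i < 7839 → P i := stepQ 7838 Q7838 (allL N7838 (tt N7840 (iv F12907)) (tt N10144 (iv F16884)) (tt N5979 F12906) (tt N10145 D10145) (tt N5978 (iv D7838)) (tt N10146 D10146))
theorem Q7840 : ∀ i, i < 7840 → P i := stepQ 7839 Q7839 (allL N7839 (tt N10130 (iv F16854)) (tt N10143 (iv F16882)) (tt N10146 (iv F16886)) (tt N10138 (iv F16871)) (tt N10147 D10147) (tt N5979 (iv D7839)))
theorem Q7841 : ∀ i, i < 7841 → P i := stepQ 7840 Q7840 (allL N7840 (tt N7838 F12907) (tt N6097 F12908) (tt N7826 F12909) (tt N10148 D10148) (tt N5980 (iv D7840)) (tt N10147 (iv F16891)))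
theorem Q7842 : ∀ i, i < 7842 → P i := stepQ 7841 Q7841 (allL N7841 (tt N10131 (iv F16856)) (tt N6098 F12910) (tt N10149 D10149) (tt N5981 (iv D7841)) (tt N10148 (iv F16894)) (tt N10139 (iv F16874)))
theorem Q7843 : ∀ i, i < 7843 → P i := stepQ 7842 Q7842 (allL N7842 (tt N5983 F12911) (tt N6017 F12912) (tt N10150 D10150) (tt N5982 (iv D7842)) (tt N6095 F12913) (tt N10151 D10151))
theorem Q7844 : ∀ i, i < 7844 → P i := stepQ 7843 Q7843 (allL N7843 (tt N5984 F12914) (tt N6018 F12915) (tt N10133 (iv F16862)) (tt N10151 (iv F16899)) (tt N6094 F12916) (tt N5982 (iv D7843)))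
theorem Q7845 : ∀ i, i < 7845 → P i := stepQ 7844 Q7844 (allL N7844 (tt N10150 (iv F16895)) (tt N10152 D10152) (tt N5983 (iv D7844)) (tt N10153 D10153) (tt N6100 F12917) (tt N10154 D10154))
theorem Q7846 : ∀ i, i < 7846 → P i := stepQ 7845 Q7845 (allL N7845 (tt N10151 (iv F16897)) (tt N5986 F12918) (tt N10154 (iv F16905)) (tt N5984 F12919) (tt N7068 F12920) (tt N5983 (iv D7845)))
theorem Q7847 : ∀ i, i < 7847 → P i := stepQ 7846 Q7846 (allL N7846 (tt N10155 D10155) (tt N5985 (iv D7846)) (tt N10152 (iv F16901)) (tt N6015 F12921) (tt N6101 F12922) (tt N6014 F12923))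
theorem Q7848 : ∀ i, i < 7848 → P i := stepQ 7847 Q7847 (allL N7847 (tt N10156 D10156) (tt N5987 (iv D7847)) (tt N10129 (iv F16852)) (tt N7238 F12924) (tt N5988 F12925) (tt N6193 F12926))
theorem Q7849 : ∀ i, i < 7849 → P i := stepQ 7848 Q7848 (allL N7848 (tt N5988 (iv D7848)) (tt N6003 F12927) (tt N6091 F12928) (tt N6035 F12929) (tt N10156 (iv F16914)) (tt N5989 F12930))
theorem Q7850 : ∀ i, i < 7850 → P i := stepQ 7849 Q7849 (allL N7849 (tt N5990 F12931) (tt N6002 F12932) (tt N8025 (iv F13290)) (tt N5989 (iv D7849)) (tt N10157 D10157) (tt N6035 F12933))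
theorem Q7851 : ∀ i, i < 7851 → P i := stepQ 7850 Q7850 (allL N7850 (tt N10157 (iv F16916)) (tt N5991 F12934) (tt N8026 (iv F13293)) (tt N6192 F12935) (tt N5990 (iv D7850)) (tt N7237 F12936))
theorem Q7852 : ∀ i, i < 7852 → P i := stepQ 7851 Q7851 (allL N7851 (tt N8022 (iv F13282)) (tt N6004 F12937) (tt N5992 (iv D7851)) (tt N10158 D10158) (tt N10159 D10159) (tt N5995 F12938))
theorem Q7853 : ∀ i, i < 7853 → P i := stepQ 7852 Q7852 (allL N7852 (tt N8023 (iv F13284)) (tt N5993 F12939) (tt N10159 (iv F16924)) (tt N6055 F12940) (tt N5992 (iv D7852)) (tt N6303 F12941))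
theorem Q7854 : ∀ i, i < 7854 → P i := stepQ 7853 Q7853 (allL N7853 (tt N5995 F12942) (tt N7992 (iv F13237)) (tt N5994 (iv D7853)) (tt N9996 (iv F16674)) (tt N6298 F12943) (tt N8022 (iv F13283)))
theorem Q7855 : ∀ i, i < 7855 → P i := stepQ 7854 Q7854 (allL N7854 (tt N10003 (iv F16689)) (tt N5995 (iv D7854)) (tt N5996 F12944) (tt N10002 F16688) (tt N6300 F12945) (tt N6004 F12946))
theorem Q7856 : ∀ i, i < 7856 → P i := stepQ 7855 Q7855 (allL N7855 (tt N9996 F16675) (tt N10002 (iv F16685)) (tt N10160 D10160) (tt N5995 (iv D7855)) (tt N10161 D10161) (tt N10158 (iv F16921)))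
theorem Q7857 : ∀ i, i < 7857 → P i := stepQ 7856 Q7856 (allL N7856 (tt N5996 (iv D7856)) (tt N6035 F12947) (tt N10003 (iv F16691)) (tt N6003 F12948) (tt N6304 F12949) (tt N6002 F12950))
theorem Q7858 : ∀ i, i < 7858 → P i := stepQ 7857 Q7857 (allL N7857 (tt N5998 F12951) (tt N6189 F12952) (tt N10162 D10162) (tt N5997 (iv D7857)) (tt N10163 D10163) (tt N6207 (iv F12953)))
theorem Q7859 : ∀ i, i < 7859 → P i := stepQ 7858 Q7858 (allL N7858 (tt N5999 F12954) (tt N6190 F12955) (tt N6018 F12956) (tt N6207 F12957) (tt N10164 D10164) (tt N5997 (iv D7858)))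
theorem Q7860 : ∀ i, i < 7860 → P i := stepQ 7859 Q7859 (allL N7859 (tt N10162 (iv F16931)) (tt N6203 F12958) (tt N5998 (iv D7859)) (tt N10165 D10165) (tt N10166 D10166) (tt N6200 F12959))
theorem Q7861 : ∀ i, i < 7861 → P i := stepQ 7860 Q7860 (allL N7860 (tt N10163 (iv F16933)) (tt N6000 F12960) (tt N10166 (iv F16945)) (tt N6005 F12961) (tt N5998 (iv D7860)) (tt N7100 F12962))
theorem Q7862 : ∀ i, i < 7862 → P i := stepQ 7861 Q7861 (allL N7861 (tt N10164 (iv F16937)) (tt N6001 F12963) (tt N6022 F12964) (tt N7070 F12965) (tt N5999 (iv D7861)) (tt N6006 F12966))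
theorem Q7863 : ∀ i, i < 7863 → P i := stepQ 7862 Q7862 (allL N7862 (tt N6004 F12967) (tt N10006 (iv F16698)) (tt N6002 (iv D7862)) (tt N6042 F12968) (tt N10167 D10167) (tt N10003 (iv F16692)))
theorem Q7864 : ∀ i, i < 7864 → P i := stepQ 7863 Q7863 (allL N7863 (tt N6005 F12969) (tt N10157 (iv F16917)) (tt N10167 (iv F16948)) (tt N10163 (iv F16935)) (tt N6002 (iv D7863)) (tt N10168 D10168))
theorem Q7865 : ∀ i, i < 7865 → P i := stepQ 7864 Q7864 (allL N7864 (tt N6006 F12970) (tt N10156 (iv F16911)) (tt N6028 F12971) (tt N10169 D10169) (tt N6003 (iv D7864)) (tt N10164 (iv F16941)))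
theorem Q7866 : ∀ i, i < 7866 → P i := stepQ 7865 Q7865 (allL N7865 (tt N6042 F12972) (tt N10158 (iv F16920)) (tt N6041 F12973) (tt N6004 (iv D7865)) (tt N10170 D10170) (tt N10002 (iv F16687)))
theorem Q7867 : ∀ i, i < 7867 → P i := stepQ 7866 Q7866 (allL N7866 (tt N10167 (iv F16947)) (tt N10159 (iv F16923)) (tt N6005 F12974) (tt N10171 D10171) (tt N6004 (iv D7866)) (tt N10172 D10172))
theorem Q7868 : ∀ i, i < 7868 → P i := stepQ 7867 Q7867 (allL N7867 (tt N10168 (iv F16949)) (tt N6007 F12975) (tt N10172 (iv F16960)) (tt N7100 F12976) (tt N6306 F12977) (tt N6005 (iv D7867)))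
theorem Q7869 : ∀ i, i < 7869 → P i := stepQ 7868 Q7868 (allL N7868 (tt N10169 (iv F16953)) (tt N6008 F12978) (tt N10173 D10173) (tt N6006 (iv D7868)) (tt N6305 F12979) (tt N7070 F12980))
theorem Q7870 : ∀ i, i < 7870 → P i := stepQ 7869 Q7869 (allL N7869 (tt N6009 (iv D7869)) (tt N6144 F12981) (tt N6013 F12982) (tt N10174 D10174) (tt N6139 F12983) (tt N10175 D10175))
theorem Q7871 : ∀ i, i < 7871 → P i := stepQ 7870 Q7870 (allL N7870 (tt N10174 (iv F16965)) (tt N6010 F12984) (tt N10176 D10176) (tt N6009 (iv D7870)) (tt N10177 D10177) (tt N10178 D10178))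
theorem Q7872 : ∀ i, i < 7872 → P i := stepQ 7871 Q7871 (allL N7871 (tt N10175 (iv F16968)) (tt N6011 F12985) (tt N6015 F12986) (tt N10178 (iv F16976)) (tt N10179 D10179) (tt N6009 (iv D7871)))
theorem Q7873 : ∀ i, i < 7873 → P i := stepQ 7872 Q7872 (allL N7872 (tt N6147 F12987) (tt N10178 (iv F16975)) (tt N6010 (iv D7872)) (tt N6011 F12988) (tt N10180 D10180) (tt N6010 (iv F12989)))
theorem Q7874 : ∀ i, i < 7874 → P i := stepQ 7873 Q7873 (allL N7873 (tt N6148 F12990) (tt N10177 (iv F16973)) (tt N10180 (iv F16982)) (tt N6142 F12991) (tt N6010 (iv D7873)) (tt N10181 D10181))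
theorem Q7875 : ∀ i, i < 7875 → P i := stepQ 7874 Q7874 (allL N7874 (tt N6149 F12992) (tt N10179 (iv F16978)) (tt N6012 F12993) (tt N10182 D10182) (tt N6011 (iv D7874)) (tt N6143 F12994))
theorem Q7876 : ∀ i, i < 7876 → P i := stepQ 7875 Q7875 (allL N7875 (tt N6014 F12995) (tt N6168 F12996) (tt N10183 D10183) (tt N6013 (iv D7875)) (tt N7240 F12997) (tt N10155 (iv F16910)))
theorem Q7877 : ∀ i, i < 7877 → P i := stepQ 7876 Q7876 (allL N7876 (tt N6015 F12998) (tt N6169 F12999) (tt N10175 (iv F16970)) (tt N10155 (iv F16908)) (tt N10184 D10184) (tt N6013 (iv D7876)))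
theorem Q7878 : ∀ i, i < 7878 → P i := stepQ 7877 Q7877 (allL N7877 (tt N10183 (iv F16987)) (tt N10154 (iv F16904)) (tt N6014 (iv D7877)) (tt N10185 D10185) (tt N7241 F13000) (tt N10152 F16903))
theorem Q7879 : ∀ i, i < 7879 → P i := stepQ 7878 Q7878 (allL N7878 (tt N10184 (iv F16989)) (tt N6016 F13001) (tt N10179 (iv F16979)) (tt N10186 D10186) (tt N6015 (iv D7878)) (tt N6162 F13002))
theorem Q7880 : ∀ i, i < 7880 → P i := stepQ 7879 Q7879 (allL N7879 (tt N6174 F13003) (tt N10186 (iv F16993)) (tt N6221 F13004) (tt N6016 (iv D7879)) (tt N6102 F13005) (tt N6163 F13006))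
theorem Q7881 : ∀ i, i < 7881 → P i := stepQ 7880 Q7880 (allL N7880 (tt N6019 F13007) (tt N10187 D10187) (tt N6017 (iv D7880)) (tt N10188 D10188) (tt N10189 D10189) (tt N10190 D10190))
theorem Q7882 : ∀ i, i < 7882 → P i := stepQ 7881 Q7881 (allL N7881 (tt N6020 F13008) (tt N6095 F13009) (tt N10189 (iv F16999)) (tt N6027 F13010) (tt N6017 (iv D7881)) (tt N7030 (iv F13011)))
theorem Q7883 : ∀ i, i < 7883 → P i := stepQ 7882 Q7882 (allL N7882 (tt N6021 F13012) (tt N10151 (iv F16898)) (tt N10190 (iv F17002)) (tt N6018 F13013) (tt N10191 D10191) (tt N6017 (iv D7882)))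
theorem Q7884 : ∀ i, i < 7884 → P i := stepQ 7883 Q7883 (allL N7883 (tt N6022 F13014) (tt N6094 F13015) (tt N10164 (iv F16939)) (tt N7029 (iv F13017)) (tt N6018 (iv D7883)) (tt N6028 F13016))
theorem Q7885 : ∀ i, i < 7885 → P i := stepQ 7884 Q7884 (allL N7884 (tt N10192 D10192) (tt N6019 (iv D7884)) (tt N6023 F13018) (tt N10193 D10193) (tt N10194 D10194) (tt N6170 (iv F13019)))
theorem Q7886 : ∀ i, i < 7886 → P i := stepQ 7885 Q7885 (allL N7885 (tt N10188 (iv F16996)) (tt N10193 (iv F17011)) (tt N10195 D10195) (tt N6019 (iv D7885)) (tt N10196 D10196) (tt N10197 D10197))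
theorem Q7887 : ∀ i, i < 7887 → P i := stepQ 7886 Q7886 (allL N7886 (tt N10189 (iv F16998)) (tt N10194 (iv F17014)) (tt N6020 F13020) (tt N10198 D10198) (tt N6019 (iv D7886)) (tt N7035 (iv F13021)))
theorem Q7888 : ∀ i, i < 7888 → P i := stepQ 7887 Q7887 (allL N7887 (tt N10190 (iv F17001)) (tt N6170 F13022) (tt N6021 F13023) (tt N10197 (iv F17020)) (tt N10199 D10199) (tt N6019 (iv D7887)))
theorem Q7889 : ∀ i, i < 7889 → P i := stepQ 7888 Q7888 (allL N7888 (tt N10191 (iv F17003)) (tt N6025 F13024) (tt N10199 (iv F17023)) (tt N7013 F13025) (tt N6021 (iv D7888)) (tt N7012 F13026))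
theorem Q7890 : ∀ i, i < 7890 → P i := stepQ 7889 Q7889 (allL N7889 (tt N6023 (iv D7889)) (tt N10155 (iv F16907)) (tt N10192 (iv F17007)) (tt N6169 F13027) (tt N10200 D10200) (tt N6168 F13028))
theorem Q7891 : ∀ i, i < 7891 → P i := stepQ 7890 Q7890 (allL N7890 (tt N10200 (iv F17025)) (tt N6024 F13029) (tt N10194 (iv F17015)) (tt N10201 D10201) (tt N6023 (iv D7890)) (tt N7036 (iv F13030)))
theorem Q7892 : ∀ i, i < 7892 → P i := stepQ 7891 Q7891 (allL N7891 (tt N6102 F13031) (tt N10201 (iv F17028)) (tt N6074 F13034) (tt N6024 (iv D7891)) (tt N6174 F13032) (tt N6082 F13033))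
theorem Q7893 : ∀ i, i < 7893 → P i := stepQ 7892 Q7892 (allL N7892 (tt N6029 F13035) (tt N7713 F13036) (tt N6027 F13037) (tt N10202 D10202) (tt N6026 (iv D7892)) (tt N7020 F13038))
theorem Q7894 : ∀ i, i < 7894 → P i := stepQ 7893 Q7893 (allL N7893 (tt N10202 (iv F17031)) (tt N6045 F13039) (tt N10203 D10203) (tt N6029 (iv D7893)) (tt N10014 (iv F16711)) (tt N7024 F13040))
theorem Q7895 : ∀ i, i < 7895 → P i := stepQ 7894 Q7894 (allL N7894 (tt N6034 F13041) (tt N6299 F13042) (tt N7997 (iv F13246)) (tt N6038 F13043) (tt N8024 (iv F13289)) (tt N6031 (iv D7894)))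
theorem Q7896 : ∀ i, i < 7896 → P i := stepQ 7895 Q7895 (allL N7895 (tt N6032 (iv D7895)) (tt N7990 (iv F13232)) (tt N6035 F13044) (tt N7986 (iv F13225)) (tt N10204 D10204) (tt N8025 (iv F13291)))
theorem Q7897 : ∀ i, i < 7897 → P i := stepQ 7896 Q7896 (allL N7896 (tt N10204 (iv F17035)) (tt N6033 F13045) (tt N6036 F13046) (tt N10205 D10205) (tt N6032 (iv D7896)) (tt N7236 (iv F13047)))
theorem Q7898 : ∀ i, i < 7898 → P i := stepQ 7897 Q7897 (allL N7897 (tt N7996 (iv F13243)) (tt N10205 (iv F17038)) (tt N10206 D10206) (tt N6033 (iv D7897)) (tt N7988 (iv F13228)) (tt N10207 D10207))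
theorem Q7899 : ∀ i, i < 7899 → P i := stepQ 7898 Q7898 (allL N7898 (tt N7997 (iv F13245)) (tt N7236 F13048) (tt N6034 F13049) (tt N10207 (iv F17041)) (tt N8028 (iv F13295)) (tt N6033 (iv D7898)))
theorem Q7900 : ∀ i, i < 7900 → P i := stepQ 7899 Q7899 (allL N7899 (tt N6036 F13050) (tt N6304 F13051) (tt N10204 (iv F17036)) (tt N7235 (iv F13052)) (tt N6035 (iv D7899)) (tt N7234 (iv F13053)))
theorem Q7901 : ∀ i, i < 7901 → P i := stepQ 7900 Q7900 (allL N7900 (tt N6039 F13054) (tt N6245 F13055) (tt N10208 D10208) (tt N6037 (iv D7900)) (tt N6039 F13056) (tt N10209 D10209))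
theorem Q7902 : ∀ i, i < 7902 → P i := stepQ 7901 Q7901 (allL N7901 (tt N6040 F13057) (tt N6246 F13058) (tt N6038 F13059) (tt N10209 (iv F17046)) (tt N6124 F13060) (tt N6037 (iv D7901)))
theorem Q7903 : ∀ i, i < 7903 → P i := stepQ 7902 Q7902 (allL N7902 (tt N10208 (iv F17042)) (tt N10210 D10210) (tt N6039 (iv D7902)) (tt N10211 D10211) (tt N10208 (iv F17043)) (tt N10212 D10212))
theorem Q7904 : ∀ i, i < 7904 → P i := stepQ 7903 Q7903 (allL N7903 (tt N10209 (iv F17044)) (tt N6248 F13061) (tt N10212 (iv F17048)) (tt N6040 F13062) (tt N10213 D10213) (tt N6039 (iv D7903)))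
theorem Q7905 : ∀ i, i < 7905 → P i := stepQ 7904 Q7904 (allL N7904 (tt N6043 F13063) (tt N7711 F13064) (tt N10170 (iv F16958)) (tt N7019 F13065) (tt N6041 (iv D7904)) (tt N10214 D10214))
theorem Q7906 : ∀ i, i < 7906 → P i := stepQ 7905 Q7905 (allL N7905 (tt N10170 (iv F16957)) (tt N10009 (iv F16701)) (tt N6043 F13066) (tt N10215 D10215) (tt N6042 (iv D7905)) (tt N10216 D10216))
theorem Q7907 : ∀ i, i < 7907 → P i := stepQ 7906 Q7906 (allL N7906 (tt N10214 (iv F17051)) (tt N6044 F13067) (tt N10216 (iv F17054)) (tt N7023 F13068) (tt N10015 (iv F16713)) (tt N6043 (iv D7906)))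
theorem Q7908 : ∀ i, i < 7908 → P i := stepQ 7907 Q7907 (allL N7907 (tt N7727 F13069) (tt N10217 D10217) (tt N6045 (iv D7907)) (tt N7025 F13070) (tt N9778 (iv F16333)) (tt N7025 F13071))
theorem Q7909 : ∀ i, i < 7909 → P i := stepQ 7908 Q7908 (allL N7908 (tt N6046 (iv D7908)) (tt N6077 F13072) (tt N7713 F13073) (tt N10218 D10218) (tt N6048 F13074) (tt N6251 F13075))
theorem Q7910 : ∀ i, i < 7910 → P i := stepQ 7909 Q7909 (allL N7909 (tt N10218 (iv F17057)) (tt N6047 F13076) (tt N10219 D10219) (tt N6046 (iv D7909)) (tt N6118 F13077) (tt N6255 F13078))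
theorem Q7911 : ∀ i, i < 7911 → P i := stepQ 7910 Q7910 (allL N7910 (tt N6082 F13079) (tt N10220 D10220) (tt N6047 (iv D7910)) (tt N6090 F13080) (tt N6120 F13081) (tt N6102 F13082))
theorem Q7912 : ∀ i, i < 7912 → P i := stepQ 7911 Q7911 (allL N7911 (tt N6050 F13083) (tt N10221 D10221) (tt N6049 (iv D7911)) (tt N10222 D10222) (tt N10223 D10223) (tt N6111 F13084))
theorem Q7913 : ∀ i, i < 7913 → P i := stepQ 7912 Q7912 (allL N7912 (tt N6051 F13085) (tt N6076 F13086) (tt N10223 (iv F17075)) (tt N6250 F13087) (tt N6049 (iv D7912)) (tt N10224 D10224))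
theorem Q7914 : ∀ i, i < 7914 → P i := stepQ 7913 Q7913 (allL N7913 (tt N10222 (iv F17070)) (tt N6105 F13088) (tt N10225 D10225) (tt N6050 (iv D7913)) (tt N10226 D10226) (tt N6112 F13089))
theorem Q7915 : ∀ i, i < 7915 → P i := stepQ 7914 Q7914 (allL N7914 (tt N10223 (iv F17074)) (tt N6106 F13090) (tt N6051 F13091) (tt N10227 D10227) (tt N6050 (iv D7914)) (tt N10228 D10228))
theorem Q7916 : ∀ i, i < 7916 → P i := stepQ 7915 Q7915 (allL N7915 (tt N10224 (iv F17076)) (tt N6052 F13092) (tt N10228 (iv F17087)) (tt N6254 F13093) (tt N6119 F13094) (tt N6051 (iv D7915)))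
theorem Q7917 : ∀ i, i < 7917 → P i := stepQ 7916 Q7916 (allL N7916 (tt N6054 F13095) (tt N10229 D10229) (tt N6053 (iv D7916)) (tt N7928 (iv F13125)) (tt N10230 D10230) (tt N6057 F13096))
theorem Q7918 : ∀ i, i < 7918 → P i := stepQ 7917 Q7917 (allL N7917 (tt N6055 F13097) (tt N6104 F13098) (tt N10230 (iv F17093)) (tt N8023 (iv F13286)) (tt N6053 (iv D7917)) (tt N10231 D10231))
theorem Q7919 : ∀ i, i < 7919 → P i := stepQ 7918 Q7918 (allL N7918 (tt N7928 (iv F13123)) (tt N6078 F13099) (tt N7922 (iv F13108)) (tt N6054 (iv D7918)) (tt N10232 D10232) (tt N6060 F13100))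
theorem Q7920 : ∀ i, i < 7920 → P i := stepQ 7919 Q7919 (allL N7919 (tt N10230 (iv F17092)) (tt N6079 F13101) (tt N6055 F13102) (tt N10233 D10233) (tt N6054 (iv D7919)) (tt N10234 D10234))
theorem Q7921 : ∀ i, i < 7921 → P i := stepQ 7920 Q7920 (allL N7920 (tt N10231 (iv F17094)) (tt N6056 F13103) (tt N10234 (iv F17101)) (tt N6303 F13104) (tt N6062 F13105) (tt N6055 (iv D7920)))
theorem Q7922 : ∀ i, i < 7922 → P i := stepQ 7921 Q7921 (allL N7921 (tt N10235 D10235) (tt N6057 (iv D7921)) (tt N6108 F13106) (tt N10236 D10236) (tt N10237 D10237) (tt N10229 (iv F17091)))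
theorem Q7923 : ∀ i, i < 7923 → P i := stepQ 7922 Q7922 (allL N7922 (tt N6060 F13107) (tt N10236 (iv F17108)) (tt N7918 F13108) (tt N6057 (iv D7922)) (tt N10238 D10238) (tt N7928 (iv F13124)))
theorem Q7924 : ∀ i, i < 7924 → P i := stepQ 7923 Q7923 (allL N7923 (tt N6061 F13109) (tt N10237 (iv F17110)) (tt N6058 F13110) (tt N10239 D10239) (tt N6057 (iv D7923)) (tt N10240 D10240))
theorem Q7925 : ∀ i, i < 7925 → P i := stepQ 7924 Q7924 (allL N7924 (tt N6062 F13111) (tt N6110 F13112) (tt N10240 (iv F17116)) (tt N6067 F13113) (tt N10231 (iv F17097)) (tt N6058 (iv D7924)))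
theorem Q7926 : ∀ i, i < 7926 → P i := stepQ 7925 Q7925 (allL N7925 (tt N6059 (iv D7925)) (tt N10235 (iv F17103)) (tt N6063 F13114) (tt N6096 (iv F13116)) (tt N10241 D10241) (tt N6075 F13115))
theorem Q7927 : ∀ i, i < 7927 → P i := stepQ 7926 Q7926 (allL N7926 (tt N6096 F13117) (tt N6060 F13118) (tt N6092 F13119) (tt N6059 (iv D7926)) (tt N10242 D10242) (tt N6078 F13120))
theorem Q7928 : ∀ i, i < 7928 → P i := stepQ 7927 Q7927 (allL N7927 (tt N10241 (iv F17117)) (tt N6061 F13121) (tt N6064 F13122) (tt N10243 D10243) (tt N6059 (iv D7927)) (tt N10244 D10244))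
theorem Q7929 : ∀ i, i < 7929 → P i := stepQ 7928 Q7928 (allL N7928 (tt N7918 F13123) (tt N10245 D10245) (tt N6060 (iv D7928)) (tt N7916 F13125) (tt N10246 D10246) (tt N7922 F13124))
theorem Q7930 : ∀ i, i < 7930 → P i := stepQ 7929 Q7929 (allL N7929 (tt N10238 (iv F17112)) (tt N10242 (iv F17120)) (tt N10246 (iv F17131)) (tt N10247 D10247) (tt N6060 (iv D7929)) (tt N10248 D10248))
theorem Q7931 : ∀ i, i < 7931 → P i := stepQ 7930 Q7930 (allL N7930 (tt N10239 (iv F17114)) (tt N10243 (iv F17122)) (tt N10249 D10249) (tt N6061 (iv D7930)) (tt N10247 (iv F17132)) (tt N10250 D10250))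
theorem Q7932 : ∀ i, i < 7932 → P i := stepQ 7931 Q7931 (allL N7931 (tt N10240 (iv F17115)) (tt N10244 (iv F17123)) (tt N6062 F13126) (tt N10250 (iv F17133)) (tt N10234 (iv F17102)) (tt N6061 (iv D7931)))
theorem Q7933 : ∀ i, i < 7933 → P i := stepQ 7932 Q7932 (allL N7932 (tt N6064 F13127) (tt N6117 F13128) (tt N10241 (iv F17118)) (tt N10251 D10251) (tt N6063 (iv D7932)) (tt N10252 D10252))
theorem Q7934 : ∀ i, i < 7934 → P i := stepQ 7933 Q7933 (allL N7933 (tt N10251 (iv F17134)) (tt N6065 F13129) (tt N10253 D10253) (tt N6064 (iv D7933)) (tt N6081 F13130) (tt N10254 D10254))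
theorem Q7935 : ∀ i, i < 7935 → P i := stepQ 7934 Q7934 (allL N7934 (tt N10252 (iv F17137)) (tt N6066 F13131) (tt N10244 (iv F17124)) (tt N10254 (iv F17142)) (tt N6080 F13132) (tt N6064 (iv D7934)))
theorem Q7936 : ∀ i, i < 7936 → P i := stepQ 7935 Q7935 (allL N7935 (tt N6120 F13133) (tt N10255 D10255) (tt N6065 (iv D7935)) (tt N6133 F13134) (tt N6082 F13135) (tt N6132 (iv F13136)))
theorem Q7937 : ∀ i, i < 7937 → P i := stepQ 7936 Q7936 (allL N7936 (tt N6121 F13137) (tt N10254 (iv F17141)) (tt N6132 F13138) (tt N6066 F13139) (tt N6182 F13140) (tt N6065 (iv D7936)))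
theorem Q7938 : ∀ i, i < 7938 → P i := stepQ 7937 Q7937 (allL N7937 (tt N6070 F13141) (tt N10256 D10256) (tt N6068 (iv D7937)) (tt N7049 F13143) (tt N10257 D10257) (tt N6262 F13142))
theorem Q7939 : ∀ i, i < 7939 → P i := stepQ 7938 Q7938 (allL N7938 (tt N6071 F13144) (tt N6250 F13145) (tt N10257 (iv F17152)) (tt N6076 F13146) (tt N6068 (iv D7938)) (tt N10258 D10258))
theorem Q7940 : ∀ i, i < 7940 → P i := stepQ 7939 Q7939 (allL N7939 (tt N6072 F13147) (tt N6251 F13148) (tt N6085 F13149) (tt N10259 D10259) (tt N6069 (iv D7939)) (tt N6077 F13150))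
theorem Q7941 : ∀ i, i < 7941 → P i := stepQ 7940 Q7940 (allL N7940 (tt N7049 F13151) (tt N6266 F13152) (tt N7047 F13154) (tt N6070 (iv D7940)) (tt N10260 D10260) (tt N6263 F13153))
theorem Q7942 : ∀ i, i < 7942 → P i := stepQ 7941 Q7941 (allL N7941 (tt N10257 (iv F17151)) (tt N6269 F13155) (tt N6071 F13156) (tt N10261 D10261) (tt N6070 (iv D7941)) (tt N10262 D10262))
theorem Q7943 : ∀ i, i < 7943 → P i := stepQ 7942 Q7942 (allL N7942 (tt N10258 (iv F17153)) (tt N6073 F13157) (tt N10262 (iv F17166)) (tt N6080 F13158) (tt N6275 F13159) (tt N6071 (iv D7942)))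
theorem Q7944 : ∀ i, i < 7944 → P i := stepQ 7943 Q7943 (allL N7943 (tt N10259 (iv F17157)) (tt N6074 F13160) (tt N10263 D10263) (tt N6072 (iv D7943)) (tt N6274 F13161) (tt N6081 F13162))
theorem Q7945 : ∀ i, i < 7945 → P i := stepQ 7944 Q7944 (allL N7944 (tt N10229 (iv F17089)) (tt N6075 (iv D7944)) (tt N10221 (iv F17067)) (tt N10141 (iv F16878)) (tt N10264 D10264) (tt N10235 (iv F17105)))
theorem Q7946 : ∀ i, i < 7946 → P i := stepQ 7945 Q7945 (allL N7945 (tt N6079 F13163) (tt N10264 (iv F17170)) (tt N6076 F13164) (tt N10265 D10265) (tt N6075 (iv D7945)) (tt N10266 D10266))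
theorem Q7947 : ∀ i, i < 7947 → P i := stepQ 7946 Q7946 (allL N7946 (tt N6080 F13165) (tt N10224 (iv F17077)) (tt N10266 (iv F17173)) (tt N10258 (iv F17155)) (tt N10252 (iv F17139)) (tt N6076 (iv D7946)))
theorem Q7948 : ∀ i, i < 7948 → P i := stepQ 7947 Q7947 (allL N7947 (tt N6081 F13166) (tt N10218 (iv F17058)) (tt N10267 D10267) (tt N6077 (iv D7947)) (tt N10251 (iv F17136)) (tt N10259 (iv F17160)))
theorem Q7949 : ∀ i, i < 7949 → P i := stepQ 7948 Q7948 (allL N7948 (tt N10142 (iv F16880)) (tt N10232 (iv F17098)) (tt N10140 (iv F16876)) (tt N10268 D10268) (tt N6078 (iv D7948)) (tt N10269 D10269))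
theorem Q7950 : ∀ i, i < 7950 → P i := stepQ 7949 Q7949 (allL N7949 (tt N10265 (iv F17171)) (tt N10233 (iv F17099)) (tt N10270 D10270) (tt N6079 (iv D7949)) (tt N10268 (iv F17175)) (tt N10271 D10271))
theorem Q7951 : ∀ i, i < 7951 → P i := stepQ 7950 Q7950 (allL N7950 (tt N10266 (iv F17172)) (tt N10234 (iv F17100)) (tt N6080 F13167) (tt N10271 (iv F17176)) (tt N10244 (iv F17125)) (tt N6079 (iv D7950)))
theorem Q7952 : ∀ i, i < 7952 → P i := stepQ 7951 Q7951 (allL N7951 (tt N10267 (iv F17174)) (tt N10272 D10272) (tt N6081 (iv D7951)) (tt N10273 D10273) (tt N10253 (iv F17140)) (tt N10263 (iv F17169)))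
theorem Q7953 : ∀ i, i < 7953 → P i := stepQ 7952 Q7952 (allL N7952 (tt N10274 D10274) (tt N6082 (iv D7952)) (tt N10272 (iv F17177)) (tt N7036 F13168) (tt N10255 (iv F17145)) (tt N10201 (iv F17030)))
theorem Q7954 : ∀ i, i < 7954 → P i := stepQ 7953 Q7953 (allL N7953 (tt N7040 F13169) (tt N6083 (iv D7953)) (tt N7026 F13170) (tt N7132 (iv F13172)) (tt N10275 D10275) (tt N7037 F13171))
theorem Q7955 : ∀ i, i < 7955 → P i := stepQ 7954 Q7954 (allL N7954 (tt N6086 F13173) (tt N7132 F13174) (tt N6263 F13175) (tt N6083 (iv D7954)) (tt N10276 D10276) (tt N7047 F13176))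
theorem Q7956 : ∀ i, i < 7956 → P i := stepQ 7955 Q7955 (allL N7955 (tt N6087 F13177) (tt N10275 (iv F17180)) (tt N6084 F13178) (tt N10277 D10277) (tt N6083 (iv D7955)) (tt N10278 D10278))
theorem Q7957 : ∀ i, i < 7957 → P i := stepQ 7956 Q7956 (allL N7956 (tt N6088 F13179) (tt N7029 F13180) (tt N10278 (iv F17187)) (tt N6094 F13181) (tt N7066 F13182) (tt N6084 (iv D7956)))
theorem Q7958 : ∀ i, i < 7958 → P i := stepQ 7957 Q7957 (allL N7957 (tt N6089 F13183) (tt N7030 F13184) (tt N10279 D10279) (tt N6085 (iv D7957)) (tt N7065 F13185) (tt N6095 F13186))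
theorem Q7959 : ∀ i, i < 7959 → P i := stepQ 7958 Q7958 (allL N7958 (tt N6263 F13187) (tt N7123 F13188) (tt N6086 (iv D7958)) (tt N6262 F13189) (tt N10280 D10280) (tt N7049 F13190))
theorem Q7960 : ∀ i, i < 7960 → P i := stepQ 7959 Q7959 (allL N7959 (tt N10276 (iv F17182)) (tt N7057 F13191) (tt N10280 (iv F17194)) (tt N10281 D10281) (tt N6086 (iv D7959)) (tt N10282 D10282))
theorem Q7961 : ∀ i, i < 7961 → P i := stepQ 7960 Q7960 (allL N7960 (tt N10277 (iv F17185)) (tt N7061 F13192) (tt N10283 D10283) (tt N6087 (iv D7960)) (tt N10281 (iv F17196)) (tt N10284 D10284))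
theorem Q7962 : ∀ i, i < 7962 → P i := stepQ 7961 Q7961 (allL N7961 (tt N10278 (iv F17186)) (tt N7060 F13193) (tt N6088 F13194) (tt N10284 (iv F17200)) (tt N7052 F13195) (tt N6087 (iv D7961)))
theorem Q7963 : ∀ i, i < 7963 → P i := stepQ 7962 Q7962 (allL N7962 (tt N10279 (iv F17189)) (tt N10285 D10285) (tt N6089 (iv D7962)) (tt N10286 D10286) (tt N7067 F13196) (tt N6100 F13197))
theorem Q7964 : ∀ i, i < 7964 → P i := stepQ 7963 Q7963 (allL N7963 (tt N10287 D10287) (tt N6090 (iv D7963)) (tt N10285 (iv F17201)) (tt N10220 (iv F17063)) (tt N7069 F13198) (tt N6101 F13199))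
theorem Q7965 : ∀ i, i < 7965 → P i := stepQ 7964 Q7964 (allL N7964 (tt N7837 F13200) (tt N6092 F13201) (tt N10245 (iv F17127)) (tt N6091 (iv D7964)) (tt N10288 D10288) (tt N10127 (iv F16847)))
theorem Q7966 : ∀ i, i < 7966 → P i := stepQ 7965 Q7965 (allL N7965 (tt N10129 (iv F16850)) (tt N6093 F13202) (tt N10156 (iv F16912)) (tt N10289 D10289) (tt N6091 (iv D7965)) (tt N10290 D10290))
theorem Q7967 : ∀ i, i < 7967 → P i := stepQ 7966 Q7966 (allL N7966 (tt N6097 F13203) (tt N10288 (iv F17209)) (tt N10242 (iv F17121)) (tt N10291 D10291) (tt N6092 (iv D7966)) (tt N10292 D10292))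
theorem Q7968 : ∀ i, i < 7968 → P i := stepQ 7967 Q7967 (allL N7967 (tt N6098 F13204) (tt N10289 (iv F17210)) (tt N10293 D10293) (tt N6093 (iv D7967)) (tt N10291 (iv F17216)) (tt N10294 D10294))
theorem Q7969 : ∀ i, i < 7969 → P i := stepQ 7968 Q7968 (allL N7968 (tt N6099 F13205) (tt N10290 (iv F17212)) (tt N6094 F13206) (tt N10294 (iv F17220)) (tt N10133 (iv F16863)) (tt N6093 (iv D7968)))
theorem Q7970 : ∀ i, i < 7970 → P i := stepQ 7969 Q7969 (allL N7969 (tt N6100 F13207) (tt N10295 D10295) (tt N6095 (iv D7969)) (tt N10296 D10296) (tt N10150 (iv F16896)) (tt N10279 (iv F17191)))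
theorem Q7971 : ∀ i, i < 7971 → P i := stepQ 7970 Q7970 (allL N7970 (tt N10236 (iv F17107)) (tt N6096 (iv D7970)) (tt N7824 F13208) (tt N10235 F17106) (tt N10297 D10297) (tt N10141 (iv F16879)))
theorem Q7972 : ∀ i, i < 7972 → P i := stepQ 7971 Q7971 (allL N7971 (tt N10242 (iv F17119)) (tt N10297 (iv F17222)) (tt N6097 F13209) (tt N10298 D10298) (tt N6096 (iv D7971)) (tt N10299 D10299))
theorem Q7973 : ∀ i, i < 7973 → P i := stepQ 7972 Q7972 (allL N7972 (tt N10291 (iv F17215)) (tt N10148 (iv F16893)) (tt N10300 D10300) (tt N6097 (iv D7972)) (tt N6098 F13210) (tt N10301 D10301))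
theorem Q7974 : ∀ i, i < 7974 → P i := stepQ 7973 Q7973 (allL N7973 (tt N10292 (iv F17217)) (tt N10147 (iv F16889)) (tt N10299 (iv F17224)) (tt N10301 (iv F17226)) (tt N10143 (iv F16883)) (tt N6097 (iv D7973)))
theorem Q7975 : ∀ i, i < 7975 → P i := stepQ 7974 Q7974 (allL N7974 (tt N10293 (iv F17218)) (tt N10302 D10302) (tt N6098 (iv D7974)) (tt N10303 D10303) (tt N10300 (iv F17225)) (tt N10304 D10304))
theorem Q7976 : ∀ i, i < 7976 → P i := stepQ 7975 Q7975 (allL N7975 (tt N10294 (iv F17219)) (tt N10139 (iv F16873)) (tt N10304 (iv F17227)) (tt N6099 F13211) (tt N10305 D10305) (tt N6098 (iv D7975)))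
theorem Q7977 : ∀ i, i < 7977 → P i := stepQ 7976 Q7976 (allL N7976 (tt N10306 D10306) (tt N6100 (iv D7976)) (tt N6101 F13212) (tt N10307 D10307) (tt N10152 (iv F16902)) (tt N10285 (iv F17203)))
theorem Q7978 : ∀ i, i < 7978 → P i := stepQ 7977 Q7977 (allL N7977 (tt N10296 (iv F17221)) (tt N10307 (iv F17229)) (tt N10308 D10308) (tt N6100 (iv D7977)) (tt N10309 D10309) (tt N10286 (iv F17204)))
theorem Q7979 : ∀ i, i < 7979 → P i := stepQ 7978 Q7978 (allL N7978 (tt N6101 (iv D7978)) (tt N10200 (iv F17026)) (tt N10306 (iv F17228)) (tt N10310 D10310) (tt N10155 (iv F16909)) (tt N10287 (iv F17207)))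
theorem Q7980 : ∀ i, i < 7980 → P i := stepQ 7979 Q7979 (allL N7979 (tt N10310 (iv F17230)) (tt N6102 F13213) (tt N10311 D10311) (tt N6101 (iv D7979)) (tt N10186 (iv F16994)) (tt N10220 (iv F17065)))
theorem Q7981 : ∀ i, i < 7981 → P i := stepQ 7980 Q7980 (allL N7980 (tt N10221 (iv F17066)) (tt N6103 (iv D7980)) (tt N10229 (iv F17090)) (tt N6136 F13214) (tt N10312 D10312) (tt N6108 F13215))
theorem Q7982 : ∀ i, i < 7982 → P i := stepQ 7981 Q7981 (allL N7981 (tt N6106 F13216) (tt N10312 (iv F17232)) (tt N6104 F13217) (tt N10313 D10313) (tt N6103 (iv D7981)) (tt N10314 D10314))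
theorem Q7983 : ∀ i, i < 7983 → P i := stepQ 7982 Q7982 (allL N7982 (tt N6107 F13218) (tt N10231 (iv F17095)) (tt N10314 (iv F17236)) (tt N8024 (iv F13288)) (tt N6110 F13219) (tt N6104 (iv D7982)))
theorem Q7984 : ∀ i, i < 7984 → P i := stepQ 7983 Q7983 (allL N7983 (tt N6137 F13220) (tt N10226 (iv F17084)) (tt N6135 F13221) (tt N10315 D10315) (tt N6105 (iv D7983)) (tt N10316 D10316))
theorem Q7985 : ∀ i, i < 7985 → P i := stepQ 7984 Q7984 (allL N7984 (tt N10313 (iv F17233)) (tt N10227 (iv F17085)) (tt N10317 D10317) (tt N6106 (iv D7984)) (tt N10315 (iv F17239)) (tt N10318 D10318))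
theorem Q7986 : ∀ i, i < 7986 → P i := stepQ 7985 Q7985 (allL N7985 (tt N10314 (iv F17235)) (tt N10228 (iv F17086)) (tt N6107 F13222) (tt N10318 (iv F17243)) (tt N6116 F13223) (tt N6106 (iv D7985)))
theorem Q7987 : ∀ i, i < 7987 → P i := stepQ 7986 Q7986 (allL N7986 (tt N6108 (iv D7986)) (tt N6111 F13224) (tt N10235 (iv F17104)) (tt N7895 F13225) (tt N10319 D10319) (tt N10221 (iv F17068)))
theorem Q7988 : ∀ i, i < 7988 → P i := stepQ 7987 Q7987 (allL N7987 (tt N10319 (iv F17244)) (tt N6109 F13226) (tt N10237 (iv F17111)) (tt N10320 D10320) (tt N6108 (iv D7987)) (tt N10321 D10321))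
theorem Q7989 : ∀ i, i < 7989 → P i := stepQ 7988 Q7988 (allL N7988 (tt N6115 F13227) (tt N10320 (iv F17246)) (tt N10322 D10322) (tt N6109 (iv D7988)) (tt N7897 F13228) (tt N10323 D10323))
theorem Q7990 : ∀ i, i < 7990 → P i := stepQ 7989 Q7989 (allL N7989 (tt N6116 F13229) (tt N10321 (iv F17248)) (tt N6110 F13230) (tt N10323 (iv F17255)) (tt N10314 (iv F17237)) (tt N6109 (iv D7989)))
theorem Q7991 : ∀ i, i < 7991 → P i := stepQ 7990 Q7990 (allL N7990 (tt N6112 F13231) (tt N7895 F13232) (tt N7715 F13233) (tt N6111 (iv D7990)) (tt N10324 D10324) (tt N10222 (iv F17073)))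
theorem Q7992 : ∀ i, i < 7992 → P i := stepQ 7991 Q7991 (allL N7991 (tt N6113 F13234) (tt N10319 (iv F17245)) (tt N6117 F13235) (tt N10325 D10325) (tt N6111 (iv D7991)) (tt N10326 D10326))
theorem Q7993 : ∀ i, i < 7993 → P i := stepQ 7992 Q7992 (allL N7992 (tt N7715 F13236) (tt N7853 F13237) (tt N6112 (iv D7992)) (tt N7710 F13238) (tt N8217 (iv F13624)) (tt N10225 (iv F17083)))
theorem Q7994 : ∀ i, i < 7994 → P i := stepQ 7993 Q7993 (allL N7993 (tt N10324 (iv F17256)) (tt N6114 F13239) (tt N8217 (iv F13623)) (tt N10327 D10327) (tt N6112 (iv D7993)) (tt N10328 D10328))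
theorem Q7995 : ∀ i, i < 7995 → P i := stepQ 7994 Q7994 (allL N7994 (tt N10325 (iv F17259)) (tt N6115 F13240) (tt N10329 D10329) (tt N6113 (iv D7994)) (tt N10327 (iv F17263)) (tt N10330 D10330))
theorem Q7996 : ∀ i, i < 7996 → P i := stepQ 7995 Q7995 (allL N7995 (tt N10326 (iv F17260)) (tt N6116 F13241) (tt N6119 F13242) (tt N10330 (iv F17266)) (tt N10228 (iv F17088)) (tt N6113 (iv D7995)))
theorem Q7997 : ∀ i, i < 7997 → P i := stepQ 7996 Q7996 (allL N7996 (tt N7897 F13243) (tt N10327 (iv F17262)) (tt N10331 D10331) (tt N6114 (iv D7996)) (tt N6115 F13244) (tt N10332 D10332))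
theorem Q7998 : ∀ i, i < 7998 → P i := stepQ 7997 Q7997 (allL N7997 (tt N7898 F13245) (tt N10328 (iv F17264)) (tt N7894 F13246) (tt N10332 (iv F17273)) (tt N10316 (iv F17242)) (tt N6114 (iv D7997)))
theorem Q7999 : ∀ i, i < 7999 → P i := stepQ 7998 Q7998 (allL N7998 (tt N10322 (iv F17249)) (tt N10333 D10333) (tt N6115 (iv D7998)) (tt N10334 D10334) (tt N10331 (iv F17268)) (tt N10335 D10335))
theorem Q8000 : ∀ i, i < 8000 → P i := stepQ 7999 Q7999 (allL N7999 (tt N10323 (iv F17253)) (tt N10330 (iv F17265)) (tt N10335 (iv F17278)) (tt N6116 F13247) (tt N10336 D10336) (tt N6115 (iv D7999)))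
theorem Q8001 : ∀ i, i < 8001 → P i := stepQ 8000 Q8000 (allL N8000 (tt N6118 F13248) (tt N10251 (iv F17135)) (tt N10337 D10337) (tt N6117 (iv D8000)) (tt N10218 (iv F17059)) (tt N10338 D10338))
theorem Q8002 : ∀ i, i < 8002 → P i := stepQ 8001 Q8001 (allL N8001 (tt N6119 F13249) (tt N10252 (iv F17138)) (tt N10326 (iv F17261)) (tt N10338 (iv F17282)) (tt N10224 (iv F17079)) (tt N6117 (iv D8001)))
theorem Q8003 : ∀ i, i < 8003 → P i := stepQ 8002 Q8002 (allL N8002 (tt N10337 (iv F17280)) (tt N10339 D10339) (tt N6118 (iv D8002)) (tt N10340 D10340) (tt N10219 (iv F17061)) (tt N10341 D10341))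
theorem Q8004 : ∀ i, i < 8004 → P i := stepQ 8003 Q8003 (allL N8003 (tt N10338 (iv F17281)) (tt N6121 F13250) (tt N10341 (iv F17286)) (tt N6119 F13251) (tt N10342 D10342) (tt N6118 (iv D8003)))
theorem Q8005 : ∀ i, i < 8005 → P i := stepQ 8004 Q8004 (allL N8004 (tt N10343 D10343) (tt N6120 (iv D8004)) (tt N10339 (iv F17283)) (tt N6224 F13252) (tt N10220 (iv F17064)) (tt N6223 F13253))
theorem Q8006 : ∀ i, i < 8006 → P i := stepQ 8005 Q8005 (allL N8005 (tt N6182 F13254) (tt N10342 (iv F17287)) (tt N6163 F13255) (tt N6211 F13256) (tt N6121 (iv D8005)) (tt N6221 F13257))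
theorem Q8007 : ∀ i, i < 8007 → P i := stepQ 8006 Q8006 (allL N8006 (tt N6767 F13258) (tt N6123 F13259) (tt N10344 D10344) (tt N6122 (iv D8006)) (tt N6125 F13260) (tt N10345 D10345))
theorem Q8008 : ∀ i, i < 8008 → P i := stepQ 8007 Q8007 (allL N8007 (tt N6768 F13261) (tt N6124 F13262) (tt N6764 F13263) (tt N10345 (iv F17296)) (tt N6246 F13264) (tt N6122 (iv D8007)))
theorem Q8009 : ∀ i, i < 8009 → P i := stepQ 8008 Q8008 (allL N8008 (tt N6127 F13265) (tt N10346 D10346) (tt N6123 (iv D8008)) (tt N10335 (iv F17279)) (tt N6127 F13266) (tt N10334 (iv F17276)))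
theorem Q8010 : ∀ i, i < 8010 → P i := stepQ 8009 Q8009 (allL N8009 (tt N6128 F13267) (tt N10345 (iv F17295)) (tt N10334 (iv F17275)) (tt N6124 F13268) (tt N10347 D10347) (tt N6123 (iv D8009)))
theorem Q8011 : ∀ i, i < 8011 → P i := stepQ 8010 Q8010 (allL N8010 (tt N8982 (iv F14899)) (tt N10348 D10348) (tt N6125 (iv D8010)) (tt N10349 D10349) (tt N10344 (iv F17293)) (tt N10350 D10350))
theorem Q8012 : ∀ i, i < 8012 → P i := stepQ 8011 Q8011 (allL N8011 (tt N8983 (iv F14901)) (tt N6128 F13269) (tt N10350 (iv F17301)) (tt N6126 F13270) (tt N10351 D10351) (tt N6125 (iv D8011)))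
theorem Q8013 : ∀ i, i < 8013 → P i := stepQ 8012 Q8012 (allL N8012 (tt N10352 D10352) (tt N6127 (iv D8012)) (tt N10348 (iv F17300)) (tt N10353 D10353) (tt N10346 (iv F17297)) (tt N10354 D10354))
theorem Q8014 : ∀ i, i < 8014 → P i := stepQ 8013 Q8013 (allL N8013 (tt N10335 (iv F17277)) (tt N10353 (iv F17304)) (tt N10323 (iv F17254)) (tt N6127 (iv D8013)) (tt N10355 D10355) (tt N10322 F17252))
theorem Q8015 : ∀ i, i < 8015 → P i := stepQ 8014 Q8014 (allL N8014 (tt N10334 (iv F17274)) (tt N10354 (iv F17305)) (tt N6128 F13271) (tt N10322 (iv F17251)) (tt N10356 D10356) (tt N6127 (iv D8014)))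
theorem Q8016 : ∀ i, i < 8016 → P i := stepQ 8015 Q8015 (allL N8015 (tt N10347 (iv F17298)) (tt N10351 (iv F17302)) (tt N10356 (iv F17306)) (tt N10213 (iv F17050)) (tt N6128 (iv D8015)) (tt N10347 (iv F17299)))
theorem Q8017 : ∀ i, i < 8017 → P i := stepQ 8016 Q8016 (allL N8016 (tt N9989 (iv F16662)) (tt N6129 (iv D8016)) (tt N6131 F13272) (tt N10357 D10357) (tt N6165 F13273) (tt N10358 D10358))
theorem Q8018 : ∀ i, i < 8018 → P i := stepQ 8017 Q8017 (allL N8017 (tt N8984 (iv F14904)) (tt N10357 (iv F17307)) (tt N10359 D10359) (tt N6129 (iv D8017)) (tt N10360 D10360) (tt N10361 D10361))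
theorem Q8019 : ∀ i, i < 8019 → P i := stepQ 8018 Q8018 (allL N8018 (tt N8985 (iv F14906)) (tt N10358 (iv F17308)) (tt N6130 F13274) (tt N10361 (iv F17312)) (tt N7096 F13275) (tt N6129 (iv D8018)))
theorem Q8020 : ∀ i, i < 8020 → P i := stepQ 8019 Q8019 (allL N8019 (tt N6131 (iv D8019)) (tt N6222 F13276) (tt N9989 (iv F16664)) (tt N10362 D10362) (tt N6167 F13277) (tt N10363 D10363))
theorem Q8021 : ∀ i, i < 8021 → P i := stepQ 8020 Q8020 (allL N8020 (tt N10362 (iv F17313)) (tt N6132 F13278) (tt N10364 D10364) (tt N6131 (iv D8020)) (tt N6181 F13279) (tt N10255 (iv F17146)))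
theorem Q8022 : ∀ i, i < 8022 → P i := stepQ 8021 Q8021 (allL N8021 (tt N10363 (iv F17316)) (tt N6133 F13280) (tt N10358 (iv F17309)) (tt N10255 (iv F17144)) (tt N6180 F13281) (tt N6131 (iv D8021)))
theorem Q8023 : ∀ i, i < 8023 → P i := stepQ 8022 Q8022 (allL N8022 (tt N7851 F13282) (tt N10225 (iv F17081)) (tt N6134 (iv D8022)) (tt N10160 (iv F16929)) (tt N10365 D10365) (tt N7853 F13283))
theorem Q8024 : ∀ i, i < 8024 → P i := stepQ 8023 Q8023 (allL N8023 (tt N7852 F13284) (tt N6135 F13285) (tt N10365 (iv F17321)) (tt N7917 F13286) (tt N6134 (iv D8023)) (tt N8220 (iv F13630)))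
theorem Q8025 : ∀ i, i < 8025 → P i := stepQ 8024 Q8024 (allL N8024 (tt N6138 F13287) (tt N8220 (iv F13629)) (tt N10316 (iv F17241)) (tt N7982 F13288) (tt N7894 F13289) (tt N6135 (iv D8024)))
theorem Q8026 : ∀ i, i < 8026 → P i := stepQ 8025 Q8025 (allL N8025 (tt N6136 (iv D8025)) (tt N10222 (iv F17071)) (tt N7849 F13290) (tt N10221 F17069) (tt N10366 D10366) (tt N7895 F13291))
theorem Q8027 : ∀ i, i < 8027 → P i := stepQ 8026 Q8026 (allL N8026 (tt N10366 (iv F17322)) (tt N6137 F13292) (tt N7850 F13293) (tt N10367 D10367) (tt N6136 (iv D8026)) (tt N9401 (iv F15693)))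
theorem Q8028 : ∀ i, i < 8028 → P i := stepQ 8027 Q8027 (allL N8027 (tt N10315 (iv F17238)) (tt N10367 (iv F17324)) (tt N10368 D10368) (tt N6137 (iv D8027)) (tt N10313 (iv F17234)) (tt N10369 D10369))
theorem Q8029 : ∀ i, i < 8029 → P i := stepQ 8028 Q8028 (allL N8028 (tt N10316 (iv F17240)) (tt N9401 (iv F15691)) (tt N6138 F13294) (tt N10369 (iv F17325)) (tt N7898 F13295) (tt N6137 (iv D8028)))
theorem Q8030 : ∀ i, i < 8030 → P i := stepQ 8029 Q8029 (allL N8029 (tt N7160 F13296) (tt N6142 F13297) (tt N6837 F13298) (tt N10177 (iv F16974)) (tt N6140 (iv D8029)) (tt N10370 D10370))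
theorem Q8031 : ∀ i, i < 8031 → P i := stepQ 8030 Q8030 (allL N8030 (tt N6278 F13299) (tt N6143 F13300) (tt N6162 F13301) (tt N10371 D10371) (tt N6141 (iv D8030)) (tt N10179 (iv F16980)))
theorem Q8032 : ∀ i, i < 8032 → P i := stepQ 8031 Q8031 (allL N8031 (tt N6153 F13302) (tt N10370 (iv F17327)) (tt N6628 F13303) (tt N10181 (iv F16984)) (tt N6627 F13304) (tt N6142 (iv D8031)))
theorem Q8033 : ∀ i, i < 8033 → P i := stepQ 8032 Q8032 (allL N8032 (tt N6155 F13305) (tt N10371 (iv F17331)) (tt N10372 D10372) (tt N6143 (iv D8032)) (tt N6626 F13306) (tt N10182 (iv F16986)))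
theorem Q8034 : ∀ i, i < 8034 → P i := stepQ 8033 Q8033 (allL N8033 (tt N6145 F13307) (tt N10174 (iv F16966)) (tt N10373 D10373) (tt N6144 (iv D8033)) (tt N7161 F13308) (tt N10374 D10374))
theorem Q8035 : ∀ i, i < 8035 → P i := stepQ 8034 Q8034 (allL N8034 (tt N6146 F13309) (tt N10175 (iv F16969)) (tt N6157 F13310) (tt N10374 (iv F17338)) (tt N6281 F13311) (tt N6144 (iv D8034)))
theorem Q8036 : ∀ i, i < 8036 → P i := stepQ 8035 Q8035 (allL N8035 (tt N10373 (iv F17335)) (tt N10375 D10375) (tt N6145 (iv D8035)) (tt N10376 D10376) (tt N10377 D10377) (tt N10375 F17340))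
theorem Q8037 : ∀ i, i < 8037 → P i := stepQ 8036 Q8036 (allL N8036 (tt N7161 F13312) (tt N6148 F13313) (tt N10377 (iv F17342)) (tt N6150 F13314) (tt N6145 (iv D8036)) (tt N10378 D10378))
theorem Q8038 : ∀ i, i < 8038 → P i := stepQ 8037 Q8037 (allL N8037 (tt N10374 (iv F17337)) (tt N6147 F13315) (tt N10375 (iv F17339)) (tt N6146 F13316) (tt N10379 D10379) (tt N6145 (iv D8037)))
theorem Q8039 : ∀ i, i < 8039 → P i := stepQ 8038 Q8038 (allL N8038 (tt N10180 (iv F16981)) (tt N10379 (iv F17346)) (tt N6148 F13317) (tt N10380 D10380) (tt N6147 (iv D8038)) (tt N10381 D10381))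
theorem Q8040 : ∀ i, i < 8040 → P i := stepQ 8039 Q8039 (allL N8039 (tt N10181 (iv F16983)) (tt N10378 (iv F17344)) (tt N10381 (iv F17350)) (tt N6153 F13318) (tt N10381 (iv F17351)) (tt N6148 (iv D8039)))
theorem Q8041 : ∀ i, i < 8041 → P i := stepQ 8040 Q8040 (allL N8040 (tt N10182 (iv F16985)) (tt N6288 F13319) (tt N10382 D10382) (tt N6149 (iv D8040)) (tt N10380 (iv F17349)) (tt N6155 F13320))
theorem Q8042 : ∀ i, i < 8042 → P i := stepQ 8041 Q8041 (allL N8041 (tt N7162 F13321) (tt N6153 F13322) (tt N7158 F13323) (tt N10378 (iv F17345)) (tt N6286 F13324) (tt N6150 (iv D8041)))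
theorem Q8043 : ∀ i, i < 8043 → P i := stepQ 8042 Q8042 (allL N8042 (tt N6828 F13325) (tt N6152 F13326) (tt N7155 F13327) (tt N10383 D10383) (tt N6151 (iv D8042)) (tt N10384 D10384))
theorem Q8044 : ∀ i, i < 8044 → P i := stepQ 8043 Q8043 (allL N8043 (tt N6629 F13328) (tt N10383 (iv F17355)) (tt N10385 D10385) (tt N6152 (iv D8043)) (tt N6615 F13329) (tt N10386 D10386))
theorem Q8045 : ∀ i, i < 8045 → P i := stepQ 8044 Q8044 (allL N8044 (tt N6628 F13330) (tt N10384 (iv F17358)) (tt N6153 F13331) (tt N10386 (iv F17364)) (tt N6614 F13332) (tt N6152 (iv D8044)))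
theorem Q8046 : ∀ i, i < 8046 → P i := stepQ 8045 Q8045 (allL N8045 (tt N6627 F13333) (tt N6286 F13334) (tt N6614 F13335) (tt N10387 D10387) (tt N6153 (iv D8045)) (tt N6154 F13336))
theorem Q8047 : ∀ i, i < 8047 → P i := stepQ 8046 Q8046 (allL N8046 (tt N6626 F13337) (tt N6285 F13338) (tt N10388 D10388) (tt N6154 (iv D8046)) (tt N6155 F13339) (tt N10387 (iv F17367)))
theorem Q8048 : ∀ i, i < 8048 → P i := stepQ 8047 Q8047 (allL N8047 (tt N10372 (iv F17333)) (tt N10389 D10389) (tt N6155 (iv D8047)) (tt N10382 (iv F17353)) (tt N10388 (iv F17369)) (tt N10382 (iv F17352)))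
theorem Q8049 : ∀ i, i < 8049 → P i := stepQ 8048 Q8048 (allL N8048 (tt N6158 F13340) (tt N10390 D10390) (tt N6156 (iv D8048)) (tt N10391 D10391) (tt N6282 F13341) (tt N10392 D10392))
theorem Q8050 : ∀ i, i < 8050 → P i := stepQ 8049 Q8049 (allL N8049 (tt N6159 F13342) (tt N6198 F13343) (tt N10392 (iv F17376)) (tt N6157 F13344) (tt N10393 D10393) (tt N6156 (iv D8049)))
theorem Q8051 : ∀ i, i < 8051 → P i := stepQ 8050 Q8050 (allL N8050 (tt N10394 D10394) (tt N6158 (iv D8050)) (tt N6160 F13345) (tt N10395 D10395) (tt N6289 F13346) (tt N6191 (iv F13347)))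
theorem Q8052 : ∀ i, i < 8052 → P i := stepQ 8051 Q8051 (allL N8051 (tt N10391 (iv F17373)) (tt N10395 (iv F17384)) (tt N10396 D10396) (tt N6158 (iv D8051)) (tt N10391 (iv F17374)) (tt N10397 D10397))
theorem Q8053 : ∀ i, i < 8053 → P i := stepQ 8052 Q8052 (allL N8052 (tt N10392 (iv F17375)) (tt N6191 F13348) (tt N6159 F13349) (tt N10397 (iv F17387)) (tt N10398 D10398) (tt N6158 (iv D8052)))
theorem Q8054 : ∀ i, i < 8054 → P i := stepQ 8053 Q8053 (allL N8053 (tt N10393 (iv F17377)) (tt N6161 F13350) (tt N10398 (iv F17389)) (tt N6270 F13351) (tt N6159 (iv D8053)) (tt N6271 F13352))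
theorem Q8055 : ∀ i, i < 8055 → P i := stepQ 8054 Q8054 (allL N8054 (tt N6160 (iv D8054)) (tt N6207 F13353) (tt N10394 (iv F17381)) (tt N6190 F13354) (tt N6290 F13355) (tt N6189 F13356))
theorem Q8056 : ∀ i, i < 8056 → P i := stepQ 8055 Q8055 (allL N8055 (tt N6162 (iv D8055)) (tt N6177 F13357) (tt N6278 F13358) (tt N10399 D10399) (tt N6164 F13359) (tt N10184 (iv F16992)))
theorem Q8057 : ∀ i, i < 8057 → P i := stepQ 8056 Q8056 (allL N8056 (tt N10399 (iv F17391)) (tt N6163 F13360) (tt N10400 D10400) (tt N6162 (iv D8056)) (tt N6223 F13361) (tt N10186 (iv F16995)))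
theorem Q8058 : ∀ i, i < 8058 → P i := stepQ 8057 Q8057 (allL N8057 (tt N6216 F13362) (tt N6166 F13363) (tt N6212 F13364) (tt N6165 (iv D8057)) (tt N10401 D10401) (tt N6178 F13365))
theorem Q8059 : ∀ i, i < 8059 → P i := stepQ 8058 Q8058 (allL N8058 (tt N8986 (iv F14910)) (tt N10401 (iv F17396)) (tt N7242 F13366) (tt N10360 (iv F17311)) (tt N6166 (iv D8058)) (tt N10402 D10402))
theorem Q8060 : ∀ i, i < 8060 → P i := stepQ 8059 Q8059 (allL N8059 (tt N6170 F13367) (tt N10403 D10403) (tt N6168 (iv D8059)) (tt N10404 D10404) (tt N10405 D10405) (tt N10192 (iv F17008)))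
theorem Q8061 : ∀ i, i < 8061 → P i := stepQ 8060 Q8060 (allL N8060 (tt N6171 F13368) (tt N7240 F13369) (tt N10405 (iv F17404)) (tt N6176 F13370) (tt N6168 (iv D8060)) (tt N10406 D10406))
theorem Q8062 : ∀ i, i < 8062 → P i := stepQ 8061 Q8061 (allL N8061 (tt N6172 F13371) (tt N10184 (iv F16990)) (tt N6199 F13372) (tt N10407 D10407) (tt N6169 (iv D8061)) (tt N6177 F13373))
theorem Q8063 : ∀ i, i < 8063 → P i := stepQ 8062 Q8062 (allL N8062 (tt N10404 (iv F17400)) (tt N10197 (iv F17019)) (tt N10408 D10408) (tt N6170 (iv D8062)) (tt N10409 D10409) (tt N10193 (iv F17012)))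
theorem Q8064 : ∀ i, i < 8064 → P i := stepQ 8063 Q8063 (allL N8063 (tt N10405 (iv F17403)) (tt N10199 (iv F17022)) (tt N6171 F13374) (tt N10410 D10410) (tt N6170 (iv D8063)) (tt N10411 D10411))
theorem Q8065 : ∀ i, i < 8065 → P i := stepQ 8064 Q8064 (allL N8064 (tt N10406 (iv F17405)) (tt N6173 F13375) (tt N10411 (iv F17415)) (tt N6180 F13376) (tt N7036 F13377) (tt N6171 (iv D8064)))
theorem Q8066 : ∀ i, i < 8066 → P i := stepQ 8065 Q8065 (allL N8065 (tt N10407 (iv F17409)) (tt N6174 F13378) (tt N10412 D10412) (tt N6172 (iv D8065)) (tt N10201 (iv F17029)) (tt N6181 F13379))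
theorem Q8067 : ∀ i, i < 8067 → P i := stepQ 8066 Q8066 (allL N8066 (tt N6179 F13380) (tt N9884 (iv F16515)) (tt N6176 F13381) (tt N10413 D10413) (tt N6175 (iv D8066)) (tt N10414 D10414))
theorem Q8068 : ∀ i, i < 8068 → P i := stepQ 8067 Q8067 (allL N8067 (tt N6180 F13382) (tt N7239 F13383) (tt N10414 (iv F17422)) (tt N10406 (iv F17407)) (tt N10363 (iv F17318)) (tt N6176 (iv D8067)))
theorem Q8069 : ∀ i, i < 8069 → P i := stepQ 8068 Q8068 (allL N8068 (tt N6181 F13384) (tt N10399 (iv F17392)) (tt N10415 D10415) (tt N6177 (iv D8068)) (tt N10362 (iv F17315)) (tt N10407 (iv F17410)))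
theorem Q8070 : ∀ i, i < 8070 → P i := stepQ 8069 Q8069 (allL N8069 (tt N6227 F13385) (tt N7213 F13386) (tt N6225 F13387) (tt N10416 D10416) (tt N6178 (iv D8069)) (tt N10417 D10417))
theorem Q8071 : ∀ i, i < 8071 → P i := stepQ 8070 Q8070 (allL N8070 (tt N10413 (iv F17419)) (tt N7095 F13388) (tt N10418 D10418) (tt N6179 (iv D8070)) (tt N10416 (iv F17426)) (tt N10419 D10419))
theorem Q8072 : ∀ i, i < 8072 → P i := stepQ 8071 Q8071 (allL N8071 (tt N10414 (iv F17421)) (tt N7096 F13389) (tt N6180 F13390) (tt N10419 (iv F17431)) (tt N10358 (iv F17310)) (tt N6179 (iv D8071)))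
theorem Q8073 : ∀ i, i < 8073 → P i := stepQ 8072 Q8072 (allL N8072 (tt N10415 (iv F17423)) (tt N10420 D10420) (tt N6181 (iv D8072)) (tt N10421 D10421) (tt N10364 (iv F17319)) (tt N10412 (iv F17418)))
theorem Q8074 : ∀ i, i < 8074 → P i := stepQ 8073 Q8073 (allL N8073 (tt N10422 D10422) (tt N6182 (iv D8073)) (tt N10420 (iv F17432)) (tt N6275 F13391) (tt N10254 (iv F17143)) (tt N6274 F13392))
theorem Q8075 : ∀ i, i < 8075 → P i := stepQ 8074 Q8074 (allL N8074 (tt N6184 F13393) (tt N10132 (iv F16859)) (tt N10423 D10423) (tt N6183 (iv D8074)) (tt N10424 D10424) (tt N10425 D10425))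
theorem Q8076 : ∀ i, i < 8076 → P i := stepQ 8075 Q8075 (allL N8075 (tt N6185 F13394) (tt N10133 (iv F16861)) (tt N6190 F13395) (tt N10425 (iv F17439)) (tt N10290 (iv F17214)) (tt N6183 (iv D8075)))
theorem Q8077 : ∀ i, i < 8077 → P i := stepQ 8076 Q8076 (allL N8076 (tt N10423 (iv F17436)) (tt N10426 D10426) (tt N6184 (iv D8076)) (tt N10427 D10427) (tt N10428 D10428) (tt N10426 F17441))
theorem Q8078 : ∀ i, i < 8078 → P i := stepQ 8077 Q8077 (allL N8077 (tt N10424 (iv F17437)) (tt N6187 F13396) (tt N10428 (iv F17442)) (tt N10128 (iv F16849)) (tt N6184 (iv D8077)) (tt N10429 D10429))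
theorem Q8079 : ∀ i, i < 8079 → P i := stepQ 8078 Q8078 (allL N8078 (tt N10425 (iv F17438)) (tt N6186 F13397) (tt N10426 (iv F17440)) (tt N6185 F13398) (tt N10430 D10430) (tt N6184 (iv D8078)))
theorem Q8080 : ∀ i, i < 8080 → P i := stepQ 8079 Q8079 (allL N8079 (tt N10290 (iv F17211)) (tt N6188 F13399) (tt N6193 F13400) (tt N10431 D10431) (tt N6185 (iv D8079)) (tt N10129 (iv F16853)))
theorem Q8081 : ∀ i, i < 8081 → P i := stepQ 8080 Q8080 (allL N8080 (tt N10137 (iv F16868)) (tt N10430 (iv F17444)) (tt N6187 F13401) (tt N10432 D10432) (tt N6186 (iv D8080)) (tt N10433 D10433))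
theorem Q8082 : ∀ i, i < 8082 → P i := stepQ 8081 Q8081 (allL N8081 (tt N10138 (iv F16870)) (tt N10429 (iv F17443)) (tt N10433 (iv F17447)) (tt N10130 (iv F16855)) (tt N10433 (iv F17448)) (tt N6187 (iv D8081)))
theorem Q8083 : ∀ i, i < 8083 → P i := stepQ 8082 Q8082 (allL N8082 (tt N10139 (iv F16872)) (tt N10431 (iv F17445)) (tt N10434 D10434) (tt N6188 (iv D8082)) (tt N10432 (iv F17446)) (tt N10131 (iv F16857)))
theorem Q8084 : ∀ i, i < 8084 → P i := stepQ 8083 Q8083 (allL N8083 (tt N6191 F13402) (tt N10435 D10435) (tt N6189 (iv D8083)) (tt N10436 D10436) (tt N10437 D10437) (tt N10394 (iv F17383)))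
theorem Q8085 : ∀ i, i < 8085 → P i := stepQ 8084 Q8084 (allL N8084 (tt N6192 F13403) (tt N10163 (iv F16934)) (tt N10437 (iv F17451)) (tt N10157 (iv F16918)) (tt N6189 (iv D8084)) (tt N10438 D10438))
theorem Q8086 : ∀ i, i < 8086 → P i := stepQ 8085 Q8085 (allL N8085 (tt N6193 F13404) (tt N10164 (iv F16938)) (tt N10290 (iv F17213)) (tt N10439 D10439) (tt N6190 (iv D8085)) (tt N10156 (iv F16915)))
theorem Q8087 : ∀ i, i < 8087 → P i := stepQ 8086 Q8086 (allL N8086 (tt N10436 (iv F17449)) (tt N10397 (iv F17386)) (tt N10440 D10440) (tt N6191 (iv D8086)) (tt N10440 F26287) (tt N10395 (iv F17385)))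
theorem Q8088 : ∀ i, i < 8088 → P i := stepQ 8087 Q8087 (allL N8087 (tt N10437 (iv F17450)) (tt N10398 (iv F17388)) (tt N6192 F13405) (tt N10441 D10442) (tt N6191 (iv D8087)) (tt N10442 D10443))
theorem Q8089 : ∀ i, i < 8089 → P i := stepQ 8088 Q8088 (allL N8088 (tt N10438 (iv F17452)) (tt N6194 F13406) (tt N10442 (iv F17461)) (tt N7237 F13407) (tt N6276 F13408) (tt N6192 (iv D8088)))
theorem Q8090 : ∀ i, i < 8090 → P i := stepQ 8089 Q8089 (allL N8089 (tt N10439 (iv F17456)) (tt N6195 F13409) (tt N10443 D10444) (tt N6193 (iv D8089)) (tt N6291 F13410) (tt N7238 F13411))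
theorem Q8091 : ∀ i, i < 8091 → P i := stepQ 8090 Q8090 (allL N8090 (tt N10444 D10445) (tt N6196 (iv D8090)) (tt N10390 (iv F17371)) (tt N10445 D10446) (tt N10446 D10447) (tt N10447 D10448))
theorem Q8092 : ∀ i, i < 8092 → P i := stepQ 8091 Q8091 (allL N8091 (tt N6201 F13412) (tt N10445 (iv F17467)) (tt N10193 (iv F17013)) (tt N6196 (iv D8091)) (tt N10448 D10449) (tt N10408 (iv F17413)))
theorem Q8093 : ∀ i, i < 8093 → P i := stepQ 8092 Q8092 (allL N8092 (tt N6202 F13413) (tt N10446 (iv F17468)) (tt N6197 F13414) (tt N10449 D10450) (tt N6196 (iv D8092)) (tt N10450 D10451))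
theorem Q8094 : ∀ i, i < 8094 → P i := stepQ 8093 Q8093 (allL N8093 (tt N6203 F13415) (tt N10447 (iv F17470)) (tt N6198 F13416) (tt N10408 (iv F17412)) (tt N10451 D10452) (tt N6196 (iv D8093)))
theorem Q8095 : ∀ i, i < 8095 → P i := stepQ 8094 Q8094 (allL N8094 (tt N6204 F13417) (tt N6261 F13418) (tt N10450 (iv F17475)) (tt N6214 F13419) (tt N10452 D10453) (tt N6197 (iv D8094)))
theorem Q8096 : ∀ i, i < 8096 → P i := stepQ 8095 Q8095 (allL N8095 (tt N6205 F13420) (tt N10393 (iv F17378)) (tt N10451 (iv F17477)) (tt N10453 D10454) (tt N6198 (iv D8095)) (tt N10452 (iv F17481)))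
theorem Q8097 : ∀ i, i < 8097 → P i := stepQ 8096 Q8096 (allL N8096 (tt N6206 F13421) (tt N6259 F13422) (tt N10454 D10455) (tt N6199 (iv D8096)) (tt N10453 (iv F17484)) (tt N6215 F13423))
theorem Q8098 : ∀ i, i < 8098 → P i := stepQ 8097 Q8097 (allL N8097 (tt N6200 (iv D8097)) (tt N10444 (iv F17466)) (tt N6207 F13424) (tt N10195 (iv F17018)) (tt N10455 D10456) (tt N10162 (iv F16932)))
theorem Q8099 : ∀ i, i < 8099 → P i := stepQ 8098 Q8098 (allL N8098 (tt N10195 (iv F17017)) (tt N6201 F13425) (tt N10188 (iv F16997)) (tt N6200 (iv D8098)) (tt N10456 D10457) (tt N10165 (iv F16943)))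
theorem Q8100 : ∀ i, i < 8100 → P i := stepQ 8099 Q8099 (allL N8099 (tt N10455 (iv F17488)) (tt N6202 F13426) (tt N6208 F13427) (tt N10457 D10458) (tt N6200 (iv D8099)) (tt N7099 (iv F13428)))
theorem Q8101 : ∀ i, i < 8101 → P i := stepQ 8100 Q8100 (allL N8100 (tt N10193 (iv F17010)) (tt N10458 D10459) (tt N6201 (iv D8100)) (tt N10192 F17009) (tt N10459 D10460) (tt N10404 (iv F17402)))
theorem Q8102 : ∀ i, i < 8102 → P i := stepQ 8101 Q8101 (allL N8101 (tt N10448 (iv F17471)) (tt N10456 (iv F17491)) (tt N10459 (iv F17494)) (tt N10460 D10461) (tt N6201 (iv D8101)) (tt N10461 D10462))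
theorem Q8103 : ∀ i, i < 8103 → P i := stepQ 8102 Q8102 (allL N8102 (tt N10408 (iv F17411)) (tt N10165 (iv F16942)) (tt N10404 (iv F17401)) (tt N6203 F13429) (tt N10462 D10463) (tt N6201 (iv D8102)))
theorem Q8104 : ∀ i, i < 8104 → P i := stepQ 8103 Q8103 (allL N8103 (tt N10449 (iv F17472)) (tt N10457 (iv F17492)) (tt N10463 D10464) (tt N6202 (iv D8103)) (tt N10460 (iv F17495)) (tt N10464 D10465))
theorem Q8105 : ∀ i, i < 8105 → P i := stepQ 8104 Q8104 (allL N8104 (tt N10450 (iv F17474)) (tt N7099 F13430) (tt N6204 F13431) (tt N10464 (iv F17499)) (tt N10465 D10466) (tt N6202 (iv D8104)))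
theorem Q8106 : ∀ i, i < 8106 → P i := stepQ 8105 Q8105 (allL N8105 (tt N10451 (iv F17476)) (tt N10166 (iv F16944)) (tt N6205 F13432) (tt N10466 D10467) (tt N6203 (iv D8105)) (tt N10465 (iv F17502)))
theorem Q8107 : ∀ i, i < 8107 → P i := stepQ 8106 Q8106 (allL N8106 (tt N10452 (iv F17478)) (tt N6209 F13433) (tt N10465 (iv F17501)) (tt N6241 F13434) (tt N6204 (iv D8106)) (tt N6205 F13435))
theorem Q8108 : ∀ i, i < 8108 → P i := stepQ 8107 Q8107 (allL N8107 (tt N10453 (iv F17482)) (tt N6210 F13436) (tt N10467 D10468) (tt N6205 (iv D8107)) (tt N6206 F13437) (tt N6241 F13438))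
theorem Q8109 : ∀ i, i < 8109 → P i := stepQ 8108 Q8108 (allL N8108 (tt N10454 (iv F17486)) (tt N10468 D10469) (tt N6206 (iv D8108)) (tt N10469 D10470) (tt N10467 (iv F17504)) (tt N6219 F13439))
theorem Q8110 : ∀ i, i < 8110 → P i := stepQ 8109 Q8109 (allL N8109 (tt N6208 F13440) (tt N6290 F13441) (tt N10455 (iv F17489)) (tt N7071 (iv F13442)) (tt N6207 (iv D8109)) (tt N7098 (iv F13443)))
theorem Q8111 : ∀ i, i < 8111 → P i := stepQ 8110 Q8110 (allL N8110 (tt N10470 D10471) (tt N6211 (iv D8110)) (tt N10468 (iv F17506)) (tt N10342 (iv F17288)) (tt N6254 F13444) (tt N6220 F13445))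
theorem Q8112 : ∀ i, i < 8112 → P i := stepQ 8111 Q8111 (allL N8111 (tt N6217 F13446) (tt N6743 F13447) (tt N10401 (iv F17397)) (tt N10471 D10472) (tt N6212 (iv D8111)) (tt N10472 D10473))
theorem Q8113 : ∀ i, i < 8113 → P i := stepQ 8112 Q8112 (allL N8112 (tt N6218 F13448) (tt N6956 F13449) (tt N10473 D10474) (tt N6213 (iv D8112)) (tt N10471 (iv F17515)) (tt N7759 F13450))
theorem Q8114 : ∀ i, i < 8114 → P i := stepQ 8113 Q8113 (allL N8113 (tt N6219 F13451) (tt N10474 D10475) (tt N6215 (iv D8113)) (tt N10475 D10476) (tt N6236 F13452) (tt N10454 (iv F17487)))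
theorem Q8115 : ∀ i, i < 8115 → P i := stepQ 8114 Q8114 (allL N8114 (tt N10401 (iv F17395)) (tt N6332 F13453) (tt N6217 F13454) (tt N10476 D10477) (tt N6216 (iv D8114)) (tt N10477 D10478))
theorem Q8116 : ∀ i, i < 8116 → P i := stepQ 8115 Q8115 (allL N8115 (tt N10471 (iv F17513)) (tt N6234 F13455) (tt N10478 D10479) (tt N6217 (iv D8115)) (tt N6218 F13456) (tt N10479 D10480))
theorem Q8117 : ∀ i, i < 8117 → P i := stepQ 8116 Q8116 (allL N8116 (tt N10472 (iv F17516)) (tt N6233 F13457) (tt N10477 (iv F17526)) (tt N10479 (iv F17530)) (tt N6228 F13458) (tt N6217 (iv D8116)))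
theorem Q8118 : ∀ i, i < 8118 → P i := stepQ 8117 Q8117 (allL N8117 (tt N10473 (iv F17519)) (tt N10480 D10481) (tt N6218 (iv D8117)) (tt N10481 D10482) (tt N10478 (iv F17528)) (tt N7764 F13459))
theorem Q8119 : ∀ i, i < 8119 → P i := stepQ 8118 Q8118 (allL N8118 (tt N10482 D10483) (tt N6219 (iv D8118)) (tt N6220 F13460) (tt N10483 D10484) (tt N6238 F13461) (tt N10468 (iv F17508)))
theorem Q8120 : ∀ i, i < 8120 → P i := stepQ 8119 Q8119 (allL N8119 (tt N10475 (iv F17523)) (tt N10483 (iv F17537)) (tt N10484 D10485) (tt N6219 (iv D8119)) (tt N10485 D10486) (tt N10469 (iv F17509)))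
theorem Q8121 : ∀ i, i < 8121 → P i := stepQ 8120 Q8120 (allL N8120 (tt N6220 (iv D8120)) (tt N6273 F13462) (tt N10482 (iv F17535)) (tt N10486 D10487) (tt N6242 F13463) (tt N10470 (iv F17512)))
theorem Q8122 : ∀ i, i < 8122 → P i := stepQ 8121 Q8121 (allL N8121 (tt N10486 (iv F17539)) (tt N6221 F13464) (tt N10487 D10488) (tt N6220 (iv D8121)) (tt N6255 F13465) (tt N10342 (iv F17289)))
theorem Q8123 : ∀ i, i < 8123 → P i := stepQ 8122 Q8122 (allL N8122 (tt N6223 F13466) (tt N10362 (iv F17314)) (tt N10488 D10489) (tt N6222 (iv D8122)) (tt N10399 (iv F17393)) (tt N10343 (iv F17291)))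
theorem Q8124 : ∀ i, i < 8124 → P i := stepQ 8123 Q8123 (allL N8123 (tt N6224 F13467) (tt N10363 (iv F17317)) (tt N8999 (iv F14939)) (tt N10343 (iv F17290)) (tt N7239 F13468) (tt N6222 (iv D8123)))
theorem Q8125 : ∀ i, i < 8125 → P i := stepQ 8124 Q8124 (allL N8124 (tt N10488 (iv F17543)) (tt N10341 (iv F17285)) (tt N6223 (iv D8124)) (tt N10489 D10490) (tt N10400 (iv F17394)) (tt N10339 F17284))
theorem Q8126 : ∀ i, i < 8126 → P i := stepQ 8125 Q8125 (allL N8125 (tt N6228 F13469) (tt N6960 F13470) (tt N10417 (iv F17429)) (tt N7758 F13471) (tt N10472 (iv F17518)) (tt N6225 (iv D8125)))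
theorem Q8127 : ∀ i, i < 8127 → P i := stepQ 8126 Q8126 (allL N8126 (tt N9886 (iv F16520)) (tt N6227 F13472) (tt N6230 F13473) (tt N10490 D10491) (tt N6226 (iv D8126)) (tt N10491 D10492))
theorem Q8128 : ∀ i, i < 8128 → P i := stepQ 8127 Q8127 (allL N8127 (tt N10416 (iv F17424)) (tt N10490 (iv F17544)) (tt N10492 D10493) (tt N6227 (iv D8127)) (tt N10413 (iv F17420)) (tt N10493 D10494))
theorem Q8129 : ∀ i, i < 8129 → P i := stepQ 8128 Q8128 (allL N8128 (tt N10417 (iv F17427)) (tt N10491 (iv F17545)) (tt N6228 F13474) (tt N10493 (iv F17548)) (tt N10477 (iv F17527)) (tt N6227 (iv D8128)))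
theorem Q8130 : ∀ i, i < 8130 → P i := stepQ 8129 Q8129 (allL N8129 (tt N6230 F13475) (tt N6697 F13476) (tt N9886 (iv F16522)) (tt N10494 D10495) (tt N6229 (iv D8129)) (tt N10495 D10496))
theorem Q8131 : ∀ i, i < 8131 → P i := stepQ 8130 Q8130 (allL N8130 (tt N10494 (iv F17549)) (tt N6231 F13477) (tt N10496 D10497) (tt N6230 (iv D8130)) (tt N6329 F13478) (tt N10497 D10498))
theorem Q8132 : ∀ i, i < 8132 → P i := stepQ 8131 Q8131 (allL N8131 (tt N10495 (iv F17552)) (tt N6232 F13479) (tt N10491 (iv F17546)) (tt N10497 (iv F17557)) (tt N6333 F13480) (tt N6230 (iv D8131)))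
theorem Q8133 : ∀ i, i < 8133 → P i := stepQ 8132 Q8132 (allL N8132 (tt N6749 F13481) (tt N10498 D10499) (tt N6231 (iv D8132)) (tt N7793 F13483) (tt N6330 F13482) (tt N7792 (iv F13484)))
theorem Q8134 : ∀ i, i < 8134 → P i := stepQ 8133 Q8133 (allL N8133 (tt N6748 F13485) (tt N10497 (iv F17556)) (tt N7792 F13486) (tt N6232 F13487) (tt N8350 (iv F13880)) (tt N6231 (iv D8133)))
theorem Q8135 : ∀ i, i < 8135 → P i := stepQ 8134 Q8134 (allL N8134 (tt N6747 F13488) (tt N10479 (iv F17529)) (tt N10499 D10500) (tt N6233 (iv D8134)) (tt N6937 F13489) (tt N6234 F13490))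
theorem Q8136 : ∀ i, i < 8136 → P i := stepQ 8135 Q8135 (allL N8135 (tt N6746 F13491) (tt N10500 D10501) (tt N6234 (iv D8135)) (tt N10501 D10502) (tt N6235 F13492) (tt N10499 (iv F17564)))
theorem Q8137 : ∀ i, i < 8137 → P i := stepQ 8136 Q8136 (allL N8136 (tt N10502 D10503) (tt N6235 (iv D8136)) (tt N10480 (iv F17532)) (tt N6940 F13493) (tt N10500 (iv F17565)) (tt N6955 F13494))
theorem Q8138 : ∀ i, i < 8138 → P i := stepQ 8137 Q8137 (allL N8137 (tt N10503 D10504) (tt N6236 (iv D8137)) (tt N6256 F13495) (tt N10504 D10505) (tt N10474 (iv F17522)) (tt N10505 D10506))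
theorem Q8139 : ∀ i, i < 8139 → P i := stepQ 8138 Q8138 (allL N8138 (tt N6239 F13496) (tt N10504 (iv F17578)) (tt N6924 F13497) (tt N6236 (iv D8138)) (tt N10506 D10507) (tt N7760 (iv F13498)))
theorem Q8140 : ∀ i, i < 8140 → P i := stepQ 8139 Q8139 (allL N8139 (tt N6240 F13499) (tt N10505 (iv F17582)) (tt N6237 F13500) (tt N7760 F13501) (tt N10507 D10508) (tt N6236 (iv D8139)))
theorem Q8141 : ∀ i, i < 8141 → P i := stepQ 8140 Q8140 (allL N8140 (tt N6241 F13502) (tt N6260 F13503) (tt N10507 (iv F17588)) (tt N10452 (iv F17480)) (tt N6237 (iv D8140)) (tt N10453 (iv F17485)))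
theorem Q8142 : ∀ i, i < 8142 → P i := stepQ 8141 Q8141 (allL N8141 (tt N6238 (iv D8141)) (tt N10503 (iv F17573)) (tt N6242 F13504) (tt N7733 (iv F13506)) (tt N10482 (iv F17536)) (tt N6249 F13505))
theorem Q8143 : ∀ i, i < 8143 → P i := stepQ 8142 Q8142 (allL N8142 (tt N7733 F13507) (tt N6239 F13508) (tt N7729 F13510) (tt N6238 (iv D8142)) (tt N10508 D10509) (tt N6252 F13509))
theorem Q8144 : ∀ i, i < 8144 → P i := stepQ 8143 Q8143 (allL N8143 (tt N6924 F13511) (tt N10509 D10510) (tt N6239 (iv D8143)) (tt N6923 F13512) (tt N10510 D10511) (tt N7756 (iv F13513)))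
theorem Q8145 : ∀ i, i < 8145 → P i := stepQ 8144 Q8144 (allL N8144 (tt N10506 (iv F17585)) (tt N10508 (iv F17590)) (tt N10510 (iv F17597)) (tt N10485 (iv F17538)) (tt N6239 (iv D8144)) (tt N10511 D10512))
theorem Q8146 : ∀ i, i < 8146 → P i := stepQ 8145 Q8145 (allL N8145 (tt N7760 F13514) (tt N6252 F13515) (tt N7756 F13516) (tt N6240 F13517) (tt N10512 D10513) (tt N6239 (iv D8145)))
theorem Q8147 : ∀ i, i < 8147 → P i := stepQ 8146 Q8146 (allL N8146 (tt N10507 (iv F17587)) (tt N6253 F13518) (tt N6241 F13519) (tt N10513 D10514) (tt N6240 (iv D8146)) (tt N10467 (iv F17505)))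
theorem Q8148 : ∀ i, i < 8148 → P i := stepQ 8147 Q8147 (allL N8147 (tt N6247 F13520) (tt N10514 D10515) (tt N6243 (iv D8147)) (tt N7211 F13521) (tt N8950 (iv F14846)) (tt N7210 (iv F13522)))
theorem Q8149 : ∀ i, i < 8149 → P i := stepQ 8148 Q8148 (allL N8148 (tt N6248 F13523) (tt N8951 (iv F14848)) (tt N7210 F13524) (tt N6244 F13525) (tt N10515 D10516) (tt N6243 (iv D8148)))
theorem Q8150 : ∀ i, i < 8150 → P i := stepQ 8149 Q8149 (allL N8149 (tt N8950 (iv F14845)) (tt N10516 D10517) (tt N6245 (iv D8149)) (tt N10517 D10518) (tt N6247 F13526) (tt N10518 D10519))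
theorem Q8151 : ∀ i, i < 8151 → P i := stepQ 8150 Q8150 (allL N8150 (tt N8951 (iv F14847)) (tt N10209 (iv F17045)) (tt N10518 (iv F17607)) (tt N6246 F13527) (tt N10519 D10520) (tt N6245 (iv D8150)))
theorem Q8152 : ∀ i, i < 8152 → P i := stepQ 8151 Q8151 (allL N8151 (tt N10520 D10521) (tt N6247 (iv D8151)) (tt N10210 (iv F17047)) (tt N10521 D10522) (tt N10516 (iv F17606)) (tt N10522 D10523))
theorem Q8153 : ∀ i, i < 8153 → P i := stepQ 8152 Q8152 (allL N8152 (tt N7211 F13528) (tt N10521 (iv F17609)) (tt N7204 F13529) (tt N6247 (iv D8152)) (tt N10523 D10524) (tt N7203 F13530))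
theorem Q8154 : ∀ i, i < 8154 → P i := stepQ 8153 Q8153 (allL N8153 (tt N7210 F13531) (tt N10522 (iv F17611)) (tt N6248 F13532) (tt N7203 F13533) (tt N10524 D10525) (tt N6247 (iv D8153)))
theorem Q8155 : ∀ i, i < 8155 → P i := stepQ 8154 Q8154 (allL N8154 (tt N10515 (iv F17604)) (tt N10213 (iv F17049)) (tt N10524 (iv F17616)) (tt N10351 (iv F17303)) (tt N6248 (iv D8154)) (tt N10519 (iv F17608)))
theorem Q8156 : ∀ i, i < 8156 → P i := stepQ 8155 Q8155 (allL N8155 (tt N10505 (iv F17581)) (tt N6249 (iv D8155)) (tt N10256 (iv F17148)) (tt N10525 D10526) (tt N10526 D10527) (tt N10503 F17575))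
theorem Q8157 : ∀ i, i < 8157 → P i := stepQ 8156 Q8156 (allL N8156 (tt N6252 F13534) (tt N10525 (iv F17618)) (tt N7102 F13535) (tt N6249 (iv D8156)) (tt N10527 D10528) (tt N7733 F13536))
theorem Q8158 : ∀ i, i < 8158 → P i := stepQ 8157 Q8157 (allL N8157 (tt N6253 F13537) (tt N10526 (iv F17621)) (tt N6250 F13538) (tt N10528 D10529) (tt N6249 (iv D8157)) (tt N10529 D10530))
theorem Q8159 : ∀ i, i < 8159 → P i := stepQ 8158 Q8158 (allL N8158 (tt N6254 F13539) (tt N10258 (iv F17154)) (tt N10529 (iv F17626)) (tt N10224 (iv F17078)) (tt N10470 (iv F17511)) (tt N6250 (iv D8158)))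
theorem Q8160 : ∀ i, i < 8160 → P i := stepQ 8159 Q8159 (allL N8159 (tt N6255 F13540) (tt N10259 (iv F17158)) (tt N10530 D10531) (tt N6251 (iv D8159)) (tt N10486 (iv F17541)) (tt N10218 (iv F17060)))
theorem Q8161 : ∀ i, i < 8161 → P i := stepQ 8160 Q8160 (allL N8160 (tt N7102 F13541) (tt N10531 D10532) (tt N6252 (iv D8160)) (tt N7101 F13542) (tt N10532 D10533) (tt N7729 F13543))
theorem Q8162 : ∀ i, i < 8162 → P i := stepQ 8161 Q8161 (allL N8161 (tt N10527 (iv F17622)) (tt N10512 (iv F17599)) (tt N10532 (iv F17633)) (tt N10533 D10534) (tt N6252 (iv D8161)) (tt N10534 D10535))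
theorem Q8163 : ∀ i, i < 8163 → P i := stepQ 8162 Q8162 (allL N8162 (tt N10528 (iv F17624)) (tt N10513 (iv F17601)) (tt N10535 D10536) (tt N6253 (iv D8162)) (tt N10533 (iv F17634)) (tt N10536 D10537))
theorem Q8164 : ∀ i, i < 8164 → P i := stepQ 8163 Q8163 (allL N8163 (tt N10529 (iv F17625)) (tt N10467 (iv F17503)) (tt N6254 F13544) (tt N10536 (iv F17635)) (tt N10468 (iv F17507)) (tt N6253 (iv D8163)))
theorem Q8165 : ∀ i, i < 8165 → P i := stepQ 8164 Q8164 (allL N8164 (tt N10530 (iv F17627)) (tt N10311 (iv F17231)) (tt N6255 (iv D8164)) (tt N10537 D10538) (tt N10487 (iv F17542)) (tt N10219 (iv F17062)))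
theorem Q8166 : ∀ i, i < 8166 → P i := stepQ 8165 Q8165 (allL N8165 (tt N6256 (iv D8165)) (tt N6262 F13545) (tt N10503 (iv F17574)) (tt N7123 F13546) (tt N10538 D10539) (tt N10256 (iv F17150)))
theorem Q8167 : ∀ i, i < 8167 → P i := stepQ 8166 Q8166 (allL N8166 (tt N10538 (iv F17636)) (tt N6257 F13547) (tt N10474 (iv F17521)) (tt N10539 D10540) (tt N6256 (iv D8166)) (tt N10540 D10541))
theorem Q8168 : ∀ i, i < 8168 → P i := stepQ 8167 Q8167 (allL N8167 (tt N10256 (iv F17147)) (tt N6258 F13548) (tt N10505 (iv F17583)) (tt N7146 F13549) (tt N10541 D10542) (tt N6256 (iv D8167)))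
theorem Q8169 : ∀ i, i < 8169 → P i := stepQ 8168 Q8168 (allL N8168 (tt N6267 F13550) (tt N10539 (iv F17638)) (tt N10542 D10543) (tt N6257 (iv D8168)) (tt N7814 F13551) (tt N10543 D10544))
theorem Q8170 : ∀ i, i < 8170 → P i := stepQ 8169 Q8169 (allL N8169 (tt N6268 F13552) (tt N10540 (iv F17640)) (tt N6259 F13553) (tt N10543 (iv F17648)) (tt N10544 D10545) (tt N6257 (iv D8169)))
theorem Q8171 : ∀ i, i < 8171 → P i := stepQ 8170 Q8170 (allL N8170 (tt N6269 F13554) (tt N10541 (iv F17641)) (tt N6260 F13555) (tt N10545 D10546) (tt N6258 (iv D8170)) (tt N10544 (iv F17651)))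
theorem Q8172 : ∀ i, i < 8172 → P i := stepQ 8171 Q8171 (allL N8171 (tt N6270 F13556) (tt N10453 (iv F17483)) (tt N10544 (iv F17650)) (tt N10393 (iv F17379)) (tt N6259 (iv D8171)) (tt N6260 F13557))
theorem Q8173 : ∀ i, i < 8173 → P i := stepQ 8172 Q8172 (allL N8172 (tt N6271 F13558) (tt N10452 (iv F17479)) (tt N10546 D10547) (tt N6260 (iv D8172)) (tt N6261 F13559) (tt N10393 (iv F17380)))
theorem Q8174 : ∀ i, i < 8174 → P i := stepQ 8173 Q8173 (allL N8173 (tt N6272 F13560) (tt N10547 D10548) (tt N6261 (iv D8173)) (tt N6272 F13561) (tt N10546 (iv F17655)) (tt N6282 F13562))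
theorem Q8175 : ∀ i, i < 8175 → P i := stepQ 8174 Q8174 (allL N8174 (tt N6264 F13563) (tt N10538 (iv F17637)) (tt N6273 F13564) (tt N10548 D10549) (tt N6262 (iv D8174)) (tt N10549 D10550))
theorem Q8176 : ∀ i, i < 8176 → P i := stepQ 8175 Q8175 (allL N8175 (tt N10280 (iv F17192)) (tt N6265 F13565) (tt N10276 (iv F17184)) (tt N10550 D10551) (tt N6263 (iv D8175)) (tt N10551 D10552))
theorem Q8177 : ∀ i, i < 8177 → P i := stepQ 8176 Q8176 (allL N8176 (tt N10548 (iv F17658)) (tt N6267 F13566) (tt N10552 D10553) (tt N6264 (iv D8176)) (tt N10550 (iv F17662)) (tt N10553 D10554))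
theorem Q8178 : ∀ i, i < 8178 → P i := stepQ 8177 Q8177 (allL N8177 (tt N10549 (iv F17659)) (tt N6268 F13567) (tt N6275 F13568) (tt N10553 (iv F17665)) (tt N10262 (iv F17167)) (tt N6264 (iv D8177)))
theorem Q8179 : ∀ i, i < 8179 → P i := stepQ 8178 Q8178 (allL N8178 (tt N7814 F13569) (tt N10550 (iv F17661)) (tt N10554 D10555) (tt N6265 (iv D8178)) (tt N6267 F13570) (tt N10555 D10556))
theorem Q8180 : ∀ i, i < 8180 → P i := stepQ 8179 Q8179 (allL N8179 (tt N7815 F13571) (tt N10551 (iv F17663)) (tt N7812 F13572) (tt N10555 (iv F17669)) (tt N10556 D10557) (tt N6265 (iv D8179)))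
theorem Q8181 : ∀ i, i < 8181 → P i := stepQ 8180 Q8180 (allL N8180 (tt N7147 F13573) (tt N10260 (iv F17162)) (tt N7144 F13574) (tt N10557 D10558) (tt N6266 (iv D8180)) (tt N10556 (iv F17672)))
theorem Q8182 : ∀ i, i < 8182 → P i := stepQ 8181 Q8181 (allL N8181 (tt N10542 (iv F17642)) (tt N10558 D10559) (tt N6267 (iv D8181)) (tt N10559 D10560) (tt N10554 (iv F17667)) (tt N10560 D10561))
theorem Q8183 : ∀ i, i < 8183 → P i := stepQ 8182 Q8182 (allL N8182 (tt N10543 (iv F17646)) (tt N10553 (iv F17664)) (tt N10560 (iv F17679)) (tt N6268 F13575) (tt N10561 D10562) (tt N6267 (iv D8182)))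
theorem Q8184 : ∀ i, i < 8184 → P i := stepQ 8183 Q8183 (allL N8183 (tt N10544 (iv F17649)) (tt N10262 (iv F17165)) (tt N6270 F13576) (tt N10562 D10563) (tt N6268 (iv D8183)) (tt N6269 F13577))
theorem Q8185 : ∀ i, i < 8185 → P i := stepQ 8184 Q8184 (allL N8184 (tt N10545 (iv F17652)) (tt N10261 (iv F17164)) (tt N10563 D10564) (tt N6269 (iv D8184)) (tt N10557 (iv F17674)) (tt N10562 (iv F17681)))
theorem Q8186 : ∀ i, i < 8186 → P i := stepQ 8185 Q8185 (allL N8185 (tt N10546 (iv F17654)) (tt N10442 (iv F17460)) (tt N6271 (iv D8185)) (tt N10564 D10565) (tt N6272 F13578) (tt N10398 (iv F17390)))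
theorem Q8187 : ∀ i, i < 8187 → P i := stepQ 8186 Q8186 (allL N8186 (tt N10565 D10566) (tt N6272 (iv D8186)) (tt N6276 F13579) (tt N10547 (iv F17656)) (tt N10442 (iv F17462)) (tt N6289 F13580))
theorem Q8188 : ∀ i, i < 8188 → P i := stepQ 8187 Q8187 (allL N8187 (tt N6274 F13581) (tt N10486 (iv F17540)) (tt N10566 D10567) (tt N6273 (iv D8187)) (tt N10259 (iv F17159)) (tt N10422 (iv F17435)))
theorem Q8189 : ∀ i, i < 8189 → P i := stepQ 8188 Q8188 (allL N8188 (tt N6275 F13582) (tt N10470 (iv F17510)) (tt N10549 (iv F17660)) (tt N10422 (iv F17434)) (tt N10258 (iv F17156)) (tt N6273 (iv D8188)))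
theorem Q8190 : ∀ i, i < 8190 → P i := stepQ 8189 Q8189 (allL N8189 (tt N10566 (iv F17684)) (tt N10412 (iv F17417)) (tt N6274 (iv D8189)) (tt N10567 D10568) (tt N10263 (iv F17168)) (tt N10420 (iv F17433)))
theorem Q8191 : ∀ i, i < 8191 → P i := stepQ 8190 Q8190 (allL N8190 (tt N6276 (iv D8190)) (tt N7098 F13583) (tt N10565 (iv F17682)) (tt N7017 F13584) (tt N10438 (iv F17455)) (tt N6290 F13585))
theorem Q8192 : ∀ i, i < 8192 → P i := stepQ 8191 Q8191 (allL N8191 (tt N6625 F13586) (tt N6279 F13587) (tt N6989 F13588) (tt N10568 D10569) (tt N6277 (iv D8191)) (tt N10569 D10570))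
theorem Q8193 : ∀ i, i < 8193 → P i := stepQ 8192 Q8192 (allL N8192 (tt N10371 (iv F17330)) (tt N6280 F13589) (tt N10570 D10571) (tt N6278 (iv D8192)) (tt N10568 (iv F17687)) (tt N10571 D10572))
theorem Q8194 : ∀ i, i < 8194 → P i := stepQ 8193 Q8193 (allL N8193 (tt N10179 (iv F16977)) (tt N6281 F13590) (tt N10184 (iv F16991)) (tt N10571 (iv F17693)) (tt N10175 (iv F16971)) (tt N6278 (iv D8193)))
theorem Q8195 : ∀ i, i < 8195 → P i := stepQ 8194 Q8194 (allL N8194 (tt N6285 F13591) (tt N10568 (iv F17686)) (tt N10572 D10573) (tt N6279 (iv D8194)) (tt N6280 F13592) (tt N10573 D10574))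
theorem Q8196 : ∀ i, i < 8196 → P i := stepQ 8195 Q8195 (allL N8195 (tt N6286 F13593) (tt N10569 (iv F17689)) (tt N6988 F13594) (tt N10573 (iv F17697)) (tt N7162 F13595) (tt N6279 (iv D8195)))
theorem Q8197 : ∀ i, i < 8197 → P i := stepQ 8196 Q8196 (allL N8196 (tt N6287 F13596) (tt N10574 D10575) (tt N6280 (iv D8196)) (tt N10560 (iv F17680)) (tt N10572 (iv F17695)) (tt N10559 (iv F17677)))
theorem Q8198 : ∀ i, i < 8198 → P i := stepQ 8197 Q8197 (allL N8197 (tt N6288 F13597) (tt N10571 (iv F17692)) (tt N10559 (iv F17676)) (tt N6281 F13598) (tt N10575 D10576) (tt N6280 (iv D8197)))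
theorem Q8199 : ∀ i, i < 8199 → P i := stepQ 8198 Q8198 (allL N8198 (tt N10576 D10577) (tt N6282 (iv D8198)) (tt N10446 (iv F17469)) (tt N6289 F13599) (tt N10390 (iv F17372)) (tt N10547 (iv F17657)))
theorem Q8200 : ∀ i, i < 8200 → P i := stepQ 8199 Q8199 (allL N8199 (tt N6986 F13600) (tt N6284 F13601) (tt N6612 F13602) (tt N7809 F13603) (tt N6283 (iv D8199)) (tt N10577 D10578))
theorem Q8201 : ∀ i, i < 8201 → P i := stepQ 8200 Q8200 (allL N8200 (tt N6988 F13604) (tt N10577 (iv F17702)) (tt N6286 F13605) (tt N7812 F13606) (tt N7158 F13607) (tt N6284 (iv D8200)))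
theorem Q8202 : ∀ i, i < 8202 → P i := stepQ 8201 Q8201 (allL N8201 (tt N10572 (iv F17694)) (tt N10578 D10579) (tt N6285 (iv D8201)) (tt N10579 D10580) (tt N6287 F13608) (tt N10580 D10581))
theorem Q8203 : ∀ i, i < 8203 → P i := stepQ 8202 Q8202 (allL N8202 (tt N10573 (iv F17696)) (tt N10387 (iv F17366)) (tt N10580 (iv F17709)) (tt N6286 F13609) (tt N10581 D10582) (tt N6285 (iv D8202)))
theorem Q8204 : ∀ i, i < 8204 → P i := stepQ 8203 Q8203 (allL N8203 (tt N10582 D10583) (tt N6287 (iv D8203)) (tt N10389 (iv F17370)) (tt N10583 D10584) (tt N10578 (iv F17706)) (tt N10584 D10585))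
theorem Q8205 : ∀ i, i < 8205 → P i := stepQ 8204 Q8204 (allL N8204 (tt N10560 (iv F17678)) (tt N10583 (iv F17712)) (tt N10543 (iv F17647)) (tt N6287 (iv D8204)) (tt N10585 D10586) (tt N10542 F17645))
theorem Q8206 : ∀ i, i < 8206 → P i := stepQ 8205 Q8205 (allL N8205 (tt N10559 (iv F17675)) (tt N10584 (iv F17713)) (tt N6288 F13610) (tt N10542 (iv F17644)) (tt N10586 D10587) (tt N6287 (iv D8205)))
theorem Q8207 : ∀ i, i < 8207 → P i := stepQ 8206 Q8206 (allL N8206 (tt N10575 (iv F17698)) (tt N10380 (iv F17348)) (tt N10586 (iv F17714)) (tt N10379 (iv F17347)) (tt N6288 (iv D8206)) (tt N10581 (iv F17711)))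
theorem Q8208 : ∀ i, i < 8208 → P i := stepQ 8207 Q8207 (allL N8207 (tt N6289 (iv D8207)) (tt N10576 (iv F17699)) (tt N6290 F13611) (tt N10576 (iv F17700)) (tt N10394 (iv F17382)) (tt N10565 (iv F17683)))
theorem Q8209 : ∀ i, i < 8209 → P i := stepQ 8208 Q8208 (allL N8208 (tt N6291 F13612) (tt N7071 F13613) (tt N10587 D10588) (tt N6290 (iv D8208)) (tt N10439 (iv F17458)) (tt N7017 F13614))
theorem Q8210 : ∀ i, i < 8210 → P i := stepQ 8209 Q8209 (allL N8209 (tt N10587 (iv F17715)) (tt N7010 F13615) (tt N6291 (iv D8209)) (tt N10588 D10589) (tt N10443 (iv F17464)) (tt N7015 F13616))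
theorem Q8211 : ∀ i, i < 8211 → P i := stepQ 8210 Q8210 (allL N8210 (tt N6294 F13617) (tt N10589 D10590) (tt N6292 (iv D8210)) (tt N10590 D10591) (tt N8937 (iv F14821)) (tt N10591 D10592))
theorem Q8212 : ∀ i, i < 8212 → P i := stepQ 8211 Q8211 (allL N8211 (tt N6295 F13618) (tt N8945 (iv F14835)) (tt N10591 (iv F17724)) (tt N6293 F13619) (tt N10592 D10593) (tt N6292 (iv D8211)))
theorem Q8213 : ∀ i, i < 8213 → P i := stepQ 8212 Q8212 (allL N8212 (tt N10593 D10594) (tt N6294 (iv D8212)) (tt N6296 F13620) (tt N10594 D10595) (tt N8939 (iv F14826)) (tt N9759 (iv F16297)))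
theorem Q8214 : ∀ i, i < 8214 → P i := stepQ 8213 Q8213 (allL N8213 (tt N10590 (iv F17720)) (tt N10594 (iv F17728)) (tt N10595 D10596) (tt N6294 (iv D8213)) (tt N10596 D10597) (tt N10597 D10598))
theorem Q8215 : ∀ i, i < 8215 → P i := stepQ 8214 Q8214 (allL N8214 (tt N10591 (iv F17723)) (tt N9759 (iv F16296)) (tt N6295 F13621) (tt N10597 (iv F17734)) (tt N10598 D10599) (tt N6294 (iv D8214)))
theorem Q8216 : ∀ i, i < 8216 → P i := stepQ 8215 Q8215 (allL N8215 (tt N10592 (iv F17726)) (tt N6297 F13622) (tt N10598 (iv F17735)) (tt N8992 (iv F14921)) (tt N6295 (iv D8215)) (tt N8942 (iv F14829)))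
theorem Q8217 : ∀ i, i < 8217 → P i := stepQ 8216 Q8216 (allL N8216 (tt N6296 (iv D8216)) (tt N8963 (iv F14867)) (tt N10593 (iv F17727)) (tt N9758 (iv F16295)) (tt N8943 (iv F14831)) (tt N9757 F16292))
theorem Q8218 : ∀ i, i < 8218 → P i := stepQ 8217 Q8217 (allL N8217 (tt N10005 (iv F16696)) (tt N6298 (iv D8217)) (tt N7993 F13623) (tt N10599 D10600) (tt N7992 F13624) (tt N10600 D10601))
theorem Q8219 : ∀ i, i < 8219 → P i := stepQ 8218 Q8218 (allL N8218 (tt N6301 F13625) (tt N10599 (iv F17736)) (tt N10597 (iv F17733)) (tt N6298 (iv D8218)) (tt N10601 D10602) (tt N10595 F17731))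
theorem Q8220 : ∀ i, i < 8220 → P i := stepQ 8219 Q8219 (allL N8219 (tt N6302 F13626) (tt N10600 (iv F17737)) (tt N6299 F13627) (tt N10595 (iv F17730)) (tt N10602 D10603) (tt N6298 (iv D8219)))
theorem Q8221 : ∀ i, i < 8221 → P i := stepQ 8220 Q8220 (allL N8220 (tt N6303 F13628) (tt N8024 F13629) (tt N10602 (iv F17741)) (tt N10231 (iv F17096)) (tt N6299 (iv D8220)) (tt N8023 F13630))
theorem Q8222 : ∀ i, i < 8222 → P i := stepQ 8221 Q8221 (allL N8221 (tt N6300 (iv D8221)) (tt N10005 (iv F16697)) (tt N6304 F13631) (tt N10603 D10604) (tt N10003 F16693) (tt N10604 D10605))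
theorem Q8223 : ∀ i, i < 8223 → P i := stepQ 8222 Q8222 (allL N8222 (tt N10603 (iv F17743)) (tt N6301 F13632) (tt N10605 D10606) (tt N6300 (iv D8222)) (tt N10606 D10607) (tt N10607 D10608))
theorem Q8224 : ∀ i, i < 8224 → P i := stepQ 8223 Q8223 (allL N8223 (tt N10604 (iv F17744)) (tt N6302 F13633) (tt N6306 F13634) (tt N10607 (iv F17748)) (tt N10172 (iv F16961)) (tt N6300 (iv D8223)))
theorem Q8225 : ∀ i, i < 8225 → P i := stepQ 8224 Q8224 (allL N8224 (tt N10597 (iv F17732)) (tt N10608 D10609) (tt N6301 (iv D8224)) (tt N10591 (iv F17725)) (tt N10609 D10610) (tt N10590 F17722))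
theorem Q8226 : ∀ i, i < 8226 → P i := stepQ 8225 Q8225 (allL N8225 (tt N10601 (iv F17739)) (tt N10606 (iv F17746)) (tt N10609 (iv F17749)) (tt N10161 (iv F16930)) (tt N6301 (iv D8225)) (tt N10610 D10611))
theorem Q8227 : ∀ i, i < 8227 → P i := stepQ 8226 Q8226 (allL N8226 (tt N10595 (iv F17729)) (tt N10607 (iv F17747)) (tt N10590 (iv F17721)) (tt N6302 F13635) (tt N10611 D10612) (tt N6301 (iv D8226)))
theorem Q8228 : ∀ i, i < 8228 → P i := stepQ 8227 Q8227 (allL N8227 (tt N10602 (iv F17740)) (tt N10172 (iv F16959)) (tt N6303 F13636) (tt N10612 D10613) (tt N6302 (iv D8227)) (tt N10159 (iv F16925)))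
theorem Q8229 : ∀ i, i < 8229 → P i := stepQ 8228 Q8228 (allL N8228 (tt N6305 F13637) (tt N7235 F13638) (tt N10613 D10614) (tt N6304 (iv D8228)) (tt N10169 (iv F16955)) (tt N7097 (iv F13639)))
theorem Q8230 : ∀ i, i < 8230 → P i := stepQ 8229 Q8229 (allL N8229 (tt N6306 F13640) (tt N7234 F13641) (tt N10604 (iv F17745)) (tt N7097 F13642) (tt N10168 (iv F16952)) (tt N6304 (iv D8229)))
theorem Q8231 : ∀ i, i < 8231 → P i := stepQ 8230 Q8230 (allL N8230 (tt N10613 (iv F17750)) (tt N7089 F13643) (tt N6305 (iv D8230)) (tt N10614 D10615) (tt N10173 (iv F16963)) (tt N7090 F13644))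
theorem Q8232 : ∀ i, i < 8232 → P i := stepQ 8231 Q8231 (allL N8231 (tt N6547 F13645) (tt N10615 D10616) (tt N6308 (iv D8231)) (tt N10616 D10617) (tt N6945 F13646) (tt N8851 (iv F14698)))
theorem Q8233 : ∀ i, i < 8233 → P i := stepQ 8232 Q8232 (allL N8232 (tt N10617 D10618) (tt N6309 (iv D8232)) (tt N10615 (iv F17754)) (tt N8351 (iv F13881)) (tt N6947 F13647) (tt N8853 (iv F14704)))
theorem Q8234 : ∀ i, i < 8234 → P i := stepQ 8233 Q8233 (allL N8233 (tt N10618 D10619) (tt N6310 (iv D8233)) (tt N8839 (iv F14673)) (tt N10619 D10620) (tt N9691 (iv F16176)) (tt N10618 F17761))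
theorem Q8235 : ∀ i, i < 8235 → P i := stepQ 8234 Q8234 (allL N8234 (tt N6313 F13648) (tt N10619 (iv F17763)) (tt N6342 F13649) (tt N6310 (iv D8234)) (tt N10620 D10621) (tt N6340 (iv F13650)))
theorem Q8236 : ∀ i, i < 8236 → P i := stepQ 8235 Q8235 (allL N8235 (tt N6312 F13651) (tt N10618 (iv F17759)) (tt N6311 F13652) (tt N6340 F13653) (tt N10621 D10622) (tt N6310 (iv D8235)))
theorem Q8237 : ∀ i, i < 8237 → P i := stepQ 8236 Q8236 (allL N8236 (tt N6316 F13654) (tt N8843 (iv F14683)) (tt N10621 (iv F17769)) (tt N6552 F13655) (tt N6311 (iv D8236)) (tt N9694 (iv F16182)))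
theorem Q8238 : ∀ i, i < 8238 → P i := stepQ 8237 Q8237 (allL N8237 (tt N6340 F13656) (tt N6313 F13657) (tt N6335 F13658) (tt N6312 (iv D8237)) (tt N10622 D10623) (tt N6313 F13659))
theorem Q8239 : ∀ i, i < 8239 → P i := stepQ 8238 Q8238 (allL N8238 (tt N10621 (iv F17768)) (tt N6314 F13660) (tt N6316 F13661) (tt N10623 D10624) (tt N6312 (iv D8238)) (tt N10624 D10625))
theorem Q8240 : ∀ i, i < 8240 → P i := stepQ 8239 Q8239 (allL N8239 (tt N6342 F13662) (tt N10625 D10626) (tt N6313 (iv D8239)) (tt N6336 F13663) (tt N10626 D10627) (tt N6335 F13664))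
theorem Q8241 : ∀ i, i < 8241 → P i := stepQ 8240 Q8240 (allL N8240 (tt N10620 (iv F17766)) (tt N10622 (iv F17771)) (tt N10626 (iv F17782)) (tt N10627 D10628) (tt N6313 (iv D8240)) (tt N10628 D10629))
theorem Q8242 : ∀ i, i < 8242 → P i := stepQ 8241 Q8241 (allL N8241 (tt N9692 (iv F16177)) (tt N10623 (iv F17773)) (tt N9700 (iv F16189)) (tt N6314 (iv D8241)) (tt N10627 (iv F17783)) (tt N9698 F16187))
theorem Q8243 : ∀ i, i < 8243 → P i := stepQ 8242 Q8242 (allL N8242 (tt N9693 (iv F16178)) (tt N10624 (iv F17774)) (tt N6315 F13665) (tt N9698 (iv F16186)) (tt N10624 (iv F17776)) (tt N6314 (iv D8242)))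
theorem Q8244 : ∀ i, i < 8244 → P i := stepQ 8243 Q8243 (allL N8243 (tt N9694 (iv F16180)) (tt N6318 F13666) (tt N10624 (iv F17775)) (tt N6563 F13667) (tt N6315 (iv D8243)) (tt N6316 F13668))
theorem Q8245 : ∀ i, i < 8245 → P i := stepQ 8244 Q8244 (allL N8244 (tt N8852 (iv F14699)) (tt N10629 D10630) (tt N6317 (iv D8244)) (tt N6951 F13670) (tt N6319 F13669) (tt N6953 (iv F13671)))
theorem Q8246 : ∀ i, i < 8246 → P i := stepQ 8245 Q8245 (allL N8245 (tt N6950 F13672) (tt N6563 F13673) (tt N6953 F13674) (tt N6318 F13675) (tt N6324 F13676) (tt N6317 (iv D8245)))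
theorem Q8247 : ∀ i, i < 8247 → P i := stepQ 8246 Q8246 (allL N8246 (tt N10630 D10631) (tt N6319 (iv D8246)) (tt N6566 F13677) (tt N6750 F13678) (tt N10629 (iv F17786)) (tt N6326 F13679))
theorem Q8248 : ∀ i, i < 8248 → P i := stepQ 8247 Q8247 (allL N8247 (tt N7402 F13680) (tt N10631 D10632) (tt N6320 (iv D8247)) (tt N10632 D10633) (tt N6915 F13681) (tt N10633 D10634))
theorem Q8249 : ∀ i, i < 8249 → P i := stepQ 8248 Q8248 (allL N8248 (tt N7403 F13682) (tt N6323 F13683) (tt N10633 (iv F17795)) (tt N6321 F13684) (tt N7790 F13685) (tt N6320 (iv D8248)))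
theorem Q8250 : ∀ i, i < 8250 → P i := stepQ 8249 Q8249 (allL N8249 (tt N10634 D10635) (tt N6322 (iv D8249)) (tt N10631 (iv F17791)) (tt N10635 D10636) (tt N6916 F13686) (tt N10636 D10637))
theorem Q8251 : ∀ i, i < 8251 → P i := stepQ 8250 Q8250 (allL N8250 (tt N6953 F13687) (tt N10635 (iv F17799)) (tt N6950 F13688) (tt N6322 (iv D8250)) (tt N6949 F13689) (tt N8852 (iv F14702)))
theorem Q8252 : ∀ i, i < 8252 → P i := stepQ 8251 Q8251 (allL N8251 (tt N6951 F13690) (tt N10636 (iv F17801)) (tt N6323 F13691) (tt N8852 (iv F14700)) (tt N7793 F13692) (tt N6322 (iv D8251)))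
theorem Q8253 : ∀ i, i < 8253 → P i := stepQ 8252 Q8252 (allL N8252 (tt N6949 F13693) (tt N10637 D10638) (tt N6324 (iv D8252)) (tt N6936 F13694) (tt N6953 F13695) (tt N6325 F13696))
theorem Q8254 : ∀ i, i < 8254 → P i := stepQ 8253 Q8253 (allL N8253 (tt N10638 D10639) (tt N6325 (iv D8253)) (tt N6560 F13697) (tt N10639 D10640) (tt N6326 F13698) (tt N10637 (iv F17806)))
theorem Q8255 : ∀ i, i < 8255 → P i := stepQ 8254 Q8254 (allL N8254 (tt N6948 F13699) (tt N10639 (iv F17810)) (tt N6937 F13700) (tt N6325 (iv D8254)) (tt N10499 (iv F17563)) (tt N6936 F13701))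
theorem Q8256 : ∀ i, i < 8256 → P i := stepQ 8255 Q8255 (allL N8255 (tt N6326 (iv D8255)) (tt N10617 (iv F17757)) (tt N6564 F13702) (tt N10640 D10641) (tt N10638 (iv F17809)) (tt N10630 (iv F17790)))
theorem Q8257 : ∀ i, i < 8257 → P i := stepQ 8256 Q8256 (allL N8256 (tt N10640 (iv F17812)) (tt N6327 F13703) (tt N10641 D10642) (tt N6326 (iv D8256)) (tt N10642 D10643) (tt N6750 F13704))
theorem Q8258 : ∀ i, i < 8258 → P i := stepQ 8257 Q8257 (allL N8257 (tt N8349 (iv F13877)) (tt N10642 (iv F17816)) (tt N6736 F13705) (tt N10499 (iv F17562)) (tt N6327 (iv D8257)) (tt N10501 (iv F17569)))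
theorem Q8259 : ∀ i, i < 8259 → P i := stepQ 8258 Q8258 (allL N8258 (tt N6329 F13706) (tt N6698 F13707) (tt N10643 D10644) (tt N6328 (iv D8258)) (tt N10494 (iv F17551)) (tt N8340 (iv F13864)))
theorem Q8260 : ∀ i, i < 8260 → P i := stepQ 8259 Q8259 (allL N8259 (tt N10643 (iv F17817)) (tt N10644 D10645) (tt N6329 (iv D8259)) (tt N10645 D10646) (tt N10496 (iv F17555)) (tt N8348 (iv F13876)))
theorem Q8261 : ∀ i, i < 8261 → P i := stepQ 8260 Q8260 (allL N8260 (tt N10646 D10647) (tt N6330 (iv D8260)) (tt N10644 (iv F17818)) (tt N8853 (iv F14703)) (tt N10498 (iv F17559)) (tt N8351 (iv F13882)))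
theorem Q8262 : ∀ i, i < 8262 → P i := stepQ 8261 Q8261 (allL N8261 (tt N6333 F13708) (tt N6738 F13709) (tt N9993 (iv F16672)) (tt N8338 (iv F13861)) (tt N10495 (iv F17554)) (tt N6331 (iv D8261)))
theorem Q8263 : ∀ i, i < 8263 → P i := stepQ 8262 Q8262 (allL N8262 (tt N9992 (iv F16669)) (tt N10476 (iv F17524)) (tt N10647 D10648) (tt N6332 (iv D8262)) (tt N9990 (iv F16666)) (tt N10648 D10649))
theorem Q8264 : ∀ i, i < 8264 → P i := stepQ 8263 Q8263 (allL N8263 (tt N9993 (iv F16671)) (tt N10477 (iv F17525)) (tt N6333 F13710) (tt N10648 (iv F17820)) (tt N10491 (iv F17547)) (tt N6332 (iv D8263)))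
theorem Q8265 : ∀ i, i < 8265 → P i := stepQ 8264 Q8264 (allL N8264 (tt N6334 (iv D8264)) (tt N6338 F13711) (tt N6413 F13712) (tt N10649 D10650) (tt N6553 F13713) (tt N6403 (iv F13714)))
theorem Q8266 : ∀ i, i < 8266 → P i := stepQ 8265 Q8265 (allL N8265 (tt N10649 (iv F17821)) (tt N6335 F13715) (tt N10625 (iv F17778)) (tt N6334 (iv D8265)) (tt N10650 D10651) (tt N10625 (iv F17780)))
theorem Q8267 : ∀ i, i < 8267 → P i := stepQ 8266 Q8266 (allL N8266 (tt N6403 F13716) (tt N6336 F13717) (tt N6416 F13718) (tt N10625 (iv F17779)) (tt N10651 D10652) (tt N6334 (iv D8266)))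
theorem Q8268 : ∀ i, i < 8268 → P i := stepQ 8267 Q8267 (allL N8267 (tt N6341 F13719) (tt N10650 (iv F17825)) (tt N10622 (iv F17772)) (tt N6555 F13720) (tt N6335 (iv D8267)) (tt N10652 D10653))
theorem Q8269 : ∀ i, i < 8269 → P i := stepQ 8268 Q8268 (allL N8268 (tt N6343 F13721) (tt N10651 (iv F17828)) (tt N6337 F13722) (tt N10653 D10654) (tt N6336 (iv D8268)) (tt N6521 F13723))
theorem Q8270 : ∀ i, i < 8270 → P i := stepQ 8269 Q8269 (allL N8269 (tt N6339 F13724) (tt N10649 (iv F17822)) (tt N6395 F13726) (tt N6338 (iv D8269)) (tt N10654 D10655) (tt N6404 F13725))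
theorem Q8271 : ∀ i, i < 8271 → P i := stepQ 8270 Q8270 (allL N8270 (tt N6395 F13727) (tt N10655 D10656) (tt N6339 (iv D8270)) (tt N6390 F13729) (tt N10656 D10657) (tt N6408 F13728))
theorem Q8272 : ∀ i, i < 8272 → P i := stepQ 8271 Q8271 (allL N8271 (tt N10654 (iv F17836)) (tt N6341 F13730) (tt N10656 (iv F17844)) (tt N6571 F13731) (tt N6339 (iv D8271)) (tt N10657 D10658))
theorem Q8273 : ∀ i, i < 8273 → P i := stepQ 8272 Q8272 (allL N8272 (tt N10619 (iv F17762)) (tt N6340 (iv D8272)) (tt N10655 (iv F17840)) (tt N10618 F17760) (tt N10658 D10659) (tt N10619 (iv F17764)))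
theorem Q8274 : ∀ i, i < 8274 → P i := stepQ 8273 Q8273 (allL N8273 (tt N10622 (iv F17770)) (tt N10658 (iv F17848)) (tt N6341 F13732) (tt N10659 D10660) (tt N6340 (iv D8273)) (tt N10660 D10661))
theorem Q8275 : ∀ i, i < 8275 → P i := stepQ 8274 Q8274 (allL N8274 (tt N10652 (iv F17831)) (tt N10657 (iv F17845)) (tt N10660 (iv F17849)) (tt N6574 F13733) (tt N10661 D10662) (tt N6341 (iv D8274)))
theorem Q8276 : ∀ i, i < 8276 → P i := stepQ 8275 Q8275 (allL N8275 (tt N10626 (iv F17781)) (tt N6409 F13734) (tt N10620 (iv F17767)) (tt N10662 D10663) (tt N6342 (iv D8275)) (tt N10661 (iv F17851)))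
theorem Q8277 : ∀ i, i < 8277 → P i := stepQ 8276 Q8276 (allL N8276 (tt N10653 (iv F17833)) (tt N6410 F13735) (tt N10663 D10664) (tt N6343 (iv D8276)) (tt N10662 (iv F17853)) (tt N6539 F13736))
theorem Q8278 : ∀ i, i < 8278 → P i := stepQ 8277 Q8277 (allL N8277 (tt N6345 F13737) (tt N10664 D10665) (tt N6344 (iv D8277)) (tt N10665 D10666) (tt N6469 F13738) (tt N8357 (iv F13892)))
theorem Q8279 : ∀ i, i < 8279 → P i := stepQ 8278 Q8278 (allL N8278 (tt N10665 (iv F17860)) (tt N7639 F13739) (tt N10666 D10667) (tt N6345 (iv D8278)) (tt N10667 D10668) (tt N8364 (iv F13897)))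
theorem Q8280 : ∀ i, i < 8280 → P i := stepQ 8279 Q8279 (allL N8279 (tt N6839 F13740) (tt N6349 F13741) (tt N6832 F13742) (tt N8618 (iv F14277)) (tt N6466 F13743) (tt N6346 (iv D8279)))
theorem Q8281 : ∀ i, i < 8281 → P i := stepQ 8280 Q8280 (allL N8280 (tt N7155 F13744) (tt N6348 F13745) (tt N6828 F13746) (tt N10668 D10669) (tt N6347 (iv D8280)) (tt N10669 D10670))
theorem Q8282 : ∀ i, i < 8282 → P i := stepQ 8281 Q8281 (allL N8281 (tt N6983 F13747) (tt N10668 (iv F17864)) (tt N10670 D10671) (tt N6348 (iv D8281)) (tt N6982 F13748) (tt N10671 D10672))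
theorem Q8283 : ∀ i, i < 8283 → P i := stepQ 8282 Q8282 (allL N8282 (tt N6984 F13749) (tt N10669 (iv F17867)) (tt N6349 F13750) (tt N10671 (iv F17873)) (tt N6987 F13751) (tt N6348 (iv D8282)))
theorem Q8284 : ∀ i, i < 8284 → P i := stepQ 8283 Q8283 (allL N8283 (tt N6352 F13752) (tt N10672 D10673) (tt N6351 (iv D8283)) (tt N10673 D10674) (tt N6487 F13753) (tt N8859 (iv F14713)))
theorem Q8285 : ∀ i, i < 8285 → P i := stepQ 8284 Q8284 (allL N8284 (tt N10674 D10675) (tt N6352 (iv D8284)) (tt N6353 F13754) (tt N10675 D10676) (tt N6489 F13755) (tt N6851 F13756))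
theorem Q8286 : ∀ i, i < 8286 → P i := stepQ 8285 Q8285 (allL N8285 (tt N10673 (iv F17877)) (tt N10675 (iv F17881)) (tt N10676 D10677) (tt N6352 (iv D8285)) (tt N10677 D10678) (tt N8866 (iv F14717)))
theorem Q8287 : ∀ i, i < 8287 → P i := stepQ 8286 Q8286 (allL N8286 (tt N6353 (iv D8286)) (tt N6388 F13757) (tt N10674 (iv F17878)) (tt N6827 F13758) (tt N6493 F13759) (tt N6850 F13760))
theorem Q8288 : ∀ i, i < 8288 → P i := stepQ 8287 Q8287 (allL N8287 (tt N8399 (iv F13956)) (tt N6355 F13761) (tt N8399 (iv F13957)) (tt N6354 (iv D8287)) (tt N10678 D10679) (tt N6426 F13762))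
theorem Q8289 : ∀ i, i < 8289 → P i := stepQ 8288 Q8288 (allL N8288 (tt N8871 (iv F14726)) (tt N6356 F13763) (tt N8855 (iv F14707)) (tt N10679 D10680) (tt N6354 (iv D8288)) (tt N10680 D10681))
theorem Q8290 : ∀ i, i < 8290 → P i := stepQ 8289 Q8289 (allL N8289 (tt N6360 F13764) (tt N10678 (iv F17886)) (tt N6430 F13765) (tt N10681 D10682) (tt N6355 (iv D8289)) (tt N10682 D10683))
theorem Q8291 : ∀ i, i < 8291 → P i := stepQ 8290 Q8290 (allL N8290 (tt N6361 F13766) (tt N10679 (iv F17887)) (tt N10683 D10684) (tt N6356 (iv D8290)) (tt N10681 (iv F17890)) (tt N10684 D10685))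
theorem Q8292 : ∀ i, i < 8292 → P i := stepQ 8291 Q8291 (allL N8291 (tt N6362 F13767) (tt N10680 (iv F17888)) (tt N6357 F13768) (tt N10684 (iv F17899)) (tt N8881 (iv F14749)) (tt N6356 (iv D8291)))
theorem Q8293 : ∀ i, i < 8293 → P i := stepQ 8292 Q8292 (allL N8292 (tt N6363 F13769) (tt N10685 D10686) (tt N6358 (iv D8292)) (tt N6451 F13771) (tt N8903 (iv F14785)) (tt N6371 F13770))
theorem Q8294 : ∀ i, i < 8294 → P i := stepQ 8293 Q8293 (allL N8293 (tt N8394 (iv F13943)) (tt N6359 (iv D8293)) (tt N8394 F13946) (tt N6416 F13772) (tt N10686 D10687) (tt N6414 F13773))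
theorem Q8295 : ∀ i, i < 8295 → P i := stepQ 8294 Q8294 (allL N8294 (tt N6430 F13774) (tt N10686 (iv F17902)) (tt N6360 F13775) (tt N10687 D10688) (tt N6359 (iv D8294)) (tt N10688 D10689))
theorem Q8296 : ∀ i, i < 8296 → P i := stepQ 8295 Q8295 (allL N8295 (tt N10681 (iv F17889)) (tt N8892 (iv F14770)) (tt N10689 D10690) (tt N6360 (iv D8295)) (tt N6361 F13776) (tt N10690 D10691))
theorem Q8297 : ∀ i, i < 8297 → P i := stepQ 8296 Q8296 (allL N8296 (tt N10682 (iv F17891)) (tt N8891 (iv F14768)) (tt N10688 (iv F17906)) (tt N10690 (iv F17909)) (tt N8883 (iv F14756)) (tt N6360 (iv D8296)))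
theorem Q8298 : ∀ i, i < 8298 → P i := stepQ 8297 Q8297 (allL N8297 (tt N10683 (iv F17894)) (tt N10691 D10692) (tt N6361 (iv D8297)) (tt N10692 D10693) (tt N10689 (iv F17908)) (tt N10693 D10694))
theorem Q8299 : ∀ i, i < 8299 → P i := stepQ 8298 Q8298 (allL N8298 (tt N10684 (iv F17897)) (tt N8897 (iv F14778)) (tt N10693 (iv F17914)) (tt N6362 F13777) (tt N10694 D10695) (tt N6361 (iv D8298)))
theorem Q8300 : ∀ i, i < 8300 → P i := stepQ 8299 Q8299 (allL N8299 (tt N10695 D10696) (tt N6363 (iv D8299)) (tt N6364 F13778) (tt N10696 D10697) (tt N8675 (iv F14367)) (tt N6384 F13779))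
theorem Q8301 : ∀ i, i < 8301 → P i := stepQ 8300 Q8300 (allL N8300 (tt N6451 F13780) (tt N10696 (iv F17918)) (tt N6375 F13782) (tt N6363 (iv D8300)) (tt N6378 (iv F13783)) (tt N6385 F13781))
theorem Q8302 : ∀ i, i < 8302 → P i := stepQ 8301 Q8301 (allL N8301 (tt N6364 (iv D8301)) (tt N6850 F13784) (tt N10695 (iv F17916)) (tt N6695 F13785) (tt N8670 (iv F14359)) (tt N6388 F13786))
theorem Q8303 : ∀ i, i < 8303 → P i := stepQ 8302 Q8302 (allL N8302 (tt N7337 F13787) (tt N6366 F13788) (tt N10697 D10698) (tt N6365 (iv D8302)) (tt N6450 F13789) (tt N10698 D10699))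
theorem Q8304 : ∀ i, i < 8304 → P i := stepQ 8303 Q8303 (allL N8303 (tt N7338 F13790) (tt N6367 F13791) (tt N7332 F13792) (tt N10698 (iv F17925)) (tt N6511 F13793) (tt N6365 (iv D8303)))
theorem Q8305 : ∀ i, i < 8305 → P i := stepQ 8304 Q8304 (allL N8304 (tt N6378 F13794) (tt N10699 D10700) (tt N6366 (iv D8304)) (tt N10693 (iv F17915)) (tt N6451 F13795) (tt N10692 (iv F17912)))
theorem Q8306 : ∀ i, i < 8306 → P i := stepQ 8305 Q8305 (allL N8305 (tt N6379 F13796) (tt N10698 (iv F17924)) (tt N10692 (iv F17911)) (tt N6367 F13797) (tt N10700 D10701) (tt N6366 (iv D8305)))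
theorem Q8307 : ∀ i, i < 8307 → P i := stepQ 8306 Q8306 (allL N8306 (tt N6380 F13798) (tt N6511 F13799) (tt N6369 F13800) (tt N10701 D10702) (tt N6367 (iv D8306)) (tt N6368 F13801))
theorem Q8308 : ∀ i, i < 8308 → P i := stepQ 8307 Q8307 (allL N8307 (tt N6381 F13802) (tt N6510 F13803) (tt N10702 D10703) (tt N6368 (iv D8307)) (tt N6448 F13804) (tt N10701 (iv F17931)))
theorem Q8309 : ∀ i, i < 8309 → P i := stepQ 8308 Q8308 (allL N8308 (tt N6382 F13805) (tt N6488 F13806) (tt N10703 D10704) (tt N6369 (iv D8308)) (tt N8686 (iv F14387)) (tt N6370 F13807))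
theorem Q8310 : ∀ i, i < 8310 → P i := stepQ 8309 Q8309 (allL N8309 (tt N6383 F13808) (tt N10704 D10705) (tt N6370 (iv D8309)) (tt N10705 D10706) (tt N6371 F13809) (tt N10703 (iv F17935)))
theorem Q8311 : ∀ i, i < 8311 → P i := stepQ 8310 Q8310 (allL N8310 (tt N10706 D10707) (tt N6371 (iv D8310)) (tt N10672 (iv F17875)) (tt N10707 D10708) (tt N10704 (iv F17937)) (tt N10685 (iv F17901)))
theorem Q8312 : ∀ i, i < 8312 → P i := stepQ 8311 Q8311 (allL N8311 (tt N6385 F13810) (tt N10707 (iv F17940)) (tt N6436 F13811) (tt N6371 (iv D8311)) (tt N10708 D10709) (tt N6451 F13812))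
theorem Q8313 : ∀ i, i < 8313 → P i := stepQ 8312 Q8312 (allL N8312 (tt N7205 F13813) (tt N6375 F13814) (tt N10709 D10710) (tt N6372 (iv D8312)) (tt N6373 F13815) (tt N10710 D10711))
theorem Q8314 : ∀ i, i < 8314 → P i := stepQ 8313 Q8313 (allL N8313 (tt N7206 F13816) (tt N6376 F13817) (tt N6516 F13818) (tt N10710 (iv F17948)) (tt N6475 F13819) (tt N6372 (iv D8313)))
theorem Q8315 : ∀ i, i < 8315 → P i := stepQ 8314 Q8314 (allL N8314 (tt N7640 F13820) (tt N10711 D10712) (tt N6373 (iv D8314)) (tt N10712 D10713) (tt N10709 (iv F17945)) (tt N10713 D10714))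
theorem Q8316 : ∀ i, i < 8316 → P i := stepQ 8315 Q8315 (allL N8315 (tt N7641 F13821) (tt N6379 F13822) (tt N10713 (iv F17954)) (tt N6374 F13823) (tt N10714 D10715) (tt N6373 (iv D8315)))
theorem Q8317 : ∀ i, i < 8317 → P i := stepQ 8316 Q8316 (allL N8316 (tt N6436 F13824) (tt N10710 (iv F17947)) (tt N6385 F13825) (tt N6376 F13826) (tt N10715 D10716) (tt N6375 (iv D8316)))
theorem Q8318 : ∀ i, i < 8318 → P i := stepQ 8317 Q8317 (allL N8317 (tt N6434 F13827) (tt N6475 F13828) (tt N6422 F13829) (tt N10716 D10717) (tt N6376 (iv D8317)) (tt N6377 F13830))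
theorem Q8319 : ∀ i, i < 8319 → P i := stepQ 8318 Q8318 (allL N8318 (tt N6448 F13831) (tt N6474 F13832) (tt N10717 D10718) (tt N6377 (iv D8318)) (tt N6381 F13833) (tt N10716 (iv F17964)))
theorem Q8320 : ∀ i, i < 8320 → P i := stepQ 8319 Q8319 (allL N8319 (tt N10718 D10719) (tt N6378 (iv D8319)) (tt N10711 (iv F17949)) (tt N10719 D10720) (tt N10696 F17920) (tt N10720 D10721))
theorem Q8321 : ∀ i, i < 8321 → P i := stepQ 8320 Q8320 (allL N8320 (tt N10693 (iv F17913)) (tt N10719 (iv F17968)) (tt N10684 (iv F17898)) (tt N6378 (iv D8320)) (tt N8904 (iv F14786)) (tt N10683 F17896))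
theorem Q8322 : ∀ i, i < 8322 → P i := stepQ 8321 Q8321 (allL N8321 (tt N10692 (iv F17910)) (tt N10720 (iv F17969)) (tt N6379 F13834) (tt N10683 (iv F17895)) (tt N10721 D10722) (tt N6378 (iv D8321)))
theorem Q8323 : ∀ i, i < 8323 → P i := stepQ 8322 Q8322 (allL N8322 (tt N10700 (iv F17927)) (tt N10714 (iv F17957)) (tt N10721 (iv F17970)) (tt N10722 D10723) (tt N6379 (iv D8322)) (tt N10715 (iv F17961)))
theorem Q8324 : ∀ i, i < 8324 → P i := stepQ 8323 Q8323 (allL N8323 (tt N10701 (iv F17929)) (tt N6477 F13835) (tt N10723 D10724) (tt N6380 (iv D8323)) (tt N10722 (iv F17973)) (tt N6381 F13836))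
theorem Q8325 : ∀ i, i < 8325 → P i := stepQ 8324 Q8324 (allL N8324 (tt N10702 (iv F17932)) (tt N10724 D10725) (tt N6381 (iv D8324)) (tt N10725 D10726) (tt N10717 (iv F17966)) (tt N10723 (iv F17974)))
theorem Q8326 : ∀ i, i < 8326 → P i := stepQ 8325 Q8325 (allL N8325 (tt N10703 (iv F17934)) (tt N6888 F13837) (tt N6382 (iv D8325)) (tt N10726 D10727) (tt N8684 (iv F14383)) (tt N6383 F13838))
theorem Q8327 : ∀ i, i < 8327 → P i := stepQ 8326 Q8326 (allL N8326 (tt N10727 D10728) (tt N6383 (iv D8326)) (tt N6387 F13839) (tt N10728 D10729) (tt N6384 F13840) (tt N6888 F13841))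
theorem Q8328 : ∀ i, i < 8328 → P i := stepQ 8327 Q8327 (allL N8327 (tt N10705 (iv F17938)) (tt N10728 (iv F17981)) (tt N10729 D10730) (tt N6383 (iv D8327)) (tt N10730 D10731) (tt N10726 (iv F17977)))
theorem Q8329 : ∀ i, i < 8329 → P i := stepQ 8328 Q8328 (allL N8328 (tt N6384 (iv D8328)) (tt N10706 (iv F17939)) (tt N6388 F13842) (tt N10731 D10732) (tt N10727 (iv F17979)) (tt N10695 (iv F17917)))
theorem Q8330 : ∀ i, i < 8330 → P i := stepQ 8329 Q8329 (allL N8329 (tt N10731 (iv F17984)) (tt N6385 F13843) (tt N10732 D10733) (tt N6384 (iv D8329)) (tt N10733 D10734) (tt N10696 (iv F17919)))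
theorem Q8331 : ∀ i, i < 8331 → P i := stepQ 8330 Q8330 (allL N8330 (tt N10708 (iv F17942)) (tt N10733 (iv F17985)) (tt N10715 (iv F17960)) (tt N10730 (iv F17983)) (tt N6385 (iv D8330)) (tt N10721 (iv F17971)))
theorem Q8332 : ∀ i, i < 8332 → P i := stepQ 8331 Q8331 (allL N8331 (tt N7243 F13844) (tt N6656 F13845) (tt N10734 D10735) (tt N6386 (iv D8331)) (tt N10735 D10736) (tt N8979 (iv F14896)))
theorem Q8333 : ∀ i, i < 8333 → P i := stepQ 8332 Q8332 (allL N8332 (tt N6387 (iv D8332)) (tt N6493 F13846) (tt N10727 (iv F17978)) (tt N6887 F13847) (tt N6388 F13848) (tt N6886 F13849))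
theorem Q8334 : ∀ i, i < 8334 → P i := stepQ 8333 Q8333 (allL N8333 (tt N6389 F13850) (tt N6827 F13851) (tt N10736 D10737) (tt N6388 (iv D8333)) (tt N8669 (iv F14357)) (tt N6695 F13852))
theorem Q8335 : ∀ i, i < 8335 → P i := stepQ 8334 Q8334 (allL N8334 (tt N10736 (iv F17992)) (tt N6690 F13853) (tt N6389 (iv D8334)) (tt N10737 D10738) (tt N8674 (iv F14365)) (tt N6685 F13854))
theorem Q8336 : ∀ i, i < 8336 → P i := stepQ 8335 Q8335 (allL N8335 (tt N10738 D10739) (tt N6390 (iv D8335)) (tt N8779 (iv F14573)) (tt N10655 (iv F17841)) (tt N10739 D10740) (tt N10738 F17998))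
theorem Q8337 : ∀ i, i < 8337 → P i := stepQ 8336 Q8336 (allL N8336 (tt N6396 F13855) (tt N10739 (iv F17999)) (tt N6391 F13856) (tt N10740 D10741) (tt N6390 (iv D8336)) (tt N10741 D10742))
theorem Q8338 : ∀ i, i < 8338 → P i := stepQ 8337 Q8337 (allL N8337 (tt N6394 F13857) (tt N10738 (iv F17996)) (tt N6392 F13858) (tt N6408 F13859) (tt N10742 D10743) (tt N6390 (iv D8337)))
theorem Q8339 : ∀ i, i < 8339 → P i := stepQ 8338 Q8338 (allL N8338 (tt N6397 F13860) (tt N8783 (iv F14583)) (tt N10741 (iv F18002)) (tt N8261 F13861) (tt N10743 D10744) (tt N6391 (iv D8338)))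
theorem Q8340 : ∀ i, i < 8340 → P i := stepQ 8339 Q8339 (allL N8339 (tt N6398 F13862) (tt N8784 (iv F14586)) (tt N10742 (iv F18004)) (tt N10744 D10745) (tt N6392 (iv D8339)) (tt N10743 (iv F18006)))
theorem Q8341 : ∀ i, i < 8341 → P i := stepQ 8340 Q8340 (allL N8340 (tt N6399 F13863) (tt N8739 (iv F14486)) (tt N10745 D10746) (tt N6393 (iv D8340)) (tt N10744 (iv F18008)) (tt N8258 F13864))
theorem Q8342 : ∀ i, i < 8342 → P i := stepQ 8341 Q8341 (allL N8341 (tt N6408 F13865) (tt N6395 F13866) (tt N6404 F13867) (tt N6394 (iv D8341)) (tt N10746 D10747) (tt N6395 F13868))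
theorem Q8343 : ∀ i, i < 8343 → P i := stepQ 8342 Q8342 (allL N8342 (tt N10742 (iv F18003)) (tt N6396 F13869) (tt N6398 F13870) (tt N10747 D10748) (tt N6394 (iv D8342)) (tt N10748 D10749))
theorem Q8344 : ∀ i, i < 8344 → P i := stepQ 8343 Q8343 (allL N8343 (tt N10656 (iv F17843)) (tt N10746 (iv F18013)) (tt N10654 (iv F17837)) (tt N10749 D10750) (tt N6395 (iv D8343)) (tt N10750 D10751))
theorem Q8345 : ∀ i, i < 8345 → P i := stepQ 8344 Q8344 (allL N8344 (tt N10740 (iv F18000)) (tt N10747 (iv F18015)) (tt N10751 D10752) (tt N6396 (iv D8344)) (tt N10749 (iv F18019)) (tt N10752 D10753))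
theorem Q8346 : ∀ i, i < 8346 → P i := stepQ 8345 Q8345 (allL N8345 (tt N10741 (iv F18001)) (tt N10748 (iv F18016)) (tt N6397 F13871) (tt N10752 (iv F18020)) (tt N10748 (iv F18018)) (tt N6396 (iv D8345)))
theorem Q8347 : ∀ i, i < 8347 → P i := stepQ 8346 Q8346 (allL N8346 (tt N10743 (iv F18005)) (tt N6401 F13872) (tt N10748 (iv F18017)) (tt N10753 D10754) (tt N6397 (iv D8346)) (tt N6398 F13873))
theorem Q8348 : ∀ i, i < 8348 → P i := stepQ 8347 Q8347 (allL N8347 (tt N10744 (iv F18007)) (tt N6400 F13874) (tt N10754 D10755) (tt N6398 (iv D8347)) (tt N6399 F13875) (tt N10753 (iv F18023)))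
theorem Q8349 : ∀ i, i < 8349 → P i := stepQ 8348 Q8348 (allL N8348 (tt N10745 (iv F18009)) (tt N10755 D10756) (tt N6399 (iv D8348)) (tt N10756 D10757) (tt N10754 (iv F18024)) (tt N8259 F13876))
theorem Q8350 : ∀ i, i < 8350 → P i := stepQ 8349 Q8349 (allL N8349 (tt N8257 F13877) (tt N10757 D10758) (tt N6400 (iv D8349)) (tt N8804 (iv F14623)) (tt N6402 F13878) (tt N8803 (iv F14621)))
theorem Q8351 : ∀ i, i < 8351 → P i := stepQ 8350 Q8350 (allL N8350 (tt N8792 (iv F14599)) (tt N10753 (iv F18021)) (tt N8803 (iv F14620)) (tt N6401 F13879) (tt N8133 F13880) (tt N6400 (iv D8350)))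
theorem Q8352 : ∀ i, i < 8352 → P i := stepQ 8351 Q8351 (allL N8351 (tt N10758 D10759) (tt N6402 (iv D8351)) (tt N10755 (iv F18025)) (tt N8232 F13881) (tt N10757 (iv F18030)) (tt N8260 F13882))
theorem Q8353 : ∀ i, i < 8353 → P i := stepQ 8352 Q8352 (allL N8352 (tt N10625 (iv F17777)) (tt N6404 F13883) (tt N10649 (iv F17823)) (tt N6403 (iv D8352)) (tt N10759 D10760) (tt N10649 (iv F17824)))
theorem Q8354 : ∀ i, i < 8354 → P i := stepQ 8353 Q8353 (allL N8353 (tt N10651 (iv F17827)) (tt N6405 F13884) (tt N8395 (iv F13949)) (tt N10760 D10761) (tt N6403 (iv D8353)) (tt N10761 D10762))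
theorem Q8355 : ∀ i, i < 8355 → P i := stepQ 8354 Q8354 (allL N8354 (tt N6409 F13885) (tt N10759 (iv F18034)) (tt N10746 (iv F18014)) (tt N10762 D10763) (tt N6404 (iv D8354)) (tt N10763 D10764))
theorem Q8356 : ∀ i, i < 8356 → P i := stepQ 8355 Q8355 (allL N8355 (tt N6410 F13886) (tt N10760 (iv F18035)) (tt N10764 D10765) (tt N6405 (iv D8355)) (tt N10762 (iv F18040)) (tt N10765 D10766))
theorem Q8357 : ∀ i, i < 8357 → P i := stepQ 8356 Q8356 (allL N8356 (tt N6411 F13887) (tt N10761 (iv F18037)) (tt N6406 F13888) (tt N10765 (iv F18047)) (tt N6540 F13889) (tt N6405 (iv D8356)))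
theorem Q8358 : ∀ i, i < 8358 → P i := stepQ 8357 Q8357 (allL N8357 (tt N6412 F13890) (tt N10766 D10767) (tt N6407 (iv D8357)) (tt N10767 D10768) (tt N6575 F13891) (tt N8277 F13892))
theorem Q8359 : ∀ i, i < 8359 → P i := stepQ 8358 Q8358 (allL N8358 (tt N10655 (iv F17839)) (tt N6408 (iv D8358)) (tt N10619 F17765) (tt N10738 (iv F17997)) (tt N10768 D10769) (tt N10655 (iv F17842)))
theorem Q8360 : ∀ i, i < 8360 → P i := stepQ 8359 Q8359 (allL N8359 (tt N10746 (iv F18012)) (tt N10768 (iv F18053)) (tt N6409 F13893) (tt N10769 D10770) (tt N6408 (iv D8359)) (tt N10770 D10771))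
theorem Q8361 : ∀ i, i < 8361 → P i := stepQ 8360 Q8360 (allL N8360 (tt N10762 (iv F18039)) (tt N10662 (iv F17852)) (tt N10771 D10772) (tt N6409 (iv D8360)) (tt N6410 F13894) (tt N10772 D10773))
theorem Q8362 : ∀ i, i < 8362 → P i := stepQ 8361 Q8361 (allL N8361 (tt N10763 (iv F18041)) (tt N10661 (iv F17850)) (tt N10770 (iv F18054)) (tt N10772 (iv F18056)) (tt N10657 (iv F17847)) (tt N6409 (iv D8361)))
theorem Q8363 : ∀ i, i < 8363 → P i := stepQ 8362 Q8362 (allL N8362 (tt N10764 (iv F18042)) (tt N10773 D10774) (tt N6410 (iv D8362)) (tt N10774 D10775) (tt N10771 (iv F18055)) (tt N10775 D10776))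
theorem Q8364 : ∀ i, i < 8364 → P i := stepQ 8363 Q8363 (allL N8363 (tt N10765 (iv F18045)) (tt N6539 F13895) (tt N10775 (iv F18061)) (tt N6411 F13896) (tt N10776 D10777) (tt N6410 (iv D8363)))
theorem Q8365 : ∀ i, i < 8365 → P i := stepQ 8364 Q8364 (allL N8364 (tt N10767 (iv F18050)) (tt N8410 (iv F13974)) (tt N10777 D10778) (tt N6412 (iv D8364)) (tt N10778 D10779) (tt N8278 F13897))
theorem Q8366 : ∀ i, i < 8366 → P i := stepQ 8365 Q8365 (allL N8365 (tt N6415 F13898) (tt N6423 F13899) (tt N6553 F13900) (tt N10779 D10780) (tt N6413 (iv D8365)) (tt N9601 (iv F16057)))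
theorem Q8367 : ∀ i, i < 8367 → P i := stepQ 8366 Q8366 (allL N8366 (tt N8886 (iv F14759)) (tt N6417 F13901) (tt N8886 (iv F14761)) (tt N10780 D10781) (tt N6414 (iv D8366)) (tt N10781 D10782))
theorem Q8368 : ∀ i, i < 8368 → P i := stepQ 8367 Q8367 (allL N8367 (tt N10779 (iv F18069)) (tt N6418 F13902) (tt N10782 D10783) (tt N6415 (iv D8367)) (tt N10780 (iv F18072)) (tt N10783 D10784))
theorem Q8369 : ∀ i, i < 8369 → P i := stepQ 8368 Q8368 (allL N8368 (tt N9601 (iv F16055)) (tt N6419 F13903) (tt N6522 F13904) (tt N10783 (iv F18076)) (tt N10784 D10785) (tt N6415 (iv D8368)))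
theorem Q8370 : ∀ i, i < 8370 → P i := stepQ 8369 Q8369 (allL N8369 (tt N8395 (iv F13947)) (tt N6420 F13905) (tt N10651 (iv F17829)) (tt N10785 D10786) (tt N6416 (iv D8369)) (tt N10784 (iv F18079)))
theorem Q8371 : ∀ i, i < 8371 → P i := stepQ 8370 Q8370 (allL N8370 (tt N6428 F13906) (tt N10780 (iv F18071)) (tt N6428 (iv F13908)) (tt N6417 (iv D8370)) (tt N6418 F13907) (tt N10786 D10787))
theorem Q8372 : ∀ i, i < 8372 → P i := stepQ 8371 Q8371 (allL N8371 (tt N6429 F13909) (tt N10781 (iv F18073)) (tt N8883 (iv F14755)) (tt N10786 (iv F18083)) (tt N10688 (iv F17907)) (tt N6417 (iv D8371)))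
theorem Q8373 : ∀ i, i < 8373 → P i := stepQ 8372 Q8372 (allL N8372 (tt N6431 F13910) (tt N10783 (iv F18075)) (tt N6431 F13911) (tt N6419 F13912) (tt N10787 D10788) (tt N6418 (iv D8372)))
theorem Q8374 : ∀ i, i < 8374 → P i := stepQ 8373 Q8373 (allL N8373 (tt N6432 F13913) (tt N10784 (iv F18077)) (tt N6421 F13914) (tt N10788 D10789) (tt N6419 (iv D8373)) (tt N6420 F13915))
theorem Q8375 : ∀ i, i < 8375 → P i := stepQ 8374 Q8374 (allL N8374 (tt N6433 F13916) (tt N10785 (iv F18080)) (tt N10789 D10790) (tt N6420 (iv D8374)) (tt N10687 (iv F17904)) (tt N10788 (iv F18087)))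
theorem Q8376 : ∀ i, i < 8376 → P i := stepQ 8375 Q8375 (allL N8375 (tt N6425 F13917) (tt N10779 (iv F18070)) (tt N9594 (iv F16043)) (tt N6423 (iv D8375)) (tt N8887 (iv F14763)) (tt N9602 (iv F16059)))
theorem Q8377 : ∀ i, i < 8377 → P i := stepQ 8376 Q8376 (allL N8376 (tt N8887 (iv F14762)) (tt N6428 F13918) (tt N10790 D10791) (tt N6424 (iv D8376)) (tt N6425 F13919) (tt N10791 D10792))
theorem Q8378 : ∀ i, i < 8378 → P i := stepQ 8377 Q8377 (allL N8377 (tt N8888 (iv F14764)) (tt N6429 F13920) (tt N8873 (iv F14731)) (tt N10791 (iv F18092)) (tt N8402 (iv F13965)) (tt N6424 (iv D8377)))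
theorem Q8379 : ∀ i, i < 8379 → P i := stepQ 8378 Q8378 (allL N8378 (tt N9594 (iv F16042)) (tt N10782 (iv F18074)) (tt N6425 (iv D8378)) (tt N9592 (iv F16040)) (tt N10790 (iv F18090)) (tt N9603 (iv F16060)))
theorem Q8380 : ∀ i, i < 8380 → P i := stepQ 8379 Q8379 (allL N8379 (tt N8868 (iv F14721)) (tt N6427 F13921) (tt N8868 (iv F14723)) (tt N10792 D10793) (tt N6426 (iv D8379)) (tt N10793 D10794))
theorem Q8381 : ∀ i, i < 8381 → P i := stepQ 8380 Q8380 (allL N8380 (tt N8882 (iv F14750)) (tt N10792 (iv F18093)) (tt N10794 D10795) (tt N6427 (iv D8380)) (tt N8880 (iv F14746)) (tt N10794 F18096))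
theorem Q8382 : ∀ i, i < 8382 → P i := stepQ 8381 Q8381 (allL N8381 (tt N8883 (iv F14753)) (tt N10793 (iv F18094)) (tt N6429 F13922) (tt N10794 (iv F18095)) (tt N10682 (iv F17893)) (tt N6427 (iv D8381)))
theorem Q8383 : ∀ i, i < 8383 → P i := stepQ 8382 Q8382 (allL N8382 (tt N10786 (iv F18081)) (tt N10791 (iv F18091)) (tt N10786 (iv F18082)) (tt N6429 F13923) (tt N10795 D10796) (tt N6428 (iv D8382)))
theorem Q8384 : ∀ i, i < 8384 → P i := stepQ 8383 Q8383 (allL N8383 (tt N10688 (iv F17905)) (tt N8402 (iv F13964)) (tt N10682 (iv F17892)) (tt N10796 D10797) (tt N6429 (iv D8383)) (tt N6430 F13924))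
theorem Q8385 : ∀ i, i < 8385 → P i := stepQ 8384 Q8384 (allL N8384 (tt N10687 (iv F17903)) (tt N8401 (iv F13962)) (tt N10797 D10798) (tt N6430 (iv D8384)) (tt N6433 F13925) (tt N10796 (iv F18098)))
theorem Q8386 : ∀ i, i < 8386 → P i := stepQ 8385 Q8385 (allL N8385 (tt N10787 (iv F18084)) (tt N9604 (iv F16061)) (tt N10787 (iv F18085)) (tt N10798 D10799) (tt N6431 (iv D8385)) (tt N10795 (iv F18097)))
theorem Q8387 : ∀ i, i < 8387 → P i := stepQ 8386 Q8386 (allL N8386 (tt N10788 (iv F18086)) (tt N8404 (iv F13966)) (tt N10799 D10800) (tt N6432 (iv D8386)) (tt N10798 (iv F18100)) (tt N6433 F13926))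
theorem Q8388 : ∀ i, i < 8388 → P i := stepQ 8387 Q8387 (allL N8387 (tt N10789 (iv F18088)) (tt N10800 D10801) (tt N6433 (iv D8387)) (tt N10717 (iv F17967)) (tt N10797 (iv F18099)) (tt N10799 (iv F18101)))
theorem Q8389 : ∀ i, i < 8389 → P i := stepQ 8388 Q8388 (allL N8388 (tt N10716 (iv F17962)) (tt N6513 F13927) (tt N10801 D10802) (tt N6434 (iv D8388)) (tt N10802 D10803) (tt N6448 F13928))
theorem Q8390 : ∀ i, i < 8390 → P i := stepQ 8389 Q8389 (allL N8389 (tt N6435 (iv D8389)) (tt N7206 F13929) (tt N6437 F13930) (tt N10803 D10804) (tt N6508 F13931) (tt N6449 F13932))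
theorem Q8391 : ∀ i, i < 8391 → P i := stepQ 8390 Q8390 (allL N8390 (tt N10803 (iv F18105)) (tt N6436 F13933) (tt N10804 D10805) (tt N6435 (iv D8390)) (tt N10805 D10806) (tt N6450 F13934))
theorem Q8392 : ∀ i, i < 8392 → P i := stepQ 8391 Q8391 (allL N8391 (tt N10715 (iv F17959)) (tt N10805 (iv F18109)) (tt N10708 (iv F17943)) (tt N10802 (iv F18104)) (tt N6436 (iv D8391)) (tt N10700 (iv F17928)))
theorem Q8393 : ∀ i, i < 8393 → P i := stepQ 8392 Q8392 (allL N8392 (tt N6439 F13935) (tt N10806 D10807) (tt N6438 (iv D8392)) (tt N6848 F13938) (tt N7152 F13936) (tt N6454 F13937))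
theorem Q8394 : ∀ i, i < 8394 → P i := stepQ 8393 Q8393 (allL N8393 (tt N6848 F13939) (tt N6544 F13940) (tt N6836 F13942) (tt N6439 (iv D8393)) (tt N10807 D10808) (tt N6456 F13941))
theorem Q8395 : ∀ i, i < 8395 → P i := stepQ 8394 Q8394 (allL N8394 (tt N8293 F13943) (tt N6441 F13944) (tt N8293 (iv F13946)) (tt N6440 (iv D8394)) (tt N10808 D10809) (tt N6812 F13945))
theorem Q8396 : ∀ i, i < 8396 → P i := stepQ 8395 Q8395 (allL N8395 (tt N8369 F13947) (tt N6442 F13948) (tt N8353 F13949) (tt N10809 D10810) (tt N6440 (iv D8395)) (tt N10810 D10811))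
theorem Q8397 : ∀ i, i < 8397 → P i := stepQ 8396 Q8396 (allL N8396 (tt N6445 F13950) (tt N10808 (iv F18121)) (tt N6816 F13951) (tt N10811 D10812) (tt N6441 (iv D8396)) (tt N10812 D10813))
theorem Q8398 : ∀ i, i < 8398 → P i := stepQ 8397 Q8397 (allL N8397 (tt N6446 F13952) (tt N10809 (iv F18124)) (tt N10813 D10814) (tt N6442 (iv D8397)) (tt N10811 (iv F18130)) (tt N10814 D10815))
theorem Q8399 : ∀ i, i < 8399 → P i := stepQ 8398 Q8398 (allL N8398 (tt N6447 F13953) (tt N10810 (iv F18126)) (tt N6443 F13954) (tt N10814 (iv F18139)) (tt N7398 F13955) (tt N6442 (iv D8398)))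
theorem Q8400 : ∀ i, i < 8400 → P i := stepQ 8399 Q8399 (allL N8399 (tt N8287 F13956) (tt N6444 (iv D8399)) (tt N8287 F13957) (tt N6800 F13958) (tt N10815 D10816) (tt N6798 F13959))
theorem Q8401 : ∀ i, i < 8401 → P i := stepQ 8400 Q8400 (allL N8400 (tt N6816 F13960) (tt N10815 (iv F18141)) (tt N6445 F13961) (tt N10816 D10817) (tt N6444 (iv D8400)) (tt N10817 D10818))
theorem Q8402 : ∀ i, i < 8402 → P i := stepQ 8401 Q8401 (allL N8401 (tt N10811 (iv F18129)) (tt N8384 F13962) (tt N10818 D10819) (tt N6445 (iv D8401)) (tt N6446 F13963) (tt N10819 D10820))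
theorem Q8403 : ∀ i, i < 8403 → P i := stepQ 8402 Q8402 (allL N8402 (tt N10812 (iv F18131)) (tt N8383 F13964) (tt N10817 (iv F18146)) (tt N10819 (iv F18150)) (tt N8377 F13965) (tt N6445 (iv D8402)))
theorem Q8404 : ∀ i, i < 8404 → P i := stepQ 8403 Q8403 (allL N8403 (tt N10813 (iv F18134)) (tt N10820 D10821) (tt N6446 (iv D8403)) (tt N10821 D10822) (tt N10818 (iv F18148)) (tt N10822 D10823))
theorem Q8405 : ∀ i, i < 8405 → P i := stepQ 8404 Q8404 (allL N8404 (tt N10814 (iv F18137)) (tt N8386 F13966) (tt N10822 (iv F18156)) (tt N6447 F13967) (tt N10823 D10824) (tt N6446 (iv D8404)))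
theorem Q8406 : ∀ i, i < 8406 → P i := stepQ 8405 Q8405 (allL N8405 (tt N10717 (iv F17965)) (tt N10824 D10825) (tt N6448 (iv D8405)) (tt N10789 (iv F18089)) (tt N10702 (iv F17933)) (tt N10801 (iv F18102)))
theorem Q8407 : ∀ i, i < 8407 → P i := stepQ 8406 Q8406 (allL N8406 (tt N6450 F13968) (tt N7205 F13969) (tt N10825 D10826) (tt N6449 (iv D8406)) (tt N7337 F13970) (tt N10803 (iv F18107)))
theorem Q8408 : ∀ i, i < 8408 → P i := stepQ 8407 Q8407 (allL N8407 (tt N10825 (iv F18161)) (tt N10826 D10827) (tt N6450 (iv D8407)) (tt N10827 D10828) (tt N10697 (iv F17922)) (tt N10804 (iv F18108)))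
theorem Q8409 : ∀ i, i < 8409 → P i := stepQ 8408 Q8408 (allL N8408 (tt N10828 D10829) (tt N6451 (iv D8408)) (tt N10826 (iv F18164)) (tt N10685 (iv F17900)) (tt N10699 (iv F17926)) (tt N10707 (iv F17941)))
theorem Q8410 : ∀ i, i < 8410 → P i := stepQ 8409 Q8409 (allL N8409 (tt N6453 F13971) (tt N10829 D10830) (tt N6452 (iv D8409)) (tt N10830 D10831) (tt N6509 F13972) (tt N7631 F13973))
theorem Q8411 : ∀ i, i < 8411 → P i := stepQ 8410 Q8410 (allL N8410 (tt N10830 (iv F18171)) (tt N8364 F13974) (tt N10831 D10832) (tt N6453 (iv D8410)) (tt N10832 D10833) (tt N7639 F13975))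
theorem Q8412 : ∀ i, i < 8412 → P i := stepQ 8411 Q8411 (allL N8411 (tt N10833 D10834) (tt N6454 (iv D8411)) (tt N10664 (iv F17858)) (tt N10834 D10835) (tt N8627 (iv F14289)) (tt N10806 (iv F18115)))
theorem Q8413 : ∀ i, i < 8413 → P i := stepQ 8412 Q8412 (allL N8412 (tt N6456 F13976) (tt N10834 (iv F18180)) (tt N6823 F13977) (tt N6454 (iv D8412)) (tt N10835 D10836) (tt N6848 F13978))
theorem Q8414 : ∀ i, i < 8414 → P i := stepQ 8413 Q8413 (allL N8413 (tt N6455 (iv D8413)) (tt N10833 (iv F18176)) (tt N6457 F13979) (tt N10836 D10837) (tt N7358 F13980) (tt N6543 F13981))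
theorem Q8415 : ∀ i, i < 8415 → P i := stepQ 8414 Q8414 (allL N8414 (tt N10836 (iv F18184)) (tt N6456 F13982) (tt N10837 D10838) (tt N6455 (iv D8414)) (tt N10838 D10839) (tt N6544 F13983))
theorem Q8416 : ∀ i, i < 8416 → P i := stepQ 8415 Q8415 (allL N8415 (tt N6823 F13984) (tt N10839 D10840) (tt N6456 (iv D8415)) (tt N6807 F13985) (tt N10840 D10841) (tt N6836 F13986))
theorem Q8417 : ∀ i, i < 8417 → P i := stepQ 8416 Q8416 (allL N8416 (tt N10835 (iv F18182)) (tt N10838 (iv F18190)) (tt N10840 (iv F18195)) (tt N8630 (iv F14291)) (tt N6456 (iv D8416)) (tt N10841 D10842))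
theorem Q8418 : ∀ i, i < 8418 → P i := stepQ 8417 Q8417 (allL N8417 (tt N6989 F13987) (tt N6460 F13988) (tt N6625 F13989) (tt N10842 D10843) (tt N6458 (iv D8417)) (tt N10843 D10844))
theorem Q8419 : ∀ i, i < 8419 → P i := stepQ 8418 Q8418 (allL N8418 (tt N9597 (iv F16046)) (tt N6461 F13990) (tt N10844 D10845) (tt N6459 (iv D8418)) (tt N10842 (iv F18198)) (tt N10845 D10846))
theorem Q8420 : ∀ i, i < 8420 → P i := stepQ 8419 Q8419 (allL N8419 (tt N8609 (iv F14261)) (tt N6462 F13991) (tt N9833 (iv F16441)) (tt N10845 (iv F18204)) (tt N8606 (iv F14258)) (tt N6459 (iv D8419)))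
theorem Q8421 : ∀ i, i < 8421 → P i := stepQ 8420 Q8420 (allL N8420 (tt N6465 F13992) (tt N10842 (iv F18197)) (tt N10846 D10847) (tt N6460 (iv D8420)) (tt N6461 F13993) (tt N10847 D10848))
theorem Q8422 : ∀ i, i < 8422 → P i := stepQ 8421 Q8421 (allL N8421 (tt N6466 F13994) (tt N10843 (iv F18200)) (tt N6624 F13995) (tt N10847 (iv F18208)) (tt N6839 F13996) (tt N6460 (iv D8421)))
theorem Q8423 : ∀ i, i < 8423 → P i := stepQ 8422 Q8422 (allL N8422 (tt N6467 F13997) (tt N10848 D10849) (tt N6461 (iv D8422)) (tt N10822 (iv F18157)) (tt N10846 (iv F18206)) (tt N10821 (iv F18154)))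
theorem Q8424 : ∀ i, i < 8424 → P i := stepQ 8423 Q8423 (allL N8423 (tt N6468 F13998) (tt N10845 (iv F18203)) (tt N10821 (iv F18153)) (tt N6462 F13999) (tt N10849 D10850) (tt N6461 (iv D8423)))
theorem Q8425 : ∀ i, i < 8425 → P i := stepQ 8424 Q8424 (allL N8424 (tt N6612 F14000) (tt N6464 F14001) (tt N6986 F14002) (tt N8688 (iv F14392)) (tt N6463 (iv D8424)) (tt N10850 D10851))
theorem Q8426 : ∀ i, i < 8426 → P i := stepQ 8425 Q8425 (allL N8425 (tt N6619 F14003) (tt N8688 (iv F14391)) (tt N10851 D10852) (tt N6464 (iv D8425)) (tt N6616 F14004) (tt N10852 D10853))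
theorem Q8427 : ∀ i, i < 8427 → P i := stepQ 8426 Q8426 (allL N8426 (tt N6624 F14005) (tt N10850 (iv F18211)) (tt N6466 F14006) (tt N10852 (iv F18217)) (tt N6832 F14007) (tt N6464 (iv D8426)))
theorem Q8428 : ∀ i, i < 8428 → P i := stepQ 8427 Q8427 (allL N8427 (tt N10846 (iv F18205)) (tt N10853 D10854) (tt N6465 (iv D8427)) (tt N10854 D10855) (tt N6467 F14008) (tt N10855 D10856))
theorem Q8429 : ∀ i, i < 8429 → P i := stepQ 8428 Q8428 (allL N8428 (tt N10847 (iv F18207)) (tt N9600 (iv F16053)) (tt N10855 (iv F18219)) (tt N6466 F14009) (tt N10856 D10857) (tt N6465 (iv D8428)))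
theorem Q8430 : ∀ i, i < 8430 → P i := stepQ 8429 Q8429 (allL N8429 (tt N10857 D10858) (tt N6467 (iv D8429)) (tt N9598 (iv F16049)) (tt N10858 D10859) (tt N10853 (iv F18218)) (tt N10859 D10860))
theorem Q8431 : ∀ i, i < 8431 → P i := stepQ 8430 Q8430 (allL N8430 (tt N10822 (iv F18155)) (tt N10858 (iv F18221)) (tt N10814 (iv F18138)) (tt N6467 (iv D8430)) (tt N10860 D10861) (tt N10813 F18136))
theorem Q8432 : ∀ i, i < 8432 → P i := stepQ 8431 Q8431 (allL N8431 (tt N10821 (iv F18152)) (tt N10859 (iv F18222)) (tt N6468 F14010) (tt N10813 (iv F18135)) (tt N10861 D10862) (tt N6467 (iv D8431)))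
theorem Q8433 : ∀ i, i < 8433 → P i := stepQ 8432 Q8432 (allL N8432 (tt N10849 (iv F18209)) (tt N8625 (iv F14283)) (tt N10861 (iv F18223)) (tt N8619 (iv F14279)) (tt N6468 (iv D8432)) (tt N10856 (iv F18220)))
theorem Q8434 : ∀ i, i < 8434 → P i := stepQ 8433 Q8433 (allL N8433 (tt N7629 F14011) (tt N6469 (iv D8433)) (tt N8627 (iv F14288)) (tt N10862 D10863) (tt N10664 (iv F17859)) (tt N7627 F14012))
theorem Q8435 : ∀ i, i < 8435 → P i := stepQ 8434 Q8434 (allL N8434 (tt N6470 F14013) (tt N10862 (iv F18225)) (tt N9983 (iv F16655)) (tt N6469 (iv D8434)) (tt N10863 D10864) (tt N7632 F14014))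
theorem Q8436 : ∀ i, i < 8436 → P i := stepQ 8435 Q8435 (allL N8435 (tt N9983 (iv F16654)) (tt N10864 D10865) (tt N6470 (iv D8435)) (tt N9976 (iv F16644)) (tt N10865 D10866) (tt N7633 F14015))
theorem Q8437 : ∀ i, i < 8437 → P i := stepQ 8436 Q8436 (allL N8436 (tt N10863 (iv F18227)) (tt N7638 F14016) (tt N10865 (iv F18230)) (tt N10667 (iv F17862)) (tt N6470 (iv D8436)) (tt N10866 D10867))
theorem Q8438 : ∀ i, i < 8438 → P i := stepQ 8437 Q8437 (allL N8437 (tt N6474 F14017) (tt N6507 F14018) (tt N10867 D10868) (tt N6471 (iv D8437)) (tt N6472 F14019) (tt N10868 D10869))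
theorem Q8439 : ∀ i, i < 8439 → P i := stepQ 8438 Q8438 (allL N8438 (tt N6475 F14020) (tt N6508 F14021) (tt N7078 F14022) (tt N10868 (iv F18237)) (tt N7206 F14023) (tt N6471 (iv D8438)))
theorem Q8440 : ∀ i, i < 8440 → P i := stepQ 8439 Q8439 (allL N8439 (tt N6476 F14024) (tt N10869 D10870) (tt N6472 (iv D8439)) (tt N6773 F14025) (tt N10867 (iv F18234)) (tt N6772 (iv F14026)))
theorem Q8441 : ∀ i, i < 8441 → P i := stepQ 8440 Q8440 (allL N8440 (tt N6477 F14027) (tt N7594 F14028) (tt N6772 F14029) (tt N6473 F14030) (tt N10870 D10871) (tt N6472 (iv D8440)))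
theorem Q8442 : ∀ i, i < 8442 → P i := stepQ 8441 Q8441 (allL N8441 (tt N10867 (iv F18233)) (tt N10871 D10872) (tt N6474 (iv D8441)) (tt N10872 D10873) (tt N6476 F14031) (tt N10873 D10874))
theorem Q8443 : ∀ i, i < 8443 → P i := stepQ 8442 Q8442 (allL N8442 (tt N10868 (iv F18235)) (tt N10716 (iv F17963)) (tt N10873 (iv F18246)) (tt N6475 F14032) (tt N10874 D10875) (tt N6474 (iv D8442)))
theorem Q8444 : ∀ i, i < 8444 → P i := stepQ 8443 Q8443 (allL N8443 (tt N10875 D10876) (tt N6476 (iv D8443)) (tt N10724 (iv F17975)) (tt N10876 D10877) (tt N10871 (iv F18245)) (tt N10877 D10878))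
theorem Q8445 : ∀ i, i < 8445 → P i := stepQ 8444 Q8444 (allL N8444 (tt N6773 F14033) (tt N10876 (iv F18248)) (tt N6766 F14034) (tt N6476 (iv D8444)) (tt N10878 D10879) (tt N6765 F14035))
theorem Q8446 : ∀ i, i < 8446 → P i := stepQ 8445 Q8445 (allL N8445 (tt N6772 F14036) (tt N10877 (iv F18250)) (tt N6477 F14037) (tt N6765 F14038) (tt N10879 D10880) (tt N6476 (iv D8445)))
theorem Q8447 : ∀ i, i < 8447 → P i := stepQ 8446 Q8446 (allL N8446 (tt N10870 (iv F18241)) (tt N10722 (iv F17972)) (tt N10879 (iv F18255)) (tt N10714 (iv F17958)) (tt N6477 (iv D8446)) (tt N10874 (iv F18247)))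
theorem Q8448 : ∀ i, i < 8448 → P i := stepQ 8447 Q8447 (allL N8447 (tt N7242 F14039) (tt N6655 F14040) (tt N8986 (iv F14912)) (tt N10735 (iv F17991)) (tt N6478 (iv D8447)) (tt N10880 D10881))
theorem Q8449 : ∀ i, i < 8449 → P i := stepQ 8448 Q8448 (allL N8448 (tt N6481 F14041) (tt N10881 D10882) (tt N6479 (iv D8448)) (tt N10882 D10883) (tt N7569 F14042) (tt N10883 D10884))
theorem Q8450 : ∀ i, i < 8450 → P i := stepQ 8449 Q8449 (allL N8449 (tt N6482 F14043) (tt N7588 F14044) (tt N10883 (iv F18265)) (tt N6480 F14045) (tt N10884 D10885) (tt N6479 (iv D8449)))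
theorem Q8451 : ∀ i, i < 8451 → P i := stepQ 8450 Q8450 (allL N8450 (tt N10885 D10886) (tt N6481 (iv D8450)) (tt N6483 F14046) (tt N10886 D10887) (tt N7571 F14047) (tt N10887 D10888))
theorem Q8452 : ∀ i, i < 8452 → P i := stepQ 8451 Q8451 (allL N8451 (tt N10882 (iv F18261)) (tt N10886 (iv F18273)) (tt N10888 D10889) (tt N6481 (iv D8451)) (tt N10889 D10890) (tt N10890 D10891))
theorem Q8453 : ∀ i, i < 8453 → P i := stepQ 8452 Q8452 (allL N8452 (tt N10883 (iv F18264)) (tt N10887 (iv F18274)) (tt N6482 F14048) (tt N10890 (iv F18282)) (tt N10891 D10892) (tt N6481 (iv D8452)))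
theorem Q8454 : ∀ i, i < 8454 → P i := stepQ 8453 Q8453 (allL N8453 (tt N10884 (iv F18267)) (tt N6486 F14049) (tt N10891 (iv F18283)) (tt N7647 F14050) (tt N6482 (iv D8453)) (tt N7574 F14051))
theorem Q8455 : ∀ i, i < 8455 → P i := stepQ 8454 Q8454 (allL N8454 (tt N6483 (iv D8454)) (tt N7605 F14052) (tt N10885 (iv F18271)) (tt N10892 D10893) (tt N7577 F14053) (tt N10893 D10894))
theorem Q8456 : ∀ i, i < 8456 → P i := stepQ 8455 Q8455 (allL N8455 (tt N10892 (iv F18285)) (tt N6484 F14054) (tt N10894 D10895) (tt N6483 (iv D8455)) (tt N8604 (iv F14252)) (tt N6856 (iv F14055)))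
theorem Q8457 : ∀ i, i < 8457 → P i := stepQ 8456 Q8456 (allL N8456 (tt N10893 (iv F18288)) (tt N6485 F14056) (tt N10887 (iv F18275)) (tt N6856 F14057) (tt N8603 (iv F14250)) (tt N6483 (iv D8456)))
theorem Q8458 : ∀ i, i < 8458 → P i := stepQ 8457 Q8457 (allL N8457 (tt N10895 D10896) (tt N6487 (iv D8457)) (tt N10704 (iv F17936)) (tt N10896 D10897) (tt N10672 (iv F17876)) (tt N10897 D10898))
theorem Q8459 : ∀ i, i < 8459 → P i := stepQ 8458 Q8458 (allL N8458 (tt N6490 F14058) (tt N10896 (iv F18294)) (tt N10890 (iv F18281)) (tt N6487 (iv D8458)) (tt N10898 D10899) (tt N10888 F18278))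
theorem Q8460 : ∀ i, i < 8460 → P i := stepQ 8459 Q8459 (allL N8459 (tt N6491 F14059) (tt N10897 (iv F18295)) (tt N6488 F14060) (tt N10888 (iv F18277)) (tt N10899 D10900) (tt N6487 (iv D8459)))
theorem Q8461 : ∀ i, i < 8461 → P i := stepQ 8460 Q8460 (allL N8460 (tt N6492 F14061) (tt N8686 (iv F14385)) (tt N10899 (iv F18298)) (tt N8735 (iv F14477)) (tt N6488 (iv D8460)) (tt N8754 (iv F14509)))
theorem Q8462 : ∀ i, i < 8462 → P i := stepQ 8461 Q8461 (allL N8461 (tt N6489 (iv D8461)) (tt N10895 (iv F18293)) (tt N6493 F14062) (tt N10900 D10901) (tt N10674 (iv F17879)) (tt N8764 (iv F14537)))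
theorem Q8463 : ∀ i, i < 8463 → P i := stepQ 8462 Q8462 (allL N8462 (tt N10900 (iv F18299)) (tt N6490 F14063) (tt N10901 D10902) (tt N6489 (iv D8462)) (tt N10902 D10903) (tt N8765 (iv F14539)))
theorem Q8464 : ∀ i, i < 8464 → P i := stepQ 8463 Q8463 (allL N8463 (tt N10890 (iv F18280)) (tt N10903 D10904) (tt N6490 (iv D8463)) (tt N10883 (iv F18266)) (tt N10904 D10905) (tt N10882 F18263))
theorem Q8465 : ∀ i, i < 8465 → P i := stepQ 8464 Q8464 (allL N8464 (tt N10898 (iv F18296)) (tt N10902 (iv F18300)) (tt N10904 (iv F18301)) (tt N10677 (iv F17885)) (tt N6490 (iv D8464)) (tt N10905 D10906))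
theorem Q8466 : ∀ i, i < 8466 → P i := stepQ 8465 Q8465 (allL N8465 (tt N10888 (iv F18276)) (tt N8765 (iv F14538)) (tt N10882 (iv F18262)) (tt N6491 F14064) (tt N10906 D10907) (tt N6490 (iv D8465)))
theorem Q8467 : ∀ i, i < 8467 → P i := stepQ 8466 Q8466 (allL N8466 (tt N10899 (iv F18297)) (tt N8662 (iv F14342)) (tt N6492 F14065) (tt N10907 D10908) (tt N6491 (iv D8466)) (tt N8755 (iv F14512)))
theorem Q8468 : ∀ i, i < 8468 → P i := stepQ 8467 Q8467 (allL N8467 (tt N6494 (iv D8467)) (tt N6653 F14066) (tt N7246 F14067) (tt N8702 (iv F14418)) (tt N6716 F14068) (tt N6495 F14069))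
theorem Q8469 : ∀ i, i < 8469 → P i := stepQ 8468 Q8468 (allL N8468 (tt N6496 (iv D8468)) (tt N6502 F14070) (tt N7108 F14071) (tt N9812 (iv F16403)) (tt N7101 F14072) (tt N9811 F16400))
theorem Q8470 : ∀ i, i < 8470 → P i := stepQ 8469 Q8469 (allL N8469 (tt N6498 (iv D8469)) (tt N7101 F14073) (tt N7194 F14074) (tt N10531 (iv F17630)) (tt N6502 F14075) (tt N7728 (iv F14076)))
theorem Q8471 : ∀ i, i < 8471 → P i := stepQ 8470 Q8470 (allL N8470 (tt N10531 (iv F17628)) (tt N6499 F14077) (tt N6970 (iv F14078)) (tt N6498 (iv D8470)) (tt N10908 D10909) (tt N7118 (iv F14079)))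
theorem Q8472 : ∀ i, i < 8472 → P i := stepQ 8471 Q8471 (allL N8471 (tt N7728 F14080) (tt N6500 F14081) (tt N7190 F14082) (tt N7118 F14083) (tt N10909 D10910) (tt N6498 (iv D8471)))
theorem Q8473 : ∀ i, i < 8473 → P i := stepQ 8472 Q8472 (allL N8472 (tt N7103 F14084) (tt N10908 (iv F18302)) (tt N6969 F14085) (tt N6505 F14086) (tt N6499 (iv D8472)) (tt N10910 D10911))
theorem Q8474 : ∀ i, i < 8474 → P i := stepQ 8473 Q8473 (allL N8473 (tt N7105 F14087) (tt N10909 (iv F18306)) (tt N6501 F14088) (tt N10911 D10912) (tt N6500 (iv D8473)) (tt N6506 F14089))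
theorem Q8475 : ∀ i, i < 8475 → P i := stepQ 8474 Q8474 (allL N8474 (tt N6503 F14090) (tt N9812 (iv F16402)) (tt N10912 D10913) (tt N6502 (iv D8474)) (tt N10913 D10914) (tt N9799 (iv F16375)))
theorem Q8476 : ∀ i, i < 8476 → P i := stepQ 8475 Q8475 (allL N8475 (tt N6504 F14091) (tt N9811 (iv F16398)) (tt N7686 F14092) (tt N9799 (iv F16374)) (tt N10914 D10915) (tt N6502 (iv D8475)))
theorem Q8477 : ∀ i, i < 8477 → P i := stepQ 8476 Q8476 (allL N8476 (tt N10912 (iv F18316)) (tt N9793 (iv F16360)) (tt N6503 (iv D8476)) (tt N10915 D10916) (tt N10916 D10917) (tt N9791 F16359))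
theorem Q8478 : ∀ i, i < 8478 → P i := stepQ 8477 Q8477 (allL N8477 (tt N10913 (iv F18317)) (tt N6505 F14093) (tt N10916 (iv F18322)) (tt N10908 (iv F18304)) (tt N6503 (iv D8477)) (tt N10917 D10918))
theorem Q8479 : ∀ i, i < 8479 → P i := stepQ 8478 Q8478 (allL N8478 (tt N10914 (iv F18318)) (tt N6506 F14094) (tt N7689 F14095) (tt N10918 D10919) (tt N6504 (iv D8478)) (tt N10909 (iv F18308)))
theorem Q8480 : ∀ i, i < 8480 → P i := stepQ 8479 Q8479 (allL N8479 (tt N9810 (iv F16393)) (tt N10917 (iv F18323)) (tt N9798 (iv F16370)) (tt N10910 (iv F18311)) (tt N9797 (iv F16368)) (tt N6505 (iv D8479)))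
theorem Q8481 : ∀ i, i < 8481 → P i := stepQ 8480 Q8480 (allL N8480 (tt N9808 (iv F16388)) (tt N10918 (iv F18324)) (tt N10919 D10920) (tt N6506 (iv D8480)) (tt N9796 (iv F16365)) (tt N10911 (iv F18315)))
theorem Q8482 : ∀ i, i < 8482 → P i := stepQ 8481 Q8481 (allL N8481 (tt N6512 F14096) (tt N10920 D10921) (tt N6507 (iv D8481)) (tt N7343 F14098) (tt N7593 F14097) (tt N7342 (iv F14099)))
theorem Q8483 : ∀ i, i < 8483 → P i := stepQ 8482 Q8482 (allL N8482 (tt N6513 F14100) (tt N10868 (iv F18236)) (tt N7342 F14101) (tt N6508 F14102) (tt N10921 D10922) (tt N6507 (iv D8482)))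
theorem Q8484 : ∀ i, i < 8484 → P i := stepQ 8483 Q8483 (allL N8483 (tt N8578 (iv F14217)) (tt N6509 (iv D8483)) (tt N7151 F14103) (tt N10922 D10923) (tt N10829 (iv F18169)) (tt N7335 F14104))
theorem Q8485 : ∀ i, i < 8485 → P i := stepQ 8484 Q8484 (allL N8484 (tt N6514 F14105) (tt N10922 (iv F18331)) (tt N6514 F14106) (tt N6509 (iv D8484)) (tt N10923 D10924) (tt N7336 F14107))
theorem Q8486 : ∀ i, i < 8486 → P i := stepQ 8485 Q8485 (allL N8485 (tt N7593 F14108) (tt N10924 D10925) (tt N6510 (iv D8485)) (tt N10925 D10926) (tt N6512 F14109) (tt N10926 D10927))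
theorem Q8487 : ∀ i, i < 8487 → P i := stepQ 8486 Q8486 (allL N8486 (tt N7594 F14110) (tt N10701 (iv F17930)) (tt N10926 (iv F18340)) (tt N6511 F14111) (tt N10927 D10928) (tt N6510 (iv D8486)))
theorem Q8488 : ∀ i, i < 8488 → P i := stepQ 8487 Q8487 (allL N8487 (tt N10928 D10929) (tt N6512 (iv D8487)) (tt N10824 (iv F18160)) (tt N10929 D10930) (tt N10924 (iv F18335)) (tt N10930 D10931))
theorem Q8489 : ∀ i, i < 8489 → P i := stepQ 8488 Q8488 (allL N8488 (tt N7343 F14112) (tt N10929 (iv F18344)) (tt N7334 F14113) (tt N6512 (iv D8488)) (tt N10931 D10932) (tt N7333 F14114))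
theorem Q8490 : ∀ i, i < 8490 → P i := stepQ 8489 Q8489 (allL N8489 (tt N7342 F14115) (tt N10930 (iv F18346)) (tt N6513 F14116) (tt N7333 F14117) (tt N10932 D10933) (tt N6512 (iv D8489)))
theorem Q8491 : ∀ i, i < 8491 → P i := stepQ 8490 Q8490 (allL N8490 (tt N10921 (iv F18328)) (tt N10802 (iv F18103)) (tt N10932 (iv F18351)) (tt N10805 (iv F18110)) (tt N6513 (iv D8490)) (tt N10927 (iv F18343)))
theorem Q8492 : ∀ i, i < 8492 → P i := stepQ 8491 Q8491 (allL N8491 (tt N10923 (iv F18333)) (tt N8581 (iv F14219)) (tt N10923 (iv F18334)) (tt N10832 (iv F18175)) (tt N6514 (iv D8491)) (tt N10933 D10934))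
theorem Q8493 : ∀ i, i < 8493 → P i := stepQ 8492 Q8492 (allL N8492 (tt N7207 F14118) (tt N10934 D10935) (tt N6515 (iv D8492)) (tt N10935 D10936) (tt N7203 F14119) (tt N10936 D10937))
theorem Q8494 : ∀ i, i < 8494 → P i := stepQ 8493 Q8493 (allL N8493 (tt N7208 F14120) (tt N6518 F14121) (tt N10936 (iv F18359)) (tt N6516 F14122) (tt N10937 D10938) (tt N6515 (iv D8493)))
theorem Q8495 : ∀ i, i < 8495 → P i := stepQ 8494 Q8494 (allL N8494 (tt N10938 D10939) (tt N6517 (iv D8494)) (tt N10934 (iv F18353)) (tt N6566 F14123) (tt N9737 (iv F16258)) (tt N6565 F14124))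
theorem Q8496 : ∀ i, i < 8496 → P i := stepQ 8495 Q8495 (allL N8495 (tt N6536 F14125) (tt N10937 (iv F18361)) (tt N6567 F14126) (tt N10939 D10940) (tt N6518 (iv D8495)) (tt N9740 (iv F16267)))
theorem Q8497 : ∀ i, i < 8497 → P i := stepQ 8496 Q8496 (allL N8496 (tt N6537 F14127) (tt N9927 (iv F16568)) (tt N10940 D10941) (tt N6519 (iv D8496)) (tt N10939 (iv F18367)) (tt N6520 F14128))
theorem Q8498 : ∀ i, i < 8498 → P i := stepQ 8497 Q8497 (allL N8497 (tt N6538 F14129) (tt N10941 D10942) (tt N6520 (iv D8497)) (tt N10663 (iv F17856)) (tt N9431 (iv F15744)) (tt N10940 (iv F18370)))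
theorem Q8499 : ∀ i, i < 8499 → P i := stepQ 8498 Q8498 (allL N8498 (tt N10761 (iv F18036)) (tt N6521 (iv D8498)) (tt N10784 (iv F18078)) (tt N10942 D10943) (tt N6522 F14130) (tt N10651 (iv F17830)))
theorem Q8500 : ∀ i, i < 8500 → P i := stepQ 8499 Q8499 (allL N8499 (tt N6539 F14131) (tt N10942 (iv F18371)) (tt N10943 D10944) (tt N6521 (iv D8499)) (tt N9678 (iv F16156)) (tt N10653 (iv F17834)))
theorem Q8501 : ∀ i, i < 8501 → P i := stepQ 8500 Q8500 (allL N8500 (tt N6522 (iv D8500)) (tt N6540 F14132) (tt N9601 (iv F16056)) (tt N9676 (iv F16152)) (tt N10761 (iv F18038)) (tt N6553 F14133))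
theorem Q8502 : ∀ i, i < 8502 → P i := stepQ 8501 Q8501 (allL N8501 (tt N6527 F14134) (tt N10944 D10945) (tt N6523 (iv D8501)) (tt N10837 (iv F18189)) (tt N7088 F14135) (tt N10945 D10946))
theorem Q8503 : ∀ i, i < 8503 → P i := stepQ 8502 Q8502 (allL N8502 (tt N6528 F14136) (tt N7208 F14137) (tt N10945 (iv F18378)) (tt N6524 F14138) (tt N10946 D10947) (tt N6523 (iv D8502)))
theorem Q8504 : ∀ i, i < 8504 → P i := stepQ 8503 Q8503 (allL N8503 (tt N7088 F14139) (tt N10947 D10948) (tt N6525 (iv D8503)) (tt N10948 D10949) (tt N6527 F14140) (tt N10949 D10950))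
theorem Q8505 : ∀ i, i < 8505 → P i := stepQ 8504 Q8504 (allL N8504 (tt N7087 F14141) (tt N6530 F14142) (tt N10949 (iv F18390)) (tt N6526 F14143) (tt N10950 D10951) (tt N6525 (iv D8504)))
theorem Q8506 : ∀ i, i < 8506 → P i := stepQ 8505 Q8505 (allL N8505 (tt N10951 D10952) (tt N6527 (iv D8505)) (tt N6533 F14144) (tt N10952 D10953) (tt N10947 (iv F18385)) (tt N10953 D10954))
theorem Q8507 : ∀ i, i < 8507 → P i := stepQ 8506 Q8506 (allL N8506 (tt N10837 (iv F18187)) (tt N10952 (iv F18397)) (tt N10836 (iv F18186)) (tt N6527 (iv D8506)) (tt N10954 D10955) (tt N10955 D10956))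
theorem Q8508 : ∀ i, i < 8508 → P i := stepQ 8507 Q8507 (allL N8507 (tt N10945 (iv F18377)) (tt N10953 (iv F18398)) (tt N6528 F14145) (tt N10955 (iv F18402)) (tt N10956 D10957) (tt N6527 (iv D8507)))
theorem Q8509 : ∀ i, i < 8509 → P i := stepQ 8508 Q8508 (allL N8508 (tt N10946 (iv F18380)) (tt N6536 F14146) (tt N10956 (iv F18404)) (tt N7256 F14147) (tt N6528 (iv D8508)) (tt N10950 (iv F18395)))
theorem Q8510 : ∀ i, i < 8510 → P i := stepQ 8509 Q8509 (allL N8509 (tt N10957 D10958) (tt N6529 (iv D8509)) (tt N10947 (iv F18384)) (tt N10958 D10959) (tt N6533 F14148) (tt N10959 D10960))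
theorem Q8511 : ∀ i, i < 8511 → P i := stepQ 8510 Q8510 (allL N8510 (tt N9738 (iv F16259)) (tt N10958 (iv F18406)) (tt N9746 (iv F16276)) (tt N6529 (iv D8510)) (tt N10960 D10961) (tt N9744 F16274))
theorem Q8512 : ∀ i, i < 8512 → P i := stepQ 8511 Q8511 (allL N8511 (tt N9739 (iv F16261)) (tt N10959 (iv F18407)) (tt N6530 F14149) (tt N9744 (iv F16273)) (tt N10961 D10962) (tt N6529 (iv D8511)))
theorem Q8513 : ∀ i, i < 8513 → P i := stepQ 8512 Q8512 (allL N8512 (tt N9740 (iv F16264)) (tt N10950 (iv F18393)) (tt N10961 (iv F18411)) (tt N10962 D10963) (tt N6530 (iv D8512)) (tt N6536 F14150))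
theorem Q8514 : ∀ i, i < 8514 → P i := stepQ 8513 Q8513 (allL N8513 (tt N9432 (iv F15745)) (tt N7073 F14151) (tt N10963 D10964) (tt N6531 (iv D8513)) (tt N10962 (iv F18414)) (tt N6532 F14152))
theorem Q8515 : ∀ i, i < 8515 → P i := stepQ 8514 Q8514 (allL N8514 (tt N9431 (iv F15743)) (tt N10964 D10965) (tt N6532 (iv D8514)) (tt N10965 D10966) (tt N6538 F14153) (tt N10963 (iv F18416)))
theorem Q8516 : ∀ i, i < 8516 → P i := stepQ 8515 Q8515 (allL N8515 (tt N6533 (iv D8515)) (tt N10938 (iv F18363)) (tt N10951 (iv F18396)) (tt N10966 D10967) (tt N10957 (iv F18405)) (tt N10967 D10968))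
theorem Q8517 : ∀ i, i < 8517 → P i := stepQ 8516 Q8516 (allL N8516 (tt N10966 (iv F18419)) (tt N6534 F14154) (tt N10968 D10969) (tt N6533 (iv D8516)) (tt N10969 D10970) (tt N6551 (iv F14155)))
theorem Q8518 : ∀ i, i < 8518 → P i := stepQ 8517 Q8517 (allL N8517 (tt N10967 (iv F18422)) (tt N6535 F14156) (tt N10953 (iv F18399)) (tt N6551 F14157) (tt N10970 D10971) (tt N6533 (iv D8517)))
theorem Q8519 : ∀ i, i < 8519 → P i := stepQ 8518 Q8518 (allL N8518 (tt N6568 F14158) (tt N10969 (iv F18427)) (tt N6552 F14159) (tt N10960 (iv F18409)) (tt N6534 (iv D8518)) (tt N10971 D10972))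
theorem Q8520 : ∀ i, i < 8520 → P i := stepQ 8519 Q8519 (allL N8519 (tt N6567 F14160) (tt N10970 (iv F18428)) (tt N6536 F14161) (tt N10972 D10973) (tt N6535 (iv D8519)) (tt N10961 (iv F18412)))
theorem Q8521 : ∀ i, i < 8521 → P i := stepQ 8520 Q8520 (allL N8520 (tt N10939 (iv F18366)) (tt N7256 F14162) (tt N10973 D10974) (tt N6536 (iv D8520)) (tt N6537 F14163) (tt N10962 (iv F18415)))
theorem Q8522 : ∀ i, i < 8522 → P i := stepQ 8521 Q8521 (allL N8521 (tt N10940 (iv F18368)) (tt N10974 D10975) (tt N6537 (iv D8521)) (tt N10943 (iv F18373)) (tt N10973 (iv F18434)) (tt N6538 F14164))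
theorem Q8523 : ∀ i, i < 8523 → P i := stepQ 8522 Q8522 (allL N8522 (tt N10975 D10976) (tt N6538 (iv D8522)) (tt N7253 F14165) (tt N10976 D10977) (tt N10964 (iv F18418)) (tt N10974 (iv F18436)))
theorem Q8524 : ∀ i, i < 8524 → P i := stepQ 8523 Q8523 (allL N8523 (tt N10663 (iv F17854)) (tt N10976 (iv F18438)) (tt N10653 (iv F17835)) (tt N6538 (iv D8523)) (tt N10977 D10978) (tt N10943 (iv F18374)))
theorem Q8525 : ∀ i, i < 8525 → P i := stepQ 8524 Q8524 (allL N8524 (tt N10943 (iv F18372)) (tt N10978 D10979) (tt N6539 (iv D8524)) (tt N10940 (iv F18369)) (tt N10979 D10980) (tt N10663 (iv F17855)))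
theorem Q8526 : ∀ i, i < 8526 → P i := stepQ 8525 Q8525 (allL N8525 (tt N9678 (iv F16155)) (tt N10776 (iv F18063)) (tt N10979 (iv F18439)) (tt N6542 F14166) (tt N6539 (iv D8525)) (tt N10980 D10981))
theorem Q8527 : ∀ i, i < 8527 → P i := stepQ 8526 Q8526 (allL N8526 (tt N6541 F14167) (tt N9676 (iv F16151)) (tt N10981 D10982) (tt N6540 (iv D8526)) (tt N10982 D10983) (tt N6569 F14168))
theorem Q8528 : ∀ i, i < 8528 → P i := stepQ 8527 Q8527 (allL N8527 (tt N10981 (iv F18441)) (tt N9673 (iv F16145)) (tt N6541 (iv D8527)) (tt N10983 D10984) (tt N10984 D10985) (tt N6570 F14169))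
theorem Q8529 : ∀ i, i < 8529 → P i := stepQ 8528 Q8528 (allL N8528 (tt N10982 (iv F18444)) (tt N6542 F14170) (tt N10984 (iv F18448)) (tt N10776 (iv F18064)) (tt N6541 (iv D8528)) (tt N10985 D10986))
theorem Q8530 : ∀ i, i < 8530 → P i := stepQ 8529 Q8529 (allL N8529 (tt N9679 (iv F16157)) (tt N10985 (iv F18449)) (tt N9675 (iv F16149)) (tt N10980 (iv F18440)) (tt N6574 F14171) (tt N6542 (iv D8529)))
theorem Q8531 : ∀ i, i < 8531 → P i := stepQ 8530 Q8530 (allL N8530 (tt N10806 (iv F18111)) (tt N6543 (iv D8530)) (tt N10829 (iv F18168)) (tt N10986 D10987) (tt N7151 F14172) (tt N10833 (iv F18179)))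
theorem Q8532 : ∀ i, i < 8532 → P i := stepQ 8531 Q8531 (allL N8531 (tt N6544 F14173) (tt N10986 (iv F18452)) (tt N10955 (iv F18401)) (tt N6543 (iv D8531)) (tt N7447 F14174) (tt N10836 (iv F18185)))
theorem Q8533 : ∀ i, i < 8533 → P i := stepQ 8532 Q8532 (allL N8532 (tt N10955 (iv F18400)) (tt N10987 D10988) (tt N6544 (iv D8532)) (tt N10945 (iv F18379)) (tt N10988 D10989) (tt N10837 (iv F18188)))
theorem Q8534 : ∀ i, i < 8534 → P i := stepQ 8533 Q8533 (allL N8533 (tt N7447 F14175) (tt N10807 (iv F18117)) (tt N10988 (iv F18456)) (tt N7154 F14176) (tt N6544 (iv D8533)) (tt N10989 D10990))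
theorem Q8535 : ∀ i, i < 8535 → P i := stepQ 8534 Q8534 (allL N8534 (tt N6945 F14177) (tt N10990 D10991) (tt N6545 (iv D8534)) (tt N10991 D10992) (tt N6547 F14178) (tt N10992 D10993))
theorem Q8536 : ∀ i, i < 8536 → P i := stepQ 8535 Q8535 (allL N8535 (tt N6946 F14179) (tt N6550 F14180) (tt N10992 (iv F18463)) (tt N6546 F14181) (tt N10993 D10994) (tt N6545 (iv D8535)))
theorem Q8537 : ∀ i, i < 8537 → P i := stepQ 8536 Q8536 (allL N8536 (tt N10994 D10995) (tt N6547 (iv D8536)) (tt N6551 F14182) (tt N10995 D10996) (tt N10990 (iv F18460)) (tt N10968 (iv F18426)))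
theorem Q8538 : ∀ i, i < 8538 → P i := stepQ 8537 Q8537 (allL N8537 (tt N10616 (iv F17756)) (tt N10995 (iv F18468)) (tt N8866 (iv F14718)) (tt N6547 (iv D8537)) (tt N10996 D10997) (tt N10676 (iv F17883)))
theorem Q8539 : ∀ i, i < 8539 → P i := stepQ 8538 Q8538 (allL N8538 (tt N8851 (iv F14697)) (tt N10968 (iv F18425)) (tt N6548 F14183) (tt N10676 (iv F17884)) (tt N10997 D10998) (tt N6547 (iv D8538)))
theorem Q8540 : ∀ i, i < 8540 → P i := stepQ 8539 Q8539 (allL N8539 (tt N8850 (iv F14694)) (tt N6552 F14184) (tt N10997 (iv F18469)) (tt N8843 (iv F14684)) (tt N6548 (iv D8539)) (tt N10993 (iv F18466)))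
theorem Q8541 : ∀ i, i < 8541 → P i := stepQ 8540 Q8540 (allL N8540 (tt N10998 D10999) (tt N6549 (iv D8540)) (tt N10990 (iv F18459)) (tt N10999 D11000) (tt N6551 F14185) (tt N11000 D11001))
theorem Q8542 : ∀ i, i < 8542 → P i := stepQ 8541 Q8541 (allL N8541 (tt N6561 F14186) (tt N10999 (iv F18472)) (tt N11001 D11002) (tt N6549 (iv D8541)) (tt N10972 (iv F18433)) (tt N11002 D11003))
theorem Q8543 : ∀ i, i < 8543 → P i := stepQ 8542 Q8542 (allL N8542 (tt N6562 F14187) (tt N11000 (iv F18473)) (tt N6550 F14188) (tt N11002 (iv F18479)) (tt N10971 (iv F18431)) (tt N6549 (iv D8542)))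
theorem Q8544 : ∀ i, i < 8544 → P i := stepQ 8543 Q8543 (allL N8543 (tt N6563 F14189) (tt N10993 (iv F18465)) (tt N10971 (iv F18430)) (tt N9694 (iv F16181)) (tt N6550 (iv D8543)) (tt N6552 F14190))
theorem Q8545 : ∀ i, i < 8545 → P i := stepQ 8544 Q8544 (allL N8544 (tt N6551 (iv D8544)) (tt N6564 F14191) (tt N10994 (iv F18467)) (tt N10967 (iv F18424)) (tt N10998 (iv F18471)) (tt N10966 F18421))
theorem Q8546 : ∀ i, i < 8546 → P i := stepQ 8545 Q8545 (allL N8545 (tt N6554 F14192) (tt N6569 F14193) (tt N11003 D11004) (tt N6553 (iv D8545)) (tt N11004 D11005) (tt N9676 (iv F16153)))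
theorem Q8547 : ∀ i, i < 8547 → P i := stepQ 8546 Q8546 (allL N8546 (tt N11003 (iv F18480)) (tt N9295 (iv F15521)) (tt N6554 (iv D8546)) (tt N9655 (iv F16119)) (tt N11005 D11006) (tt N9670 (iv F16142)))
theorem Q8548 : ∀ i, i < 8548 → P i := stepQ 8547 Q8547 (allL N8547 (tt N11004 (iv F18481)) (tt N6555 F14194) (tt N11005 (iv F18483)) (tt N10650 (iv F17826)) (tt N6554 (iv D8547)) (tt N11006 D11007))
theorem Q8549 : ∀ i, i < 8549 → P i := stepQ 8548 Q8548 (allL N8548 (tt N6574 F14195) (tt N11006 (iv F18484)) (tt N9424 (iv F15725)) (tt N10652 (iv F17832)) (tt N9679 (iv F16159)) (tt N6555 (iv D8548)))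
theorem Q8550 : ∀ i, i < 8550 → P i := stepQ 8549 Q8549 (allL N8549 (tt N9457 (iv F15789)) (tt N11007 D11008) (tt N6556 (iv D8549)) (tt N11008 D11009) (tt N9455 (iv F15785)) (tt N11009 D11010))
theorem Q8551 : ∀ i, i < 8551 → P i := stepQ 8550 Q8550 (allL N8550 (tt N9458 (iv F15792)) (tt N6559 F14196) (tt N11009 (iv F18486)) (tt N6557 F14197) (tt N11010 D11011) (tt N6556 (iv D8550)))
theorem Q8552 : ∀ i, i < 8552 → P i := stepQ 8551 Q8551 (allL N8551 (tt N11011 D11012) (tt N6558 (iv D8551)) (tt N11007 (iv F18485)) (tt N11012 D11013) (tt N9464 (iv F15808)) (tt N11013 D11014))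
theorem Q8553 : ∀ i, i < 8553 → P i := stepQ 8552 Q8552 (allL N8552 (tt N9469 (iv F15820)) (tt N11012 (iv F18488)) (tt N11002 (iv F18478)) (tt N6558 (iv D8552)) (tt N11014 D11015) (tt N11001 F18476))
theorem Q8554 : ∀ i, i < 8554 → P i := stepQ 8553 Q8553 (allL N8553 (tt N9470 (iv F15823)) (tt N11013 (iv F18489)) (tt N6559 F14198) (tt N11001 (iv F18475)) (tt N11015 D11016) (tt N6558 (iv D8553)))
theorem Q8555 : ∀ i, i < 8555 → P i := stepQ 8554 Q8554 (allL N8554 (tt N9471 (iv F15826)) (tt N11010 (iv F18487)) (tt N11015 (iv F18490)) (tt N9689 (iv F16173)) (tt N6559 (iv D8554)) (tt N9467 (iv F15817)))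
theorem Q8556 : ∀ i, i < 8556 → P i := stepQ 8555 Q8555 (allL N8555 (tt N6560 (iv D8555)) (tt N10998 (iv F18470)) (tt N10638 (iv F17808)) (tt N11016 D11017) (tt N6564 F14199) (tt N11017 D11018))
theorem Q8557 : ∀ i, i < 8557 → P i := stepQ 8556 Q8556 (allL N8556 (tt N11016 (iv F18491)) (tt N6561 F14200) (tt N11018 D11019) (tt N6560 (iv D8556)) (tt N11019 D11020) (tt N11020 D11021))
theorem Q8558 : ∀ i, i < 8558 → P i := stepQ 8557 Q8557 (allL N8557 (tt N11017 (iv F18492)) (tt N6562 F14201) (tt N10637 (iv F17803)) (tt N11020 (iv F18496)) (tt N11021 D11022) (tt N6560 (iv D8557)))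
theorem Q8559 : ∀ i, i < 8559 → P i := stepQ 8558 Q8558 (allL N8558 (tt N11001 (iv F18474)) (tt N11022 D11023) (tt N6561 (iv D8558)) (tt N9470 (iv F15825)) (tt N11023 D11024) (tt N9469 F15822))
theorem Q8560 : ∀ i, i < 8560 → P i := stepQ 8559 Q8559 (allL N8559 (tt N10972 (iv F18432)) (tt N11019 (iv F18493)) (tt N11023 (iv F18500)) (tt N6567 F14202) (tt N6561 (iv D8559)) (tt N11024 D11025))
theorem Q8561 : ∀ i, i < 8561 → P i := stepQ 8560 Q8560 (allL N8560 (tt N11002 (iv F18477)) (tt N11020 (iv F18495)) (tt N9469 (iv F15821)) (tt N6562 F14203) (tt N11025 D11026) (tt N6561 (iv D8560)))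
theorem Q8562 : ∀ i, i < 8562 → P i := stepQ 8561 Q8561 (allL N8561 (tt N10971 (iv F18429)) (tt N11021 (iv F18497)) (tt N6563 F14204) (tt N11026 D11027) (tt N6562 (iv D8561)) (tt N6568 F14205))
theorem Q8563 : ∀ i, i < 8563 → P i := stepQ 8562 Q8562 (allL N8562 (tt N6565 F14206) (tt N10967 (iv F18423)) (tt N11027 D11028) (tt N6564 (iv D8562)) (tt N11028 D11029) (tt N10938 (iv F18365)))
theorem Q8564 : ∀ i, i < 8564 → P i := stepQ 8563 Q8563 (allL N8563 (tt N6566 F14207) (tt N10966 (iv F18420)) (tt N10630 (iv F17788)) (tt N10938 (iv F18364)) (tt N11029 D11030) (tt N6564 (iv D8563)))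
theorem Q8565 : ∀ i, i < 8565 → P i := stepQ 8564 Q8564 (allL N8564 (tt N11027 (iv F18503)) (tt N10936 (iv F18358)) (tt N6565 (iv D8564)) (tt N11030 D11031) (tt N11031 D11032) (tt N10934 F18355))
theorem Q8566 : ∀ i, i < 8566 → P i := stepQ 8565 Q8565 (allL N8565 (tt N11028 (iv F18504)) (tt N6567 F14208) (tt N11031 (iv F18506)) (tt N11019 (iv F18494)) (tt N6565 (iv D8565)) (tt N11032 D11033))
theorem Q8567 : ∀ i, i < 8567 → P i := stepQ 8566 Q8566 (allL N8566 (tt N11029 (iv F18505)) (tt N6568 F14209) (tt N10629 (iv F17784)) (tt N11033 D11034) (tt N6566 (iv D8566)) (tt N11021 (iv F18499)))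
theorem Q8568 : ∀ i, i < 8568 → P i := stepQ 8567 Q8567 (allL N8567 (tt N10961 (iv F18410)) (tt N11032 (iv F18507)) (tt N9740 (iv F16266)) (tt N11024 (iv F18501)) (tt N9739 (iv F16263)) (tt N6567 (iv D8567)))
theorem Q8569 : ∀ i, i < 8569 → P i := stepQ 8568 Q8568 (allL N8568 (tt N10960 (iv F18408)) (tt N11033 (iv F18508)) (tt N11034 D11035) (tt N6568 (iv D8568)) (tt N9738 (iv F16260)) (tt N11026 (iv F18502)))
theorem Q8570 : ∀ i, i < 8570 → P i := stepQ 8569 Q8569 (allL N8569 (tt N6570 F14210) (tt N11035 D11036) (tt N6569 (iv D8569)) (tt N9532 (iv F15931)) (tt N11036 D11037) (tt N10981 (iv F18443)))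
theorem Q8571 : ∀ i, i < 8571 → P i := stepQ 8570 Q8570 (allL N8570 (tt N6571 F14211) (tt N11004 (iv F18482)) (tt N11036 (iv F18510)) (tt N10654 (iv F17838)) (tt N6569 (iv D8570)) (tt N11037 D11038))
theorem Q8572 : ∀ i, i < 8572 → P i := stepQ 8571 Q8571 (allL N8571 (tt N11038 D11039) (tt N6570 (iv D8571)) (tt N6572 F14212) (tt N11039 D11040) (tt N11040 D11041) (tt N9673 (iv F16146)))
theorem Q8573 : ∀ i, i < 8573 → P i := stepQ 8572 Q8572 (allL N8572 (tt N9532 (iv F15929)) (tt N11039 (iv F18513)) (tt N9531 (iv F15928)) (tt N6570 (iv D8572)) (tt N11041 D11042) (tt N10983 (iv F18447)))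
theorem Q8574 : ∀ i, i < 8574 → P i := stepQ 8573 Q8573 (allL N8573 (tt N11036 (iv F18509)) (tt N11040 (iv F18514)) (tt N6571 F14213) (tt N11042 D11043) (tt N6570 (iv D8573)) (tt N11043 D11044))
theorem Q8575 : ∀ i, i < 8575 → P i := stepQ 8574 Q8574 (allL N8574 (tt N11037 (iv F18511)) (tt N6574 F14214) (tt N11043 (iv F18516)) (tt N10657 (iv F17846)) (tt N10985 (iv F18450)) (tt N6571 (iv D8574)))
theorem Q8576 : ∀ i, i < 8576 → P i := stepQ 8575 Q8575 (allL N8575 (tt N6572 (iv D8575)) (tt N9294 (iv F15516)) (tt N11038 (iv F18512)) (tt N9293 F15514) (tt N9486 (iv F15851)) (tt N9668 (iv F16139)))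
theorem Q8577 : ∀ i, i < 8577 → P i := stepQ 8576 Q8576 (allL N8576 (tt N9486 (iv F15849)) (tt N6573 F14215) (tt N11040 (iv F18515)) (tt N9485 F15848) (tt N6572 (iv D8576)) (tt N11044 D11045))
theorem Q8578 : ∀ i, i < 8578 → P i := stepQ 8577 Q8577 (allL N8577 (tt N9424 (iv F15724)) (tt N11044 (iv F18517)) (tt N6574 F14216) (tt N9766 (iv F16316)) (tt N9675 (iv F16150)) (tt N6573 (iv D8577)))
theorem Q8579 : ∀ i, i < 8579 → P i := stepQ 8578 Q8578 (allL N8578 (tt N8483 F14217) (tt N6575 (iv D8578)) (tt N9308 (iv F15550)) (tt N11045 D11046) (tt N10766 (iv F18048)) (tt N9517 (iv F15908)))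
theorem Q8580 : ∀ i, i < 8580 → P i := stepQ 8579 Q8579 (allL N8579 (tt N6576 F14218) (tt N11045 (iv F18519)) (tt N10983 (iv F18446)) (tt N6575 (iv D8579)) (tt N11046 D11047) (tt N9531 (iv F15927)))
theorem Q8581 : ∀ i, i < 8581 → P i := stepQ 8580 Q8580 (allL N8580 (tt N10983 (iv F18445)) (tt N11047 D11048) (tt N6576 (iv D8580)) (tt N10981 (iv F18442)) (tt N11048 D11049) (tt N9532 (iv F15930)))
theorem Q8582 : ∀ i, i < 8582 → P i := stepQ 8581 Q8581 (allL N8581 (tt N11046 (iv F18520)) (tt N8491 F14219) (tt N11048 (iv F18522)) (tt N10778 (iv F18068)) (tt N6576 (iv D8581)) (tt N11049 D11050))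
theorem Q8583 : ∀ i, i < 8583 → P i := stepQ 8582 Q8582 (allL N8582 (tt N6577 (iv D8582)) (tt N6581 F14220) (tt N7745 F14221) (tt N11050 D11051) (tt N9502 (iv F15879)) (tt N11051 D11052))
theorem Q8584 : ∀ i, i < 8584 → P i := stepQ 8583 Q8583 (allL N8583 (tt N11050 (iv F18524)) (tt N6578 F14222) (tt N11052 D11053) (tt N6577 (iv D8583)) (tt N11053 D11054) (tt N6605 (iv F14223)))
theorem Q8585 : ∀ i, i < 8585 → P i := stepQ 8584 Q8584 (allL N8584 (tt N11051 (iv F18527)) (tt N6579 F14224) (tt N7747 F14225) (tt N6605 F14226) (tt N11054 D11055) (tt N6577 (iv D8584)))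
theorem Q8586 : ∀ i, i < 8586 → P i := stepQ 8585 Q8585 (allL N8585 (tt N6585 F14227) (tt N11053 (iv F18533)) (tt N6608 F14228) (tt N9504 (iv F15882)) (tt N6578 (iv D8585)) (tt N11055 D11056))
theorem Q8587 : ∀ i, i < 8587 → P i := stepQ 8586 Q8586 (allL N8586 (tt N6587 F14229) (tt N11054 (iv F18534)) (tt N6580 F14230) (tt N11056 D11057) (tt N6579 (iv D8586)) (tt N9252 (iv F15418)))
theorem Q8588 : ∀ i, i < 8588 → P i := stepQ 8587 Q8587 (allL N8587 (tt N6582 F14231) (tt N11050 (iv F18525)) (tt N11057 D11058) (tt N6581 (iv D8587)) (tt N11058 D11059) (tt N11059 D11060))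
theorem Q8589 : ∀ i, i < 8589 → P i := stepQ 8588 Q8588 (allL N8588 (tt N6583 F14232) (tt N11051 (iv F18528)) (tt N6589 F14233) (tt N11059 (iv F18545)) (tt N11060 D11061) (tt N6581 (iv D8588)))
theorem Q8590 : ∀ i, i < 8590 → P i := stepQ 8589 Q8589 (allL N8589 (tt N11057 (iv F18541)) (tt N11061 D11062) (tt N6582 (iv D8589)) (tt N11062 D11063) (tt N11063 D11064) (tt N11064 D11065))
theorem Q8591 : ∀ i, i < 8591 → P i := stepQ 8590 Q8590 (allL N8590 (tt N11058 (iv F18542)) (tt N6585 F14234) (tt N11063 (iv F18550)) (tt N9770 (iv F16320)) (tt N6582 (iv D8590)) (tt N11065 D11066))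
theorem Q8592 : ∀ i, i < 8592 → P i := stepQ 8591 Q8591 (allL N8591 (tt N11059 (iv F18543)) (tt N6586 F14235) (tt N11064 (iv F18552)) (tt N6583 F14236) (tt N11066 D11067) (tt N6582 (iv D8591)))
theorem Q8593 : ∀ i, i < 8593 → P i := stepQ 8592 Q8592 (allL N8592 (tt N11060 (iv F18546)) (tt N6587 F14237) (tt N6592 F14238) (tt N11067 D11068) (tt N6583 (iv D8592)) (tt N9765 (iv F16314)))
theorem Q8594 : ∀ i, i < 8594 → P i := stepQ 8593 Q8593 (allL N8593 (tt N11068 D11069) (tt N6584 (iv D8593)) (tt N11061 (iv F18548)) (tt N6597 F14239) (tt N11069 D11070) (tt N6596 F14240))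
theorem Q8595 : ∀ i, i < 8595 → P i := stepQ 8594 Q8594 (allL N8594 (tt N6608 F14241) (tt N11069 (iv F18559)) (tt N6585 F14242) (tt N11070 D11071) (tt N6584 (iv D8594)) (tt N11071 D11072))
theorem Q8596 : ∀ i, i < 8596 → P i := stepQ 8595 Q8595 (allL N8595 (tt N11055 (iv F18536)) (tt N11065 (iv F18553)) (tt N11071 (iv F18564)) (tt N9771 (iv F16321)) (tt N11072 D11073) (tt N6585 (iv D8595)))
theorem Q8597 : ∀ i, i < 8597 → P i := stepQ 8596 Q8596 (allL N8596 (tt N6606 F14243) (tt N11066 (iv F18554)) (tt N6598 F14244) (tt N11073 D11074) (tt N6586 (iv D8596)) (tt N11072 (iv F18568)))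
theorem Q8598 : ∀ i, i < 8598 → P i := stepQ 8597 Q8597 (allL N8597 (tt N11056 (iv F18539)) (tt N11067 (iv F18555)) (tt N11074 D11075) (tt N6587 (iv D8597)) (tt N11073 (iv F18570)) (tt N9772 (iv F16322)))
theorem Q8599 : ∀ i, i < 8599 → P i := stepQ 8598 Q8598 (allL N8598 (tt N6590 F14245) (tt N11075 D11076) (tt N6588 (iv D8598)) (tt N11076 D11077) (tt N11077 D11078) (tt N9818 (iv F16413)))
theorem Q8600 : ∀ i, i < 8600 → P i := stepQ 8599 Q8599 (allL N8599 (tt N6591 F14246) (tt N9781 (iv F16339)) (tt N11077 (iv F18573)) (tt N9764 (iv F16311)) (tt N6588 (iv D8599)) (tt N11078 D11079))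
theorem Q8601 : ∀ i, i < 8601 → P i := stepQ 8600 Q8600 (allL N8600 (tt N6592 F14247) (tt N9782 (iv F16342)) (tt N11060 (iv F18547)) (tt N11079 D11080) (tt N6589 (iv D8600)) (tt N9763 (iv F16308)))
theorem Q8602 : ∀ i, i < 8602 → P i := stepQ 8601 Q8601 (allL N8601 (tt N11076 (iv F18571)) (tt N9822 (iv F16416)) (tt N11080 D11081) (tt N6590 (iv D8601)) (tt N11081 D11082) (tt N9819 (iv F16415)))
theorem Q8603 : ∀ i, i < 8603 → P i := stepQ 8602 Q8602 (allL N8602 (tt N11077 (iv F18572)) (tt N9823 (iv F16418)) (tt N6591 F14248) (tt N11082 D11083) (tt N6590 (iv D8602)) (tt N11083 D11084))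
theorem Q8604 : ∀ i, i < 8604 → P i := stepQ 8603 Q8603 (allL N8603 (tt N11078 (iv F18574)) (tt N6593 F14249) (tt N11083 (iv F18579)) (tt N9761 (iv F16302)) (tt N8456 F14250) (tt N6591 (iv D8603)))
theorem Q8605 : ∀ i, i < 8605 → P i := stepQ 8604 Q8604 (allL N8604 (tt N11079 (iv F18576)) (tt N6594 F14251) (tt N11084 D11085) (tt N6592 (iv D8604)) (tt N8455 F14252) (tt N9760 (iv F16300)))
theorem Q8606 : ∀ i, i < 8606 → P i := stepQ 8605 Q8605 (allL N8605 (tt N6596 F14253) (tt N6600 F14254) (tt N11085 D11086) (tt N6595 (iv D8605)) (tt N8916 (iv F14803)) (tt N11068 (iv F18558)))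
theorem Q8607 : ∀ i, i < 8607 → P i := stepQ 8606 Q8606 (allL N8606 (tt N6597 F14255) (tt N6601 F14256) (tt N7680 F14257) (tt N11068 (iv F18557)) (tt N8419 F14258) (tt N6595 (iv D8606)))
theorem Q8608 : ∀ i, i < 8608 → P i := stepQ 8607 Q8607 (allL N8607 (tt N11085 (iv F18582)) (tt N11064 (iv F18551)) (tt N6596 (iv D8607)) (tt N11086 D11087) (tt N11087 D11088) (tt N11061 F18549))
theorem Q8609 : ∀ i, i < 8609 → P i := stepQ 8608 Q8608 (allL N8608 (tt N8916 (iv F14801)) (tt N6598 F14259) (tt N11087 (iv F18583)) (tt N7677 F14260) (tt N6596 (iv D8608)) (tt N11088 D11089))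
theorem Q8610 : ∀ i, i < 8610 → P i := stepQ 8609 Q8609 (allL N8609 (tt N8419 F14261) (tt N6599 F14262) (tt N7582 F14263) (tt N11089 D11090) (tt N6597 (iv D8609)) (tt N7394 F14264))
theorem Q8611 : ∀ i, i < 8611 → P i := stepQ 8610 Q8610 (allL N8610 (tt N6607 F14265) (tt N11088 (iv F18584)) (tt N11072 (iv F18567)) (tt N7678 F14266) (tt N11071 (iv F18565)) (tt N6598 (iv D8610)))
theorem Q8612 : ∀ i, i < 8612 → P i := stepQ 8611 Q8611 (allL N8611 (tt N6609 F14267) (tt N11089 (iv F18587)) (tt N7367 F14269) (tt N6599 (iv D8611)) (tt N11070 (iv F18561)) (tt N7395 F14268))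
theorem Q8613 : ∀ i, i < 8613 → P i := stepQ 8612 Q8612 (allL N8612 (tt N6602 F14270) (tt N11090 D11091) (tt N6600 (iv D8612)) (tt N9587 (iv F16034)) (tt N8918 (iv F14806)) (tt N11091 D11092))
theorem Q8614 : ∀ i, i < 8614 → P i := stepQ 8613 Q8613 (allL N8613 (tt N6604 F14271) (tt N11068 (iv F18556)) (tt N11091 (iv F18590)) (tt N6601 F14272) (tt N11092 D11093) (tt N6600 (iv D8613)))
theorem Q8615 : ∀ i, i < 8615 → P i := stepQ 8614 Q8614 (allL N8614 (tt N11093 D11094) (tt N6602 (iv D8614)) (tt N6605 F14273) (tt N11094 D11095) (tt N11095 D11096) (tt N11052 (iv F18532)))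
theorem Q8616 : ∀ i, i < 8616 → P i := stepQ 8615 Q8615 (allL N8615 (tt N9587 (iv F16032)) (tt N11094 (iv F18595)) (tt N9586 (iv F16031)) (tt N6602 (iv D8615)) (tt N11096 D11097) (tt N11097 D11098))
theorem Q8617 : ∀ i, i < 8617 → P i := stepQ 8616 Q8616 (allL N8616 (tt N8918 (iv F14805)) (tt N11095 (iv F18596)) (tt N6603 F14274) (tt N11098 D11099) (tt N6602 (iv D8616)) (tt N11099 D11100))
theorem Q8618 : ∀ i, i < 8618 → P i := stepQ 8617 Q8617 (allL N8617 (tt N11091 (iv F18589)) (tt N11052 (iv F18531)) (tt N6604 F14275) (tt N11097 (iv F18600)) (tt N11100 D11101) (tt N6602 (iv D8617)))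
theorem Q8619 : ∀ i, i < 8619 → P i := stepQ 8618 Q8618 (allL N8618 (tt N8919 (iv F14807)) (tt N6607 F14276) (tt N11099 (iv F18601)) (tt N8279 F14277) (tt N11101 D11102) (tt N6603 (iv D8618)))
theorem Q8620 : ∀ i, i < 8620 → P i := stepQ 8619 Q8619 (allL N8619 (tt N11092 (iv F18592)) (tt N6608 F14278) (tt N11100 (iv F18602)) (tt N8432 F14279) (tt N6604 (iv D8619)) (tt N11101 (iv F18605)))
theorem Q8621 : ∀ i, i < 8621 → P i := stepQ 8620 Q8620 (allL N8620 (tt N6605 (iv D8620)) (tt N11059 (iv F18544)) (tt N11093 (iv F18594)) (tt N11051 (iv F18530)) (tt N11102 D11103) (tt N11050 F18526))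
theorem Q8622 : ∀ i, i < 8622 → P i := stepQ 8621 Q8621 (allL N8621 (tt N11102 (iv F18606)) (tt N6606 F14280) (tt N11095 (iv F18597)) (tt N11103 D11104) (tt N6605 (iv D8621)) (tt N11104 D11105))
theorem Q8623 : ∀ i, i < 8623 → P i := stepQ 8622 Q8622 (allL N8622 (tt N11073 (iv F18569)) (tt N11103 (iv F18607)) (tt N11105 D11106) (tt N6606 (iv D8622)) (tt N11056 (iv F18540)) (tt N11106 D11107))
theorem Q8624 : ∀ i, i < 8624 → P i := stepQ 8623 Q8623 (allL N8623 (tt N11072 (iv F18566)) (tt N11104 (iv F18608)) (tt N6607 F14281) (tt N11106 (iv F18609)) (tt N11055 (iv F18538)) (tt N6606 (iv D8623)))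
theorem Q8625 : ∀ i, i < 8625 → P i := stepQ 8624 Q8624 (allL N8624 (tt N11071 (iv F18563)) (tt N11101 (iv F18603)) (tt N11055 (iv F18537)) (tt N11107 D11108) (tt N6607 (iv D8624)) (tt N6608 F14282))
theorem Q8626 : ∀ i, i < 8626 → P i := stepQ 8625 Q8625 (allL N8625 (tt N11070 (iv F18560)) (tt N8432 F14283) (tt N11108 D11109) (tt N6608 (iv D8625)) (tt N6609 F14284) (tt N11107 (iv F18612)))
theorem Q8627 : ∀ i, i < 8627 → P i := stepQ 8626 Q8626 (allL N8626 (tt N7367 F14285) (tt N11109 D11110) (tt N6609 (iv D8626)) (tt N7362 F14287) (tt N11108 (iv F18614)) (tt N7396 F14286))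
theorem Q8628 : ∀ i, i < 8628 → P i := stepQ 8627 Q8627 (allL N8627 (tt N9548 (iv F15959)) (tt N6610 (iv D8627)) (tt N8433 F14288) (tt N11110 D11111) (tt N8411 F14289) (tt N9550 (iv F15968)))
theorem Q8629 : ∀ i, i < 8629 → P i := stepQ 8628 Q8628 (allL N8628 (tt N6611 F14290) (tt N11110 (iv F18618)) (tt N11097 (iv F18599)) (tt N6610 (iv D8628)) (tt N11111 D11112) (tt N9586 (iv F16030)))
theorem Q8630 : ∀ i, i < 8630 → P i := stepQ 8629 Q8629 (allL N8629 (tt N11097 (iv F18598)) (tt N11112 D11113) (tt N6611 (iv D8629)) (tt N11091 (iv F18591)) (tt N11113 D11114) (tt N9587 (iv F16033)))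
theorem Q8631 : ∀ i, i < 8631 → P i := stepQ 8630 Q8630 (allL N8630 (tt N11111 (iv F18619)) (tt N9585 (iv F16028)) (tt N11113 (iv F18621)) (tt N8416 F14291) (tt N6611 (iv D8630)) (tt N11114 D11115))
theorem Q8632 : ∀ i, i < 8632 → P i := stepQ 8631 Q8631 (allL N8631 (tt N10850 (iv F18210)) (tt N6614 F14292) (tt N10577 (iv F17703)) (tt N8693 (iv F14400)) (tt N10384 (iv F17360)) (tt N6612 (iv D8631)))
theorem Q8633 : ∀ i, i < 8633 → P i := stepQ 8632 Q8632 (allL N8632 (tt N6829 F14293) (tt N6615 F14294) (tt N11115 D11116) (tt N6613 (iv D8632)) (tt N10383 (iv F17356)) (tt N8695 (iv F14403)))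
theorem Q8634 : ∀ i, i < 8634 → P i := stepQ 8633 Q8633 (allL N8633 (tt N6630 F14295) (tt N11116 D11117) (tt N6615 (iv D8633)) (tt N8698 (iv F14410)) (tt N10385 (iv F17362)) (tt N8698 (iv F14411)))
theorem Q8635 : ∀ i, i < 8635 → P i := stepQ 8634 Q8634 (allL N8634 (tt N6618 F14296) (tt N11117 D11118) (tt N6616 (iv D8634)) (tt N11118 D11119) (tt N10851 (iv F18215)) (tt N11119 D11120))
theorem Q8636 : ∀ i, i < 8636 → P i := stepQ 8635 Q8635 (allL N8635 (tt N6620 F14297) (tt N8689 (iv F14394)) (tt N11119 (iv F18628)) (tt N6617 F14298) (tt N11120 D11121) (tt N6616 (iv D8635)))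
theorem Q8637 : ∀ i, i < 8637 → P i := stepQ 8636 Q8636 (allL N8636 (tt N11119 (iv F18627)) (tt N6618 (iv D8636)) (tt N6620 F14299) (tt N11121 D11122) (tt N11122 D11123) (tt N6618 (iv F14300)))
theorem Q8638 : ∀ i, i < 8638 → P i := stepQ 8637 Q8637 (allL N8637 (tt N11118 (iv F18624)) (tt N11121 (iv F18633)) (tt N11123 D11124) (tt N6618 (iv D8637)) (tt N11124 D11125) (tt N11121 (iv F18635)))
theorem Q8639 : ∀ i, i < 8639 → P i := stepQ 8638 Q8638 (allL N8638 (tt N10851 (iv F18214)) (tt N11122 (iv F18636)) (tt N6619 F14301) (tt N11125 D11126) (tt N6618 (iv D8638)) (tt N11126 D11127))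
theorem Q8640 : ∀ i, i < 8640 → P i := stepQ 8639 Q8639 (allL N8639 (tt N10852 (iv F18216)) (tt N6622 F14302) (tt N11126 (iv F18641)) (tt N6624 F14303) (tt N11127 D11128) (tt N6619 (iv D8639)))
theorem Q8641 : ∀ i, i < 8641 → P i := stepQ 8640 Q8640 (allL N8640 (tt N11120 (iv F18630)) (tt N6621 F14304) (tt N11122 (iv F18637)) (tt N6845 F14305) (tt N6620 (iv D8640)) (tt N11127 (iv F18644)))
theorem Q8642 : ∀ i, i < 8642 → P i := stepQ 8641 Q8641 (allL N8641 (tt N8696 (iv F14404)) (tt N6845 F14306) (tt N11128 D11129) (tt N6621 (iv D8641)) (tt N6623 F14307) (tt N11129 D11130))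
theorem Q8643 : ∀ i, i < 8643 → P i := stepQ 8642 Q8642 (allL N8642 (tt N8697 (iv F14406)) (tt N11127 (iv F18642)) (tt N6622 F14308) (tt N11129 (iv F18647)) (tt N6622 F14309) (tt N6621 (iv D8642)))
theorem Q8644 : ∀ i, i < 8644 → P i := stepQ 8643 Q8643 (allL N8643 (tt N8698 (iv F14409)) (tt N11130 D11131) (tt N6623 (iv D8643)) (tt N6630 F14311) (tt N11128 (iv F18645)) (tt N6630 F14310))
theorem Q8645 : ∀ i, i < 8645 → P i := stepQ 8644 Q8644 (allL N8644 (tt N10568 (iv F17685)) (tt N6626 F14312) (tt N11131 D11132) (tt N6625 (iv D8644)) (tt N10371 (iv F17332)) (tt N11132 D11133))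
theorem Q8646 : ∀ i, i < 8646 → P i := stepQ 8645 Q8645 (allL N8645 (tt N10569 (iv F17688)) (tt N6627 F14313) (tt N10843 (iv F18201)) (tt N11132 (iv F18653)) (tt N10370 (iv F17329)) (tt N6625 (iv D8645)))
theorem Q8647 : ∀ i, i < 8647 → P i := stepQ 8646 Q8646 (allL N8646 (tt N10388 (iv F17368)) (tt N11133 D11134) (tt N6626 (iv D8646)) (tt N11134 D11135) (tt N10372 (iv F17334)) (tt N11135 D11136))
theorem Q8648 : ∀ i, i < 8648 → P i := stepQ 8647 Q8647 (allL N8647 (tt N10387 (iv F17365)) (tt N11132 (iv F18652)) (tt N11135 (iv F18654)) (tt N6627 F14314) (tt N11136 D11137) (tt N6626 (iv D8647)))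
theorem Q8649 : ∀ i, i < 8649 → P i := stepQ 8648 Q8648 (allL N8648 (tt N10386 (iv F17363)) (tt N6841 F14315) (tt N11137 D11138) (tt N6628 (iv D8648)) (tt N11129 (iv F18648)) (tt N6629 F14316))
theorem Q8650 : ∀ i, i < 8650 → P i := stepQ 8649 Q8649 (allL N8649 (tt N10385 (iv F17361)) (tt N11138 D11139) (tt N6629 (iv D8649)) (tt N11139 D11140) (tt N6630 F14317) (tt N11137 (iv F18655)))
theorem Q8651 : ∀ i, i < 8651 → P i := stepQ 8650 Q8650 (allL N8650 (tt N11140 D11141) (tt N6630 (iv D8650)) (tt N6842 F14318) (tt N11130 (iv F18650)) (tt N11138 (iv F18657)) (tt N11130 (iv F18651)))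
theorem Q8652 : ∀ i, i < 8652 → P i := stepQ 8651 Q8651 (allL N8651 (tt N11141 D11142) (tt N6631 (iv D8651)) (tt N6676 F14319) (tt N11142 D11143) (tt N6835 F14320) (tt N11143 D11144))
theorem Q8653 : ∀ i, i < 8653 → P i := stepQ 8652 Q8652 (allL N8652 (tt N6634 F14321) (tt N11142 (iv F18663)) (tt N11121 (iv F18634)) (tt N6631 (iv D8652)) (tt N11144 D11145) (tt N11123 (iv F18640)))
theorem Q8654 : ∀ i, i < 8654 → P i := stepQ 8653 Q8653 (allL N8653 (tt N6635 F14322) (tt N11143 (iv F18665)) (tt N6632 F14323) (tt N11123 (iv F18639)) (tt N11145 D11146) (tt N6631 (iv D8653)))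
theorem Q8655 : ∀ i, i < 8655 → P i := stepQ 8654 Q8654 (allL N8654 (tt N6636 F14324) (tt N6681 F14325) (tt N11145 (iv F18670)) (tt N6805 F14326) (tt N6632 (iv D8654)) (tt N6806 F14327))
theorem Q8656 : ∀ i, i < 8656 → P i := stepQ 8655 Q8655 (allL N8655 (tt N6633 (iv D8655)) (tt N11141 (iv F18659)) (tt N6637 F14328) (tt N11146 D11147) (tt N6846 F14329) (tt N6669 F14330))
theorem Q8657 : ∀ i, i < 8657 → P i := stepQ 8656 Q8656 (allL N8656 (tt N11146 (iv F18672)) (tt N6634 F14331) (tt N11147 D11148) (tt N6633 (iv D8656)) (tt N11148 D11149) (tt N6672 F14332))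
theorem Q8658 : ∀ i, i < 8658 → P i := stepQ 8657 Q8657 (allL N8657 (tt N11121 (iv F18632)) (tt N11149 D11150) (tt N6634 (iv D8657)) (tt N11119 (iv F18629)) (tt N11150 D11151) (tt N11118 F18626))
theorem Q8659 : ∀ i, i < 8659 → P i := stepQ 8658 Q8658 (allL N8658 (tt N11144 (iv F18667)) (tt N11148 (iv F18678)) (tt N11150 (iv F18680)) (tt N6849 F14333) (tt N6634 (iv D8658)) (tt N11151 D11152))
theorem Q8660 : ∀ i, i < 8660 → P i := stepQ 8659 Q8659 (allL N8659 (tt N11123 (iv F18638)) (tt N6672 F14334) (tt N11118 (iv F18625)) (tt N6635 F14335) (tt N11152 D11153) (tt N6634 (iv D8659)))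
theorem Q8661 : ∀ i, i < 8661 → P i := stepQ 8660 Q8660 (allL N8660 (tt N11145 (iv F18669)) (tt N6673 F14336) (tt N6636 F14337) (tt N11153 D11154) (tt N6635 (iv D8660)) (tt N6821 F14338))
theorem Q8662 : ∀ i, i < 8662 → P i := stepQ 8661 Q8661 (allL N8661 (tt N6639 F14339) (tt N6654 F14340) (tt N11154 D11155) (tt N6638 (iv D8661)) (tt N6715 F14341) (tt N8703 (iv F14423)))
theorem Q8663 : ∀ i, i < 8663 → P i := stepQ 8662 Q8662 (allL N8662 (tt N11154 (iv F18685)) (tt N8466 F14342) (tt N6639 (iv D8662)) (tt N11155 D11156) (tt N6717 F14343) (tt N8708 (iv F14428)))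
theorem Q8664 : ∀ i, i < 8664 → P i := stepQ 8663 Q8663 (allL N8663 (tt N6643 F14344) (tt N6959 F14345) (tt N7213 F14346) (tt N8969 (iv F14882)) (tt N6640 (iv D8663)) (tt N11156 D11157))
theorem Q8665 : ∀ i, i < 8665 → P i := stepQ 8664 Q8664 (allL N8664 (tt N6701 F14347) (tt N6643 F14348) (tt N6697 F14349) (tt N8973 (iv F14890)) (tt N6642 (iv D8664)) (tt N11157 D11158))
theorem Q8666 : ∀ i, i < 8666 → P i := stepQ 8665 Q8665 (allL N8665 (tt N11156 (iv F18688)) (tt N11157 (iv F18693)) (tt N9935 (iv F16587)) (tt N8977 (iv F14894)) (tt N10880 (iv F18258)) (tt N6643 (iv D8665)))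
theorem Q8667 : ∀ i, i < 8667 → P i := stepQ 8666 Q8666 (allL N8666 (tt N8712 (iv F14434)) (tt N6644 (iv D8666)) (tt N8699 (iv F14412)) (tt N11158 D11159) (tt N11159 D11160) (tt N8709 F14430))
theorem Q8668 : ∀ i, i < 8668 → P i := stepQ 8667 Q8667 (allL N8667 (tt N6647 F14350) (tt N11158 (iv F18696)) (tt N6688 F14351) (tt N6644 (iv D8667)) (tt N11160 D11161) (tt N6686 F14352))
theorem Q8669 : ∀ i, i < 8669 → P i := stepQ 8668 Q8668 (allL N8668 (tt N6648 F14353) (tt N11159 (iv F18698)) (tt N6645 F14354) (tt N11161 D11162) (tt N6644 (iv D8668)) (tt N11162 D11163))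
theorem Q8670 : ∀ i, i < 8670 → P i := stepQ 8669 Q8669 (allL N8669 (tt N6649 F14355) (tt N8702 (iv F14417)) (tt N11162 (iv F18703)) (tt N6653 F14356) (tt N8333 F14357) (tt N6645 (iv D8669)))
theorem Q8671 : ∀ i, i < 8671 → P i := stepQ 8670 Q8670 (allL N8670 (tt N6650 F14358) (tt N8703 (iv F14421)) (tt N11163 D11164) (tt N6646 (iv D8670)) (tt N8301 F14359) (tt N6654 F14360))
theorem Q8672 : ∀ i, i < 8672 → P i := stepQ 8671 Q8671 (allL N8671 (tt N6688 F14361) (tt N11164 D11165) (tt N6647 (iv D8671)) (tt N6679 F14362) (tt N11165 D11166) (tt N6677 F14363))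
theorem Q8673 : ∀ i, i < 8673 → P i := stepQ 8672 Q8672 (allL N8672 (tt N11160 (iv F18699)) (tt N8727 (iv F14463)) (tt N11165 (iv F18714)) (tt N11166 D11167) (tt N6647 (iv D8672)) (tt N11167 D11168))
theorem Q8674 : ∀ i, i < 8674 → P i := stepQ 8673 Q8673 (allL N8673 (tt N11161 (iv F18701)) (tt N8731 (iv F14468)) (tt N11168 D11169) (tt N6648 (iv D8673)) (tt N11166 (iv F18715)) (tt N11169 D11170))
theorem Q8675 : ∀ i, i < 8675 → P i := stepQ 8674 Q8674 (allL N8674 (tt N11162 (iv F18702)) (tt N8730 (iv F14465)) (tt N6649 F14364) (tt N11169 (iv F18716)) (tt N8334 F14365) (tt N6648 (iv D8674)))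
theorem Q8676 : ∀ i, i < 8676 → P i := stepQ 8675 Q8675 (allL N8675 (tt N11163 (iv F18705)) (tt N6826 F14366) (tt N6650 (iv D8675)) (tt N11170 D11171) (tt N8299 F14367) (tt N6658 F14368))
theorem Q8677 : ∀ i, i < 8677 → P i := stepQ 8676 Q8676 (allL N8676 (tt N6977 F14369) (tt N6652 F14370) (tt N6975 F14371) (tt N11171 D11172) (tt N6651 (iv D8676)) (tt N11172 D11173))
theorem Q8678 : ∀ i, i < 8678 → P i := stepQ 8677 Q8677 (allL N8677 (tt N6656 F14372) (tt N11171 (iv F18723)) (tt N11173 D11174) (tt N6652 (iv D8677)) (tt N6741 F14373) (tt N11174 D11175))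
theorem Q8679 : ∀ i, i < 8679 → P i := stepQ 8678 Q8678 (allL N8678 (tt N6657 F14374) (tt N11172 (iv F18726)) (tt N6653 F14375) (tt N11174 (iv F18732)) (tt N8971 (iv F14887)) (tt N6652 (iv D8678)))
theorem Q8680 : ∀ i, i < 8680 → P i := stepQ 8679 Q8679 (allL N8679 (tt N6658 F14376) (tt N11175 D11176) (tt N6654 (iv D8679)) (tt N11176 D11177) (tt N8980 (iv F14898)) (tt N11163 (iv F18707)))
theorem Q8681 : ∀ i, i < 8681 → P i := stepQ 8680 Q8680 (allL N8680 (tt N6741 F14377) (tt N10735 (iv F17990)) (tt N11177 D11178) (tt N6655 (iv D8680)) (tt N6656 F14378) (tt N11178 D11179))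
theorem Q8682 : ∀ i, i < 8682 → P i := stepQ 8681 Q8681 (allL N8681 (tt N6742 F14379) (tt N10880 (iv F18257)) (tt N6738 F14380) (tt N11178 (iv F18739)) (tt N11157 (iv F18695)) (tt N6655 (iv D8681)))
theorem Q8683 : ∀ i, i < 8683 → P i := stepQ 8682 Q8682 (allL N8682 (tt N11173 (iv F18729)) (tt N11179 D11180) (tt N6656 (iv D8682)) (tt N11180 D11181) (tt N11177 (iv F18737)) (tt N11181 D11182))
theorem Q8684 : ∀ i, i < 8684 → P i := stepQ 8683 Q8683 (allL N8683 (tt N11174 (iv F18731)) (tt N8979 (iv F14895)) (tt N11181 (iv F18740)) (tt N6657 F14381) (tt N11182 D11183) (tt N6656 (iv D8683)))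
theorem Q8685 : ∀ i, i < 8685 → P i := stepQ 8684 Q8684 (allL N8684 (tt N11183 D11184) (tt N6658 (iv D8684)) (tt N6659 F14382) (tt N11184 D11185) (tt N8325 F14383) (tt N6826 F14384))
theorem Q8686 : ∀ i, i < 8686 → P i := stepQ 8685 Q8685 (allL N8685 (tt N11176 (iv F18733)) (tt N11184 (iv F18744)) (tt N11185 D11186) (tt N6658 (iv D8685)) (tt N11186 D11187) (tt N11170 (iv F18720)))
theorem Q8687 : ∀ i, i < 8687 → P i := stepQ 8686 Q8686 (allL N8686 (tt N6659 (iv D8686)) (tt N8460 F14385) (tt N11183 (iv F18741)) (tt N6825 F14386) (tt N8308 F14387) (tt N6824 F14388))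
theorem Q8688 : ∀ i, i < 8688 → P i := stepQ 8687 Q8687 (allL N8687 (tt N6662 F14389) (tt N11187 D11188) (tt N6660 (iv D8687)) (tt N11147 (iv F18677)) (tt N11188 D11189) (tt N11189 D11190))
theorem Q8689 : ∀ i, i < 8689 → P i := stepQ 8688 Q8688 (allL N8688 (tt N6663 F14390) (tt N8425 F14391) (tt N11188 (iv F18751)) (tt N8424 F14392) (tt N6660 (iv D8688)) (tt N11190 D11191))
theorem Q8690 : ∀ i, i < 8690 → P i := stepQ 8689 Q8689 (allL N8689 (tt N6664 F14393) (tt N8635 F14394) (tt N11189 (iv F18753)) (tt N6661 F14395) (tt N11191 D11192) (tt N6660 (iv D8689)))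
theorem Q8691 : ∀ i, i < 8691 → P i := stepQ 8690 Q8690 (allL N8690 (tt N11189 (iv F18752)) (tt N6662 (iv D8690)) (tt N6664 F14396) (tt N11192 D11193) (tt N11193 D11194) (tt N6662 (iv F14397)))
theorem Q8692 : ∀ i, i < 8692 → P i := stepQ 8691 Q8691 (allL N8691 (tt N11147 (iv F18675)) (tt N11192 (iv F18761)) (tt N11146 (iv F18674)) (tt N6662 (iv D8691)) (tt N11194 D11195) (tt N11192 (iv F18763)))
theorem Q8693 : ∀ i, i < 8693 → P i := stepQ 8692 Q8692 (allL N8692 (tt N11188 (iv F18750)) (tt N11193 (iv F18764)) (tt N6663 F14398) (tt N11195 D11196) (tt N6662 (iv D8692)) (tt N11196 D11197))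
theorem Q8694 : ∀ i, i < 8694 → P i := stepQ 8693 Q8693 (allL N8693 (tt N11190 (iv F18755)) (tt N6667 F14399) (tt N11196 (iv F18766)) (tt N8631 F14400) (tt N11197 D11198) (tt N6663 (iv D8693)))
theorem Q8695 : ∀ i, i < 8695 → P i := stepQ 8694 Q8694 (allL N8694 (tt N11191 (iv F18758)) (tt N6666 F14401) (tt N11193 (iv F18765)) (tt N11198 D11199) (tt N6664 (iv D8694)) (tt N11197 (iv F18768)))
theorem Q8696 : ∀ i, i < 8696 → P i := stepQ 8695 Q8695 (allL N8695 (tt N8908 (iv F14790)) (tt N6668 F14402) (tt N11199 D11200) (tt N6665 (iv D8695)) (tt N11198 (iv F18770)) (tt N8632 F14403))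
theorem Q8697 : ∀ i, i < 8697 → P i := stepQ 8696 Q8696 (allL N8696 (tt N8641 F14404) (tt N11198 (iv F18769)) (tt N11200 D11201) (tt N6666 (iv D8696)) (tt N6668 F14405) (tt N11201 D11202))
theorem Q8698 : ∀ i, i < 8698 → P i := stepQ 8697 Q8697 (allL N8697 (tt N8642 F14406) (tt N11197 (iv F18767)) (tt N6667 F14407) (tt N11201 (iv F18778)) (tt N6667 F14408) (tt N6666 (iv D8697)))
theorem Q8699 : ∀ i, i < 8699 → P i := stepQ 8698 Q8698 (allL N8698 (tt N8643 F14409) (tt N11202 D11203) (tt N6668 (iv D8698)) (tt N8633 F14410) (tt N11200 (iv F18773)) (tt N8633 F14411))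
theorem Q8700 : ∀ i, i < 8700 → P i := stepQ 8699 Q8699 (allL N8699 (tt N11143 (iv F18664)) (tt N6669 (iv D8699)) (tt N8666 F14412) (tt N11203 D11204) (tt N11204 D11205) (tt N11141 F18662))
theorem Q8701 : ∀ i, i < 8701 → P i := stepQ 8700 Q8700 (allL N8700 (tt N6672 F14413) (tt N11203 (iv F18782)) (tt N11192 (iv F18762)) (tt N6669 (iv D8700)) (tt N11205 D11206) (tt N11146 (iv F18673)))
theorem Q8702 : ∀ i, i < 8702 → P i := stepQ 8701 Q8701 (allL N8701 (tt N6673 F14414) (tt N11204 (iv F18783)) (tt N6670 F14415) (tt N11206 D11207) (tt N6669 (iv D8701)) (tt N11207 D11208))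
theorem Q8703 : ∀ i, i < 8703 → P i := stepQ 8702 Q8702 (allL N8702 (tt N6674 F14416) (tt N8669 F14417) (tt N11207 (iv F18788)) (tt N8467 F14418) (tt N6827 F14419) (tt N6670 (iv D8702)))
theorem Q8704 : ∀ i, i < 8704 → P i := stepQ 8703 Q8703 (allL N8703 (tt N6675 F14420) (tt N8670 F14421) (tt N11208 D11209) (tt N6671 (iv D8703)) (tt N6850 F14422) (tt N8661 F14423))
theorem Q8705 : ∀ i, i < 8705 → P i := stepQ 8704 Q8704 (allL N8704 (tt N11192 (iv F18760)) (tt N11209 D11210) (tt N6672 (iv D8704)) (tt N11189 (iv F18754)) (tt N11210 D11211) (tt N11147 (iv F18676)))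
theorem Q8706 : ∀ i, i < 8706 → P i := stepQ 8705 Q8705 (allL N8705 (tt N11205 (iv F18785)) (tt N11152 (iv F18682)) (tt N11210 (iv F18793)) (tt N11211 D11212) (tt N6672 (iv D8705)) (tt N11212 D11213))
theorem Q8707 : ∀ i, i < 8707 → P i := stepQ 8706 Q8706 (allL N8706 (tt N11206 (iv F18786)) (tt N11153 (iv F18683)) (tt N11213 D11214) (tt N6673 (iv D8706)) (tt N11211 (iv F18794)) (tt N11214 D11215))
theorem Q8708 : ∀ i, i < 8708 → P i := stepQ 8707 Q8707 (allL N8707 (tt N11207 (iv F18787)) (tt N6821 F14424) (tt N6674 F14425) (tt N11214 (iv F18796)) (tt N6822 F14426) (tt N6673 (iv D8707)))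
theorem Q8709 : ∀ i, i < 8709 → P i := stepQ 8708 Q8708 (allL N8708 (tt N11208 (iv F18790)) (tt N8755 (iv F14510)) (tt N6675 (iv D8708)) (tt N11215 D11216) (tt N6851 F14427) (tt N8662 F14428))
theorem Q8710 : ∀ i, i < 8710 → P i := stepQ 8709 Q8709 (allL N8709 (tt N6676 (iv D8709)) (tt N6683 F14429) (tt N11141 (iv F18660)) (tt N8723 (iv F14459)) (tt N11216 D11217) (tt N8666 (iv F14430)))
theorem Q8711 : ∀ i, i < 8711 → P i := stepQ 8710 Q8710 (allL N8710 (tt N8723 (iv F14457)) (tt N6677 F14431) (tt N8723 (iv F14458)) (tt N6676 (iv D8710)) (tt N11217 D11218) (tt N11164 (iv F18712)))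
theorem Q8712 : ∀ i, i < 8712 → P i := stepQ 8711 Q8711 (allL N8711 (tt N11216 (iv F18798)) (tt N6678 F14432) (tt N6835 F14433) (tt N11218 D11219) (tt N6676 (iv D8711)) (tt N11219 D11220))
theorem Q8713 : ∀ i, i < 8713 → P i := stepQ 8712 Q8712 (allL N8712 (tt N8666 F14434) (tt N6679 F14435) (tt N11143 (iv F18666)) (tt N11164 (iv F18711)) (tt N11220 D11221) (tt N6676 (iv D8712)))
theorem Q8714 : ∀ i, i < 8714 → P i := stepQ 8713 Q8713 (allL N8713 (tt N6687 F14436) (tt N11217 (iv F18801)) (tt N8721 (iv F14455)) (tt N11221 D11222) (tt N6677 (iv D8713)) (tt N11222 D11223))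
theorem Q8715 : ∀ i, i < 8715 → P i := stepQ 8714 Q8714 (allL N8714 (tt N6689 F14437) (tt N11218 (iv F18802)) (tt N11223 D11224) (tt N6678 (iv D8714)) (tt N11221 (iv F18808)) (tt N11224 D11225))
theorem Q8716 : ∀ i, i < 8716 → P i := stepQ 8715 Q8715 (allL N8715 (tt N6690 F14438) (tt N11219 (iv F18803)) (tt N6680 F14439) (tt N11224 (iv F18815)) (tt N11225 D11226) (tt N6678 (iv D8715)))
theorem Q8717 : ∀ i, i < 8717 → P i := stepQ 8716 Q8716 (allL N8716 (tt N6691 F14440) (tt N11220 (iv F18806)) (tt N6681 F14441) (tt N11226 D11227) (tt N6679 (iv D8716)) (tt N11225 (iv F18818)))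
theorem Q8718 : ∀ i, i < 8718 → P i := stepQ 8717 Q8717 (allL N8717 (tt N6692 F14442) (tt N6806 F14443) (tt N11225 (iv F18817)) (tt N6754 F14444) (tt N6680 (iv D8717)) (tt N6681 F14445))
theorem Q8719 : ∀ i, i < 8719 → P i := stepQ 8718 Q8718 (allL N8718 (tt N6693 F14446) (tt N6805 F14447) (tt N11227 D11228) (tt N6681 (iv D8718)) (tt N6682 F14448) (tt N6754 F14449))
theorem Q8720 : ∀ i, i < 8720 → P i := stepQ 8719 Q8719 (allL N8719 (tt N6694 F14450) (tt N11228 D11229) (tt N6682 (iv D8719)) (tt N11185 (iv F18747)) (tt N11227 (iv F18821)) (tt N6700 F14451))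
theorem Q8721 : ∀ i, i < 8721 → P i := stepQ 8720 Q8720 (allL N8720 (tt N6685 F14452) (tt N11216 (iv F18799)) (tt N6695 F14453) (tt N11229 D11230) (tt N6683 (iv D8720)) (tt N10736 (iv F17993)))
theorem Q8722 : ∀ i, i < 8722 → P i := stepQ 8721 Q8721 (allL N8721 (tt N8724 (iv F14460)) (tt N6687 F14454) (tt N8713 F14455) (tt N11230 D11231) (tt N6684 (iv D8721)) (tt N11231 D11232))
theorem Q8723 : ∀ i, i < 8723 → P i := stepQ 8722 Q8722 (allL N8722 (tt N11229 (iv F18825)) (tt N6689 F14456) (tt N11232 D11233) (tt N6685 (iv D8722)) (tt N11230 (iv F18827)) (tt N10737 (iv F17995)))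
theorem Q8724 : ∀ i, i < 8724 → P i := stepQ 8723 Q8723 (allL N8723 (tt N8710 F14457) (tt N6686 (iv D8723)) (tt N8710 F14458) (tt N8709 F14459) (tt N11233 D11234) (tt N11158 (iv F18697)))
theorem Q8725 : ∀ i, i < 8725 → P i := stepQ 8724 Q8724 (allL N8724 (tt N8721 F14460) (tt N11233 (iv F18832)) (tt N6687 F14461) (tt N11234 D11235) (tt N6686 (iv D8724)) (tt N11235 D11236))
theorem Q8726 : ∀ i, i < 8726 → P i := stepQ 8725 Q8725 (allL N8725 (tt N11221 (iv F18807)) (tt N11230 (iv F18826)) (tt N11236 D11237) (tt N6687 (iv D8725)) (tt N6689 F14462) (tt N11237 D11238))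
theorem Q8727 : ∀ i, i < 8727 → P i := stepQ 8726 Q8726 (allL N8726 (tt N11222 (iv F18809)) (tt N11231 (iv F18828)) (tt N11235 (iv F18837)) (tt N11237 (iv F18839)) (tt N11238 D11239) (tt N6687 (iv D8726)))
theorem Q8728 : ∀ i, i < 8728 → P i := stepQ 8727 Q8727 (allL N8727 (tt N11165 (iv F18713)) (tt N8672 F14463) (tt N11160 (iv F18700)) (tt N11239 D11240) (tt N6688 (iv D8727)) (tt N11238 (iv F18841)))
theorem Q8729 : ∀ i, i < 8729 → P i := stepQ 8728 Q8728 (allL N8728 (tt N11223 (iv F18810)) (tt N11240 D11241) (tt N6689 (iv D8728)) (tt N11241 D11242) (tt N11236 (iv F18838)) (tt N11242 D11243))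
theorem Q8730 : ∀ i, i < 8730 → P i := stepQ 8729 Q8729 (allL N8729 (tt N11224 (iv F18813)) (tt N10737 (iv F17994)) (tt N11242 (iv F18848)) (tt N6690 F14464) (tt N11243 D11244) (tt N6689 (iv D8729)))
theorem Q8731 : ∀ i, i < 8731 → P i := stepQ 8730 Q8730 (allL N8730 (tt N11225 (iv F18816)) (tt N8674 F14465) (tt N6692 F14466) (tt N11244 D11245) (tt N6690 (iv D8730)) (tt N6691 F14467))
theorem Q8732 : ∀ i, i < 8732 → P i := stepQ 8731 Q8731 (allL N8731 (tt N11226 (iv F18819)) (tt N8673 F14468) (tt N11245 D11246) (tt N6691 (iv D8731)) (tt N11239 (iv F18843)) (tt N11244 (iv F18851)))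
theorem Q8733 : ∀ i, i < 8733 → P i := stepQ 8732 Q8732 (allL N8732 (tt N11227 (iv F18820)) (tt N6795 F14469) (tt N6693 (iv D8732)) (tt N11246 D11247) (tt N6694 F14470) (tt N6760 F14471))
theorem Q8734 : ∀ i, i < 8734 → P i := stepQ 8733 Q8733 (allL N8733 (tt N11247 D11248) (tt N6694 (iv D8733)) (tt N6696 F14472) (tt N11248 D11249) (tt N6795 F14473) (tt N6706 F14474))
theorem Q8735 : ∀ i, i < 8735 → P i := stepQ 8734 Q8734 (allL N8734 (tt N11185 (iv F18746)) (tt N11248 (iv F18857)) (tt N11176 (iv F18734)) (tt N6694 (iv D8734)) (tt N11249 D11250) (tt N6707 F14475))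
theorem Q8736 : ∀ i, i < 8736 → P i := stepQ 8735 Q8735 (allL N8735 (tt N6696 (iv D8735)) (tt N6825 F14476) (tt N11247 (iv F18854)) (tt N8460 F14477) (tt N6790 F14478) (tt N6708 F14479))
theorem Q8737 : ∀ i, i < 8737 → P i := stepQ 8736 Q8736 (allL N8736 (tt N6702 F14480) (tt N10494 (iv F17550)) (tt N11250 D11251) (tt N6697 (iv D8736)) (tt N6698 F14481) (tt N11251 D11252))
theorem Q8738 : ∀ i, i < 8738 → P i := stepQ 8737 Q8737 (allL N8737 (tt N6703 F14482) (tt N10495 (iv F17553)) (tt N11157 (iv F18694)) (tt N11251 (iv F18862)) (tt N6738 F14483) (tt N6697 (iv D8737)))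
theorem Q8739 : ∀ i, i < 8739 → P i := stepQ 8738 Q8738 (allL N8738 (tt N6704 F14484) (tt N11252 D11253) (tt N6698 (iv D8738)) (tt N11242 (iv F18849)) (tt N11250 (iv F18860)) (tt N11241 (iv F18846)))
theorem Q8740 : ∀ i, i < 8740 → P i := stepQ 8739 Q8739 (allL N8739 (tt N6705 F14485) (tt N8340 F14486) (tt N11241 (iv F18845)) (tt N6699 F14487) (tt N11253 D11254) (tt N6698 (iv D8739)))
theorem Q8741 : ∀ i, i < 8741 → P i := stepQ 8740 Q8740 (allL N8740 (tt N11254 D11255) (tt N6700 (iv D8740)) (tt N6799 F14488) (tt N11255 D11256) (tt N6751 F14489) (tt N11228 (iv F18824)))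
theorem Q8742 : ∀ i, i < 8742 → P i := stepQ 8741 Q8741 (allL N8741 (tt N6707 F14490) (tt N11255 (iv F18869)) (tt N11170 (iv F18721)) (tt N6700 (iv D8741)) (tt N11256 D11257) (tt N11185 (iv F18748)))
theorem Q8743 : ∀ i, i < 8743 → P i := stepQ 8742 Q8742 (allL N8742 (tt N8973 (iv F14888)) (tt N6962 F14491) (tt N11257 D11258) (tt N6701 (iv D8742)) (tt N8970 (iv F14884)) (tt N11258 D11259))
theorem Q8744 : ∀ i, i < 8744 → P i := stepQ 8743 Q8743 (allL N8743 (tt N11157 (iv F18692)) (tt N6963 F14492) (tt N6703 F14493) (tt N11258 (iv F18874)) (tt N6742 F14494) (tt N6701 (iv D8743)))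
theorem Q8745 : ∀ i, i < 8745 → P i := stepQ 8744 Q8744 (allL N8744 (tt N11250 (iv F18859)) (tt N11259 D11260) (tt N6702 (iv D8744)) (tt N11260 D11261) (tt N6704 F14495) (tt N11261 D11262))
theorem Q8746 : ∀ i, i < 8746 → P i := stepQ 8745 Q8745 (allL N8745 (tt N11251 (iv F18861)) (tt N6748 F14496) (tt N11261 (iv F18877)) (tt N6703 F14497) (tt N11262 D11263) (tt N6702 (iv D8745)))
theorem Q8747 : ∀ i, i < 8747 → P i := stepQ 8746 Q8746 (allL N8746 (tt N11263 D11264) (tt N6704 (iv D8746)) (tt N6750 F14498) (tt N11264 D11265) (tt N11259 (iv F18876)) (tt N10641 (iv F17815)))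
theorem Q8748 : ∀ i, i < 8748 → P i := stepQ 8747 Q8747 (allL N8747 (tt N11242 (iv F18847)) (tt N11264 (iv F18882)) (tt N11224 (iv F18814)) (tt N6704 (iv D8747)) (tt N11265 D11266) (tt N11223 F18812))
theorem Q8749 : ∀ i, i < 8749 → P i := stepQ 8748 Q8748 (allL N8748 (tt N11241 (iv F18844)) (tt N10641 (iv F17814)) (tt N6705 F14499) (tt N11223 (iv F18811)) (tt N11266 D11267) (tt N6704 (iv D8748)))
theorem Q8750 : ∀ i, i < 8750 → P i := stepQ 8749 Q8749 (allL N8749 (tt N11253 (iv F18863)) (tt N6736 F14500) (tt N11266 (iv F18883)) (tt N6735 F14501) (tt N6705 (iv D8749)) (tt N11262 (iv F18880)))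
theorem Q8751 : ∀ i, i < 8751 → P i := stepQ 8750 Q8750 (allL N8750 (tt N6706 (iv D8750)) (tt N11254 (iv F18866)) (tt N6708 F14502) (tt N11267 D11268) (tt N6755 F14503) (tt N11247 (iv F18856)))
theorem Q8752 : ∀ i, i < 8752 → P i := stepQ 8751 Q8751 (allL N8751 (tt N11267 (iv F18884)) (tt N6707 F14504) (tt N11268 D11269) (tt N6706 (iv D8751)) (tt N11269 D11270) (tt N11248 (iv F18858)))
theorem Q8753 : ∀ i, i < 8753 → P i := stepQ 8752 Q8752 (allL N8752 (tt N11170 (iv F18717)) (tt N11270 D11271) (tt N6707 (iv D8752)) (tt N11163 (iv F18708)) (tt N11271 D11272) (tt N11176 (iv F18735)))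
theorem Q8754 : ∀ i, i < 8754 → P i := stepQ 8753 Q8753 (allL N8753 (tt N11256 (iv F18870)) (tt N11269 (iv F18885)) (tt N11271 (iv F18888)) (tt N6758 F14505) (tt N6707 (iv D8753)) (tt N11272 D11273))
theorem Q8755 : ∀ i, i < 8755 → P i := stepQ 8754 Q8754 (allL N8754 (tt N6709 F14506) (tt N6824 F14507) (tt N11273 D11274) (tt N6708 (iv D8754)) (tt N6791 F14508) (tt N8460 F14509))
theorem Q8756 : ∀ i, i < 8756 → P i := stepQ 8755 Q8755 (allL N8755 (tt N11273 (iv F18891)) (tt N8708 F14510) (tt N6709 (iv D8755)) (tt N11274 D11275) (tt N6796 F14511) (tt N8466 F14512))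
theorem Q8757 : ∀ i, i < 8757 → P i := stepQ 8756 Q8756 (allL N8756 (tt N6711 F14513) (tt N7180 F14514) (tt N11275 D11276) (tt N6710 (iv D8756)) (tt N7176 F14515) (tt N11276 D11277))
theorem Q8758 : ∀ i, i < 8758 → P i := stepQ 8757 Q8757 (allL N8757 (tt N6712 F14516) (tt N7181 F14517) (tt N6716 F14518) (tt N11276 (iv F18902)) (tt N7246 F14519) (tt N6710 (iv D8757)))
theorem Q8759 : ∀ i, i < 8759 → P i := stepQ 8758 Q8758 (allL N8758 (tt N11275 (iv F18896)) (tt N11277 D11278) (tt N6711 (iv D8758)) (tt N11278 D11279) (tt N7177 F14520) (tt N11279 D11280))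
theorem Q8760 : ∀ i, i < 8760 → P i := stepQ 8759 Q8759 (allL N8759 (tt N11276 (iv F18900)) (tt N6714 F14521) (tt N11279 (iv F18909)) (tt N6712 F14522) (tt N11280 D11281) (tt N6711 (iv D8759)))
theorem Q8761 : ∀ i, i < 8761 → P i := stepQ 8760 Q8760 (allL N8760 (tt N11281 D11282) (tt N6713 (iv D8760)) (tt N11277 (iv F18905)) (tt N11282 D11283) (tt N7021 F14523) (tt N11283 D11284))
theorem Q8762 : ∀ i, i < 8762 → P i := stepQ 8761 Q8761 (allL N8761 (tt N6726 F14524) (tt N11282 (iv F18917)) (tt N6721 F14525) (tt N6713 (iv D8761)) (tt N7202 F14526) (tt N6720 F14527))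
theorem Q8763 : ∀ i, i < 8763 → P i := stepQ 8762 Q8762 (allL N8762 (tt N6725 F14528) (tt N11283 (iv F18920)) (tt N6714 F14529) (tt N6720 F14530) (tt N7201 F14531) (tt N6713 (iv D8762)))
theorem Q8764 : ∀ i, i < 8764 → P i := stepQ 8763 Q8763 (allL N8763 (tt N7188 F14532) (tt N11280 (iv F18911)) (tt N7201 F14533) (tt N7252 F14534) (tt N6714 (iv D8763)) (tt N7179 F14535))
theorem Q8765 : ∀ i, i < 8765 → P i := stepQ 8764 Q8764 (allL N8764 (tt N6717 F14536) (tt N11284 D11285) (tt N6715 (iv D8764)) (tt N11285 D11286) (tt N11154 (iv F18686)) (tt N8461 F14537))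
theorem Q8766 : ∀ i, i < 8766 → P i := stepQ 8765 Q8765 (allL N8765 (tt N11285 (iv F18925)) (tt N8465 F14538) (tt N11286 D11287) (tt N6717 (iv D8765)) (tt N11287 D11288) (tt N8462 F14539))
theorem Q8767 : ∀ i, i < 8767 → P i := stepQ 8766 Q8766 (allL N8766 (tt N8822 (iv F14653)) (tt N11288 D11289) (tt N6718 (iv D8766)) (tt N11289 D11290) (tt N6896 F14540) (tt N11290 D11291))
theorem Q8768 : ∀ i, i < 8768 → P i := stepQ 8767 Q8767 (allL N8767 (tt N8823 (iv F14654)) (tt N6721 F14541) (tt N11290 (iv F18931)) (tt N6719 F14542) (tt N11291 D11292) (tt N6718 (iv D8767)))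
theorem Q8769 : ∀ i, i < 8769 → P i := stepQ 8768 Q8768 (allL N8768 (tt N11292 D11293) (tt N6720 (iv D8768)) (tt N11288 (iv F18929)) (tt N11283 (iv F18921)) (tt N6898 F14543) (tt N11282 F18919))
theorem Q8770 : ∀ i, i < 8770 → P i := stepQ 8769 Q8769 (allL N8769 (tt N6727 F14544) (tt N11291 (iv F18932)) (tt N7202 F14545) (tt N6857 F14546) (tt N6721 (iv D8769)) (tt N6901 F14547))
theorem Q8771 : ∀ i, i < 8771 → P i := stepQ 8770 Q8770 (allL N8770 (tt N11293 D11294) (tt N6722 (iv D8770)) (tt N8830 (iv F14663)) (tt N11294 D11295) (tt N6724 F14548) (tt N11295 D11296))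
theorem Q8772 : ∀ i, i < 8772 → P i := stepQ 8771 Q8771 (allL N8771 (tt N6899 F14549) (tt N11294 (iv F18939)) (tt N6906 F14550) (tt N6722 (iv D8771)) (tt N7690 (iv F14552)) (tt N6905 F14551))
theorem Q8773 : ∀ i, i < 8773 → P i := stepQ 8772 Q8772 (allL N8772 (tt N6900 F14553) (tt N11295 (iv F18942)) (tt N6723 F14554) (tt N6905 F14555) (tt N7691 (iv F14556)) (tt N6722 (iv D8772)))
theorem Q8774 : ∀ i, i < 8774 → P i := stepQ 8773 Q8773 (allL N8773 (tt N6901 F14557) (tt N8833 (iv F14666)) (tt N7691 F14558) (tt N6871 F14559) (tt N6723 (iv D8773)) (tt N6727 F14560))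
theorem Q8775 : ∀ i, i < 8775 → P i := stepQ 8774 Q8774 (allL N8774 (tt N6724 (iv D8774)) (tt N11292 (iv F18935)) (tt N8834 (iv F14668)) (tt N11296 D11297) (tt N11293 (iv F18938)) (tt N11297 D11298))
theorem Q8776 : ∀ i, i < 8776 → P i := stepQ 8775 Q8775 (allL N8775 (tt N11296 (iv F18945)) (tt N6725 F14561) (tt N11298 D11299) (tt N6724 (iv D8775)) (tt N11299 D11300) (tt N7187 (iv F14562)))
theorem Q8777 : ∀ i, i < 8777 → P i := stepQ 8776 Q8776 (allL N8776 (tt N11297 (iv F18947)) (tt N6726 F14563) (tt N8836 (iv F14671)) (tt N7187 F14564) (tt N11300 D11301) (tt N6724 (iv D8776)))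
theorem Q8778 : ∀ i, i < 8778 → P i := stepQ 8777 Q8777 (allL N8777 (tt N7201 F14565) (tt N11299 (iv F18952)) (tt N7188 F14566) (tt N7690 F14567) (tt N6725 (iv D8777)) (tt N7193 F14568))
theorem Q8779 : ∀ i, i < 8779 → P i := stepQ 8778 Q8778 (allL N8778 (tt N7202 F14569) (tt N11300 (iv F18956)) (tt N6727 F14570) (tt N7192 F14571) (tt N6726 (iv D8778)) (tt N7691 F14572))
theorem Q8780 : ∀ i, i < 8780 → P i := stepQ 8779 Q8779 (allL N8779 (tt N11301 D11302) (tt N6728 (iv D8779)) (tt N8335 F14573) (tt N11302 D11303) (tt N11303 D11304) (tt N11301 F18961))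
theorem Q8781 : ∀ i, i < 8781 → P i := stepQ 8780 Q8780 (allL N8780 (tt N6732 F14574) (tt N11302 (iv F18964)) (tt N6759 F14575) (tt N6728 (iv D8780)) (tt N11304 D11305) (tt N6757 (iv F14576)))
theorem Q8782 : ∀ i, i < 8782 → P i := stepQ 8781 Q8781 (allL N8781 (tt N6733 F14577) (tt N11303 (iv F18967)) (tt N6729 F14578) (tt N11305 D11306) (tt N6728 (iv D8781)) (tt N11306 D11307))
theorem Q8783 : ∀ i, i < 8783 → P i := stepQ 8782 Q8782 (allL N8782 (tt N6731 F14579) (tt N11301 (iv F18959)) (tt N6730 F14580) (tt N6757 F14581) (tt N11307 D11308) (tt N6728 (iv D8782)))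
theorem Q8784 : ∀ i, i < 8784 → P i := stepQ 8783 Q8783 (allL N8783 (tt N6734 F14582) (tt N8338 F14583) (tt N11306 (iv F18973)) (tt N6738 F14584) (tt N11308 D11309) (tt N6729 (iv D8783)))
theorem Q8785 : ∀ i, i < 8785 → P i := stepQ 8784 Q8784 (allL N8784 (tt N6735 F14585) (tt N8339 F14586) (tt N11307 (iv F18975)) (tt N11253 (iv F18865)) (tt N6730 (iv D8784)) (tt N11308 (iv F18978)))
theorem Q8786 : ∀ i, i < 8786 → P i := stepQ 8785 Q8785 (allL N8785 (tt N6757 F14587) (tt N6732 F14588) (tt N6752 F14589) (tt N6731 (iv D8785)) (tt N11309 D11310) (tt N6732 F14590))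
theorem Q8787 : ∀ i, i < 8787 → P i := stepQ 8786 Q8786 (allL N8786 (tt N11307 (iv F18974)) (tt N6733 F14591) (tt N6735 F14592) (tt N11310 D11311) (tt N6731 (iv D8786)) (tt N11311 D11312))
theorem Q8788 : ∀ i, i < 8788 → P i := stepQ 8787 Q8787 (allL N8787 (tt N6759 F14593) (tt N11312 D11313) (tt N6732 (iv D8787)) (tt N6753 F14594) (tt N11313 D11314) (tt N6752 F14595))
theorem Q8789 : ∀ i, i < 8789 → P i := stepQ 8788 Q8788 (allL N8788 (tt N11304 (iv F18969)) (tt N11309 (iv F18980)) (tt N11313 (iv F18991)) (tt N11314 D11315) (tt N6732 (iv D8788)) (tt N11315 D11316))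
theorem Q8790 : ∀ i, i < 8790 → P i := stepQ 8789 Q8789 (allL N8789 (tt N11305 (iv F18971)) (tt N11310 (iv F18982)) (tt N11316 D11317) (tt N6733 (iv D8789)) (tt N11314 (iv F18992)) (tt N11317 D11318))
theorem Q8791 : ∀ i, i < 8791 → P i := stepQ 8790 Q8790 (allL N8790 (tt N11306 (iv F18972)) (tt N11311 (iv F18983)) (tt N6734 F14596) (tt N11317 (iv F18993)) (tt N11311 (iv F18985)) (tt N6733 (iv D8790)))
theorem Q8792 : ∀ i, i < 8792 → P i := stepQ 8791 Q8791 (allL N8791 (tt N11308 (iv F18976)) (tt N6737 F14597) (tt N11311 (iv F18984)) (tt N11262 (iv F18879)) (tt N6734 (iv D8791)) (tt N6735 F14598))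
theorem Q8793 : ∀ i, i < 8793 → P i := stepQ 8792 Q8792 (allL N8792 (tt N8350 F14599) (tt N11262 (iv F18878)) (tt N10501 (iv F17567)) (tt N6737 F14600) (tt N6748 F14601) (tt N6736 (iv D8792)))
theorem Q8794 : ∀ i, i < 8794 → P i := stepQ 8793 Q8793 (allL N8793 (tt N6740 F14602) (tt N7242 F14603) (tt N6743 F14604) (tt N11318 D11319) (tt N6739 (iv D8793)) (tt N11319 D11320))
theorem Q8795 : ∀ i, i < 8795 → P i := stepQ 8794 Q8794 (allL N8794 (tt N11318 (iv F18994)) (tt N6741 F14605) (tt N11320 D11321) (tt N6740 (iv D8794)) (tt N11171 (iv F18724)) (tt N11321 D11322))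
theorem Q8796 : ∀ i, i < 8796 → P i := stepQ 8795 Q8795 (allL N8795 (tt N11319 (iv F18997)) (tt N6742 F14606) (tt N6745 F14607) (tt N11321 (iv F19002)) (tt N6963 F14608) (tt N6740 (iv D8795)))
theorem Q8797 : ∀ i, i < 8797 → P i := stepQ 8796 Q8796 (allL N8796 (tt N11177 (iv F18736)) (tt N11322 D11323) (tt N6741 (iv D8796)) (tt N11323 D11324) (tt N11173 (iv F18730)) (tt N11324 D11325))
theorem Q8798 : ∀ i, i < 8798 → P i := stepQ 8797 Q8797 (allL N8797 (tt N11178 (iv F18738)) (tt N11321 (iv F19001)) (tt N11324 (iv F19003)) (tt N6742 F14609) (tt N11325 D11326) (tt N6741 (iv D8797)))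
theorem Q8799 : ∀ i, i < 8799 → P i := stepQ 8798 Q8798 (allL N8798 (tt N6744 F14610) (tt N10471 (iv F17514)) (tt N11326 D11327) (tt N6743 (iv D8798)) (tt N6956 F14611) (tt N11327 D11328))
theorem Q8800 : ∀ i, i < 8800 → P i := stepQ 8799 Q8799 (allL N8799 (tt N6745 F14612) (tt N10472 (iv F17517)) (tt N11319 (iv F18999)) (tt N11327 (iv F19007)) (tt N6960 F14613) (tt N6743 (iv D8799)))
theorem Q8801 : ∀ i, i < 8801 → P i := stepQ 8800 Q8800 (allL N8800 (tt N11326 (iv F19004)) (tt N11328 D11329) (tt N6744 (iv D8800)) (tt N11329 D11330) (tt N6957 F14614) (tt N11330 D11331))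
theorem Q8802 : ∀ i, i < 8802 → P i := stepQ 8801 Q8801 (allL N8801 (tt N11327 (iv F19006)) (tt N6747 F14615) (tt N11330 (iv F19011)) (tt N6745 F14616) (tt N7785 F14617) (tt N6744 (iv D8801)))
theorem Q8803 : ∀ i, i < 8803 → P i := stepQ 8802 Q8802 (allL N8802 (tt N11331 D11332) (tt N6746 (iv D8802)) (tt N11328 (iv F19009)) (tt N11332 D11333) (tt N6958 F14618) (tt N11333 D11334))
theorem Q8804 : ∀ i, i < 8804 → P i := stepQ 8803 Q8803 (allL N8803 (tt N10501 (iv F17566)) (tt N11332 (iv F19014)) (tt N8350 F14620) (tt N6746 (iv D8803)) (tt N7792 F14619) (tt N8349 F14621))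
theorem Q8805 : ∀ i, i < 8805 → P i := stepQ 8804 Q8804 (allL N8804 (tt N10499 (iv F17561)) (tt N11333 (iv F19017)) (tt N6747 F14622) (tt N8349 F14623) (tt N6948 F14624) (tt N6746 (iv D8804)))
theorem Q8806 : ∀ i, i < 8806 → P i := stepQ 8805 Q8805 (allL N8805 (tt N7792 F14625) (tt N11334 D11335) (tt N6748 (iv D8805)) (tt N6939 F14626) (tt N10501 (iv F17568)) (tt N6749 F14627))
theorem Q8807 : ∀ i, i < 8807 → P i := stepQ 8806 Q8806 (allL N8806 (tt N11335 D11336) (tt N6749 (iv D8806)) (tt N11259 (iv F18875)) (tt N11336 D11337) (tt N6750 F14628) (tt N11334 (iv F19021)))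
theorem Q8808 : ∀ i, i < 8808 → P i := stepQ 8807 Q8807 (allL N8807 (tt N7793 F14629) (tt N11336 (iv F19023)) (tt N6938 F14630) (tt N6749 (iv D8807)) (tt N6951 F14631) (tt N6939 F14632))
theorem Q8809 : ∀ i, i < 8809 → P i := stepQ 8808 Q8808 (allL N8808 (tt N6750 (iv D8808)) (tt N10646 (iv F17819)) (tt N11263 (iv F18881)) (tt N10630 (iv F17789)) (tt N11335 (iv F19022)) (tt N10640 (iv F17813)))
theorem Q8810 : ∀ i, i < 8810 → P i := stepQ 8809 Q8809 (allL N8809 (tt N6751 (iv D8809)) (tt N6755 F14633) (tt N6797 F14634) (tt N11337 D11338) (tt N11254 (iv F18868)) (tt N6787 (iv F14635)))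
theorem Q8811 : ∀ i, i < 8811 → P i := stepQ 8810 Q8810 (allL N8810 (tt N11337 (iv F19027)) (tt N6752 F14636) (tt N11312 (iv F18987)) (tt N6751 (iv D8810)) (tt N11338 D11339) (tt N11312 (iv F18989)))
theorem Q8812 : ∀ i, i < 8812 → P i := stepQ 8811 Q8811 (allL N8811 (tt N6787 F14637) (tt N6753 F14638) (tt N6800 F14639) (tt N11312 (iv F18988)) (tt N11339 D11340) (tt N6751 (iv D8811)))
theorem Q8813 : ∀ i, i < 8813 → P i := stepQ 8812 Q8812 (allL N8812 (tt N6758 F14640) (tt N11338 (iv F19031)) (tt N11309 (iv F18981)) (tt N11256 (iv F18872)) (tt N6752 (iv D8812)) (tt N11340 D11341))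
theorem Q8814 : ∀ i, i < 8814 → P i := stepQ 8813 Q8813 (allL N8813 (tt N6760 F14641) (tt N11339 (iv F19033)) (tt N6754 F14642) (tt N11341 D11342) (tt N6753 (iv D8813)) (tt N11227 (iv F18822)))
theorem Q8815 : ∀ i, i < 8815 → P i := stepQ 8814 Q8814 (allL N8814 (tt N6756 F14643) (tt N11337 (iv F19028)) (tt N6779 F14645) (tt N6755 (iv D8814)) (tt N11342 D11343) (tt N6788 F14644))
theorem Q8816 : ∀ i, i < 8816 → P i := stepQ 8815 Q8815 (allL N8815 (tt N6779 F14646) (tt N11343 D11344) (tt N6756 (iv D8815)) (tt N6775 F14648) (tt N11344 D11345) (tt N6792 F14647))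
theorem Q8817 : ∀ i, i < 8817 → P i := stepQ 8816 Q8816 (allL N8816 (tt N11342 (iv F19037)) (tt N6758 F14649) (tt N11344 (iv F19044)) (tt N11269 (iv F18886)) (tt N6756 (iv D8816)) (tt N11345 D11346))
theorem Q8818 : ∀ i, i < 8818 → P i := stepQ 8817 Q8817 (allL N8817 (tt N11302 (iv F18963)) (tt N6757 (iv D8817)) (tt N11343 (iv F19040)) (tt N11301 F18962) (tt N11346 D11347) (tt N11302 (iv F18965)))
theorem Q8819 : ∀ i, i < 8819 → P i := stepQ 8818 Q8818 (allL N8818 (tt N11309 (iv F18979)) (tt N11346 (iv F19047)) (tt N6758 F14650) (tt N11347 D11348) (tt N6757 (iv D8818)) (tt N11348 D11349))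
theorem Q8820 : ∀ i, i < 8820 → P i := stepQ 8819 Q8819 (allL N8819 (tt N11340 (iv F19035)) (tt N11345 (iv F19045)) (tt N11348 (iv F19048)) (tt N11272 (iv F18890)) (tt N11349 D11350) (tt N6758 (iv D8819)))
theorem Q8821 : ∀ i, i < 8821 → P i := stepQ 8820 Q8820 (allL N8820 (tt N11313 (iv F18990)) (tt N6793 F14651) (tt N11304 (iv F18970)) (tt N11350 D11351) (tt N6759 (iv D8820)) (tt N11349 (iv F19050)))
theorem Q8822 : ∀ i, i < 8822 → P i := stepQ 8821 Q8821 (allL N8821 (tt N11341 (iv F19036)) (tt N6794 F14652) (tt N11351 D11352) (tt N6760 (iv D8821)) (tt N11350 (iv F19052)) (tt N11246 (iv F18853)))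
theorem Q8823 : ∀ i, i < 8823 → P i := stepQ 8822 Q8822 (allL N8822 (tt N8766 F14653) (tt N11352 D11353) (tt N6761 (iv D8822)) (tt N11353 D11354) (tt N8987 (iv F14914)) (tt N11354 D11355))
theorem Q8824 : ∀ i, i < 8824 → P i := stepQ 8823 Q8823 (allL N8823 (tt N8767 F14654) (tt N6766 F14655) (tt N11354 (iv F19056)) (tt N6762 F14656) (tt N11355 D11356) (tt N6761 (iv D8823)))
theorem Q8825 : ∀ i, i < 8825 → P i := stepQ 8824 Q8824 (allL N8824 (tt N6769 F14657) (tt N11356 D11357) (tt N6763 (iv D8824)) (tt N11357 D11358) (tt N6765 F14658) (tt N11358 D11359))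
theorem Q8826 : ∀ i, i < 8826 → P i := stepQ 8825 Q8825 (allL N8825 (tt N6770 F14659) (tt N8988 (iv F14916)) (tt N11358 (iv F19062)) (tt N6764 F14660) (tt N11359 D11360) (tt N6763 (iv D8825)))
theorem Q8827 : ∀ i, i < 8827 → P i := stepQ 8826 Q8826 (allL N8826 (tt N11360 D11361) (tt N6765 (iv D8826)) (tt N11352 (iv F19053)) (tt N10877 (iv F18251)) (tt N11356 (iv F19059)) (tt N10876 F18249))
theorem Q8828 : ∀ i, i < 8828 → P i := stepQ 8827 Q8827 (allL N8827 (tt N6774 F14661) (tt N11355 (iv F19058)) (tt N10878 (iv F18253)) (tt N8949 (iv F14844)) (tt N6766 (iv D8827)) (tt N11359 (iv F19064)))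
theorem Q8829 : ∀ i, i < 8829 → P i := stepQ 8828 Q8828 (allL N8828 (tt N10344 (iv F17292)) (tt N11361 D11362) (tt N6767 (iv D8828)) (tt N11362 D11363) (tt N8982 (iv F14900)) (tt N11363 D11364))
theorem Q8830 : ∀ i, i < 8830 → P i := stepQ 8829 Q8829 (allL N8829 (tt N10345 (iv F17294)) (tt N8983 (iv F14902)) (tt N11363 (iv F19066)) (tt N6768 F14662) (tt N11364 D11365) (tt N6767 (iv D8829)))
theorem Q8831 : ∀ i, i < 8831 → P i := stepQ 8830 Q8830 (allL N8830 (tt N11365 D11366) (tt N6769 (iv D8830)) (tt N8770 F14663) (tt N11366 D11367) (tt N6771 F14664) (tt N11367 D11368))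
theorem Q8832 : ∀ i, i < 8832 → P i := stepQ 8831 Q8831 (allL N8831 (tt N11357 (iv F19060)) (tt N11366 (iv F19069)) (tt N11368 D11369) (tt N6769 (iv D8831)) (tt N11369 D11370) (tt N11370 D11371))
theorem Q8833 : ∀ i, i < 8833 → P i := stepQ 8832 Q8832 (allL N8832 (tt N11358 (iv F19061)) (tt N11367 (iv F19070)) (tt N6770 F14665) (tt N11370 (iv F19073)) (tt N11371 D11372) (tt N6769 (iv D8832)))
theorem Q8834 : ∀ i, i < 8834 → P i := stepQ 8833 Q8833 (allL N8833 (tt N11359 (iv F19063)) (tt N8773 F14666) (tt N11371 (iv F19074)) (tt N8955 (iv F14854)) (tt N6770 (iv D8833)) (tt N6774 F14667))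
theorem Q8835 : ∀ i, i < 8835 → P i := stepQ 8834 Q8834 (allL N8834 (tt N6771 (iv D8834)) (tt N11360 (iv F19065)) (tt N8774 F14668) (tt N11372 D11373) (tt N11365 (iv F19068)) (tt N11373 D11374))
theorem Q8836 : ∀ i, i < 8836 → P i := stepQ 8835 Q8835 (allL N8835 (tt N11372 (iv F19076)) (tt N6772 F14669) (tt N11374 D11375) (tt N6771 (iv D8835)) (tt N11375 D11376) (tt N10869 (iv F18240)))
theorem Q8837 : ∀ i, i < 8837 → P i := stepQ 8836 Q8836 (allL N8836 (tt N11373 (iv F19077)) (tt N6773 F14670) (tt N8776 F14671) (tt N10869 (iv F18239)) (tt N11376 D11377) (tt N6771 (iv D8836)))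
theorem Q8838 : ∀ i, i < 8838 → P i := stepQ 8837 Q8837 (allL N8837 (tt N10879 (iv F18254)) (tt N11375 (iv F19081)) (tt N10870 (iv F18243)) (tt N11369 (iv F19072)) (tt N6772 (iv D8837)) (tt N11377 D11378))
theorem Q8839 : ∀ i, i < 8839 → P i := stepQ 8838 Q8838 (allL N8838 (tt N10878 (iv F18252)) (tt N11376 (iv F19082)) (tt N6774 F14672) (tt N11378 D11379) (tt N6773 (iv D8838)) (tt N11371 (iv F19075)))
theorem Q8840 : ∀ i, i < 8840 → P i := stepQ 8839 Q8839 (allL N8839 (tt N11379 D11380) (tt N6775 (iv D8839)) (tt N8233 F14673) (tt N11343 (iv F19041)) (tt N11380 D11381) (tt N11379 (iv F19087)))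
theorem Q8841 : ∀ i, i < 8841 → P i := stepQ 8840 Q8840 (allL N8840 (tt N6780 F14674) (tt N11380 (iv F19088)) (tt N6776 F14675) (tt N11381 D11382) (tt N6775 (iv D8840)) (tt N11382 D11383))
theorem Q8842 : ∀ i, i < 8842 → P i := stepQ 8841 Q8841 (allL N8841 (tt N6778 F14676) (tt N11379 (iv F19084)) (tt N6777 F14677) (tt N6792 F14678) (tt N11383 D11384) (tt N6775 (iv D8841)))
theorem Q8843 : ∀ i, i < 8843 → P i := stepQ 8842 Q8842 (allL N8842 (tt N6781 F14679) (tt N7468 F14680) (tt N11382 (iv F19092)) (tt N7466 F14681) (tt N11384 D11385) (tt N6776 (iv D8842)))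
theorem Q8844 : ∀ i, i < 8844 → P i := stepQ 8843 Q8843 (allL N8843 (tt N6782 F14682) (tt N8236 F14683) (tt N11383 (iv F19094)) (tt N8539 F14684) (tt N6777 (iv D8843)) (tt N11384 (iv F19098)))
theorem Q8845 : ∀ i, i < 8845 → P i := stepQ 8844 Q8844 (allL N8844 (tt N6792 F14685) (tt N6779 F14686) (tt N6788 F14687) (tt N6778 (iv D8844)) (tt N11385 D11386) (tt N6779 F14688))
theorem Q8846 : ∀ i, i < 8846 → P i := stepQ 8845 Q8845 (allL N8845 (tt N11383 (iv F19093)) (tt N6780 F14689) (tt N6782 F14690) (tt N11386 D11387) (tt N6778 (iv D8845)) (tt N11387 D11388))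
theorem Q8847 : ∀ i, i < 8847 → P i := stepQ 8846 Q8846 (allL N8846 (tt N11344 (iv F19043)) (tt N11385 (iv F19100)) (tt N11342 (iv F19038)) (tt N11388 D11389) (tt N6779 (iv D8846)) (tt N11389 D11390))
theorem Q8848 : ∀ i, i < 8848 → P i := stepQ 8847 Q8847 (allL N8847 (tt N11381 (iv F19090)) (tt N11386 (iv F19102)) (tt N11390 D11391) (tt N6780 (iv D8847)) (tt N11388 (iv F19106)) (tt N11391 D11392))
theorem Q8849 : ∀ i, i < 8849 → P i := stepQ 8848 Q8848 (allL N8848 (tt N11382 (iv F19091)) (tt N11387 (iv F19103)) (tt N6781 F14691) (tt N11391 (iv F19107)) (tt N11387 (iv F19105)) (tt N6780 (iv D8848)))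
theorem Q8850 : ∀ i, i < 8850 → P i := stepQ 8849 Q8849 (allL N8849 (tt N11384 (iv F19095)) (tt N6785 F14692) (tt N11387 (iv F19104)) (tt N9055 (iv F15056)) (tt N6781 (iv D8849)) (tt N6782 F14693))
theorem Q8851 : ∀ i, i < 8851 → P i := stepQ 8850 Q8850 (allL N8850 (tt N8539 F14694) (tt N6784 F14695) (tt N11392 D11393) (tt N6782 (iv D8850)) (tt N6783 F14696) (tt N9055 (iv F15057)))
theorem Q8852 : ∀ i, i < 8852 → P i := stepQ 8851 Q8851 (allL N8851 (tt N8538 F14697) (tt N11393 D11394) (tt N6783 (iv D8851)) (tt N11394 D11395) (tt N11392 (iv F19109)) (tt N8231 F14698))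
theorem Q8853 : ∀ i, i < 8853 → P i := stepQ 8852 Q8852 (allL N8852 (tt N8244 F14699) (tt N11395 D11396) (tt N6784 (iv D8852)) (tt N8251 F14700) (tt N6786 F14701) (tt N8250 F14702))
theorem Q8854 : ∀ i, i < 8854 → P i := stepQ 8853 Q8853 (allL N8853 (tt N11396 D11397) (tt N6786 (iv D8853)) (tt N11393 (iv F19110)) (tt N8260 F14703) (tt N11395 (iv F19116)) (tt N8232 F14704))
theorem Q8855 : ∀ i, i < 8855 → P i := stepQ 8854 Q8854 (allL N8854 (tt N11312 (iv F18986)) (tt N6788 F14705) (tt N11337 (iv F19029)) (tt N6787 (iv D8854)) (tt N11397 D11398) (tt N11337 (iv F19030)))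
theorem Q8856 : ∀ i, i < 8856 → P i := stepQ 8855 Q8855 (allL N8855 (tt N11339 (iv F19032)) (tt N6789 F14706) (tt N8288 F14707) (tt N11398 D11399) (tt N6787 (iv D8855)) (tt N11399 D11400))
theorem Q8857 : ∀ i, i < 8857 → P i := stepQ 8856 Q8856 (allL N8856 (tt N6793 F14708) (tt N11397 (iv F19121)) (tt N11385 (iv F19101)) (tt N11400 D11401) (tt N6788 (iv D8856)) (tt N11401 D11402))
theorem Q8858 : ∀ i, i < 8858 → P i := stepQ 8857 Q8857 (allL N8857 (tt N6794 F14709) (tt N11398 (iv F19122)) (tt N9919 (iv F16558)) (tt N6789 (iv D8857)) (tt N11400 (iv F19126)) (tt N9917 F16556))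
theorem Q8859 : ∀ i, i < 8859 → P i := stepQ 8858 Q8858 (allL N8858 (tt N6795 F14710) (tt N11399 (iv F19123)) (tt N6790 F14711) (tt N9917 (iv F16555)) (tt N11247 (iv F18855)) (tt N6789 (iv D8858)))
theorem Q8860 : ∀ i, i < 8860 → P i := stepQ 8859 Q8859 (allL N8859 (tt N6796 F14712) (tt N11402 D11403) (tt N6791 (iv D8859)) (tt N11403 D11404) (tt N11273 (iv F18892)) (tt N8283 F14713))
theorem Q8861 : ∀ i, i < 8861 → P i := stepQ 8860 Q8860 (allL N8860 (tt N11343 (iv F19039)) (tt N6792 (iv D8860)) (tt N11302 F18966) (tt N11379 (iv F19086)) (tt N11404 D11405) (tt N11343 (iv F19042)))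
theorem Q8862 : ∀ i, i < 8862 → P i := stepQ 8861 Q8861 (allL N8861 (tt N11385 (iv F19099)) (tt N11404 (iv F19133)) (tt N6793 F14714) (tt N9923 (iv F21790)) (tt N6792 (iv D8861)) (tt N11405 D11407))
theorem Q8863 : ∀ i, i < 8863 → P i := stepQ 8862 Q8862 (allL N8862 (tt N11400 (iv F19125)) (tt N11350 (iv F19051)) (tt N11406 D11408) (tt N6793 (iv D8862)) (tt N6794 F14715) (tt N11407 D11409))
theorem Q8864 : ∀ i, i < 8864 → P i := stepQ 8863 Q8863 (allL N8863 (tt N11401 (iv F19127)) (tt N11349 (iv F19049)) (tt N11405 (iv F19134)) (tt N11407 (iv F19136)) (tt N11345 (iv F19046)) (tt N6793 (iv D8863)))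
theorem Q8865 : ∀ i, i < 8865 → P i := stepQ 8864 Q8864 (allL N8864 (tt N9919 (iv F16557)) (tt N11408 D11410) (tt N6794 (iv D8864)) (tt N9912 (iv F16548)) (tt N11406 (iv F19135)) (tt N9911 F16545))
theorem Q8866 : ∀ i, i < 8866 → P i := stepQ 8865 Q8865 (allL N8865 (tt N9917 (iv F16554)) (tt N11246 (iv F18852)) (tt N9911 (iv F16544)) (tt N6795 F14716) (tt N11409 D11411) (tt N6794 (iv D8865)))
theorem Q8867 : ∀ i, i < 8867 → P i := stepQ 8866 Q8866 (allL N8866 (tt N11403 (iv F19130)) (tt N8936 (iv F14819)) (tt N8537 F14718) (tt N6796 (iv D8866)) (tt N11410 D11412) (tt N8285 F14717))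
theorem Q8868 : ∀ i, i < 8868 → P i := stepQ 8867 Q8867 (allL N8867 (tt N6799 F14719) (tt N6808 F14720) (tt N11254 (iv F18867)) (tt N11411 D11413) (tt N6797 (iv D8867)) (tt N11412 D11414))
theorem Q8869 : ∀ i, i < 8869 → P i := stepQ 8868 Q8868 (allL N8868 (tt N8379 F14721) (tt N6801 F14722) (tt N8379 F14723) (tt N11413 D11415) (tt N6798 (iv D8868)) (tt N11414 D11416))
theorem Q8870 : ∀ i, i < 8870 → P i := stepQ 8869 Q8869 (allL N8869 (tt N11411 (iv F19138)) (tt N6802 F14724) (tt N11415 D11417) (tt N6799 (iv D8869)) (tt N11413 (iv F19146)) (tt N11416 D11418))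
theorem Q8871 : ∀ i, i < 8871 → P i := stepQ 8870 Q8870 (allL N8870 (tt N11412 (iv F19141)) (tt N6803 F14725) (tt N11228 (iv F18823)) (tt N11416 (iv F19151)) (tt N11417 D11419) (tt N6799 (iv D8870)))
theorem Q8872 : ∀ i, i < 8872 → P i := stepQ 8871 Q8871 (allL N8871 (tt N8288 F14726) (tt N6804 F14727) (tt N11339 (iv F19034)) (tt N11418 D11420) (tt N6800 (iv D8871)) (tt N11417 (iv F19154)))
theorem Q8873 : ∀ i, i < 8873 → P i := stepQ 8872 Q8872 (allL N8872 (tt N6814 F14728) (tt N11413 (iv F19145)) (tt N11419 D11421) (tt N6801 (iv D8872)) (tt N6802 F14729) (tt N11420 D11422))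
theorem Q8874 : ∀ i, i < 8874 → P i := stepQ 8873 Q8873 (allL N8873 (tt N6815 F14730) (tt N11414 (iv F19148)) (tt N8377 F14731) (tt N11420 (iv F19160)) (tt N10817 (iv F18147)) (tt N6801 (iv D8873)))
theorem Q8875 : ∀ i, i < 8875 → P i := stepQ 8874 Q8874 (allL N8874 (tt N6817 F14732) (tt N11421 D11423) (tt N6802 (iv D8874)) (tt N6844 F14733) (tt N11419 (iv F19158)) (tt N6843 (iv F14734)))
theorem Q8876 : ∀ i, i < 8876 → P i := stepQ 8875 Q8875 (allL N8875 (tt N6818 F14735) (tt N11416 (iv F19150)) (tt N6843 F14736) (tt N6803 F14737) (tt N11422 D11424) (tt N6802 (iv D8875)))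
theorem Q8877 : ∀ i, i < 8877 → P i := stepQ 8876 Q8876 (allL N8876 (tt N6819 F14738) (tt N11417 (iv F19153)) (tt N6805 F14739) (tt N11423 D11425) (tt N6803 (iv D8876)) (tt N6804 F14740))
theorem Q8878 : ∀ i, i < 8878 → P i := stepQ 8877 Q8877 (allL N8877 (tt N6820 F14741) (tt N11418 (iv F19156)) (tt N11424 D11426) (tt N6804 (iv D8877)) (tt N10816 (iv F18144)) (tt N11423 (iv F19166)))
theorem Q8879 : ∀ i, i < 8879 → P i := stepQ 8878 Q8878 (allL N8878 (tt N6821 F14742) (tt N11425 D11427) (tt N6806 (iv D8878)) (tt N11426 D11428) (tt N6807 F14743) (tt N11145 (iv F18671)))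
theorem Q8880 : ∀ i, i < 8880 → P i := stepQ 8879 Q8879 (allL N8879 (tt N11427 D11429) (tt N6807 (iv D8879)) (tt N11219 (iv F18804)) (tt N10839 (iv F18192)) (tt N11425 (iv F19168)) (tt N6835 F14744))
theorem Q8881 : ∀ i, i < 8881 → P i := stepQ 8880 Q8880 (allL N8880 (tt N6810 F14745) (tt N11411 (iv F19139)) (tt N11428 D11430) (tt N6808 (iv D8880)) (tt N8380 F14746) (tt N11429 D11431))
theorem Q8882 : ∀ i, i < 8882 → P i := stepQ 8881 Q8881 (allL N8881 (tt N6811 F14747) (tt N11412 (iv F19142)) (tt N6825 F14748) (tt N11429 (iv F19175)) (tt N8291 F14749) (tt N6808 (iv D8881)))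
theorem Q8883 : ∀ i, i < 8883 → P i := stepQ 8882 Q8882 (allL N8882 (tt N8380 F14750) (tt N6814 F14751) (tt N11430 D11432) (tt N6809 (iv D8882)) (tt N6810 F14752) (tt N11430 F19180))
theorem Q8884 : ∀ i, i < 8884 → P i := stepQ 8883 Q8883 (allL N8883 (tt N8381 F14753) (tt N6815 F14754) (tt N8371 F14755) (tt N11430 (iv F19177)) (tt N8296 F14756) (tt N6809 (iv D8883)))
theorem Q8885 : ∀ i, i < 8885 → P i := stepQ 8884 Q8884 (allL N8884 (tt N11428 (iv F19172)) (tt N11431 D11433) (tt N6810 (iv D8884)) (tt N11432 D11434) (tt N11430 (iv F19178)) (tt N11433 D11435))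
theorem Q8886 : ∀ i, i < 8886 → P i := stepQ 8885 Q8885 (allL N8885 (tt N11429 (iv F19174)) (tt N6818 F14757) (tt N11433 (iv F19187)) (tt N6811 F14758) (tt N11433 (iv F19189)) (tt N6810 (iv D8885)))
theorem Q8887 : ∀ i, i < 8887 → P i := stepQ 8886 Q8886 (allL N8886 (tt N8366 F14759) (tt N6813 F14760) (tt N8366 F14761) (tt N11434 D11436) (tt N6812 (iv D8886)) (tt N11435 D11437))
theorem Q8888 : ∀ i, i < 8888 → P i := stepQ 8887 Q8887 (allL N8887 (tt N8376 F14762) (tt N11434 (iv F19191)) (tt N11436 D11438) (tt N6813 (iv D8887)) (tt N8375 F14763) (tt N11437 D11439))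
theorem Q8889 : ∀ i, i < 8889 → P i := stepQ 8888 Q8888 (allL N8888 (tt N8377 F14764) (tt N11435 (iv F19194)) (tt N6815 F14765) (tt N11437 (iv F19199)) (tt N10812 (iv F18133)) (tt N6813 (iv D8888)))
theorem Q8890 : ∀ i, i < 8890 → P i := stepQ 8889 Q8889 (allL N8889 (tt N11419 (iv F19157)) (tt N11438 D11440) (tt N6814 (iv D8889)) (tt N11439 D11441) (tt N6817 F14766) (tt N11438 F19202))
theorem Q8891 : ∀ i, i < 8891 → P i := stepQ 8890 Q8890 (allL N8890 (tt N11420 (iv F19159)) (tt N11430 F19179) (tt N11438 (iv F19200)) (tt N6815 F14767) (tt N11431 (iv F19182)) (tt N6814 (iv D8890)))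
theorem Q8892 : ∀ i, i < 8892 → P i := stepQ 8891 Q8891 (allL N8891 (tt N10817 (iv F18145)) (tt N8296 F14768) (tt N10812 (iv F18132)) (tt N11440 D11442) (tt N6815 (iv D8891)) (tt N6816 F14769))
theorem Q8893 : ∀ i, i < 8893 → P i := stepQ 8892 Q8892 (allL N8892 (tt N10816 (iv F18143)) (tt N8295 F14770) (tt N11441 D11443) (tt N6816 (iv D8892)) (tt N6820 F14771) (tt N11440 (iv F19204)))
theorem Q8894 : ∀ i, i < 8894 → P i := stepQ 8893 Q8893 (allL N8893 (tt N11442 D11444) (tt N6817 (iv D8893)) (tt N11431 (iv F19181)) (tt N11443 D11445) (tt N11438 (iv F19201)) (tt N11444 D11446))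
theorem Q8895 : ∀ i, i < 8895 → P i := stepQ 8894 Q8894 (allL N8894 (tt N6844 F14772) (tt N11443 (iv F19206)) (tt N6834 F14773) (tt N6817 (iv D8894)) (tt N11445 D11447) (tt N6833 F14774))
theorem Q8896 : ∀ i, i < 8896 → P i := stepQ 8895 Q8895 (allL N8895 (tt N6843 F14775) (tt N11444 (iv F19208)) (tt N6818 F14776) (tt N6833 F14777) (tt N11444 (iv F19211)) (tt N6817 (iv D8895)))
theorem Q8897 : ∀ i, i < 8897 → P i := stepQ 8896 Q8896 (allL N8896 (tt N11422 (iv F19163)) (tt N11433 (iv F19186)) (tt N11444 (iv F19209)) (tt N11446 D11448) (tt N6818 (iv D8896)) (tt N11431 F19183))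
theorem Q8898 : ∀ i, i < 8898 → P i := stepQ 8897 Q8897 (allL N8897 (tt N11423 (iv F19165)) (tt N8298 F14778) (tt N11447 D11449) (tt N6819 (iv D8897)) (tt N11446 (iv F19217)) (tt N6820 F14779))
theorem Q8899 : ∀ i, i < 8899 → P i := stepQ 8898 Q8898 (allL N8898 (tt N11424 (iv F19167)) (tt N11448 D11450) (tt N6820 (iv D8898)) (tt N11449 D11451) (tt N11441 (iv F19205)) (tt N11447 (iv F19218)))
theorem Q8900 : ∀ i, i < 8900 → P i := stepQ 8899 Q8899 (allL N8899 (tt N11426 (iv F19169)) (tt N11214 (iv F18795)) (tt N11450 D11452) (tt N6821 (iv D8899)) (tt N11451 D11453) (tt N11153 (iv F18684)))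
theorem Q8901 : ∀ i, i < 8901 → P i := stepQ 8900 Q8900 (allL N8900 (tt N6822 (iv D8900)) (tt N11427 (iv F19170)) (tt N6827 F14780) (tt N11452 D11454) (tt N11207 (iv F18789)) (tt N6846 F14781))
theorem Q8902 : ∀ i, i < 8902 → P i := stepQ 8901 Q8901 (allL N8901 (tt N11452 (iv F19221)) (tt N6823 F14782) (tt N11453 D11455) (tt N6822 (iv D8901)) (tt N11454 D11456) (tt N6847 F14783))
theorem Q8903 : ∀ i, i < 8903 → P i := stepQ 8902 Q8902 (allL N8902 (tt N10840 (iv F18194)) (tt N11454 (iv F19224)) (tt N10835 (iv F18183)) (tt N11451 (iv F19220)) (tt N6823 (iv D8902)) (tt N11455 D11457))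
theorem Q8904 : ∀ i, i < 8904 → P i := stepQ 8903 Q8903 (allL N8903 (tt N6826 F14784) (tt N11456 D11458) (tt N6824 (iv D8903)) (tt N11457 D11459) (tt N8292 F14785) (tt N11183 (iv F18743)))
theorem Q8905 : ∀ i, i < 8905 → P i := stepQ 8904 Q8904 (allL N8904 (tt N11457 (iv F19227)) (tt N11170 (iv F18718)) (tt N11458 D11460) (tt N6826 (iv D8904)) (tt N8320 F14786) (tt N11184 (iv F18745)))
theorem Q8906 : ∀ i, i < 8906 → P i := stepQ 8905 Q8905 (allL N8905 (tt N10383 (iv F17354)) (tt N6831 F14787) (tt N11459 D11461) (tt N6828 (iv D8905)) (tt N6829 F14788) (tt N11460 D11462))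
theorem Q8907 : ∀ i, i < 8907 → P i := stepQ 8906 Q8906 (allL N8906 (tt N10384 (iv F17357)) (tt N6832 F14789) (tt N10669 (iv F17868)) (tt N11460 (iv F19234)) (tt N10850 (iv F18213)) (tt N6828 (iv D8906)))
theorem Q8908 : ∀ i, i < 8908 → P i := stepQ 8907 Q8907 (allL N8907 (tt N11115 (iv F18623)) (tt N11461 D11463) (tt N6829 (iv D8907)) (tt N11462 D11464) (tt N11459 (iv F19232)) (tt N11463 D11465))
theorem Q8909 : ∀ i, i < 8909 → P i := stepQ 8908 Q8908 (allL N8908 (tt N8695 F14790) (tt N6834 F14791) (tt N11463 (iv F19238)) (tt N6830 F14792) (tt N11464 D11466) (tt N6829 (iv D8908)))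
theorem Q8910 : ∀ i, i < 8910 → P i := stepQ 8909 Q8909 (allL N8909 (tt N6840 F14793) (tt N11465 D11467) (tt N6831 (iv D8909)) (tt N11465 F19243) (tt N6833 F14794) (tt N11466 D11468))
theorem Q8911 : ∀ i, i < 8911 → P i := stepQ 8910 Q8910 (allL N8910 (tt N6841 F14795) (tt N11460 (iv F19233)) (tt N11466 (iv F19246)) (tt N6832 F14796) (tt N11467 D11469) (tt N6831 (iv D8910)))
theorem Q8912 : ∀ i, i < 8912 → P i := stepQ 8911 Q8911 (allL N8911 (tt N11468 D11470) (tt N6833 (iv D8911)) (tt N11461 (iv F19235)) (tt N11444 (iv F19210)) (tt N11465 (iv F19242)) (tt N11443 F19207))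
theorem Q8913 : ∀ i, i < 8913 → P i := stepQ 8912 Q8912 (allL N8912 (tt N6845 F14797) (tt N11464 (iv F19240)) (tt N11445 (iv F19215)) (tt N11120 (iv F18631)) (tt N6834 (iv D8912)) (tt N11467 (iv F19248)))
theorem Q8914 : ∀ i, i < 8914 → P i := stepQ 8913 Q8913 (allL N8913 (tt N6835 (iv D8913)) (tt N6846 F14798) (tt N11216 (iv F18800)) (tt N11469 D11471) (tt N11141 (iv F18661)) (tt N11427 (iv F19171)))
theorem Q8915 : ∀ i, i < 8915 → P i := stepQ 8914 Q8914 (allL N8914 (tt N11469 (iv F19252)) (tt N6836 F14799) (tt N10987 (iv F18454)) (tt N6835 (iv D8914)) (tt N11470 D11472) (tt N10839 (iv F18193)))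
theorem Q8916 : ∀ i, i < 8916 → P i := stepQ 8915 Q8915 (allL N8915 (tt N6849 F14800) (tt N11470 (iv F19254)) (tt N10807 (iv F18118)) (tt N11144 (iv F18668)) (tt N6836 (iv D8915)) (tt N11471 D11473))
theorem Q8917 : ∀ i, i < 8917 → P i := stepQ 8916 Q8916 (allL N8916 (tt N8608 F14801) (tt N6838 F14802) (tt N11472 D11474) (tt N6837 (iv D8916)) (tt N8605 F14803) (tt N11473 D11475))
theorem Q8918 : ∀ i, i < 8918 → P i := stepQ 8917 Q8917 (allL N8917 (tt N9959 (iv F16617)) (tt N6839 F14804) (tt N10370 (iv F17328)) (tt N11473 (iv F19260)) (tt N10843 (iv F18202)) (tt N6837 (iv D8917)))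
theorem Q8919 : ∀ i, i < 8919 → P i := stepQ 8918 Q8918 (allL N8918 (tt N8616 F14805) (tt N11474 D11476) (tt N6838 (iv D8918)) (tt N11475 D11477) (tt N8612 F14806) (tt N11476 D11478))
theorem Q8920 : ∀ i, i < 8920 → P i := stepQ 8919 Q8919 (allL N8919 (tt N8618 F14807) (tt N11473 (iv F19259)) (tt N11476 (iv F19264)) (tt N6839 F14808) (tt N11477 D11479) (tt N6838 (iv D8919)))
theorem Q8921 : ∀ i, i < 8921 → P i := stepQ 8920 Q8920 (allL N8920 (tt N11478 D11480) (tt N6840 (iv D8920)) (tt N11138 (iv F18656)) (tt N11478 F19269) (tt N6842 F14809) (tt N11479 D11481))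
theorem Q8922 : ∀ i, i < 8922 → P i := stepQ 8921 Q8921 (allL N8921 (tt N11465 (iv F19244)) (tt N11478 (iv F19267)) (tt N11480 D11482) (tt N6840 (iv D8921)) (tt N11468 (iv F19251)) (tt N11481 D11483))
theorem Q8923 : ∀ i, i < 8923 → P i := stepQ 8922 Q8922 (allL N8922 (tt N11466 (iv F19245)) (tt N11479 (iv F19270)) (tt N6841 F14810) (tt N11481 (iv F19274)) (tt N11482 D11484) (tt N6840 (iv D8922)))
theorem Q8924 : ∀ i, i < 8924 → P i := stepQ 8923 Q8923 (allL N8923 (tt N11467 (iv F19247)) (tt N11129 (iv F18646)) (tt N11482 (iv F19275)) (tt N11127 (iv F18643)) (tt N6841 (iv D8923)) (tt N6845 F14811))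
theorem Q8925 : ∀ i, i < 8925 → P i := stepQ 8924 Q8924 (allL N8924 (tt N6842 (iv D8924)) (tt N11468 (iv F19249)) (tt N11140 (iv F18658)) (tt N11483 D11485) (tt N11478 (iv F19268)) (tt N11484 D11486))
theorem Q8926 : ∀ i, i < 8926 → P i := stepQ 8925 Q8925 (allL N8925 (tt N11483 (iv F19277)) (tt N6843 F14812) (tt N11485 D11487) (tt N6842 (iv D8925)) (tt N11483 (iv F19279)) (tt N11421 (iv F19162)))
theorem Q8927 : ∀ i, i < 8927 → P i := stepQ 8926 Q8926 (allL N8926 (tt N11484 (iv F19280)) (tt N6844 F14813) (tt N11130 (iv F18649)) (tt N11421 (iv F19161)) (tt N11486 D11488) (tt N6842 (iv D8926)))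
theorem Q8928 : ∀ i, i < 8928 → P i := stepQ 8927 Q8927 (allL N8927 (tt N11444 F19212) (tt N11483 (iv F19278)) (tt N11422 (iv F19164)) (tt N11468 (iv F19250)) (tt N6843 (iv D8927)) (tt N11442 (iv F19213)))
theorem Q8929 : ∀ i, i < 8929 → P i := stepQ 8928 Q8928 (allL N8928 (tt N11445 (iv F19214)) (tt N11486 (iv F19281)) (tt N6845 F14814) (tt N11487 D11489) (tt N6844 (iv D8928)) (tt N11482 (iv F19276)))
theorem Q8930 : ∀ i, i < 8930 → P i := stepQ 8929 Q8929 (allL N8929 (tt N6847 F14815) (tt N11469 (iv F19253)) (tt N11488 D11490) (tt N6846 (iv D8929)) (tt N11489 D11491) (tt N11452 (iv F19222)))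
theorem Q8931 : ∀ i, i < 8931 → P i := stepQ 8930 Q8930 (allL N8930 (tt N11488 (iv F19282)) (tt N11490 D11492) (tt N6847 (iv D8930)) (tt N11491 D11493) (tt N11492 D11494) (tt N11453 (iv F19223)))
theorem Q8932 : ∀ i, i < 8932 → P i := stepQ 8931 Q8931 (allL N8931 (tt N11489 (iv F19283)) (tt N6849 F14816) (tt N11492 (iv F19285)) (tt N11148 (iv F18679)) (tt N6847 (iv D8931)) (tt N11493 D11495))
theorem Q8933 : ∀ i, i < 8933 → P i := stepQ 8932 Q8932 (allL N8932 (tt N10986 (iv F18451)) (tt N6848 (iv D8932)) (tt N11490 (iv F19284)) (tt N10806 (iv F18113)) (tt N11494 D11496) (tt N10834 (iv F18181)))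
theorem Q8934 : ∀ i, i < 8934 → P i := stepQ 8933 Q8933 (allL N8933 (tt N10807 (iv F18116)) (tt N11494 (iv F19288)) (tt N6849 F14817) (tt N11495 D11497) (tt N6848 (iv D8933)) (tt N11496 D11498))
theorem Q8935 : ∀ i, i < 8935 → P i := stepQ 8934 Q8934 (allL N8934 (tt N11471 (iv F19255)) (tt N11493 (iv F19286)) (tt N11496 (iv F19293)) (tt N11151 (iv F18681)) (tt N11455 (iv F19225)) (tt N6849 (iv D8934)))
theorem Q8936 : ∀ i, i < 8936 → P i := stepQ 8935 Q8935 (allL N8935 (tt N6851 F14818) (tt N11497 D11499) (tt N6850 (iv D8935)) (tt N11498 D11500) (tt N11208 (iv F18791)) (tt N10674 (iv F17880)))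
theorem Q8937 : ∀ i, i < 8937 → P i := stepQ 8936 Q8936 (allL N8936 (tt N11498 (iv F19295)) (tt N8866 F14819) (tt N11499 D11501) (tt N6851 (iv D8936)) (tt N11500 D11502) (tt N10675 (iv F17882)))
theorem Q8938 : ∀ i, i < 8938 → P i := stepQ 8937 Q8937 (allL N8937 (tt N6854 F14820) (tt N11501 D11503) (tt N6852 (iv D8937)) (tt N11502 D11504) (tt N8210 F14821) (tt N11503 D11505))
theorem Q8939 : ∀ i, i < 8939 → P i := stepQ 8938 Q8938 (allL N8938 (tt N6855 F14822) (tt N6861 F14823) (tt N11503 (iv F19301)) (tt N6853 F14824) (tt N11504 D11506) (tt N6852 (iv D8938)))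
theorem Q8940 : ∀ i, i < 8940 → P i := stepQ 8939 Q8939 (allL N8939 (tt N11505 D11507) (tt N6854 (iv D8939)) (tt N6856 F14825) (tt N11506 D11508) (tt N8212 F14826) (tt N10894 (iv F18292)))
theorem Q8941 : ∀ i, i < 8941 → P i := stepQ 8940 Q8940 (allL N8940 (tt N11502 (iv F19299)) (tt N11506 (iv F19308)) (tt N11507 D11509) (tt N6854 (iv D8940)) (tt N11508 D11510) (tt N11509 D11511))
theorem Q8942 : ∀ i, i < 8942 → P i := stepQ 8941 Q8941 (allL N8941 (tt N11503 (iv F19300)) (tt N10894 (iv F18291)) (tt N6855 F14827) (tt N11509 (iv F19313)) (tt N11510 D11512) (tt N6854 (iv D8941)))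
theorem Q8943 : ∀ i, i < 8943 → P i := stepQ 8942 Q8942 (allL N8942 (tt N11504 (iv F19302)) (tt N6857 F14828) (tt N11510 (iv F19315)) (tt N11291 (iv F18933)) (tt N6855 (iv D8942)) (tt N8215 F14829))
theorem Q8944 : ∀ i, i < 8944 → P i := stepQ 8943 Q8943 (allL N8943 (tt N6856 (iv D8943)) (tt N6872 F14830) (tt N11505 (iv F19306)) (tt N10893 (iv F18290)) (tt N8216 F14831) (tt N10892 F18287))
theorem Q8945 : ∀ i, i < 8945 → P i := stepQ 8944 Q8944 (allL N8944 (tt N6864 F14832) (tt N11511 D11513) (tt N6858 (iv D8944)) (tt N11512 D11514) (tt N6860 F14833) (tt N11513 D11515))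
theorem Q8946 : ∀ i, i < 8946 → P i := stepQ 8945 Q8945 (allL N8945 (tt N6865 F14834) (tt N8211 F14835) (tt N11513 (iv F19321)) (tt N6859 F14836) (tt N11514 D11516) (tt N6858 (iv D8945)))
theorem Q8947 : ∀ i, i < 8947 → P i := stepQ 8946 Q8946 (allL N8946 (tt N11515 D11517) (tt N6860 (iv D8946)) (tt N11501 (iv F19297)) (tt N11516 D11518) (tt N11511 (iv F19318)) (tt N11517 D11519))
theorem Q8948 : ∀ i, i < 8948 → P i := stepQ 8947 Q8947 (allL N8947 (tt N6867 F14837) (tt N11516 (iv F19327)) (tt N6884 F14838) (tt N6860 (iv D8947)) (tt N11518 D11520) (tt N6882 (iv F14839)))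
theorem Q8949 : ∀ i, i < 8949 → P i := stepQ 8948 Q8948 (allL N8948 (tt N6868 F14840) (tt N11517 (iv F19329)) (tt N6861 F14841) (tt N6882 F14842) (tt N11519 D11521) (tt N6860 (iv D8948)))
theorem Q8950 : ∀ i, i < 8950 → P i := stepQ 8949 Q8949 (allL N8949 (tt N6869 F14843) (tt N11504 (iv F19303)) (tt N11519 (iv F19334)) (tt N8827 F14844) (tt N6861 (iv D8949)) (tt N11514 (iv F19325)))
theorem Q8951 : ∀ i, i < 8951 → P i := stepQ 8950 Q8950 (allL N8950 (tt N8149 F14845) (tt N11520 D11522) (tt N6862 (iv D8950)) (tt N11521 D11523) (tt N8147 F14846) (tt N11522 D11524))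
theorem Q8952 : ∀ i, i < 8952 → P i := stepQ 8951 Q8951 (allL N8951 (tt N8150 F14847) (tt N8148 F14848) (tt N11522 (iv F19339)) (tt N6863 F14849) (tt N11523 D11525) (tt N6862 (iv D8951)))
theorem Q8953 : ∀ i, i < 8953 → P i := stepQ 8952 Q8952 (allL N8952 (tt N11524 D11526) (tt N6864 (iv D8952)) (tt N6870 F14850) (tt N11525 D11527) (tt N6866 F14851) (tt N9380 (iv F15672)))
theorem Q8954 : ∀ i, i < 8954 → P i := stepQ 8953 Q8953 (allL N8953 (tt N11512 (iv F19319)) (tt N11525 (iv F19346)) (tt N11526 D11528) (tt N6864 (iv D8953)) (tt N11527 D11529) (tt N11528 D11530))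
theorem Q8955 : ∀ i, i < 8955 → P i := stepQ 8954 Q8954 (allL N8954 (tt N11513 (iv F19320)) (tt N9380 (iv F15671)) (tt N6865 F14852) (tt N11528 (iv F19351)) (tt N11529 D11531) (tt N6864 (iv D8954)))
theorem Q8956 : ∀ i, i < 8956 → P i := stepQ 8955 Q8955 (allL N8955 (tt N11514 (iv F19322)) (tt N6871 F14853) (tt N11529 (iv F19353)) (tt N8833 F14854) (tt N6865 (iv D8955)) (tt N6869 F14855))
theorem Q8957 : ∀ i, i < 8957 → P i := stepQ 8956 Q8956 (allL N8956 (tt N6866 (iv D8956)) (tt N11515 (iv F19326)) (tt N6872 F14856) (tt N11530 D11532) (tt N11524 (iv F19345)) (tt N11531 D11533))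
theorem Q8958 : ∀ i, i < 8958 → P i := stepQ 8957 Q8957 (allL N8957 (tt N11530 (iv F19355)) (tt N6867 F14857) (tt N11532 D11534) (tt N6866 (iv D8957)) (tt N11533 D11535) (tt N11534 D11536))
theorem Q8959 : ∀ i, i < 8959 → P i := stepQ 8958 Q8958 (allL N8958 (tt N11531 (iv F19356)) (tt N6868 F14858) (tt N6874 F14859) (tt N11534 (iv F19360)) (tt N11535 D11537) (tt N6866 (iv D8958)))
theorem Q8960 : ∀ i, i < 8960 → P i := stepQ 8959 Q8959 (allL N8959 (tt N6884 F14860) (tt N9341 (iv F15613)) (tt N6867 (iv D8959)) (tt N6878 F14861) (tt N11536 D11538) (tt N6877 (iv F14862)))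
theorem Q8961 : ∀ i, i < 8961 → P i := stepQ 8960 Q8960 (allL N8960 (tt N11518 (iv F19331)) (tt N11533 (iv F19358)) (tt N11536 (iv F19365)) (tt N11527 (iv F19349)) (tt N6867 (iv D8960)) (tt N11537 D11539))
theorem Q8962 : ∀ i, i < 8962 → P i := stepQ 8961 Q8961 (allL N8961 (tt N6882 F14863) (tt N11534 (iv F19359)) (tt N6877 F14864) (tt N6868 F14865) (tt N11538 D11540) (tt N6867 (iv D8961)))
theorem Q8963 : ∀ i, i < 8963 → P i := stepQ 8962 Q8962 (allL N8962 (tt N11519 (iv F19333)) (tt N11535 (iv F19361)) (tt N6869 F14866) (tt N11539 D11541) (tt N6868 (iv D8962)) (tt N11529 (iv F19354)))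
theorem Q8964 : ∀ i, i < 8964 → P i := stepQ 8963 Q8963 (allL N8963 (tt N6870 (iv D8963)) (tt N8216 F14867) (tt N11524 (iv F19344)) (tt N9379 (iv F15670)) (tt N6872 F14868) (tt N9378 F15668))
theorem Q8965 : ∀ i, i < 8965 → P i := stepQ 8964 Q8964 (allL N8964 (tt N6873 F14869) (tt N10893 (iv F18289)) (tt N11540 D11542) (tt N6872 (iv D8964)) (tt N11541 D11543) (tt N7605 (iv F14870)))
theorem Q8966 : ∀ i, i < 8966 → P i := stepQ 8965 Q8965 (allL N8965 (tt N6874 F14871) (tt N10892 (iv F18286)) (tt N11531 (iv F19357)) (tt N7605 F14872) (tt N11542 D11544) (tt N6872 (iv D8965)))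
theorem Q8967 : ∀ i, i < 8967 → P i := stepQ 8966 Q8966 (allL N8966 (tt N11540 (iv F19368)) (tt N7597 F14873) (tt N6873 (iv D8966)) (tt N11543 D11545) (tt N11544 D11546) (tt N7595 F14874))
theorem Q8968 : ∀ i, i < 8968 → P i := stepQ 8967 Q8967 (allL N8967 (tt N11541 (iv F19370)) (tt N6875 F14875) (tt N11544 (iv F19381)) (tt N7549 F14876) (tt N6873 (iv D8967)) (tt N7543 F14877))
theorem Q8969 : ∀ i, i < 8969 → P i := stepQ 8968 Q8968 (allL N8968 (tt N11542 (iv F19374)) (tt N6876 F14878) (tt N11535 (iv F19362)) (tt N7544 F14879) (tt N6874 (iv D8968)) (tt N7550 F14880))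
theorem Q8970 : ∀ i, i < 8970 → P i := stepQ 8969 Q8969 (allL N8969 (tt N6883 F14881) (tt N9067 (iv F15077)) (tt N11538 (iv F19367)) (tt N8663 F14882) (tt N6877 (iv D8969)) (tt N11545 D11547))
theorem Q8971 : ∀ i, i < 8971 → P i := stepQ 8970 Q8970 (allL N8970 (tt N6880 F14883) (tt N9069 (iv F15082)) (tt N11546 D11548) (tt N6879 (iv D8970)) (tt N8742 F14884) (tt N11547 D11549))
theorem Q8972 : ∀ i, i < 8972 → P i := stepQ 8971 Q8971 (allL N8971 (tt N6881 F14885) (tt N9070 (iv F15085)) (tt N6887 F14886) (tt N11547 (iv F19388)) (tt N8678 F14887) (tt N6879 (iv D8971)))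
theorem Q8973 : ∀ i, i < 8973 → P i := stepQ 8972 Q8972 (allL N8972 (tt N11546 (iv F19385)) (tt N11548 D11550) (tt N6880 (iv D8972)) (tt N11549 D11551) (tt N11550 D11552) (tt N11551 D11553))
theorem Q8974 : ∀ i, i < 8974 → P i := stepQ 8973 Q8973 (allL N8973 (tt N8742 F14888) (tt N6883 F14889) (tt N11550 (iv F19391)) (tt N8664 F14890) (tt N6880 (iv D8973)) (tt N11552 D11554))
theorem Q8975 : ∀ i, i < 8975 → P i := stepQ 8974 Q8974 (allL N8974 (tt N11547 (iv F19387)) (tt N6884 F14891) (tt N11551 (iv F19392)) (tt N6881 F14892) (tt N11553 D11555) (tt N6880 (iv D8974)))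
theorem Q8976 : ∀ i, i < 8976 → P i := stepQ 8975 Q8975 (allL N8975 (tt N11554 D11556) (tt N6882 (iv D8975)) (tt N11548 (iv F19389)) (tt N11517 (iv F19330)) (tt N11555 D11557) (tt N11516 F19328))
theorem Q8977 : ∀ i, i < 8977 → P i := stepQ 8976 Q8976 (allL N8976 (tt N11538 (iv F19366)) (tt N11555 (iv F19398)) (tt N6883 F14893) (tt N11556 D11558) (tt N6882 (iv D8976)) (tt N11557 D11559))
theorem Q8978 : ∀ i, i < 8978 → P i := stepQ 8977 Q8977 (allL N8977 (tt N11545 (iv F19383)) (tt N11552 (iv F19394)) (tt N11557 (iv F19399)) (tt N8665 F14894) (tt N11558 D11560) (tt N6883 (iv D8977)))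
theorem Q8979 : ∀ i, i < 8979 → P i := stepQ 8978 Q8978 (allL N8978 (tt N11536 (iv F19364)) (tt N11553 (iv F19396)) (tt N11518 (iv F19332)) (tt N11559 D11561) (tt N6884 (iv D8978)) (tt N11558 (iv F19400)))
theorem Q8980 : ∀ i, i < 8980 → P i := stepQ 8979 Q8979 (allL N8979 (tt N9407 (iv F15696)) (tt N8683 F14895) (tt N9907 (iv F16541)) (tt N6885 (iv D8979)) (tt N11559 (iv F19402)) (tt N8331 F14896))
theorem Q8981 : ∀ i, i < 8981 → P i := stepQ 8980 Q8980 (allL N8980 (tt N6888 F14897) (tt N11560 D11562) (tt N6886 (iv D8980)) (tt N11561 D11563) (tt N8679 F14898) (tt N10727 (iv F17980)))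
theorem Q8982 : ∀ i, i < 8982 → P i := stepQ 8981 Q8981 (allL N8981 (tt N11561 (iv F19405)) (tt N10726 (iv F17976)) (tt N11562 D11564) (tt N6888 (iv D8981)) (tt N11563 D11565) (tt N10728 (iv F17982)))
theorem Q8983 : ∀ i, i < 8983 → P i := stepQ 8982 Q8982 (allL N8982 (tt N8010 F14899) (tt N11564 D11566) (tt N6889 (iv D8982)) (tt N11565 D11567) (tt N8828 F14900) (tt N11566 D11568))
theorem Q8984 : ∀ i, i < 8984 → P i := stepQ 8983 Q8983 (allL N8983 (tt N8011 F14901) (tt N8829 F14902) (tt N11566 (iv F19413)) (tt N6890 F14903) (tt N11567 D11569) (tt N6889 (iv D8983)))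
theorem Q8985 : ∀ i, i < 8985 → P i := stepQ 8984 Q8984 (allL N8984 (tt N8017 F14904) (tt N7708 F14905) (tt N11568 D11570) (tt N6891 (iv D8984)) (tt N11569 D11571) (tt N11570 D11572))
theorem Q8986 : ∀ i, i < 8986 → P i := stepQ 8985 Q8985 (allL N8985 (tt N8018 F14906) (tt N7709 F14907) (tt N6892 F14908) (tt N11570 (iv F19428)) (tt N7658 F14909) (tt N6891 (iv D8985)))
theorem Q8987 : ∀ i, i < 8987 → P i := stepQ 8986 Q8986 (allL N8986 (tt N8058 F14910) (tt N7707 F14911) (tt N8447 F14912) (tt N11569 (iv F19424)) (tt N6893 (iv D8986)) (tt N11571 D11573))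
theorem Q8988 : ∀ i, i < 8988 → P i := stepQ 8987 Q8987 (allL N8987 (tt N6896 F14913) (tt N11572 D11574) (tt N6894 (iv D8987)) (tt N11573 D11575) (tt N8822 F14914) (tt N11574 D11576))
theorem Q8989 : ∀ i, i < 8989 → P i := stepQ 8988 Q8988 (allL N8988 (tt N6897 F14915) (tt N8825 F14916) (tt N11574 (iv F19439)) (tt N6895 F14917) (tt N11575 D11577) (tt N6894 (iv D8988)))
theorem Q8990 : ∀ i, i < 8990 → P i := stepQ 8989 Q8989 (allL N8989 (tt N11576 D11578) (tt N6896 (iv D8989)) (tt N6898 F14918) (tt N11577 D11579) (tt N11288 (iv F18930)) (tt N11578 D11580))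
theorem Q8991 : ∀ i, i < 8991 → P i := stepQ 8990 Q8990 (allL N8990 (tt N11573 (iv F19435)) (tt N11577 (iv F19446)) (tt N11579 D11581) (tt N6896 (iv D8990)) (tt N11580 D11582) (tt N11581 D11583))
theorem Q8992 : ∀ i, i < 8992 → P i := stepQ 8991 Q8991 (allL N8991 (tt N11574 (iv F19438)) (tt N11578 (iv F19447)) (tt N6897 F14919) (tt N11581 (iv F19454)) (tt N11582 D11584) (tt N6896 (iv D8991)))
theorem Q8993 : ∀ i, i < 8993 → P i := stepQ 8992 Q8992 (allL N8992 (tt N11575 (iv F19441)) (tt N6901 F14920) (tt N11582 (iv F19455)) (tt N8215 F14921) (tt N6897 (iv D8992)) (tt N11291 (iv F18934)))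
theorem Q8994 : ∀ i, i < 8994 → P i := stepQ 8993 Q8993 (allL N8993 (tt N6898 (iv D8993)) (tt N11293 (iv F18937)) (tt N11576 (iv F19445)) (tt N11583 D11585) (tt N11292 (iv F18936)) (tt N11584 D11586))
theorem Q8995 : ∀ i, i < 8995 → P i := stepQ 8994 Q8994 (allL N8994 (tt N11583 (iv F19456)) (tt N6899 F14922) (tt N11585 D11587) (tt N6898 (iv D8994)) (tt N11586 D11588) (tt N7702 (iv F14923)))
theorem Q8996 : ∀ i, i < 8996 → P i := stepQ 8995 Q8995 (allL N8995 (tt N11584 (iv F19458)) (tt N6900 F14924) (tt N11578 (iv F19448)) (tt N7702 F14925) (tt N11587 D11589) (tt N6898 (iv D8995)))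
theorem Q8997 : ∀ i, i < 8997 → P i := stepQ 8996 Q8996 (allL N8996 (tt N7690 F14926) (tt N11586 (iv F19462)) (tt N7703 F14927) (tt N7201 F14928) (tt N6899 (iv D8996)) (tt N7198 F14929))
theorem Q8998 : ∀ i, i < 8998 → P i := stepQ 8997 Q8997 (allL N8997 (tt N7691 F14930) (tt N11587 (iv F19465)) (tt N6901 F14931) (tt N7199 F14932) (tt N6900 (iv D8997)) (tt N7202 F14933))
theorem Q8999 : ∀ i, i < 8999 → P i := stepQ 8998 Q8998 (allL N8998 (tt N6903 F14934) (tt N7693 F14935) (tt N11588 D11590) (tt N6902 (iv D8998)) (tt N7679 F14936) (tt N11589 D11591))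
theorem Q9000 : ∀ i, i < 9000 → P i := stepQ 8999 Q8999 (allL N8999 (tt N6904 F14937) (tt N7706 F14938) (tt N8123 F14939) (tt N11589 (iv F19472)) (tt N7672 F14940) (tt N6902 (iv D8999)))
theorem Q9001 : ∀ i, i < 9001 → P i := stepQ 9000 Q9000 (allL N9000 (tt N11588 (iv F19468)) (tt N11590 D11592) (tt N6903 (iv D9000)) (tt N11591 D11593) (tt N7681 F14941) (tt N11592 D11594))
theorem Q9002 : ∀ i, i < 9002 → P i := stepQ 9001 Q9001 (allL N9001 (tt N11589 (iv F19470)) (tt N6906 F14942) (tt N11592 (iv F19475)) (tt N6904 F14943) (tt N11593 D11595) (tt N6903 (iv D9001)))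
theorem Q9003 : ∀ i, i < 9003 → P i := stepQ 9002 Q9002 (allL N9002 (tt N11594 D11596) (tt N6905 (iv D9002)) (tt N11590 (iv F19473)) (tt N11295 (iv F18943)) (tt N7683 F14944) (tt N11294 F18941))
theorem Q9004 : ∀ i, i < 9004 → P i := stepQ 9003 Q9003 (allL N9003 (tt N7703 F14945) (tt N11593 (iv F19476)) (tt N7690 F14946) (tt N7676 F14947) (tt N6906 (iv D9003)) (tt N7684 F14948))
theorem Q9005 : ∀ i, i < 9005 → P i := stepQ 9004 Q9004 (allL N9004 (tt N7767 F14949) (tt N6907 (iv D9004)) (tt N6917 F14950) (tt N7802 (iv F14952)) (tt N11595 D11597) (tt N7765 F14951))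
theorem Q9006 : ∀ i, i < 9006 → P i := stepQ 9005 Q9005 (allL N9005 (tt N6909 F14953) (tt N7802 F14954) (tt N7004 F14955) (tt N6907 (iv D9005)) (tt N11596 D11598) (tt N7002 F14956))
theorem Q9007 : ∀ i, i < 9007 → P i := stepQ 9006 Q9006 (allL N9006 (tt N6910 F14957) (tt N11595 (iv F19482)) (tt N6908 F14958) (tt N11597 D11599) (tt N6907 (iv D9006)) (tt N11598 D11600))
theorem Q9008 : ∀ i, i < 9008 → P i := stepQ 9007 Q9007 (allL N9007 (tt N6911 F14959) (tt N6921 F14960) (tt N11598 (iv F19489)) (tt N6914 F14961) (tt N7788 F14962) (tt N6908 (iv D9007)))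
theorem Q9009 : ∀ i, i < 9009 → P i := stepQ 9008 Q9008 (allL N9008 (tt N7004 F14963) (tt N7796 F14964) (tt N6909 (iv D9008)) (tt N6995 F14965) (tt N11599 D11601) (tt N6993 F14966))
theorem Q9010 : ∀ i, i < 9010 → P i := stepQ 9009 Q9009 (allL N9009 (tt N11596 (iv F19484)) (tt N7780 F14967) (tt N11599 (iv F19493)) (tt N11600 D11602) (tt N6909 (iv D9009)) (tt N11601 D11603))
theorem Q9011 : ∀ i, i < 9011 → P i := stepQ 9010 Q9010 (allL N9010 (tt N11597 (iv F19487)) (tt N7784 F14968) (tt N11602 D11604) (tt N6910 (iv D9010)) (tt N11600 (iv F19495)) (tt N11603 D11605))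
theorem Q9012 : ∀ i, i < 9012 → P i := stepQ 9011 Q9011 (allL N9011 (tt N11598 (iv F19488)) (tt N7783 F14969) (tt N6911 F14970) (tt N11603 (iv F19499)) (tt N7777 F14971) (tt N6910 (iv D9011)))
theorem Q9013 : ∀ i, i < 9013 → P i := stepQ 9012 Q9012 (allL N9012 (tt N7406 F14972) (tt N11604 D11606) (tt N6912 (iv D9012)) (tt N11605 D11607) (tt N7789 F14973) (tt N6915 F14974))
theorem Q9014 : ∀ i, i < 9014 → P i := stepQ 9013 Q9013 (allL N9013 (tt N11606 D11608) (tt N6913 (iv D9013)) (tt N11604 (iv F19500)) (tt N6958 F14975) (tt N7791 F14976) (tt N6916 F14977))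
theorem Q9015 : ∀ i, i < 9015 → P i := stepQ 9014 Q9014 (allL N9014 (tt N11607 D11609) (tt N6915 (iv D9014)) (tt N6916 F14978) (tt N11608 D11610) (tt N10631 (iv F17792)) (tt N11604 (iv F19502)))
theorem Q9016 : ∀ i, i < 9016 → P i := stepQ 9015 Q9015 (allL N9015 (tt N7405 F14979) (tt N11608 (iv F19512)) (tt N11609 D11611) (tt N6915 (iv D9015)) (tt N11610 D11612) (tt N11605 (iv F19505)))
theorem Q9017 : ∀ i, i < 9017 → P i := stepQ 9016 Q9016 (allL N9016 (tt N6916 (iv D9016)) (tt N6954 F14980) (tt N11607 (iv F19511)) (tt N7795 F14981) (tt N10634 (iv F17798)) (tt N11606 (iv F19509)))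
theorem Q9018 : ∀ i, i < 9018 → P i := stepQ 9017 Q9017 (allL N9017 (tt N6917 (iv D9017)) (tt N6923 F14982) (tt N7767 F14983) (tt N10509 (iv F17594)) (tt N11611 D11613) (tt N7755 (iv F14984)))
theorem Q9019 : ∀ i, i < 9019 → P i := stepQ 9018 Q9018 (allL N9018 (tt N10509 (iv F17592)) (tt N6918 F14985) (tt N7118 F14986) (tt N6917 (iv D9018)) (tt N11612 D11614) (tt N6970 (iv F14987)))
theorem Q9020 : ∀ i, i < 9020 → P i := stepQ 9019 Q9019 (allL N9019 (tt N11611 (iv F19518)) (tt N6919 F14988) (tt N11595 (iv F19483)) (tt N11613 D11615) (tt N6917 (iv D9019)) (tt N11614 D11616))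
theorem Q9021 : ∀ i, i < 9021 → P i := stepQ 9020 Q9020 (allL N9020 (tt N7755 F14989) (tt N6920 F14990) (tt N7765 F14991) (tt N6970 F14992) (tt N11615 D11617) (tt N6917 (iv D9020)))
theorem Q9022 : ∀ i, i < 9022 → P i := stepQ 9021 Q9021 (allL N9021 (tt N6927 F14993) (tt N11612 (iv F19521)) (tt N6973 F14994) (tt N11616 D11618) (tt N6918 (iv D9021)) (tt N11617 D11619))
theorem Q9023 : ∀ i, i < 9023 → P i := stepQ 9022 Q9022 (allL N9022 (tt N6929 F14995) (tt N11613 (iv F19523)) (tt N11618 D11620) (tt N6919 (iv D9022)) (tt N11616 (iv F19529)) (tt N11619 D11621))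
theorem Q9024 : ∀ i, i < 9024 → P i := stepQ 9023 Q9023 (allL N9023 (tt N6930 F14996) (tt N11614 (iv F19524)) (tt N6921 F14997) (tt N11619 (iv F19538)) (tt N11620 D11622) (tt N6919 (iv D9023)))
theorem Q9025 : ∀ i, i < 9025 → P i := stepQ 9024 Q9024 (allL N9024 (tt N6931 F14998) (tt N11615 (iv F19526)) (tt N6922 F14999) (tt N11621 D11623) (tt N6920 (iv D9024)) (tt N11620 (iv F19541)))
theorem Q9026 : ∀ i, i < 9026 → P i := stepQ 9025 Q9025 (allL N9025 (tt N6932 F15000) (tt N7788 F15001) (tt N11620 (iv F19540)) (tt N7411 F15002) (tt N6921 (iv D9025)) (tt N6922 F15003))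
theorem Q9027 : ∀ i, i < 9027 → P i := stepQ 9026 Q9026 (allL N9026 (tt N6925 F15004) (tt N11611 (iv F19519)) (tt N6933 F15005) (tt N11622 D11624) (tt N6923 (iv D9026)) (tt N11623 D11625))
theorem Q9028 : ∀ i, i < 9028 → P i := stepQ 9027 Q9027 (allL N9027 (tt N10510 (iv F17596)) (tt N6927 F15006) (tt N10506 (iv F17586)) (tt N11624 D11626) (tt N6924 (iv D9027)) (tt N11625 D11627))
theorem Q9029 : ∀ i, i < 9029 → P i := stepQ 9028 Q9028 (allL N9028 (tt N11622 (iv F19544)) (tt N6929 F15007) (tt N11626 D11628) (tt N6925 (iv D9028)) (tt N11624 (iv F19549)) (tt N11627 D11629))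
theorem Q9030 : ∀ i, i < 9030 → P i := stepQ 9029 Q9029 (allL N9029 (tt N11623 (iv F19545)) (tt N6930 F15008) (tt N6935 F15009) (tt N11627 (iv F19553)) (tt N7763 F15010) (tt N6925 (iv D9029)))
theorem Q9031 : ∀ i, i < 9031 → P i := stepQ 9030 Q9030 (allL N9030 (tt N7115 F15011) (tt N6926 (iv D9030)) (tt N10504 (iv F17579)) (tt N6966 F15012) (tt N11628 D11630) (tt N6965 F15013))
theorem Q9032 : ∀ i, i < 9032 → P i := stepQ 9031 Q9031 (allL N9031 (tt N6973 F15014) (tt N11628 (iv F19555)) (tt N6927 F15015) (tt N7054 F15016) (tt N6926 (iv D9031)) (tt N11629 D11631))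
theorem Q9033 : ∀ i, i < 9033 → P i := stepQ 9032 Q9032 (allL N9032 (tt N11616 (iv F19528)) (tt N11624 (iv F19548)) (tt N11630 D11632) (tt N6927 (iv D9032)) (tt N6929 F15017) (tt N11631 D11633))
theorem Q9034 : ∀ i, i < 9034 → P i := stepQ 9033 Q9033 (allL N9033 (tt N11617 (iv F19530)) (tt N11625 (iv F19550)) (tt N11629 (iv F19558)) (tt N11631 (iv F19562)) (tt N11632 D11634) (tt N6927 (iv D9033)))
theorem Q9035 : ∀ i, i < 9035 → P i := stepQ 9034 Q9034 (allL N9034 (tt N6971 F15018) (tt N7761 F15019) (tt N6967 F15020) (tt N11633 D11635) (tt N6928 (iv D9034)) (tt N11632 (iv F19566)))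
theorem Q9036 : ∀ i, i < 9036 → P i := stepQ 9035 Q9035 (allL N9035 (tt N11618 (iv F19533)) (tt N11634 D11636) (tt N6929 (iv D9035)) (tt N7372 F15021) (tt N11630 (iv F19561)) (tt N7371 (iv F15022)))
theorem Q9037 : ∀ i, i < 9037 → P i := stepQ 9036 Q9036 (allL N9036 (tt N11619 (iv F19536)) (tt N11627 (iv F19552)) (tt N7371 F15023) (tt N6930 F15024) (tt N11635 D11637) (tt N6929 (iv D9036)))
theorem Q9038 : ∀ i, i < 9038 → P i := stepQ 9037 Q9037 (allL N9037 (tt N11620 (iv F19539)) (tt N7763 F15025) (tt N6932 F15026) (tt N11636 D11638) (tt N6930 (iv D9037)) (tt N6931 F15027))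
theorem Q9039 : ∀ i, i < 9039 → P i := stepQ 9038 Q9038 (allL N9038 (tt N11621 (iv F19542)) (tt N7762 F15028) (tt N11637 D11639) (tt N6931 (iv D9038)) (tt N11633 (iv F19569)) (tt N11636 (iv F19574)))
theorem Q9040 : ∀ i, i < 9040 → P i := stepQ 9039 Q9039 (allL N9039 (tt N6934 F15029) (tt N7772 F15030) (tt N11638 D11640) (tt N6933 (iv D9039)) (tt N7759 F15031) (tt N11639 D11641))
theorem Q9041 : ∀ i, i < 9041 → P i := stepQ 9040 Q9040 (allL N9040 (tt N6935 F15032) (tt N7771 F15033) (tt N11623 (iv F19546)) (tt N11639 (iv F19579)) (tt N7758 F15034) (tt N6933 (iv D9040)))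
theorem Q9042 : ∀ i, i < 9042 → P i := stepQ 9041 Q9041 (allL N9041 (tt N11638 (iv F19575)) (tt N11640 D11642) (tt N6934 (iv D9041)) (tt N11641 D11643) (tt N7764 F15035) (tt N11642 D11644))
theorem Q9043 : ∀ i, i < 9043 → P i := stepQ 9042 Q9042 (allL N9042 (tt N11639 (iv F19577)) (tt N6937 F15036) (tt N11642 (iv F19582)) (tt N6935 F15037) (tt N10479 (iv F17531)) (tt N6934 (iv D9042)))
theorem Q9044 : ∀ i, i < 9044 → P i := stepQ 9043 Q9043 (allL N9043 (tt N11643 D11645) (tt N6936 (iv D9043)) (tt N11640 (iv F19580)) (tt N10637 (iv F17804)) (tt N6955 F15038) (tt N10639 (iv F17811)))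
theorem Q9045 : ∀ i, i < 9045 → P i := stepQ 9044 Q9044 (allL N9044 (tt N11644 D11646) (tt N6939 (iv D9044)) (tt N7436 F15039) (tt N11334 (iv F19020)) (tt N6940 F15040) (tt N11336 (iv F19025)))
theorem Q9046 : ∀ i, i < 9046 → P i := stepQ 9045 Q9045 (allL N9045 (tt N6940 (iv D9045)) (tt N11606 (iv F19506)) (tt N7433 F15041) (tt N10502 (iv F17571)) (tt N11644 (iv F19587)) (tt N6954 F15042))
theorem Q9047 : ∀ i, i < 9047 → P i := stepQ 9046 Q9046 (allL N9046 (tt N9479 (iv F15841)) (tt N11645 D11647) (tt N6941 (iv D9046)) (tt N11646 D11648) (tt N7350 F15043) (tt N11647 D11649))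
theorem Q9048 : ∀ i, i < 9048 → P i := stepQ 9047 Q9047 (allL N9047 (tt N9480 (iv F15842)) (tt N6944 F15044) (tt N11647 (iv F19590)) (tt N6942 F15045) (tt N11648 D11650) (tt N6941 (iv D9047)))
theorem Q9049 : ∀ i, i < 9049 → P i := stepQ 9048 Q9048 (allL N9048 (tt N11649 D11651) (tt N6943 (iv D9048)) (tt N11645 (iv F19588)) (tt N11650 D11652) (tt N7354 F15046) (tt N11651 D11653))
theorem Q9050 : ∀ i, i < 9050 → P i := stepQ 9049 Q9049 (allL N9049 (tt N7371 F15047) (tt N11650 (iv F19596)) (tt N11619 (iv F19537)) (tt N6943 (iv D9049)) (tt N11652 D11654) (tt N11618 F19535))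
theorem Q9051 : ∀ i, i < 9051 → P i := stepQ 9050 Q9050 (allL N9050 (tt N7372 F15048) (tt N11651 (iv F19597)) (tt N6944 F15049) (tt N11618 (iv F19534)) (tt N11653 D11655) (tt N6943 (iv D9050)))
theorem Q9052 : ∀ i, i < 9052 → P i := stepQ 9051 Q9051 (allL N9051 (tt N7373 F15050) (tt N11648 (iv F19591)) (tt N11653 (iv F19601)) (tt N7424 F15051) (tt N6944 (iv D9051)) (tt N7355 F15052))
theorem Q9053 : ∀ i, i < 9053 → P i := stepQ 9052 Q9052 (allL N9052 (tt N11654 D11656) (tt N6945 (iv D9052)) (tt N6947 F15053) (tt N11655 D11657) (tt N10615 (iv F17755)) (tt N11656 D11658))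
theorem Q9054 : ∀ i, i < 9054 → P i := stepQ 9053 Q9053 (allL N9053 (tt N10991 (iv F18461)) (tt N11655 (iv F19604)) (tt N11657 D11659) (tt N6945 (iv D9053)) (tt N11658 D11660) (tt N11659 D11661))
theorem Q9055 : ∀ i, i < 9055 → P i := stepQ 9054 Q9054 (allL N9054 (tt N10992 (iv F18462)) (tt N11656 (iv F19605)) (tt N6946 F15054) (tt N11659 (iv F19607)) (tt N11660 D11662) (tt N6945 (iv D9054)))
theorem Q9056 : ∀ i, i < 9056 → P i := stepQ 9055 Q9055 (allL N9055 (tt N10993 (iv F18464)) (tt N6950 F15055) (tt N11660 (iv F19608)) (tt N8849 F15056) (tt N6946 (iv D9055)) (tt N8850 F15057))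
theorem Q9057 : ∀ i, i < 9057 → P i := stepQ 9056 Q9056 (allL N9056 (tt N6947 (iv D9056)) (tt N10638 (iv F17807)) (tt N11654 (iv F19603)) (tt N11661 D11663) (tt N10617 (iv F17758)) (tt N11662 D11664))
theorem Q9058 : ∀ i, i < 9058 → P i := stepQ 9057 Q9057 (allL N9057 (tt N11661 (iv F19610)) (tt N6948 F15058) (tt N10769 (iv F22996)) (tt N6947 (iv D9057)) (tt N11333 (iv F19019)) (tt N7794 (iv F15059)))
theorem Q9059 : ∀ i, i < 9059 → P i := stepQ 9058 Q9058 (allL N9058 (tt N11662 (iv F19612)) (tt N6949 F15060) (tt N11656 (iv F19606)) (tt N7794 F15061) (tt N10635 (iv F17800)) (tt N6947 (iv D9058)))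
theorem Q9060 : ∀ i, i < 9060 → P i := stepQ 9059 Q9059 (allL N9059 (tt N11663 D11666) (tt N6951 (iv D9059)) (tt N7427 F15062) (tt N10629 (iv F17785)) (tt N11336 (iv F19024)) (tt N6952 F15063))
theorem Q9061 : ∀ i, i < 9061 → P i := stepQ 9060 Q9060 (allL N9060 (tt N6952 (iv D9060)) (tt N10634 (iv F17797)) (tt N7425 F15064) (tt N11664 D11667) (tt N6954 F15065) (tt N11663 (iv F19617)))
theorem Q9062 : ∀ i, i < 9062 → P i := stepQ 9061 Q9061 (allL N9061 (tt N11664 (iv F19618)) (tt N6953 F15066) (tt N11021 (iv F18498)) (tt N6952 (iv D9061)) (tt N10637 (iv F17805)) (tt N10629 (iv F17787)))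
theorem Q9063 : ∀ i, i < 9063 → P i := stepQ 9062 Q9062 (allL N9062 (tt N6955 F15067) (tt N7795 F15068) (tt N11665 D11668) (tt N6954 (iv D9062)) (tt N11643 (iv F19584)) (tt N10502 (iv F17572)))
theorem Q9064 : ∀ i, i < 9064 → P i := stepQ 9063 Q9063 (allL N9063 (tt N11665 (iv F19619)) (tt N7764 F15069) (tt N6955 (iv D9063)) (tt N11666 D11669) (tt N11640 (iv F19581)) (tt N10480 (iv F17533)))
theorem Q9065 : ∀ i, i < 9065 → P i := stepQ 9064 Q9064 (allL N9064 (tt N6957 F15070) (tt N11667 D11670) (tt N6956 (iv D9064)) (tt N6957 F15071) (tt N11326 (iv F19005)) (tt N7773 F15072))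
theorem Q9066 : ∀ i, i < 9066 → P i := stepQ 9065 Q9065 (allL N9065 (tt N11668 D11671) (tt N6957 (iv D9065)) (tt N6958 F15073) (tt N11667 (iv F19621)) (tt N11328 (iv F19010)) (tt N7787 F15074))
theorem Q9067 : ∀ i, i < 9067 → P i := stepQ 9066 Q9066 (allL N9066 (tt N6958 (iv D9066)) (tt N10502 (iv F17570)) (tt N11668 (iv F19623)) (tt N11606 (iv F19507)) (tt N11331 (iv F19013)) (tt N7795 F15075))
theorem Q9068 : ∀ i, i < 9068 → P i := stepQ 9067 Q9067 (allL N9067 (tt N6962 F15076) (tt N8969 F15077) (tt N11669 D11672) (tt N6959 (iv D9067)) (tt N7182 F15078) (tt N11670 D11673))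
theorem Q9069 : ∀ i, i < 9069 → P i := stepQ 9068 Q9068 (allL N9068 (tt N6963 F15079) (tt N11156 (iv F18689)) (tt N6960 F15080) (tt N11670 (iv F19632)) (tt N11319 (iv F19000)) (tt N6959 (iv D9068)))
theorem Q9070 : ∀ i, i < 9070 → P i := stepQ 9069 Q9069 (allL N9069 (tt N7182 F15081) (tt N8970 F15082) (tt N11671 D11674) (tt N6961 (iv D9069)) (tt N6962 F15083) (tt N11672 D11675))
theorem Q9071 : ∀ i, i < 9071 → P i := stepQ 9070 Q9070 (allL N9070 (tt N7183 F15084) (tt N8971 F15085) (tt N7181 F15086) (tt N11672 (iv F19637)) (tt N11172 (iv F18728)) (tt N6961 (iv D9070)))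
theorem Q9072 : ∀ i, i < 9072 → P i := stepQ 9071 Q9071 (allL N9071 (tt N11669 (iv F19625)) (tt N11673 D11676) (tt N6962 (iv D9071)) (tt N11674 D11677) (tt N11671 (iv F19634)) (tt N11675 D11678))
theorem Q9073 : ∀ i, i < 9073 → P i := stepQ 9072 Q9072 (allL N9072 (tt N11670 (iv F19629)) (tt N11258 (iv F18873)) (tt N11675 (iv F19642)) (tt N6963 F15087) (tt N11676 D11679) (tt N6962 (iv D9072)))
theorem Q9074 : ∀ i, i < 9074 → P i := stepQ 9073 Q9073 (allL N9073 (tt N6965 F15088) (tt N6968 F15089) (tt N10525 (iv F17619)) (tt N6964 (iv D9073)) (tt N11677 D11680) (tt N7115 F15090))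
theorem Q9075 : ∀ i, i < 9075 → P i := stepQ 9074 Q9074 (allL N9074 (tt N10525 (iv F17617)) (tt N7760 F15091) (tt N6965 (iv D9074)) (tt N10505 (iv F17584)) (tt N11678 D11681) (tt N10504 F17580))
theorem Q9076 : ∀ i, i < 9076 → P i := stepQ 9075 Q9075 (allL N9075 (tt N11677 (iv F19644)) (tt N6967 F15092) (tt N11678 (iv F19648)) (tt N7415 F15093) (tt N6965 (iv D9075)) (tt N11679 D11682))
theorem Q9077 : ∀ i, i < 9077 → P i := stepQ 9076 Q9076 (allL N9076 (tt N6972 F15094) (tt N11679 (iv F19649)) (tt N11632 (iv F19565)) (tt N7416 F15095) (tt N11629 (iv F19560)) (tt N6967 (iv D9076)))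
theorem Q9078 : ∀ i, i < 9078 → P i := stepQ 9077 Q9077 (allL N9077 (tt N6969 F15096) (tt N11677 (iv F19645)) (tt N7103 F15097) (tt N7440 F15098) (tt N6968 (iv D9077)) (tt N11680 D11683))
theorem Q9079 : ∀ i, i < 9079 → P i := stepQ 9078 Q9078 (allL N9078 (tt N11680 (iv F19651)) (tt N6972 F15099) (tt N10910 (iv F18310)) (tt N7444 F15100) (tt N7120 F15101) (tt N6969 (iv D9078)))
theorem Q9080 : ∀ i, i < 9080 → P i := stepQ 9079 Q9079 (allL N9079 (tt N6970 (iv D9079)) (tt N7756 F15102) (tt N10531 (iv F17629)) (tt N7755 F15103) (tt N11681 D11684) (tt N10509 (iv F17595)))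
theorem Q9081 : ∀ i, i < 9081 → P i := stepQ 9080 Q9080 (allL N9080 (tt N11681 (iv F19655)) (tt N6971 F15104) (tt N10908 (iv F18303)) (tt N11682 D11685) (tt N6970 (iv D9080)) (tt N11683 D11686))
theorem Q9082 : ∀ i, i < 9082 → P i := stepQ 9081 Q9081 (allL N9081 (tt N11633 (iv F19567)) (tt N11682 (iv F19657)) (tt N11684 D11687) (tt N6971 (iv D9081)) (tt N11621 (iv F19543)) (tt N11685 D11688))
theorem Q9083 : ∀ i, i < 9083 → P i := stepQ 9082 Q9082 (allL N9082 (tt N11632 (iv F19563)) (tt N11683 (iv F19658)) (tt N6972 F15105) (tt N11685 (iv F19659)) (tt N11617 (iv F19532)) (tt N6971 (iv D9082)))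
theorem Q9084 : ∀ i, i < 9084 → P i := stepQ 9083 Q9083 (allL N9083 (tt N11629 (iv F19557)) (tt N7120 F15106) (tt N11617 (iv F19531)) (tt N7138 F15107) (tt N6972 (iv D9083)) (tt N6973 F15108))
theorem Q9085 : ∀ i, i < 9085 → P i := stepQ 9084 Q9084 (allL N9084 (tt N7166 F15109) (tt N6976 F15110) (tt N11686 D11689) (tt N6974 (iv D9084)) (tt N7245 F15111) (tt N7798 F15112))
theorem Q9086 : ∀ i, i < 9086 → P i := stepQ 9085 Q9085 (allL N9085 (tt N6978 F15113) (tt N7245 F15114) (tt N11687 D11690) (tt N6975 (iv D9085)) (tt N6976 F15115) (tt N11688 D11691))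
theorem Q9087 : ∀ i, i < 9087 → P i := stepQ 9086 Q9086 (allL N9086 (tt N6979 F15116) (tt N7246 F15117) (tt N11172 (iv F18727)) (tt N11688 (iv F19667)) (tt N7181 F15118) (tt N6975 (iv D9086)))
theorem Q9088 : ∀ i, i < 9088 → P i := stepQ 9087 Q9087 (allL N9087 (tt N6980 F15119) (tt N11689 D11692) (tt N6976 (iv D9087)) (tt N6980 F15120) (tt N11687 (iv F19664)) (tt N7801 F15121))
theorem Q9089 : ∀ i, i < 9089 → P i := stepQ 9088 Q9088 (allL N9088 (tt N11171 (iv F18722)) (tt N7243 F15122) (tt N11690 D11693) (tt N6977 (iv D9088)) (tt N11318 (iv F18996)) (tt N11691 D11694))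
theorem Q9090 : ∀ i, i < 9090 → P i := stepQ 9089 Q9089 (allL N9089 (tt N11172 (iv F18725)) (tt N7244 F15123) (tt N6979 F15124) (tt N11691 (iv F19672)) (tt N7183 F15125) (tt N6977 (iv D9089)))
theorem Q9091 : ∀ i, i < 9091 → P i := stepQ 9090 Q9090 (allL N9090 (tt N11687 (iv F19663)) (tt N11692 D11695) (tt N6978 (iv D9090)) (tt N11693 D11696) (tt N6980 F15126) (tt N11694 D11697))
theorem Q9092 : ∀ i, i < 9092 → P i := stepQ 9091 Q9091 (allL N9091 (tt N11688 (iv F19665)) (tt N7171 F15127) (tt N11694 (iv F19677)) (tt N6979 F15128) (tt N7807 F15129) (tt N6978 (iv D9091)))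
theorem Q9093 : ∀ i, i < 9093 → P i := stepQ 9092 Q9092 (allL N9092 (tt N11695 D11698) (tt N6980 (iv D9092)) (tt N7172 F15130) (tt N11689 (iv F19669)) (tt N11692 (iv F19674)) (tt N7808 F15131))
theorem Q9094 : ∀ i, i < 9094 → P i := stepQ 9093 Q9093 (allL N9093 (tt N7156 F15132) (tt N6982 F15133) (tt N11696 D11699) (tt N6981 (iv D9093)) (tt N10668 (iv F17865)) (tt N7811 F15134))
theorem Q9095 : ∀ i, i < 9095 → P i := stepQ 9094 Q9094 (allL N9094 (tt N6985 F15135) (tt N11697 D11700) (tt N6982 (iv D9094)) (tt N7281 F15136) (tt N10670 (iv F17871)) (tt N7280 F15137))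
theorem Q9096 : ∀ i, i < 9096 → P i := stepQ 9095 Q9095 (allL N9095 (tt N10670 (iv F17870)) (tt N11698 D11701) (tt N6983 (iv D9095)) (tt N11699 D11702) (tt N6985 F15138) (tt N11700 D11703))
theorem Q9097 : ∀ i, i < 9097 → P i := stepQ 9096 Q9096 (allL N9096 (tt N10671 (iv F17872)) (tt N7164 F15139) (tt N11700 (iv F19689)) (tt N6984 F15140) (tt N7820 F15141) (tt N6983 (iv D9096)))
theorem Q9098 : ∀ i, i < 9098 → P i := stepQ 9097 Q9097 (allL N9097 (tt N11701 D11704) (tt N6985 (iv D9097)) (tt N7165 F15142) (tt N11702 D11705) (tt N11698 (iv F19686)) (tt N7822 F15143))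
theorem Q9099 : ∀ i, i < 9099 → P i := stepQ 9098 Q9098 (allL N9098 (tt N7281 F15144) (tt N11702 (iv F19694)) (tt N7276 F15145) (tt N6985 (iv D9098)) (tt N11703 D11706) (tt N7275 F15146))
theorem Q9100 : ∀ i, i < 9100 → P i := stepQ 9099 Q9099 (allL N9099 (tt N10577 (iv F17701)) (tt N6987 F15147) (tt N10850 (iv F18212)) (tt N7810 F15148) (tt N10669 (iv F17869)) (tt N6986 (iv D9099)))
theorem Q9101 : ∀ i, i < 9101 → P i := stepQ 9100 Q9100 (allL N9100 (tt N10842 (iv F18196)) (tt N6990 F15149) (tt N11704 D11707) (tt N6989 (iv D9100)) (tt N9597 (iv F16048)) (tt N11705 D11708))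
theorem Q9102 : ∀ i, i < 9102 → P i := stepQ 9101 Q9101 (allL N9101 (tt N10843 (iv F18199)) (tt N6991 F15150) (tt N10569 (iv F17690)) (tt N11705 (iv F19699)) (tt N9959 (iv F16620)) (tt N6989 (iv D9101)))
theorem Q9103 : ∀ i, i < 9103 → P i := stepQ 9102 Q9102 (allL N9102 (tt N9599 (iv F16050)) (tt N11706 D11709) (tt N6990 (iv D9102)) (tt N11707 D11710) (tt N9564 F15999) (tt N11708 D11711))
theorem Q9104 : ∀ i, i < 9104 → P i := stepQ 9103 Q9103 (allL N9103 (tt N9600 (iv F16052)) (tt N11705 (iv F19698)) (tt N11708 (iv F19705)) (tt N6991 F15151) (tt N11709 D11712) (tt N6990 (iv D9103)))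
theorem Q9105 : ∀ i, i < 9105 → P i := stepQ 9104 Q9104 (allL N9104 (tt N6992 (iv D9104)) (tt N6999 F15152) (tt N7037 F15153) (tt N7177 F15155) (tt N11710 D11713) (tt N7026 (iv F15154)))
theorem Q9106 : ∀ i, i < 9106 → P i := stepQ 9105 Q9105 (allL N9105 (tt N7177 F15156) (tt N6993 F15157) (tt N7176 F15158) (tt N6992 (iv D9105)) (tt N11275 (iv F18898)) (tt N7796 (iv F15159)))
theorem Q9107 : ∀ i, i < 9107 → P i := stepQ 9106 Q9106 (allL N9106 (tt N11710 (iv F19710)) (tt N6994 F15160) (tt N7039 F15161) (tt N11711 D11714) (tt N6992 (iv D9106)) (tt N11712 D11715))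
theorem Q9108 : ∀ i, i < 9108 → P i := stepQ 9107 Q9107 (allL N9107 (tt N7026 F15162) (tt N6995 F15163) (tt N7040 F15164) (tt N7796 F15165) (tt N11713 D11716) (tt N6992 (iv D9107)))
theorem Q9109 : ∀ i, i < 9109 → P i := stepQ 9108 Q9108 (allL N9108 (tt N7003 F15166) (tt N11275 (iv F18897)) (tt N7775 F15167) (tt N11714 D11717) (tt N6993 (iv D9108)) (tt N11715 D11718))
theorem Q9110 : ∀ i, i < 9110 → P i := stepQ 9109 Q9109 (allL N9109 (tt N7005 F15168) (tt N11711 (iv F19713)) (tt N9945 (iv F16604)) (tt N6994 (iv D9109)) (tt N11714 (iv F19728)) (tt N9943 F16602))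
theorem Q9111 : ∀ i, i < 9111 → P i := stepQ 9110 Q9110 (allL N9110 (tt N7006 F15169) (tt N11712 (iv F19721)) (tt N6996 F15170) (tt N9943 (iv F16601)) (tt N11716 D11719) (tt N6994 (iv D9110)))
theorem Q9112 : ∀ i, i < 9112 → P i := stepQ 9111 Q9111 (allL N9111 (tt N7007 F15171) (tt N11713 (iv F19724)) (tt N6997 F15172) (tt N11717 D11720) (tt N6995 (iv D9111)) (tt N11716 (iv F19734)))
theorem Q9113 : ∀ i, i < 9113 → P i := stepQ 9112 Q9112 (allL N9112 (tt N7008 F15173) (tt N7045 F15174) (tt N11716 (iv F19733)) (tt N7226 F15175) (tt N6996 (iv D9112)) (tt N6997 F15176))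
theorem Q9114 : ∀ i, i < 9114 → P i := stepQ 9113 Q9113 (allL N9113 (tt N7009 F15177) (tt N7046 F15178) (tt N11718 D11721) (tt N6997 (iv D9113)) (tt N6998 F15179) (tt N7226 F15180))
theorem Q9115 : ∀ i, i < 9115 → P i := stepQ 9114 Q9114 (allL N9114 (tt N7010 F15181) (tt N7434 F15182) (tt N6998 (iv D9114)) (tt N11609 (iv F19514)) (tt N11718 (iv F19738)) (tt N7014 F15183))
theorem Q9116 : ∀ i, i < 9116 → P i := stepQ 9115 Q9115 (allL N9115 (tt N7000 F15184) (tt N7177 F15185) (tt N7021 F15186) (tt N6999 (iv D9115)) (tt N11277 (iv F18906)) (tt N7027 F15187))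
theorem Q9117 : ∀ i, i < 9117 → P i := stepQ 9116 Q9116 (allL N9116 (tt N7001 F15188) (tt N11710 (iv F19711)) (tt N7011 F15189) (tt N11719 D11722) (tt N6999 (iv D9116)) (tt N11720 D11723))
theorem Q9118 : ∀ i, i < 9118 → P i := stepQ 9117 Q9117 (allL N9117 (tt N7021 F15190) (tt N7189 (iv F15193)) (tt N7000 (iv D9117)) (tt N7018 F15191) (tt N11281 (iv F18916)) (tt N7031 F15192))
theorem Q9119 : ∀ i, i < 9119 → P i := stepQ 9118 Q9118 (allL N9118 (tt N11277 (iv F18904)) (tt N7003 F15194) (tt N11281 (iv F18915)) (tt N11721 D11724) (tt N7000 (iv D9118)) (tt N11722 D11725))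
theorem Q9120 : ∀ i, i < 9120 → P i := stepQ 9119 Q9119 (allL N9119 (tt N11719 (iv F19740)) (tt N7005 F15195) (tt N11723 D11726) (tt N7001 (iv D9119)) (tt N11721 (iv F19745)) (tt N11724 D11727))
theorem Q9121 : ∀ i, i < 9121 → P i := stepQ 9120 Q9120 (allL N9120 (tt N11720 (iv F19741)) (tt N7006 F15196) (tt N7013 F15197) (tt N11724 (iv F19749)) (tt N7034 F15198) (tt N7001 (iv D9120)))
theorem Q9122 : ∀ i, i < 9122 → P i := stepQ 9121 Q9121 (allL N9121 (tt N7186 F15199) (tt N7002 (iv D9121)) (tt N7189 F15200) (tt N7765 F15201) (tt N11725 D11728) (tt N7802 F15202))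
theorem Q9123 : ∀ i, i < 9123 → P i := stepQ 9122 Q9122 (allL N9122 (tt N7775 F15203) (tt N11725 (iv F19751)) (tt N7003 F15204) (tt N11726 D11729) (tt N7002 (iv D9122)) (tt N11727 D11730))
theorem Q9124 : ∀ i, i < 9124 → P i := stepQ 9123 Q9123 (allL N9123 (tt N11714 (iv F19726)) (tt N11721 (iv F19744)) (tt N11728 D11731) (tt N7003 (iv D9123)) (tt N7005 F15205) (tt N11729 D11732))
theorem Q9125 : ∀ i, i < 9125 → P i := stepQ 9124 Q9124 (allL N9124 (tt N11715 (iv F19730)) (tt N11722 (iv F19746)) (tt N11727 (iv F19756)) (tt N11729 (iv F19759)) (tt N11730 D11733) (tt N7003 (iv D9124)))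
theorem Q9126 : ∀ i, i < 9126 → P i := stepQ 9125 Q9125 (allL N9125 (tt N11599 (iv F19491)) (tt N7032 F15206) (tt N11596 (iv F19486)) (tt N11731 D11734) (tt N7004 (iv D9125)) (tt N11730 (iv F19761)))
theorem Q9127 : ∀ i, i < 9127 → P i := stepQ 9126 Q9126 (allL N9126 (tt N9945 (iv F16603)) (tt N11732 D11735) (tt N7005 (iv D9126)) (tt N9938 (iv F16593)) (tt N11728 (iv F19758)) (tt N9937 F16590))
theorem Q9128 : ∀ i, i < 9128 → P i := stepQ 9127 Q9127 (allL N9127 (tt N9943 (iv F16600)) (tt N11724 (iv F19748)) (tt N9937 (iv F16589)) (tt N7006 F15207) (tt N11733 D11736) (tt N7005 (iv D9127)))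
theorem Q9129 : ∀ i, i < 9129 → P i := stepQ 9128 Q9128 (allL N9128 (tt N11716 (iv F19732)) (tt N7034 F15208) (tt N7008 F15209) (tt N11734 D11737) (tt N7006 (iv D9128)) (tt N7007 F15210))
theorem Q9130 : ∀ i, i < 9130 → P i := stepQ 9129 Q9129 (allL N9129 (tt N11717 (iv F19735)) (tt N7033 F15211) (tt N11735 D11738) (tt N7007 (iv D9129)) (tt N11731 (iv F19763)) (tt N11734 (iv F19765)))
theorem Q9131 : ∀ i, i < 9131 → P i := stepQ 9130 Q9130 (allL N9130 (tt N11718 (iv F19736)) (tt N10443 (iv F17463)) (tt N7009 (iv D9130)) (tt N11736 D11739) (tt N7010 F15212) (tt N7233 F15213))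
theorem Q9132 : ∀ i, i < 9132 → P i := stepQ 9131 Q9131 (allL N9131 (tt N11609 (iv F19513)) (tt N10588 (iv F17718)) (tt N7405 F15215) (tt N7010 (iv D9131)) (tt N11737 D11740) (tt N7016 F15214))
theorem Q9133 : ∀ i, i < 9133 → P i := stepQ 9132 Q9132 (allL N9132 (tt N7012 F15216) (tt N7065 F15217) (tt N11738 D11741) (tt N7011 (iv D9132)) (tt N7030 F15218) (tt N10191 (iv F17006)))
theorem Q9134 : ∀ i, i < 9134 → P i := stepQ 9133 Q9133 (allL N9133 (tt N7013 F15219) (tt N7066 F15220) (tt N11720 (iv F19742)) (tt N10191 (iv F17005)) (tt N7029 F15221) (tt N7011 (iv D9133)))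
theorem Q9135 : ∀ i, i < 9135 → P i := stepQ 9134 Q9134 (allL N9134 (tt N11738 (iv F19768)) (tt N10411 (iv F17414)) (tt N7012 (iv D9134)) (tt N11739 D11742) (tt N7035 F15222) (tt N10199 (iv F17024)))
theorem Q9136 : ∀ i, i < 9136 → P i := stepQ 9135 Q9135 (allL N9135 (tt N11740 D11743) (tt N7014 (iv D9135)) (tt N7076 F15223) (tt N11741 D11744) (tt N7223 F15224) (tt N7434 F15225))
theorem Q9137 : ∀ i, i < 9137 → P i := stepQ 9136 Q9136 (allL N9136 (tt N7016 F15226) (tt N11741 (iv F19774)) (tt N11605 (iv F19504)) (tt N7014 (iv D9136)) (tt N11742 D11745) (tt N11609 (iv F19515)))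
theorem Q9138 : ∀ i, i < 9138 → P i := stepQ 9137 Q9137 (allL N9137 (tt N7015 (iv D9137)) (tt N11740 (iv F19770)) (tt N7017 F15227) (tt N11743 D11746) (tt N7227 F15228) (tt N10587 (iv F17717)))
theorem Q9139 : ∀ i, i < 9139 → P i := stepQ 9138 Q9138 (allL N9138 (tt N11743 (iv F19778)) (tt N7016 F15229) (tt N11744 D11747) (tt N7015 (iv D9138)) (tt N11745 D11748) (tt N10588 (iv F17719)))
theorem Q9140 : ∀ i, i < 9140 → P i := stepQ 9139 Q9139 (allL N9139 (tt N11605 (iv F19503)) (tt N11746 D11749) (tt N7016 (iv D9139)) (tt N7406 F15231) (tt N11747 D11750) (tt N7405 F15230))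
theorem Q9141 : ∀ i, i < 9141 → P i := stepQ 9140 Q9140 (allL N9140 (tt N11742 (iv F19776)) (tt N11745 (iv F19779)) (tt N11747 (iv F19783)) (tt N7231 F15232) (tt N7016 (iv D9140)) (tt N11748 D11751))
theorem Q9142 : ∀ i, i < 9142 → P i := stepQ 9141 Q9141 (allL N9141 (tt N7190 F15233) (tt N7018 (iv D9141)) (tt N7728 F15234) (tt N7189 F15235) (tt N11749 D11752) (tt N7194 F15236))
theorem Q9143 : ∀ i, i < 9143 → P i := stepQ 9142 Q9142 (allL N9142 (tt N7022 F15237) (tt N11749 (iv F19786)) (tt N7019 F15238) (tt N11750 D11753) (tt N7018 (iv D9142)) (tt N11751 D11754))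
theorem Q9144 : ∀ i, i < 9144 → P i := stepQ 9143 Q9143 (allL N9143 (tt N7023 F15239) (tt N7731 F15240) (tt N11751 (iv F19792)) (tt N10214 (iv F17053)) (tt N7740 F15241) (tt N7019 (iv D9143)))
theorem Q9145 : ∀ i, i < 9145 → P i := stepQ 9144 Q9144 (allL N9144 (tt N7024 F15242) (tt N7732 F15243) (tt N11752 D11755) (tt N7020 (iv D9144)) (tt N7739 F15244) (tt N10202 (iv F17033)))
theorem Q9146 : ∀ i, i < 9146 → P i := stepQ 9145 Q9145 (allL N9145 (tt N11750 (iv F19789)) (tt N7202 F15245) (tt N11753 D11756) (tt N7022 (iv D9145)) (tt N11282 (iv F18918)) (tt N11587 (iv F19467)))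
theorem Q9147 : ∀ i, i < 9147 → P i := stepQ 9146 Q9146 (allL N9146 (tt N11751 (iv F19790)) (tt N7199 F15246) (tt N7023 F15247) (tt N11587 (iv F19466)) (tt N7197 F15248) (tt N7022 (iv D9146)))
theorem Q9148 : ∀ i, i < 9148 → P i := stepQ 9147 Q9147 (allL N9147 (tt N11752 (iv F19794)) (tt N11754 D11757) (tt N7024 (iv D9147)) (tt N11755 D11758) (tt N7741 F15249) (tt N10203 (iv F17034)))
theorem Q9149 : ∀ i, i < 9149 → P i := stepQ 9148 Q9148 (allL N9148 (tt N11756 D11759) (tt N7025 (iv D9148)) (tt N11754 (iv F19796)) (tt N10217 (iv F17055)) (tt N7743 F15250) (tt N10217 (iv F17056)))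
theorem Q9150 : ∀ i, i < 9150 → P i := stepQ 9149 Q9149 (allL N9149 (tt N7796 F15251) (tt N7027 F15252) (tt N7178 F15253) (tt N7026 (iv D9149)) (tt N11757 D11760) (tt N7177 F15254))
theorem Q9151 : ∀ i, i < 9151 → P i := stepQ 9150 Q9150 (allL N9150 (tt N11713 (iv F19723)) (tt N7028 F15255) (tt N10275 (iv F17181)) (tt N11758 D11761) (tt N7026 (iv D9150)) (tt N11759 D11762))
theorem Q9152 : ∀ i, i < 9152 → P i := stepQ 9151 Q9151 (allL N9151 (tt N7032 F15256) (tt N11757 (iv F19801)) (tt N7200 F15257) (tt N11760 D11763) (tt N7027 (iv D9151)) (tt N11761 D11764))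
theorem Q9153 : ∀ i, i < 9153 → P i := stepQ 9152 Q9152 (allL N9152 (tt N7033 F15258) (tt N11758 (iv F19803)) (tt N11762 D11765) (tt N7028 (iv D9152)) (tt N11760 (iv F19806)) (tt N11763 D11766))
theorem Q9154 : ∀ i, i < 9154 → P i := stepQ 9153 Q9153 (allL N9153 (tt N7034 F15259) (tt N11759 (iv F19804)) (tt N7029 F15260) (tt N11763 (iv F19815)) (tt N11720 (iv F19743)) (tt N7028 (iv D9153)))
theorem Q9155 : ∀ i, i < 9155 → P i := stepQ 9154 Q9154 (allL N9154 (tt N7035 F15261) (tt N11764 D11767) (tt N7030 (iv D9154)) (tt N11765 D11768) (tt N11738 (iv F19769)) (tt N10189 F17000))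
theorem Q9156 : ∀ i, i < 9156 → P i := stepQ 9155 Q9155 (allL N9155 (tt N7191 F15262) (tt N7031 (iv D9155)) (tt N7802 F15263) (tt N7194 F15264) (tt N11766 D11769) (tt N7189 F15265))
theorem Q9157 : ∀ i, i < 9157 → P i := stepQ 9156 Q9156 (allL N9156 (tt N7200 F15266) (tt N11766 (iv F19818)) (tt N7032 F15267) (tt N11767 D11770) (tt N7031 (iv D9156)) (tt N11768 D11771))
theorem Q9158 : ∀ i, i < 9158 → P i := stepQ 9157 Q9157 (allL N9157 (tt N11760 (iv F19805)) (tt N11731 (iv F19762)) (tt N11769 D11772) (tt N7032 (iv D9157)) (tt N7033 F15268) (tt N11770 D11773))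
theorem Q9159 : ∀ i, i < 9159 → P i := stepQ 9158 Q9158 (allL N9158 (tt N11761 (iv F19807)) (tt N11730 (iv F19760)) (tt N11768 (iv F19825)) (tt N11770 (iv F19830)) (tt N11722 (iv F19747)) (tt N7032 (iv D9158)))
theorem Q9160 : ∀ i, i < 9160 → P i := stepQ 9159 Q9159 (allL N9159 (tt N11762 (iv F19809)) (tt N11771 D11774) (tt N7033 (iv D9159)) (tt N11772 D11775) (tt N11769 (iv F19827)) (tt N11773 D11776))
theorem Q9161 : ∀ i, i < 9161 → P i := stepQ 9160 Q9160 (allL N9160 (tt N11763 (iv F19814)) (tt N11734 (iv F19764)) (tt N11773 (iv F19838)) (tt N7034 F15269) (tt N11774 D11777) (tt N7033 (iv D9160)))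
theorem Q9162 : ∀ i, i < 9162 → P i := stepQ 9161 Q9161 (allL N9161 (tt N11775 D11778) (tt N7035 (iv D9161)) (tt N7036 F15270) (tt N11776 D11779) (tt N10411 (iv F17416)) (tt N10194 F17016))
theorem Q9163 : ∀ i, i < 9163 → P i := stepQ 9162 Q9162 (allL N9162 (tt N11765 (iv F19816)) (tt N11776 (iv F19840)) (tt N11777 D11780) (tt N7035 (iv D9162)) (tt N11778 D11781) (tt N10198 (iv F17021)))
theorem Q9164 : ∀ i, i < 9164 → P i := stepQ 9163 Q9163 (allL N9163 (tt N7036 (iv D9163)) (tt N10287 (iv F17205)) (tt N11775 (iv F19839)) (tt N10274 (iv F17178)) (tt N10406 (iv F17408)) (tt N10200 F17027))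
theorem Q9165 : ∀ i, i < 9165 → P i := stepQ 9164 Q9164 (allL N9164 (tt N7038 F15271) (tt N7047 F15272) (tt N7142 F15273) (tt N7037 (iv D9164)) (tt N11779 D11782) (tt N7132 F15274))
theorem Q9166 : ∀ i, i < 9166 → P i := stepQ 9165 Q9165 (allL N9165 (tt N7039 F15275) (tt N7048 F15276) (tt N11710 (iv F19712)) (tt N11780 D11783) (tt N7037 (iv D9165)) (tt N11781 D11784))
theorem Q9167 : ∀ i, i < 9167 → P i := stepQ 9166 Q9166 (allL N9166 (tt N11779 (iv F19841)) (tt N7041 F15277) (tt N7752 F15278) (tt N11782 D11785) (tt N7038 (iv D9166)) (tt N11783 D11786))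
theorem Q9168 : ∀ i, i < 9168 → P i := stepQ 9167 Q9167 (allL N9167 (tt N11780 (iv F19844)) (tt N7042 F15279) (tt N11784 D11787) (tt N7039 (iv D9167)) (tt N11782 (iv F19849)) (tt N11785 D11788))
theorem Q9169 : ∀ i, i < 9169 → P i := stepQ 9168 Q9168 (allL N9168 (tt N11781 (iv F19846)) (tt N7043 F15280) (tt N11712 (iv F19722)) (tt N11785 (iv F19854)) (tt N11786 D11789) (tt N7039 (iv D9168)))
theorem Q9170 : ∀ i, i < 9170 → P i := stepQ 9169 Q9169 (allL N9169 (tt N10275 (iv F17179)) (tt N7044 F15281) (tt N11713 (iv F19725)) (tt N11787 D11790) (tt N7040 (iv D9169)) (tt N11786 (iv F19856)))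
theorem Q9171 : ∀ i, i < 9171 → P i := stepQ 9170 Q9170 (allL N9170 (tt N7055 F15282) (tt N11782 (iv F19848)) (tt N11788 D11791) (tt N7041 (iv D9170)) (tt N7042 F15283) (tt N11789 D11792))
theorem Q9172 : ∀ i, i < 9172 → P i := stepQ 9171 Q9171 (allL N9171 (tt N7056 F15284) (tt N11783 (iv F19850)) (tt N7138 F15285) (tt N11789 (iv F19862)) (tt N7135 F15286) (tt N7041 (iv D9171)))
theorem Q9173 : ∀ i, i < 9173 → P i := stepQ 9172 Q9172 (allL N9172 (tt N7058 F15287) (tt N11790 D11793) (tt N7042 (iv D9172)) (tt N7085 F15288) (tt N11788 (iv F19860)) (tt N7084 (iv F15289)))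
theorem Q9174 : ∀ i, i < 9174 → P i := stepQ 9173 Q9173 (allL N9173 (tt N7059 F15290) (tt N11785 (iv F19853)) (tt N7084 F15291) (tt N7043 F15292) (tt N11791 D11794) (tt N7042 (iv D9173)))
theorem Q9175 : ∀ i, i < 9175 → P i := stepQ 9174 Q9174 (allL N9174 (tt N7060 F15293) (tt N11786 (iv F19855)) (tt N7045 F15294) (tt N11792 D11795) (tt N7043 (iv D9174)) (tt N7044 F15295))
theorem Q9176 : ∀ i, i < 9176 → P i := stepQ 9175 Q9175 (allL N9175 (tt N7061 F15296) (tt N11787 (iv F19857)) (tt N11793 D11796) (tt N7044 (iv D9175)) (tt N7134 F15297) (tt N11792 (iv F19868)))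
theorem Q9177 : ∀ i, i < 9177 → P i := stepQ 9176 Q9176 (allL N9176 (tt N7062 F15298) (tt N7226 F15299) (tt N7437 (iv F15302)) (tt N7045 (iv D9176)) (tt N7074 F15300) (tt N7046 F15301))
theorem Q9178 : ∀ i, i < 9178 → P i := stepQ 9177 Q9177 (allL N9177 (tt N7050 F15303) (tt N11779 (iv F19842)) (tt N10260 (iv F17163)) (tt N11794 D11797) (tt N7047 (iv D9177)) (tt N11795 D11798))
theorem Q9179 : ∀ i, i < 9179 → P i := stepQ 9178 Q9178 (allL N9178 (tt N7051 F15304) (tt N11780 (iv F19845)) (tt N11796 D11799) (tt N7048 (iv D9178)) (tt N11794 (iv F19872)) (tt N11797 D11800))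
theorem Q9180 : ∀ i, i < 9180 → P i := stepQ 9179 Q9179 (allL N9179 (tt N7052 F15305) (tt N11781 (iv F19847)) (tt N7066 F15306) (tt N11797 (iv F19876)) (tt N10278 (iv F17188)) (tt N7048 (iv D9179)))
theorem Q9181 : ∀ i, i < 9181 → P i := stepQ 9180 Q9180 (allL N9180 (tt N7146 F15307) (tt N7049 (iv D9180)) (tt N7053 F15308) (tt N10256 (iv F17149)) (tt N11798 D11801) (tt N7123 F15309))
theorem Q9182 : ∀ i, i < 9182 → P i := stepQ 9181 Q9181 (allL N9181 (tt N10260 (iv F17161)) (tt N11798 (iv F19878)) (tt N7050 F15310) (tt N11799 D11802) (tt N7049 (iv D9181)) (tt N11800 D11803))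
theorem Q9183 : ∀ i, i < 9183 → P i := stepQ 9182 Q9182 (allL N9182 (tt N11794 (iv F19871)) (tt N7055 F15311) (tt N11801 D11804) (tt N7050 (iv D9182)) (tt N7051 F15312) (tt N11802 D11805))
theorem Q9184 : ∀ i, i < 9184 → P i := stepQ 9183 Q9183 (allL N9183 (tt N11795 (iv F19873)) (tt N7056 F15313) (tt N11800 (iv F19880)) (tt N11802 (iv F19883)) (tt N10282 (iv F17198)) (tt N7050 (iv D9183)))
theorem Q9185 : ∀ i, i < 9185 → P i := stepQ 9184 Q9184 (allL N9184 (tt N11796 (iv F19874)) (tt N11803 D11806) (tt N7051 (iv D9184)) (tt N11804 D11807) (tt N11801 (iv F19881)) (tt N11805 D11808))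
theorem Q9186 : ∀ i, i < 9186 → P i := stepQ 9185 Q9185 (allL N9185 (tt N11797 (iv F19875)) (tt N7059 F15314) (tt N11805 (iv F19885)) (tt N7052 F15315) (tt N11806 D11809) (tt N7051 (iv D9185)))
theorem Q9187 : ∀ i, i < 9187 → P i := stepQ 9186 Q9186 (allL N9186 (tt N7750 F15316) (tt N7054 F15317) (tt N11798 (iv F19879)) (tt N11628 (iv F19556)) (tt N7053 (iv D9186)) (tt N11807 D11810))
theorem Q9188 : ∀ i, i < 9188 → P i := stepQ 9187 Q9187 (allL N9187 (tt N7138 F15318) (tt N11807 (iv F19888)) (tt N7056 F15319) (tt N11629 (iv F19559)) (tt N7127 F15320) (tt N7054 (iv D9187)))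
theorem Q9189 : ∀ i, i < 9189 → P i := stepQ 9188 Q9188 (allL N9188 (tt N11788 (iv F19859)) (tt N11808 D11811) (tt N7055 (iv D9188)) (tt N11809 D11812) (tt N7058 F15321) (tt N11810 D11813))
theorem Q9190 : ∀ i, i < 9190 → P i := stepQ 9189 Q9189 (allL N9189 (tt N11789 (iv F19861)) (tt N11802 (iv F19882)) (tt N11810 (iv F19891)) (tt N7056 F15322) (tt N11811 D11814) (tt N7055 (iv D9189)))
theorem Q9191 : ∀ i, i < 9191 → P i := stepQ 9190 Q9190 (allL N9190 (tt N7135 F15323) (tt N10282 (iv F17197)) (tt N7127 F15324) (tt N11812 D11815) (tt N7056 (iv D9190)) (tt N7057 F15325))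
theorem Q9192 : ∀ i, i < 9192 → P i := stepQ 9191 Q9191 (allL N9191 (tt N7134 F15326) (tt N10281 (iv F17195)) (tt N11813 D11816) (tt N7057 (iv D9191)) (tt N7061 F15327) (tt N11812 (iv F19894)))
theorem Q9193 : ∀ i, i < 9193 → P i := stepQ 9192 Q9192 (allL N9192 (tt N11814 D11817) (tt N7058 (iv D9192)) (tt N11803 (iv F19884)) (tt N11815 D11818) (tt N11808 (iv F19890)) (tt N11816 D11819))
theorem Q9194 : ∀ i, i < 9194 → P i := stepQ 9193 Q9193 (allL N9193 (tt N7085 F15328) (tt N11815 (iv F19897)) (tt N7073 F15329) (tt N7058 (iv D9193)) (tt N11817 D11820) (tt N7072 F15330))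
theorem Q9195 : ∀ i, i < 9195 → P i := stepQ 9194 Q9194 (allL N9194 (tt N7084 F15331) (tt N11816 (iv F19899)) (tt N7059 F15332) (tt N7072 F15333) (tt N11818 D11821) (tt N7058 (iv D9194)))
theorem Q9196 : ∀ i, i < 9196 → P i := stepQ 9195 Q9195 (allL N9195 (tt N11791 (iv F19865)) (tt N11806 (iv F19886)) (tt N11818 (iv F19905)) (tt N11819 D11822) (tt N7059 (iv D9195)) (tt N11811 (iv F19892)))
theorem Q9197 : ∀ i, i < 9197 → P i := stepQ 9196 Q9196 (allL N9196 (tt N11792 (iv F19867)) (tt N10284 (iv F17199)) (tt N11820 D11823) (tt N7060 (iv D9196)) (tt N11819 (iv F19907)) (tt N7061 F15334))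
theorem Q9198 : ∀ i, i < 9198 → P i := stepQ 9197 Q9197 (allL N9197 (tt N11793 (iv F19869)) (tt N11821 D11824) (tt N7061 (iv D9197)) (tt N11822 D11825) (tt N11813 (iv F19896)) (tt N11820 (iv F19908)))
theorem Q9199 : ∀ i, i < 9199 → P i := stepQ 9198 Q9198 (allL N9198 (tt N7437 F15335) (tt N10173 (iv F16962)) (tt N7062 (iv D9198)) (tt N11823 D11826) (tt N7089 F15336) (tt N7063 F15337))
theorem Q9200 : ∀ i, i < 9200 → P i := stepQ 9199 Q9199 (allL N9199 (tt N11772 (iv F19834)) (tt N7063 (iv D9199)) (tt N7070 F15338) (tt N11762 (iv F19810)) (tt N7064 F15339) (tt N10173 (iv F16964)))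
theorem Q9201 : ∀ i, i < 9201 → P i := stepQ 9200 Q9200 (allL N9200 (tt N7429 F15340) (tt N11762 F19811) (tt N11824 D11827) (tt N7063 (iv D9200)) (tt N7409 F15341) (tt N11823 (iv F19913)))
theorem Q9202 : ∀ i, i < 9202 → P i := stepQ 9201 Q9201 (allL N9201 (tt N7064 (iv D9201)) (tt N7432 F15342) (tt N7071 F15343) (tt N7412 F15344) (tt N11772 (iv F19836)) (tt N7092 F15345))
theorem Q9203 : ∀ i, i < 9203 → P i := stepQ 9202 Q9202 (allL N9202 (tt N7067 F15346) (tt N11825 D11828) (tt N7065 (iv D9202)) (tt N11826 D11829) (tt N10279 (iv F17190)) (tt N11827 D11830))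
theorem Q9204 : ∀ i, i < 9204 → P i := stepQ 9203 Q9203 (allL N9203 (tt N7068 F15347) (tt N10191 (iv F17004)) (tt N11827 (iv F19918)) (tt N7066 F15348) (tt N10151 (iv F16900)) (tt N7065 (iv D9203)))
theorem Q9205 : ∀ i, i < 9205 → P i := stepQ 9204 Q9204 (allL N9204 (tt N11828 D11831) (tt N7067 (iv D9204)) (tt N7069 F15349) (tt N11829 D11832) (tt N10285 (iv F17202)) (tt N7241 (iv F15350)))
theorem Q9206 : ∀ i, i < 9206 → P i := stepQ 9205 Q9205 (allL N9205 (tt N11826 (iv F19916)) (tt N11829 (iv F19921)) (tt N11830 D11833) (tt N7067 (iv D9205)) (tt N11831 D11834) (tt N11832 D11835))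
theorem Q9207 : ∀ i, i < 9207 → P i := stepQ 9206 Q9206 (allL N9206 (tt N11827 (iv F19917)) (tt N7241 F15351) (tt N7068 F15352) (tt N11832 (iv F19924)) (tt N10154 (iv F16906)) (tt N7067 (iv D9206)))
theorem Q9208 : ∀ i, i < 9208 → P i := stepQ 9207 Q9207 (allL N9207 (tt N7069 (iv D9207)) (tt N10406 (iv F17406)) (tt N11828 (iv F19919)) (tt N7239 F15353) (tt N10287 (iv F17206)) (tt N7240 F15354))
theorem Q9209 : ∀ i, i < 9209 → P i := stepQ 9208 Q9208 (allL N9208 (tt N7070 (iv D9208)) (tt N10439 (iv F17457)) (tt N11772 (iv F19837)) (tt N10164 (iv F16940)) (tt N7071 F15355) (tt N10169 (iv F16956)))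
theorem Q9210 : ∀ i, i < 9210 → P i := stepQ 9209 Q9209 (allL N9209 (tt N11833 D11836) (tt N7072 (iv D9209)) (tt N10964 (iv F18417)) (tt N11816 (iv F19900)) (tt N7253 F15356) (tt N11815 F19898))
theorem Q9211 : ∀ i, i < 9211 → P i := stepQ 9210 Q9210 (allL N9210 (tt N7086 F15357) (tt N10962 (iv F18413)) (tt N11817 (iv F19902)) (tt N10950 (iv F18394)) (tt N7073 (iv D9210)) (tt N7256 F15358))
theorem Q9212 : ∀ i, i < 9212 → P i := stepQ 9211 Q9211 (allL N9211 (tt N7089 F15359) (tt N11834 D11837) (tt N7074 (iv D9211)) (tt N11835 D11838) (tt N7437 F15360) (tt N7075 F15361))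
theorem Q9213 : ∀ i, i < 9213 → P i := stepQ 9212 Q9212 (allL N9212 (tt N11836 D11839) (tt N7075 (iv D9212)) (tt N7223 F15362) (tt N11837 D11840) (tt N7076 F15363) (tt N11834 (iv F19929)))
theorem Q9214 : ∀ i, i < 9214 → P i := stepQ 9213 Q9213 (allL N9213 (tt N7091 F15364) (tt N11837 (iv F19936)) (tt N11838 D11841) (tt N7075 (iv D9213)) (tt N7438 F15365) (tt N11835 (iv F19932)))
theorem Q9215 : ∀ i, i < 9215 → P i := stepQ 9214 Q9214 (allL N9214 (tt N7076 (iv D9214)) (tt N7092 F15366) (tt N11740 (iv F19771)) (tt N7433 F15367) (tt N11836 (iv F19935)) (tt N7432 F15368))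
theorem Q9216 : ∀ i, i < 9216 → P i := stepQ 9215 Q9215 (allL N9215 (tt N9926 (iv F16565)) (tt N11839 D11842) (tt N7077 (iv D9215)) (tt N11840 D11843) (tt N7079 F15369) (tt N11841 D11844))
theorem Q9217 : ∀ i, i < 9217 → P i := stepQ 9216 Q9216 (allL N9216 (tt N9927 (iv F16567)) (tt N7082 F15370) (tt N11841 (iv F19946)) (tt N7078 F15371) (tt N11842 D11845) (tt N7077 (iv D9216)))
theorem Q9218 : ∀ i, i < 9218 → P i := stepQ 9217 Q9217 (allL N9217 (tt N11843 D11846) (tt N7079 (iv D9217)) (tt N7083 F15372) (tt N11844 D11847) (tt N11839 (iv F19943)) (tt N11845 D11848))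
theorem Q9219 : ∀ i, i < 9219 → P i := stepQ 9218 Q9218 (allL N9218 (tt N9929 (iv F16570)) (tt N11844 (iv F19951)) (tt N9934 (iv F16584)) (tt N7079 (iv D9218)) (tt N11846 D11849) (tt N9932 F16580))
theorem Q9220 : ∀ i, i < 9220 → P i := stepQ 9219 Q9219 (allL N9219 (tt N9930 (iv F16573)) (tt N11845 (iv F19952)) (tt N7080 F15373) (tt N9932 (iv F16579)) (tt N11847 D11850) (tt N7079 (iv D9219)))
theorem Q9221 : ∀ i, i < 9221 → P i := stepQ 9220 Q9220 (allL N9220 (tt N9931 (iv F16576)) (tt N7086 F15374) (tt N11847 (iv F19954)) (tt N7212 F15375) (tt N7080 (iv D9220)) (tt N11842 (iv F19949)))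
theorem Q9222 : ∀ i, i < 9222 → P i := stepQ 9221 Q9221 (allL N9221 (tt N11848 D11851) (tt N7081 (iv D9221)) (tt N11839 (iv F19942)) (tt N7378 F15376) (tt N7083 F15377) (tt N7377 F15378))
theorem Q9223 : ∀ i, i < 9223 → P i := stepQ 9222 Q9222 (allL N9222 (tt N7256 F15379) (tt N11842 (iv F19947)) (tt N7379 F15380) (tt N10946 (iv F18382)) (tt N7082 (iv D9222)) (tt N7086 F15381))
theorem Q9224 : ∀ i, i < 9224 → P i := stepQ 9223 Q9223 (allL N9223 (tt N7083 (iv D9223)) (tt N11833 (iv F19925)) (tt N11843 (iv F19950)) (tt N11849 D11852) (tt N11848 (iv F19957)) (tt N11850 D11853))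
theorem Q9225 : ∀ i, i < 9225 → P i := stepQ 9224 Q9224 (allL N9224 (tt N11849 (iv F19959)) (tt N7084 F15382) (tt N11851 D11854) (tt N7083 (iv D9224)) (tt N11852 D11855) (tt N11790 (iv F19864)))
theorem Q9226 : ∀ i, i < 9226 → P i := stepQ 9225 Q9225 (allL N9225 (tt N11850 (iv F19960)) (tt N7085 F15383) (tt N11845 (iv F19953)) (tt N11790 (iv F19863)) (tt N11853 D11856) (tt N7083 (iv D9225)))
theorem Q9227 : ∀ i, i < 9227 → P i := stepQ 9226 Q9226 (allL N9226 (tt N11818 (iv F19904)) (tt N11852 (iv F19961)) (tt N11791 (iv F19866)) (tt N7380 F15384) (tt N7084 (iv D9226)) (tt N11854 D11857))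
theorem Q9228 : ∀ i, i < 9228 → P i := stepQ 9227 Q9227 (allL N9227 (tt N11817 (iv F19901)) (tt N11853 (iv F19963)) (tt N7086 F15385) (tt N11855 D11858) (tt N7085 (iv D9227)) (tt N7379 F15386))
theorem Q9229 : ∀ i, i < 9229 → P i := stepQ 9228 Q9228 (allL N9228 (tt N10950 (iv F18392)) (tt N7212 F15387) (tt N11856 D11859) (tt N7086 (iv D9228)) (tt N7087 F15388) (tt N10946 (iv F18383)))
theorem Q9230 : ∀ i, i < 9230 → P i := stepQ 9229 Q9229 (allL N9229 (tt N10949 (iv F18389)) (tt N11857 D11860) (tt N7087 (iv D9229)) (tt N11838 (iv F19939)) (tt N11856 (iv F19967)) (tt N7088 F15389))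
theorem Q9231 : ∀ i, i < 9231 → P i := stepQ 9230 Q9230 (allL N9230 (tt N11858 D11861) (tt N7088 (iv D9230)) (tt N7209 F15390) (tt N11859 D11862) (tt N10944 (iv F18376)) (tt N11857 (iv F19969)))
theorem Q9232 : ∀ i, i < 9232 → P i := stepQ 9231 Q9231 (allL N9231 (tt N10948 (iv F18386)) (tt N11859 (iv F19971)) (tt N11835 (iv F19931)) (tt N7088 (iv D9231)) (tt N11860 D11863) (tt N11838 (iv F19941)))
theorem Q9233 : ∀ i, i < 9233 → P i := stepQ 9232 Q9232 (allL N9232 (tt N11835 (iv F19930)) (tt N10614 (iv F17752)) (tt N10948 (iv F18387)) (tt N7089 (iv D9232)) (tt N11861 D11864) (tt N7091 F15391))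
theorem Q9234 : ∀ i, i < 9234 → P i := stepQ 9233 Q9233 (allL N9233 (tt N7090 (iv D9233)) (tt N11836 (iv F19933)) (tt N7097 F15392) (tt N11862 D11865) (tt N7092 F15393) (tt N10613 (iv F17751)))
theorem Q9235 : ∀ i, i < 9235 → P i := stepQ 9234 Q9234 (allL N9234 (tt N11862 (iv F19972)) (tt N7091 F15394) (tt N11863 D11866) (tt N7090 (iv D9234)) (tt N11864 D11867) (tt N10614 (iv F17753)))
theorem Q9236 : ∀ i, i < 9236 → P i := stepQ 9235 Q9235 (allL N9235 (tt N11838 (iv F19938)) (tt N11865 D11868) (tt N7091 (iv D9235)) (tt N10949 (iv F18391)) (tt N11866 D11869) (tt N10948 F18388))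
theorem Q9237 : ∀ i, i < 9237 → P i := stepQ 9236 Q9236 (allL N9236 (tt N7438 F15395) (tt N11864 (iv F19973)) (tt N11866 (iv F19976)) (tt N7094 F15396) (tt N7091 (iv D9236)) (tt N11867 D11870))
theorem Q9238 : ∀ i, i < 9238 → P i := stepQ 9237 Q9237 (allL N9237 (tt N7093 F15397) (tt N7433 F15398) (tt N11868 D11871) (tt N7092 (iv D9237)) (tt N11869 D11872) (tt N7412 F15399))
theorem Q9239 : ∀ i, i < 9239 → P i := stepQ 9238 Q9238 (allL N9238 (tt N11868 (iv F19979)) (tt N7406 F15400) (tt N7093 (iv D9238)) (tt N11746 (iv F19781)) (tt N11870 D11873) (tt N7404 F15401))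
theorem Q9240 : ∀ i, i < 9240 → P i := stepQ 9239 Q9239 (allL N9239 (tt N11869 (iv F19981)) (tt N7094 F15402) (tt N11870 (iv F19984)) (tt N11864 (iv F19974)) (tt N7093 (iv D9239)) (tt N11871 D11874))
theorem Q9241 : ∀ i, i < 9241 → P i := stepQ 9240 Q9240 (allL N9240 (tt N7431 F15403) (tt N11871 (iv F19985)) (tt N7411 F15404) (tt N11867 (iv F19978)) (tt N7410 F15405) (tt N7094 (iv D9240)))
theorem Q9242 : ∀ i, i < 9242 → P i := stepQ 9241 Q9241 (allL N9241 (tt N9932 (iv F16578)) (tt N11872 D11875) (tt N7095 (iv D9241)) (tt N9930 (iv F16575)) (tt N11873 D11876) (tt N9929 F16572))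
theorem Q9243 : ∀ i, i < 9243 → P i := stepQ 9242 Q9242 (allL N9242 (tt N9933 (iv F16581)) (tt N10416 (iv F17425)) (tt N11873 (iv F19987)) (tt N7213 F15406) (tt N7095 (iv D9242)) (tt N11874 D11877))
theorem Q9244 : ∀ i, i < 9244 → P i := stepQ 9243 Q9243 (allL N9243 (tt N9934 (iv F16583)) (tt N10419 (iv F17430)) (tt N9929 (iv F16571)) (tt N7096 F15407) (tt N11875 D11878) (tt N7095 (iv D9243)))
theorem Q9245 : ∀ i, i < 9245 → P i := stepQ 9244 Q9244 (allL N9244 (tt N7099 F15408) (tt N11876 D11879) (tt N7098 (iv D9244)) (tt N11877 D11880) (tt N11878 D11881) (tt N10455 F17490))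
theorem Q9246 : ∀ i, i < 9246 → P i := stepQ 9245 Q9245 (allL N9245 (tt N7100 F15409) (tt N10438 (iv F17453)) (tt N11878 (iv F19992)) (tt N10168 (iv F16951)) (tt N7098 (iv D9245)) (tt N10163 (iv F16936)))
theorem Q9247 : ∀ i, i < 9247 → P i := stepQ 9246 Q9246 (allL N9246 (tt N11877 (iv F19989)) (tt N10464 (iv F17498)) (tt N11879 D11882) (tt N7099 (iv D9246)) (tt N11880 D11883) (tt N10457 (iv F17493)))
theorem Q9248 : ∀ i, i < 9248 → P i := stepQ 9247 Q9247 (allL N9247 (tt N11878 (iv F19991)) (tt N10465 (iv F17500)) (tt N7100 F15410) (tt N11881 D11884) (tt N7099 (iv D9247)) (tt N10166 (iv F16946)))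
theorem Q9249 : ∀ i, i < 9249 → P i := stepQ 9248 Q9248 (allL N9248 (tt N10532 (iv F17632)) (tt N7103 F15411) (tt N10527 (iv F17623)) (tt N9813 (iv F16405)) (tt N7102 (iv D9248)) (tt N11882 D11885))
theorem Q9250 : ∀ i, i < 9250 → P i := stepQ 9249 Q9249 (allL N9249 (tt N10910 (iv F18309)) (tt N11882 (iv F19995)) (tt N11680 (iv F19652)) (tt N9810 F16396) (tt N11883 D11886) (tt N7103 (iv D9249)))
theorem Q9251 : ∀ i, i < 9251 → P i := stepQ 9250 Q9250 (allL N9250 (tt N7119 F15412) (tt N7734 F15413) (tt N7116 F15414) (tt N11884 D11887) (tt N7104 (iv D9250)) (tt N11883 (iv F20000)))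
theorem Q9252 : ∀ i, i < 9252 → P i := stepQ 9251 Q9251 (allL N9251 (tt N10911 (iv F18313)) (tt N7735 F15415) (tt N11885 D11888) (tt N7105 (iv D9251)) (tt N11884 (iv F20003)) (tt N9808 F16390))
theorem Q9253 : ∀ i, i < 9253 → P i := stepQ 9252 Q9252 (allL N9252 (tt N7531 F15416) (tt N11886 D11889) (tt N7106 (iv D9252)) (tt N11887 D11890) (tt N7107 F15417) (tt N8586 F15418))
theorem Q9254 : ∀ i, i < 9254 → P i := stepQ 9253 Q9253 (allL N9253 (tt N11888 D11891) (tt N7107 (iv D9253)) (tt N7114 F15419) (tt N11889 D11892) (tt N11886 (iv F20006)) (tt N7321 F15420))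
theorem Q9255 : ∀ i, i < 9255 → P i := stepQ 9254 Q9254 (allL N9254 (tt N7323 F15421) (tt N11889 (iv F20013)) (tt N7319 F15422) (tt N7107 (iv D9254)) (tt N11890 D11893) (tt N7322 F15423))
theorem Q9256 : ∀ i, i < 9256 → P i := stepQ 9255 Q9255 (allL N9255 (tt N7109 F15424) (tt N7739 F15425) (tt N11891 D11894) (tt N7108 (iv D9255)) (tt N7732 F15426) (tt N11892 D11895))
theorem Q9257 : ∀ i, i < 9257 → P i := stepQ 9256 Q9256 (allL N9256 (tt N7110 F15427) (tt N7740 F15428) (tt N9811 F16399) (tt N11892 (iv F20021)) (tt N7731 F15429) (tt N7108 (iv D9256)))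
theorem Q9258 : ∀ i, i < 9258 → P i := stepQ 9257 Q9257 (allL N9257 (tt N11891 (iv F20017)) (tt N11893 D11896) (tt N7109 (iv D9257)) (tt N11894 D11897) (tt N7737 F15430) (tt N11895 D11898))
theorem Q9259 : ∀ i, i < 9259 → P i := stepQ 9258 Q9258 (allL N9258 (tt N11892 (iv F20019)) (tt N7112 F15431) (tt N11895 (iv F20026)) (tt N7110 F15432) (tt N11896 D11899) (tt N7109 (iv D9258)))
theorem Q9260 : ∀ i, i < 9260 → P i := stepQ 9259 Q9259 (allL N9259 (tt N11897 D11900) (tt N7111 (iv D9259)) (tt N11893 (iv F20022)) (tt N7747 F15433) (tt N7738 F15434) (tt N7746 F15435))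
theorem Q9261 : ∀ i, i < 9261 → P i := stepQ 9260 Q9260 (allL N9260 (tt N7744 F15436) (tt N11896 (iv F20027)) (tt N7748 F15437) (tt N7725 F15438) (tt N7112 (iv D9260)) (tt N7726 F15439))
theorem Q9262 : ∀ i, i < 9262 → P i := stepQ 9261 Q9261 (allL N9261 (tt N11898 D11901) (tt N7113 (iv D9261)) (tt N11886 (iv F20005)) (tt N10041 (iv F16750)) (tt N7114 F15440) (tt N10042 (iv F16752)))
theorem Q9263 : ∀ i, i < 9263 → P i := stepQ 9262 Q9262 (allL N9262 (tt N7114 (iv D9262)) (tt N7538 F15441) (tt N11888 (iv F20011)) (tt N7532 F15442) (tt N11898 (iv F20035)) (tt N7532 F15443))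
theorem Q9264 : ∀ i, i < 9264 → P i := stepQ 9263 Q9263 (allL N9263 (tt N10504 (iv F17577)) (tt N7733 F15444) (tt N7115 (iv D9263)) (tt N10503 F17576) (tt N11899 D11902) (tt N10525 (iv F17620)))
theorem Q9265 : ∀ i, i < 9265 → P i := stepQ 9264 Q9264 (allL N9264 (tt N11628 (iv F19554)) (tt N7116 F15445) (tt N11899 (iv F20037)) (tt N7750 F15446) (tt N7115 (iv D9264)) (tt N11900 D11903))
theorem Q9266 : ∀ i, i < 9266 → P i := stepQ 9265 Q9265 (allL N9265 (tt N7120 F15447) (tt N11900 (iv F20038)) (tt N11883 (iv F19999)) (tt N7751 F15448) (tt N11680 (iv F19654)) (tt N7116 (iv D9265)))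
theorem Q9267 : ∀ i, i < 9267 → P i := stepQ 9266 Q9266 (allL N9266 (tt N7312 F15449) (tt N7117 (iv D9266)) (tt N7309 F15450) (tt N11901 D11904) (tt N7449 F15451) (tt N7318 F15452))
theorem Q9268 : ∀ i, i < 9268 → P i := stepQ 9267 Q9267 (allL N9267 (tt N7121 F15453) (tt N11901 (iv F20041)) (tt N7322 F15454) (tt N7117 (iv D9267)) (tt N11902 D11905) (tt N7319 F15455))
theorem Q9269 : ∀ i, i < 9269 → P i := stepQ 9268 Q9268 (allL N9268 (tt N7118 (iv D9268)) (tt N7729 F15456) (tt N10509 (iv F17593)) (tt N7728 F15457) (tt N11903 D11906) (tt N10531 (iv F17631)))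
theorem Q9270 : ∀ i, i < 9270 → P i := stepQ 9269 Q9269 (allL N9269 (tt N11903 (iv F20046)) (tt N7119 F15458) (tt N11612 (iv F19522)) (tt N11904 D11907) (tt N7118 (iv D9269)) (tt N11905 D11908))
theorem Q9271 : ∀ i, i < 9271 → P i := stepQ 9270 Q9270 (allL N9270 (tt N11884 (iv F20001)) (tt N11904 (iv F20048)) (tt N11906 D11909) (tt N7119 (iv D9270)) (tt N10911 (iv F18314)) (tt N11907 D11910))
theorem Q9272 : ∀ i, i < 9272 → P i := stepQ 9271 Q9271 (allL N9271 (tt N11883 (iv F19997)) (tt N11905 (iv F20049)) (tt N7120 F15459) (tt N11907 (iv F20053)) (tt N10910 (iv F18312)) (tt N7119 (iv D9271)))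
theorem Q9273 : ∀ i, i < 9273 → P i := stepQ 9272 Q9272 (allL N9272 (tt N11902 (iv F20043)) (tt N7316 F15460) (tt N7530 F15461) (tt N7452 F15462) (tt N7121 (iv D9272)) (tt N11908 D11911))
theorem Q9274 : ∀ i, i < 9274 → P i := stepQ 9273 Q9273 (allL N9273 (tt N7125 F15463) (tt N7128 F15464) (tt N11909 D11912) (tt N7122 (iv D9273)) (tt N7816 F15465) (tt N7413 F15466))
theorem Q9275 : ∀ i, i < 9275 → P i := stepQ 9274 Q9274 (allL N9274 (tt N7813 F15467) (tt N10280 (iv F17193)) (tt N7124 F15468) (tt N11910 D11913) (tt N7123 (iv D9274)) (tt N11911 D11914))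
theorem Q9276 : ∀ i, i < 9276 → P i := stepQ 9275 Q9275 (allL N9275 (tt N7816 F15469) (tt N7126 F15470) (tt N11912 D11915) (tt N7124 (iv D9275)) (tt N7125 F15471) (tt N11913 D11916))
theorem Q9277 : ∀ i, i < 9277 → P i := stepQ 9276 Q9276 (allL N9276 (tt N7817 F15472) (tt N7127 F15473) (tt N11911 (iv F20063)) (tt N11913 (iv F20069)) (tt N11807 (iv F19889)) (tt N7124 (iv D9276)))
theorem Q9278 : ∀ i, i < 9278 → P i := stepQ 9277 Q9277 (allL N9277 (tt N11909 (iv F20058)) (tt N7391 F15474) (tt N7125 (iv D9277)) (tt N11914 D11917) (tt N11912 (iv F20066)) (tt N7414 F15475))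
theorem Q9279 : ∀ i, i < 9279 → P i := stepQ 9278 Q9278 (allL N9278 (tt N7137 F15476) (tt N11913 (iv F20068)) (tt N7393 F15477) (tt N7127 F15478) (tt N7416 F15479) (tt N7126 (iv D9278)))
theorem Q9280 : ∀ i, i < 9280 → P i := stepQ 9279 Q9279 (allL N9279 (tt N7131 F15480) (tt N11915 D11918) (tt N7128 (iv D9279)) (tt N7451 F15483) (tt N7818 F15481) (tt N7439 F15482))
theorem Q9281 : ∀ i, i < 9281 → P i := stepQ 9280 Q9280 (allL N9280 (tt N7818 F15484) (tt N11916 D11919) (tt N7129 (iv D9280)) (tt N11708 (iv F19706)) (tt N7131 F15485) (tt N11707 (iv F19703)))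
theorem Q9282 : ∀ i, i < 9282 → P i := stepQ 9281 Q9281 (allL N9281 (tt N7819 F15486) (tt N7137 F15487) (tt N11707 (iv F19701)) (tt N7130 F15488) (tt N7444 F15489) (tt N7129 (iv D9281)))
theorem Q9283 : ∀ i, i < 9283 → P i := stepQ 9282 Q9282 (allL N9282 (tt N11917 D11920) (tt N7131 (iv D9282)) (tt N7139 F15490) (tt N11918 D11921) (tt N11916 (iv F20077)) (tt N7441 F15491))
theorem Q9284 : ∀ i, i < 9284 → P i := stepQ 9283 Q9283 (allL N9283 (tt N7451 F15492) (tt N11918 (iv F20080)) (tt N7450 F15494) (tt N7131 (iv D9283)) (tt N11919 D11922) (tt N7442 F15493))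
theorem Q9285 : ∀ i, i < 9285 → P i := stepQ 9284 Q9284 (allL N9284 (tt N7133 F15495) (tt N10276 (iv F17183)) (tt N7809 F15496) (tt N11920 D11923) (tt N7132 (iv D9284)) (tt N11921 D11924))
theorem Q9286 : ∀ i, i < 9286 → P i := stepQ 9285 Q9285 (allL N9285 (tt N11920 (iv F20084)) (tt N7134 F15497) (tt N11922 D11925) (tt N7133 (iv D9285)) (tt N11787 (iv F19858)) (tt N11923 D11926))
theorem Q9287 : ∀ i, i < 9287 → P i := stepQ 9286 Q9286 (allL N9286 (tt N11921 (iv F20085)) (tt N7135 F15498) (tt N7810 F15499) (tt N11923 (iv F20091)) (tt N11783 (iv F19852)) (tt N7133 (iv D9286)))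
theorem Q9288 : ∀ i, i < 9288 → P i := stepQ 9287 Q9287 (allL N9287 (tt N11813 (iv F19895)) (tt N11924 D11927) (tt N7134 (iv D9287)) (tt N11925 D11928) (tt N11793 (iv F19870)) (tt N11926 D11929))
theorem Q9289 : ∀ i, i < 9289 → P i := stepQ 9288 Q9288 (allL N9288 (tt N11812 (iv F19893)) (tt N11923 (iv F20089)) (tt N11926 (iv F20094)) (tt N7135 F15500) (tt N11927 D11930) (tt N7134 (iv D9288)))
theorem Q9290 : ∀ i, i < 9290 → P i := stepQ 9289 Q9289 (allL N9289 (tt N11928 D11931) (tt N7136 (iv D9289)) (tt N11916 (iv F20076)) (tt N11929 D11932) (tt N7139 F15501) (tt N11930 D11933))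
theorem Q9291 : ∀ i, i < 9291 → P i := stepQ 9290 Q9290 (allL N9290 (tt N7389 F15502) (tt N11929 (iv F20098)) (tt N11931 D11934) (tt N7136 (iv D9290)) (tt N7360 F15503) (tt N11932 D11935))
theorem Q9292 : ∀ i, i < 9292 → P i := stepQ 9291 Q9291 (allL N9291 (tt N7393 F15504) (tt N11930 (iv F20100)) (tt N7137 F15505) (tt N11932 (iv F20105)) (tt N7448 F15506) (tt N7136 (iv D9291)))
theorem Q9293 : ∀ i, i < 9293 → P i := stepQ 9292 Q9292 (allL N9292 (tt N7139 (iv D9292)) (tt N7390 F15507) (tt N11917 (iv F20078)) (tt N7361 F15508) (tt N11928 (iv F20097)) (tt N7445 F15509))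
theorem Q9294 : ∀ i, i < 9294 → P i := stepQ 9293 Q9293 (allL N9293 (tt N7257 F15510) (tt N7140 (iv D9293)) (tt N7449 F15511) (tt N8575 (iv F15514)) (tt N7309 F15512) (tt N7449 F15513))
theorem Q9295 : ∀ i, i < 9295 → P i := stepQ 9294 Q9294 (allL N9294 (tt N7141 F15515) (tt N8575 F15516) (tt N7442 F15517) (tt N7140 (iv D9294)) (tt N7305 F15518) (tt N7450 F15519))
theorem Q9296 : ∀ i, i < 9296 → P i := stepQ 9295 Q9295 (allL N9295 (tt N7442 F15520) (tt N8546 F15521) (tt N7141 (iv D9295)) (tt N7439 F15522) (tt N11933 D11936) (tt N7451 F15523))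
theorem Q9297 : ∀ i, i < 9297 → P i := stepQ 9296 Q9296 (allL N9296 (tt N7305 F15524) (tt N7258 F15525) (tt N11933 (iv F20108)) (tt N7289 F15526) (tt N7141 (iv D9296)) (tt N11934 D11937))
theorem Q9298 : ∀ i, i < 9298 → P i := stepQ 9297 Q9297 (allL N9297 (tt N7752 F15527) (tt N7144 F15528) (tt N11779 (iv F19843)) (tt N11935 D11938) (tt N7142 (iv D9297)) (tt N11936 D11939))
theorem Q9299 : ∀ i, i < 9299 → P i := stepQ 9298 Q9298 (allL N9298 (tt N7811 F15529) (tt N7145 F15530) (tt N11937 D11940) (tt N7143 (iv D9298)) (tt N11935 (iv F20118)) (tt N7156 F15531))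
theorem Q9300 : ∀ i, i < 9300 → P i := stepQ 9299 Q9299 (allL N9299 (tt N7148 F15532) (tt N11935 (iv F20117)) (tt N11938 D11941) (tt N7144 (iv D9299)) (tt N7145 F15533) (tt N11939 D11942))
theorem Q9301 : ∀ i, i < 9301 → P i := stepQ 9300 Q9300 (allL N9300 (tt N7149 F15534) (tt N11936 (iv F20120)) (tt N10556 (iv F17671)) (tt N11939 (iv F20127)) (tt N7812 F15535) (tt N7144 (iv D9300)))
theorem Q9302 : ∀ i, i < 9302 → P i := stepQ 9301 Q9301 (allL N9301 (tt N7150 F15536) (tt N11940 D11943) (tt N7145 (iv D9301)) (tt N7150 F15537) (tt N11938 (iv F20125)) (tt N7159 F15538))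
theorem Q9303 : ∀ i, i < 9303 → P i := stepQ 9302 Q9302 (allL N9302 (tt N11798 (iv F19877)) (tt N7147 F15539) (tt N7750 F15540) (tt N11941 D11944) (tt N7146 (iv D9302)) (tt N11942 D11945))
theorem Q9304 : ∀ i, i < 9304 → P i := stepQ 9303 Q9303 (allL N9303 (tt N10557 (iv F17673)) (tt N11941 (iv F20131)) (tt N11943 D11946) (tt N7147 (iv D9303)) (tt N10545 (iv F17653)) (tt N11944 D11947))
theorem Q9305 : ∀ i, i < 9305 → P i := stepQ 9304 Q9304 (allL N9304 (tt N10556 (iv F17670)) (tt N11942 (iv F20132)) (tt N7149 F15541) (tt N11944 (iv F20135)) (tt N7815 F15542) (tt N7147 (iv D9304)))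
theorem Q9306 : ∀ i, i < 9306 → P i := stepQ 9305 Q9305 (allL N9305 (tt N11938 (iv F20124)) (tt N11945 D11948) (tt N7148 (iv D9305)) (tt N11946 D11949) (tt N7150 F15543) (tt N11947 D11950))
theorem Q9307 : ∀ i, i < 9307 → P i := stepQ 9306 Q9306 (allL N9306 (tt N11939 (iv F20126)) (tt N7820 F15544) (tt N11947 (iv F20138)) (tt N7149 F15545) (tt N7164 F15546) (tt N7148 (iv D9306)))
theorem Q9308 : ∀ i, i < 9308 → P i := stepQ 9307 Q9307 (allL N9307 (tt N11948 D11951) (tt N7150 (iv D9307)) (tt N7822 F15547) (tt N11940 (iv F20129)) (tt N11945 (iv F20137)) (tt N7165 F15548))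
theorem Q9309 : ∀ i, i < 9309 → P i := stepQ 9308 Q9308 (allL N9308 (tt N7151 (iv D9308)) (tt N7152 F15549) (tt N8578 F15550) (tt N7445 F15551) (tt N10806 (iv F18114)) (tt N7361 F15552))
theorem Q9310 : ∀ i, i < 9310 → P i := stepQ 9309 Q9309 (allL N9309 (tt N7153 F15553) (tt N7445 F15554) (tt N11949 D11952) (tt N7152 (iv D9309)) (tt N11495 (iv F19292)) (tt N7390 F15555))
theorem Q9311 : ∀ i, i < 9311 → P i := stepQ 9310 Q9310 (allL N9310 (tt N11949 (iv F20142)) (tt N7414 F15556) (tt N7153 (iv D9310)) (tt N11950 D11953) (tt N11951 D11954) (tt N7391 F15557))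
theorem Q9312 : ∀ i, i < 9312 → P i := stepQ 9311 Q9311 (allL N9311 (tt N11495 (iv F19290)) (tt N7154 F15558) (tt N11951 (iv F20150)) (tt N10807 (iv F18119)) (tt N7153 (iv D9311)) (tt N11952 D11955))
theorem Q9313 : ∀ i, i < 9313 → P i := stepQ 9312 Q9312 (allL N9312 (tt N7448 F15559) (tt N11952 (iv F20151)) (tt N7416 F15560) (tt N10989 (iv F18458)) (tt N7393 F15561) (tt N7154 (iv D9312)))
theorem Q9314 : ∀ i, i < 9314 → P i := stepQ 9313 Q9313 (allL N9313 (tt N10668 (iv F17863)) (tt N7157 F15562) (tt N11953 D11956) (tt N7155 (iv D9313)) (tt N7156 F15563) (tt N11954 D11957))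
theorem Q9315 : ∀ i, i < 9315 → P i := stepQ 9314 Q9314 (allL N9314 (tt N10669 (iv F17866)) (tt N7158 F15564) (tt N10384 (iv F17359)) (tt N11954 (iv F20155)) (tt N10577 (iv F17705)) (tt N7155 (iv D9314)))
theorem Q9316 : ∀ i, i < 9316 → P i := stepQ 9315 Q9315 (allL N9315 (tt N11696 (iv F19681)) (tt N11955 D11958) (tt N7156 (iv D9315)) (tt N11956 D11959) (tt N11953 (iv F20153)) (tt N11937 (iv F20123)))
theorem Q9317 : ∀ i, i < 9317 → P i := stepQ 9316 Q9316 (allL N9316 (tt N7163 F15565) (tt N11957 D11960) (tt N7157 (iv D9316)) (tt N11958 D11961) (tt N7159 F15566) (tt N11959 D11962))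
theorem Q9318 : ∀ i, i < 9318 → P i := stepQ 9317 Q9317 (allL N9317 (tt N7164 F15567) (tt N11954 (iv F20154)) (tt N11959 (iv F20161)) (tt N7158 F15568) (tt N11939 (iv F20128)) (tt N7157 (iv D9317)))
theorem Q9319 : ∀ i, i < 9319 → P i := stepQ 9318 Q9318 (allL N9318 (tt N11960 D11963) (tt N7159 (iv D9318)) (tt N11955 (iv F20156)) (tt N7165 F15569) (tt N11957 (iv F20157)) (tt N11940 (iv F20130)))
theorem Q9320 : ∀ i, i < 9320 → P i := stepQ 9319 Q9319 (allL N9319 (tt N10177 (iv F16972)) (tt N7161 F15570) (tt N11961 D11964) (tt N7160 (iv D9319)) (tt N10174 (iv F16967)) (tt N11962 D11965))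
theorem Q9321 : ∀ i, i < 9321 → P i := stepQ 9320 Q9320 (allL N9320 (tt N10370 (iv F17326)) (tt N7162 F15571) (tt N9959 (iv F16619)) (tt N11962 (iv F20165)) (tt N10569 (iv F17691)) (tt N7160 (iv D9320)))
theorem Q9322 : ∀ i, i < 9322 → P i := stepQ 9321 Q9321 (allL N9321 (tt N10377 (iv F17341)) (tt N11963 D11966) (tt N7161 (iv D9321)) (tt N11963 (iv F26099)) (tt N10373 (iv F17336)) (tt N11964 D11968))
theorem Q9323 : ∀ i, i < 9323 → P i := stepQ 9322 Q9322 (allL N9322 (tt N10378 (iv F17343)) (tt N11962 (iv F20164)) (tt N11964 (iv F20166)) (tt N7162 F15572) (tt N11965 D11969) (tt N7161 (iv D9322)))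
theorem Q9324 : ∀ i, i < 9324 → P i := stepQ 9323 Q9323 (allL N9323 (tt N11966 D11970) (tt N7163 (iv D9323)) (tt N11698 (iv F19685)) (tt N11967 D11971) (tt N7165 F15573) (tt N11968 D11972))
theorem Q9325 : ∀ i, i < 9325 → P i := stepQ 9324 Q9324 (allL N9324 (tt N11958 (iv F20158)) (tt N11967 (iv F20168)) (tt N11969 D11973) (tt N7163 (iv D9324)) (tt N11958 (iv F20159)) (tt N11970 D11974))
theorem Q9326 : ∀ i, i < 9326 → P i := stepQ 9325 Q9325 (allL N9325 (tt N11959 (iv F20160)) (tt N11968 (iv F20169)) (tt N7164 F15574) (tt N11970 (iv F20170)) (tt N11947 (iv F20139)) (tt N7163 (iv D9325)))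
theorem Q9327 : ∀ i, i < 9327 → P i := stepQ 9326 Q9326 (allL N9326 (tt N7165 (iv D9326)) (tt N11960 (iv F20162)) (tt N11701 (iv F19692)) (tt N11960 (iv F20163)) (tt N11966 (iv F20167)) (tt N11948 (iv F20141)))
theorem Q9328 : ∀ i, i < 9328 → P i := stepQ 9327 Q9327 (allL N9327 (tt N11686 (iv F19660)) (tt N11971 D11975) (tt N7166 (iv D9327)) (tt N11972 D11976) (tt N7247 F15575) (tt N11973 D11977))
theorem Q9329 : ∀ i, i < 9329 → P i := stepQ 9328 Q9328 (allL N9328 (tt N7798 F15576) (tt N7169 F15577) (tt N11973 (iv F20176)) (tt N7167 F15578) (tt N11974 D11978) (tt N7166 (iv D9328)))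
theorem Q9330 : ∀ i, i < 9330 → P i := stepQ 9329 Q9329 (allL N9329 (tt N11975 D11979) (tt N7168 (iv D9329)) (tt N11971 (iv F20171)) (tt N7488 F15579) (tt N7249 F15580) (tt N7487 F15581))
theorem Q9331 : ∀ i, i < 9331 → P i := stepQ 9330 Q9330 (allL N9330 (tt N7175 F15582) (tt N11974 (iv F20178)) (tt N7489 F15583) (tt N7179 F15584) (tt N7169 (iv D9330)) (tt N7252 F15585))
theorem Q9332 : ∀ i, i < 9332 → P i := stepQ 9331 Q9331 (allL N9331 (tt N11976 D11980) (tt N7170 (iv D9331)) (tt N11692 (iv F19673)) (tt N7650 F15586) (tt N7172 F15587) (tt N7649 F15588))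
theorem Q9333 : ∀ i, i < 9333 → P i := stepQ 9332 Q9332 (allL N9332 (tt N7252 F15589) (tt N7807 F15590) (tt N7651 F15591) (tt N7188 F15592) (tt N7171 (iv D9332)) (tt N7175 F15593))
theorem Q9334 : ∀ i, i < 9334 → P i := stepQ 9333 Q9333 (allL N9333 (tt N7172 (iv D9333)) (tt N11975 (iv F20181)) (tt N11695 (iv F19679)) (tt N11977 D11981) (tt N11976 (iv F20187)) (tt N11978 D11982))
theorem Q9335 : ∀ i, i < 9335 → P i := stepQ 9334 Q9334 (allL N9334 (tt N11977 (iv F20189)) (tt N7173 F15594) (tt N11979 D11983) (tt N7172 (iv D9334)) (tt N11980 D11984) (tt N7480 (iv F15595)))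
theorem Q9336 : ∀ i, i < 9336 → P i := stepQ 9335 Q9335 (allL N9335 (tt N11978 (iv F20192)) (tt N7174 F15596) (tt N7808 F15597) (tt N7480 F15598) (tt N11981 D11985) (tt N7172 (iv D9335)))
theorem Q9337 : ∀ i, i < 9337 → P i := stepQ 9336 Q9336 (allL N9336 (tt N7490 F15599) (tt N11980 (iv F20198)) (tt N7481 F15600) (tt N7652 F15601) (tt N7173 (iv D9336)) (tt N7670 F15602))
theorem Q9338 : ∀ i, i < 9338 → P i := stepQ 9337 Q9337 (allL N9337 (tt N7489 F15603) (tt N11981 (iv F20201)) (tt N7175 F15604) (tt N7669 F15605) (tt N7174 (iv D9337)) (tt N7651 F15606))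
theorem Q9339 : ∀ i, i < 9339 → P i := stepQ 9338 Q9338 (allL N9338 (tt N7797 F15607) (tt N7179 F15608) (tt N11757 (iv F19802)) (tt N11974 (iv F20179)) (tt N7178 (iv D9338)) (tt N11280 (iv F18913)))
theorem Q9340 : ∀ i, i < 9340 → P i := stepQ 9339 Q9339 (allL N9339 (tt N7185 F15609) (tt N11276 (iv F18901)) (tt N7779 F15610) (tt N7181 F15611) (tt N7800 F15612) (tt N7180 (iv D9339)))
theorem Q9341 : ∀ i, i < 9341 → P i := stepQ 9340 Q9340 (allL N9340 (tt N11671 (iv F19633)) (tt N11982 D11986) (tt N7182 (iv D9340)) (tt N11983 D11987) (tt N11669 (iv F19626)) (tt N11984 D11988))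
theorem Q9342 : ∀ i, i < 9342 → P i := stepQ 9341 Q9341 (allL N9341 (tt N11672 (iv F19635)) (tt N8959 F15613) (tt N11984 (iv F20210)) (tt N7183 F15614) (tt N11985 D11989) (tt N7182 (iv D9341)))
theorem Q9343 : ∀ i, i < 9343 → P i := stepQ 9342 Q9342 (allL N9342 (tt N11725 (iv F19750)) (tt N7184 (iv D9342)) (tt N7187 F15615) (tt N11986 D11990) (tt N7186 F15616) (tt N11298 (iv F18950)))
theorem Q9344 : ∀ i, i < 9344 → P i := stepQ 9343 Q9343 (allL N9343 (tt N7778 F15617) (tt N11986 (iv F20213)) (tt N11987 D11991) (tt N7184 (iv D9343)) (tt N7768 F15618) (tt N11988 D11992))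
theorem Q9345 : ∀ i, i < 9345 → P i := stepQ 9344 Q9344 (allL N9344 (tt N7779 F15619) (tt N11298 (iv F18949)) (tt N7185 F15620) (tt N11988 (iv F20218)) (tt N7805 F15621) (tt N7184 (iv D9344)))
theorem Q9346 : ∀ i, i < 9346 → P i := stepQ 9345 Q9345 (allL N9345 (tt N7187 (iv D9345)) (tt N11281 (iv F18914)) (tt N11725 (iv F19752)) (tt N11297 (iv F18948)) (tt N7189 F15622) (tt N11296 F18946))
theorem Q9347 : ∀ i, i < 9347 → P i := stepQ 9346 Q9346 (allL N9346 (tt N11749 (iv F19785)) (tt N7192 F15623) (tt N10909 (iv F18307)) (tt N11300 (iv F18957)) (tt N7190 (iv D9346)) (tt N7689 F15624))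
theorem Q9348 : ∀ i, i < 9348 → P i := stepQ 9347 Q9347 (allL N9347 (tt N11766 (iv F19817)) (tt N7193 F15625) (tt N7803 F15626) (tt N7688 F15627) (tt N7191 (iv D9347)) (tt N11299 (iv F18955)))
theorem Q9349 : ∀ i, i < 9349 → P i := stepQ 9348 Q9348 (allL N9348 (tt N7196 F15628) (tt N7685 F15629) (tt N11989 D11993) (tt N7195 (iv D9348)) (tt N11767 (iv F19823)) (tt N7701 (iv F15630)))
theorem Q9350 : ∀ i, i < 9350 → P i := stepQ 9349 Q9349 (allL N9349 (tt N7197 F15631) (tt N7686 F15632) (tt N7740 F15633) (tt N7701 F15634) (tt N11751 (iv F19793)) (tt N7195 (iv D9349)))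
theorem Q9351 : ∀ i, i < 9351 → P i := stepQ 9350 Q9350 (allL N9350 (tt N11989 (iv F20219)) (tt N7698 F15635) (tt N7196 (iv D9350)) (tt N11990 D11994) (tt N11991 D11995) (tt N7695 F15636))
theorem Q9352 : ∀ i, i < 9352 → P i := stepQ 9351 Q9351 (allL N9351 (tt N11767 (iv F19821)) (tt N7198 F15637) (tt N11991 (iv F20224)) (tt N7200 F15638) (tt N7196 (iv D9351)) (tt N11586 (iv F19464)))
theorem Q9353 : ∀ i, i < 9353 → P i := stepQ 9352 Q9352 (allL N9352 (tt N11768 (iv F19824)) (tt N7201 F15639) (tt N11761 (iv F19808)) (tt N11586 (iv F19463)) (tt N11283 (iv F18922)) (tt N7200 (iv D9352)))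
theorem Q9354 : ∀ i, i < 9354 → P i := stepQ 9353 Q9353 (allL N9353 (tt N11992 D11996) (tt N7203 (iv D9353)) (tt N9737 (iv F16257)) (tt N10522 (iv F17612)) (tt N10934 (iv F18354)) (tt N10521 F17610))
theorem Q9355 : ∀ i, i < 9355 → P i := stepQ 9354 Q9354 (allL N9354 (tt N7212 F15640) (tt N9740 (iv F16265)) (tt N10523 (iv F17614)) (tt N9931 (iv F16577)) (tt N7204 (iv D9354)) (tt N10937 (iv F18362)))
theorem Q9356 : ∀ i, i < 9356 → P i := stepQ 9355 Q9355 (allL N9355 (tt N10709 (iv F17944)) (tt N11993 D11997) (tt N7205 (iv D9355)) (tt N11994 D11998) (tt N7640 F15641) (tt N11995 D11999))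
theorem Q9357 : ∀ i, i < 9357 → P i := stepQ 9356 Q9356 (allL N9356 (tt N10710 (iv F17946)) (tt N10803 (iv F18106)) (tt N11995 (iv F20227)) (tt N7206 F15642) (tt N11996 D12000) (tt N7205 (iv D9356)))
theorem Q9358 : ∀ i, i < 9358 → P i := stepQ 9357 Q9357 (allL N9357 (tt N11997 D12001) (tt N7207 (iv D9357)) (tt N10944 (iv F18375)) (tt N11998 D12002) (tt N7209 F15643) (tt N11999 D12003))
theorem Q9359 : ∀ i, i < 9359 → P i := stepQ 9358 Q9358 (allL N9358 (tt N10935 (iv F18356)) (tt N11998 (iv F20230)) (tt N12000 D12004) (tt N7207 (iv D9358)) (tt N12001 D12005) (tt N12002 D12006))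
theorem Q9360 : ∀ i, i < 9360 → P i := stepQ 9359 Q9359 (allL N9359 (tt N10936 (iv F18357)) (tt N11999 (iv F20231)) (tt N7208 F15644) (tt N12002 (iv F20233)) (tt N12003 D12007) (tt N7207 (iv D9359)))
theorem Q9361 : ∀ i, i < 9361 → P i := stepQ 9360 Q9360 (allL N9360 (tt N10937 (iv F18360)) (tt N10946 (iv F18381)) (tt N12003 (iv F20234)) (tt N11842 (iv F19948)) (tt N7208 (iv D9360)) (tt N7212 F15645))
theorem Q9362 : ∀ i, i < 9362 → P i := stepQ 9361 Q9361 (allL N9361 (tt N7209 (iv D9361)) (tt N11992 (iv F20225)) (tt N11858 (iv F19970)) (tt N12004 D12008) (tt N11997 (iv F20229)) (tt N12005 D12009))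
theorem Q9363 : ∀ i, i < 9363 → P i := stepQ 9362 Q9362 (allL N9362 (tt N12004 (iv F20236)) (tt N7210 F15646) (tt N12006 D12010) (tt N7209 (iv D9362)) (tt N12007 D12011) (tt N10514 (iv F17603)))
theorem Q9364 : ∀ i, i < 9364 → P i := stepQ 9363 Q9363 (allL N9363 (tt N12005 (iv F20237)) (tt N7211 F15647) (tt N11857 (iv F19968)) (tt N10514 (iv F17602)) (tt N12008 D12012) (tt N7209 (iv D9363)))
theorem Q9365 : ∀ i, i < 9365 → P i := stepQ 9364 Q9364 (allL N9364 (tt N10524 (iv F17615)) (tt N12007 (iv F20240)) (tt N10515 (iv F17605)) (tt N12001 (iv F20232)) (tt N7210 (iv D9364)) (tt N12009 D12013))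
theorem Q9366 : ∀ i, i < 9366 → P i := stepQ 9365 Q9365 (allL N9365 (tt N10523 (iv F17613)) (tt N12008 (iv F20241)) (tt N7212 F15648) (tt N12010 D12014) (tt N7211 (iv D9365)) (tt N12003 (iv F20235)))
theorem Q9367 : ∀ i, i < 9367 → P i := stepQ 9366 Q9366 (allL N9366 (tt N9935 (iv F16586)) (tt N10417 (iv F17428)) (tt N11156 (iv F18690)) (tt N11874 (iv F19988)) (tt N10402 (iv F17399)) (tt N7213 (iv D9366)))
theorem Q9368 : ∀ i, i < 9368 → P i := stepQ 9367 Q9367 (allL N9367 (tt N9729 (iv F16239)) (tt N7214 (iv D9367)) (tt N9732 (iv F16247)) (tt N12011 D12015) (tt N9724 (iv F16224)) (tt N12012 D12016))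
theorem Q9369 : ∀ i, i < 9369 → P i := stepQ 9368 Q9368 (allL N9368 (tt N7217 F15649) (tt N12011 (iv F20246)) (tt N7232 F15650) (tt N7214 (iv D9368)) (tt N12011 (iv F20247)) (tt N7230 (iv F15651)))
theorem Q9370 : ∀ i, i < 9370 → P i := stepQ 9369 Q9369 (allL N9369 (tt N7218 F15652) (tt N12012 (iv F20250)) (tt N7215 F15653) (tt N7230 F15654) (tt N12013 D12017) (tt N7214 (iv D9369)))
theorem Q9371 : ∀ i, i < 9371 → P i := stepQ 9370 Q9370 (allL N9370 (tt N7219 F15655) (tt N9735 (iv F16253)) (tt N12013 (iv F20253)) (tt N9939 (iv F16595)) (tt N7215 (iv D9370)) (tt N9726 (iv F16231)))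
theorem Q9372 : ∀ i, i < 9372 → P i := stepQ 9371 Q9371 (allL N9371 (tt N7216 (iv D9371)) (tt N9729 (iv F16240)) (tt N7220 F15656) (tt N12014 D12018) (tt N9727 (iv F16234)) (tt N12015 D12019))
theorem Q9373 : ∀ i, i < 9373 → P i := stepQ 9372 Q9372 (allL N9372 (tt N12014 (iv F20254)) (tt N7217 F15657) (tt N12016 D12020) (tt N7216 (iv D9372)) (tt N12014 (iv F20256)) (tt N12017 D12021))
theorem Q9374 : ∀ i, i < 9374 → P i := stepQ 9373 Q9373 (allL N9373 (tt N12015 (iv F20257)) (tt N7218 F15658) (tt N7222 F15659) (tt N12017 (iv F20260)) (tt N9789 (iv F16356)) (tt N7216 (iv D9373)))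
theorem Q9375 : ∀ i, i < 9375 → P i := stepQ 9374 Q9374 (allL N9374 (tt N7232 F15660) (tt N12018 D12022) (tt N7217 (iv D9374)) (tt N7225 F15661) (tt N12019 D12023) (tt N7224 (iv F15662)))
theorem Q9376 : ∀ i, i < 9376 → P i := stepQ 9375 Q9375 (allL N9375 (tt N12011 (iv F20245)) (tt N12014 (iv F20255)) (tt N12019 (iv F20264)) (tt N9729 (iv F16241)) (tt N7217 (iv D9375)) (tt N12020 D12024))
theorem Q9377 : ∀ i, i < 9377 → P i := stepQ 9376 Q9376 (allL N9376 (tt N7230 F15663) (tt N12017 (iv F20259)) (tt N7224 F15664) (tt N7218 F15665) (tt N12021 D12025) (tt N7217 (iv D9376)))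
theorem Q9378 : ∀ i, i < 9378 → P i := stepQ 9377 Q9377 (allL N9377 (tt N12013 (iv F20252)) (tt N9789 (iv F16354)) (tt N7219 F15666) (tt N12022 D12026) (tt N7218 (iv D9377)) (tt N9731 (iv F16246)))
theorem Q9379 : ∀ i, i < 9379 → P i := stepQ 9378 Q9378 (allL N9378 (tt N7221 F15667) (tt N9757 (iv F16291)) (tt N12023 D12027) (tt N7220 (iv D9378)) (tt N9787 (iv F16353)) (tt N8963 (iv F15668)))
theorem Q9380 : ∀ i, i < 9380 → P i := stepQ 9379 Q9379 (allL N9379 (tt N7222 F15669) (tt N9758 (iv F16294)) (tt N12015 (iv F20258)) (tt N8963 F15670) (tt N9786 (iv F16351)) (tt N7220 (iv D9379)))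
theorem Q9381 : ∀ i, i < 9381 → P i := stepQ 9380 Q9380 (allL N9380 (tt N12023 (iv F20268)) (tt N8954 F15671) (tt N7221 (iv D9380)) (tt N12024 D12028) (tt N9790 (iv F16357)) (tt N8952 F15672))
theorem Q9382 : ∀ i, i < 9382 → P i := stepQ 9381 Q9381 (allL N9381 (tt N7223 (iv D9381)) (tt N7227 F15673) (tt N11836 (iv F19934)) (tt N12025 D12029) (tt N11740 (iv F19772)) (tt N12026 D12030))
theorem Q9383 : ∀ i, i < 9383 → P i := stepQ 9382 Q9382 (allL N9382 (tt N12025 (iv F20272)) (tt N7224 F15674) (tt N12027 D12031) (tt N7223 (iv D9382)) (tt N12028 D12032) (tt N12018 (iv F20262)))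
theorem Q9384 : ∀ i, i < 9384 → P i := stepQ 9383 Q9383 (allL N9383 (tt N12026 (iv F20274)) (tt N7225 F15675) (tt N11834 (iv F19927)) (tt N12018 (iv F20261)) (tt N12029 D12033) (tt N7223 (iv D9383)))
theorem Q9385 : ∀ i, i < 9385 → P i := stepQ 9384 Q9384 (allL N9384 (tt N7231 F15676) (tt N12028 (iv F20276)) (tt N12021 (iv F20267)) (tt N11742 (iv F19777)) (tt N7224 (iv D9384)) (tt N12030 D12034))
theorem Q9386 : ∀ i, i < 9386 → P i := stepQ 9385 Q9385 (allL N9385 (tt N7233 F15677) (tt N12029 (iv F20277)) (tt N7226 F15678) (tt N12031 D12035) (tt N7225 (iv D9385)) (tt N11718 (iv F19739)))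
theorem Q9387 : ∀ i, i < 9387 → P i := stepQ 9386 Q9386 (allL N9386 (tt N7228 F15679) (tt N12025 (iv F20273)) (tt N12032 D12036) (tt N7227 (iv D9386)) (tt N12033 D12037) (tt N12034 D12038))
theorem Q9388 : ∀ i, i < 9388 → P i := stepQ 9387 Q9387 (allL N9387 (tt N7229 F15680) (tt N12026 (iv F20275)) (tt N7235 F15681) (tt N12034 (iv F20285)) (tt N12035 D12039) (tt N7227 (iv D9387)))
theorem Q9389 : ∀ i, i < 9389 → P i := stepQ 9388 Q9388 (allL N9388 (tt N12032 (iv F20282)) (tt N12036 D12040) (tt N7228 (iv D9388)) (tt N12037 D12041) (tt N12038 D12042) (tt N12039 D12043))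
theorem Q9390 : ∀ i, i < 9390 → P i := stepQ 9389 Q9389 (allL N9389 (tt N12033 (iv F20283)) (tt N7231 F15682) (tt N12038 (iv F20292)) (tt N11745 (iv F19780)) (tt N7228 (iv D9389)) (tt N12038 F20293))
theorem Q9391 : ∀ i, i < 9391 → P i := stepQ 9390 Q9390 (allL N9390 (tt N12034 (iv F20284)) (tt N7232 F15683) (tt N12039 (iv F20295)) (tt N7229 F15684) (tt N12039 (iv F20296)) (tt N7228 (iv D9390)))
theorem Q9392 : ∀ i, i < 9392 → P i := stepQ 9391 Q9391 (allL N9391 (tt N12035 (iv F20286)) (tt N7233 F15685) (tt N7238 F15686) (tt N12040 D12044) (tt N7229 (iv D9391)) (tt N10443 (iv F17465)))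
theorem Q9393 : ∀ i, i < 9393 → P i := stepQ 9392 Q9392 (allL N9392 (tt N12020 (iv F20265)) (tt N7230 (iv D9392)) (tt N12036 (iv F20288)) (tt N12012 (iv F20251)) (tt N12041 D12045) (tt N12011 F20249))
theorem Q9394 : ∀ i, i < 9394 → P i := stepQ 9393 Q9393 (allL N9393 (tt N12021 (iv F20266)) (tt N12041 (iv F20298)) (tt N7231 F15687) (tt N12042 D12046) (tt N7230 (iv D9393)) (tt N12041 (iv F20300)))
theorem Q9395 : ∀ i, i < 9395 → P i := stepQ 9394 Q9394 (allL N9394 (tt N12030 (iv F20280)) (tt N12038 (iv F20291)) (tt N12041 (iv F20299)) (tt N11748 (iv F19784)) (tt N12036 (iv F20290)) (tt N7231 (iv D9394)))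
theorem Q9396 : ∀ i, i < 9396 → P i := stepQ 9395 Q9395 (allL N9395 (tt N12019 (iv F20263)) (tt N12039 (iv F20294)) (tt N12011 F20248) (tt N12043 D12047) (tt N7232 (iv D9395)) (tt N12036 F20289))
theorem Q9397 : ∀ i, i < 9397 → P i := stepQ 9396 Q9396 (allL N9396 (tt N12031 (iv F20281)) (tt N12040 (iv F20297)) (tt N12044 D12048) (tt N7233 (iv D9396)) (tt N12043 (iv F20301)) (tt N11736 (iv F19766)))
theorem Q9398 : ∀ i, i < 9398 → P i := stepQ 9397 Q9397 (allL N9397 (tt N7236 F15688) (tt N12045 D12049) (tt N7234 (iv D9397)) (tt N12046 D12050) (tt N12047 D12051) (tt N10204 F17037))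
theorem Q9399 : ∀ i, i < 9399 → P i := stepQ 9398 Q9398 (allL N9398 (tt N7237 F15689) (tt N10168 (iv F16950)) (tt N12047 (iv F20306)) (tt N10438 (iv F17454)) (tt N7234 (iv D9398)) (tt N10157 (iv F16919)))
theorem Q9400 : ∀ i, i < 9400 → P i := stepQ 9399 Q9399 (allL N9399 (tt N7238 F15690) (tt N10169 (iv F16954)) (tt N12035 (iv F20287)) (tt N10156 (iv F16913)) (tt N7235 (iv D9399)) (tt N10439 (iv F17459)))
theorem Q9401 : ∀ i, i < 9401 → P i := stepQ 9400 Q9400 (allL N9400 (tt N12046 (iv F20304)) (tt N10207 (iv F17040)) (tt N12048 D12052) (tt N7236 (iv D9400)) (tt N12049 D12053) (tt N10205 (iv F17039)))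
theorem Q9402 : ∀ i, i < 9402 → P i := stepQ 9401 Q9401 (allL N9401 (tt N12047 (iv F20305)) (tt N8028 F15691) (tt N7237 F15692) (tt N12050 D12054) (tt N7236 (iv D9401)) (tt N8026 F15693))
theorem Q9403 : ∀ i, i < 9403 → P i := stepQ 9402 Q9402 (allL N9402 (tt N7241 F15694) (tt N12051 D12055) (tt N7240 (iv D9402)) (tt N12052 D12056) (tt N10183 (iv F16988)) (tt N11828 (iv F19920)))
theorem Q9404 : ∀ i, i < 9404 → P i := stepQ 9403 Q9403 (allL N9403 (tt N12052 (iv F20310)) (tt N11832 (iv F19923)) (tt N12053 D12057) (tt N7241 (iv D9403)) (tt N12054 D12058) (tt N11829 (iv F19922)))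
theorem Q9405 : ∀ i, i < 9405 → P i := stepQ 9404 Q9404 (allL N9404 (tt N10735 (iv F17989)) (tt N11318 (iv F18995)) (tt N12055 D12059) (tt N7242 (iv D9404)) (tt N7243 F15695) (tt N12056 D12060))
theorem Q9406 : ∀ i, i < 9406 → P i := stepQ 9405 Q9405 (allL N9405 (tt N10880 (iv F18256)) (tt N11319 (iv F18998)) (tt N10402 (iv F17398)) (tt N12056 (iv F20312)) (tt N11156 (iv F18691)) (tt N7242 (iv D9405)))
theorem Q9407 : ∀ i, i < 9407 → P i := stepQ 9406 Q9406 (allL N9406 (tt N10734 (iv F17986)) (tt N12057 D12061) (tt N7243 (iv D9406)) (tt N10713 (iv F17955)) (tt N12055 (iv F20311)) (tt N10712 F17952))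
theorem Q9408 : ∀ i, i < 9408 → P i := stepQ 9407 Q9407 (allL N9407 (tt N8979 F15696) (tt N11691 (iv F19671)) (tt N10712 (iv F17951)) (tt N7244 F15697) (tt N12058 D12062) (tt N7243 (iv D9407)))
theorem Q9409 : ∀ i, i < 9409 → P i := stepQ 9408 Q9408 (allL N9408 (tt N7247 F15698) (tt N12059 D12063) (tt N7245 (iv D9408)) (tt N12060 D12064) (tt N11686 (iv F19661)) (tt N12061 D12065))
theorem Q9410 : ∀ i, i < 9410 → P i := stepQ 9409 Q9409 (allL N9409 (tt N7248 F15699) (tt N11688 (iv F19666)) (tt N12061 (iv F20319)) (tt N7246 F15700) (tt N12062 D12066) (tt N7245 (iv D9409)))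
theorem Q9411 : ∀ i, i < 9411 → P i := stepQ 9410 Q9410 (allL N9410 (tt N12063 D12067) (tt N7247 (iv D9410)) (tt N7249 F15701) (tt N12064 D12068) (tt N11971 (iv F20172)) (tt N12065 D12069))
theorem Q9412 : ∀ i, i < 9412 → P i := stepQ 9411 Q9411 (allL N9411 (tt N12060 (iv F20315)) (tt N12064 (iv F20326)) (tt N12066 D12070) (tt N7247 (iv D9411)) (tt N12067 D12071) (tt N12068 D12072))
theorem Q9413 : ∀ i, i < 9413 → P i := stepQ 9412 Q9412 (allL N9412 (tt N12061 (iv F20318)) (tt N12065 (iv F20327)) (tt N7248 F15702) (tt N12068 (iv F20334)) (tt N12069 D12073) (tt N7247 (iv D9412)))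
theorem Q9414 : ∀ i, i < 9414 → P i := stepQ 9413 Q9413 (allL N9413 (tt N12062 (iv F20321)) (tt N7252 F15703) (tt N12069 (iv F20335)) (tt N11280 (iv F18912)) (tt N7248 (iv D9413)) (tt N11974 (iv F20180)))
theorem Q9415 : ∀ i, i < 9415 → P i := stepQ 9414 Q9414 (allL N9414 (tt N7249 (iv D9414)) (tt N11976 (iv F20185)) (tt N12063 (iv F20325)) (tt N12070 D12074) (tt N11975 (iv F20183)) (tt N12071 D12075))
theorem Q9416 : ∀ i, i < 9416 → P i := stepQ 9415 Q9415 (allL N9415 (tt N12070 (iv F20336)) (tt N7250 F15704) (tt N12072 D12076) (tt N7249 (iv D9415)) (tt N12073 D12077) (tt N7607 (iv F15705)))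
theorem Q9417 : ∀ i, i < 9417 → P i := stepQ 9416 Q9416 (allL N9416 (tt N12071 (iv F20339)) (tt N7251 F15706) (tt N12065 (iv F20328)) (tt N7607 F15707) (tt N12074 D12078) (tt N7249 (iv D9416)))
theorem Q9418 : ∀ i, i < 9418 → P i := stepQ 9417 Q9417 (allL N9417 (tt N7652 F15708) (tt N12073 (iv F20344)) (tt N7606 F15709) (tt N7490 F15710) (tt N7250 (iv D9417)) (tt N7608 F15711))
theorem Q9419 : ∀ i, i < 9419 → P i := stepQ 9418 Q9418 (allL N9418 (tt N7651 F15712) (tt N12074 (iv F20347)) (tt N7252 F15713) (tt N7612 F15714) (tt N7251 (iv D9418)) (tt N7489 F15715))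
theorem Q9420 : ∀ i, i < 9420 → P i := stepQ 9419 Q9419 (allL N9419 (tt N7253 (iv D9419)) (tt N11848 (iv F19955)) (tt N10975 (iv F18437)) (tt N12075 D12079) (tt N11833 (iv F19926)) (tt N12076 D12080))
theorem Q9421 : ∀ i, i < 9421 → P i := stepQ 9420 Q9420 (allL N9420 (tt N12075 (iv F20350)) (tt N7254 F15716) (tt N12077 D12081) (tt N7253 (iv D9420)) (tt N12078 D12082) (tt N7354 (iv F15717)))
theorem Q9422 : ∀ i, i < 9422 → P i := stepQ 9421 Q9421 (allL N9421 (tt N12076 (iv F20353)) (tt N7255 F15718) (tt N10974 (iv F18435)) (tt N7354 F15719) (tt N12079 D12083) (tt N7253 (iv D9421)))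
theorem Q9423 : ∀ i, i < 9423 → P i := stepQ 9422 Q9422 (allL N9422 (tt N7380 F15720) (tt N12078 (iv F20358)) (tt N7355 F15721) (tt N11818 (iv F19906)) (tt N7254 (iv D9422)) (tt N11653 (iv F19602)))
theorem Q9424 : ∀ i, i < 9424 → P i := stepQ 9423 Q9423 (allL N9423 (tt N7379 F15722) (tt N12079 (iv F20359)) (tt N7256 F15723) (tt N11652 (iv F19599)) (tt N7255 (iv D9423)) (tt N11817 (iv F19903)))
theorem Q9425 : ∀ i, i < 9425 → P i := stepQ 9424 Q9424 (allL N9424 (tt N8577 F15724) (tt N11934 (iv F20112)) (tt N8548 F15725) (tt N7527 F15726) (tt N7457 F15727) (tt N7258 (iv D9424)))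
theorem Q9426 : ∀ i, i < 9426 → P i := stepQ 9425 Q9425 (allL N9425 (tt N7478 F15728) (tt N12080 D12084) (tt N7259 (iv D9425)) (tt N12081 D12085) (tt N7660 F15729) (tt N12082 D12086))
theorem Q9427 : ∀ i, i < 9427 → P i := stepQ 9426 Q9426 (allL N9426 (tt N7479 F15730) (tt N7264 F15731) (tt N12082 (iv F20366)) (tt N7260 F15732) (tt N12083 D12087) (tt N7259 (iv D9426)))
theorem Q9428 : ∀ i, i < 9428 → P i := stepQ 9427 Q9427 (allL N9427 (tt N7267 F15733) (tt N12084 D12088) (tt N7261 (iv D9427)) (tt N12085 D12089) (tt N7263 F15734) (tt N12086 D12090))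
theorem Q9429 : ∀ i, i < 9429 → P i := stepQ 9428 Q9428 (allL N9428 (tt N7268 F15735) (tt N7661 F15736) (tt N12086 (iv F20376)) (tt N7262 F15737) (tt N12087 D12091) (tt N7261 (iv D9428)))
theorem Q9430 : ∀ i, i < 9430 → P i := stepQ 9429 Q9429 (allL N9429 (tt N12088 D12092) (tt N7263 (iv D9429)) (tt N12080 (iv F20360)) (tt N7475 F15738) (tt N12084 (iv F20372)) (tt N7474 F15739))
theorem Q9431 : ∀ i, i < 9431 → P i := stepQ 9430 Q9430 (allL N9430 (tt N7272 F15740) (tt N12083 (iv F20368)) (tt N7476 F15741) (tt N7502 F15742) (tt N7264 (iv D9430)) (tt N12087 (iv F20382)))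
theorem Q9432 : ∀ i, i < 9432 → P i := stepQ 9431 Q9431 (allL N9431 (tt N8514 F15743) (tt N12089 D12093) (tt N7265 (iv D9431)) (tt N12090 D12094) (tt N8497 F15744) (tt N12091 D12095))
theorem Q9433 : ∀ i, i < 9433 → P i := stepQ 9432 Q9432 (allL N9432 (tt N8513 F15745) (tt N7656 F15746) (tt N12091 (iv F20390)) (tt N7266 F15747) (tt N12092 D12096) (tt N7265 (iv D9432)))
theorem Q9434 : ∀ i, i < 9434 → P i := stepQ 9433 Q9433 (allL N9433 (tt N12093 D12097) (tt N7267 (iv D9433)) (tt N7482 F15748) (tt N12094 D12098) (tt N7269 F15749) (tt N12095 D12099))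
theorem Q9435 : ∀ i, i < 9435 → P i := stepQ 9434 Q9434 (allL N9434 (tt N12085 (iv F20373)) (tt N12094 (iv F20397)) (tt N12096 D12100) (tt N7267 (iv D9434)) (tt N12097 D12101) (tt N12098 D12102))
theorem Q9436 : ∀ i, i < 9436 → P i := stepQ 9435 Q9435 (allL N9435 (tt N12086 (iv F20375)) (tt N12095 (iv F20398)) (tt N7268 F15750) (tt N12098 (iv F20405)) (tt N12099 D12103) (tt N7267 (iv D9435)))
theorem Q9437 : ∀ i, i < 9437 → P i := stepQ 9436 Q9436 (allL N9436 (tt N12087 (iv F20378)) (tt N7485 F15751) (tt N12099 (iv F20407)) (tt N7508 F15752) (tt N7268 (iv D9436)) (tt N7272 F15753))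
theorem Q9438 : ∀ i, i < 9438 → P i := stepQ 9437 Q9437 (allL N9437 (tt N7269 (iv D9437)) (tt N12088 (iv F20383)) (tt N7486 F15754) (tt N12100 D12104) (tt N12093 (iv F20396)) (tt N12101 D12105))
theorem Q9439 : ∀ i, i < 9439 → P i := stepQ 9438 Q9438 (allL N9438 (tt N12100 (iv F20409)) (tt N7270 F15755) (tt N12102 D12106) (tt N7269 (iv D9438)) (tt N12103 D12107) (tt N7464 (iv F15756)))
theorem Q9440 : ∀ i, i < 9440 → P i := stepQ 9439 Q9439 (allL N9439 (tt N12101 (iv F20412)) (tt N7271 F15757) (tt N7488 F15758) (tt N7464 F15759) (tt N12104 D12108) (tt N7269 (iv D9439)))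
theorem Q9441 : ∀ i, i < 9441 → P i := stepQ 9440 Q9440 (allL N9440 (tt N7477 F15760) (tt N12103 (iv F20418)) (tt N7465 F15761) (tt N12097 (iv F20403)) (tt N7270 (iv D9440)) (tt N12105 D12109))
theorem Q9442 : ∀ i, i < 9442 → P i := stepQ 9441 Q9441 (allL N9441 (tt N7476 F15762) (tt N12104 (iv F20419)) (tt N7272 F15763) (tt N12106 D12110) (tt N7271 (iv D9441)) (tt N12099 (iv F20408)))
theorem Q9443 : ∀ i, i < 9443 → P i := stepQ 9442 Q9442 (allL N9442 (tt N7460 F15764) (tt N12107 D12111) (tt N7273 (iv D9442)) (tt N12108 D12112) (tt N9605 (iv F16062)) (tt N12109 D12113))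
theorem Q9444 : ∀ i, i < 9444 → P i := stepQ 9443 Q9443 (allL N9443 (tt N7461 F15765) (tt N7276 F15766) (tt N12109 (iv F20429)) (tt N7274 F15767) (tt N12110 D12114) (tt N7273 (iv D9443)))
theorem Q9445 : ∀ i, i < 9445 → P i := stepQ 9444 Q9444 (allL N9444 (tt N12111 D12115) (tt N7275 (iv D9444)) (tt N12107 (iv F20426)) (tt N7822 F15768) (tt N9800 (iv F16376)) (tt N11702 (iv F19695)))
theorem Q9446 : ∀ i, i < 9446 → P i := stepQ 9445 Q9445 (allL N9445 (tt N7282 F15769) (tt N12110 (iv F20431)) (tt N11703 (iv F19697)) (tt N7291 F15770) (tt N7276 (iv D9445)) (tt N9803 (iv F16382)))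
theorem Q9447 : ∀ i, i < 9447 → P i := stepQ 9446 Q9446 (allL N9446 (tt N12112 D12116) (tt N7277 (iv D9446)) (tt N7469 F15771) (tt N12113 D12117) (tt N7279 F15772) (tt N12114 D12118))
theorem Q9448 : ∀ i, i < 9448 → P i := stepQ 9447 Q9447 (allL N9447 (tt N9801 (iv F16377)) (tt N12113 (iv F20437)) (tt N9809 (iv F16391)) (tt N7277 (iv D9447)) (tt N12115 D12119) (tt N9807 F16387))
theorem Q9449 : ∀ i, i < 9449 → P i := stepQ 9448 Q9448 (allL N9448 (tt N9802 (iv F16378)) (tt N12114 (iv F20438)) (tt N7278 F15773) (tt N9807 (iv F16386)) (tt N12116 D12120) (tt N7277 (iv D9448)))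
theorem Q9450 : ∀ i, i < 9450 → P i := stepQ 9449 Q9449 (allL N9449 (tt N9803 (iv F16380)) (tt N7472 F15774) (tt N12116 (iv F20442)) (tt N7307 F15775) (tt N7278 (iv D9449)) (tt N7282 F15776))
theorem Q9451 : ∀ i, i < 9451 → P i := stepQ 9450 Q9450 (allL N9450 (tt N7279 (iv D9450)) (tt N12111 (iv F20433)) (tt N7473 F15777) (tt N12117 D12121) (tt N12112 (iv F20436)) (tt N12118 D12122))
theorem Q9452 : ∀ i, i < 9452 → P i := stepQ 9451 Q9451 (allL N9451 (tt N12117 (iv F20444)) (tt N7280 F15778) (tt N12119 D12123) (tt N7279 (iv D9451)) (tt N12120 D12124) (tt N11697 (iv F19684)))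
theorem Q9453 : ∀ i, i < 9453 → P i := stepQ 9452 Q9452 (allL N9452 (tt N12118 (iv F20446)) (tt N7281 F15779) (tt N7475 F15780) (tt N11697 (iv F19683)) (tt N12121 D12125) (tt N7279 (iv D9452)))
theorem Q9454 : ∀ i, i < 9454 → P i := stepQ 9453 Q9453 (allL N9453 (tt N7821 F15781) (tt N12120 (iv F20449)) (tt N7753 F15782) (tt N12115 (iv F20441)) (tt N7280 (iv D9453)) (tt N12122 D12126))
theorem Q9455 : ∀ i, i < 9455 → P i := stepQ 9454 Q9454 (allL N9454 (tt N11703 (iv F19696)) (tt N12121 (iv F20450)) (tt N7282 F15783) (tt N12123 D12127) (tt N7281 (iv D9454)) (tt N12116 (iv F20443)))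
theorem Q9456 : ∀ i, i < 9456 → P i := stepQ 9455 Q9455 (allL N9455 (tt N7287 F15784) (tt N12124 D12128) (tt N7283 (iv D9455)) (tt N12125 D12129) (tt N8549 F15785) (tt N12126 D12130))
theorem Q9457 : ∀ i, i < 9457 → P i := stepQ 9456 Q9456 (allL N9456 (tt N7288 F15786) (tt N7293 F15787) (tt N12126 (iv F20465)) (tt N7284 F15788) (tt N12127 D12131) (tt N7283 (iv D9456)))
theorem Q9458 : ∀ i, i < 9458 → P i := stepQ 9457 Q9457 (allL N9457 (tt N8549 F15789) (tt N7526 F15790) (tt N7285 (iv D9457)) (tt N12128 D12132) (tt N7287 F15791) (tt N12129 D12133))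
theorem Q9459 : ∀ i, i < 9459 → P i := stepQ 9458 Q9458 (allL N9458 (tt N8550 F15792) (tt N7290 F15793) (tt N12129 (iv F20477)) (tt N7286 F15794) (tt N12130 D12134) (tt N7285 (iv D9458)))
theorem Q9460 : ∀ i, i < 9460 → P i := stepQ 9459 Q9459 (allL N9459 (tt N12125 (iv F20459)) (tt N7501 F15795) (tt N12131 D12135) (tt N7287 (iv D9459)) (tt N12132 D12136) (tt N7500 (iv F15796)))
theorem Q9461 : ∀ i, i < 9461 → P i := stepQ 9460 Q9460 (allL N9460 (tt N12126 (iv F20463)) (tt N7326 F15797) (tt N7288 F15798) (tt N7500 F15799) (tt N12133 D12137) (tt N7287 (iv D9460)))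
theorem Q9462 : ∀ i, i < 9462 → P i := stepQ 9461 Q9461 (allL N9461 (tt N12127 (iv F20467)) (tt N7291 F15800) (tt N12133 (iv F20488)) (tt N12110 (iv F20432)) (tt N7288 (iv D9461)) (tt N12130 (iv F20481)))
theorem Q9463 : ∀ i, i < 9463 → P i := stepQ 9462 Q9462 (allL N9462 (tt N7306 F15801) (tt N7527 F15802) (tt N7290 F15803) (tt N11934 (iv F20114)) (tt N7328 F15804) (tt N7289 (iv D9462)))
theorem Q9464 : ∀ i, i < 9464 → P i := stepQ 9463 Q9463 (allL N9463 (tt N7307 F15805) (tt N12130 (iv F20480)) (tt N7328 F15806) (tt N9803 (iv F16381)) (tt N7290 (iv D9463)) (tt N7291 F15807))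
theorem Q9465 : ∀ i, i < 9465 → P i := stepQ 9464 Q9464 (allL N9464 (tt N12134 D12138) (tt N7292 (iv D9464)) (tt N12124 (iv F20455)) (tt N12135 D12139) (tt N8551 F15808) (tt N12136 D12140))
theorem Q9466 : ∀ i, i < 9466 → P i := stepQ 9465 Q9465 (allL N9465 (tt N7297 F15809) (tt N12135 (iv F20493)) (tt N7317 F15810) (tt N7292 (iv D9465)) (tt N12137 D12141) (tt N7315 (iv F15811)))
theorem Q9467 : ∀ i, i < 9467 → P i := stepQ 9466 Q9466 (allL N9466 (tt N7298 F15812) (tt N12136 (iv F20497)) (tt N7293 F15813) (tt N7315 F15814) (tt N12138 D12142) (tt N7292 (iv D9466)))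
theorem Q9468 : ∀ i, i < 9468 → P i := stepQ 9467 Q9467 (allL N9467 (tt N7299 F15815) (tt N12127 (iv F20468)) (tt N12138 (iv F20504)) (tt N7465 F15816) (tt N7293 (iv D9467)) (tt N8554 F15817))
theorem Q9469 : ∀ i, i < 9469 → P i := stepQ 9468 Q9468 (allL N9468 (tt N12139 D12143) (tt N7294 (iv D9468)) (tt N7304 F15818) (tt N12140 D12144) (tt N7296 F15819) (tt N12141 D12145))
theorem Q9470 : ∀ i, i < 9470 → P i := stepQ 9469 Q9469 (allL N9469 (tt N8552 F15820) (tt N12140 (iv F20509)) (tt N8560 F15821) (tt N7294 (iv D9469)) (tt N12142 D12146) (tt N8558 (iv F15822)))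
theorem Q9471 : ∀ i, i < 9471 → P i := stepQ 9470 Q9470 (allL N9470 (tt N8553 F15823) (tt N12141 (iv F20511)) (tt N7295 F15824) (tt N8558 F15825) (tt N12143 D12147) (tt N7294 (iv D9470)))
theorem Q9472 : ∀ i, i < 9472 → P i := stepQ 9471 Q9471 (allL N9471 (tt N8554 F15826) (tt N7307 F15827) (tt N12143 (iv F20518)) (tt N7472 F15828) (tt N7295 (iv D9471)) (tt N7299 F15829))
theorem Q9473 : ∀ i, i < 9473 → P i := stepQ 9472 Q9472 (allL N9472 (tt N7296 (iv D9472)) (tt N12134 (iv F20489)) (tt N7308 F15830) (tt N12144 D12148) (tt N12139 (iv F20508)) (tt N12145 D12149))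
theorem Q9474 : ∀ i, i < 9474 → P i := stepQ 9473 Q9473 (allL N9473 (tt N12144 (iv F20520)) (tt N7297 F15831) (tt N12146 D12150) (tt N7296 (iv D9473)) (tt N12147 D12151) (tt N12148 D12152))
theorem Q9475 : ∀ i, i < 9475 → P i := stepQ 9474 Q9474 (allL N9474 (tt N12145 (iv F20521)) (tt N7298 F15832) (tt N7310 F15833) (tt N12148 (iv F20526)) (tt N12149 D12153) (tt N7296 (iv D9474)))
theorem Q9476 : ∀ i, i < 9476 → P i := stepQ 9475 Q9475 (allL N9475 (tt N7317 F15834) (tt N12150 D12154) (tt N7297 (iv D9475)) (tt N7314 F15835) (tt N12151 D12155) (tt N7313 (iv F15836)))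
theorem Q9477 : ∀ i, i < 9477 → P i := stepQ 9476 Q9476 (allL N9476 (tt N12137 (iv F20500)) (tt N12147 (iv F20524)) (tt N12151 (iv F20533)) (tt N12142 (iv F20516)) (tt N7297 (iv D9476)) (tt N12152 D12156))
theorem Q9478 : ∀ i, i < 9478 → P i := stepQ 9477 Q9477 (allL N9477 (tt N7315 F15837) (tt N12148 (iv F20525)) (tt N7313 F15838) (tt N7298 F15839) (tt N12153 D12157) (tt N7297 (iv D9477)))
theorem Q9479 : ∀ i, i < 9479 → P i := stepQ 9478 Q9478 (allL N9478 (tt N12138 (iv F20503)) (tt N12149 (iv F20527)) (tt N7299 F15840) (tt N12154 D12158) (tt N7298 (iv D9478)) (tt N12143 (iv F20519)))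
theorem Q9480 : ∀ i, i < 9480 → P i := stepQ 9479 Q9479 (allL N9479 (tt N9046 F15841) (tt N12155 D12159) (tt N7300 (iv D9479)) (tt N12156 D12160) (tt N9535 (iv F15936)) (tt N12157 D12161))
theorem Q9481 : ∀ i, i < 9481 → P i := stepQ 9480 Q9480 (allL N9480 (tt N9047 F15842) (tt N7303 F15843) (tt N12157 (iv F20542)) (tt N7301 F15844) (tt N12158 D12162) (tt N7300 (iv D9480)))
theorem Q9482 : ∀ i, i < 9482 → P i := stepQ 9481 Q9481 (allL N9481 (tt N12159 D12163) (tt N7302 (iv D9481)) (tt N12155 (iv F20537)) (tt N12160 D12164) (tt N9553 (iv F15973)) (tt N12161 D12165))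
theorem Q9483 : ∀ i, i < 9483 → P i := stepQ 9482 Q9482 (allL N9482 (tt N9557 (iv F15982)) (tt N12160 (iv F20546)) (tt N11934 (iv F20113)) (tt N7302 (iv D9482)) (tt N12162 D12166) (tt N11933 (iv F20110)))
theorem Q9484 : ∀ i, i < 9484 → P i := stepQ 9483 Q9483 (allL N9483 (tt N9558 (iv F15985)) (tt N12161 (iv F20549)) (tt N7303 F15845) (tt N11933 F20109) (tt N12163 D12167) (tt N7302 (iv D9483)))
theorem Q9485 : ∀ i, i < 9485 → P i := stepQ 9484 Q9484 (allL N9484 (tt N9559 (iv F15988)) (tt N12158 (iv F20545)) (tt N12163 (iv F20555)) (tt N9798 (iv F16371)) (tt N7303 (iv D9484)) (tt N9555 (iv F15979)))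
theorem Q9486 : ∀ i, i < 9486 → P i := stepQ 9485 Q9485 (allL N9485 (tt N7304 (iv D9485)) (tt N7525 F15846) (tt N12139 (iv F20507)) (tt N8576 (iv F15848)) (tt N7308 F15847) (tt N12164 D12168))
theorem Q9487 : ∀ i, i < 9487 → P i := stepQ 9486 Q9486 (allL N9486 (tt N8576 F15849) (tt N7305 F15850) (tt N12165 D12169) (tt N7304 (iv D9486)) (tt N8575 F15851) (tt N12166 D12170))
theorem Q9488 : ∀ i, i < 9488 → P i := stepQ 9487 Q9487 (allL N9487 (tt N12164 (iv F20557)) (tt N7306 F15852) (tt N12141 (iv F20512)) (tt N12166 (iv F20564)) (tt N12167 D12171) (tt N7304 (iv D9487)))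
theorem Q9489 : ∀ i, i < 9489 → P i := stepQ 9488 Q9488 (allL N9488 (tt N11933 (iv F20106)) (tt N12168 D12172) (tt N7305 (iv D9488)) (tt N9558 (iv F15987)) (tt N7442 F15853) (tt N9557 F15984))
theorem Q9490 : ∀ i, i < 9490 → P i := stepQ 9489 Q9489 (allL N9489 (tt N11934 (iv F20111)) (tt N12166 (iv F20563)) (tt N9557 (iv F15983)) (tt N7306 F15854) (tt N12169 D12173) (tt N7305 (iv D9489)))
theorem Q9491 : ∀ i, i < 9491 → P i := stepQ 9490 Q9490 (allL N9490 (tt N7328 F15855) (tt N12167 (iv F20565)) (tt N7307 F15856) (tt N12170 D12174) (tt N7306 (iv D9490)) (tt N7311 F15857))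
theorem Q9492 : ∀ i, i < 9492 → P i := stepQ 9491 Q9491 (allL N9491 (tt N7310 F15858) (tt N7325 F15859) (tt N12145 (iv F20523)) (tt N7320 F15860) (tt N12171 D12175) (tt N7308 (iv D9491)))
theorem Q9493 : ∀ i, i < 9493 → P i := stepQ 9492 Q9492 (allL N9492 (tt N12171 (iv F20572)) (tt N7311 F15861) (tt N12149 (iv F20528)) (tt N12172 D12176) (tt N7310 (iv D9492)) (tt N12167 (iv F20566)))
theorem Q9494 : ∀ i, i < 9494 → P i := stepQ 9493 Q9493 (allL N9493 (tt N7324 F15862) (tt N12172 (iv F20574)) (tt N11890 (iv F20016)) (tt N7311 (iv D9493)) (tt N7319 F15863) (tt N12170 (iv F20571)))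
theorem Q9495 : ∀ i, i < 9495 → P i := stepQ 9494 Q9494 (allL N9494 (tt N11901 (iv F20040)) (tt N7313 F15864) (tt N12173 D12177) (tt N7312 (iv D9494)) (tt N12174 D12178) (tt N12150 (iv F20531)))
theorem Q9496 : ∀ i, i < 9496 → P i := stepQ 9495 Q9495 (allL N9495 (tt N7318 F15865) (tt N7314 F15866) (tt N7320 F15867) (tt N12150 (iv F20530)) (tt N7320 F15868) (tt N7312 (iv D9495)))
theorem Q9497 : ∀ i, i < 9497 → P i := stepQ 9496 Q9496 (allL N9496 (tt N7316 F15869) (tt N12174 (iv F20576)) (tt N12153 (iv F20536)) (tt N7454 F15870) (tt N7313 (iv D9496)) (tt N12175 D12179))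
theorem Q9498 : ∀ i, i < 9498 → P i := stepQ 9497 Q9497 (allL N9497 (tt N12176 D12180) (tt N7315 (iv D9497)) (tt N7529 F15871) (tt N12136 (iv F20499)) (tt N12177 D12181) (tt N12135 F20495))
theorem Q9499 : ∀ i, i < 9499 → P i := stepQ 9498 Q9498 (allL N9498 (tt N12153 (iv F20535)) (tt N12177 (iv F20582)) (tt N7316 F15872) (tt N12178 D12182) (tt N7315 (iv D9498)) (tt N12179 D12183))
theorem Q9500 : ∀ i, i < 9500 → P i := stepQ 9499 Q9499 (allL N9499 (tt N12175 (iv F20578)) (tt N11908 (iv F20054)) (tt N12179 (iv F20584)) (tt N7457 F15873) (tt N12180 D12184) (tt N7316 (iv D9499)))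
theorem Q9501 : ∀ i, i < 9501 → P i := stepQ 9500 Q9500 (allL N9500 (tt N12151 (iv F20532)) (tt N7324 F15874) (tt N12137 (iv F20501)) (tt N7327 F15875) (tt N7317 (iv D9500)) (tt N12180 (iv F20587)))
theorem Q9502 : ∀ i, i < 9502 → P i := stepQ 9501 Q9501 (allL N9501 (tt N12150 (iv F20529)) (tt N7319 F15876) (tt N12181 D12185) (tt N7318 (iv D9501)) (tt N12172 (iv F20575)) (tt N11901 (iv F20042)))
theorem Q9503 : ∀ i, i < 9503 → P i := stepQ 9502 Q9502 (allL N9502 (tt N7321 (iv D9502)) (tt N7528 F15877) (tt N7532 F15878) (tt N12182 D12186) (tt N8582 F15879) (tt N11888 (iv F20012)))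
theorem Q9504 : ∀ i, i < 9504 → P i := stepQ 9503 Q9503 (allL N9503 (tt N12182 (iv F20588)) (tt N7322 F15880) (tt N12183 D12187) (tt N7321 (iv D9503)) (tt N12184 D12188) (tt N11889 (iv F20014)))
theorem Q9505 : ∀ i, i < 9505 → P i := stepQ 9504 Q9504 (allL N9504 (tt N7530 F15881) (tt N12184 (iv F20590)) (tt N11902 (iv F20044)) (tt N8585 F15882) (tt N7322 (iv D9504)) (tt N12185 D12189))
theorem Q9506 : ∀ i, i < 9506 → P i := stepQ 9505 Q9505 (allL N9505 (tt N12186 D12190) (tt N7323 (iv D9505)) (tt N12135 (iv F20494)) (tt N7522 F15883) (tt N12187 D12191) (tt N7529 F15884))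
theorem Q9507 : ∀ i, i < 9507 → P i := stepQ 9506 Q9506 (allL N9506 (tt N11890 (iv F20015)) (tt N12187 (iv F20596)) (tt N7324 F15885) (tt N12188 D12192) (tt N7323 (iv D9506)) (tt N12189 D12193))
theorem Q9508 : ∀ i, i < 9508 → P i := stepQ 9507 Q9507 (allL N9507 (tt N12170 (iv F20570)) (tt N12180 (iv F20585)) (tt N12189 (iv F20598)) (tt N7328 F15886) (tt N11908 (iv F20057)) (tt N7324 (iv D9507)))
theorem Q9509 : ∀ i, i < 9509 → P i := stepQ 9508 Q9508 (allL N9508 (tt N7327 F15887) (tt N12171 (iv F20573)) (tt N7512 F15888) (tt N12151 (iv F20534)) (tt N7325 (iv D9508)) (tt N12190 D12194))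
theorem Q9510 : ∀ i, i < 9510 → P i := stepQ 9509 Q9509 (allL N9509 (tt N7512 F15889) (tt N12133 (iv F20487)) (tt N7327 F15890) (tt N12191 D12195) (tt N7326 (iv D9509)) (tt N12192 D12196))
theorem Q9511 : ∀ i, i < 9511 → P i := stepQ 9510 Q9510 (allL N9510 (tt N12190 (iv F20600)) (tt N7328 F15891) (tt N12192 (iv F20606)) (tt N12180 (iv F20586)) (tt N7527 F15892) (tt N7327 (iv D9510)))
theorem Q9512 : ∀ i, i < 9512 → P i := stepQ 9511 Q9511 (allL N9511 (tt N7576 F15893) (tt N12193 D12197) (tt N7329 (iv D9511)) (tt N12194 D12198) (tt N7642 F15894) (tt N12195 D12199))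
theorem Q9513 : ∀ i, i < 9513 → P i := stepQ 9512 Q9512 (allL N9512 (tt N7575 F15895) (tt N7334 F15896) (tt N12195 (iv F20612)) (tt N7330 F15897) (tt N12196 D12200) (tt N7329 (iv D9512)))
theorem Q9514 : ∀ i, i < 9514 → P i := stepQ 9513 Q9513 (allL N9513 (tt N7339 F15898) (tt N12197 D12201) (tt N7331 (iv D9513)) (tt N12198 D12202) (tt N7333 F15899) (tt N12199 D12203))
theorem Q9515 : ∀ i, i < 9515 → P i := stepQ 9514 Q9514 (allL N9514 (tt N7340 F15900) (tt N7643 F15901) (tt N12199 (iv F20621)) (tt N7332 F15902) (tt N12200 D12204) (tt N7331 (iv D9514)))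
theorem Q9516 : ∀ i, i < 9516 → P i := stepQ 9515 Q9515 (allL N9515 (tt N12201 D12205) (tt N7333 (iv D9515)) (tt N12193 (iv F20608)) (tt N10930 (iv F18347)) (tt N12197 (iv F20618)) (tt N10929 F18345))
theorem Q9517 : ∀ i, i < 9517 → P i := stepQ 9516 Q9516 (allL N9516 (tt N7344 F15903) (tt N12196 (iv F20614)) (tt N10931 (iv F18349)) (tt N7592 F15904) (tt N7334 (iv D9516)) (tt N12200 (iv F20625)))
theorem Q9518 : ∀ i, i < 9518 → P i := stepQ 9517 Q9517 (allL N9517 (tt N7335 (iv D9517)) (tt N7345 F15905) (tt N7361 F15906) (tt N12202 D12206) (tt N7627 F15907) (tt N8578 F15908))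
theorem Q9519 : ∀ i, i < 9519 → P i := stepQ 9518 Q9518 (allL N9518 (tt N12202 (iv F20627)) (tt N7336 F15909) (tt N12203 D12207) (tt N7335 (iv D9518)) (tt N12204 D12208) (tt N10922 (iv F18332)))
theorem Q9520 : ∀ i, i < 9520 → P i := stepQ 9519 Q9519 (allL N9519 (tt N7347 F15910) (tt N12204 (iv F20633)) (tt N7347 F15911) (tt N7630 F15912) (tt N7336 (iv D9519)) (tt N12205 D12209))
theorem Q9521 : ∀ i, i < 9521 → P i := stepQ 9520 Q9520 (allL N9520 (tt N10697 (iv F17921)) (tt N12206 D12210) (tt N7337 (iv D9520)) (tt N12207 D12211) (tt N10825 (iv F18162)) (tt N12208 D12212))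
theorem Q9522 : ∀ i, i < 9522 → P i := stepQ 9521 Q9521 (allL N9521 (tt N10698 (iv F17923)) (tt N7641 F15913) (tt N12208 (iv F20639)) (tt N7338 F15914) (tt N12209 D12213) (tt N7337 (iv D9521)))
theorem Q9523 : ∀ i, i < 9523 → P i := stepQ 9522 Q9522 (allL N9522 (tt N12210 D12214) (tt N7339 (iv D9522)) (tt N7607 F15915) (tt N12211 D12215) (tt N7341 F15916) (tt N12072 (iv F20343)))
theorem Q9524 : ∀ i, i < 9524 → P i := stepQ 9523 Q9523 (allL N9523 (tt N12198 (iv F20619)) (tt N12211 (iv F20644)) (tt N12212 D12216) (tt N7339 (iv D9523)) (tt N12213 D12217) (tt N12214 D12218))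
theorem Q9525 : ∀ i, i < 9525 → P i := stepQ 9524 Q9524 (allL N9524 (tt N12199 (iv F20620)) (tt N12072 (iv F20342)) (tt N7340 F15917) (tt N12214 (iv F20646)) (tt N12215 D12219) (tt N7339 (iv D9524)))
theorem Q9526 : ∀ i, i < 9526 → P i := stepQ 9525 Q9525 (allL N9525 (tt N12200 (iv F20622)) (tt N7606 F15918) (tt N12215 (iv F20647)) (tt N7598 F15919) (tt N7340 (iv D9525)) (tt N7344 F15920))
theorem Q9527 : ∀ i, i < 9527 → P i := stepQ 9526 Q9526 (allL N9526 (tt N7341 (iv D9526)) (tt N12201 (iv F20626)) (tt N7610 F15921) (tt N12216 D12220) (tt N12210 (iv F20643)) (tt N12217 D12221))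
theorem Q9528 : ∀ i, i < 9528 → P i := stepQ 9527 Q9527 (allL N9527 (tt N12216 (iv F20649)) (tt N7342 F15922) (tt N12218 D12222) (tt N7341 (iv D9527)) (tt N12219 D12223) (tt N10920 (iv F18327)))
theorem Q9529 : ∀ i, i < 9529 → P i := stepQ 9528 Q9528 (allL N9528 (tt N12217 (iv F20650)) (tt N7343 F15923) (tt N7609 F15924) (tt N10920 (iv F18325)) (tt N12220 D12224) (tt N7341 (iv D9528)))
theorem Q9530 : ∀ i, i < 9530 → P i := stepQ 9529 Q9529 (allL N9529 (tt N10932 (iv F18350)) (tt N12219 (iv F20652)) (tt N10921 (iv F18329)) (tt N12213 (iv F20645)) (tt N7342 (iv D9529)) (tt N12221 D12225))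
theorem Q9531 : ∀ i, i < 9531 → P i := stepQ 9530 Q9530 (allL N9530 (tt N10931 (iv F18348)) (tt N12220 (iv F20653)) (tt N7344 F15925) (tt N12222 D12226) (tt N7343 (iv D9530)) (tt N12215 (iv F20648)))
theorem Q9532 : ∀ i, i < 9532 → P i := stepQ 9531 Q9531 (allL N9531 (tt N7346 F15926) (tt N12202 (iv F20628)) (tt N8572 F15928) (tt N7345 (iv D9531)) (tt N12223 D12227) (tt N8579 F15927))
theorem Q9533 : ∀ i, i < 9533 → P i := stepQ 9532 Q9532 (allL N9532 (tt N8572 F15929) (tt N12203 (iv F20630)) (tt N7346 (iv D9532)) (tt N8569 F15931) (tt N12224 D12228) (tt N8580 F15930))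
theorem Q9534 : ∀ i, i < 9534 → P i := stepQ 9533 Q9533 (allL N9533 (tt N12223 (iv F20658)) (tt N7347 F15932) (tt N12224 (iv F20662)) (tt N7634 F15933) (tt N7346 (iv D9533)) (tt N12225 D12229))
theorem Q9535 : ∀ i, i < 9535 → P i := stepQ 9534 Q9534 (allL N9534 (tt N12205 (iv F20635)) (tt N12225 (iv F20663)) (tt N12205 (iv F20636)) (tt N7637 F15934) (tt N10933 (iv F18352)) (tt N7347 (iv D9534)))
theorem Q9536 : ∀ i, i < 9536 → P i := stepQ 9535 Q9535 (allL N9535 (tt N7350 F15935) (tt N12226 D12230) (tt N7348 (iv D9535)) (tt N12227 D12231) (tt N9479 F15936) (tt N12228 D12232))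
theorem Q9537 : ∀ i, i < 9537 → P i := stepQ 9536 Q9536 (allL N9536 (tt N7351 F15937) (tt N7363 F15938) (tt N12228 (iv F20670)) (tt N7349 F15939) (tt N12229 D12233) (tt N7348 (iv D9536)))
theorem Q9538 : ∀ i, i < 9538 → P i := stepQ 9537 Q9537 (allL N9537 (tt N12230 D12234) (tt N7350 (iv D9537)) (tt N7354 F15940) (tt N12231 D12235) (tt N11645 (iv F19589)) (tt N12077 (iv F20357)))
theorem Q9539 : ∀ i, i < 9539 → P i := stepQ 9538 Q9538 (allL N9538 (tt N12227 (iv F20668)) (tt N12231 (iv F20676)) (tt N12232 D12236) (tt N7350 (iv D9538)) (tt N12233 D12237) (tt N12234 D12238))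
theorem Q9540 : ∀ i, i < 9540 → P i := stepQ 9539 Q9539 (allL N9539 (tt N12228 (iv F20669)) (tt N12077 (iv F20356)) (tt N7351 F15941) (tt N12234 (iv F20680)) (tt N12235 D12239) (tt N7350 (iv D9539)))
theorem Q9541 : ∀ i, i < 9541 → P i := stepQ 9540 Q9540 (allL N9540 (tt N12229 (iv F20671)) (tt N7355 F15942) (tt N12235 (iv F20681)) (tt N12236 D12240) (tt N7351 (iv D9540)) (tt N11648 (iv F19593)))
theorem Q9542 : ∀ i, i < 9542 → P i := stepQ 9541 Q9541 (allL N9541 (tt N7552 F15943) (tt N7356 F15944) (tt N12237 D12241) (tt N7352 (iv D9541)) (tt N12236 (iv F20684)) (tt N7353 F15945))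
theorem Q9543 : ∀ i, i < 9543 → P i := stepQ 9542 Q9542 (allL N9542 (tt N7551 F15946) (tt N12238 D12242) (tt N7353 (iv D9542)) (tt N12239 D12243) (tt N7419 F15947) (tt N12237 (iv F20687)))
theorem Q9544 : ∀ i, i < 9544 → P i := stepQ 9543 Q9543 (allL N9543 (tt N7354 (iv D9543)) (tt N7376 F15948) (tt N12230 (iv F20675)) (tt N12076 (iv F20355)) (tt N11649 (iv F19595)) (tt N12075 F20352))
theorem Q9545 : ∀ i, i < 9545 → P i := stepQ 9544 Q9544 (allL N9544 (tt N7381 F15949) (tt N12236 (iv F20683)) (tt N12240 D12244) (tt N7355 (iv D9544)) (tt N7356 F15950) (tt N7424 F15951))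
theorem Q9546 : ∀ i, i < 9546 → P i := stepQ 9545 Q9545 (allL N9545 (tt N7382 F15952) (tt N12241 D12245) (tt N7356 (iv D9545)) (tt N7388 F15954) (tt N12240 (iv F20695)) (tt N7357 F15953))
theorem Q9547 : ∀ i, i < 9547 → P i := stepQ 9546 Q9546 (allL N9546 (tt N12242 D12246) (tt N7357 (iv D9546)) (tt N12238 (iv F20689)) (tt N12243 D12247) (tt N7421 F15955) (tt N12241 (iv F20698)))
theorem Q9548 : ∀ i, i < 9548 → P i := stepQ 9547 Q9547 (allL N9547 (tt N7384 F15956) (tt N12243 (iv F20701)) (tt N7385 F15958) (tt N7357 (iv D9547)) (tt N12244 D12248) (tt N7388 F15957))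
theorem Q9549 : ∀ i, i < 9549 → P i := stepQ 9548 Q9548 (allL N9548 (tt N8627 F15959) (tt N7358 (iv D9548)) (tt N7629 F15960) (tt N12245 D12249) (tt N10833 (iv F18178)) (tt N7359 F15961))
theorem Q9550 : ∀ i, i < 9550 → P i := stepQ 9549 Q9549 (allL N9549 (tt N7385 F15962) (tt N12245 (iv F20708)) (tt N7384 F15963) (tt N7358 (iv D9549)) (tt N12246 D12250) (tt N7360 F15964))
theorem Q9551 : ∀ i, i < 9551 → P i := stepQ 9550 Q9550 (allL N9550 (tt N7359 (iv D9550)) (tt N7386 F15965) (tt N7627 F15966) (tt N12247 D12251) (tt N7361 F15967) (tt N8627 F15968))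
theorem Q9552 : ∀ i, i < 9552 → P i := stepQ 9551 Q9551 (allL N9551 (tt N12247 (iv F20712)) (tt N7360 F15969) (tt N12248 D12252) (tt N7359 (iv D9551)) (tt N11929 (iv F20099)) (tt N12245 (iv F20709)))
theorem Q9553 : ∀ i, i < 9553 → P i := stepQ 9552 Q9552 (allL N9552 (tt N7388 F15970) (tt N12249 D12253) (tt N7360 (iv D9552)) (tt N7382 F15971) (tt N11931 (iv F20103)) (tt N7384 F15972))
theorem Q9554 : ∀ i, i < 9554 → P i := stepQ 9553 Q9553 (allL N9553 (tt N12250 D12254) (tt N7362 (iv D9553)) (tt N12226 (iv F20666)) (tt N11109 (iv F18616)) (tt N9481 F15973) (tt N12251 D12255))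
theorem Q9555 : ∀ i, i < 9555 → P i := stepQ 9554 Q9554 (allL N9554 (tt N7368 F15974) (tt N12251 (iv F20719)) (tt N7363 F15975) (tt N7396 F15976) (tt N12252 D12256) (tt N7362 (iv D9554)))
theorem Q9556 : ∀ i, i < 9556 → P i := stepQ 9555 Q9555 (allL N9555 (tt N7369 F15977) (tt N12229 (iv F20672)) (tt N12252 (iv F20722)) (tt N7556 F15978) (tt N7363 (iv D9555)) (tt N9484 F15979))
theorem Q9557 : ∀ i, i < 9557 → P i := stepQ 9556 Q9556 (allL N9556 (tt N12253 D12257) (tt N7364 (iv D9556)) (tt N7370 F15980) (tt N12254 D12258) (tt N7366 F15981) (tt N12255 D12259))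
theorem Q9558 : ∀ i, i < 9558 → P i := stepQ 9557 Q9557 (allL N9557 (tt N9482 F15982) (tt N12254 (iv F20727)) (tt N9489 F15983) (tt N7364 (iv D9557)) (tt N12256 D12260) (tt N9488 (iv F15984)))
theorem Q9559 : ∀ i, i < 9559 → P i := stepQ 9558 Q9558 (allL N9558 (tt N9483 F15985) (tt N12255 (iv F20729)) (tt N7365 F15986) (tt N9488 F15987) (tt N9661 (iv F16128)) (tt N7364 (iv D9558)))
theorem Q9560 : ∀ i, i < 9560 → P i := stepQ 9559 Q9559 (allL N9559 (tt N9484 F15988) (tt N7373 F15989) (tt N9661 (iv F16129)) (tt N7562 F15990) (tt N7365 (iv D9559)) (tt N7369 F15991))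
theorem Q9561 : ∀ i, i < 9561 → P i := stepQ 9560 Q9560 (allL N9560 (tt N7366 (iv D9560)) (tt N12250 (iv F20717)) (tt N7376 F15992) (tt N12257 D12261) (tt N12253 (iv F20726)) (tt N12258 D12262))
theorem Q9562 : ∀ i, i < 9562 → P i := stepQ 9561 Q9561 (allL N9561 (tt N12257 (iv F20736)) (tt N7367 F15993) (tt N12259 D12263) (tt N7366 (iv D9561)) (tt N12260 D12264) (tt N12261 D12265))
theorem Q9563 : ∀ i, i < 9563 → P i := stepQ 9562 Q9562 (allL N9562 (tt N12258 (iv F20737)) (tt N7368 F15994) (tt N7378 F15995) (tt N12261 (iv F20741)) (tt N12262 D12266) (tt N7366 (iv D9562)))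
theorem Q9564 : ∀ i, i < 9564 → P i := stepQ 9563 Q9563 (allL N9563 (tt N11108 (iv F18613)) (tt N12260 (iv F20739)) (tt N11070 F18562) (tt N12256 (iv F20734)) (tt N7367 (iv D9563)) (tt N12263 D12267))
theorem Q9565 : ∀ i, i < 9565 → P i := stepQ 9564 Q9564 (allL N9564 (tt N7396 F15996) (tt N12261 (iv F20740)) (tt N7395 F15997) (tt N7368 F15998) (tt N9102 (iv F15999)) (tt N7367 (iv D9564)))
theorem Q9566 : ∀ i, i < 9566 → P i := stepQ 9565 Q9565 (allL N9565 (tt N12252 (iv F20721)) (tt N12262 (iv F20743)) (tt N7369 F16000) (tt N9662 (iv F16132)) (tt N7368 (iv D9565)) (tt N9661 F16130))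
theorem Q9567 : ∀ i, i < 9567 → P i := stepQ 9566 Q9566 (allL N9566 (tt N7370 (iv D9566)) (tt N11649 (iv F19594)) (tt N12253 (iv F20725)) (tt N12264 D12268) (tt N7376 F16001) (tt N12265 D12269))
theorem Q9568 : ∀ i, i < 9568 → P i := stepQ 9567 Q9567 (allL N9567 (tt N12264 (iv F20748)) (tt N7371 F16002) (tt N12266 D12270) (tt N7370 (iv D9567)) (tt N12267 D12271) (tt N11634 (iv F19571)))
theorem Q9569 : ∀ i, i < 9569 → P i := stepQ 9568 Q9568 (allL N9568 (tt N12265 (iv F20749)) (tt N7372 F16003) (tt N12255 (iv F20730)) (tt N11634 (iv F19570)) (tt N12268 D12272) (tt N7370 (iv D9568)))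
theorem Q9570 : ∀ i, i < 9570 → P i := stepQ 9569 Q9569 (allL N9569 (tt N11652 (iv F19598)) (tt N12267 (iv F20750)) (tt N11635 (iv F19572)) (tt N7379 F16004) (tt N7371 (iv D9569)) (tt N11855 (iv F19966)))
theorem Q9571 : ∀ i, i < 9571 → P i := stepQ 9570 Q9570 (allL N9570 (tt N11653 (iv F19600)) (tt N12268 (iv F20752)) (tt N7373 F16005) (tt N11854 (iv F19965)) (tt N7372 (iv D9570)) (tt N7380 F16006))
theorem Q9572 : ∀ i, i < 9572 → P i := stepQ 9571 Q9571 (allL N9571 (tt N7424 F16007) (tt N7562 F16008) (tt N12269 D12273) (tt N7373 (iv D9571)) (tt N7374 F16009) (tt N7381 F16010))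
theorem Q9573 : ∀ i, i < 9573 → P i := stepQ 9572 Q9572 (allL N9572 (tt N7423 F16011) (tt N12270 D12274) (tt N7374 (iv D9572)) (tt N7428 F16013) (tt N12269 (iv F20755)) (tt N7375 F16012))
theorem Q9574 : ∀ i, i < 9574 → P i := stepQ 9573 Q9573 (allL N9573 (tt N12271 D12275) (tt N7375 (iv D9573)) (tt N7559 F16014) (tt N12272 D12276) (tt N7383 F16015) (tt N12270 (iv F20759)))
theorem Q9575 : ∀ i, i < 9575 → P i := stepQ 9574 Q9574 (allL N9574 (tt N7422 F16016) (tt N12272 (iv F20763)) (tt N7430 F16018) (tt N7375 (iv D9574)) (tt N12273 D12277) (tt N7428 F16017))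
theorem Q9576 : ∀ i, i < 9576 → P i := stepQ 9575 Q9575 (allL N9575 (tt N7377 F16019) (tt N12076 (iv F20354)) (tt N12274 D12278) (tt N7376 (iv D9575)) (tt N12275 D12279) (tt N11848 (iv F19958)))
theorem Q9577 : ∀ i, i < 9577 → P i := stepQ 9576 Q9576 (allL N9576 (tt N7378 F16020) (tt N12075 (iv F20351)) (tt N12258 (iv F20738)) (tt N11848 (iv F19956)) (tt N12276 D12280) (tt N7376 (iv D9576)))
theorem Q9578 : ∀ i, i < 9578 → P i := stepQ 9577 Q9577 (allL N9577 (tt N12274 (iv F20768)) (tt N11841 (iv F19945)) (tt N7377 (iv D9577)) (tt N12277 D12281) (tt N12278 D12282) (tt N11839 F19944))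
theorem Q9579 : ∀ i, i < 9579 → P i := stepQ 9578 Q9578 (allL N9578 (tt N12275 (iv F20769)) (tt N7379 F16021) (tt N12278 (iv F20771)) (tt N12267 (iv F20751)) (tt N7377 (iv D9578)) (tt N11853 (iv F19964)))
theorem Q9580 : ∀ i, i < 9580 → P i := stepQ 9579 Q9579 (allL N9579 (tt N12276 (iv F20770)) (tt N7380 F16022) (tt N12262 (iv F20744)) (tt N11852 (iv F19962)) (tt N7378 (iv D9579)) (tt N12268 (iv F20753)))
theorem Q9581 : ∀ i, i < 9581 → P i := stepQ 9580 Q9580 (allL N9580 (tt N12240 (iv F20694)) (tt N12279 D12283) (tt N7381 (iv D9580)) (tt N12280 D12284) (tt N7382 F16023) (tt N12269 (iv F20756)))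
theorem Q9582 : ∀ i, i < 9582 → P i := stepQ 9581 Q9581 (allL N9581 (tt N12281 D12285) (tt N7382 (iv D9581)) (tt N7565 F16024) (tt N12249 (iv F20715)) (tt N12279 (iv F20773)) (tt N7383 F16025))
theorem Q9583 : ∀ i, i < 9583 → P i := stepQ 9582 Q9582 (allL N9582 (tt N7383 (iv D9582)) (tt N12242 (iv F20699)) (tt N7563 F16026) (tt N12282 D12286) (tt N12271 (iv F20762)) (tt N12281 (iv F20775)))
theorem Q9584 : ∀ i, i < 9584 → P i := stepQ 9583 Q9583 (allL N9583 (tt N12282 (iv F20776)) (tt N7384 F16027) (tt N12283 D12287) (tt N7383 (iv D9583)) (tt N12284 D12288) (tt N12249 (iv F20716)))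
theorem Q9585 : ∀ i, i < 9585 → P i := stepQ 9584 Q9584 (allL N9584 (tt N12244 (iv F20704)) (tt N12284 (iv F20780)) (tt N12246 (iv F20711)) (tt N12273 (iv F20767)) (tt N7384 (iv D9584)) (tt N12285 D12289))
theorem Q9586 : ∀ i, i < 9586 → P i := stepQ 9585 Q9585 (allL N9585 (tt N12246 (iv F20710)) (tt N8630 F16028) (tt N12244 (iv F20705)) (tt N10838 (iv F18191)) (tt N7385 (iv D9585)) (tt N12286 D12290))
theorem Q9587 : ∀ i, i < 9587 → P i := stepQ 9586 Q9586 (allL N9586 (tt N7387 F16029) (tt N12247 (iv F20713)) (tt N8615 F16031) (tt N7386 (iv D9586)) (tt N12287 D12291) (tt N8628 F16030))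
theorem Q9588 : ∀ i, i < 9588 → P i := stepQ 9587 Q9587 (allL N9587 (tt N8615 F16032) (tt N12288 D12292) (tt N7387 (iv D9587)) (tt N8612 F16034) (tt N12289 D12293) (tt N8629 F16033))
theorem Q9589 : ∀ i, i < 9589 → P i := stepQ 9588 Q9588 (allL N9588 (tt N12287 (iv F20783)) (tt N7389 F16035) (tt N12289 (iv F20790)) (tt N7392 F16036) (tt N7387 (iv D9588)) (tt N12290 D12294))
theorem Q9590 : ∀ i, i < 9590 → P i := stepQ 9589 Q9589 (allL N9589 (tt N12291 D12295) (tt N7388 (iv D9589)) (tt N12288 (iv F20786)) (tt N12241 (iv F20697)) (tt N12292 D12296) (tt N12243 (iv F20702)))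
theorem Q9591 : ∀ i, i < 9591 → P i := stepQ 9590 Q9590 (allL N9590 (tt N11931 (iv F20102)) (tt N12292 (iv F20794)) (tt N7389 F16037) (tt N11926 (iv F20095)) (tt N7388 (iv D9590)) (tt N11925 F20093))
theorem Q9592 : ∀ i, i < 9592 → P i := stepQ 9591 Q9591 (allL N9591 (tt N11932 (iv F20104)) (tt N12290 (iv F20791)) (tt N11925 (iv F20092)) (tt N7393 F16038) (tt N12286 (iv F20782)) (tt N7389 (iv D9591)))
theorem Q9593 : ∀ i, i < 9593 → P i := stepQ 9592 Q9592 (allL N9592 (tt N7391 F16039) (tt N12293 D12297) (tt N7390 (iv D9592)) (tt N8378 F16040) (tt N12294 D12298) (tt N11949 (iv F20144)))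
theorem Q9594 : ∀ i, i < 9594 → P i := stepQ 9593 Q9593 (allL N9593 (tt N7392 F16041) (tt N11928 (iv F20096)) (tt N12294 (iv F20797)) (tt N12287 (iv F20785)) (tt N7390 (iv D9593)) (tt N12295 D12299))
theorem Q9595 : ∀ i, i < 9595 → P i := stepQ 9594 Q9594 (allL N9594 (tt N8378 F16042) (tt N11914 (iv F20071)) (tt N8375 F16043) (tt N7391 (iv D9594)) (tt N11436 (iv F19197)) (tt N11950 (iv F20148)))
theorem Q9596 : ∀ i, i < 9596 → P i := stepQ 9595 Q9595 (allL N9595 (tt N12294 (iv F20796)) (tt N11912 (iv F20065)) (tt N7392 F16044) (tt N12296 D12300) (tt N7391 (iv D9595)) (tt N12297 D12301))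
theorem Q9597 : ∀ i, i < 9597 → P i := stepQ 9596 Q9596 (allL N9596 (tt N12295 (iv F20798)) (tt N7393 F16045) (tt N12297 (iv F20799)) (tt N12290 (iv F20792)) (tt N11952 (iv F20152)) (tt N7392 (iv D9596)))
theorem Q9598 : ∀ i, i < 9598 → P i := stepQ 9597 Q9597 (allL N9597 (tt N8418 F16046) (tt N7395 F16047) (tt N12298 D12302) (tt N7394 (iv D9597)) (tt N9100 F16048) (tt N11089 (iv F18588)))
theorem Q9599 : ∀ i, i < 9599 → P i := stepQ 9598 Q9598 (allL N9598 (tt N12299 D12303) (tt N7396 (iv D9598)) (tt N8429 F16049) (tt N12251 (iv F20720)) (tt N12300 D12304) (tt N11109 (iv F18617)))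
theorem Q9600 : ∀ i, i < 9600 → P i := stepQ 9599 Q9599 (allL N9599 (tt N9102 F16050) (tt N12300 (iv F20803)) (tt N7397 F16051) (tt N10122 (iv F16841)) (tt N7396 (iv D9599)) (tt N10121 (iv F16839)))
theorem Q9601 : ∀ i, i < 9601 → P i := stepQ 9600 Q9600 (allL N9600 (tt N9103 F16052) (tt N8428 F16053) (tt N10121 (iv F16838)) (tt N7568 F16054) (tt N11107 (iv F18611)) (tt N7397 (iv D9600)))
theorem Q9602 : ∀ i, i < 9602 → P i := stepQ 9601 Q9601 (allL N9601 (tt N8368 F16055) (tt N7398 (iv D9601)) (tt N8500 F16056) (tt N12301 D12305) (tt N10810 (iv F18128)) (tt N8365 F16057))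
theorem Q9603 : ∀ i, i < 9603 → P i := stepQ 9602 Q9602 (allL N9602 (tt N7399 F16058) (tt N12301 (iv F20806)) (tt N11950 (iv F20147)) (tt N7398 (iv D9602)) (tt N12302 D12306) (tt N8375 F16059))
theorem Q9604 : ∀ i, i < 9604 → P i := stepQ 9603 Q9603 (allL N9603 (tt N11950 (iv F20145)) (tt N12303 D12307) (tt N7399 (iv D9603)) (tt N11949 (iv F20143)) (tt N12304 D12308) (tt N8378 F16060))
theorem Q9605 : ∀ i, i < 9605 → P i := stepQ 9604 Q9604 (allL N9604 (tt N12302 (iv F20808)) (tt N8385 F16061) (tt N12304 (iv F20811)) (tt N10823 (iv F18159)) (tt N7399 (iv D9604)) (tt N12305 D12309))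
theorem Q9606 : ∀ i, i < 9606 → P i := stepQ 9605 Q9605 (allL N9605 (tt N9680 (iv F16160)) (tt N12306 D12310) (tt N7400 (iv D9605)) (tt N12307 D12311) (tt N9442 F16062) (tt N12308 D12312))
theorem Q9607 : ∀ i, i < 9607 → P i := stepQ 9606 Q9606 (allL N9606 (tt N9681 (iv F16162)) (tt N7558 F16063) (tt N12308 (iv F20816)) (tt N7401 F16064) (tt N12309 D12313) (tt N7400 (iv D9606)))
theorem Q9608 : ∀ i, i < 9608 → P i := stepQ 9607 Q9607 (allL N9607 (tt N12310 D12314) (tt N7402 (iv D9607)) (tt N7408 F16065) (tt N12311 D12315) (tt N7404 F16066) (tt N12312 D12316))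
theorem Q9609 : ∀ i, i < 9609 → P i := stepQ 9608 Q9608 (allL N9608 (tt N10632 (iv F17793)) (tt N12311 (iv F20822)) (tt N12313 D12317) (tt N7402 (iv D9608)) (tt N12314 D12318) (tt N12315 D12319))
theorem Q9610 : ∀ i, i < 9610 → P i := stepQ 9609 Q9609 (allL N9609 (tt N10633 (iv F17794)) (tt N12312 (iv F20823)) (tt N7403 F16067) (tt N12315 (iv F20826)) (tt N12316 D12320) (tt N7402 (iv D9609)))
theorem Q9611 : ∀ i, i < 9611 → P i := stepQ 9610 Q9610 (allL N9610 (tt N7790 F16068) (tt N7411 F16069) (tt N12316 (iv F20828)) (tt N7788 F16070) (tt N7403 (iv D9610)) (tt N7407 F16071))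
theorem Q9612 : ∀ i, i < 9612 → P i := stepQ 9611 Q9611 (allL N9611 (tt N7404 (iv D9611)) (tt N11607 (iv F19510)) (tt N7412 F16072) (tt N11879 (iv F19994)) (tt N12310 (iv F20821)) (tt N11868 (iv F19980)))
theorem Q9613 : ∀ i, i < 9613 → P i := stepQ 9612 Q9612 (allL N9612 (tt N11879 (iv F19993)) (tt N7405 F16073) (tt N11877 (iv F19990)) (tt N7404 (iv D9612)) (tt N12317 D12321) (tt N11746 (iv F19782)))
theorem Q9614 : ∀ i, i < 9614 → P i := stepQ 9613 Q9613 (allL N9613 (tt N11610 (iv F19517)) (tt N12317 (iv F20830)) (tt N11737 (iv F19767)) (tt N12314 (iv F20825)) (tt N7405 (iv D9613)) (tt N12318 D12322))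
theorem Q9615 : ∀ i, i < 9615 → P i := stepQ 9614 Q9614 (allL N9614 (tt N7789 F16074) (tt N11870 (iv F19983)) (tt N7407 F16075) (tt N12319 D12323) (tt N7406 (iv D9614)) (tt N12316 (iv F20829)))
theorem Q9616 : ∀ i, i < 9616 → P i := stepQ 9615 Q9615 (allL N9615 (tt N7408 (iv D9615)) (tt N7425 F16076) (tt N12310 (iv F20820)) (tt N11769 F19829) (tt N7412 F16077) (tt N12320 D12324))
theorem Q9617 : ∀ i, i < 9617 → P i := stepQ 9616 Q9616 (allL N9616 (tt N11769 (iv F19826)) (tt N7409 F16078) (tt N11760 (iv F19813)) (tt N7408 (iv D9616)) (tt N11762 F19812) (tt N12321 D12325))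
theorem Q9618 : ∀ i, i < 9618 → P i := stepQ 9617 Q9617 (allL N9617 (tt N12320 (iv F20832)) (tt N7410 F16079) (tt N12312 (iv F20824)) (tt N12321 (iv F20835)) (tt N11871 (iv F19986)) (tt N7408 (iv D9617)))
theorem Q9619 : ∀ i, i < 9619 → P i := stepQ 9618 Q9618 (allL N9618 (tt N7428 F16080) (tt N12322 D12326) (tt N7409 (iv D9618)) (tt N7423 F16081) (tt N11824 (iv F19915)) (tt N7422 (iv F16082)))
theorem Q9620 : ∀ i, i < 9620 → P i := stepQ 9619 Q9619 (allL N9619 (tt N7430 F16083) (tt N12321 (iv F20834)) (tt N7422 F16084) (tt N7410 F16085) (tt N12323 D12327) (tt N7409 (iv D9619)))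
theorem Q9621 : ∀ i, i < 9621 → P i := stepQ 9620 Q9620 (allL N9620 (tt N7414 F16086) (tt N12324 D12328) (tt N7413 (iv D9620)) (tt N12325 D12329) (tt N12326 D12330) (tt N11909 (iv F20060)))
theorem Q9622 : ∀ i, i < 9622 → P i := stepQ 9621 Q9621 (allL N9621 (tt N7415 F16087) (tt N7440 F16088) (tt N12326 (iv F20844)) (tt N11677 (iv F19646)) (tt N7413 (iv D9621)) (tt N12327 D12331))
theorem Q9623 : ∀ i, i < 9623 → P i := stepQ 9622 Q9622 (allL N9622 (tt N12325 (iv F20841)) (tt N11950 (iv F20146)) (tt N12325 (iv F20842)) (tt N7414 (iv D9622)) (tt N12328 D12332) (tt N11914 (iv F20072)))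
theorem Q9624 : ∀ i, i < 9624 → P i := stepQ 9623 Q9623 (allL N9623 (tt N12326 (iv F20843)) (tt N11951 (iv F20149)) (tt N7415 F16089) (tt N12329 D12333) (tt N7414 (iv D9623)) (tt N12330 D12334))
theorem Q9625 : ∀ i, i < 9625 → P i := stepQ 9624 Q9624 (allL N9624 (tt N12327 (iv F20845)) (tt N7416 F16090) (tt N12330 (iv F20848)) (tt N11679 (iv F19650)) (tt N11913 (iv F20070)) (tt N7415 (iv D9624)))
theorem Q9626 : ∀ i, i < 9626 → P i := stepQ 9625 Q9625 (allL N9625 (tt N7419 F16091) (tt N12331 D12335) (tt N7417 (iv D9625)) (tt N12332 D12336) (tt N7551 F16092) (tt N12333 D12337))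
theorem Q9627 : ∀ i, i < 9627 → P i := stepQ 9626 Q9626 (allL N9626 (tt N7420 F16093) (tt N7554 F16094) (tt N12333 (iv F20855)) (tt N7418 F16095) (tt N12334 D12338) (tt N7417 (iv D9626)))
theorem Q9628 : ∀ i, i < 9628 → P i := stepQ 9627 Q9627 (allL N9627 (tt N12335 D12339) (tt N7419 (iv D9627)) (tt N7421 F16096) (tt N12336 D12340) (tt N12238 (iv F20690)) (tt N12337 D12341))
theorem Q9629 : ∀ i, i < 9629 → P i := stepQ 9628 Q9628 (allL N9628 (tt N12332 (iv F20851)) (tt N12336 (iv F20862)) (tt N12338 D12342) (tt N7419 (iv D9628)) (tt N12339 D12343) (tt N12340 D12344))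
theorem Q9630 : ∀ i, i < 9630 → P i := stepQ 9629 Q9629 (allL N9629 (tt N12333 (iv F20854)) (tt N12337 (iv F20863)) (tt N7420 F16097) (tt N12340 (iv F20870)) (tt N12341 D12345) (tt N7419 (iv D9629)))
theorem Q9631 : ∀ i, i < 9631 → P i := stepQ 9630 Q9630 (allL N9630 (tt N12334 (iv F20857)) (tt N7424 F16098) (tt N12341 (iv F20871)) (tt N11648 (iv F19592)) (tt N7420 (iv D9630)) (tt N12236 (iv F20685)))
theorem Q9632 : ∀ i, i < 9632 → P i := stepQ 9631 Q9631 (allL N9631 (tt N7421 (iv D9631)) (tt N12271 (iv F20760)) (tt N12335 (iv F20861)) (tt N12342 D12346) (tt N12242 (iv F20700)) (tt N12343 D12347))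
theorem Q9633 : ∀ i, i < 9633 → P i := stepQ 9632 Q9632 (allL N9632 (tt N12342 (iv F20872)) (tt N7422 F16099) (tt N12344 D12348) (tt N7421 (iv D9632)) (tt N12345 D12349) (tt N12322 (iv F20837)))
theorem Q9634 : ∀ i, i < 9634 → P i := stepQ 9633 Q9633 (allL N9633 (tt N12343 (iv F20873)) (tt N7423 F16100) (tt N12337 (iv F20864)) (tt N12322 (iv F20836)) (tt N12346 D12350) (tt N7421 (iv D9633)))
theorem Q9635 : ∀ i, i < 9635 → P i := stepQ 9634 Q9634 (allL N9634 (tt N12273 (iv F20765)) (tt N12345 (iv F20874)) (tt N12323 (iv F20839)) (tt N12244 (iv F20706)) (tt N7422 (iv D9634)) (tt N12347 D12351))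
theorem Q9636 : ∀ i, i < 9636 → P i := stepQ 9635 Q9635 (allL N9635 (tt N12269 (iv F20754)) (tt N12346 (iv F20875)) (tt N7424 F16101) (tt N12348 D12352) (tt N7423 (iv D9635)) (tt N12240 (iv F20696)))
theorem Q9637 : ∀ i, i < 9637 → P i := stepQ 9636 Q9636 (allL N9636 (tt N7426 F16102) (tt N11769 F19828) (tt N12349 D12353) (tt N7425 (iv D9636)) (tt N11771 (iv F19832)) (tt N12350 D12354))
theorem Q9638 : ∀ i, i < 9638 → P i := stepQ 9637 Q9637 (allL N9637 (tt N7427 F16103) (tt N12320 (iv F20833)) (tt N11663 (iv F19616)) (tt N12350 (iv F20878)) (tt N12351 D12355) (tt N7425 (iv D9637)))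
theorem Q9639 : ∀ i, i < 9639 → P i := stepQ 9638 Q9638 (allL N9638 (tt N12349 (iv F20876)) (tt N12352 D12356) (tt N7426 (iv D9638)) (tt N12353 D12357) (tt N12354 D12358) (tt N12355 D12359))
theorem Q9640 : ∀ i, i < 9640 → P i := stepQ 9639 Q9639 (allL N9639 (tt N11771 (iv F19831)) (tt N7429 F16104) (tt N12354 (iv F20882)) (tt N7435 F16105) (tt N7426 (iv D9639)) (tt N12356 D12360))
theorem Q9641 : ∀ i, i < 9641 → P i := stepQ 9640 Q9640 (allL N9640 (tt N12350 (iv F20877)) (tt N7430 F16106) (tt N12355 (iv F20883)) (tt N7427 F16107) (tt N12357 D12361) (tt N7426 (iv D9640)))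
theorem Q9642 : ∀ i, i < 9642 → P i := stepQ 9641 Q9641 (allL N9641 (tt N12351 (iv F20879)) (tt N7431 F16108) (tt N11336 F19026) (tt N12358 D12362) (tt N7427 (iv D9641)) (tt N7436 F16109))
theorem Q9643 : ∀ i, i < 9643 → P i := stepQ 9642 Q9642 (allL N9642 (tt N12359 D12363) (tt N7428 (iv D9642)) (tt N12352 (iv F20881)) (tt N12270 (iv F20758)) (tt N12360 D12364) (tt N12272 (iv F20764)))
theorem Q9644 : ∀ i, i < 9644 → P i := stepQ 9643 Q9643 (allL N9643 (tt N11824 (iv F19914)) (tt N12360 (iv F20889)) (tt N7429 F16110) (tt N11820 (iv F19909)) (tt N7428 (iv D9643)) (tt N11822 (iv F19910)))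
theorem Q9645 : ∀ i, i < 9645 → P i := stepQ 9644 Q9644 (allL N9644 (tt N11823 (iv F19912)) (tt N12356 (iv F20884)) (tt N11822 (iv F19911)) (tt N7437 F16111) (tt N12361 D12365) (tt N7429 (iv D9644)))
theorem Q9646 : ∀ i, i < 9646 → P i := stepQ 9645 Q9645 (allL N9645 (tt N12323 (iv F20838)) (tt N12357 (iv F20886)) (tt N12273 (iv F20766)) (tt N12362 D12366) (tt N7430 (iv D9645)) (tt N12361 (iv F20890)))
theorem Q9647 : ∀ i, i < 9647 → P i := stepQ 9646 Q9646 (allL N9646 (tt N11867 (iv F19977)) (tt N12358 (iv F20887)) (tt N12363 D12367) (tt N7431 (iv D9646)) (tt N12362 (iv F20891)) (tt N7438 F16112))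
theorem Q9648 : ∀ i, i < 9648 → P i := stepQ 9647 Q9647 (allL N9647 (tt N7434 F16113) (tt N10587 (iv F17716)) (tt N7432 (iv D9647)) (tt N12364 D12368) (tt N12365 D12369) (tt N11740 (iv F19773)))
theorem Q9649 : ∀ i, i < 9649 → P i := stepQ 9648 Q9648 (allL N9648 (tt N7435 F16114) (tt N11772 (iv F19835)) (tt N12365 (iv F20895)) (tt N11771 F19833) (tt N7432 (iv D9648)) (tt N12366 D12370))
theorem Q9650 : ∀ i, i < 9650 → P i := stepQ 9649 Q9649 (allL N9649 (tt N7436 F16115) (tt N11869 (iv F19982)) (tt N11644 (iv F19586)) (tt N12367 D12371) (tt N7433 (iv D9649)) (tt N12351 (iv F20880)))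
theorem Q9651 : ∀ i, i < 9651 → P i := stepQ 9650 Q9650 (allL N9650 (tt N12364 (iv F20893)) (tt N11609 F19516) (tt N12368 D12372) (tt N7434 (iv D9650)) (tt N12369 D12373) (tt N11741 (iv F19775)))
theorem Q9652 : ∀ i, i < 9652 → P i := stepQ 9651 Q9651 (allL N9651 (tt N12365 (iv F20894)) (tt N11718 (iv F19737)) (tt N7435 F16116) (tt N12370 D12374) (tt N7434 (iv D9651)) (tt N12029 (iv F20279)))
theorem Q9653 : ∀ i, i < 9653 → P i := stepQ 9652 Q9652 (allL N9652 (tt N12366 (iv F20896)) (tt N7437 F16117) (tt N12029 (iv F20278)) (tt N12356 (iv F20885)) (tt N11834 (iv F19928)) (tt N7435 (iv D9652)))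
theorem Q9654 : ∀ i, i < 9654 → P i := stepQ 9653 Q9653 (allL N9653 (tt N12367 (iv F20897)) (tt N7438 F16118) (tt N12371 D12375) (tt N7436 (iv D9653)) (tt N11837 (iv F19937)) (tt N12358 (iv F20888)))
theorem Q9655 : ∀ i, i < 9655 → P i := stepQ 9654 Q9654 (allL N9654 (tt N11866 (iv F19975)) (tt N12372 D12376) (tt N7438 (iv D9654)) (tt N12373 D12377) (tt N11838 (iv F19940)) (tt N12363 (iv F20892)))
theorem Q9656 : ∀ i, i < 9656 → P i := stepQ 9655 Q9655 (allL N9655 (tt N12374 D12378) (tt N7439 (iv D9655)) (tt N12324 (iv F20840)) (tt N8546 F16119) (tt N12375 D12379) (tt N11915 (iv F20075)))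
theorem Q9657 : ∀ i, i < 9657 → P i := stepQ 9656 Q9656 (allL N9656 (tt N7443 F16120) (tt N12375 (iv F20900)) (tt N7440 F16121) (tt N12163 (iv F20556)) (tt N7439 (iv D9656)) (tt N12376 D12380))
theorem Q9658 : ∀ i, i < 9658 → P i := stepQ 9657 Q9657 (allL N9657 (tt N7444 F16122) (tt N12327 (iv F20846)) (tt N12376 (iv F20902)) (tt N11680 (iv F19653)) (tt N7819 F16123) (tt N7440 (iv D9657)))
theorem Q9659 : ∀ i, i < 9659 → P i := stepQ 9658 Q9658 (allL N9658 (tt N7441 (iv D9658)) (tt N12374 (iv F20898)) (tt N7445 F16124) (tt N12377 D12381) (tt N12378 D12382) (tt N11917 (iv F20079)))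
theorem Q9660 : ∀ i, i < 9660 → P i := stepQ 9659 Q9659 (allL N9659 (tt N12377 (iv F20905)) (tt N7442 F16125) (tt N12379 D12383) (tt N7441 (iv D9659)) (tt N12168 (iv F20567)) (tt N11918 (iv F20081)))
theorem Q9661 : ∀ i, i < 9661 → P i := stepQ 9660 Q9660 (allL N9660 (tt N12378 (iv F20908)) (tt N7443 F16126) (tt N7446 F16127) (tt N12380 D12384) (tt N7441 (iv D9660)) (tt N12381 D12385))
theorem Q9662 : ∀ i, i < 9662 → P i := stepQ 9661 Q9661 (allL N9661 (tt N12163 (iv F20554)) (tt N12380 (iv F20912)) (tt N9559 F16129) (tt N7443 (iv D9661)) (tt N9558 F16128) (tt N9565 (iv F16130)))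
theorem Q9663 : ∀ i, i < 9663 → P i := stepQ 9662 Q9662 (allL N9662 (tt N12376 (iv F20901)) (tt N12381 (iv F20916)) (tt N7444 F16131) (tt N9565 F16132) (tt N11707 (iv F19702)) (tt N7443 (iv D9662)))
theorem Q9664 : ∀ i, i < 9664 → P i := stepQ 9663 Q9663 (allL N9663 (tt N7446 F16133) (tt N11495 (iv F19291)) (tt N12378 (iv F20909)) (tt N11494 (iv F19289)) (tt N7445 (iv D9663)) (tt N12382 D12386))
theorem Q9665 : ∀ i, i < 9665 → P i := stepQ 9664 Q9664 (allL N9664 (tt N11494 (iv F19287)) (tt N7447 F16134) (tt N12383 D12387) (tt N7446 (iv D9664)) (tt N10986 (iv F18453)) (tt N12384 D12388))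
theorem Q9666 : ∀ i, i < 9666 → P i := stepQ 9665 Q9665 (allL N9665 (tt N12382 (iv F20919)) (tt N7448 F16135) (tt N12381 (iv F20917)) (tt N12384 (iv F20921)) (tt N11930 (iv F20101)) (tt N7446 (iv D9665)))
theorem Q9667 : ∀ i, i < 9667 → P i := stepQ 9666 Q9666 (allL N9666 (tt N10988 (iv F18455)) (tt N12385 D12389) (tt N7447 (iv D9666)) (tt N12386 D12390) (tt N10955 F18403) (tt N12387 D12391))
theorem Q9668 : ∀ i, i < 9668 → P i := stepQ 9667 Q9667 (allL N9667 (tt N10989 (iv F18457)) (tt N12384 (iv F20920)) (tt N12387 (iv F20922)) (tt N7448 F16136) (tt N12388 D12392) (tt N7447 (iv D9667)))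
theorem Q9669 : ∀ i, i < 9669 → P i := stepQ 9668 Q9668 (allL N9668 (tt N7453 F16137) (tt N7450 F16138) (tt N12389 D12393) (tt N7449 (iv D9668)) (tt N12390 D12394) (tt N8575 F16139))
theorem Q9670 : ∀ i, i < 9670 → P i := stepQ 9669 Q9669 (allL N9669 (tt N7452 F16140) (tt N12390 (iv F20926)) (tt N11919 (iv F20083)) (tt N11902 (iv F20045)) (tt N7450 (iv D9669)) (tt N12169 (iv F20569)))
theorem Q9671 : ∀ i, i < 9671 → P i := stepQ 9670 Q9670 (allL N9670 (tt N12391 D12395) (tt N7451 (iv D9670)) (tt N7455 F16141) (tt N11915 (iv F20073)) (tt N12392 D12396) (tt N8546 F16142))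
theorem Q9672 : ∀ i, i < 9672 → P i := stepQ 9671 Q9671 (allL N9671 (tt N11919 (iv F20082)) (tt N12392 (iv F20929)) (tt N7452 F16143) (tt N12393 D12397) (tt N7451 (iv D9671)) (tt N12162 (iv F20553)))
theorem Q9673 : ∀ i, i < 9673 → P i := stepQ 9672 Q9672 (allL N9672 (tt N12169 (iv F20568)) (tt N7457 F16144) (tt N12162 (iv F20551)) (tt N11908 (iv F20056)) (tt N11934 (iv F20115)) (tt N7452 (iv D9672)))
theorem Q9674 : ∀ i, i < 9674 → P i := stepQ 9673 Q9673 (allL N9673 (tt N12389 (iv F20923)) (tt N8527 F16145) (tt N7453 (iv D9673)) (tt N12394 D12398) (tt N12395 D12399) (tt N8571 F16146))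
theorem Q9675 : ∀ i, i < 9675 → P i := stepQ 9674 Q9674 (allL N9674 (tt N12390 (iv F20925)) (tt N7454 F16147) (tt N12395 (iv F20938)) (tt N12174 (iv F20577)) (tt N7453 (iv D9674)) (tt N12396 D12400))
theorem Q9676 : ∀ i, i < 9676 → P i := stepQ 9675 Q9675 (allL N9675 (tt N7457 F16148) (tt N12396 (iv F20939)) (tt N8529 F16149) (tt N12175 (iv F20579)) (tt N8577 F16150) (tt N7454 (iv D9675)))
theorem Q9677 : ∀ i, i < 9677 → P i := stepQ 9676 Q9676 (allL N9676 (tt N7455 (iv D9676)) (tt N8526 F16151) (tt N12391 (iv F20927)) (tt N8500 F16152) (tt N12397 D12401) (tt N8545 F16153))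
theorem Q9678 : ∀ i, i < 9678 → P i := stepQ 9677 Q9677 (allL N9677 (tt N12397 (iv F20941)) (tt N7456 F16154) (tt N12392 (iv F20930)) (tt N12398 D12402) (tt N7455 (iv D9677)) (tt N12399 D12403))
theorem Q9679 : ∀ i, i < 9679 → P i := stepQ 9678 Q9678 (allL N9678 (tt N8525 F16155) (tt N12398 (iv F20943)) (tt N12400 D12404) (tt N7456 (iv D9678)) (tt N8499 F16156) (tt N12401 D12405))
theorem Q9680 : ∀ i, i < 9680 → P i := stepQ 9679 Q9679 (allL N9679 (tt N8529 F16157) (tt N12399 (iv F20945)) (tt N7457 F16158) (tt N12401 (iv F20950)) (tt N8548 F16159) (tt N7456 (iv D9679)))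
theorem Q9681 : ∀ i, i < 9681 → P i := stepQ 9680 Q9680 (allL N9680 (tt N9605 F16160) (tt N12402 D12406) (tt N7458 (iv D9680)) (tt N12403 D12407) (tt N7460 F16161) (tt N12404 D12408))
theorem Q9682 : ∀ i, i < 9682 → P i := stepQ 9681 Q9681 (allL N9681 (tt N9606 F16162) (tt N7463 F16163) (tt N12404 (iv F20957)) (tt N7459 F16164) (tt N12405 D12409) (tt N7458 (iv D9681)))
theorem Q9683 : ∀ i, i < 9683 → P i := stepQ 9682 Q9682 (allL N9682 (tt N12406 D12410) (tt N7460 (iv D9682)) (tt N7464 F16165) (tt N12407 D12411) (tt N12402 (iv F20952)) (tt N12102 (iv F20417)))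
theorem Q9684 : ∀ i, i < 9684 → P i := stepQ 9683 Q9683 (allL N9683 (tt N12108 (iv F20427)) (tt N12407 (iv F20964)) (tt N12408 D12412) (tt N7460 (iv D9683)) (tt N12409 D12413) (tt N12410 D12414))
theorem Q9685 : ∀ i, i < 9685 → P i := stepQ 9684 Q9684 (allL N9684 (tt N12109 (iv F20428)) (tt N12102 (iv F20416)) (tt N7461 F16166) (tt N12410 (iv F20968)) (tt N12411 D12415) (tt N7460 (iv D9684)))
theorem Q9686 : ∀ i, i < 9686 → P i := stepQ 9685 Q9685 (allL N9685 (tt N12110 (iv F20430)) (tt N7465 F16167) (tt N12411 (iv F20969)) (tt N12127 (iv F20469)) (tt N7461 (iv D9685)) (tt N12405 (iv F20962)))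
theorem Q9687 : ∀ i, i < 9687 → P i := stepQ 9686 Q9686 (allL N9686 (tt N12412 D12416) (tt N7462 (iv D9686)) (tt N12402 (iv F20951)) (tt N12413 D12417) (tt N7464 F16168) (tt N12414 D12418))
theorem Q9688 : ∀ i, i < 9688 → P i := stepQ 9687 Q9687 (allL N9687 (tt N7470 F16169) (tt N12413 (iv F20972)) (tt N12415 D12419) (tt N7462 (iv D9687)) (tt N12106 (iv F20425)) (tt N12416 D12420))
theorem Q9689 : ∀ i, i < 9689 → P i := stepQ 9688 Q9688 (allL N9688 (tt N7471 F16170) (tt N12414 (iv F20973)) (tt N7463 F16171) (tt N12416 (iv F20979)) (tt N12105 (iv F20423)) (tt N7462 (iv D9688)))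
theorem Q9690 : ∀ i, i < 9690 → P i := stepQ 9689 Q9689 (allL N9689 (tt N7472 F16172) (tt N12405 (iv F20960)) (tt N12105 (iv F20422)) (tt N8554 F16173) (tt N7463 (iv D9689)) (tt N7465 F16174))
theorem Q9691 : ∀ i, i < 9691 → P i := stepQ 9690 Q9690 (allL N9690 (tt N7464 (iv D9690)) (tt N7473 F16175) (tt N12406 (iv F20963)) (tt N12101 (iv F20415)) (tt N12412 (iv F20971)) (tt N12100 F20411))
theorem Q9692 : ∀ i, i < 9692 → P i := stepQ 9691 Q9691 (allL N9691 (tt N12417 D12421) (tt N7467 (iv D9691)) (tt N11380 (iv F19089)) (tt N10106 (iv F21731)) (tt N8233 F16176) (tt N12418 D12423))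
theorem Q9693 : ∀ i, i < 9693 → P i := stepQ 9692 Q9692 (allL N9692 (tt N8241 F16177) (tt N10106 (iv F21730)) (tt N12416 (iv F20978)) (tt N7467 (iv D9692)) (tt N12419 D12424) (tt N12415 F20976))
theorem Q9694 : ∀ i, i < 9694 → P i := stepQ 9693 Q9693 (allL N9693 (tt N8242 F16178) (tt N12418 (iv F20983)) (tt N7468 F16179) (tt N12415 (iv F20975)) (tt N12420 D12425) (tt N7467 (iv D9693)))
theorem Q9695 : ∀ i, i < 9695 → P i := stepQ 9694 Q9694 (allL N9694 (tt N8243 F16180) (tt N11384 (iv F19096)) (tt N12420 (iv F20987)) (tt N8543 F16181) (tt N7468 (iv D9694)) (tt N8236 F16182))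
theorem Q9696 : ∀ i, i < 9696 → P i := stepQ 9695 Q9695 (allL N9695 (tt N7469 (iv D9695)) (tt N12412 (iv F20970)) (tt N12112 (iv F20435)) (tt N12421 D12426) (tt N7473 F16183) (tt N12422 D12427))
theorem Q9697 : ∀ i, i < 9697 → P i := stepQ 9696 Q9696 (allL N9696 (tt N12421 (iv F20989)) (tt N7470 F16184) (tt N12423 D12428) (tt N7469 (iv D9696)) (tt N12424 D12429) (tt N12425 D12430))
theorem Q9698 : ∀ i, i < 9698 → P i := stepQ 9697 Q9697 (allL N9697 (tt N12422 (iv F20990)) (tt N7471 F16185) (tt N12114 (iv F20439)) (tt N12425 (iv F20994)) (tt N12426 D12431) (tt N7469 (iv D9697)))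
theorem Q9699 : ∀ i, i < 9699 → P i := stepQ 9698 Q9698 (allL N9698 (tt N12415 (iv F20974)) (tt N12427 D12432) (tt N7470 (iv D9698)) (tt N8242 F16186) (tt N12428 D12433) (tt N8241 (iv F16187)))
theorem Q9700 : ∀ i, i < 9700 → P i := stepQ 9699 Q9699 (allL N9699 (tt N12106 (iv F20424)) (tt N12424 (iv F20991)) (tt N12428 (iv F20999)) (tt N7476 F16188) (tt N7470 (iv D9699)) (tt N12429 D12434))
theorem Q9701 : ∀ i, i < 9701 → P i := stepQ 9700 Q9700 (allL N9700 (tt N12416 (iv F20977)) (tt N12425 (iv F20993)) (tt N8241 F16189) (tt N7471 F16190) (tt N12430 D12435) (tt N7470 (iv D9700)))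
theorem Q9702 : ∀ i, i < 9702 → P i := stepQ 9701 Q9701 (allL N9701 (tt N12105 (iv F20421)) (tt N12426 (iv F20995)) (tt N7472 F16191) (tt N12431 D12436) (tt N7471 (iv D9701)) (tt N7477 F16192))
theorem Q9703 : ∀ i, i < 9703 → P i := stepQ 9702 Q9702 (allL N9702 (tt N7474 F16193) (tt N12101 (iv F20413)) (tt N12432 D12437) (tt N7473 (iv D9702)) (tt N12433 D12438) (tt N12088 (iv F20385)))
theorem Q9704 : ∀ i, i < 9704 → P i := stepQ 9703 Q9703 (allL N9703 (tt N7475 F16194) (tt N12100 (iv F20410)) (tt N12118 (iv F20447)) (tt N12088 (iv F20384)) (tt N12434 D12439) (tt N7473 (iv D9703)))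
theorem Q9705 : ∀ i, i < 9705 → P i := stepQ 9704 Q9704 (allL N9704 (tt N12432 (iv F21003)) (tt N12082 (iv F20365)) (tt N7474 (iv D9704)) (tt N12435 D12440) (tt N12436 D12441) (tt N12080 F20362))
theorem Q9706 : ∀ i, i < 9706 → P i := stepQ 9705 Q9705 (allL N9705 (tt N12433 (iv F21004)) (tt N7476 F16195) (tt N12436 (iv F21006)) (tt N12424 (iv F20992)) (tt N7474 (iv D9705)) (tt N12437 D12442))
theorem Q9707 : ∀ i, i < 9707 → P i := stepQ 9706 Q9706 (allL N9706 (tt N12434 (iv F21005)) (tt N7477 F16196) (tt N12121 (iv F20451)) (tt N12438 D12443) (tt N7475 (iv D9706)) (tt N12426 (iv F20996)))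
theorem Q9708 : ∀ i, i < 9708 → P i := stepQ 9707 Q9707 (allL N9707 (tt N12099 (iv F20406)) (tt N12437 (iv F21007)) (tt N12087 (iv F20380)) (tt N12429 (iv F21000)) (tt N12086 (iv F20377)) (tt N7476 (iv D9707)))
theorem Q9709 : ∀ i, i < 9709 → P i := stepQ 9708 Q9708 (allL N9708 (tt N12097 (iv F20402)) (tt N12438 (iv F21008)) (tt N12439 D12444) (tt N7477 (iv D9708)) (tt N12085 (iv F20374)) (tt N12431 (iv F21002)))
theorem Q9710 : ∀ i, i < 9710 → P i := stepQ 9709 Q9709 (allL N9709 (tt N12440 D12445) (tt N7478 (iv D9709)) (tt N7480 F16197) (tt N12441 D12446) (tt N7662 F16198) (tt N11979 (iv F20197)))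
theorem Q9711 : ∀ i, i < 9711 → P i := stepQ 9710 Q9710 (allL N9710 (tt N12081 (iv F20363)) (tt N12441 (iv F21011)) (tt N12410 (iv F20967)) (tt N7478 (iv D9710)) (tt N12442 D12447) (tt N12408 F20966))
theorem Q9712 : ∀ i, i < 9712 → P i := stepQ 9711 Q9711 (allL N9711 (tt N12082 (iv F20364)) (tt N11979 (iv F20196)) (tt N7479 F16199) (tt N12408 (iv F20965)) (tt N12443 D12448) (tt N7478 (iv D9711)))
theorem Q9713 : ∀ i, i < 9713 → P i := stepQ 9712 Q9712 (allL N9712 (tt N12083 (iv F20367)) (tt N7481 F16200) (tt N12443 (iv F21013)) (tt N7496 F16201) (tt N7479 (iv D9712)) (tt N7665 F16202))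
theorem Q9714 : ∀ i, i < 9714 → P i := stepQ 9713 Q9713 (allL N9713 (tt N7480 (iv D9713)) (tt N7486 F16203) (tt N12440 (iv F21009)) (tt N11978 (iv F20195)) (tt N7666 F16204) (tt N11977 F20191))
theorem Q9715 : ∀ i, i < 9715 → P i := stepQ 9714 Q9714 (allL N9714 (tt N7482 (iv D9714)) (tt N7666 F16205) (tt N12093 (iv F20395)) (tt N12444 D12449) (tt N7486 F16206) (tt N12445 D12450))
theorem Q9716 : ∀ i, i < 9716 → P i := stepQ 9715 Q9715 (allL N9715 (tt N12444 (iv F21015)) (tt N7483 F16207) (tt N12446 D12451) (tt N7482 (iv D9715)) (tt N12447 D12452) (tt N7675 (iv F16208)))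
theorem Q9717 : ∀ i, i < 9717 → P i := stepQ 9716 Q9716 (allL N9716 (tt N12445 (iv F21018)) (tt N7484 F16209) (tt N12095 (iv F20399)) (tt N7675 F16210) (tt N12448 D12453) (tt N7482 (iv D9716)))
theorem Q9718 : ∀ i, i < 9718 → P i := stepQ 9717 Q9717 (allL N9717 (tt N7669 F16211) (tt N12447 (iv F21023)) (tt N7676 F16212) (tt N7489 F16213) (tt N7483 (iv D9717)) (tt N7612 F16214))
theorem Q9719 : ∀ i, i < 9719 → P i := stepQ 9718 Q9718 (allL N9718 (tt N7670 F16215) (tt N12448 (iv F21026)) (tt N7485 F16216) (tt N7608 F16217) (tt N7484 (iv D9718)) (tt N7490 F16218))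
theorem Q9720 : ∀ i, i < 9720 → P i := stepQ 9719 Q9719 (allL N9719 (tt N7487 F16219) (tt N11978 (iv F20193)) (tt N12449 D12454) (tt N7486 (iv D9719)) (tt N12450 D12455) (tt N11975 (iv F20184)))
theorem Q9721 : ∀ i, i < 9721 → P i := stepQ 9720 Q9720 (allL N9720 (tt N7488 F16220) (tt N11977 (iv F20190)) (tt N12101 (iv F20414)) (tt N11975 (iv F20182)) (tt N12451 D12456) (tt N7486 (iv D9720)))
theorem Q9722 : ∀ i, i < 9722 → P i := stepQ 9721 Q9721 (allL N9721 (tt N12449 (iv F21029)) (tt N11973 (iv F20175)) (tt N7487 (iv D9721)) (tt N12452 D12457) (tt N12453 D12458) (tt N11971 F20173))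
theorem Q9723 : ∀ i, i < 9723 → P i := stepQ 9722 Q9722 (allL N9722 (tt N12450 (iv F21030)) (tt N7489 F16221) (tt N12453 (iv F21032)) (tt N12447 (iv F21024)) (tt N7487 (iv D9722)) (tt N12074 (iv F20349)))
theorem Q9724 : ∀ i, i < 9724 → P i := stepQ 9723 Q9723 (allL N9723 (tt N12451 (iv F21031)) (tt N7490 F16222) (tt N12104 (iv F20420)) (tt N12073 (iv F20345)) (tt N7488 (iv D9723)) (tt N12448 (iv F21028)))
theorem Q9725 : ∀ i, i < 9725 → P i := stepQ 9724 Q9724 (allL N9724 (tt N7494 F16226) (tt N7491 (iv D9724)) (tt N7500 F16223) (tt N7491 (iv F16225)) (tt N9367 F16224) (tt N12131 (iv F20485)))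
theorem Q9726 : ∀ i, i < 9726 → P i := stepQ 9725 Q9725 (allL N9725 (tt N7495 F16227) (tt N12131 (iv F20483)) (tt N7492 F16228) (tt N12131 (iv F20484)) (tt N12454 D12459) (tt N7491 (iv D9725)))
theorem Q9727 : ∀ i, i < 9727 → P i := stepQ 9726 Q9726 (allL N9726 (tt N7496 F16229) (tt N7502 F16230) (tt N12454 (iv F21034)) (tt N12083 (iv F20369)) (tt N7492 (iv D9726)) (tt N9370 F16231))
theorem Q9728 : ∀ i, i < 9728 → P i := stepQ 9727 Q9727 (allL N9727 (tt N7493 (iv D9727)) (tt N7494 F16232) (tt N7497 F16233) (tt N7493 (iv F16236)) (tt N9371 F16234) (tt N7545 F16235))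
theorem Q9729 : ∀ i, i < 9729 → P i := stepQ 9728 Q9728 (allL N9728 (tt N7500 F16237) (tt N7509 F16238) (tt N7494 (iv D9728)) (tt N12126 (iv F20466)) (tt N12455 D12460) (tt N12125 (iv F20462)))
theorem Q9730 : ∀ i, i < 9730 → P i := stepQ 9729 Q9729 (allL N9729 (tt N9367 F16239) (tt N9371 F16240) (tt N12455 (iv F21038)) (tt N9375 F16241) (tt N7494 (iv D9729)) (tt N12456 D12461))
theorem Q9731 : ∀ i, i < 9731 → P i := stepQ 9730 Q9730 (allL N9730 (tt N12131 (iv F20482)) (tt N7545 F16242) (tt N12125 (iv F20461)) (tt N7495 F16243) (tt N12457 D12462) (tt N7494 (iv D9730)))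
theorem Q9732 : ∀ i, i < 9732 → P i := stepQ 9731 Q9731 (allL N9731 (tt N12454 (iv F21033)) (tt N7548 F16244) (tt N7496 F16245) (tt N12458 D12463) (tt N7495 (iv D9731)) (tt N9377 F16246))
theorem Q9733 : ∀ i, i < 9733 → P i := stepQ 9732 Q9732 (allL N9732 (tt N12455 (iv F21036)) (tt N7498 (iv D9732)) (tt N9367 F16247) (tt N12459 D12464) (tt N7500 F16248) (tt N12460 D12465))
theorem Q9734 : ∀ i, i < 9734 → P i := stepQ 9733 Q9733 (allL N9733 (tt N7506 F16249) (tt N12459 (iv F21045)) (tt N12461 D12466) (tt N7498 (iv D9733)) (tt N12191 (iv F20604)) (tt N12462 D12467))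
theorem Q9735 : ∀ i, i < 9735 → P i := stepQ 9734 Q9734 (allL N9734 (tt N7507 F16250) (tt N12460 (iv F21046)) (tt N7499 F16251) (tt N12462 (iv F21053)) (tt N12463 D12468) (tt N7498 (iv D9734)))
theorem Q9736 : ∀ i, i < 9736 → P i := stepQ 9735 Q9735 (allL N9735 (tt N7508 F16252) (tt N9370 F16253) (tt N12463 (iv F21056)) (tt N12087 (iv F20381)) (tt N7499 (iv D9735)) (tt N7502 F16254))
theorem Q9737 : ∀ i, i < 9737 → P i := stepQ 9736 Q9736 (allL N9736 (tt N7514 F16255) (tt N12132 (iv F20486)) (tt N7502 F16256) (tt N12464 D12469) (tt N7501 (iv D9736)) (tt N12463 (iv F21057)))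
theorem Q9738 : ∀ i, i < 9738 → P i := stepQ 9737 Q9737 (allL N9737 (tt N12465 D12470) (tt N7503 (iv D9737)) (tt N9353 F16257) (tt N12466 D12471) (tt N8494 F16258) (tt N12467 D12472))
theorem Q9739 : ∀ i, i < 9739 → P i := stepQ 9738 Q9738 (allL N9738 (tt N8510 F16259) (tt N12466 (iv F21063)) (tt N12462 (iv F21052)) (tt N7503 (iv D9738)) (tt N8568 F16260) (tt N12461 F21050))
theorem Q9740 : ∀ i, i < 9740 → P i := stepQ 9739 Q9739 (allL N9739 (tt N8511 F16261) (tt N12467 (iv F21065)) (tt N7504 F16262) (tt N12461 (iv F21049)) (tt N8567 F16263) (tt N7503 (iv D9739)))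
theorem Q9741 : ∀ i, i < 9741 → P i := stepQ 9740 Q9740 (allL N9740 (tt N8512 F16264) (tt N9354 F16265) (tt N8567 F16266) (tt N12092 (iv F20393)) (tt N7504 (iv D9740)) (tt N8495 F16267))
theorem Q9742 : ∀ i, i < 9742 → P i := stepQ 9741 Q9741 (allL N9741 (tt N7505 (iv D9741)) (tt N12455 (iv F21037)) (tt N7515 F16268) (tt N12468 D12473) (tt N7509 F16269) (tt N12469 D12474))
theorem Q9743 : ∀ i, i < 9743 → P i := stepQ 9742 Q9742 (allL N9742 (tt N12468 (iv F21068)) (tt N7506 F16270) (tt N12470 D12475) (tt N7505 (iv D9742)) (tt N12471 D12476) (tt N12472 D12477))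
theorem Q9744 : ∀ i, i < 9744 → P i := stepQ 9743 Q9743 (allL N9743 (tt N12469 (iv F21069)) (tt N7507 F16271) (tt N7517 F16272) (tt N12472 (iv F21074)) (tt N12473 D12478) (tt N7505 (iv D9743)))
theorem Q9745 : ∀ i, i < 9745 → P i := stepQ 9744 Q9744 (allL N9744 (tt N12461 (iv F21048)) (tt N12474 D12479) (tt N7506 (iv D9744)) (tt N8511 F16273) (tt N12475 D12480) (tt N8510 (iv F16274)))
theorem Q9746 : ∀ i, i < 9746 → P i := stepQ 9745 Q9745 (allL N9745 (tt N12191 (iv F20603)) (tt N12471 (iv F21071)) (tt N12475 (iv F21080)) (tt N7512 F16275) (tt N7506 (iv D9745)) (tt N12476 D12481))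
theorem Q9747 : ∀ i, i < 9747 → P i := stepQ 9746 Q9746 (allL N9746 (tt N12462 (iv F21051)) (tt N12472 (iv F21073)) (tt N8510 F16276) (tt N7507 F16277) (tt N12477 D12482) (tt N7506 (iv D9746)))
theorem Q9748 : ∀ i, i < 9748 → P i := stepQ 9747 Q9747 (allL N9747 (tt N12463 (iv F21055)) (tt N12473 (iv F21075)) (tt N7508 F16278) (tt N12478 D12483) (tt N7507 (iv D9747)) (tt N7514 F16279))
theorem Q9749 : ∀ i, i < 9749 → P i := stepQ 9748 Q9748 (allL N9748 (tt N7510 F16280) (tt N12126 (iv F20464)) (tt N12136 (iv F20498)) (tt N7509 (iv D9748)) (tt N12479 D12484) (tt N12124 F20458))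
theorem Q9750 : ∀ i, i < 9750 → P i := stepQ 9749 Q9749 (allL N9749 (tt N7511 F16281) (tt N12125 (iv F20460)) (tt N7521 F16282) (tt N12124 F20457) (tt N12480 D12485) (tt N7509 (iv D9749)))
theorem Q9751 : ∀ i, i < 9751 → P i := stepQ 9750 Q9750 (allL N9750 (tt N12136 (iv F20496)) (tt N12145 (iv F20522)) (tt N7510 (iv D9750)) (tt N12176 (iv F20581)) (tt N12481 D12486) (tt N12134 F20492))
theorem Q9752 : ∀ i, i < 9752 → P i := stepQ 9751 Q9751 (allL N9751 (tt N12479 (iv F21085)) (tt N7512 F16283) (tt N12481 (iv F21088)) (tt N12471 (iv F21072)) (tt N7510 (iv D9751)) (tt N12482 D12487))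
theorem Q9753 : ∀ i, i < 9753 → P i := stepQ 9752 Q9752 (allL N9752 (tt N12124 (iv F20454)) (tt N7513 F16284) (tt N12134 (iv F20490)) (tt N7511 F16285) (tt N12483 D12488) (tt N7510 (iv D9752)))
theorem Q9754 : ∀ i, i < 9754 → P i := stepQ 9753 Q9753 (allL N9753 (tt N12480 (iv F21086)) (tt N7514 F16286) (tt N7524 F16287) (tt N12484 D12489) (tt N7511 (iv D9753)) (tt N12473 (iv F21077)))
theorem Q9755 : ∀ i, i < 9755 → P i := stepQ 9754 Q9754 (allL N9754 (tt N12192 (iv F20605)) (tt N12482 (iv F21089)) (tt N12190 (iv F20601)) (tt N12476 (iv F21081)) (tt N12485 D12490) (tt N7512 (iv D9754)))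
theorem Q9756 : ∀ i, i < 9756 → P i := stepQ 9755 Q9755 (allL N9755 (tt N7526 F16288) (tt N12483 (iv F21091)) (tt N7525 F16289) (tt N12486 D12491) (tt N7513 (iv D9755)) (tt N12485 (iv F21096)))
theorem Q9757 : ∀ i, i < 9757 → P i := stepQ 9756 Q9756 (allL N9756 (tt N12464 (iv F21058)) (tt N12484 (iv F21093)) (tt N12487 D12492) (tt N7514 (iv D9756)) (tt N12486 (iv F21098)) (tt N12478 (iv F21084)))
theorem Q9758 : ∀ i, i < 9758 → P i := stepQ 9757 Q9757 (allL N9757 (tt N7516 F16290) (tt N9378 F16291) (tt N12488 D12493) (tt N7515 (iv D9757)) (tt N12489 D12494) (tt N8216 (iv F16292)))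
theorem Q9759 : ∀ i, i < 9759 → P i := stepQ 9758 Q9758 (allL N9758 (tt N7517 F16293) (tt N9379 F16294) (tt N12469 (iv F21070)) (tt N8216 F16295) (tt N12490 D12495) (tt N7515 (iv D9758)))
theorem Q9760 : ∀ i, i < 9760 → P i := stepQ 9759 Q9759 (allL N9759 (tt N12488 (iv F21099)) (tt N8214 F16296) (tt N7516 (iv D9759)) (tt N12491 D12496) (tt N12492 D12497) (tt N8212 F16297))
theorem Q9761 : ∀ i, i < 9761 → P i := stepQ 9760 Q9760 (allL N9760 (tt N12489 (iv F21101)) (tt N7518 F16298) (tt N12492 (iv F21112)) (tt N7523 F16299) (tt N7516 (iv D9760)) (tt N8604 F16300))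
theorem Q9762 : ∀ i, i < 9762 → P i := stepQ 9761 Q9761 (allL N9761 (tt N12490 (iv F21105)) (tt N7519 F16301) (tt N12473 (iv F21076)) (tt N8603 F16302) (tt N7517 (iv D9761)) (tt N7524 F16303))
theorem Q9763 : ∀ i, i < 9763 → P i := stepQ 9762 Q9762 (allL N9762 (tt N7522 F16304) (tt N11888 (iv F20010)) (tt N7520 (iv D9762)) (tt N12186 (iv F20594)) (tt N12493 D12498) (tt N7528 F16305))
theorem Q9764 : ∀ i, i < 9764 → P i := stepQ 9763 Q9763 (allL N9763 (tt N7523 F16306) (tt N7547 F16307) (tt N12493 (iv F21115)) (tt N12489 (iv F21103)) (tt N7520 (iv D9763)) (tt N8600 F16308))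
theorem Q9765 : ∀ i, i < 9765 → P i := stepQ 9764 Q9764 (allL N9764 (tt N7524 F16309) (tt N7546 F16310) (tt N12480 (iv F21087)) (tt N8599 F16311) (tt N7521 (iv D9764)) (tt N12490 (iv F21108)))
theorem Q9766 : ∀ i, i < 9766 → P i := stepQ 9765 Q9765 (allL N9765 (tt N12493 (iv F21114)) (tt N7531 F16312) (tt N7523 F16313) (tt N12494 D12499) (tt N7522 (iv D9765)) (tt N8592 F16314))
theorem Q9767 : ∀ i, i < 9767 → P i := stepQ 9766 Q9766 (allL N9766 (tt N7527 F16315) (tt N12164 (iv F20558)) (tt N12485 (iv F21095)) (tt N8577 F16316) (tt N12190 (iv F20602)) (tt N7525 (iv D9766)))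
theorem Q9768 : ∀ i, i < 9768 → P i := stepQ 9767 Q9767 (allL N9767 (tt N12486 (iv F21097)) (tt N12128 (iv F20472)) (tt N12495 D12500) (tt N7526 (iv D9767)) (tt N12464 (iv F21059)) (tt N12496 D12501))
theorem Q9769 : ∀ i, i < 9769 → P i := stepQ 9768 Q9768 (allL N9768 (tt N12485 (iv F21094)) (tt N12129 (iv F20476)) (tt N7527 F16317) (tt N12496 (iv F21123)) (tt N12192 (iv F20607)) (tt N7526 (iv D9768)))
theorem Q9770 : ∀ i, i < 9770 → P i := stepQ 9769 Q9769 (allL N9769 (tt N7529 F16318) (tt N12182 (iv F20589)) (tt N12176 (iv F20580)) (tt N7528 (iv D9769)) (tt N12497 D12502) (tt N12186 (iv F20595)))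
theorem Q9771 : ∀ i, i < 9771 → P i := stepQ 9770 Q9770 (allL N9770 (tt N12497 (iv F21126)) (tt N7530 F16319) (tt N12177 (iv F20583)) (tt N8590 F16320) (tt N7529 (iv D9770)) (tt N12498 D12503))
theorem Q9772 : ∀ i, i < 9772 → P i := stepQ 9771 Q9771 (allL N9771 (tt N12185 (iv F20592)) (tt N12498 (iv F21128)) (tt N11908 (iv F20055)) (tt N8595 F16321) (tt N12189 (iv F20599)) (tt N7530 (iv D9771)))
theorem Q9773 : ∀ i, i < 9773 → P i := stepQ 9772 Q9772 (allL N9772 (tt N11887 (iv F20008)) (tt N12494 (iv F21117)) (tt N12499 D12504) (tt N7531 (iv D9772)) (tt N12188 (iv F20597)) (tt N8597 F16322))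
theorem Q9774 : ∀ i, i < 9774 → P i := stepQ 9773 Q9773 (allL N9773 (tt N7534 F16323) (tt N10038 (iv F16746)) (tt N12500 D12505) (tt N7533 (iv D9773)) (tt N12501 D12506) (tt N10037 (iv F16744)))
theorem Q9775 : ∀ i, i < 9775 → P i := stepQ 9774 Q9774 (allL N9774 (tt N7535 F16324) (tt N10039 (iv F16748)) (tt N7541 F16325) (tt N10037 (iv F16743)) (tt N12502 D12507) (tt N7533 (iv D9774)))
theorem Q9776 : ∀ i, i < 9776 → P i := stepQ 9775 Q9775 (allL N9775 (tt N12500 (iv F21131)) (tt N10035 (iv F16738)) (tt N7534 (iv D9775)) (tt N12503 D12508) (tt N12504 D12509) (tt N10033 F16737))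
theorem Q9777 : ∀ i, i < 9777 → P i := stepQ 9776 Q9776 (allL N9776 (tt N12501 (iv F21133)) (tt N7536 F16326) (tt N12504 (iv F21140)) (tt N7539 F16327) (tt N7534 (iv D9776)) (tt N12505 D12510))
theorem Q9778 : ∀ i, i < 9778 → P i := stepQ 9777 Q9777 (allL N9777 (tt N12502 (iv F21135)) (tt N7537 F16328) (tt N7544 F16329) (tt N12505 (iv F21142)) (tt N7535 (iv D9777)) (tt N7539 F16330))
theorem Q9779 : ∀ i, i < 9779 → P i := stepQ 9778 Q9778 (allL N9778 (tt N10016 (iv F16714)) (tt N12505 (iv F21141)) (tt N7723 F16331) (tt N7537 F16332) (tt N7907 F16333) (tt N7536 (iv D9778)))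
theorem Q9780 : ∀ i, i < 9780 → P i := stepQ 9779 Q9779 (allL N9779 (tt N7539 F16334) (tt N11898 (iv F20034)) (tt N7547 F16335) (tt N12501 (iv F21134)) (tt N7538 (iv D9779)) (tt N12502 (iv F21137)))
theorem Q9781 : ∀ i, i < 9781 → P i := stepQ 9780 Q9780 (allL N9780 (tt N7542 F16336) (tt N12506 D12511) (tt N7540 (iv D9780)) (tt N12507 D12512) (tt N12508 D12513) (tt N7599 F16337))
theorem Q9782 : ∀ i, i < 9782 → P i := stepQ 9781 Q9781 (allL N9781 (tt N7543 F16338) (tt N8599 F16339) (tt N12508 (iv F21152)) (tt N7546 F16340) (tt N7540 (iv D9781)) (tt N11541 (iv F19373)))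
theorem Q9783 : ∀ i, i < 9783 → P i := stepQ 9782 Q9782 (allL N9782 (tt N7544 F16341) (tt N8600 F16342) (tt N12502 (iv F21136)) (tt N11542 (iv F19376)) (tt N7541 (iv D9782)) (tt N7547 F16343))
theorem Q9784 : ∀ i, i < 9784 → P i := stepQ 9783 Q9783 (allL N9783 (tt N12507 (iv F21148)) (tt N7603 F16344) (tt N12509 D12514) (tt N7542 (iv D9783)) (tt N12510 D12515) (tt N7600 F16345))
theorem Q9785 : ∀ i, i < 9785 → P i := stepQ 9784 Q9784 (allL N9784 (tt N12508 (iv F21151)) (tt N7604 F16346) (tt N7543 F16347) (tt N12511 D12516) (tt N7542 (iv D9784)) (tt N11544 (iv F19382)))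
theorem Q9786 : ∀ i, i < 9786 → P i := stepQ 9785 Q9785 (allL N9785 (tt N7548 F16348) (tt N12457 (iv F21042)) (tt N7546 F16349) (tt N12512 D12517) (tt N7545 (iv D9785)) (tt N12513 D12518))
theorem Q9787 : ∀ i, i < 9787 → P i := stepQ 9786 Q9786 (allL N9786 (tt N7549 F16350) (tt N12490 (iv F21106)) (tt N12513 (iv F21160)) (tt N11541 (iv F19372)) (tt N9379 F16351) (tt N7546 (iv D9786)))
theorem Q9788 : ∀ i, i < 9788 → P i := stepQ 9787 Q9787 (allL N9787 (tt N7550 F16352) (tt N12489 (iv F21102)) (tt N12514 D12519) (tt N7547 (iv D9787)) (tt N9378 F16353) (tt N11542 (iv F19377)))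
theorem Q9789 : ∀ i, i < 9789 → P i := stepQ 9788 Q9788 (allL N9788 (tt N12512 (iv F21157)) (tt N12458 (iv F21043)) (tt N12515 D12520) (tt N7548 (iv D9788)) (tt N12512 (iv F21158)) (tt N12516 D12521))
theorem Q9790 : ∀ i, i < 9790 → P i := stepQ 9789 Q9789 (allL N9789 (tt N12513 (iv F21159)) (tt N9377 F16354) (tt N7549 F16355) (tt N12516 (iv F21165)) (tt N9373 F16356) (tt N7548 (iv D9789)))
theorem Q9791 : ∀ i, i < 9791 → P i := stepQ 9790 Q9790 (allL N9790 (tt N12514 (iv F21162)) (tt N11529 (iv F19352)) (tt N7550 (iv D9790)) (tt N12517 D12522) (tt N9380 F16357) (tt N11535 (iv F19363)))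
theorem Q9792 : ∀ i, i < 9792 → P i := stepQ 9791 Q9791 (allL N9791 (tt N12518 D12523) (tt N7551 (iv D9791)) (tt N7555 F16358) (tt N12519 D12524) (tt N12331 (iv F20850)) (tt N8476 (iv F16359)))
theorem Q9793 : ∀ i, i < 9793 → P i := stepQ 9792 Q9792 (allL N9792 (tt N12239 (iv F20691)) (tt N12519 (iv F21168)) (tt N12520 D12525) (tt N7551 (iv D9792)) (tt N12521 D12526) (tt N12522 D12527))
theorem Q9794 : ∀ i, i < 9794 → P i := stepQ 9793 Q9793 (allL N9793 (tt N12237 (iv F20686)) (tt N8476 F16360) (tt N7552 F16361) (tt N12522 (iv F21176)) (tt N12523 D12528) (tt N7551 (iv D9793)))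
theorem Q9795 : ∀ i, i < 9795 → P i := stepQ 9794 Q9794 (allL N9794 (tt N12236 (iv F20682)) (tt N7556 F16362) (tt N12523 (iv F21178)) (tt N12229 (iv F20673)) (tt N7552 (iv D9794)) (tt N12334 (iv F20860)))
theorem Q9796 : ∀ i, i < 9796 → P i := stepQ 9795 Q9795 (allL N9795 (tt N12524 D12529) (tt N7553 (iv D9795)) (tt N12331 (iv F20849)) (tt N12525 D12530) (tt N7555 F16363) (tt N12526 D12531))
theorem Q9797 : ∀ i, i < 9797 → P i := stepQ 9796 Q9796 (allL N9796 (tt N7560 F16364) (tt N12525 (iv F21181)) (tt N12527 D12532) (tt N7553 (iv D9796)) (tt N8480 F16365) (tt N12528 D12533))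
theorem Q9798 : ∀ i, i < 9798 → P i := stepQ 9797 Q9797 (allL N9797 (tt N7561 F16366) (tt N12526 (iv F21183)) (tt N7554 F16367) (tt N12528 (iv F21191)) (tt N8479 F16368) (tt N7553 (iv D9797)))
theorem Q9799 : ∀ i, i < 9799 → P i := stepQ 9798 Q9798 (allL N9798 (tt N7562 F16369) (tt N12334 (iv F20858)) (tt N8479 F16370) (tt N9484 F16371) (tt N7554 (iv D9798)) (tt N7556 F16372))
theorem Q9800 : ∀ i, i < 9800 → P i := stepQ 9799 Q9799 (allL N9799 (tt N7555 (iv D9799)) (tt N7563 F16373) (tt N12518 (iv F21166)) (tt N8475 F16374) (tt N12524 (iv F21180)) (tt N8474 F16375))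
theorem Q9801 : ∀ i, i < 9801 → P i := stepQ 9800 Q9800 (allL N9800 (tt N12529 D12534) (tt N7557 (iv D9800)) (tt N12306 (iv F20814)) (tt N12530 D12535) (tt N9444 F16376) (tt N12531 D12536))
theorem Q9802 : ∀ i, i < 9802 → P i := stepQ 9801 Q9801 (allL N9801 (tt N9447 F16377) (tt N12530 (iv F21195)) (tt N12528 (iv F21190)) (tt N7557 (iv D9801)) (tt N10125 (iv F16844)) (tt N12527 F21188))
theorem Q9803 : ∀ i, i < 9803 → P i := stepQ 9802 Q9802 (allL N9802 (tt N9448 F16378) (tt N12531 (iv F21196)) (tt N7558 F16379) (tt N12527 (iv F21186)) (tt N12532 D12537) (tt N7557 (iv D9802)))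
theorem Q9804 : ∀ i, i < 9804 → P i := stepQ 9803 Q9803 (allL N9803 (tt N9449 F16380) (tt N12309 (iv F20817)) (tt N12532 (iv F21198)) (tt N9463 F16381) (tt N7558 (iv D9803)) (tt N9445 F16382))
theorem Q9805 : ∀ i, i < 9805 → P i := stepQ 9804 Q9804 (allL N9804 (tt N7559 (iv D9804)) (tt N12524 (iv F21179)) (tt N12271 (iv F20761)) (tt N12533 D12538) (tt N7563 F16383) (tt N12534 D12539))
theorem Q9806 : ∀ i, i < 9806 → P i := stepQ 9805 Q9805 (allL N9805 (tt N12533 (iv F21200)) (tt N7560 F16384) (tt N12535 D12540) (tt N7559 (iv D9805)) (tt N10027 F16731) (tt N12536 D12541))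
theorem Q9807 : ∀ i, i < 9807 → P i := stepQ 9806 Q9806 (allL N9806 (tt N12534 (iv F21201)) (tt N7561 F16385) (tt N12270 (iv F20757)) (tt N12536 (iv F21203)) (tt N12537 D12542) (tt N7559 (iv D9806)))
theorem Q9808 : ∀ i, i < 9808 → P i := stepQ 9807 Q9807 (allL N9807 (tt N12527 (iv F21185)) (tt N12538 D12543) (tt N7560 (iv D9807)) (tt N9448 F16386) (tt N12539 D12544) (tt N9447 (iv F16387)))
theorem Q9809 : ∀ i, i < 9809 → P i := stepQ 9808 Q9808 (allL N9808 (tt N8480 F16388) (tt N10027 (iv F16729)) (tt N12539 (iv F21210)) (tt N7566 F16389) (tt N7560 (iv D9808)) (tt N9251 (iv F16390)))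
theorem Q9810 : ∀ i, i < 9810 → P i := stepQ 9809 Q9809 (allL N9809 (tt N12528 (iv F21189)) (tt N12536 (iv F21202)) (tt N9447 F16391) (tt N7561 F16392) (tt N12540 D12545) (tt N7560 (iv D9809)))
theorem Q9811 : ∀ i, i < 9811 → P i := stepQ 9810 Q9810 (allL N9810 (tt N8479 F16393) (tt N12537 (iv F21204)) (tt N7562 F16394) (tt N9249 (iv F16396)) (tt N7561 (iv D9810)) (tt N7567 F16395))
theorem Q9812 : ∀ i, i < 9812 → P i := stepQ 9811 Q9811 (allL N9811 (tt N7564 F16397) (tt N8475 F16398) (tt N9256 (iv F16399)) (tt N7563 (iv D9811)) (tt N10021 (iv F16725)) (tt N8468 (iv F16400)))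
theorem Q9813 : ∀ i, i < 9813 → P i := stepQ 9812 Q9812 (allL N9812 (tt N7565 F16401) (tt N8474 F16402) (tt N12281 (iv F20774)) (tt N8468 F16403) (tt N12541 D12546) (tt N7563 (iv D9812)))
theorem Q9814 : ∀ i, i < 9814 → P i := stepQ 9813 Q9813 (allL N9813 (tt N12541 (iv F21217)) (tt N7567 F16404) (tt N12279 (iv F20772)) (tt N9248 F16405) (tt N7565 (iv D9813)) (tt N12537 (iv F21205)))
theorem Q9815 : ∀ i, i < 9815 → P i := stepQ 9814 Q9814 (allL N9814 (tt N12542 D12547) (tt N7569 (iv D9814)) (tt N7589 F16406) (tt N12543 D12548) (tt N10881 (iv F18260)) (tt N12544 D12549))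
theorem Q9816 : ∀ i, i < 9816 → P i := stepQ 9815 Q9815 (allL N9815 (tt N7572 F16407) (tt N12543 (iv F21223)) (tt N12522 (iv F21175)) (tt N7569 (iv D9815)) (tt N12545 D12550) (tt N12520 F21172))
theorem Q9817 : ∀ i, i < 9817 → P i := stepQ 9816 Q9816 (allL N9816 (tt N7573 F16408) (tt N12544 (iv F21225)) (tt N7570 F16409) (tt N12520 (iv F21171)) (tt N12546 D12551) (tt N7569 (iv D9816)))
theorem Q9818 : ∀ i, i < 9818 → P i := stepQ 9817 Q9817 (allL N9817 (tt N7574 F16410) (tt N7592 F16411) (tt N12546 (iv F21229)) (tt N12196 (iv F20615)) (tt N7570 (iv D9817)) (tt N10884 (iv F18270)))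
theorem Q9819 : ∀ i, i < 9819 → P i := stepQ 9818 Q9818 (allL N9818 (tt N7571 (iv D9818)) (tt N12542 (iv F21220)) (tt N7577 F16412) (tt N12547 D12552) (tt N10885 (iv F18272)) (tt N8598 F16413))
theorem Q9820 : ∀ i, i < 9820 → P i := stepQ 9819 Q9819 (allL N9819 (tt N12547 (iv F21230)) (tt N7572 F16414) (tt N12548 D12553) (tt N7571 (iv D9819)) (tt N12549 D12554) (tt N8601 F16415))
theorem Q9821 : ∀ i, i < 9821 → P i := stepQ 9820 Q9820 (allL N9820 (tt N12522 (iv F21173)) (tt N12550 D12555) (tt N7572 (iv D9820)) (tt N12237 (iv F20688)) (tt N12551 D12556) (tt N12239 (iv F20692)))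
theorem Q9822 : ∀ i, i < 9822 → P i := stepQ 9821 Q9821 (allL N9821 (tt N12545 (iv F21227)) (tt N12549 (iv F21236)) (tt N12551 (iv F21237)) (tt N10889 (iv F18279)) (tt N7572 (iv D9821)) (tt N12552 D12557))
theorem Q9823 : ∀ i, i < 9823 → P i := stepQ 9822 Q9822 (allL N9822 (tt N12520 (iv F21170)) (tt N8601 F16416) (tt N12239 (iv F20693)) (tt N7573 F16417) (tt N12553 D12558) (tt N7572 (iv D9822)))
theorem Q9824 : ∀ i, i < 9824 → P i := stepQ 9823 Q9823 (allL N9823 (tt N12546 (iv F21228)) (tt N8602 F16418) (tt N7574 F16419) (tt N12554 D12559) (tt N7573 (iv D9823)) (tt N10891 (iv F18284)))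
theorem Q9825 : ∀ i, i < 9825 → P i := stepQ 9824 Q9824 (allL N9824 (tt N12196 (iv F20613)) (tt N7578 F16420) (tt N12555 D12560) (tt N7574 (iv D9824)) (tt N7575 F16421) (tt N7647 F16422))
theorem Q9826 : ∀ i, i < 9826 → P i := stepQ 9825 Q9825 (allL N9825 (tt N12195 (iv F20611)) (tt N12556 D12561) (tt N7575 (iv D9825)) (tt N12232 (iv F20677)) (tt N12555 (iv F21240)) (tt N7576 F16423))
theorem Q9827 : ∀ i, i < 9827 → P i := stepQ 9826 Q9826 (allL N9826 (tt N12557 D12562) (tt N7576 (iv D9826)) (tt N7580 F16424) (tt N12558 D12563) (tt N7644 F16425) (tt N12556 (iv F21243)))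
theorem Q9828 : ∀ i, i < 9828 → P i := stepQ 9827 Q9827 (allL N9827 (tt N12194 (iv F20610)) (tt N12558 (iv F21246)) (tt N12234 (iv F20679)) (tt N7576 (iv D9827)) (tt N12559 D12564) (tt N12232 F20678))
theorem Q9829 : ∀ i, i < 9829 → P i := stepQ 9828 Q9828 (allL N9828 (tt N7608 F16426) (tt N12560 D12565) (tt N7578 (iv D9828)) (tt N7670 F16427) (tt N7579 F16428) (tt N7652 F16429))
theorem Q9830 : ∀ i, i < 9830 → P i := stepQ 9829 Q9829 (allL N9829 (tt N12561 D12566) (tt N7579 (iv D9829)) (tt N12556 (iv F21242)) (tt N7619 F16430) (tt N12560 (iv F21249)) (tt N7580 F16431))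
theorem Q9831 : ∀ i, i < 9831 → P i := stepQ 9830 Q9830 (allL N9830 (tt N7580 (iv D9830)) (tt N7610 F16432) (tt N12557 (iv F21244)) (tt N12562 D12567) (tt N7648 F16433) (tt N12561 (iv F21253)))
theorem Q9832 : ∀ i, i < 9832 → P i := stepQ 9831 Q9831 (allL N9831 (tt N12562 (iv F21254)) (tt N7581 F16434) (tt N12563 D12568) (tt N7580 (iv D9831)) (tt N12564 D12569) (tt N7619 F16435))
theorem Q9833 : ∀ i, i < 9833 → P i := stepQ 9832 Q9832 (allL N9832 (tt N7612 F16436) (tt N12564 (iv F21259)) (tt N7615 F16437) (tt N7651 F16438) (tt N7581 (iv D9832)) (tt N7669 F16439))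
theorem Q9834 : ∀ i, i < 9834 → P i := stepQ 9833 Q9833 (allL N9833 (tt N7582 (iv D9833)) (tt N7613 F16440) (tt N8419 F16441) (tt N12565 D12570) (tt N7680 F16442) (tt N7584 F16443))
theorem Q9835 : ∀ i, i < 9835 → P i := stepQ 9834 Q9834 (allL N9834 (tt N12565 (iv F21262)) (tt N7583 F16444) (tt N12566 D12571) (tt N7582 (iv D9834)) (tt N12567 D12572) (tt N7585 F16445))
theorem Q9836 : ∀ i, i < 9836 → P i := stepQ 9835 Q9835 (allL N9835 (tt N7615 F16446) (tt N12567 (iv F21267)) (tt N7612 F16447) (tt N7684 F16448) (tt N7583 (iv D9835)) (tt N7676 F16449))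
theorem Q9837 : ∀ i, i < 9837 → P i := stepQ 9836 Q9836 (allL N9836 (tt N7585 F16450) (tt N7616 F16451) (tt N12568 D12573) (tt N7584 (iv D9836)) (tt N7671 F16452) (tt N12565 (iv F21264)))
theorem Q9838 : ∀ i, i < 9838 → P i := stepQ 9837 Q9837 (allL N9837 (tt N12568 (iv F21270)) (tt N12569 D12574) (tt N7585 (iv D9837)) (tt N12570 D12575) (tt N7673 F16453) (tt N12566 (iv F21266)))
theorem Q9839 : ∀ i, i < 9839 → P i := stepQ 9838 Q9838 (allL N9838 (tt N12571 D12576) (tt N7586 (iv D9838)) (tt N12569 (iv F21272)) (tt N7609 F16454) (tt N7675 F16455) (tt N7611 F16456))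
theorem Q9840 : ∀ i, i < 9840 → P i := stepQ 9839 Q9839 (allL N9839 (tt N12572 D12577) (tt N7587 (iv D9839)) (tt N10881 (iv F18259)) (tt N12573 D12578) (tt N7589 F16457) (tt N12574 D12579))
theorem Q9841 : ∀ i, i < 9841 → P i := stepQ 9840 Q9840 (allL N9840 (tt N7596 F16458) (tt N12573 (iv F21281)) (tt N12575 D12580) (tt N7587 (iv D9840)) (tt N12576 D12581) (tt N12577 D12582))
theorem Q9842 : ∀ i, i < 9842 → P i := stepQ 9841 Q9841 (allL N9841 (tt N7597 F16459) (tt N12574 (iv F21282)) (tt N7588 F16460) (tt N12577 (iv F21290)) (tt N12578 D12583) (tt N7587 (iv D9841)))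
theorem Q9843 : ∀ i, i < 9843 → P i := stepQ 9842 Q9842 (allL N9842 (tt N7598 F16461) (tt N10884 (iv F18268)) (tt N12578 (iv F21292)) (tt N12200 (iv F20624)) (tt N7588 (iv D9842)) (tt N7592 F16462))
theorem Q9844 : ∀ i, i < 9844 → P i := stepQ 9843 Q9843 (allL N9843 (tt N7589 (iv D9843)) (tt N7599 F16463) (tt N12542 (iv F21221)) (tt N12579 D12584) (tt N12572 (iv F21280)) (tt N12506 (iv F21146)))
theorem Q9845 : ∀ i, i < 9845 → P i := stepQ 9844 Q9844 (allL N9844 (tt N12579 (iv F21294)) (tt N7590 F16464) (tt N10864 (iv F18228)) (tt N7589 (iv D9844)) (tt N12580 D12585) (tt N7635 (iv F16465)))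
theorem Q9846 : ∀ i, i < 9846 → P i := stepQ 9845 Q9845 (allL N9845 (tt N12506 (iv F21144)) (tt N7591 F16466) (tt N12544 (iv F21226)) (tt N7635 F16467) (tt N12581 D12586) (tt N7589 (iv D9845)))
theorem Q9847 : ∀ i, i < 9847 → P i := stepQ 9846 Q9846 (allL N9846 (tt N7602 F16468) (tt N12580 (iv F21297)) (tt N7638 F16469) (tt N12576 (iv F21287)) (tt N7590 (iv D9846)) (tt N12582 D12587))
theorem Q9848 : ∀ i, i < 9848 → P i := stepQ 9847 Q9847 (allL N9847 (tt N7604 F16470) (tt N12581 (iv F21298)) (tt N7592 F16471) (tt N12583 D12588) (tt N7591 (iv D9847)) (tt N12578 (iv F21293)))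
theorem Q9849 : ∀ i, i < 9849 → P i := stepQ 9848 Q9848 (allL N9848 (tt N12584 D12589) (tt N7593 (iv D9848)) (tt N10869 (iv F18238)) (tt N12585 D12590) (tt N10920 (iv F18326)) (tt N11374 (iv F19080)))
theorem Q9850 : ∀ i, i < 9850 → P i := stepQ 9849 Q9849 (allL N9849 (tt N10925 (iv F18336)) (tt N12585 (iv F21304)) (tt N12577 (iv F21289)) (tt N7593 (iv D9849)) (tt N12222 (iv F20657)) (tt N12575 F21285))
theorem Q9851 : ∀ i, i < 9851 → P i := stepQ 9850 Q9850 (allL N9850 (tt N10926 (iv F18339)) (tt N11374 (iv F19079)) (tt N7594 F16472) (tt N12575 (iv F21284)) (tt N12221 (iv F20656)) (tt N7593 (iv D9850)))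
theorem Q9852 : ∀ i, i < 9852 → P i := stepQ 9851 Q9851 (allL N9851 (tt N10927 (iv F18342)) (tt N10870 (iv F18242)) (tt N12221 (iv F20655)) (tt N12209 (iv F20641)) (tt N7594 (iv D9851)) (tt N10921 (iv F18330)))
theorem Q9853 : ∀ i, i < 9853 → P i := stepQ 9852 Q9852 (allL N9852 (tt N7595 (iv D9852)) (tt N12572 (iv F21279)) (tt N7605 F16473) (tt N12586 D12591) (tt N7599 F16474) (tt N11540 (iv F19369)))
theorem Q9854 : ∀ i, i < 9854 → P i := stepQ 9853 Q9853 (allL N9853 (tt N12586 (iv F21305)) (tt N7596 F16475) (tt N12587 D12592) (tt N7595 (iv D9853)) (tt N12588 D12593) (tt N11543 (iv F19379)))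
theorem Q9855 : ∀ i, i < 9855 → P i := stepQ 9854 Q9854 (allL N9854 (tt N12575 (iv F21283)) (tt N12589 D12594) (tt N7596 (iv D9854)) (tt N10926 (iv F18341)) (tt N12590 D12595) (tt N10925 F18338))
theorem Q9856 : ∀ i, i < 9856 → P i := stepQ 9855 Q9855 (allL N9855 (tt N12576 (iv F21286)) (tt N12588 (iv F21306)) (tt N12590 (iv F21308)) (tt N7602 F16476) (tt N7596 (iv D9855)) (tt N12591 D12596))
theorem Q9857 : ∀ i, i < 9857 → P i := stepQ 9856 Q9856 (allL N9856 (tt N12577 (iv F21288)) (tt N11543 (iv F19378)) (tt N10925 (iv F18337)) (tt N7597 F16477) (tt N12592 D12597) (tt N7596 (iv D9856)))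
theorem Q9858 : ∀ i, i < 9858 → P i := stepQ 9857 Q9857 (allL N9857 (tt N12578 (iv F21291)) (tt N11544 (iv F19380)) (tt N7598 F16478) (tt N12593 D12598) (tt N7597 (iv D9857)) (tt N7604 F16479))
theorem Q9859 : ∀ i, i < 9859 → P i := stepQ 9858 Q9858 (allL N9858 (tt N7600 F16480) (tt N12579 (iv F21295)) (tt N12503 (iv F21139)) (tt N7599 (iv D9858)) (tt N12594 D12599) (tt N12507 (iv F21150)))
theorem Q9860 : ∀ i, i < 9860 → P i := stepQ 9859 Q9859 (allL N9859 (tt N12503 (iv F21138)) (tt N12595 D12600) (tt N7600 (iv D9859)) (tt N12500 (iv F21132)) (tt N12596 D12601) (tt N12509 (iv F21154)))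
theorem Q9861 : ∀ i, i < 9861 → P i := stepQ 9860 Q9860 (allL N9860 (tt N12594 (iv F21311)) (tt N7602 F16481) (tt N12596 (iv F21314)) (tt N12588 (iv F21307)) (tt N7600 (iv D9860)) (tt N12597 D12602))
theorem Q9862 : ∀ i, i < 9862 → P i := stepQ 9861 Q9861 (allL N9861 (tt N10862 (iv F18224)) (tt N7601 (iv D9861)) (tt N12595 (iv F21312)) (tt N7629 F16482) (tt N12598 D12603) (tt N7628 F16483))
theorem Q9863 : ∀ i, i < 9863 → P i := stepQ 9862 Q9862 (allL N9862 (tt N7638 F16484) (tt N12598 (iv F21316)) (tt N7602 F16485) (tt N12599 D12604) (tt N7601 (iv D9862)) (tt N12600 D12605))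
theorem Q9864 : ∀ i, i < 9864 → P i := stepQ 9863 Q9863 (allL N9863 (tt N12582 (iv F21299)) (tt N12597 (iv F21315)) (tt N12600 (iv F21320)) (tt N12591 (iv F21309)) (tt N12601 D12606) (tt N7602 (iv D9863)))
theorem Q9865 : ∀ i, i < 9865 → P i := stepQ 9864 Q9864 (allL N9864 (tt N7636 F16486) (tt N12510 (iv F21155)) (tt N7630 F16487) (tt N12602 D12607) (tt N7603 (iv D9864)) (tt N12601 (iv F21324)))
theorem Q9866 : ∀ i, i < 9866 → P i := stepQ 9865 Q9865 (allL N9865 (tt N12583 (iv F21302)) (tt N12511 (iv F21156)) (tt N12603 D12608) (tt N7604 (iv D9865)) (tt N12602 (iv F21326)) (tt N12593 (iv F21310)))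
theorem Q9867 : ∀ i, i < 9867 → P i := stepQ 9866 Q9866 (allL N9866 (tt N7607 (iv D9866)) (tt N7648 F16488) (tt N12210 (iv F20642)) (tt N12071 (iv F20341)) (tt N7610 F16489) (tt N12070 F20338))
theorem Q9868 : ∀ i, i < 9868 → P i := stepQ 9867 Q9867 (allL N9867 (tt N12604 D12609) (tt N7608 (iv D9867)) (tt N12220 (iv F20654)) (tt N12448 (iv F21027)) (tt N7609 F16490) (tt N12073 (iv F20346)))
theorem Q9869 : ∀ i, i < 9869 → P i := stepQ 9868 Q9868 (allL N9868 (tt N7609 (iv D9868)) (tt N12561 (iv F21251)) (tt N12217 (iv F20651)) (tt N12571 (iv F21276)) (tt N12604 (iv F21327)) (tt N7610 F16491))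
theorem Q9870 : ∀ i, i < 9870 → P i := stepQ 9869 Q9869 (allL N9869 (tt N7611 F16492) (tt N12562 (iv F21255)) (tt N12605 D12610) (tt N7610 (iv D9869)) (tt N12606 D12611) (tt N12571 (iv F21278)))
theorem Q9871 : ∀ i, i < 9871 → P i := stepQ 9870 Q9870 (allL N9870 (tt N12605 (iv F21328)) (tt N12566 (iv F21265)) (tt N7611 (iv D9870)) (tt N12607 D12612) (tt N12608 D12613) (tt N12569 (iv F21274)))
theorem Q9872 : ∀ i, i < 9872 → P i := stepQ 9871 Q9871 (allL N9871 (tt N12606 (iv F21329)) (tt N7612 F16493) (tt N12608 (iv F21330)) (tt N12074 (iv F20348)) (tt N7611 (iv D9871)) (tt N12447 (iv F21025)))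
theorem Q9873 : ∀ i, i < 9873 → P i := stepQ 9872 Q9872 (allL N9872 (tt N7614 F16494) (tt N12565 (iv F21263)) (tt N10774 (iv F18058)) (tt N7613 (iv D9872)) (tt N12609 D12614) (tt N7616 F16495))
theorem Q9874 : ∀ i, i < 9874 → P i := stepQ 9873 Q9873 (allL N9873 (tt N10774 (iv F18057)) (tt N12563 (iv F21257)) (tt N7614 (iv D9873)) (tt N10764 (iv F18043)) (tt N12610 D12615) (tt N7617 F16496))
theorem Q9875 : ∀ i, i < 9875 → P i := stepQ 9874 Q9874 (allL N9874 (tt N12609 (iv F21331)) (tt N7615 F16497) (tt N12610 (iv F21333)) (tt N7700 F16498) (tt N7614 (iv D9874)) (tt N12611 D12616))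
theorem Q9876 : ∀ i, i < 9876 → P i := stepQ 9875 Q9875 (allL N9875 (tt N7676 F16499) (tt N12611 (iv F21334)) (tt N7669 F16500) (tt N7703 F16501) (tt N7621 F16502) (tt N7615 (iv D9875)))
theorem Q9877 : ∀ i, i < 9877 → P i := stepQ 9876 Q9876 (allL N9876 (tt N7617 F16503) (tt N12612 D12617) (tt N7616 (iv D9876)) (tt N10775 (iv F18062)) (tt N12613 D12618) (tt N10774 (iv F18059)))
theorem Q9878 : ∀ i, i < 9878 → P i := stepQ 9877 Q9877 (allL N9877 (tt N7618 F16504) (tt N7671 F16505) (tt N12613 (iv F21338)) (tt N7623 F16506) (tt N7616 (iv D9877)) (tt N12614 D12619))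
theorem Q9879 : ∀ i, i < 9879 → P i := stepQ 9878 Q9878 (allL N9878 (tt N12615 D12620) (tt N7617 (iv D9878)) (tt N7619 F16507) (tt N12616 D12621) (tt N12617 D12622) (tt N12563 (iv F21258)))
theorem Q9880 : ∀ i, i < 9880 → P i := stepQ 9879 Q9879 (allL N9879 (tt N10775 (iv F18060)) (tt N12616 (iv F21343)) (tt N10765 (iv F18046)) (tt N7617 (iv D9879)) (tt N12618 D12623) (tt N10764 F18044))
theorem Q9881 : ∀ i, i < 9881 → P i := stepQ 9880 Q9880 (allL N9880 (tt N12613 (iv F21337)) (tt N12617 (iv F21344)) (tt N7618 F16508) (tt N12619 D12624) (tt N7617 (iv D9880)) (tt N12620 D12625))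
theorem Q9882 : ∀ i, i < 9882 → P i := stepQ 9881 Q9881 (allL N9881 (tt N12614 (iv F21339)) (tt N7621 F16509) (tt N12620 (iv F21348)) (tt N7626 F16510) (tt N12611 (iv F21336)) (tt N7618 (iv D9881)))
theorem Q9883 : ∀ i, i < 9883 → P i := stepQ 9882 Q9882 (allL N9882 (tt N7619 (iv D9882)) (tt N12571 (iv F21275)) (tt N12615 (iv F21342)) (tt N12561 (iv F21252)) (tt N12621 D12626) (tt N12562 (iv F21256)))
theorem Q9884 : ∀ i, i < 9884 → P i := stepQ 9883 Q9883 (allL N9883 (tt N12621 (iv F21349)) (tt N7620 F16511) (tt N12617 (iv F21345)) (tt N7668 (iv F16512)) (tt N7619 (iv D9883)) (tt N7667 (iv F16513)))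
theorem Q9885 : ∀ i, i < 9885 → P i := stepQ 9884 Q9884 (allL N9884 (tt N7625 F16514) (tt N8066 F16515) (tt N7623 F16516) (tt N12622 D12627) (tt N7622 (iv D9884)) (tt N12623 D12628))
theorem Q9886 : ∀ i, i < 9886 → P i := stepQ 9885 Q9885 (allL N9885 (tt N7626 F16517) (tt N7672 F16518) (tt N12623 (iv F21358)) (tt N12614 (iv F21341)) (tt N7706 F16519) (tt N7623 (iv D9885)))
theorem Q9887 : ∀ i, i < 9887 → P i := stepQ 9886 Q9886 (allL N9886 (tt N8126 F16520) (tt N7659 F16521) (tt N8129 F16522) (tt N12624 D12629) (tt N7624 (iv D9886)) (tt N12625 D12630))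
theorem Q9888 : ∀ i, i < 9888 → P i := stepQ 9887 Q9887 (allL N9887 (tt N12622 (iv F21353)) (tt N7657 F16523) (tt N12626 D12631) (tt N7625 (iv D9887)) (tt N12624 (iv F21362)) (tt N12627 D12632))
theorem Q9889 : ∀ i, i < 9889 → P i := stepQ 9888 Q9888 (allL N9888 (tt N12623 (iv F21356)) (tt N7658 F16524) (tt N7626 F16525) (tt N12627 (iv F21368)) (tt N7709 F16526) (tt N7625 (iv D9888)))
theorem Q9890 : ∀ i, i < 9890 → P i := stepQ 9889 Q9889 (allL N9889 (tt N7628 F16527) (tt N7632 F16528) (tt N12628 D12633) (tt N7627 (iv D9889)) (tt N12629 D12634) (tt N10862 (iv F18226)))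
theorem Q9891 : ∀ i, i < 9891 → P i := stepQ 9890 Q9890 (allL N9890 (tt N12628 (iv F21369)) (tt N12509 (iv F21153)) (tt N7628 (iv D9890)) (tt N12630 D12635) (tt N12631 D12636) (tt N12595 (iv F21313)))
theorem Q9892 : ∀ i, i < 9892 → P i := stepQ 9891 Q9891 (allL N9891 (tt N12629 (iv F21370)) (tt N7630 F16529) (tt N12631 (iv F21372)) (tt N12204 (iv F20634)) (tt N7628 (iv D9891)) (tt N12632 D12637))
theorem Q9893 : ∀ i, i < 9893 → P i := stepQ 9892 Q9892 (allL N9892 (tt N10664 (iv F17857)) (tt N7631 F16530) (tt N10833 (iv F18177)) (tt N12633 D12638) (tt N7629 (iv D9892)) (tt N10829 (iv F18170)))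
theorem Q9894 : ∀ i, i < 9894 → P i := stepQ 9893 Q9893 (allL N9893 (tt N7637 F16531) (tt N12632 (iv F21373)) (tt N12601 (iv F21323)) (tt N12205 (iv F20637)) (tt N12600 (iv F21321)) (tt N7630 (iv D9893)))
theorem Q9895 : ∀ i, i < 9895 → P i := stepQ 9894 Q9894 (allL N9894 (tt N7639 F16532) (tt N12633 (iv F21374)) (tt N10827 (iv F18166)) (tt N7631 (iv D9894)) (tt N12599 (iv F21318)) (tt N10830 (iv F18172)))
theorem Q9896 : ∀ i, i < 9896 → P i := stepQ 9895 Q9895 (allL N9895 (tt N7634 F16533) (tt N12629 (iv F21371)) (tt N9982 (iv F16653)) (tt N12223 (iv F20660)) (tt N7632 (iv D9895)) (tt N12634 D12639))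
theorem Q9897 : ∀ i, i < 9897 → P i := stepQ 9896 Q9896 (allL N9896 (tt N12635 D12640) (tt N7633 (iv D9896)) (tt N7635 F16534) (tt N9974 (iv F16639)) (tt N12636 D12641) (tt N10864 (iv F18229)))
theorem Q9898 : ∀ i, i < 9898 → P i := stepQ 9897 Q9897 (allL N9897 (tt N9982 (iv F16652)) (tt N12636 (iv F21377)) (tt N7634 F16535) (tt N12637 D12642) (tt N7633 (iv D9897)) (tt N12638 D12643))
theorem Q9899 : ∀ i, i < 9899 → P i := stepQ 9898 Q9898 (allL N9898 (tt N12634 (iv F21375)) (tt N7637 F16536) (tt N12638 (iv F21379)) (tt N12225 (iv F20664)) (tt N10866 (iv F18232)) (tt N7634 (iv D9898)))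
theorem Q9900 : ∀ i, i < 9900 → P i := stepQ 9899 Q9899 (allL N9899 (tt N7635 (iv D9899)) (tt N12507 (iv F21149)) (tt N12635 (iv F21376)) (tt N12506 F21147) (tt N12639 D12644) (tt N12579 (iv F21296)))
theorem Q9901 : ∀ i, i < 9901 → P i := stepQ 9900 Q9900 (allL N9900 (tt N12639 (iv F21380)) (tt N7636 F16537) (tt N12636 (iv F21378)) (tt N12640 D12645) (tt N7635 (iv D9900)) (tt N12641 D12646))
theorem Q9902 : ∀ i, i < 9902 → P i := stepQ 9901 Q9901 (allL N9901 (tt N12602 (iv F21325)) (tt N12640 (iv F21381)) (tt N12642 D12647) (tt N7636 (iv D9901)) (tt N12583 (iv F21303)) (tt N12642 F21384))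
theorem Q9903 : ∀ i, i < 9903 → P i := stepQ 9902 Q9902 (allL N9902 (tt N12601 (iv F21322)) (tt N12641 (iv F21382)) (tt N7637 F16538) (tt N12642 (iv F21383)) (tt N12582 (iv F21301)) (tt N7636 (iv D9902)))
theorem Q9904 : ∀ i, i < 9904 → P i := stepQ 9903 Q9903 (allL N9903 (tt N12600 (iv F21319)) (tt N10866 (iv F18231)) (tt N12582 (iv F21300)) (tt N12643 D12648) (tt N7637 (iv D9903)) (tt N7638 F16539))
theorem Q9905 : ∀ i, i < 9905 → P i := stepQ 9904 Q9904 (allL N9904 (tt N12599 (iv F21317)) (tt N10667 (iv F17861)) (tt N12644 D12649) (tt N7638 (iv D9904)) (tt N7639 F16540) (tt N12643 (iv F21385)))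
theorem Q9906 : ∀ i, i < 9906 → P i := stepQ 9905 Q9905 (allL N9905 (tt N10827 (iv F18165)) (tt N12645 D12650) (tt N7639 (iv D9905)) (tt N10825 (iv F18163)) (tt N12644 (iv F21386)) (tt N10831 (iv F18173)))
theorem Q9907 : ∀ i, i < 9907 → P i := stepQ 9906 Q9906 (allL N9906 (tt N12646 D12651) (tt N7640 (iv D9906)) (tt N12206 (iv F20638)) (tt N12647 D12652) (tt N11993 (iv F20226)) (tt N12648 D12653))
theorem Q9908 : ∀ i, i < 9908 → P i := stepQ 9907 Q9907 (allL N9907 (tt N10712 (iv F17950)) (tt N12647 (iv F21387)) (tt N8979 F16541) (tt N7640 (iv D9907)) (tt N12649 D12654) (tt N10734 (iv F17988)))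
theorem Q9909 : ∀ i, i < 9909 → P i := stepQ 9908 Q9908 (allL N9908 (tt N10713 (iv F17953)) (tt N12648 (iv F21388)) (tt N7641 F16542) (tt N10734 (iv F17987)) (tt N12650 D12655) (tt N7640 (iv D9908)))
theorem Q9910 : ∀ i, i < 9910 → P i := stepQ 9909 Q9909 (allL N9909 (tt N10714 (iv F17956)) (tt N12209 (iv F20640)) (tt N12650 (iv F21390)) (tt N10870 (iv F18244)) (tt N7641 (iv D9909)) (tt N11996 (iv F20228)))
theorem Q9911 : ∀ i, i < 9911 → P i := stepQ 9910 Q9910 (allL N9910 (tt N12651 D12656) (tt N7642 (iv D9910)) (tt N12197 (iv F20617)) (tt N12652 D12657) (tt N12193 (iv F20609)) (tt N12653 D12658))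
theorem Q9912 : ∀ i, i < 9912 → P i := stepQ 9911 Q9911 (allL N9911 (tt N7645 F16543) (tt N12652 (iv F21392)) (tt N8865 F16544) (tt N7642 (iv D9911)) (tt N12654 D12659) (tt N8864 (iv F16545)))
theorem Q9913 : ∀ i, i < 9913 → P i := stepQ 9912 Q9912 (allL N9912 (tt N7646 F16546) (tt N12653 (iv F21394)) (tt N7643 F16547) (tt N8864 F16548) (tt N12655 D12660) (tt N7642 (iv D9912)))
theorem Q9914 : ∀ i, i < 9914 → P i := stepQ 9913 Q9913 (allL N9913 (tt N7647 F16549) (tt N12200 (iv F20623)) (tt N12655 (iv F21399)) (tt N10884 (iv F18269)) (tt N7643 (iv D9913)) (tt N12196 (iv F20616)))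
theorem Q9915 : ∀ i, i < 9915 → P i := stepQ 9914 Q9914 (allL N9914 (tt N7644 (iv D9914)) (tt N12651 (iv F21391)) (tt N7648 F16550) (tt N12656 D12661) (tt N12557 (iv F21245)) (tt N12657 D12662))
theorem Q9916 : ∀ i, i < 9916 → P i := stepQ 9915 Q9915 (allL N9915 (tt N12656 (iv F21400)) (tt N7645 F16551) (tt N12658 D12663) (tt N7644 (iv D9915)) (tt N12659 D12664) (tt N12660 D12665))
theorem Q9917 : ∀ i, i < 9917 → P i := stepQ 9916 Q9916 (allL N9916 (tt N12657 (iv F21401)) (tt N7646 F16552) (tt N7650 F16553) (tt N12660 (iv F21405)) (tt N12661 D12666) (tt N7644 (iv D9916)))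
theorem Q9918 : ∀ i, i < 9918 → P i := stepQ 9917 Q9917 (allL N9917 (tt N8865 F16554) (tt N12662 D12667) (tt N7645 (iv D9917)) (tt N8858 F16555) (tt N12663 D12668) (tt N8857 (iv F16556)))
theorem Q9919 : ∀ i, i < 9919 → P i := stepQ 9918 Q9918 (allL N9918 (tt N12654 (iv F21396)) (tt N12659 (iv F21403)) (tt N12663 (iv F21411)) (tt N12559 (iv F21247)) (tt N7645 (iv D9918)) (tt N12659 (iv F21801)))
theorem Q9920 : ∀ i, i < 9920 → P i := stepQ 9919 Q9919 (allL N9919 (tt N8864 F16557) (tt N12660 (iv F21404)) (tt N8857 F16558) (tt N7646 F16559) (tt N12660 (iv F21795)) (tt N7645 (iv D9919)))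
theorem Q9921 : ∀ i, i < 9921 → P i := stepQ 9920 Q9920 (allL N9920 (tt N12655 (iv F21398)) (tt N12661 (iv F21406)) (tt N7647 F16560) (tt N12661 (iv F21800)) (tt N7646 (iv D9920)) (tt N12555 (iv F21241)))
theorem Q9922 : ∀ i, i < 9922 → P i := stepQ 9921 Q9921 (allL N9921 (tt N7649 F16561) (tt N12071 (iv F20340)) (tt N12664 D12672) (tt N7648 (iv D9921)) (tt N12665 D12673) (tt N11976 (iv F20188)))
theorem Q9923 : ∀ i, i < 9923 → P i := stepQ 9922 Q9922 (allL N9922 (tt N7650 F16562) (tt N12070 (iv F20337)) (tt N12657 (iv F21402)) (tt N11976 (iv F20186)) (tt N12666 D12674) (tt N7648 (iv D9922)))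
theorem Q9924 : ∀ i, i < 9924 → P i := stepQ 9923 Q9923 (allL N9923 (tt N12664 (iv F21414)) (tt N11694 (iv F19676)) (tt N7649 (iv D9923)) (tt N8861 F21790) (tt N12667 D12676) (tt N11692 F19675))
theorem Q9925 : ∀ i, i < 9925 → P i := stepQ 9924 Q9924 (allL N9924 (tt N12665 (iv F21415)) (tt N7651 F16563) (tt N12667 (iv F21418)) (tt N12564 (iv F21260)) (tt N7649 (iv D9924)) (tt N11981 (iv F20204)))
theorem Q9926 : ∀ i, i < 9926 → P i := stepQ 9925 Q9925 (allL N9925 (tt N12666 (iv F21416)) (tt N7652 F16564) (tt N12661 (iv F21407)) (tt N11980 (iv F20199)) (tt N7650 (iv D9925)) (tt N12560 (iv F21250)))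
theorem Q9927 : ∀ i, i < 9927 → P i := stepQ 9926 Q9926 (allL N9926 (tt N9215 F16565) (tt N12668 D12677) (tt N7653 (iv D9926)) (tt N12669 D12678) (tt N7655 F16566) (tt N12670 D12679))
theorem Q9928 : ∀ i, i < 9928 → P i := stepQ 9927 Q9927 (allL N9927 (tt N9216 F16567) (tt N8496 F16568) (tt N12670 (iv F21424)) (tt N7654 F16569) (tt N12671 D12680) (tt N7653 (iv D9927)))
theorem Q9929 : ∀ i, i < 9929 → P i := stepQ 9928 Q9928 (allL N9928 (tt N12672 D12681) (tt N7655 (iv D9928)) (tt N12089 (iv F20386)) (tt N12673 D12682) (tt N12668 (iv F21421)) (tt N12674 D12683))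
theorem Q9930 : ∀ i, i < 9930 → P i := stepQ 9929 Q9929 (allL N9929 (tt N9218 F16570) (tt N12673 (iv F21430)) (tt N9243 F16571) (tt N7655 (iv D9929)) (tt N12675 D12684) (tt N9241 (iv F16572)))
theorem Q9931 : ∀ i, i < 9931 → P i := stepQ 9930 Q9930 (allL N9930 (tt N9219 F16573) (tt N12674 (iv F21432)) (tt N7656 F16574) (tt N9241 F16575) (tt N12676 D12685) (tt N7655 (iv D9930)))
theorem Q9932 : ∀ i, i < 9932 → P i := stepQ 9931 Q9931 (allL N9931 (tt N9220 F16576) (tt N12092 (iv F20392)) (tt N12676 (iv F21437)) (tt N9354 F16577) (tt N7656 (iv D9931)) (tt N12671 (iv F21428)))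
theorem Q9933 : ∀ i, i < 9933 → P i := stepQ 9932 Q9932 (allL N9932 (tt N9241 F16578) (tt N12677 D12686) (tt N7657 (iv D9932)) (tt N9219 F16579) (tt N12678 D12687) (tt N9218 (iv F16580)))
theorem Q9934 : ∀ i, i < 9934 → P i := stepQ 9933 Q9933 (allL N9933 (tt N9242 F16581) (tt N12624 (iv F21361)) (tt N12678 (iv F21441)) (tt N7659 F16582) (tt N7657 (iv D9933)) (tt N12679 D12688))
theorem Q9935 : ∀ i, i < 9935 → P i := stepQ 9934 Q9934 (allL N9934 (tt N9243 F16583) (tt N12627 (iv F21367)) (tt N9218 F16584) (tt N7658 F16585) (tt N12680 D12689) (tt N7657 (iv D9934)))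
theorem Q9936 : ∀ i, i < 9936 → P i := stepQ 9935 Q9935 (allL N9935 (tt N9366 F16586) (tt N12625 (iv F21364)) (tt N8665 F16587) (tt N12679 (iv F21443)) (tt N11571 (iv F19432)) (tt N7659 (iv D9935)))
theorem Q9937 : ∀ i, i < 9937 → P i := stepQ 9936 Q9936 (allL N9936 (tt N12681 D12690) (tt N7660 (iv D9936)) (tt N12084 (iv F20371)) (tt N12682 D12691) (tt N12080 (iv F20361)) (tt N12683 D12692))
theorem Q9938 : ∀ i, i < 9938 → P i := stepQ 9937 Q9937 (allL N9937 (tt N7663 F16588) (tt N12682 (iv F21447)) (tt N9127 F16589) (tt N7660 (iv D9937)) (tt N12684 D12693) (tt N9126 (iv F16590)))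
theorem Q9939 : ∀ i, i < 9939 → P i := stepQ 9938 Q9938 (allL N9938 (tt N7664 F16591) (tt N12683 (iv F21449)) (tt N7661 F16592) (tt N9126 F16593) (tt N12685 D12694) (tt N7660 (iv D9938)))
theorem Q9940 : ∀ i, i < 9940 → P i := stepQ 9939 Q9939 (allL N9939 (tt N7665 F16594) (tt N12087 (iv F20379)) (tt N12685 (iv F21454)) (tt N9370 F16595) (tt N7661 (iv D9939)) (tt N12083 (iv F20370)))
theorem Q9941 : ∀ i, i < 9941 → P i := stepQ 9940 Q9940 (allL N9940 (tt N7662 (iv D9940)) (tt N12681 (iv F21446)) (tt N7666 F16596) (tt N12686 D12695) (tt N12440 (iv F21010)) (tt N12687 D12696))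
theorem Q9942 : ∀ i, i < 9942 → P i := stepQ 9941 Q9941 (allL N9941 (tt N12686 (iv F21455)) (tt N7663 F16597) (tt N10905 F19720) (tt N7662 (iv D9941)) (tt N12688 D12697) (tt N10904 (iv F19719)))
theorem Q9943 : ∀ i, i < 9943 → P i := stepQ 9942 Q9942 (allL N9942 (tt N12687 (iv F21456)) (tt N7664 F16598) (tt N7668 F16599) (tt N10904 (iv F19717)) (tt N12689 D12698) (tt N7662 (iv D9942)))
theorem Q9944 : ∀ i, i < 9944 → P i := stepQ 9943 Q9943 (allL N9943 (tt N9127 F16600) (tt N12690 D12699) (tt N7663 (iv D9943)) (tt N9110 F16601) (tt N12691 D12700) (tt N9109 (iv F16602)))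
theorem Q9945 : ∀ i, i < 9945 → P i := stepQ 9944 Q9944 (allL N9944 (tt N12684 (iv F21451)) (tt N12688 (iv F21458)) (tt N12691 (iv F21464)) (tt N12442 (iv F21012)) (tt N7663 (iv D9944)) (tt N12692 D12701))
theorem Q9946 : ∀ i, i < 9946 → P i := stepQ 9945 Q9945 (allL N9945 (tt N9126 F16603) (tt N10904 F19716) (tt N9109 F16604) (tt N7664 F16605) (tt N10903 (iv F19718)) (tt N7663 (iv D9945)))
theorem Q9947 : ∀ i, i < 9947 → P i := stepQ 9946 Q9946 (allL N9946 (tt N12685 (iv F21453)) (tt N12689 (iv F21459)) (tt N7665 F16606) (tt N12693 D12702) (tt N7664 (iv D9946)) (tt N12443 (iv F21014)))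
theorem Q9948 : ∀ i, i < 9948 → P i := stepQ 9947 Q9947 (allL N9947 (tt N7667 F16607) (tt N12444 (iv F21016)) (tt N12694 D12703) (tt N7666 (iv D9947)) (tt N12695 D12704) (tt N12621 F21352))
theorem Q9949 : ∀ i, i < 9949 → P i := stepQ 9948 Q9948 (allL N9948 (tt N7668 F16608) (tt N12445 (iv F21019)) (tt N12687 (iv F21457)) (tt N12621 F21351) (tt N12696 D12705) (tt N7666 (iv D9948)))
theorem Q9950 : ∀ i, i < 9950 → P i := stepQ 9949 Q9949 (allL N9949 (tt N12694 (iv F21465)) (tt N12620 (iv F21347)) (tt N7667 (iv D9949)) (tt N12697 D12706) (tt N12698 D12707) (tt N12617 F21346))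
theorem Q9951 : ∀ i, i < 9951 → P i := stepQ 9950 Q9950 (allL N9950 (tt N12695 (iv F21466)) (tt N7669 F16609) (tt N12698 (iv F21468)) (tt N11981 (iv F20203)) (tt N7667 (iv D9950)) (tt N12564 (iv F21261)))
theorem Q9952 : ∀ i, i < 9952 → P i := stepQ 9951 Q9951 (allL N9951 (tt N12696 (iv F21467)) (tt N7670 F16610) (tt N12689 (iv F21460)) (tt N12560 (iv F21248)) (tt N7668 (iv D9951)) (tt N11980 (iv F20200)))
theorem Q9953 : ∀ i, i < 9953 → P i := stepQ 9952 Q9952 (allL N9952 (tt N7673 F16611) (tt N12699 D12708) (tt N7671 (iv D9952)) (tt N12700 D12709) (tt N12568 (iv F21271)) (tt N12701 D12710))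
theorem Q9954 : ∀ i, i < 9954 → P i := stepQ 9953 Q9953 (allL N9953 (tt N7674 F16612) (tt N12614 (iv F21340)) (tt N12701 (iv F21473)) (tt N7672 F16613) (tt N12702 D12711) (tt N7671 (iv D9953)))
theorem Q9955 : ∀ i, i < 9955 → P i := stepQ 9954 Q9954 (allL N9954 (tt N12703 D12712) (tt N7673 (iv D9954)) (tt N7675 F16614) (tt N12704 D12713) (tt N12569 (iv F21273)) (tt N12446 (iv F21022)))
theorem Q9956 : ∀ i, i < 9956 → P i := stepQ 9955 Q9955 (allL N9955 (tt N12700 (iv F21469)) (tt N12704 (iv F21477)) (tt N12705 D12714) (tt N7673 (iv D9955)) (tt N12706 D12715) (tt N12707 D12716))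
theorem Q9957 : ∀ i, i < 9957 → P i := stepQ 9956 Q9956 (allL N9956 (tt N12701 (iv F21472)) (tt N12446 (iv F21021)) (tt N7674 F16615) (tt N12707 (iv F21483)) (tt N12708 D12717) (tt N7673 (iv D9956)))
theorem Q9958 : ∀ i, i < 9958 → P i := stepQ 9957 Q9957 (allL N9957 (tt N12702 (iv F21475)) (tt N7676 F16616) (tt N12708 (iv F21484)) (tt N11593 (iv F19477)) (tt N7674 (iv D9957)) (tt N12567 (iv F21269)))
theorem Q9959 : ∀ i, i < 9959 → P i := stepQ 9958 Q9958 (allL N9958 (tt N7675 (iv D9958)) (tt N12621 (iv F21350)) (tt N12703 (iv F21476)) (tt N12445 (iv F21020)) (tt N12571 (iv F21277)) (tt N12444 F21017))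
theorem Q9960 : ∀ i, i < 9960 → P i := stepQ 9959 Q9959 (allL N9959 (tt N8917 F16617) (tt N7678 F16618) (tt N9320 F16619) (tt N11088 (iv F18585)) (tt N9101 F16620) (tt N7677 (iv D9959)))
theorem Q9961 : ∀ i, i < 9961 → P i := stepQ 9960 Q9960 (allL N9960 (tt N7681 F16621) (tt N12709 D12718) (tt N7679 (iv D9960)) (tt N12710 D12719) (tt N11588 (iv F19469)) (tt N12711 D12720))
theorem Q9962 : ∀ i, i < 9962 → P i := stepQ 9961 Q9961 (allL N9961 (tt N7682 F16622) (tt N7694 F16623) (tt N12711 (iv F21488)) (tt N7680 F16624) (tt N12712 D12721) (tt N7679 (iv D9961)))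
theorem Q9963 : ∀ i, i < 9963 → P i := stepQ 9962 Q9962 (allL N9962 (tt N12713 D12722) (tt N7681 (iv D9962)) (tt N7683 F16625) (tt N12714 D12723) (tt N11590 (iv F19474)) (tt N7687 (iv F16626)))
theorem Q9964 : ∀ i, i < 9964 → P i := stepQ 9963 Q9963 (allL N9963 (tt N12710 (iv F21486)) (tt N12714 (iv F21493)) (tt N12715 D12724) (tt N7681 (iv D9963)) (tt N12716 D12725) (tt N12717 D12726))
theorem Q9965 : ∀ i, i < 9965 → P i := stepQ 9964 Q9964 (allL N9964 (tt N12711 (iv F21487)) (tt N7687 F16627) (tt N7682 F16628) (tt N12717 (iv F21496)) (tt N12718 D12727) (tt N7681 (iv D9964)))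
theorem Q9966 : ∀ i, i < 9966 → P i := stepQ 9965 Q9965 (allL N9965 (tt N12712 (iv F21489)) (tt N7684 F16629) (tt N12718 (iv F21498)) (tt N12567 (iv F21268)) (tt N7682 (iv D9965)) (tt N11593 (iv F19478)))
theorem Q9967 : ∀ i, i < 9967 → P i := stepQ 9966 Q9966 (allL N9966 (tt N7683 (iv D9966)) (tt N7701 F16630) (tt N12713 (iv F21491)) (tt N7686 F16631) (tt N11594 (iv F19480)) (tt N7685 F16632))
theorem Q9968 : ∀ i, i < 9968 → P i := stepQ 9967 Q9967 (allL N9967 (tt N7687 F16633) (tt N12719 D12728) (tt N7685 (iv D9967)) (tt N12720 D12729) (tt N12721 D12730) (tt N12713 (iv F21492)))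
theorem Q9969 : ∀ i, i < 9969 → P i := stepQ 9968 Q9968 (allL N9968 (tt N7688 F16634) (tt N11767 (iv F19822)) (tt N12721 (iv F21502)) (tt N11766 (iv F19820)) (tt N7685 (iv D9968)) (tt N12722 D12731))
theorem Q9970 : ∀ i, i < 9970 → P i := stepQ 9969 Q9969 (allL N9969 (tt N7689 F16635) (tt N11751 (iv F19791)) (tt N10914 (iv F18320)) (tt N12723 D12732) (tt N7686 (iv D9969)) (tt N11749 (iv F19788)))
theorem Q9971 : ∀ i, i < 9971 → P i := stepQ 9970 Q9970 (allL N9970 (tt N12720 (iv F21499)) (tt N12717 (iv F21495)) (tt N12724 D12733) (tt N7687 (iv D9970)) (tt N12725 D12734) (tt N12714 (iv F21494)))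
theorem Q9972 : ∀ i, i < 9972 → P i := stepQ 9971 Q9971 (allL N9971 (tt N12721 (iv F21501)) (tt N12718 (iv F21497)) (tt N7688 F16636) (tt N12726 D12735) (tt N7687 (iv D9971)) (tt N12727 D12736))
theorem Q9973 : ∀ i, i < 9973 → P i := stepQ 9972 Q9972 (allL N9972 (tt N12722 (iv F21503)) (tt N7690 F16637) (tt N12727 (iv F21507)) (tt N11299 (iv F18954)) (tt N11294 F18940) (tt N7688 (iv D9972)))
theorem Q9974 : ∀ i, i < 9974 → P i := stepQ 9973 Q9973 (allL N9973 (tt N12723 (iv F21504)) (tt N7691 F16638) (tt N12728 D12737) (tt N7689 (iv D9973)) (tt N11295 F18944) (tt N11300 (iv F18958)))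
theorem Q9975 : ∀ i, i < 9975 → P i := stepQ 9974 Q9974 (allL N9974 (tt N12729 D12738) (tt N7692 (iv D9974)) (tt N12709 (iv F21485)) (tt N9896 F16639) (tt N12730 D12739) (tt N12731 D12740))
theorem Q9976 : ∀ i, i < 9976 → P i := stepQ 9975 Q9975 (allL N9975 (tt N7697 F16640) (tt N12730 (iv F21513)) (tt N7693 F16641) (tt N12732 D12741) (tt N7692 (iv D9975)) (tt N12733 D12742))
theorem Q9977 : ∀ i, i < 9977 → P i := stepQ 9976 Q9976 (allL N9976 (tt N7698 F16642) (tt N12731 (iv F21514)) (tt N7694 F16643) (tt N8435 F16644) (tt N12734 D12743) (tt N7692 (iv D9976)))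
theorem Q9978 : ∀ i, i < 9978 → P i := stepQ 9977 Q9977 (allL N9977 (tt N7699 F16645) (tt N11589 (iv F19471)) (tt N12733 (iv F21519)) (tt N7706 F16646) (tt N12735 D12744) (tt N7693 (iv D9977)))
theorem Q9979 : ∀ i, i < 9979 → P i := stepQ 9978 Q9978 (allL N9978 (tt N7700 F16647) (tt N12712 (iv F21490)) (tt N12734 (iv F21521)) (tt N12609 (iv F21332)) (tt N7694 (iv D9978)) (tt N12735 (iv F21523)))
theorem Q9980 : ∀ i, i < 9980 → P i := stepQ 9979 Q9979 (allL N9979 (tt N7695 (iv D9979)) (tt N12729 (iv F21511)) (tt N7701 F16648) (tt N12736 D12745) (tt N12737 D12746) (tt N11989 (iv F20220)))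
theorem Q9981 : ∀ i, i < 9981 → P i := stepQ 9980 Q9980 (allL N9980 (tt N12736 (iv F21524)) (tt N7696 F16649) (tt N12738 D12747) (tt N7695 (iv D9980)) (tt N12739 D12748) (tt N11990 (iv F20222)))
theorem Q9982 : ∀ i, i < 9982 → P i := stepQ 9981 Q9981 (allL N9981 (tt N12737 (iv F21527)) (tt N7697 F16650) (tt N7702 F16651) (tt N12740 D12749) (tt N7695 (iv D9981)) (tt N11585 (iv F19461)))
theorem Q9983 : ∀ i, i < 9983 → P i := stepQ 9982 Q9982 (allL N9982 (tt N9897 F16652) (tt N12739 (iv F21532)) (tt N9895 F16653) (tt N12741 D12750) (tt N7696 (iv D9982)) (tt N12742 D12751))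
theorem Q9984 : ∀ i, i < 9984 → P i := stepQ 9983 Q9983 (allL N9983 (tt N8435 F16654) (tt N11990 (iv F20221)) (tt N8434 F16655) (tt N7698 F16656) (tt N12743 D12752) (tt N7696 (iv D9983)))
theorem Q9985 : ∀ i, i < 9985 → P i := stepQ 9984 Q9984 (allL N9984 (tt N12732 (iv F21516)) (tt N12740 (iv F21533)) (tt N12744 D12753) (tt N7697 (iv D9984)) (tt N12741 (iv F21535)) (tt N12745 D12754))
theorem Q9986 : ∀ i, i < 9986 → P i := stepQ 9985 Q9985 (allL N9985 (tt N12733 (iv F21518)) (tt N11585 (iv F19460)) (tt N7699 F16657) (tt N12745 (iv F21540)) (tt N12746 D12755) (tt N7697 (iv D9985)))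
theorem Q9987 : ∀ i, i < 9987 → P i := stepQ 9986 Q9986 (allL N9986 (tt N12734 (iv F21520)) (tt N11991 (iv F20223)) (tt N7700 F16658) (tt N12747 D12756) (tt N7698 (iv D9986)) (tt N12746 (iv F21542)))
theorem Q9988 : ∀ i, i < 9988 → P i := stepQ 9987 Q9987 (allL N9987 (tt N12735 (iv F21522)) (tt N7703 F16659) (tt N12746 (iv F21541)) (tt N12611 (iv F21335)) (tt N7699 (iv D9987)) (tt N7700 F16660))
theorem Q9989 : ∀ i, i < 9989 → P i := stepQ 9988 Q9988 (allL N9988 (tt N7702 F16661) (tt N11594 (iv F19479)) (tt N12737 (iv F21528)) (tt N11584 (iv F19459)) (tt N7701 (iv D9988)) (tt N11583 F19457))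
theorem Q9990 : ∀ i, i < 9990 → P i := stepQ 9989 Q9989 (allL N9989 (tt N8016 F16662) (tt N7705 F16663) (tt N8019 F16664) (tt N12748 D12757) (tt N7704 (iv D9989)) (tt N12749 D12758))
theorem Q9991 : ∀ i, i < 9991 → P i := stepQ 9990 Q9990 (allL N9990 (tt N7708 F16665) (tt N12748 (iv F21544)) (tt N12750 D12759) (tt N7705 (iv D9990)) (tt N8262 F16666) (tt N12751 D12760))
theorem Q9992 : ∀ i, i < 9992 → P i := stepQ 9991 Q9991 (allL N9991 (tt N7709 F16667) (tt N12749 (iv F21547)) (tt N7706 F16668) (tt N12751 (iv F21553)) (tt N12623 (iv F21359)) (tt N7705 (iv D9991)))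
theorem Q9993 : ∀ i, i < 9993 → P i := stepQ 9992 Q9992 (allL N9992 (tt N8262 F16669) (tt N11569 (iv F19423)) (tt N12752 D12761) (tt N7707 (iv D9992)) (tt N7708 F16670) (tt N12753 D12762))
theorem Q9994 : ∀ i, i < 9994 → P i := stepQ 9993 Q9993 (allL N9993 (tt N8263 F16671) (tt N11571 (iv F19430)) (tt N8261 F16672) (tt N12753 (iv F21557)) (tt N12625 (iv F21366)) (tt N7707 (iv D9993)))
theorem Q9995 : ∀ i, i < 9995 → P i := stepQ 9994 Q9994 (allL N9994 (tt N12750 (iv F21550)) (tt N12754 D12763) (tt N7708 (iv D9994)) (tt N12755 D12764) (tt N12752 (iv F21555)) (tt N12756 D12765))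
theorem Q9996 : ∀ i, i < 9996 → P i := stepQ 9995 Q9995 (allL N9995 (tt N12751 (iv F21552)) (tt N11570 (iv F19426)) (tt N12756 (iv F21558)) (tt N7709 F16673) (tt N12757 D12766) (tt N7708 (iv D9995)))
theorem Q9997 : ∀ i, i < 9997 → P i := stepQ 9996 Q9996 (allL N9996 (tt N7855 (iv F16675)) (tt N7710 (iv D9996)) (tt N10158 (iv F16922)) (tt N7853 F16674) (tt N12758 D12767) (tt N10160 (iv F16928)))
theorem Q9998 : ∀ i, i < 9998 → P i := stepQ 9997 Q9997 (allL N9997 (tt N7716 F16676) (tt N12758 (iv F21560)) (tt N7711 F16677) (tt N12759 D12768) (tt N7710 (iv D9997)) (tt N12760 D12769))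
theorem Q9999 : ∀ i, i < 9999 → P i := stepQ 9998 Q9998 (allL N9998 (tt N7717 F16678) (tt N10160 (iv F16927)) (tt N7712 F16679) (tt N10225 (iv F17082)) (tt N12761 D12770) (tt N7710 (iv D9998)))
theorem Q10000 : ∀ i, i < 10000 → P i := stepQ 9999 Q9999 (allL N9999 (tt N7718 F16680) (tt N10214 (iv F17052)) (tt N12760 (iv F21566)) (tt N7731 F16681) (tt N12762 D12771) (tt N7711 (iv D9999)))
theorem Q10001 : ∀ i, i < 10001 → P i := stepQ 10000 Q10000 (allL N10000 (tt N7719 F16682) (tt N10013 (iv F16709)) (tt N12761 (iv F21568)) (tt N12763 D12772) (tt N7712 (iv D10000)) (tt N12762 (iv F21570)))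
theorem Q10002 : ∀ i, i < 10002 → P i := stepQ 10001 Q10001 (allL N10001 (tt N7720 F16683) (tt N10202 (iv F17032)) (tt N12764 D12773) (tt N7713 (iv D10001)) (tt N12763 (iv F21572)) (tt N7732 F16684))
theorem Q10003 : ∀ i, i < 10003 → P i := stepQ 10002 Q10002 (allL N10002 (tt N7714 (iv D10002)) (tt N7855 F16685) (tt N7721 F16686) (tt N7854 (iv F16688)) (tt N12765 D12774) (tt N7865 F16687))
theorem Q10004 : ∀ i, i < 10004 → P i := stepQ 10003 Q10003 (allL N10003 (tt N7854 F16689) (tt N7715 F16690) (tt N7856 F16691) (tt N7714 (iv D10003)) (tt N8221 (iv F16693)) (tt N7862 F16692))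
theorem Q10005 : ∀ i, i < 10005 → P i := stepQ 10004 Q10004 (allL N10004 (tt N12765 (iv F21575)) (tt N7716 F16694) (tt N7722 F16695) (tt N12766 D12775) (tt N7714 (iv D10004)) (tt N12767 D12776))
theorem Q10006 : ∀ i, i < 10006 → P i := stepQ 10005 Q10005 (allL N10005 (tt N8217 F16696) (tt N8221 F16697) (tt N10324 (iv F17258)) (tt N12768 D12777) (tt N7715 (iv D10005)) (tt N12769 D12778))
theorem Q10007 : ∀ i, i < 10007 → P i := stepQ 10006 Q10006 (allL N10006 (tt N10225 (iv F17080)) (tt N7862 F16698) (tt N10222 (iv F17072)) (tt N7717 F16699) (tt N12770 D12779) (tt N7715 (iv D10006)))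
theorem Q10008 : ∀ i, i < 10008 → P i := stepQ 10007 Q10007 (allL N10007 (tt N12759 (iv F21562)) (tt N12766 (iv F21580)) (tt N12771 D12780) (tt N7716 (iv D10007)) (tt N12768 (iv F21587)) (tt N12772 D12781))
theorem Q10009 : ∀ i, i < 10009 → P i := stepQ 10008 Q10008 (allL N10008 (tt N12760 (iv F21565)) (tt N12767 (iv F21582)) (tt N7718 F16700) (tt N12772 (iv F21592)) (tt N12773 D12782) (tt N7716 (iv D10008)))
theorem Q10010 : ∀ i, i < 10010 → P i := stepQ 10009 Q10009 (allL N10009 (tt N12761 (iv F21567)) (tt N7905 F16701) (tt N7719 F16702) (tt N12774 D12783) (tt N7717 (iv D10009)) (tt N12773 (iv F21595)))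
theorem Q10011 : ∀ i, i < 10011 → P i := stepQ 10010 Q10010 (allL N10010 (tt N12762 (iv F21569)) (tt N7725 F16703) (tt N12773 (iv F21594)) (tt N11896 (iv F20028)) (tt N7718 (iv D10010)) (tt N7719 F16704))
theorem Q10012 : ∀ i, i < 10012 → P i := stepQ 10011 Q10011 (allL N10011 (tt N12763 (iv F21571)) (tt N7726 F16705) (tt N12775 D12784) (tt N7719 (iv D10011)) (tt N7720 F16706) (tt N11896 (iv F20029)))
theorem Q10013 : ∀ i, i < 10013 → P i := stepQ 10012 Q10012 (allL N10012 (tt N12764 (iv F21573)) (tt N12776 D12785) (tt N7720 (iv D10012)) (tt N12777 D12786) (tt N12775 (iv F21597)) (tt N7737 F16707))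
theorem Q10014 : ∀ i, i < 10014 → P i := stepQ 10013 Q10013 (allL N10013 (tt N7722 F16708) (tt N10000 F16709) (tt N12765 (iv F21577)) (tt N12778 D12787) (tt N7721 (iv D10013)) (tt N12779 D12788))
theorem Q10015 : ∀ i, i < 10015 → P i := stepQ 10014 Q10014 (allL N10014 (tt N12778 (iv F21601)) (tt N7723 F16710) (tt N12780 D12789) (tt N7722 (iv D10014)) (tt N7893 F16711) (tt N10036 (iv F16742)))
theorem Q10016 : ∀ i, i < 10016 → P i := stepQ 10015 Q10015 (allL N10015 (tt N12779 (iv F21604)) (tt N7724 F16712) (tt N12767 (iv F21583)) (tt N10036 (iv F16741)) (tt N7906 F16713) (tt N7722 (iv D10015)))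
theorem Q10017 : ∀ i, i < 10017 → P i := stepQ 10016 Q10016 (allL N10016 (tt N9778 F16714) (tt N12781 D12790) (tt N7726 (iv D10016)) (tt N7749 F16715) (tt N7727 F16716) (tt N7748 F16717))
theorem Q10018 : ∀ i, i < 10018 → P i := stepQ 10017 Q10017 (allL N10017 (tt N12782 D12791) (tt N7727 (iv D10017)) (tt N12776 (iv F21598)) (tt N7738 F16718) (tt N12781 (iv F21609)) (tt N7738 F16719))
theorem Q10019 : ∀ i, i < 10019 → P i := stepQ 10018 Q10018 (allL N10018 (tt N10909 (iv F18305)) (tt N7730 F16720) (tt N11749 (iv F19787)) (tt N12783 D12792) (tt N7728 (iv D10018)) (tt N10914 (iv F18321)))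
theorem Q10020 : ∀ i, i < 10020 → P i := stepQ 10019 Q10019 (allL N10019 (tt N7734 F16721) (tt N11903 (iv F20047)) (tt N10508 (iv F17591)) (tt N12784 D12793) (tt N7729 (iv D10019)) (tt N12785 D12794))
theorem Q10021 : ∀ i, i < 10021 → P i := stepQ 10020 Q10020 (allL N10020 (tt N7735 F16722) (tt N12783 (iv F21613)) (tt N12786 D12795) (tt N7730 (iv D10020)) (tt N12784 (iv F21615)) (tt N12787 D12796))
theorem Q10022 : ∀ i, i < 10022 → P i := stepQ 10021 Q10021 (allL N10021 (tt N7736 F16723) (tt N10914 (iv F18319)) (tt N7731 F16724) (tt N12787 (iv F21619)) (tt N9811 F16725) (tt N7730 (iv D10021)))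
theorem Q10023 : ∀ i, i < 10023 → P i := stepQ 10022 Q10022 (allL N10022 (tt N7737 F16726) (tt N12788 D12797) (tt N7732 (iv D10022)) (tt N12789 D12798) (tt N11891 (iv F20018)) (tt N12764 (iv F21574)))
theorem Q10024 : ∀ i, i < 10024 → P i := stepQ 10023 Q10023 (allL N10023 (tt N10508 (iv F17589)) (tt N11899 (iv F20036)) (tt N7734 F16727) (tt N12790 D12799) (tt N7733 (iv D10023)) (tt N12791 D12800))
theorem Q10025 : ∀ i, i < 10025 → P i := stepQ 10024 Q10024 (allL N10024 (tt N12784 (iv F21614)) (tt N11884 (iv F20002)) (tt N12792 D12801) (tt N7734 (iv D10024)) (tt N7735 F16728) (tt N12793 D12802))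
theorem Q10026 : ∀ i, i < 10026 → P i := stepQ 10025 Q10025 (allL N10025 (tt N12785 (iv F21616)) (tt N11883 (iv F19998)) (tt N12791 (iv F21622)) (tt N12793 (iv F21625)) (tt N11882 (iv F19996)) (tt N7734 (iv D10025)))
theorem Q10027 : ∀ i, i < 10027 → P i := stepQ 10026 Q10026 (allL N10026 (tt N12786 (iv F21617)) (tt N12794 D12803) (tt N7735 (iv D10026)) (tt N12795 D12804) (tt N12792 (iv F21623)) (tt N12796 D12805))
theorem Q10028 : ∀ i, i < 10028 → P i := stepQ 10027 Q10027 (allL N10027 (tt N12787 (iv F21618)) (tt N9808 F16729) (tt N12796 (iv F21627)) (tt N7736 F16730) (tt N9805 (iv F16731)) (tt N7735 (iv D10027)))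
theorem Q10029 : ∀ i, i < 10029 → P i := stepQ 10028 Q10028 (allL N10028 (tt N12797 D12806) (tt N7737 (iv D10028)) (tt N7738 F16732) (tt N12798 D12807) (tt N11893 (iv F20023)) (tt N12776 (iv F21599)))
theorem Q10030 : ∀ i, i < 10030 → P i := stepQ 10029 Q10029 (allL N10029 (tt N12789 (iv F21621)) (tt N12798 (iv F21630)) (tt N12799 D12808) (tt N7737 (iv D10029)) (tt N12800 D12809) (tt N12777 (iv F21600)))
theorem Q10031 : ∀ i, i < 10031 → P i := stepQ 10030 Q10030 (allL N10030 (tt N7738 (iv D10030)) (tt N11756 (iv F19798)) (tt N12797 (iv F21629)) (tt N12782 (iv F21611)) (tt N11897 (iv F20032)) (tt N12782 (iv F21612)))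
theorem Q10032 : ∀ i, i < 10032 → P i := stepQ 10031 Q10031 (allL N10031 (tt N7741 F16733) (tt N12801 D12810) (tt N7739 (iv D10031)) (tt N12738 (iv F21531)) (tt N11752 (iv F19795)) (tt N12802 D12811))
theorem Q10033 : ∀ i, i < 10033 → P i := stepQ 10032 Q10032 (allL N10032 (tt N7742 F16734) (tt N11892 (iv F20020)) (tt N12802 (iv F21634)) (tt N7740 F16735) (tt N12803 D12812) (tt N7739 (iv D10032)))
theorem Q10034 : ∀ i, i < 10034 → P i := stepQ 10033 Q10033 (allL N10033 (tt N12804 D12813) (tt N7741 (iv D10033)) (tt N7743 F16736) (tt N12805 D12814) (tt N11754 (iv F19797)) (tt N9775 (iv F16737)))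
theorem Q10035 : ∀ i, i < 10035 → P i := stepQ 10034 Q10034 (allL N10034 (tt N12738 (iv F21529)) (tt N12805 (iv F21643)) (tt N12736 (iv F21526)) (tt N7741 (iv D10034)) (tt N12806 D12815) (tt N12807 D12816))
theorem Q10036 : ∀ i, i < 10036 → P i := stepQ 10035 Q10035 (allL N10035 (tt N12802 (iv F21633)) (tt N9775 F16738) (tt N7742 F16739) (tt N12807 (iv F21647)) (tt N12808 D12817) (tt N7741 (iv D10035)))
theorem Q10037 : ∀ i, i < 10037 → P i := stepQ 10036 Q10036 (allL N10036 (tt N12803 (iv F21635)) (tt N7744 F16740) (tt N12808 (iv F21649)) (tt N10015 F16741) (tt N7742 (iv D10036)) (tt N10014 F16742))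
theorem Q10038 : ∀ i, i < 10038 → P i := stepQ 10037 Q10037 (allL N10037 (tt N7743 (iv D10037)) (tt N11897 (iv F20030)) (tt N12804 (iv F21639)) (tt N9774 F16743) (tt N11756 (iv F19799)) (tt N9773 F16744))
theorem Q10039 : ∀ i, i < 10039 → P i := stepQ 10038 Q10038 (allL N10038 (tt N7746 F16745) (tt N9773 F16746) (tt N12809 D12818) (tt N7745 (iv D10038)) (tt N12810 D12819) (tt N11897 (iv F20033)))
theorem Q10040 : ∀ i, i < 10040 → P i := stepQ 10039 Q10039 (allL N10039 (tt N7747 F16747) (tt N9774 F16748) (tt N11051 (iv F18529)) (tt N11897 (iv F20031)) (tt N12811 D12820) (tt N7745 (iv D10039)))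
theorem Q10041 : ∀ i, i < 10041 → P i := stepQ 10040 Q10040 (allL N10040 (tt N12809 (iv F21651)) (tt N11895 (iv F20025)) (tt N7746 (iv D10040)) (tt N12812 D12821) (tt N12813 D12822) (tt N11893 F20024))
theorem Q10042 : ∀ i, i < 10042 → P i := stepQ 10041 Q10041 (allL N10041 (tt N12810 (iv F21652)) (tt N7748 F16749) (tt N12813 (iv F21658)) (tt N9261 F16750) (tt N7746 (iv D10041)) (tt N12781 (iv F21610)))
theorem Q10043 : ∀ i, i < 10043 → P i := stepQ 10042 Q10042 (allL N10042 (tt N12811 (iv F21655)) (tt N7749 F16751) (tt N11054 (iv F18535)) (tt N12781 (iv F21608)) (tt N7747 (iv D10042)) (tt N9261 F16752))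
theorem Q10044 : ∀ i, i < 10044 → P i := stepQ 10043 Q10043 (allL N10043 (tt N11807 (iv F19887)) (tt N7751 F16753) (tt N11942 (iv F20133)) (tt N11900 (iv F20039)) (tt N7817 F16754) (tt N7750 (iv D10043)))
theorem Q10045 : ∀ i, i < 10045 → P i := stepQ 10044 Q10044 (allL N10044 (tt N11935 (iv F20116)) (tt N7753 F16755) (tt N12814 D12823) (tt N7752 (iv D10044)) (tt N7811 F16756) (tt N12815 D12824))
theorem Q10046 : ∀ i, i < 10046 → P i := stepQ 10045 Q10045 (allL N10045 (tt N11936 (iv F20119)) (tt N7754 F16757) (tt N11783 (iv F19851)) (tt N12815 (iv F21661)) (tt N7810 F16758) (tt N7752 (iv D10045)))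
theorem Q10047 : ∀ i, i < 10047 → P i := stepQ 10046 Q10046 (allL N10046 (tt N7820 F16759) (tt N12815 (iv F21660)) (tt N12122 (iv F20453)) (tt N7754 F16760) (tt N10671 (iv F17874)) (tt N7753 (iv D10046)))
theorem Q10048 : ∀ i, i < 10048 → P i := stepQ 10047 Q10047 (allL N10047 (tt N11615 (iv F19525)) (tt N7757 F16761) (tt N7766 F16762) (tt N12816 D12825) (tt N7755 (iv D10047)) (tt N12817 D12826))
theorem Q10049 : ∀ i, i < 10049 → P i := stepQ 10048 Q10048 (allL N10048 (tt N7761 F16763) (tt N11681 (iv F19656)) (tt N10512 (iv F17600)) (tt N12818 D12827) (tt N7756 (iv D10048)) (tt N12819 D12828))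
theorem Q10050 : ∀ i, i < 10050 → P i := stepQ 10049 Q10049 (allL N10049 (tt N7762 F16764) (tt N12816 (iv F21662)) (tt N12820 D12829) (tt N7757 (iv D10049)) (tt N12818 (iv F21666)) (tt N12821 D12830))
theorem Q10051 : ∀ i, i < 10051 → P i := stepQ 10050 Q10050 (allL N10050 (tt N7763 F16765) (tt N12817 (iv F21663)) (tt N7758 F16766) (tt N12821 (iv F21670)) (tt N11623 (iv F19547)) (tt N7757 (iv D10050)))
theorem Q10052 : ∀ i, i < 10052 → P i := stepQ 10051 Q10051 (allL N10051 (tt N7764 F16767) (tt N12822 D12831) (tt N7759 (iv D10051)) (tt N10463 (iv F17497)) (tt N11638 (iv F19576)) (tt N10473 (iv F17520)))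
theorem Q10053 : ∀ i, i < 10053 → P i := stepQ 10052 Q10052 (allL N10052 (tt N10512 (iv F17598)) (tt N11678 (iv F19647)) (tt N7761 F16768) (tt N12823 D12832) (tt N7760 (iv D10052)) (tt N12824 D12833))
theorem Q10054 : ∀ i, i < 10054 → P i := stepQ 10053 Q10053 (allL N10053 (tt N12818 (iv F21665)) (tt N11633 (iv F19568)) (tt N12825 D12834) (tt N7761 (iv D10053)) (tt N7762 F16769) (tt N12826 D12835))
theorem Q10055 : ∀ i, i < 10055 → P i := stepQ 10054 Q10054 (allL N10054 (tt N12819 (iv F21667)) (tt N11632 (iv F19564)) (tt N12824 (iv F21672)) (tt N12826 (iv F21674)) (tt N11625 (iv F19551)) (tt N7761 (iv D10054)))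
theorem Q10056 : ∀ i, i < 10056 → P i := stepQ 10055 Q10055 (allL N10055 (tt N12820 (iv F21668)) (tt N12827 D12836) (tt N7762 (iv D10055)) (tt N12828 D12837) (tt N12825 (iv F21673)) (tt N12829 D12838))
theorem Q10057 : ∀ i, i < 10057 → P i := stepQ 10056 Q10056 (allL N10056 (tt N12821 (iv F21669)) (tt N11636 (iv F19573)) (tt N12829 (iv F21675)) (tt N7763 F16770) (tt N12830 D12839) (tt N7762 (iv D10056)))
theorem Q10058 : ∀ i, i < 10058 → P i := stepQ 10057 Q10057 (allL N10057 (tt N10463 (iv F17496)) (tt N11666 (iv F19620)) (tt N10449 (iv F17473)) (tt N7764 (iv D10057)) (tt N12831 D12840) (tt N10481 (iv F17534)))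
theorem Q10059 : ∀ i, i < 10059 → P i := stepQ 10058 Q10058 (allL N10058 (tt N7766 F16771) (tt N7774 F16772) (tt N11615 (iv F19527)) (tt N12832 D12841) (tt N7765 (iv D10058)) (tt N12833 D12842))
theorem Q10060 : ∀ i, i < 10060 → P i := stepQ 10059 Q10059 (allL N10059 (tt N12832 (iv F21676)) (tt N7768 F16773) (tt N12834 D12843) (tt N7766 (iv D10059)) (tt N11986 (iv F20214)) (tt N12835 D12844))
theorem Q10061 : ∀ i, i < 10061 → P i := stepQ 10060 Q10060 (allL N10060 (tt N12833 (iv F21678)) (tt N7769 F16774) (tt N12817 (iv F21664)) (tt N12835 (iv F21681)) (tt N12836 D12845) (tt N7766 (iv D10060)))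
theorem Q10062 : ∀ i, i < 10062 → P i := stepQ 10061 Q10061 (allL N10061 (tt N11595 (iv F19481)) (tt N7770 F16775) (tt N11611 (iv F19520)) (tt N12837 D12846) (tt N7767 (iv D10061)) (tt N12836 (iv F21683)))
theorem Q10063 : ∀ i, i < 10063 → P i := stepQ 10062 Q10062 (allL N10062 (tt N7781 F16776) (tt N12838 D12847) (tt N7768 (iv D10062)) (tt N11675 (iv F19643)) (tt N11987 (iv F20216)) (tt N11674 (iv F19640)))
theorem Q10064 : ∀ i, i < 10064 → P i := stepQ 10063 Q10063 (allL N10063 (tt N7782 F16777) (tt N12835 (iv F21680)) (tt N11674 (iv F19639)) (tt N7769 F16778) (tt N12839 D12848) (tt N7768 (iv D10063)))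
theorem Q10065 : ∀ i, i < 10065 → P i := stepQ 10064 Q10064 (allL N10064 (tt N7783 F16779) (tt N12836 (iv F21682)) (tt N7771 F16780) (tt N12840 D12849) (tt N7769 (iv D10064)) (tt N7770 F16781))
theorem Q10066 : ∀ i, i < 10066 → P i := stepQ 10065 Q10065 (allL N10065 (tt N7784 F16782) (tt N12837 (iv F21684)) (tt N12841 D12850) (tt N7770 (iv D10065)) (tt N7804 F16783) (tt N12840 (iv F21688)))
theorem Q10067 : ∀ i, i < 10067 → P i := stepQ 10066 Q10066 (allL N10066 (tt N7785 F16784) (tt N11639 (iv F19578)) (tt N12842 D12851) (tt N7771 (iv D10066)) (tt N11327 (iv F19008)) (tt N7772 F16785))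
theorem Q10068 : ∀ i, i < 10068 → P i := stepQ 10067 Q10067 (allL N10067 (tt N7786 F16786) (tt N12843 D12852) (tt N7772 (iv D10067)) (tt N12844 D12853) (tt N7773 F16787) (tt N12842 (iv F21692)))
theorem Q10069 : ∀ i, i < 10069 → P i := stepQ 10068 Q10068 (allL N10068 (tt N12845 D12854) (tt N7773 (iv D10068)) (tt N12822 (iv F21671)) (tt N7787 F16788) (tt N12843 (iv F21693)) (tt N11667 (iv F19622)))
theorem Q10070 : ∀ i, i < 10070 → P i := stepQ 10069 Q10069 (allL N10069 (tt N7776 F16789) (tt N12832 (iv F21677)) (tt N12846 D12855) (tt N7774 (iv D10069)) (tt N11726 (iv F19754)) (tt N12847 D12856))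
theorem Q10071 : ∀ i, i < 10071 → P i := stepQ 10070 Q10070 (allL N10070 (tt N7777 F16790) (tt N12833 (iv F21679)) (tt N7788 F16791) (tt N12847 (iv F21700)) (tt N11598 (iv F19490)) (tt N7774 (iv D10070)))
theorem Q10072 : ∀ i, i < 10072 → P i := stepQ 10071 Q10071 (allL N10071 (tt N11726 (iv F19753)) (tt N7778 F16792) (tt N12848 D12857) (tt N7775 (iv D10071)) (tt N7776 F16793) (tt N12849 D12858))
theorem Q10073 : ∀ i, i < 10073 → P i := stepQ 10072 Q10072 (allL N10072 (tt N11727 (iv F19755)) (tt N7779 F16794) (tt N11715 (iv F19731)) (tt N12849 (iv F21703)) (tt N11601 (iv F19497)) (tt N7775 (iv D10072)))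
theorem Q10074 : ∀ i, i < 10074 → P i := stepQ 10073 Q10073 (allL N10073 (tt N12846 (iv F21698)) (tt N12850 D12859) (tt N7776 (iv D10073)) (tt N12851 D12860) (tt N12848 (iv F21701)) (tt N12852 D12861))
theorem Q10075 : ∀ i, i < 10075 → P i := stepQ 10074 Q10074 (allL N10074 (tt N12847 (iv F21699)) (tt N7782 F16795) (tt N12852 (iv F21705)) (tt N7777 F16796) (tt N12853 D12862) (tt N7776 (iv D10074)))
theorem Q10076 : ∀ i, i < 10076 → P i := stepQ 10075 Q10075 (allL N10075 (tt N11987 (iv F20215)) (tt N12854 D12863) (tt N7778 (iv D10075)) (tt N11984 (iv F20211)) (tt N7781 F16797) (tt N11983 F20208))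
theorem Q10077 : ∀ i, i < 10077 → P i := stepQ 10076 Q10076 (allL N10076 (tt N11988 (iv F20217)) (tt N12849 (iv F21702)) (tt N11983 (iv F20207)) (tt N7779 F16798) (tt N12855 D12864) (tt N7778 (iv D10076)))
theorem Q10078 : ∀ i, i < 10078 → P i := stepQ 10077 Q10077 (allL N10077 (tt N7805 F16799) (tt N11601 (iv F19496)) (tt N7800 F16800) (tt N12856 D12865) (tt N7779 (iv D10077)) (tt N7780 F16801))
theorem Q10079 : ∀ i, i < 10079 → P i := stepQ 10078 Q10078 (allL N10078 (tt N7804 F16802) (tt N11600 (iv F19494)) (tt N12857 D12866) (tt N7780 (iv D10078)) (tt N7784 F16803) (tt N12856 (iv F21726)))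
theorem Q10080 : ∀ i, i < 10080 → P i := stepQ 10079 Q10079 (allL N10079 (tt N12858 D12867) (tt N7781 (iv D10079)) (tt N12850 (iv F21704)) (tt N12859 D12868) (tt N12854 (iv F21708)) (tt N12860 D12869))
theorem Q10081 : ∀ i, i < 10081 → P i := stepQ 10080 Q10080 (allL N10080 (tt N11675 (iv F19641)) (tt N12859 (iv F21735)) (tt N11670 (iv F19631)) (tt N7781 (iv D10080)) (tt N12861 D12870) (tt N11669 F19628))
theorem Q10082 : ∀ i, i < 10082 → P i := stepQ 10081 Q10081 (allL N10081 (tt N11674 (iv F19638)) (tt N12860 (iv F21736)) (tt N7782 F16804) (tt N11669 (iv F19627)) (tt N12862 D12871) (tt N7781 (iv D10081)))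
theorem Q10083 : ∀ i, i < 10083 → P i := stepQ 10082 Q10082 (allL N10082 (tt N12839 (iv F21686)) (tt N12853 (iv F21706)) (tt N12862 (iv F21737)) (tt N12863 D12872) (tt N7782 (iv D10082)) (tt N12855 (iv F21724)))
theorem Q10084 : ∀ i, i < 10084 → P i := stepQ 10083 Q10083 (allL N10083 (tt N12840 (iv F21687)) (tt N11603 (iv F19498)) (tt N12864 D12873) (tt N7783 (iv D10083)) (tt N12863 (iv F21738)) (tt N7784 F16805))
theorem Q10085 : ∀ i, i < 10085 → P i := stepQ 10084 Q10084 (allL N10084 (tt N12841 (iv F21689)) (tt N10659 (iv F21124)) (tt N7784 (iv D10084)) (tt N10658 F21125) (tt N12857 (iv F21728)) (tt N12864 (iv F21740)))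
theorem Q10086 : ∀ i, i < 10086 → P i := stepQ 10085 Q10085 (allL N10085 (tt N12842 (iv F21691)) (tt N10769 (iv F22995)) (tt N7785 (iv D10085)) (tt N10768 (iv F22990)) (tt N11330 (iv F19012)) (tt N7786 F16806))
theorem Q10087 : ∀ i, i < 10087 → P i := stepQ 10086 Q10086 (allL N10086 (tt N12865 D12875) (tt N7786 (iv D10086)) (tt N7794 F16807) (tt N10770 (iv F22993)) (tt N7787 F16808) (tt N10769 (iv F22997)))
theorem Q10088 : ∀ i, i < 10088 → P i := stepQ 10087 Q10087 (allL N10087 (tt N12844 (iv F21694)) (tt N10770 (iv F22992)) (tt N12866 D12877) (tt N7786 (iv D10087)) (tt N12844 (iv F21695)) (tt N10768 (iv F22991)))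
theorem Q10089 : ∀ i, i < 10089 → P i := stepQ 10088 Q10088 (allL N10088 (tt N7787 (iv D10088)) (tt N12845 (iv F21696)) (tt N7795 F16809) (tt N12845 (iv F21697)) (tt N12865 (iv F21743)) (tt N11668 (iv F19624)))
theorem Q10090 : ∀ i, i < 10090 → P i := stepQ 10089 Q10089 (allL N10089 (tt N12867 D12878) (tt N7789 (iv D10089)) (tt N7791 F16810) (tt N12868 D12879) (tt N11604 (iv F19501)) (tt N12869 D12880))
theorem Q10091 : ∀ i, i < 10091 → P i := stepQ 10090 Q10090 (allL N10090 (tt N12319 (iv F20831)) (tt N12868 (iv F21746)) (tt N12870 D12881) (tt N7789 (iv D10090)) (tt N12871 D12882) (tt N12872 D12883))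
theorem Q10092 : ∀ i, i < 10092 → P i := stepQ 10091 Q10091 (allL N10091 (tt N12316 (iv F20827)) (tt N12869 (iv F21747)) (tt N7790 F16811) (tt N12872 (iv F21749)) (tt N10633 (iv F17796)) (tt N7789 (iv D10091)))
theorem Q10093 : ∀ i, i < 10093 → P i := stepQ 10092 Q10092 (allL N10092 (tt N7791 (iv D10092)) (tt N11644 (iv F19585)) (tt N12867 (iv F21745)) (tt N12873 D12884) (tt N11606 (iv F19508)) (tt N12874 D12885))
theorem Q10094 : ∀ i, i < 10094 → P i := stepQ 10093 Q10093 (allL N10093 (tt N12873 (iv F21763)) (tt N7792 F16812) (tt N12875 D12886) (tt N7791 (iv D10093)) (tt N11332 (iv F19015)) (tt N10498 (iv F17560)))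
theorem Q10095 : ∀ i, i < 10095 → P i := stepQ 10094 Q10094 (allL N10094 (tt N12874 (iv F21764)) (tt N7793 F16813) (tt N12869 (iv F21748)) (tt N10498 (iv F17558)) (tt N10636 (iv F17802)) (tt N7791 (iv D10094)))
theorem Q10096 : ∀ i, i < 10096 → P i := stepQ 10095 Q10095 (allL N10095 (tt N7794 (iv D10095)) (tt N11643 (iv F19583)) (tt N12865 (iv F21742)) (tt N11662 (iv F19613)) (tt N7795 F16814) (tt N11661 F19611))
theorem Q10097 : ∀ i, i < 10097 → P i := stepQ 10096 Q10096 (allL N10096 (tt N11757 (iv F19800)) (tt N11599 (iv F19492)) (tt N7797 F16815) (tt N12876 D12887) (tt N7796 (iv D10096)) (tt N12877 D12888))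
theorem Q10098 : ∀ i, i < 10098 → P i := stepQ 10097 Q10097 (allL N10097 (tt N11974 (iv F20177)) (tt N7799 F16816) (tt N12336 (iv F21782)) (tt N7797 (iv D10097)) (tt N7798 F16817) (tt N12062 (iv F20324)))
theorem Q10099 : ∀ i, i < 10099 → P i := stepQ 10098 Q10098 (allL N10098 (tt N11280 (iv F18910)) (tt N7800 F16818) (tt N12877 (iv F21765)) (tt N12062 (iv F20323)) (tt N11276 (iv F18903)) (tt N7797 (iv D10098)))
theorem Q10100 : ∀ i, i < 10100 → P i := stepQ 10099 Q10099 (allL N10099 (tt N11973 (iv F20174)) (tt N12339 (iv F21780)) (tt N7798 (iv D10099)) (tt N12878 D12891) (tt N12336 (iv F21783)) (tt N11686 (iv F19662)))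
theorem Q10101 : ∀ i, i < 10101 → P i := stepQ 10100 Q10100 (allL N10100 (tt N7806 F16819) (tt N12338 (iv F21778)) (tt N7799 (iv D10100)) (tt N12879 D12893) (tt N7801 F16820) (tt N12880 D12894))
theorem Q10102 : ∀ i, i < 10102 → P i := stepQ 10101 Q10101 (allL N10101 (tt N7807 F16821) (tt N12062 (iv F20322)) (tt N12880 (iv F21772)) (tt N7800 F16822) (tt N11688 (iv F19668)) (tt N7799 (iv D10101)))
theorem Q10103 : ∀ i, i < 10103 → P i := stepQ 10102 Q10102 (allL N10102 (tt N12881 D12895) (tt N7801 (iv D10102)) (tt N12339 (iv F21781)) (tt N7808 F16823) (tt N12338 (iv F21779)) (tt N11689 (iv F19670)))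
theorem Q10104 : ∀ i, i < 10104 → P i := stepQ 10103 Q10103 (allL N10103 (tt N7803 F16824) (tt N11596 (iv F19485)) (tt N11766 (iv F19819)) (tt N12882 D12896) (tt N7802 (iv D10103)) (tt N12883 D12897))
theorem Q10105 : ∀ i, i < 10105 → P i := stepQ 10104 Q10104 (allL N10104 (tt N12882 (iv F21811)) (tt N7804 F16825) (tt N12884 D12898) (tt N7803 (iv D10104)) (tt N12837 (iv F21685)) (tt N12885 D12899))
theorem Q10106 : ∀ i, i < 10106 → P i := stepQ 10105 Q10105 (allL N10105 (tt N12883 (iv F21812)) (tt N7805 F16826) (tt N11299 (iv F18953)) (tt N12885 (iv F21831)) (tt N11298 F18951) (tt N7803 (iv D10105)))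
theorem Q10107 : ∀ i, i < 10107 → P i := stepQ 10106 Q10106 (allL N10106 (tt N12857 (iv F21727)) (tt N9692 F21730) (tt N7804 (iv D10106)) (tt N9691 F21731) (tt N12841 (iv F21690)) (tt N12886 D12900))
theorem Q10108 : ∀ i, i < 10108 → P i := stepQ 10107 Q10107 (allL N10107 (tt N12856 (iv F21725)) (tt N12885 (iv F21829)) (tt N12886 (iv F21833)) (tt N7805 F16827) (tt N12887 D12901) (tt N7804 (iv D10107)))
theorem Q10109 : ∀ i, i < 10109 → P i := stepQ 10108 Q10108 (allL N10108 (tt N12888 D12902) (tt N7806 (iv D10108)) (tt N11981 (iv F20202)) (tt N12889 D12903) (tt N7808 F16828) (tt N12667 (iv F21419)))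
theorem Q10110 : ∀ i, i < 10110 → P i := stepQ 10109 Q10109 (allL N10109 (tt N12879 (iv F21769)) (tt N12889 (iv F21840)) (tt N12890 D12904) (tt N7806 (iv D10109)) (tt N12879 (iv F21770)) (tt N12891 D12905))
theorem Q10111 : ∀ i, i < 10111 → P i := stepQ 10110 Q10110 (allL N10110 (tt N12880 (iv F21771)) (tt N12667 (iv F21417)) (tt N7807 F16829) (tt N12891 (iv F21851)) (tt N11694 (iv F19678)) (tt N7806 (iv D10110)))
theorem Q10112 : ∀ i, i < 10112 → P i := stepQ 10111 Q10111 (allL N10111 (tt N7808 (iv D10111)) (tt N12881 (iv F21808)) (tt N11978 (iv F20194)) (tt N12881 (iv F21809)) (tt N12888 (iv F21836)) (tt N11695 (iv F19680)))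
theorem Q10113 : ∀ i, i < 10113 → P i := stepQ 10112 Q10112 (allL N10112 (tt N7810 F16830) (tt N7812 F16831) (tt N11921 (iv F20086)) (tt N10577 (iv F17704)) (tt N11936 (iv F20121)) (tt N7809 (iv D10112)))
theorem Q10114 : ∀ i, i < 10114 → P i := stepQ 10113 Q10113 (allL N10113 (tt N11937 (iv F20122)) (tt N12119 (iv F20448)) (tt N7811 (iv D10113)) (tt N12892 D12906) (tt N12814 (iv F21659)) (tt N11696 (iv F19682)))
theorem Q10115 : ∀ i, i < 10115 → P i := stepQ 10114 Q10114 (allL N10114 (tt N11910 (iv F20061)) (tt N7814 F16832) (tt N12893 D12907) (tt N7813 (iv D10114)) (tt N10539 (iv F17639)) (tt N12894 D12908))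
theorem Q10116 : ∀ i, i < 10116 → P i := stepQ 10115 Q10115 (allL N10115 (tt N11911 (iv F20062)) (tt N7815 F16833) (tt N7817 F16834) (tt N12894 (iv F21854)) (tt N11942 (iv F20134)) (tt N7813 (iv D10115)))
theorem Q10117 : ∀ i, i < 10117 → P i := stepQ 10116 Q10116 (allL N10116 (tt N10554 (iv F17666)) (tt N12895 D12909) (tt N7814 (iv D10116)) (tt N10580 (iv F17710)) (tt N10542 (iv F17643)) (tt N10579 (iv F17708)))
theorem Q10118 : ∀ i, i < 10118 → P i := stepQ 10117 Q10117 (allL N10117 (tt N10555 (iv F17668)) (tt N12894 (iv F21853)) (tt N10579 (iv F17707)) (tt N7815 F16835) (tt N12896 D12910) (tt N7814 (iv D10117)))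
theorem Q10119 : ∀ i, i < 10119 → P i := stepQ 10118 Q10118 (allL N10118 (tt N11912 (iv F20064)) (tt N12897 D12911) (tt N7816 (iv D10118)) (tt N12898 D12912) (tt N11909 (iv F20059)) (tt N12899 D12913))
theorem Q10120 : ∀ i, i < 10120 → P i := stepQ 10119 Q10119 (allL N10119 (tt N11913 (iv F20067)) (tt N7819 F16836) (tt N12899 (iv F21856)) (tt N7817 F16837) (tt N12327 (iv F20847)) (tt N7816 (iv D10119)))
theorem Q10121 : ∀ i, i < 10121 → P i := stepQ 10120 Q10120 (allL N10120 (tt N12900 D12914) (tt N7818 (iv D10120)) (tt N12897 (iv F21855)) (tt N12901 D12915) (tt N11915 (iv F20074)) (tt N12902 D12916))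
theorem Q10122 : ∀ i, i < 10122 → P i := stepQ 10121 Q10121 (allL N10121 (tt N11708 (iv F19704)) (tt N12901 (iv F21857)) (tt N9600 F16838) (tt N7818 (iv D10121)) (tt N12393 (iv F20932)) (tt N9599 F16839))
theorem Q10123 : ∀ i, i < 10123 → P i := stepQ 10122 Q10122 (allL N10122 (tt N11707 (iv F19700)) (tt N12902 (iv F21859)) (tt N7819 F16840) (tt N9599 F16841) (tt N12376 (iv F20904)) (tt N7818 (iv D10122)))
theorem Q10124 : ∀ i, i < 10124 → P i := stepQ 10123 Q10123 (allL N10123 (tt N12122 (iv F20452)) (tt N12903 D12917) (tt N7820 (iv D10123)) (tt N11906 (iv F20050)) (tt N11700 (iv F19691)) (tt N7821 F16842))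
theorem Q10125 : ∀ i, i < 10125 → P i := stepQ 10124 Q10124 (allL N10124 (tt N12904 D12918) (tt N7821 (iv D10124)) (tt N11945 (iv F20136)) (tt N12905 D12919) (tt N7822 F16843) (tt N12903 (iv F21861)))
theorem Q10126 : ∀ i, i < 10126 → P i := stepQ 10125 Q10125 (allL N10125 (tt N12115 (iv F20440)) (tt N12905 (iv F21863)) (tt N11907 (iv F20052)) (tt N7821 (iv D10125)) (tt N9801 F16844) (tt N11906 F20051))
theorem Q10127 : ∀ i, i < 10127 → P i := stepQ 10126 Q10126 (allL N10126 (tt N7822 (iv D10126)) (tt N12117 (iv F20445)) (tt N11948 (iv F20140)) (tt N12111 (iv F20434)) (tt N12904 (iv F21862)) (tt N11701 (iv F19693)))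
theorem Q10128 : ∀ i, i < 10128 → P i := stepQ 10127 Q10127 (allL N10127 (tt N7824 F16845) (tt N7834 F16846) (tt N10236 (iv F17109)) (tt N7823 (iv D10127)) (tt N12906 D12920) (tt N7964 F16847))
theorem Q10129 : ∀ i, i < 10129 → P i := stepQ 10128 Q10128 (allL N10128 (tt N12906 (iv F21865)) (tt N7826 F16848) (tt N10297 (iv F17223)) (tt N8077 F16849) (tt N7824 (iv D10128)) (tt N12907 D12921))
theorem Q10130 : ∀ i, i < 10130 → P i := stepQ 10129 Q10129 (allL N10129 (tt N7965 F16850) (tt N7827 F16851) (tt N7847 F16852) (tt N12908 D12922) (tt N7825 (iv D10129)) (tt N8079 F16853))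
theorem Q10131 : ∀ i, i < 10131 → P i := stepQ 10130 Q10130 (allL N10130 (tt N7839 F16854) (tt N12907 (iv F21868)) (tt N10147 (iv F16890)) (tt N8081 F16855) (tt N10146 (iv F16887)) (tt N7826 (iv D10130)))
theorem Q10132 : ∀ i, i < 10132 → P i := stepQ 10131 Q10131 (allL N10131 (tt N7841 F16856) (tt N12908 (iv F21871)) (tt N12909 D12923) (tt N7827 (iv D10131)) (tt N10145 (iv F16885)) (tt N8082 F16857))
theorem Q10133 : ∀ i, i < 10133 → P i := stepQ 10132 Q10132 (allL N10132 (tt N7829 F16858) (tt N8074 F16859) (tt N12910 D12924) (tt N7828 (iv D10132)) (tt N12911 D12925) (tt N12912 D12926))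
theorem Q10134 : ∀ i, i < 10134 → P i := stepQ 10133 Q10133 (allL N10133 (tt N7830 F16860) (tt N8075 F16861) (tt N7843 F16862) (tt N12912 (iv F21882)) (tt N7968 F16863) (tt N7828 (iv D10133)))
theorem Q10135 : ∀ i, i < 10135 → P i := stepQ 10134 Q10134 (allL N10134 (tt N12910 (iv F21876)) (tt N12913 D12927) (tt N7829 (iv D10134)) (tt N12914 D12928) (tt N12915 D12929) (tt N12913 F21884))
theorem Q10136 : ∀ i, i < 10136 → P i := stepQ 10135 Q10135 (allL N10135 (tt N12911 (iv F21877)) (tt N7832 F16864) (tt N12915 (iv F21885)) (tt N7836 F16865) (tt N7829 (iv D10135)) (tt N12916 D12930))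
theorem Q10137 : ∀ i, i < 10137 → P i := stepQ 10136 Q10136 (allL N10136 (tt N12912 (iv F21880)) (tt N7831 F16866) (tt N12913 (iv F21883)) (tt N7830 F16867) (tt N12917 D12931) (tt N7829 (iv D10136)))
theorem Q10138 : ∀ i, i < 10138 → P i := stepQ 10137 Q10137 (allL N10137 (tt N8080 F16868) (tt N12917 (iv F21888)) (tt N7832 F16869) (tt N12918 D12932) (tt N7831 (iv D10137)) (tt N12919 D12933))
theorem Q10139 : ∀ i, i < 10139 → P i := stepQ 10138 Q10138 (allL N10138 (tt N8081 F16870) (tt N12916 (iv F21886)) (tt N12919 (iv F21894)) (tt N7839 F16871) (tt N12919 (iv F21895)) (tt N7832 (iv D10138)))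
theorem Q10140 : ∀ i, i < 10140 → P i := stepQ 10139 Q10139 (allL N10139 (tt N8082 F16872) (tt N7975 F16873) (tt N12920 D12934) (tt N7833 (iv D10139)) (tt N12918 (iv F21892)) (tt N7841 F16874))
theorem Q10141 : ∀ i, i < 10141 → P i := stepQ 10140 Q10140 (allL N10140 (tt N7836 F16875) (tt N12906 (iv F21866)) (tt N7948 F16876) (tt N12911 (iv F21879)) (tt N7834 (iv D10140)) (tt N12921 D12935))
theorem Q10142 : ∀ i, i < 10142 → P i := stepQ 10141 Q10141 (allL N10141 (tt N10245 (iv F17126)) (tt N7835 (iv D10141)) (tt N7837 F16877) (tt N7944 F16878) (tt N12922 D12936) (tt N7970 F16879))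
theorem Q10143 : ∀ i, i < 10143 → P i := stepQ 10142 Q10142 (allL N10142 (tt N7948 F16880) (tt N12922 (iv F21902)) (tt N7836 F16881) (tt N12923 D12937) (tt N7835 (iv D10142)) (tt N12924 D12938))
theorem Q10144 : ∀ i, i < 10144 → P i := stepQ 10143 Q10143 (allL N10143 (tt N12921 (iv F21899)) (tt N7839 F16882) (tt N12924 (iv F21907)) (tt N12916 (iv F21887)) (tt N7973 F16883) (tt N7836 (iv D10143)))
theorem Q10145 : ∀ i, i < 10145 → P i := stepQ 10144 Q10144 (allL N10144 (tt N10288 (iv F17208)) (tt N7838 F16884) (tt N12922 (iv F21903)) (tt N12925 D12939) (tt N7837 (iv D10144)) (tt N12926 D12940))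
theorem Q10146 : ∀ i, i < 10146 → P i := stepQ 10145 Q10145 (allL N10145 (tt N10148 (iv F16892)) (tt N12925 (iv F21909)) (tt N12927 D12941) (tt N7838 (iv D10145)) (tt N10131 F16885) (tt N12928 D12942))
theorem Q10147 : ∀ i, i < 10147 → P i := stepQ 10146 Q10146 (allL N10146 (tt N10147 (iv F16888)) (tt N12926 (iv F21911)) (tt N7839 F16886) (tt N12928 (iv F21914)) (tt N10130 F16887) (tt N7838 (iv D10146)))
theorem Q10148 : ∀ i, i < 10148 → P i := stepQ 10147 Q10147 (allL N10147 (tt N10146 F16888) (tt N7973 F16889) (tt N10130 F16890) (tt N12929 D12943) (tt N7839 (iv D10147)) (tt N7840 F16891))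
theorem Q10149 : ∀ i, i < 10149 → P i := stepQ 10148 Q10148 (allL N10148 (tt N10145 F16892) (tt N7972 F16893) (tt N12930 D12944) (tt N7840 (iv D10148)) (tt N7841 F16894) (tt N12929 (iv F21917)))
theorem Q10150 : ∀ i, i < 10150 → P i := stepQ 10149 Q10149 (allL N10149 (tt N12909 (iv F21873)) (tt N12931 D12945) (tt N7841 (iv D10149)) (tt N12920 (iv F21897)) (tt N12930 (iv F21919)) (tt N12920 (iv F21898)))
theorem Q10151 : ∀ i, i < 10151 → P i := stepQ 10150 Q10150 (allL N10150 (tt N7844 F16895) (tt N12932 D12946) (tt N7842 (iv D10150)) (tt N12933 D12947) (tt N7969 F16896) (tt N12934 D12948))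
theorem Q10152 : ∀ i, i < 10152 → P i := stepQ 10151 Q10151 (allL N10151 (tt N7845 F16897) (tt N7882 F16898) (tt N12934 (iv F21925)) (tt N7843 F16899) (tt N9203 F16900) (tt N7842 (iv D10151)))
theorem Q10153 : ∀ i, i < 10153 → P i := stepQ 10152 Q10152 (allL N10152 (tt N12935 D12949) (tt N7844 (iv D10152)) (tt N7846 F16901) (tt N12936 D12950) (tt N7976 F16902) (tt N7877 (iv F16903)))
theorem Q10154 : ∀ i, i < 10154 → P i := stepQ 10153 Q10153 (allL N10153 (tt N12933 (iv F21923)) (tt N12936 (iv F21930)) (tt N12937 D12951) (tt N7844 (iv D10153)) (tt N12938 D12952) (tt N12939 D12953))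
theorem Q10155 : ∀ i, i < 10155 → P i := stepQ 10154 Q10154 (allL N10154 (tt N12934 (iv F21924)) (tt N7877 F16904) (tt N7845 F16905) (tt N12939 (iv F21934)) (tt N9206 F16906) (tt N7844 (iv D10154)))
theorem Q10156 : ∀ i, i < 10156 → P i := stepQ 10155 Q10155 (allL N10155 (tt N7846 (iv D10155)) (tt N7889 F16907) (tt N12935 (iv F21927)) (tt N7876 F16908) (tt N7978 F16909) (tt N7875 F16910))
theorem Q10157 : ∀ i, i < 10157 → P i := stepQ 10156 Q10156 (allL N10156 (tt N7847 (iv D10156)) (tt N7864 F16911) (tt N7965 F16912) (tt N9399 F16913) (tt N7848 F16914) (tt N8085 F16915))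
theorem Q10158 : ∀ i, i < 10158 → P i := stepQ 10157 Q10157 (allL N10157 (tt N7850 F16916) (tt N7863 F16917) (tt N10366 (iv F17323)) (tt N8084 F16918) (tt N7849 (iv D10157)) (tt N9398 F16919))
theorem Q10159 : ∀ i, i < 10159 → P i := stepQ 10158 Q10158 (allL N10158 (tt N10160 (iv F16926)) (tt N7865 F16920) (tt N9996 F16922) (tt N7851 (iv D10158)) (tt N12940 D12954) (tt N7855 F16921))
theorem Q10160 : ∀ i, i < 10160 → P i := stepQ 10159 Q10159 (allL N10159 (tt N10365 (iv F17320)) (tt N7866 F16923) (tt N7852 F16924) (tt N12941 D12955) (tt N7851 (iv D10159)) (tt N8227 F16925))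
theorem Q10161 : ∀ i, i < 10161 → P i := stepQ 10160 Q10160 (allL N10160 (tt N10158 F16926) (tt N9998 F16927) (tt N7855 (iv D10160)) (tt N8022 F16929) (tt N12942 D12956) (tt N9996 F16928))
theorem Q10162 : ∀ i, i < 10162 → P i := stepQ 10161 Q10161 (allL N10161 (tt N12758 (iv F21559)) (tt N12765 (iv F21576)) (tt N12942 (iv F21941)) (tt N8225 F16930) (tt N7855 (iv D10161)) (tt N12943 D12957))
theorem Q10163 : ∀ i, i < 10163 → P i := stepQ 10162 Q10162 (allL N10162 (tt N7859 F16931) (tt N12944 D12958) (tt N7857 (iv D10162)) (tt N12945 D12959) (tt N12946 D12960) (tt N8097 F16932))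
theorem Q10164 : ∀ i, i < 10164 → P i := stepQ 10163 Q10163 (allL N10163 (tt N7860 F16933) (tt N8084 F16934) (tt N12946 (iv F21950)) (tt N7863 F16935) (tt N7857 (iv D10163)) (tt N9245 F16936))
theorem Q10165 : ∀ i, i < 10165 → P i := stepQ 10164 Q10164 (allL N10164 (tt N7861 F16937) (tt N8085 F16938) (tt N7883 F16939) (tt N9208 F16940) (tt N7858 (iv D10164)) (tt N7864 F16941))
theorem Q10166 : ∀ i, i < 10166 → P i := stepQ 10165 Q10165 (allL N10165 (tt N12945 (iv F21946)) (tt N8102 F16942) (tt N12947 D12961) (tt N7859 (iv D10165)) (tt N12948 D12962) (tt N8098 F16943))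
theorem Q10167 : ∀ i, i < 10167 → P i := stepQ 10166 Q10166 (allL N10166 (tt N12946 (iv F21949)) (tt N8105 F16944) (tt N7860 F16945) (tt N12949 D12963) (tt N7859 (iv D10166)) (tt N9247 F16946))
theorem Q10168 : ∀ i, i < 10168 → P i := stepQ 10167 Q10167 (allL N10167 (tt N7866 F16947) (tt N12770 (iv F21591)) (tt N7863 F16948) (tt N12950 D12964) (tt N7862 (iv D10167)) (tt N12951 D12965))
theorem Q10169 : ∀ i, i < 10169 → P i := stepQ 10168 Q10168 (allL N10168 (tt N7867 F16949) (tt N9398 F16950) (tt N12951 (iv F21961)) (tt N9245 F16951) (tt N8229 F16952) (tt N7863 (iv D10168)))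
theorem Q10170 : ∀ i, i < 10170 → P i := stepQ 10169 Q10169 (allL N10169 (tt N7868 F16953) (tt N9399 F16954) (tt N12952 D12966) (tt N7864 (iv D10169)) (tt N8228 F16955) (tt N9208 F16956))
theorem Q10171 : ∀ i, i < 10171 → P i := stepQ 10170 Q10170 (allL N10170 (tt N7905 F16957) (tt N12940 (iv F21935)) (tt N7904 F16958) (tt N12953 D12967) (tt N7865 (iv D10170)) (tt N12954 D12968))
theorem Q10172 : ∀ i, i < 10172 → P i := stepQ 10171 Q10171 (allL N10171 (tt N12950 (iv F21958)) (tt N12941 (iv F21937)) (tt N12955 D12969) (tt N7866 (iv D10171)) (tt N12953 (iv F21969)) (tt N12956 D12970))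
theorem Q10173 : ∀ i, i < 10173 → P i := stepQ 10172 Q10172 (allL N10172 (tt N12951 (iv F21960)) (tt N8227 F16959) (tt N7867 F16960) (tt N12956 (iv F21973)) (tt N8223 F16961) (tt N7866 (iv D10172)))
theorem Q10174 : ∀ i, i < 10174 → P i := stepQ 10173 Q10173 (allL N10173 (tt N12952 (iv F21963)) (tt N9198 F16962) (tt N7868 (iv D10173)) (tt N12957 D12971) (tt N8230 F16963) (tt N9199 F16964))
theorem Q10175 : ∀ i, i < 10175 → P i := stepQ 10174 Q10174 (allL N10174 (tt N7870 F16965) (tt N8033 F16966) (tt N12958 D12972) (tt N7869 (iv D10174)) (tt N9319 F16967) (tt N12959 D12973))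
theorem Q10176 : ∀ i, i < 10176 → P i := stepQ 10175 Q10175 (allL N10175 (tt N7871 F16968) (tt N8034 F16969) (tt N7876 F16970) (tt N12959 (iv F21982)) (tt N8193 F16971) (tt N7869 (iv D10175)))
theorem Q10177 : ∀ i, i < 10177 → P i := stepQ 10176 Q10176 (allL N10176 (tt N12958 (iv F21978)) (tt N12960 D12974) (tt N7870 (iv D10176)) (tt N12961 D12975) (tt N12962 D12976) (tt N12960 F21984))
theorem Q10178 : ∀ i, i < 10178 → P i := stepQ 10177 Q10177 (allL N10177 (tt N9319 F16972) (tt N7873 F16973) (tt N12962 (iv F21986)) (tt N8029 F16974) (tt N7870 (iv D10177)) (tt N12963 D12977))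
theorem Q10179 : ∀ i, i < 10179 → P i := stepQ 10178 Q10178 (allL N10178 (tt N12959 (iv F21980)) (tt N7872 F16975) (tt N12960 (iv F21983)) (tt N7871 F16976) (tt N12964 D12978) (tt N7870 (iv D10178)))
theorem Q10180 : ∀ i, i < 10180 → P i := stepQ 10179 Q10179 (allL N10179 (tt N8193 F16977) (tt N7874 F16978) (tt N7878 F16979) (tt N12965 D12979) (tt N7871 (iv D10179)) (tt N8030 F16980))
theorem Q10181 : ∀ i, i < 10181 → P i := stepQ 10180 Q10180 (allL N10180 (tt N8038 F16981) (tt N12964 (iv F21990)) (tt N7873 F16982) (tt N12966 D12980) (tt N7872 (iv D10180)) (tt N12967 D12981))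
theorem Q10182 : ∀ i, i < 10182 → P i := stepQ 10181 Q10181 (allL N10181 (tt N8039 F16983) (tt N12963 (iv F21988)) (tt N12967 (iv F21998)) (tt N8031 F16984) (tt N12967 (iv F22000)) (tt N7873 (iv D10181)))
theorem Q10183 : ∀ i, i < 10183 → P i := stepQ 10182 Q10182 (allL N10182 (tt N8040 F16985) (tt N12965 (iv F21992)) (tt N12968 D12982) (tt N7874 (iv D10182)) (tt N12966 (iv F21995)) (tt N8032 F16986))
theorem Q10184 : ∀ i, i < 10184 → P i := stepQ 10183 Q10183 (allL N10183 (tt N7877 F16987) (tt N12969 D12983) (tt N7875 (iv D10183)) (tt N12970 D12984) (tt N9402 F16988) (tt N12935 (iv F21929)))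
theorem Q10185 : ∀ i, i < 10185 → P i := stepQ 10184 Q10184 (allL N10184 (tt N7878 F16989) (tt N8061 F16990) (tt N8193 F16991) (tt N12971 D12985) (tt N7876 (iv D10184)) (tt N8055 F16992))
theorem Q10186 : ∀ i, i < 10186 → P i := stepQ 10185 Q10185 (allL N10185 (tt N12970 (iv F22006)) (tt N12939 (iv F21933)) (tt N12972 D12986) (tt N7877 (iv D10185)) (tt N12973 D12987) (tt N12936 (iv F21931)))
theorem Q10187 : ∀ i, i < 10187 → P i := stepQ 10186 Q10186 (allL N10186 (tt N12971 (iv F22007)) (tt N7879 F16993) (tt N12974 D12988) (tt N7878 (iv D10186)) (tt N7979 F16994) (tt N8056 F16995))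
theorem Q10188 : ∀ i, i < 10188 → P i := stepQ 10187 Q10187 (allL N10187 (tt N12975 D12989) (tt N7880 (iv D10187)) (tt N12932 (iv F21921)) (tt N12976 D12990) (tt N12977 D12991) (tt N12978 D12992))
theorem Q10189 : ∀ i, i < 10189 → P i := stepQ 10188 Q10188 (allL N10188 (tt N7885 F16996) (tt N12976 (iv F22019)) (tt N8098 F16997) (tt N7880 (iv D10188)) (tt N12979 D12993) (tt N12947 (iv F21954)))
theorem Q10190 : ∀ i, i < 10190 → P i := stepQ 10189 Q10189 (allL N10189 (tt N7886 F16998) (tt N12977 (iv F22021)) (tt N7881 F16999) (tt N12980 D12994) (tt N7880 (iv D10189)) (tt N9154 (iv F17000)))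
theorem Q10191 : ∀ i, i < 10191 → P i := stepQ 10190 Q10190 (allL N10190 (tt N7887 F17001) (tt N12978 (iv F22025)) (tt N7882 F17002) (tt N12947 (iv F21953)) (tt N12981 D12995) (tt N7880 (iv D10190)))
theorem Q10192 : ∀ i, i < 10192 → P i := stepQ 10191 Q10191 (allL N10191 (tt N7888 F17003) (tt N9203 F17004) (tt N12981 (iv F22032)) (tt N9133 F17005) (tt N7882 (iv D10191)) (tt N9132 F17006))
theorem Q10193 : ∀ i, i < 10193 → P i := stepQ 10192 Q10192 (allL N10192 (tt N7884 (iv D10192)) (tt N12975 (iv F22015)) (tt N7889 F17007) (tt N8100 (iv F17009)) (tt N12982 D12996) (tt N8059 F17008))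
theorem Q10194 : ∀ i, i < 10194 → P i := stepQ 10193 Q10193 (allL N10193 (tt N8100 F17010) (tt N7885 F17011) (tt N8091 F17013) (tt N7884 (iv D10193)) (tt N12983 D12997) (tt N8062 F17012))
theorem Q10195 : ∀ i, i < 10195 → P i := stepQ 10194 Q10194 (allL N10194 (tt N12982 (iv F22034)) (tt N7886 F17014) (tt N7890 F17015) (tt N12984 D12998) (tt N7884 (iv D10194)) (tt N9161 (iv F17016)))
theorem Q10196 : ∀ i, i < 10196 → P i := stepQ 10195 Q10195 (allL N10195 (tt N8098 F17017) (tt N12985 D12999) (tt N7885 (iv D10195)) (tt N8097 F17018) (tt N12986 D13000) (tt N12945 (iv F21948)))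
theorem Q10197 : ∀ i, i < 10197 → P i := stepQ 10196 Q10196 (allL N10196 (tt N12979 (iv F22026)) (tt N12983 (iv F22038)) (tt N12986 (iv F22046)) (tt N12987 D13001) (tt N7885 (iv D10196)) (tt N12988 D13002))
theorem Q10198 : ∀ i, i < 10198 → P i := stepQ 10197 Q10197 (allL N10197 (tt N12947 (iv F21952)) (tt N8062 F17019) (tt N12945 (iv F21947)) (tt N7887 F17020) (tt N12989 D13003) (tt N7885 (iv D10197)))
theorem Q10199 : ∀ i, i < 10199 → P i := stepQ 10198 Q10198 (allL N10198 (tt N12980 (iv F22028)) (tt N12984 (iv F22040)) (tt N12990 D13004) (tt N7886 (iv D10198)) (tt N12987 (iv F22047)) (tt N9162 F17021))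
theorem Q10200 : ∀ i, i < 10200 → P i := stepQ 10199 Q10199 (allL N10199 (tt N12981 (iv F22031)) (tt N8063 F17022) (tt N7888 F17023) (tt N12991 D13005) (tt N7887 (iv D10199)) (tt N9134 F17024))
theorem Q10201 : ∀ i, i < 10201 → P i := stepQ 10200 Q10200 (allL N10200 (tt N7890 F17025) (tt N7978 F17026) (tt N12982 (iv F22035)) (tt N12992 D13006) (tt N7889 (iv D10200)) (tt N9163 (iv F17027)))
theorem Q10202 : ∀ i, i < 10202 → P i := stepQ 10201 Q10201 (allL N10201 (tt N12992 (iv F22054)) (tt N7891 F17028) (tt N12993 D13007) (tt N7890 (iv D10201)) (tt N8065 F17029) (tt N7952 F17030))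
theorem Q10203 : ∀ i, i < 10203 → P i := stepQ 10202 Q10202 (allL N10202 (tt N7893 F17031) (tt N10001 F17032) (tt N12994 D13008) (tt N7892 (iv D10202)) (tt N12778 (iv F21603)) (tt N9144 F17033))
theorem Q10204 : ∀ i, i < 10204 → P i := stepQ 10203 Q10203 (allL N10203 (tt N12994 (iv F22061)) (tt N12995 D13009) (tt N7893 (iv D10203)) (tt N12996 D13010) (tt N12780 (iv F21607)) (tt N9147 F17034))
theorem Q10205 : ∀ i, i < 10205 → P i := stepQ 10204 Q10204 (allL N10204 (tt N7896 F17035) (tt N10324 (iv F17257)) (tt N7899 F17036) (tt N12997 D13011) (tt N7895 (iv D10204)) (tt N9397 (iv F17037)))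
theorem Q10206 : ∀ i, i < 10206 → P i := stepQ 10205 Q10205 (allL N10205 (tt N12997 (iv F22069)) (tt N7897 F17038) (tt N12998 D13012) (tt N7896 (iv D10205)) (tt N10320 (iv F17247)) (tt N9400 F17039))
theorem Q10207 : ∀ i, i < 10207 → P i := stepQ 10206 Q10206 (allL N10206 (tt N10331 (iv F17267)) (tt N12999 D13013) (tt N7897 (iv D10206)) (tt N13000 D13014) (tt N10322 (iv F17250)) (tt N13001 D13015))
theorem Q10208 : ∀ i, i < 10208 → P i := stepQ 10207 Q10207 (allL N10207 (tt N10332 (iv F17271)) (tt N9400 F17040) (tt N13001 (iv F22079)) (tt N7898 F17041) (tt N13002 D13016) (tt N7897 (iv D10207)))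
theorem Q10209 : ∀ i, i < 10209 → P i := stepQ 10208 Q10208 (allL N10208 (tt N7902 F17042) (tt N13003 D13017) (tt N7900 (iv D10208)) (tt N13001 (iv F22080)) (tt N7902 F17043) (tt N13000 (iv F22077)))
theorem Q10210 : ∀ i, i < 10210 → P i := stepQ 10209 Q10209 (allL N10209 (tt N7903 F17044) (tt N8150 F17045) (tt N13000 (iv F22076)) (tt N7901 F17046) (tt N13004 D13018) (tt N7900 (iv D10209)))
theorem Q10211 : ∀ i, i < 10211 → P i := stepQ 10210 Q10210 (allL N10210 (tt N13005 D13019) (tt N7902 (iv D10210)) (tt N8151 F17047) (tt N13006 D13020) (tt N13003 (iv F22083)) (tt N13007 D13021))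
theorem Q10212 : ∀ i, i < 10212 → P i := stepQ 10211 Q10211 (allL N10211 (tt N13001 (iv F22078)) (tt N13006 (iv F22089)) (tt N10332 (iv F17272)) (tt N7902 (iv D10211)) (tt N13008 D13022) (tt N10331 F17270))
theorem Q10213 : ∀ i, i < 10213 → P i := stepQ 10212 Q10212 (allL N10212 (tt N13000 (iv F22075)) (tt N13007 (iv F22090)) (tt N7903 F17048) (tt N10331 (iv F17269)) (tt N13009 D13023) (tt N7902 (iv D10212)))
theorem Q10214 : ∀ i, i < 10214 → P i := stepQ 10213 Q10213 (allL N10213 (tt N13004 (iv F22084)) (tt N8154 F17049) (tt N13009 (iv F22092)) (tt N8015 F17050) (tt N7903 (iv D10213)) (tt N13004 (iv F22087)))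
theorem Q10215 : ∀ i, i < 10215 → P i := stepQ 10214 Q10214 (allL N10214 (tt N7906 F17051) (tt N9999 F17052) (tt N12954 (iv F21971)) (tt N9143 F17053) (tt N12779 (iv F21606)) (tt N7904 (iv D10214)))
theorem Q10216 : ∀ i, i < 10216 → P i := stepQ 10215 Q10215 (allL N10215 (tt N12953 (iv F21968)) (tt N12774 (iv F21596)) (tt N13010 D13024) (tt N7905 (iv D10215)) (tt N12950 (iv F21959)) (tt N13011 D13025))
theorem Q10217 : ∀ i, i < 10217 → P i := stepQ 10216 Q10216 (allL N10216 (tt N12954 (iv F21970)) (tt N12773 (iv F21593)) (tt N7906 F17054) (tt N13011 (iv F22093)) (tt N12767 (iv F21584)) (tt N7905 (iv D10216)))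
theorem Q10218 : ∀ i, i < 10218 → P i := stepQ 10217 Q10217 (allL N10217 (tt N13012 D13026) (tt N7907 (iv D10217)) (tt N12995 (iv F22064)) (tt N9148 F17055) (tt N12505 (iv F21143)) (tt N9148 F17056))
theorem Q10219 : ∀ i, i < 10219 → P i := stepQ 10218 Q10218 (allL N10218 (tt N7909 F17057) (tt N7947 F17058) (tt N13013 D13027) (tt N7908 (iv D10218)) (tt N8000 F17059) (tt N8159 F17060))
theorem Q10220 : ∀ i, i < 10220 → P i := stepQ 10219 Q10219 (allL N10219 (tt N13013 (iv F22097)) (tt N13014 D13028) (tt N7909 (iv D10219)) (tt N13015 D13029) (tt N8002 F17061) (tt N8164 F17062))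
theorem Q10221 : ∀ i, i < 10221 → P i := stepQ 10220 Q10220 (allL N10220 (tt N13016 D13030) (tt N7910 (iv D10220)) (tt N13014 (iv F22101)) (tt N7963 F17063) (tt N8004 F17064) (tt N7979 F17065))
theorem Q10222 : ∀ i, i < 10222 → P i := stepQ 10221 Q10221 (allL N10221 (tt N7980 F17066) (tt N7911 (iv D10221)) (tt N7944 F17067) (tt N8025 (iv F17069)) (tt N13017 D13031) (tt N7986 F17068))
theorem Q10223 : ∀ i, i < 10223 → P i := stepQ 10222 Q10222 (allL N10222 (tt N7913 F17070) (tt N8025 F17071) (tt N10006 F17072) (tt N7911 (iv D10222)) (tt N13018 D13032) (tt N7990 F17073))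
theorem Q10224 : ∀ i, i < 10224 → P i := stepQ 10223 Q10223 (allL N10223 (tt N7914 F17074) (tt N13017 (iv F22112)) (tt N7912 F17075) (tt N13019 D13033) (tt N7911 (iv D10223)) (tt N13020 D13034))
theorem Q10225 : ∀ i, i < 10225 → P i := stepQ 10224 Q10224 (allL N10224 (tt N7915 F17076) (tt N7946 F17077) (tt N13020 (iv F22119)) (tt N8158 F17078) (tt N8001 F17079) (tt N7912 (iv D10224)))
theorem Q10226 : ∀ i, i < 10226 → P i := stepQ 10225 Q10225 (allL N10225 (tt N10006 F17080) (tt N8022 F17081) (tt N7913 (iv D10225)) (tt N9998 F17082) (tt N13021 D13035) (tt N7992 F17083))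
theorem Q10227 : ∀ i, i < 10227 → P i := stepQ 10226 Q10226 (allL N10226 (tt N13018 (iv F22114)) (tt N7983 F17084) (tt N13021 (iv F22123)) (tt N13022 D13036) (tt N7913 (iv D10226)) (tt N13023 D13037))
theorem Q10228 : ∀ i, i < 10228 → P i := stepQ 10227 Q10227 (allL N10227 (tt N13019 (iv F22117)) (tt N7984 F17085) (tt N13024 D13038) (tt N7914 (iv D10227)) (tt N13022 (iv F22125)) (tt N13025 D13039))
theorem Q10229 : ∀ i, i < 10229 → P i := stepQ 10228 Q10228 (allL N10228 (tt N13020 (iv F22118)) (tt N7985 F17086) (tt N7915 F17087) (tt N13025 (iv F22129)) (tt N7995 F17088) (tt N7914 (iv D10228)))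
theorem Q10230 : ∀ i, i < 10230 → P i := stepQ 10229 Q10229 (allL N10229 (tt N7944 F17089) (tt N7916 (iv D10229)) (tt N7980 F17090) (tt N10245 (iv F17128)) (tt N13026 D13040) (tt N7921 F17091))
theorem Q10231 : ∀ i, i < 10231 → P i := stepQ 10230 Q10230 (allL N10230 (tt N7919 F17092) (tt N13026 (iv F22131)) (tt N7917 F17093) (tt N13027 D13041) (tt N7916 (iv D10230)) (tt N13028 D13042))
theorem Q10232 : ∀ i, i < 10232 → P i := stepQ 10231 Q10231 (allL N10231 (tt N7920 F17094) (tt N7982 F17095) (tt N13028 (iv F22135)) (tt N8220 F17096) (tt N7924 F17097) (tt N7917 (iv D10231)))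
theorem Q10233 : ∀ i, i < 10233 → P i := stepQ 10232 Q10232 (allL N10232 (tt N10246 (iv F17130)) (tt N7948 F17098) (tt N10238 (iv F17113)) (tt N13029 D13043) (tt N7918 (iv D10232)) (tt N13030 D13044))
theorem Q10234 : ∀ i, i < 10234 → P i := stepQ 10233 Q10233 (allL N10233 (tt N13027 (iv F22133)) (tt N7949 F17099) (tt N13031 D13045) (tt N7919 (iv D10233)) (tt N13029 (iv F22138)) (tt N13032 D13046))
theorem Q10235 : ∀ i, i < 10235 → P i := stepQ 10234 Q10234 (allL N10234 (tt N13028 (iv F22134)) (tt N7950 F17100) (tt N7920 F17101) (tt N13032 (iv F22142)) (tt N7931 F17102) (tt N7919 (iv D10234)))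
theorem Q10236 : ∀ i, i < 10236 → P i := stepQ 10235 Q10235 (allL N10235 (tt N7921 (iv D10235)) (tt N7925 F17103) (tt N7986 F17104) (tt N7970 (iv F17106)) (tt N13033 D13047) (tt N7944 F17105))
theorem Q10237 : ∀ i, i < 10237 → P i := stepQ 10236 Q10236 (allL N10236 (tt N7970 F17107) (tt N7922 F17108) (tt N10127 F17109) (tt N7921 (iv D10236)) (tt N13034 D13048) (tt N10245 (iv F17129)))
theorem Q10238 : ∀ i, i < 10238 → P i := stepQ 10237 Q10237 (allL N10237 (tt N13033 (iv F22143)) (tt N7923 F17110) (tt N7987 F17111) (tt N13035 D13049) (tt N7921 (iv D10237)) (tt N13036 D13050))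
theorem Q10239 : ∀ i, i < 10239 → P i := stepQ 10238 Q10238 (allL N10238 (tt N7929 F17112) (tt N13034 (iv F22147)) (tt N10232 F17113) (tt N13037 D13051) (tt N7922 (iv D10238)) (tt N13038 D13052))
theorem Q10240 : ∀ i, i < 10240 → P i := stepQ 10239 Q10239 (allL N10239 (tt N7930 F17114) (tt N13035 (iv F22149)) (tt N11581 (iv F19453)) (tt N7923 (iv D10239)) (tt N13037 (iv F22153)) (tt N11579 F19451))
theorem Q10241 : ∀ i, i < 10241 → P i := stepQ 10240 Q10240 (allL N10240 (tt N7931 F17115) (tt N13036 (iv F22150)) (tt N7924 F17116) (tt N11579 (iv F19450)) (tt N13028 (iv F22136)) (tt N7923 (iv D10240)))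
theorem Q10242 : ∀ i, i < 10242 → P i := stepQ 10241 Q10241 (allL N10241 (tt N7927 F17117) (tt N13033 (iv F22144)) (tt N7932 F17118) (tt N13039 D13053) (tt N7925 (iv D10241)) (tt N13040 D13054))
theorem Q10243 : ∀ i, i < 10243 → P i := stepQ 10242 Q10242 (allL N10242 (tt N7971 F17119) (tt N7929 F17120) (tt N7966 F17121) (tt N13041 D13055) (tt N7926 (iv D10242)) (tt N13042 D13056))
theorem Q10244 : ∀ i, i < 10244 → P i := stepQ 10243 Q10243 (allL N10243 (tt N13039 (iv F22156)) (tt N7930 F17122) (tt N13043 D13057) (tt N7927 (iv D10243)) (tt N13041 (iv F22163)) (tt N13044 D13058))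
theorem Q10245 : ∀ i, i < 10245 → P i := stepQ 10244 Q10244 (allL N10244 (tt N13040 (iv F22158)) (tt N7931 F17123) (tt N7934 F17124) (tt N13044 (iv F22169)) (tt N7950 F17125) (tt N7927 (iv D10244)))
theorem Q10246 : ∀ i, i < 10246 → P i := stepQ 10245 Q10245 (allL N10245 (tt N10141 F17126) (tt N7928 (iv D10245)) (tt N7964 F17127) (tt N10229 F17128) (tt N13045 D13059) (tt N10236 F17129))
theorem Q10247 : ∀ i, i < 10247 → P i := stepQ 10246 Q10246 (allL N10246 (tt N10232 F17130) (tt N13045 (iv F22171)) (tt N7929 F17131) (tt N13046 D13060) (tt N7928 (iv D10246)) (tt N13047 D13061))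
theorem Q10248 : ∀ i, i < 10248 → P i := stepQ 10247 Q10247 (allL N10247 (tt N13037 (iv F22152)) (tt N13041 (iv F22162)) (tt N13048 D13062) (tt N7929 (iv D10247)) (tt N7930 F17132) (tt N13049 D13063))
theorem Q10249 : ∀ i, i < 10249 → P i := stepQ 10248 Q10248 (allL N10248 (tt N13038 (iv F22154)) (tt N13042 (iv F22165)) (tt N13047 (iv F22176)) (tt N13049 (iv F22179)) (tt N13030 (iv F22140)) (tt N7929 (iv D10248)))
theorem Q10250 : ∀ i, i < 10250 → P i := stepQ 10249 Q10249 (allL N10249 (tt N11581 (iv F19452)) (tt N13050 D13064) (tt N7930 (iv D10249)) (tt N11574 (iv F19440)) (tt N13048 (iv F22178)) (tt N11573 F19437))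
theorem Q10251 : ∀ i, i < 10251 → P i := stepQ 10250 Q10250 (allL N10250 (tt N11579 (iv F19449)) (tt N13044 (iv F22168)) (tt N11573 (iv F19436)) (tt N7931 F17133) (tt N13051 D13065) (tt N7930 (iv D10250)))
theorem Q10252 : ∀ i, i < 10252 → P i := stepQ 10251 Q10251 (allL N10251 (tt N7933 F17134) (tt N8000 F17135) (tt N13052 D13066) (tt N7932 (iv D10251)) (tt N7947 F17136) (tt N13053 D13067))
theorem Q10253 : ∀ i, i < 10253 → P i := stepQ 10252 Q10252 (allL N10252 (tt N7934 F17137) (tt N8001 F17138) (tt N13040 (iv F22159)) (tt N13053 (iv F22184)) (tt N7946 F17139) (tt N7932 (iv D10252)))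
theorem Q10254 : ∀ i, i < 10254 → P i := stepQ 10253 Q10253 (allL N10253 (tt N13052 (iv F22180)) (tt N13054 D13068) (tt N7933 (iv D10253)) (tt N13055 D13069) (tt N7951 F17140) (tt N13056 D13070))
theorem Q10255 : ∀ i, i < 10255 → P i := stepQ 10254 Q10254 (allL N10254 (tt N13053 (iv F22182)) (tt N7936 F17141) (tt N13056 (iv F22190)) (tt N7934 F17142) (tt N8073 F17143) (tt N7933 (iv D10254)))
theorem Q10256 : ∀ i, i < 10256 → P i := stepQ 10255 Q10255 (allL N10255 (tt N13057 D13071) (tt N7935 (iv D10255)) (tt N13054 (iv F22186)) (tt N8021 F17144) (tt N7952 F17145) (tt N8020 F17146))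
theorem Q10257 : ∀ i, i < 10257 → P i := stepQ 10256 Q10256 (allL N10256 (tt N8167 F17147) (tt N7937 (iv D10256)) (tt N8155 F17148) (tt N9180 F17149) (tt N13058 D13072) (tt N8165 F17150))
theorem Q10258 : ∀ i, i < 10258 → P i := stepQ 10257 Q10257 (allL N10257 (tt N7941 F17151) (tt N13058 (iv F22197)) (tt N7938 F17152) (tt N13059 D13073) (tt N7937 (iv D10257)) (tt N13060 D13074))
theorem Q10259 : ∀ i, i < 10259 → P i := stepQ 10258 Q10258 (allL N10258 (tt N7942 F17153) (tt N8158 F17154) (tt N13060 (iv F22202)) (tt N7946 F17155) (tt N8188 F17156) (tt N7938 (iv D10258)))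
theorem Q10260 : ∀ i, i < 10260 → P i := stepQ 10259 Q10259 (allL N10259 (tt N7943 F17157) (tt N8159 F17158) (tt N13061 D13075) (tt N7939 (iv D10259)) (tt N8187 F17159) (tt N7947 F17160))
theorem Q10261 : ∀ i, i < 10261 → P i := stepQ 10260 Q10260 (allL N10260 (tt N9181 F17161) (tt N8180 F17162) (tt N9177 F17163) (tt N13062 D13076) (tt N7940 (iv D10260)) (tt N13063 D13077))
theorem Q10262 : ∀ i, i < 10262 → P i := stepQ 10261 Q10261 (allL N10261 (tt N13059 (iv F22199)) (tt N8184 F17164) (tt N13064 D13078) (tt N7941 (iv D10261)) (tt N13062 (iv F22210)) (tt N13065 D13079))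
theorem Q10263 : ∀ i, i < 10263 → P i := stepQ 10262 Q10262 (allL N10262 (tt N13060 (iv F22201)) (tt N8183 F17165) (tt N7942 F17166) (tt N13065 (iv F22216)) (tt N8177 F17167) (tt N7941 (iv D10262)))
theorem Q10264 : ∀ i, i < 10264 → P i := stepQ 10263 Q10263 (allL N10263 (tt N13061 (iv F22204)) (tt N12993 (iv F22058)) (tt N7943 (iv D10263)) (tt N13066 D13080) (tt N8189 F17168) (tt N7951 F17169))
theorem Q10265 : ∀ i, i < 10265 → P i := stepQ 10264 Q10264 (allL N10264 (tt N13026 (iv F22130)) (tt N7945 F17170) (tt N13017 (iv F22113)) (tt N13067 D13081) (tt N7944 (iv D10264)) (tt N13068 D13082))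
theorem Q10266 : ∀ i, i < 10266 → P i := stepQ 10265 Q10265 (allL N10265 (tt N7949 F17171) (tt N13067 (iv F22220)) (tt N13069 D13083) (tt N7945 (iv D10265)) (tt N12923 (iv F21905)) (tt N13070 D13084))
theorem Q10267 : ∀ i, i < 10267 → P i := stepQ 10266 Q10266 (allL N10266 (tt N7950 F17172) (tt N13068 (iv F22221)) (tt N7946 F17173) (tt N13070 (iv F22224)) (tt N13040 (iv F22160)) (tt N7945 (iv D10266)))
theorem Q10268 : ∀ i, i < 10268 → P i := stepQ 10267 Q10267 (allL N10267 (tt N7951 F17174) (tt N13071 D13085) (tt N7947 (iv D10267)) (tt N13072 D13086) (tt N13052 (iv F22181)) (tt N13061 (iv F22206)))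
theorem Q10269 : ∀ i, i < 10269 → P i := stepQ 10268 Q10268 (allL N10268 (tt N12923 (iv F21904)) (tt N13029 (iv F22137)) (tt N13073 D13087) (tt N7948 (iv D10268)) (tt N7949 F17175) (tt N13074 D13088))
theorem Q10270 : ∀ i, i < 10270 → P i := stepQ 10269 Q10269 (allL N10269 (tt N12924 (iv F21906)) (tt N13030 (iv F22139)) (tt N12921 (iv F21900)) (tt N13074 (iv F22229)) (tt N13042 (iv F22167)) (tt N7948 (iv D10269)))
theorem Q10271 : ∀ i, i < 10271 → P i := stepQ 10270 Q10270 (allL N10270 (tt N13069 (iv F22222)) (tt N13075 D13089) (tt N7949 (iv D10270)) (tt N13076 D13090) (tt N13073 (iv F22228)) (tt N13077 D13091))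
theorem Q10272 : ∀ i, i < 10272 → P i := stepQ 10271 Q10271 (allL N10271 (tt N13070 (iv F22223)) (tt N13032 (iv F22141)) (tt N13077 (iv F22230)) (tt N7950 F17176) (tt N13078 D13092) (tt N7949 (iv D10271)))
theorem Q10273 : ∀ i, i < 10273 → P i := stepQ 10272 Q10272 (allL N10272 (tt N13079 D13093) (tt N7951 (iv D10272)) (tt N7952 F17177) (tt N13080 D13094) (tt N13054 (iv F22187)) (tt N12993 (iv F22060)))
theorem Q10274 : ∀ i, i < 10274 → P i := stepQ 10273 Q10273 (allL N10273 (tt N13072 (iv F22225)) (tt N13080 (iv F22232)) (tt N13081 D13095) (tt N7951 (iv D10273)) (tt N13082 D13096) (tt N13066 (iv F22218)))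
theorem Q10275 : ∀ i, i < 10275 → P i := stepQ 10274 Q10274 (allL N10274 (tt N7952 (iv D10274)) (tt N13016 (iv F22107)) (tt N13079 (iv F22231)) (tt N9163 F17178) (tt N13057 (iv F22194)) (tt N12992 (iv F22057)))
theorem Q10276 : ∀ i, i < 10276 → P i := stepQ 10275 Q10275 (allL N10275 (tt N9169 F17179) (tt N7955 F17180) (tt N9150 F17181) (tt N13083 D13097) (tt N7953 (iv D10275)) (tt N13084 D13098))
theorem Q10277 : ∀ i, i < 10277 → P i := stepQ 10276 Q10276 (allL N10276 (tt N7959 F17182) (tt N9284 F17183) (tt N8175 F17184) (tt N13085 D13099) (tt N7954 (iv D10276)) (tt N13086 D13100))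
theorem Q10278 : ∀ i, i < 10278 → P i := stepQ 10277 Q10277 (allL N10277 (tt N7960 F17185) (tt N13083 (iv F22237)) (tt N13087 D13101) (tt N7955 (iv D10277)) (tt N13085 (iv F22245)) (tt N13088 D13102))
theorem Q10279 : ∀ i, i < 10279 → P i := stepQ 10278 Q10278 (allL N10278 (tt N7961 F17186) (tt N13084 (iv F22240)) (tt N7956 F17187) (tt N13088 (iv F22255)) (tt N9179 F17188) (tt N7955 (iv D10278)))
theorem Q10280 : ∀ i, i < 10280 → P i := stepQ 10279 Q10279 (allL N10279 (tt N7962 F17189) (tt N13089 D13103) (tt N7957 (iv D10279)) (tt N13081 (iv F22234)) (tt N9202 F17190) (tt N7969 F17191))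
theorem Q10281 : ∀ i, i < 10281 → P i := stepQ 10280 Q10280 (allL N10280 (tt N8175 F17192) (tt N9274 F17193) (tt N7959 F17194) (tt N13090 D13104) (tt N7958 (iv D10280)) (tt N13091 D13105))
theorem Q10282 : ∀ i, i < 10282 → P i := stepQ 10281 Q10281 (allL N10281 (tt N13085 (iv F22243)) (tt N9191 F17195) (tt N13092 D13106) (tt N7959 (iv D10281)) (tt N7960 F17196) (tt N13093 D13107))
theorem Q10283 : ∀ i, i < 10283 → P i := stepQ 10282 Q10282 (allL N10282 (tt N13086 (iv F22246)) (tt N9190 F17197) (tt N13091 (iv F22264)) (tt N13093 (iv F22268)) (tt N9183 F17198) (tt N7959 (iv D10282)))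
theorem Q10284 : ∀ i, i < 10284 → P i := stepQ 10283 Q10283 (allL N10283 (tt N13087 (iv F22250)) (tt N13094 D13108) (tt N7960 (iv D10283)) (tt N13095 D13109) (tt N13092 (iv F22266)) (tt N13096 D13110))
theorem Q10285 : ∀ i, i < 10285 → P i := stepQ 10284 Q10284 (allL N10284 (tt N13088 (iv F22253)) (tt N9196 F17199) (tt N13096 (iv F22274)) (tt N7961 F17200) (tt N13097 D13111) (tt N7960 (iv D10284)))
theorem Q10286 : ∀ i, i < 10286 → P i := stepQ 10285 Q10285 (allL N10285 (tt N13098 D13112) (tt N7962 (iv D10285)) (tt N7963 F17201) (tt N13099 D13113) (tt N9204 F17202) (tt N7976 F17203))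
theorem Q10287 : ∀ i, i < 10287 → P i := stepQ 10286 Q10286 (allL N10286 (tt N13081 (iv F22233)) (tt N13099 (iv F22281)) (tt N13072 (iv F22226)) (tt N7962 (iv D10286)) (tt N13100 D13114) (tt N7977 F17204))
theorem Q10288 : ∀ i, i < 10288 → P i := stepQ 10287 Q10287 (allL N10287 (tt N7963 (iv D10287)) (tt N9163 F17205) (tt N13098 (iv F22278)) (tt N13016 (iv F22108)) (tt N9207 F17206) (tt N7978 F17207))
theorem Q10289 : ∀ i, i < 10289 → P i := stepQ 10288 Q10288 (allL N10288 (tt N10144 F17208) (tt N7966 F17209) (tt N13045 (iv F22172)) (tt N13101 D13115) (tt N7964 (iv D10288)) (tt N13102 D13116))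
theorem Q10290 : ∀ i, i < 10290 → P i := stepQ 10289 Q10289 (allL N10289 (tt N12908 (iv F21870)) (tt N7967 F17210) (tt N13103 D13117) (tt N7965 (iv D10289)) (tt N13101 (iv F22286)) (tt N13104 D13118))
theorem Q10291 : ∀ i, i < 10291 → P i := stepQ 10290 Q10290 (allL N10290 (tt N8079 F17211) (tt N7968 F17212) (tt N8085 F17213) (tt N13104 (iv F22291)) (tt N8075 F17214) (tt N7965 (iv D10290)))
theorem Q10292 : ∀ i, i < 10292 → P i := stepQ 10291 Q10291 (allL N10291 (tt N7972 F17215) (tt N13101 (iv F22285)) (tt N13105 D13119) (tt N7966 (iv D10291)) (tt N7967 F17216) (tt N13106 D13120))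
theorem Q10293 : ∀ i, i < 10293 → P i := stepQ 10292 Q10292 (allL N10292 (tt N7973 F17217) (tt N13102 (iv F22288)) (tt N13042 (iv F22166)) (tt N13106 (iv F22295)) (tt N12921 (iv F21901)) (tt N7966 (iv D10292)))
theorem Q10294 : ∀ i, i < 10294 → P i := stepQ 10293 Q10293 (allL N10293 (tt N7974 F17218) (tt N13107 D13121) (tt N7967 (iv D10293)) (tt N13096 (iv F22275)) (tt N13105 (iv F22293)) (tt N13095 (iv F22272)))
theorem Q10295 : ∀ i, i < 10295 → P i := stepQ 10294 Q10294 (allL N10294 (tt N7975 F17219) (tt N13104 (iv F22290)) (tt N13095 (iv F22271)) (tt N7968 F17220) (tt N13108 D13122) (tt N7967 (iv D10294)))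
theorem Q10296 : ∀ i, i < 10296 → P i := stepQ 10295 Q10295 (allL N10295 (tt N13109 D13123) (tt N7969 (iv D10295)) (tt N12977 (iv F22022)) (tt N13110 D13124) (tt N12932 (iv F21922)) (tt N13089 (iv F22258)))
theorem Q10297 : ∀ i, i < 10297 → P i := stepQ 10296 Q10296 (allL N10296 (tt N7977 F17221) (tt N13110 (iv F22298)) (tt N13066 (iv F22219)) (tt N7969 (iv D10296)) (tt N13111 D13125) (tt N13081 (iv F22235)))
theorem Q10298 : ∀ i, i < 10298 → P i := stepQ 10297 Q10297 (allL N10297 (tt N13034 (iv F22146)) (tt N7971 F17222) (tt N10128 F17223) (tt N13112 D13126) (tt N7970 (iv D10297)) (tt N13113 D13127))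
theorem Q10299 : ∀ i, i < 10299 → P i := stepQ 10298 Q10298 (allL N10298 (tt N13041 (iv F22161)) (tt N13112 (iv F22300)) (tt N13114 D13128) (tt N7971 (iv D10298)) (tt N13039 (iv F22157)) (tt N13115 D13129))
theorem Q10300 : ∀ i, i < 10300 → P i := stepQ 10299 Q10299 (allL N10299 (tt N13042 (iv F22164)) (tt N13113 (iv F22301)) (tt N7973 F17224) (tt N13115 (iv F22303)) (tt N12924 (iv F21908)) (tt N7971 (iv D10299)))
theorem Q10301 : ∀ i, i < 10301 → P i := stepQ 10300 Q10300 (allL N10300 (tt N13105 (iv F22292)) (tt N13116 D13130) (tt N7972 (iv D10300)) (tt N13117 D13131) (tt N7974 F17225) (tt N13118 D13132))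
theorem Q10302 : ∀ i, i < 10302 → P i := stepQ 10301 Q10301 (allL N10301 (tt N13106 (iv F22294)) (tt N12929 (iv F21916)) (tt N13118 (iv F22305)) (tt N7973 F17226) (tt N13119 D13133) (tt N7972 (iv D10301)))
theorem Q10303 : ∀ i, i < 10303 → P i := stepQ 10302 Q10302 (allL N10302 (tt N13120 D13134) (tt N7974 (iv D10302)) (tt N12931 (iv F21920)) (tt N13121 D13135) (tt N13116 (iv F22304)) (tt N13122 D13136))
theorem Q10304 : ∀ i, i < 10304 → P i := stepQ 10303 Q10303 (allL N10303 (tt N13096 (iv F22273)) (tt N13121 (iv F22307)) (tt N13088 (iv F22254)) (tt N7974 (iv D10303)) (tt N13123 D13137) (tt N13087 F22252))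
theorem Q10305 : ∀ i, i < 10305 → P i := stepQ 10304 Q10304 (allL N10304 (tt N13095 (iv F22270)) (tt N13122 (iv F22308)) (tt N7975 F17227) (tt N13087 (iv F22251)) (tt N13124 D13138) (tt N7974 (iv D10304)))
theorem Q10306 : ∀ i, i < 10306 → P i := stepQ 10305 Q10305 (allL N10305 (tt N13108 (iv F22296)) (tt N12918 (iv F21891)) (tt N13124 (iv F22309)) (tt N12917 (iv F21889)) (tt N7975 (iv D10305)) (tt N13119 (iv F22306)))
theorem Q10307 : ∀ i, i < 10307 → P i := stepQ 10306 Q10306 (allL N10306 (tt N7976 (iv D10306)) (tt N13109 (iv F22297)) (tt N7978 F17228) (tt N13125 D13139) (tt N12935 (iv F21928)) (tt N13098 (iv F22280)))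
theorem Q10308 : ∀ i, i < 10308 → P i := stepQ 10307 Q10307 (allL N10307 (tt N13125 (iv F22310)) (tt N7977 F17229) (tt N13126 D13140) (tt N7976 (iv D10307)) (tt N13127 D13141) (tt N13099 (iv F22282)))
theorem Q10309 : ∀ i, i < 10309 → P i := stepQ 10308 Q10308 (allL N10308 (tt N13066 (iv F22217)) (tt N13128 D13142) (tt N7977 (iv D10308)) (tt N13061 (iv F22207)) (tt N13129 D13143) (tt N13072 (iv F22227)))
theorem Q10310 : ∀ i, i < 10310 → P i := stepQ 10309 Q10309 (allL N10309 (tt N13111 (iv F22299)) (tt N13127 (iv F22311)) (tt N13129 (iv F22312)) (tt N12938 (iv F21932)) (tt N7977 (iv D10309)) (tt N13130 D13144))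
theorem Q10311 : ∀ i, i < 10311 → P i := stepQ 10310 Q10310 (allL N10310 (tt N7979 F17230) (tt N12992 (iv F22055)) (tt N13131 D13145) (tt N7978 (iv D10310)) (tt N12971 (iv F22009)) (tt N13016 (iv F22110)))
theorem Q10312 : ∀ i, i < 10312 → P i := stepQ 10311 Q10311 (allL N10311 (tt N13131 (iv F22313)) (tt N8164 F17231) (tt N7979 (iv D10311)) (tt N13132 D13146) (tt N12974 (iv F22013)) (tt N13014 (iv F22103)))
theorem Q10313 : ∀ i, i < 10313 → P i := stepQ 10312 Q10312 (allL N10312 (tt N13017 (iv F22111)) (tt N7981 F17232) (tt N13026 (iv F22132)) (tt N13133 D13147) (tt N7980 (iv D10312)) (tt N13134 D13148))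
theorem Q10314 : ∀ i, i < 10314 → P i := stepQ 10313 Q10313 (allL N10313 (tt N7984 F17233) (tt N13133 (iv F22315)) (tt N13135 D13149) (tt N7981 (iv D10313)) (tt N8027 F17234) (tt N13136 D13150))
theorem Q10315 : ∀ i, i < 10315 → P i := stepQ 10314 Q10314 (allL N10314 (tt N7985 F17235) (tt N13134 (iv F22317)) (tt N7982 F17236) (tt N13136 (iv F22322)) (tt N7989 F17237) (tt N7981 (iv D10314)))
theorem Q10316 : ∀ i, i < 10316 → P i := stepQ 10315 Q10315 (allL N10315 (tt N8027 F17238) (tt N13022 (iv F22124)) (tt N13137 D13151) (tt N7983 (iv D10315)) (tt N7984 F17239) (tt N13138 D13152))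
theorem Q10317 : ∀ i, i < 10317 → P i := stepQ 10316 Q10316 (allL N10316 (tt N8028 F17240) (tt N13023 (iv F22126)) (tt N8024 F17241) (tt N13138 (iv F22326)) (tt N7997 F17242) (tt N7983 (iv D10316)))
theorem Q10318 : ∀ i, i < 10318 → P i := stepQ 10317 Q10317 (allL N10317 (tt N13135 (iv F22319)) (tt N13139 D13153) (tt N7984 (iv D10317)) (tt N13140 D13154) (tt N13137 (iv F22324)) (tt N13141 D13155))
theorem Q10319 : ∀ i, i < 10319 → P i := stepQ 10318 Q10318 (allL N10318 (tt N13136 (iv F22321)) (tt N13025 (iv F22128)) (tt N13141 (iv F22329)) (tt N7985 F17243) (tt N13142 D13156) (tt N7984 (iv D10318)))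
theorem Q10320 : ∀ i, i < 10320 → P i := stepQ 10319 Q10319 (allL N10319 (tt N7987 F17244) (tt N7991 F17245) (tt N13033 (iv F22145)) (tt N13143 D13157) (tt N7986 (iv D10319)) (tt N13144 D13158))
theorem Q10321 : ∀ i, i < 10321 → P i := stepQ 10320 Q10320 (allL N10320 (tt N13143 (iv F22332)) (tt N7988 F17246) (tt N13145 D13159) (tt N7987 (iv D10320)) (tt N10205 F17247) (tt N13146 D13160))
theorem Q10322 : ∀ i, i < 10322 → P i := stepQ 10321 Q10321 (allL N10321 (tt N13144 (iv F22335)) (tt N7989 F17248) (tt N13036 (iv F22151)) (tt N13146 (iv F22339)) (tt N13134 (iv F22318)) (tt N7987 (iv D10321)))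
theorem Q10323 : ∀ i, i < 10323 → P i := stepQ 10322 Q10322 (allL N10322 (tt N7998 F17249) (tt N13147 D13161) (tt N7988 (iv D10322)) (tt N8014 F17251) (tt N10206 F17250) (tt N8013 (iv F17252)))
theorem Q10324 : ∀ i, i < 10324 → P i := stepQ 10323 Q10323 (allL N10323 (tt N7999 F17253) (tt N13146 (iv F22338)) (tt N8013 F17254) (tt N7989 F17255) (tt N13148 D13162) (tt N7988 (iv D10323)))
theorem Q10325 : ∀ i, i < 10325 → P i := stepQ 10324 Q10324 (allL N10324 (tt N7993 F17256) (tt N10204 F17257) (tt N10005 F17258) (tt N13149 D13163) (tt N7990 (iv D10324)) (tt N12045 (iv F20303)))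
theorem Q10326 : ∀ i, i < 10326 → P i := stepQ 10325 Q10325 (allL N10325 (tt N7994 F17259) (tt N13143 (iv F22333)) (tt N13150 D13164) (tt N7991 (iv D10325)) (tt N13149 (iv F22348)) (tt N13151 D13165))
theorem Q10327 : ∀ i, i < 10327 → P i := stepQ 10326 Q10326 (allL N10326 (tt N7995 F17260) (tt N13144 (iv F22336)) (tt N8001 F17261) (tt N13151 (iv F22351)) (tt N13020 (iv F22120)) (tt N7991 (iv D10326)))
theorem Q10328 : ∀ i, i < 10328 → P i := stepQ 10327 Q10327 (allL N10327 (tt N13149 (iv F22346)) (tt N7996 F17262) (tt N13152 D13166) (tt N7993 (iv D10327)) (tt N7994 F17263) (tt N13153 D13167))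
theorem Q10329 : ∀ i, i < 10329 → P i := stepQ 10328 Q10328 (allL N10328 (tt N12045 (iv F20302)) (tt N7997 F17264) (tt N10600 (iv F17738)) (tt N13153 (iv F22354)) (tt N13023 (iv F22127)) (tt N7993 (iv D10328)))
theorem Q10330 : ∀ i, i < 10330 → P i := stepQ 10329 Q10329 (allL N10329 (tt N13150 (iv F22349)) (tt N13154 D13168) (tt N7994 (iv D10329)) (tt N13155 D13169) (tt N13152 (iv F22352)) (tt N13156 D13170))
theorem Q10331 : ∀ i, i < 10331 → P i := stepQ 10330 Q10330 (allL N10330 (tt N13151 (iv F22350)) (tt N7999 F17265) (tt N13156 (iv F22356)) (tt N7995 F17266) (tt N13157 D13171) (tt N7994 (iv D10330)))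
theorem Q10332 : ∀ i, i < 10332 → P i := stepQ 10331 Q10331 (allL N10331 (tt N10206 F17267) (tt N13158 D13172) (tt N7996 (iv D10331)) (tt N10212 F17269) (tt N7998 F17268) (tt N10211 (iv F17270)))
theorem Q10333 : ∀ i, i < 10333 → P i := stepQ 10332 Q10332 (allL N10332 (tt N10207 F17271) (tt N13153 (iv F22353)) (tt N10211 F17272) (tt N7997 F17273) (tt N13159 D13173) (tt N7996 (iv D10332)))
theorem Q10334 : ∀ i, i < 10334 → P i := stepQ 10333 Q10333 (allL N10333 (tt N13160 D13174) (tt N7998 (iv D10333)) (tt N13154 (iv F22355)) (tt N13161 D13175) (tt N13158 (iv F22359)) (tt N13162 D13176))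
theorem Q10335 : ∀ i, i < 10335 → P i := stepQ 10334 Q10334 (allL N10334 (tt N8014 F17274) (tt N13161 (iv F22364)) (tt N8009 F17275) (tt N7998 (iv D10334)) (tt N13163 D13177) (tt N8008 F17276))
theorem Q10336 : ∀ i, i < 10336 → P i := stepQ 10335 Q10335 (allL N10335 (tt N8013 F17277) (tt N13162 (iv F22366)) (tt N7999 F17278) (tt N8008 F17279) (tt N13164 D13178) (tt N7998 (iv D10335)))
theorem Q10337 : ∀ i, i < 10337 → P i := stepQ 10336 Q10336 (allL N10336 (tt N13148 (iv F22343)) (tt N13157 (iv F22357)) (tt N13164 (iv F22373)) (tt N13142 (iv F22331)) (tt N7999 (iv D10336)) (tt N13159 (iv F22363)))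
theorem Q10338 : ∀ i, i < 10338 → P i := stepQ 10337 Q10337 (allL N10337 (tt N8002 F17280) (tt N13165 D13179) (tt N8000 (iv D10337)) (tt N13166 D13180) (tt N13013 (iv F22098)) (tt N13167 D13181))
theorem Q10339 : ∀ i, i < 10339 → P i := stepQ 10338 Q10338 (allL N10338 (tt N8003 F17281) (tt N13053 (iv F22183)) (tt N13167 (iv F22378)) (tt N8001 F17282) (tt N13168 D13182) (tt N8000 (iv D10338)))
theorem Q10340 : ∀ i, i < 10340 → P i := stepQ 10339 Q10339 (allL N10339 (tt N13169 D13183) (tt N8002 (iv D10339)) (tt N8004 F17283) (tt N13170 D13184) (tt N13014 (iv F22102)) (tt N8124 (iv F17284)))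
theorem Q10341 : ∀ i, i < 10341 → P i := stepQ 10340 Q10340 (allL N10340 (tt N13166 (iv F22376)) (tt N13170 (iv F22385)) (tt N13171 D13185) (tt N8002 (iv D10340)) (tt N13172 D13186) (tt N13173 D13187))
theorem Q10342 : ∀ i, i < 10342 → P i := stepQ 10341 Q10341 (allL N10341 (tt N13167 (iv F22377)) (tt N8124 F17285) (tt N8003 F17286) (tt N13173 (iv F22388)) (tt N13174 D13188) (tt N8002 (iv D10341)))
theorem Q10343 : ∀ i, i < 10343 → P i := stepQ 10342 Q10342 (allL N10342 (tt N13168 (iv F22379)) (tt N8005 F17287) (tt N13174 (iv F22390)) (tt N8110 F17288) (tt N8003 (iv D10342)) (tt N8121 F17289))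
theorem Q10344 : ∀ i, i < 10344 → P i := stepQ 10343 Q10343 (allL N10343 (tt N8004 (iv D10343)) (tt N13057 (iv F22192)) (tt N13169 (iv F22383)) (tt N8123 F17290) (tt N13016 (iv F22109)) (tt N8122 F17291))
theorem Q10345 : ∀ i, i < 10345 → P i := stepQ 10344 Q10344 (allL N10344 (tt N8828 F17292) (tt N13175 D13189) (tt N8006 (iv D10344)) (tt N13176 D13190) (tt N8010 F17293) (tt N13177 D13191))
theorem Q10346 : ∀ i, i < 10346 → P i := stepQ 10345 Q10345 (allL N10345 (tt N8829 F17294) (tt N8009 F17295) (tt N13177 (iv F22398)) (tt N8007 F17296) (tt N13178 D13192) (tt N8006 (iv D10345)))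
theorem Q10347 : ∀ i, i < 10347 → P i := stepQ 10346 Q10346 (allL N10346 (tt N13179 D13193) (tt N8008 (iv D10346)) (tt N13175 (iv F22392)) (tt N13162 (iv F22367)) (tt N8012 F17297) (tt N13161 F22365))
theorem Q10348 : ∀ i, i < 10348 → P i := stepQ 10347 Q10347 (allL N10347 (tt N8015 F17298) (tt N13178 (iv F22401)) (tt N13163 (iv F22369)) (tt N13004 (iv F22086)) (tt N8009 (iv D10347)) (tt N8015 F17299))
theorem Q10349 : ∀ i, i < 10349 → P i := stepQ 10348 Q10348 (allL N10348 (tt N13180 D13194) (tt N8010 (iv D10348)) (tt N8012 F17300) (tt N13181 D13195) (tt N13175 (iv F22393)) (tt N13182 D13196))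
theorem Q10350 : ∀ i, i < 10350 → P i := stepQ 10349 Q10349 (allL N10349 (tt N11565 (iv F19409)) (tt N13181 (iv F22407)) (tt N11570 (iv F19427)) (tt N8010 (iv D10349)) (tt N13183 D13197) (tt N11568 F19421))
theorem Q10351 : ∀ i, i < 10351 → P i := stepQ 10350 Q10350 (allL N10350 (tt N11566 (iv F19412)) (tt N13182 (iv F22408)) (tt N8011 F17301) (tt N11568 (iv F19420)) (tt N13184 D13198) (tt N8010 (iv D10350)))
theorem Q10352 : ∀ i, i < 10352 → P i := stepQ 10351 Q10351 (allL N10351 (tt N11567 (iv F19415)) (tt N8015 F17302) (tt N13184 (iv F22410)) (tt N8154 F17303) (tt N8011 (iv D10351)) (tt N13178 (iv F22403)))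
theorem Q10353 : ∀ i, i < 10353 → P i := stepQ 10352 Q10352 (allL N10352 (tt N8012 (iv D10352)) (tt N13179 (iv F22404)) (tt N13180 (iv F22406)) (tt N13185 D13199) (tt N13179 (iv F22405)) (tt N13186 D13200))
theorem Q10354 : ∀ i, i < 10354 → P i := stepQ 10353 Q10353 (allL N10353 (tt N13185 (iv F22411)) (tt N8013 F17304) (tt N13187 D13201) (tt N8012 (iv D10353)) (tt N13188 D13202) (tt N13147 (iv F22342)))
theorem Q10355 : ∀ i, i < 10355 → P i := stepQ 10354 Q10354 (allL N10354 (tt N13186 (iv F22412)) (tt N8014 F17305) (tt N13182 (iv F22409)) (tt N13147 (iv F22340)) (tt N13189 D13203) (tt N8012 (iv D10354)))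
theorem Q10356 : ∀ i, i < 10356 → P i := stepQ 10355 Q10355 (allL N10355 (tt N13164 (iv F22372)) (tt N13188 (iv F22413)) (tt N13148 (iv F22344)) (tt N13164 (iv F22374)) (tt N8013 (iv D10355)) (tt N13190 D13204))
theorem Q10357 : ∀ i, i < 10357 → P i := stepQ 10356 Q10356 (allL N10356 (tt N13163 (iv F22368)) (tt N13189 (iv F22414)) (tt N8015 F17306) (tt N13191 D13205) (tt N8014 (iv D10356)) (tt N13163 (iv F22371)))
theorem Q10358 : ∀ i, i < 10358 → P i := stepQ 10357 Q10357 (allL N10357 (tt N12748 (iv F21543)) (tt N8017 F17307) (tt N13192 D13206) (tt N8016 (iv D10357)) (tt N13193 D13207) (tt N13194 D13208))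
theorem Q10359 : ∀ i, i < 10359 → P i := stepQ 10358 Q10358 (allL N10358 (tt N12749 (iv F21546)) (tt N8018 F17308) (tt N8021 F17309) (tt N13194 (iv F22427)) (tt N8071 F17310) (tt N8016 (iv D10358)))
theorem Q10360 : ∀ i, i < 10360 → P i := stepQ 10359 Q10359 (allL N10359 (tt N11568 (iv F19419)) (tt N13195 D13209) (tt N8017 (iv D10359)) (tt N11566 (iv F19414)) (tt N13196 D13210) (tt N11565 F19411))
theorem Q10361 : ∀ i, i < 10361 → P i := stepQ 10360 Q10360 (allL N10360 (tt N11569 (iv F19422)) (tt N13193 (iv F22424)) (tt N13196 (iv F22428)) (tt N8058 F17311) (tt N8017 (iv D10360)) (tt N13197 D13211))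
theorem Q10362 : ∀ i, i < 10362 → P i := stepQ 10361 Q10361 (allL N10361 (tt N11570 (iv F19425)) (tt N13194 (iv F22426)) (tt N11565 (iv F19410)) (tt N8018 F17312) (tt N13198 D13212) (tt N8017 (iv D10361)))
theorem Q10363 : ∀ i, i < 10363 → P i := stepQ 10362 Q10362 (allL N10362 (tt N8020 F17313) (tt N8122 F17314) (tt N13199 D13213) (tt N8019 (iv D10362)) (tt N8068 F17315) (tt N13057 (iv F22195)))
theorem Q10364 : ∀ i, i < 10364 → P i := stepQ 10363 Q10363 (allL N10363 (tt N8021 F17316) (tt N8123 F17317) (tt N12749 (iv F21548)) (tt N13057 (iv F22193)) (tt N8067 F17318) (tt N8019 (iv D10363)))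
theorem Q10365 : ∀ i, i < 10365 → P i := stepQ 10364 Q10364 (allL N10364 (tt N13199 (iv F22431)) (tt N13056 (iv F22189)) (tt N8020 (iv D10364)) (tt N13200 D13214) (tt N8072 F17319) (tt N13054 F22188))
theorem Q10366 : ∀ i, i < 10366 → P i := stepQ 10365 Q10365 (allL N10365 (tt N10159 F17320) (tt N13021 (iv F22122)) (tt N8023 F17321) (tt N13201 D13215) (tt N8022 (iv D10365)) (tt N10602 (iv F17742)))
theorem Q10367 : ∀ i, i < 10367 → P i := stepQ 10366 Q10366 (allL N10366 (tt N8026 F17322) (tt N13018 (iv F22115)) (tt N10157 F17323) (tt N13202 D13216) (tt N8025 (iv D10366)) (tt N12047 (iv F20307)))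
theorem Q10368 : ∀ i, i < 10368 → P i := stepQ 10367 Q10367 (allL N10367 (tt N13202 (iv F22434)) (tt N8027 F17324) (tt N13203 D13217) (tt N8026 (iv D10367)) (tt N13133 (iv F22316)) (tt N12050 (iv F20309)))
theorem Q10369 : ∀ i, i < 10369 → P i := stepQ 10368 Q10368 (allL N10368 (tt N13137 (iv F22323)) (tt N13204 D13218) (tt N8027 (iv D10368)) (tt N13205 D13219) (tt N13135 (iv F22320)) (tt N13206 D13220))
theorem Q10370 : ∀ i, i < 10370 → P i := stepQ 10369 Q10369 (allL N10369 (tt N13138 (iv F22325)) (tt N12050 (iv F20308)) (tt N13206 (iv F22439)) (tt N8028 F17325) (tt N13207 D13221) (tt N8027 (iv D10369)))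
theorem Q10371 : ∀ i, i < 10371 → P i := stepQ 10370 Q10370 (allL N10370 (tt N9320 F17326) (tt N8031 F17327) (tt N8917 F17328) (tt N12963 (iv F21989)) (tt N8645 F17329) (tt N8029 (iv D10370)))
theorem Q10372 : ∀ i, i < 10372 → P i := stepQ 10371 Q10371 (allL N10371 (tt N8192 F17330) (tt N8032 F17331) (tt N13208 D13222) (tt N8030 (iv D10371)) (tt N8644 F17332) (tt N12965 (iv F21993)))
theorem Q10373 : ∀ i, i < 10373 → P i := stepQ 10372 Q10372 (allL N10372 (tt N8047 F17333) (tt N13209 D13223) (tt N8032 (iv D10372)) (tt N12968 (iv F22002)) (tt N8646 F17334) (tt N12968 (iv F22003)))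
theorem Q10374 : ∀ i, i < 10374 → P i := stepQ 10373 Q10373 (allL N10373 (tt N8035 F17335) (tt N13210 D13224) (tt N8033 (iv D10373)) (tt N13211 D13225) (tt N9321 F17336) (tt N13212 D13226))
theorem Q10375 : ∀ i, i < 10375 → P i := stepQ 10374 Q10374 (allL N10374 (tt N8037 F17337) (tt N12959 (iv F21981)) (tt N13212 (iv F22450)) (tt N8034 F17338) (tt N13213 D13227) (tt N8033 (iv D10374)))
theorem Q10376 : ∀ i, i < 10376 → P i := stepQ 10375 Q10375 (allL N10375 (tt N13212 (iv F22449)) (tt N8035 (iv D10375)) (tt N8037 F17339) (tt N13214 D13228) (tt N13215 D13229) (tt N8035 (iv F17340)))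
theorem Q10377 : ∀ i, i < 10377 → P i := stepQ 10376 Q10376 (allL N10376 (tt N13211 (iv F22446)) (tt N13214 (iv F22456)) (tt N13216 D13230) (tt N8035 (iv D10376)) (tt N13217 D13231) (tt N13214 (iv F22458)))
theorem Q10378 : ∀ i, i < 10378 → P i := stepQ 10377 Q10377 (allL N10377 (tt N9321 F17341) (tt N13215 (iv F22460)) (tt N8036 F17342) (tt N13218 D13232) (tt N8035 (iv D10377)) (tt N13219 D13233))
theorem Q10379 : ∀ i, i < 10379 → P i := stepQ 10378 Q10378 (allL N10378 (tt N9322 F17343) (tt N8039 F17344) (tt N13219 (iv F22470)) (tt N8041 F17345) (tt N13220 D13234) (tt N8036 (iv D10378)))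
theorem Q10380 : ∀ i, i < 10380 → P i := stepQ 10379 Q10379 (allL N10379 (tt N13213 (iv F22452)) (tt N8038 F17346) (tt N13215 (iv F22461)) (tt N8206 F17347) (tt N8037 (iv D10379)) (tt N13220 (iv F22475)))
theorem Q10381 : ∀ i, i < 10381 → P i := stepQ 10380 Q10380 (allL N10380 (tt N12966 (iv F21994)) (tt N8206 F17348) (tt N13221 D13235) (tt N8038 (iv D10380)) (tt N8040 F17349) (tt N13222 D13236))
theorem Q10382 : ∀ i, i < 10382 → P i := stepQ 10381 Q10381 (allL N10381 (tt N12967 (iv F21997)) (tt N13220 (iv F22473)) (tt N8039 F17350) (tt N13222 (iv F22482)) (tt N8039 F17351) (tt N8038 (iv D10381)))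
theorem Q10383 : ∀ i, i < 10383 → P i := stepQ 10382 Q10382 (allL N10382 (tt N12968 (iv F22001)) (tt N13223 D13237) (tt N8040 (iv D10382)) (tt N8047 F17353) (tt N13221 (iv F22476)) (tt N8047 F17352))
theorem Q10384 : ∀ i, i < 10384 → P i := stepQ 10383 Q10383 (allL N10383 (tt N8905 F17354) (tt N8043 F17355) (tt N13224 D13238) (tt N8042 (iv D10383)) (tt N8632 F17356) (tt N13225 D13239))
theorem Q10385 : ∀ i, i < 10385 → P i := stepQ 10384 Q10384 (allL N10384 (tt N8906 F17357) (tt N8044 F17358) (tt N9314 F17359) (tt N13225 (iv F22491)) (tt N8631 F17360) (tt N8042 (iv D10384)))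
theorem Q10386 : ∀ i, i < 10386 → P i := stepQ 10385 Q10385 (allL N10385 (tt N8649 F17361) (tt N13226 D13240) (tt N8043 (iv D10385)) (tt N13227 D13241) (tt N8633 F17362) (tt N13228 D13242))
theorem Q10387 : ∀ i, i < 10387 → P i := stepQ 10386 Q10386 (allL N10386 (tt N8648 F17363) (tt N13225 (iv F22490)) (tt N13228 (iv F22497)) (tt N8044 F17364) (tt N11201 (iv F18779)) (tt N8043 (iv D10386)))
theorem Q10388 : ∀ i, i < 10388 → P i := stepQ 10387 Q10387 (allL N10387 (tt N8647 F17365) (tt N8202 F17366) (tt N13229 D13243) (tt N8045 (iv D10387)) (tt N13222 (iv F22483)) (tt N8046 F17367))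
theorem Q10389 : ∀ i, i < 10389 → P i := stepQ 10388 Q10388 (allL N10388 (tt N8646 F17368) (tt N13230 D13244) (tt N8046 (iv D10388)) (tt N13231 D13245) (tt N8047 F17369) (tt N13229 (iv F22502)))
theorem Q10390 : ∀ i, i < 10390 → P i := stepQ 10389 Q10389 (allL N10389 (tt N13232 D13246) (tt N8047 (iv D10389)) (tt N8203 F17370) (tt N13223 (iv F22485)) (tt N13230 (iv F22504)) (tt N13223 (iv F22486)))
theorem Q10391 : ∀ i, i < 10391 → P i := stepQ 10390 Q10390 (allL N10390 (tt N13233 D13247) (tt N8048 (iv D10390)) (tt N8090 F17371) (tt N13234 D13248) (tt N8198 F17372) (tt N13235 D13249))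
theorem Q10392 : ∀ i, i < 10392 → P i := stepQ 10391 Q10391 (allL N10391 (tt N8051 F17373) (tt N13234 (iv F22514)) (tt N13214 (iv F22457)) (tt N8048 (iv D10391)) (tt N8051 F17374) (tt N13216 (iv F22464)))
theorem Q10393 : ∀ i, i < 10393 → P i := stepQ 10392 Q10392 (allL N10392 (tt N8052 F17375) (tt N13235 (iv F22517)) (tt N8049 F17376) (tt N13216 (iv F22463)) (tt N13236 D13250) (tt N8048 (iv D10392)))
theorem Q10394 : ∀ i, i < 10394 → P i := stepQ 10393 Q10393 (allL N10393 (tt N8053 F17377) (tt N8095 F17378) (tt N13236 (iv F22520)) (tt N8171 F17379) (tt N8049 (iv D10393)) (tt N8172 F17380))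
theorem Q10395 : ∀ i, i < 10395 → P i := stepQ 10394 Q10394 (allL N10394 (tt N8050 (iv D10394)) (tt N13233 (iv F22510)) (tt N8054 F17381) (tt N13237 D13251) (tt N8207 F17382) (tt N8083 F17383))
theorem Q10396 : ∀ i, i < 10396 → P i := stepQ 10395 Q10395 (allL N10395 (tt N13237 (iv F22522)) (tt N8051 F17384) (tt N13238 D13252) (tt N8050 (iv D10395)) (tt N13234 (iv F22515)) (tt N8086 F17385))
theorem Q10397 : ∀ i, i < 10397 → P i := stepQ 10396 Q10396 (allL N10396 (tt N13214 (iv F22455)) (tt N13217 (iv F22465)) (tt N8051 (iv D10396)) (tt N13212 (iv F22451)) (tt N13214 F22459) (tt N13211 F22448))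
theorem Q10398 : ∀ i, i < 10398 → P i := stepQ 10397 Q10397 (allL N10397 (tt N13216 (iv F22462)) (tt N8086 F17386) (tt N13211 (iv F22447)) (tt N8052 F17387) (tt N13239 D13253) (tt N8051 (iv D10397)))
theorem Q10399 : ∀ i, i < 10399 → P i := stepQ 10398 Q10398 (allL N10398 (tt N13236 (iv F22519)) (tt N8087 F17388) (tt N8053 F17389) (tt N13240 D13254) (tt N8052 (iv D10398)) (tt N8185 F17390))
theorem Q10400 : ∀ i, i < 10400 → P i := stepQ 10399 Q10399 (allL N10399 (tt N8056 F17391) (tt N8068 F17392) (tt N13241 D13255) (tt N8055 (iv D10399)) (tt N8122 F17393) (tt N12971 (iv F22010)))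
theorem Q10401 : ∀ i, i < 10401 → P i := stepQ 10400 Q10400 (allL N10400 (tt N13241 (iv F22531)) (tt N13174 (iv F22389)) (tt N8056 (iv D10400)) (tt N13242 D13256) (tt N8124 F17394) (tt N12974 (iv F22014)))
theorem Q10402 : ∀ i, i < 10402 → P i := stepQ 10401 Q10401 (allL N10401 (tt N8114 F17395) (tt N8058 F17396) (tt N8111 F17397) (tt N13193 (iv F22425)) (tt N8057 (iv D10401)) (tt N13243 D13257))
theorem Q10403 : ∀ i, i < 10403 → P i := stepQ 10402 Q10402 (allL N10402 (tt N11571 (iv F19429)) (tt N13243 (iv F22534)) (tt N9405 F17398) (tt N13197 (iv F22429)) (tt N9366 F17399) (tt N8058 (iv D10402)))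
theorem Q10404 : ∀ i, i < 10404 → P i := stepQ 10403 Q10403 (allL N10403 (tt N12978 (iv F22024)) (tt N8059 (iv D10403)) (tt N12969 (iv F22004)) (tt N13244 D13258) (tt N13245 D13259) (tt N12975 F22017))
theorem Q10405 : ∀ i, i < 10405 → P i := stepQ 10404 Q10404 (allL N10404 (tt N8062 F17400) (tt N13244 (iv F22537)) (tt N8102 F17401) (tt N8059 (iv D10404)) (tt N13246 D13260) (tt N8100 F17402))
theorem Q10406 : ∀ i, i < 10406 → P i := stepQ 10405 Q10405 (allL N10405 (tt N8063 F17403) (tt N13245 (iv F22539)) (tt N8060 F17404) (tt N13247 D13261) (tt N8059 (iv D10405)) (tt N13248 D13262))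
theorem Q10407 : ∀ i, i < 10407 → P i := stepQ 10406 Q10406 (allL N10406 (tt N8064 F17405) (tt N9207 F17406) (tt N13248 (iv F22545)) (tt N8067 F17407) (tt N9163 F17408) (tt N8060 (iv D10406)))
theorem Q10408 : ∀ i, i < 10408 → P i := stepQ 10407 Q10407 (allL N10407 (tt N8065 F17409) (tt N12971 (iv F22008)) (tt N13249 D13263) (tt N8061 (iv D10407)) (tt N12992 (iv F22056)) (tt N8068 F17410))
theorem Q10409 : ∀ i, i < 10409 → P i := stepQ 10408 Q10408 (allL N10408 (tt N8102 F17411) (tt N13250 D13264) (tt N8062 (iv D10408)) (tt N8093 F17412) (tt N13251 D13265) (tt N8091 F17413))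
theorem Q10410 : ∀ i, i < 10410 → P i := stepQ 10409 Q10409 (allL N10409 (tt N13246 (iv F22541)) (tt N12989 (iv F22048)) (tt N13251 (iv F22553)) (tt N13252 D13266) (tt N8062 (iv D10409)) (tt N13253 D13267))
theorem Q10411 : ∀ i, i < 10411 → P i := stepQ 10410 Q10410 (allL N10410 (tt N13247 (iv F22543)) (tt N12991 (iv F22052)) (tt N13254 D13268) (tt N8063 (iv D10410)) (tt N13252 (iv F22554)) (tt N13255 D13269))
theorem Q10412 : ∀ i, i < 10412 → P i := stepQ 10411 Q10411 (allL N10411 (tt N13248 (iv F22544)) (tt N9134 F17414) (tt N8064 F17415) (tt N13255 (iv F22556)) (tt N9161 F17416) (tt N8063 (iv D10411)))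
theorem Q10413 : ∀ i, i < 10413 → P i := stepQ 10412 Q10412 (allL N10412 (tt N13249 (iv F22547)) (tt N8189 F17417) (tt N8065 (iv D10412)) (tt N13256 D13270) (tt N12993 (iv F22059)) (tt N8072 F17418))
theorem Q10414 : ∀ i, i < 10414 → P i := stepQ 10413 Q10413 (allL N10413 (tt N8070 F17419) (tt N12622 (iv F21354)) (tt N13257 D13271) (tt N8066 (iv D10413)) (tt N8127 F17420) (tt N13258 D13272))
theorem Q10415 : ∀ i, i < 10415 → P i := stepQ 10414 Q10414 (allL N10414 (tt N8071 F17421) (tt N12623 (iv F21357)) (tt N8067 F17422) (tt N13258 (iv F22564)) (tt N12749 (iv F21549)) (tt N8066 (iv D10414)))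
theorem Q10416 : ∀ i, i < 10416 → P i := stepQ 10415 Q10415 (allL N10415 (tt N8072 F17423) (tt N13259 D13273) (tt N8068 (iv D10415)) (tt N13260 D13274) (tt N13199 (iv F22432)) (tt N13249 (iv F22548)))
theorem Q10417 : ∀ i, i < 10417 → P i := stepQ 10416 Q10416 (allL N10416 (tt N8127 F17424) (tt N9242 F17425) (tt N13261 D13275) (tt N8069 (iv D10416)) (tt N8070 F17426) (tt N13262 D13276))
theorem Q10418 : ∀ i, i < 10418 → P i := stepQ 10417 Q10417 (allL N10417 (tt N8128 F17427) (tt N9366 F17428) (tt N8125 F17429) (tt N13262 (iv F22575)) (tt N13243 (iv F22536)) (tt N8069 (iv D10417)))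
theorem Q10419 : ∀ i, i < 10419 → P i := stepQ 10418 Q10418 (allL N10418 (tt N13257 (iv F22561)) (tt N13263 D13277) (tt N8070 (iv D10418)) (tt N13264 D13278) (tt N13261 (iv F22569)) (tt N13265 D13279))
theorem Q10420 : ∀ i, i < 10420 → P i := stepQ 10419 Q10419 (allL N10419 (tt N13258 (iv F22563)) (tt N9243 F17430) (tt N13265 (iv F22577)) (tt N8071 F17431) (tt N13266 D13280) (tt N8070 (iv D10419)))
theorem Q10421 : ∀ i, i < 10421 → P i := stepQ 10420 Q10420 (allL N10420 (tt N13267 D13281) (tt N8072 (iv D10420)) (tt N8073 F17432) (tt N13268 D13282) (tt N13056 (iv F22191)) (tt N8189 F17433))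
theorem Q10422 : ∀ i, i < 10422 → P i := stepQ 10421 Q10421 (allL N10421 (tt N13260 (iv F22565)) (tt N13268 (iv F22581)) (tt N13269 D13283) (tt N8072 (iv D10421)) (tt N13270 D13284) (tt N13256 (iv F22559)))
theorem Q10423 : ∀ i, i < 10423 → P i := stepQ 10422 Q10422 (allL N10422 (tt N8073 (iv D10422)) (tt N13168 (iv F22380)) (tt N13267 (iv F22579)) (tt N8188 F17434) (tt N13053 (iv F22185)) (tt N8187 F17435))
theorem Q10424 : ∀ i, i < 10424 → P i := stepQ 10423 Q10423 (allL N10423 (tt N8076 F17436) (tt N13271 D13285) (tt N8074 (iv D10423)) (tt N13238 (iv F22527)) (tt N13272 D13286) (tt N13273 D13287))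
theorem Q10425 : ∀ i, i < 10425 → P i := stepQ 10424 Q10424 (allL N10424 (tt N8077 F17437) (tt N12911 (iv F21878)) (tt N13272 (iv F22587)) (tt N12906 (iv F21867)) (tt N8074 (iv D10424)) (tt N13274 D13288))
theorem Q10426 : ∀ i, i < 10426 → P i := stepQ 10425 Q10425 (allL N10425 (tt N8078 F17438) (tt N12912 (iv F21881)) (tt N13273 (iv F22589)) (tt N8075 F17439) (tt N13275 D13289) (tt N8074 (iv D10425)))
theorem Q10427 : ∀ i, i < 10427 → P i := stepQ 10426 Q10426 (allL N10426 (tt N13273 (iv F22588)) (tt N8076 (iv D10426)) (tt N8078 F17440) (tt N13276 D13290) (tt N13277 D13291) (tt N8076 (iv F17441)))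
theorem Q10428 : ∀ i, i < 10428 → P i := stepQ 10427 Q10427 (allL N10427 (tt N13238 (iv F22525)) (tt N13276 (iv F22594)) (tt N13237 (iv F22524)) (tt N8076 (iv D10427)) (tt N13278 D13292) (tt N13276 (iv F22596)))
theorem Q10429 : ∀ i, i < 10429 → P i := stepQ 10428 Q10428 (allL N10428 (tt N13272 (iv F22586)) (tt N13277 (iv F22597)) (tt N8077 F17442) (tt N13279 D13293) (tt N8076 (iv D10428)) (tt N13280 D13294))
theorem Q10430 : ∀ i, i < 10430 → P i := stepQ 10429 Q10429 (allL N10429 (tt N13274 (iv F22591)) (tt N8081 F17443) (tt N13280 (iv F22599)) (tt N12907 (iv F21869)) (tt N13281 D13295) (tt N8077 (iv D10429)))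
theorem Q10431 : ∀ i, i < 10431 → P i := stepQ 10430 Q10430 (allL N10430 (tt N13275 (iv F22592)) (tt N8080 F17444) (tt N13277 (iv F22598)) (tt N13282 D13296) (tt N8078 (iv D10430)) (tt N13281 (iv F22601)))
theorem Q10432 : ∀ i, i < 10432 → P i := stepQ 10431 Q10431 (allL N10431 (tt N13104 (iv F22289)) (tt N8082 F17445) (tt N13283 D13297) (tt N8079 (iv D10431)) (tt N13282 (iv F22603)) (tt N12908 (iv F21872)))
theorem Q10433 : ∀ i, i < 10433 → P i := stepQ 10432 Q10432 (allL N10432 (tt N12918 (iv F21890)) (tt N13282 (iv F22602)) (tt N13284 D13298) (tt N8080 (iv D10432)) (tt N8082 F17446) (tt N13285 D13299))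
theorem Q10434 : ∀ i, i < 10434 → P i := stepQ 10433 Q10433 (allL N10433 (tt N12919 (iv F21893)) (tt N13281 (iv F22600)) (tt N8081 F17447) (tt N13285 (iv F22605)) (tt N8081 F17448) (tt N8080 (iv D10433)))
theorem Q10435 : ∀ i, i < 10435 → P i := stepQ 10434 Q10434 (allL N10434 (tt N12920 (iv F21896)) (tt N13286 D13300) (tt N8082 (iv D10434)) (tt N12909 (iv F21875)) (tt N13284 (iv F22604)) (tt N12909 (iv F21874)))
theorem Q10436 : ∀ i, i < 10436 → P i := stepQ 10435 Q10435 (allL N10435 (tt N13235 (iv F22516)) (tt N8083 (iv D10435)) (tt N12944 (iv F21944)) (tt N13278 (iv F26297)) (tt N13279 (iv F26284)) (tt N13233 F22513))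
theorem Q10437 : ∀ i, i < 10437 → P i := stepQ 10436 Q10436 (allL N10436 (tt N8086 F17449) (tt N13278 (iv F26296)) (tt N13276 (iv F22595)) (tt N8083 (iv D10436)) (tt N13276 (iv F26285)) (tt N13237 (iv F22523)))
theorem Q10438 : ∀ i, i < 10438 → P i := stepQ 10437 Q10437 (allL N10437 (tt N8087 F17450) (tt N13279 (iv F26283)) (tt N8084 F17451) (tt N13277 (iv F26282)) (tt N8083 (iv D10437)) (tt N13287 D13305))
theorem Q10439 : ∀ i, i < 10439 → P i := stepQ 10438 Q10438 (allL N10438 (tt N8088 F17452) (tt N9245 F17453) (tt N13287 (iv F22612)) (tt N9398 F17454) (tt N8190 F17455) (tt N8084 (iv D10438)))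
theorem Q10440 : ∀ i, i < 10440 → P i := stepQ 10439 Q10439 (allL N10439 (tt N8089 F17456) (tt N9208 F17457) (tt N13288 D13306) (tt N8085 (iv D10439)) (tt N8208 F17458) (tt N9399 F17459))
theorem Q10441 : ∀ i, i < 10441 → P i := stepQ 10440 Q10440 (allL N10440 (tt N13276 (iv F22593)) (tt N13239 (iv F26286)) (tt N8086 (iv D10440)) (tt N13273 (iv F22590)) (tt N8086 (iv F26287)) (tt N13238 (iv F22526)))
theorem Q10442 : ∀ i, i < 10442 → P i := stepQ 10441 Q10441 (allL N10441 (tt N13277 (iv F26281)) (tt N13240 (iv F22529)) (tt N13275 (iv F26289)) (tt N8087 (iv D10442)) (tt N13273 (iv F26288)) (tt N13289 D13312))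
theorem Q10443 : ∀ i, i < 10443 → P i := stepQ 10442 Q10442 (allL N10442 (tt N13287 (iv F22611)) (tt N8185 F17460) (tt N8088 F17461) (tt N13289 (iv F22621)) (tt N8186 F17462) (tt N8087 (iv D10443)))
theorem Q10444 : ∀ i, i < 10444 → P i := stepQ 10443 Q10443 (allL N10443 (tt N13288 (iv F22614)) (tt N9130 F17463) (tt N8089 (iv D10444)) (tt N13290 D13313) (tt N8209 F17464) (tt N9391 F17465))
theorem Q10445 : ∀ i, i < 10445 → P i := stepQ 10444 Q10444 (allL N10444 (tt N8090 (iv D10445)) (tt N8097 F17466) (tt N13233 (iv F22511)) (tt N12985 (iv F22044)) (tt N13291 D13314) (tt N12944 (iv F21945)))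
theorem Q10446 : ∀ i, i < 10446 → P i := stepQ 10445 Q10445 (allL N10445 (tt N12985 (iv F22042)) (tt N8091 F17467) (tt N12985 (iv F22043)) (tt N8090 (iv D10446)) (tt N13292 D13315) (tt N13250 (iv F22551)))
theorem Q10447 : ∀ i, i < 10447 → P i := stepQ 10446 Q10446 (allL N10446 (tt N13291 (iv F22624)) (tt N8092 F17468) (tt N8198 F17469) (tt N13293 D13316) (tt N8090 (iv D10447)) (tt N13294 D13317))
theorem Q10448 : ∀ i, i < 10448 → P i := stepQ 10447 Q10447 (allL N10447 (tt N12944 (iv F21943)) (tt N8093 F17470) (tt N13235 (iv F22518)) (tt N13250 (iv F22550)) (tt N13295 D13318) (tt N8090 (iv D10448)))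
theorem Q10449 : ∀ i, i < 10449 → P i := stepQ 10448 Q10448 (allL N10448 (tt N8101 F17471) (tt N13292 (iv F22629)) (tt N12983 (iv F22039)) (tt N13296 D13319) (tt N8091 (iv D10449)) (tt N13297 D13320))
theorem Q10450 : ∀ i, i < 10450 → P i := stepQ 10449 Q10449 (allL N10449 (tt N8103 F17472) (tt N13293 (iv F22631)) (tt N10057 F17473) (tt N8092 (iv D10450)) (tt N13296 (iv F22638)) (tt N13298 D13321))
theorem Q10451 : ∀ i, i < 10451 → P i := stepQ 10450 Q10450 (allL N10450 (tt N8104 F17474) (tt N13294 (iv F22634)) (tt N8094 F17475) (tt N13298 (iv F22643)) (tt N13299 D13322) (tt N8092 (iv D10451)))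
theorem Q10452 : ∀ i, i < 10452 → P i := stepQ 10451 Q10451 (allL N10451 (tt N8105 F17476) (tt N13295 (iv F22636)) (tt N8095 F17477) (tt N13300 D13323) (tt N8093 (iv D10452)) (tt N13299 (iv F22646)))
theorem Q10453 : ∀ i, i < 10453 → P i := stepQ 10452 Q10452 (allL N10452 (tt N8106 F17478) (tt N8172 F17479) (tt N13299 (iv F22645)) (tt N8140 F17480) (tt N8094 (iv D10453)) (tt N8095 F17481))
theorem Q10454 : ∀ i, i < 10454 → P i := stepQ 10453 Q10453 (allL N10453 (tt N8107 F17482) (tt N8171 F17483) (tt N13301 D13324) (tt N8095 (iv D10454)) (tt N8096 F17484) (tt N8140 F17485))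
theorem Q10455 : ∀ i, i < 10455 → P i := stepQ 10454 Q10454 (allL N10454 (tt N8108 F17486) (tt N13302 D13325) (tt N8096 (iv D10455)) (tt N13269 (iv F22584)) (tt N13301 (iv F22649)) (tt N8113 F17487))
theorem Q10456 : ∀ i, i < 10456 → P i := stepQ 10455 Q10455 (allL N10455 (tt N8099 F17488) (tt N13291 (iv F22625)) (tt N8109 F17489) (tt N13303 D13326) (tt N8097 (iv D10456)) (tt N9244 (iv F17490)))
theorem Q10457 : ∀ i, i < 10457 → P i := stepQ 10456 Q10456 (allL N10456 (tt N12986 (iv F22045)) (tt N8101 F17491) (tt N12979 (iv F22027)) (tt N13304 D13327) (tt N8098 (iv D10457)) (tt N13305 D13328))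
theorem Q10458 : ∀ i, i < 10458 → P i := stepQ 10457 Q10457 (allL N10457 (tt N13303 (iv F22653)) (tt N8103 F17492) (tt N13306 D13329) (tt N8099 (iv D10458)) (tt N13304 (iv F22658)) (tt N9246 F17493))
theorem Q10459 : ∀ i, i < 10459 → P i := stepQ 10458 Q10458 (allL N10458 (tt N12976 (iv F22018)) (tt N8100 (iv D10459)) (tt N12976 F22020) (tt N12975 F22016) (tt N13307 D13330) (tt N13244 (iv F22538)))
theorem Q10460 : ∀ i, i < 10460 → P i := stepQ 10459 Q10459 (allL N10459 (tt N12983 (iv F22037)) (tt N13307 (iv F22663)) (tt N8101 F17494) (tt N13308 D13331) (tt N8100 (iv D10460)) (tt N13309 D13332))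
theorem Q10461 : ∀ i, i < 10461 → P i := stepQ 10460 Q10460 (allL N10460 (tt N13296 (iv F22637)) (tt N13304 (iv F22657)) (tt N13310 D13333) (tt N8101 (iv D10461)) (tt N8103 F17495) (tt N13311 D13334))
theorem Q10462 : ∀ i, i < 10462 → P i := stepQ 10461 Q10461 (allL N10461 (tt N13297 (iv F22640)) (tt N13305 (iv F22659)) (tt N13309 (iv F22664)) (tt N13311 (iv F22667)) (tt N13312 D13335) (tt N8101 (iv D10462)))
theorem Q10463 : ∀ i, i < 10463 → P i := stepQ 10462 Q10462 (allL N10462 (tt N13251 (iv F22552)) (tt N12948 (iv F21955)) (tt N13246 (iv F22542)) (tt N13313 D13336) (tt N8102 (iv D10463)) (tt N13312 (iv F22668)))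
theorem Q10464 : ∀ i, i < 10464 → P i := stepQ 10463 Q10463 (allL N10463 (tt N10057 F17496) (tt N13314 D13337) (tt N8103 (iv D10464)) (tt N10051 F17497) (tt N13310 (iv F22666)) (tt N13315 D13338))
theorem Q10465 : ∀ i, i < 10465 → P i := stepQ 10464 Q10464 (allL N10464 (tt N13298 (iv F22641)) (tt N9246 F17498) (tt N13315 (iv F22672)) (tt N8104 F17499) (tt N13316 D13339) (tt N8103 (iv D10465)))
theorem Q10466 : ∀ i, i < 10466 → P i := stepQ 10465 Q10465 (allL N10465 (tt N13299 (iv F22644)) (tt N9247 F17500) (tt N8106 F17501) (tt N13317 D13340) (tt N8104 (iv D10466)) (tt N8105 F17502))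
theorem Q10467 : ∀ i, i < 10467 → P i := stepQ 10466 Q10466 (allL N10466 (tt N13300 (iv F22647)) (tt N12949 (iv F21956)) (tt N13318 D13341) (tt N8105 (iv D10467)) (tt N13313 (iv F22669)) (tt N13317 (iv F22676)))
theorem Q10468 : ∀ i, i < 10468 → P i := stepQ 10467 Q10467 (allL N10467 (tt N13301 (iv F22648)) (tt N8163 F17503) (tt N8107 (iv D10468)) (tt N13319 D13342) (tt N8108 F17504) (tt N8146 F17505))
theorem Q10469 : ∀ i, i < 10469 → P i := stepQ 10468 Q10468 (allL N10468 (tt N13320 D13343) (tt N8108 (iv D10469)) (tt N8110 F17506) (tt N13321 D13344) (tt N8163 F17507) (tt N8118 F17508))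
theorem Q10470 : ∀ i, i < 10470 → P i := stepQ 10469 Q10469 (allL N10469 (tt N13269 (iv F22583)) (tt N13321 (iv F22682)) (tt N13260 (iv F22566)) (tt N8108 (iv D10470)) (tt N13322 D13345) (tt N8119 F17509))
theorem Q10471 : ∀ i, i < 10471 → P i := stepQ 10470 Q10470 (allL N10470 (tt N8110 (iv D10471)) (tt N8188 F17510) (tt N13320 (iv F22679)) (tt N13168 (iv F22381)) (tt N8158 F17511) (tt N8120 F17512))
theorem Q10472 : ∀ i, i < 10472 → P i := stepQ 10471 Q10471 (allL N10471 (tt N8115 F17513) (tt N8798 F17514) (tt N13323 D13346) (tt N8111 (iv D10472)) (tt N8112 F17515) (tt N13324 D13347))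
theorem Q10473 : ∀ i, i < 10473 → P i := stepQ 10472 Q10472 (allL N10472 (tt N8116 F17516) (tt N8799 F17517) (tt N13243 (iv F22535)) (tt N13324 (iv F22688)) (tt N8125 F17518) (tt N8111 (iv D10473)))
theorem Q10474 : ∀ i, i < 10474 → P i := stepQ 10473 Q10473 (allL N10473 (tt N8117 F17519) (tt N13325 D13348) (tt N8112 (iv D10474)) (tt N13315 (iv F22673)) (tt N13323 (iv F22685)) (tt N10051 F17520))
theorem Q10475 : ∀ i, i < 10475 → P i := stepQ 10474 Q10474 (allL N10474 (tt N13326 D13349) (tt N8113 (iv D10475)) (tt N8166 F17521) (tt N13327 D13350) (tt N8137 F17522) (tt N13302 (iv F22652)))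
theorem Q10476 : ∀ i, i < 10476 → P i := stepQ 10475 Q10475 (allL N10475 (tt N8119 F17523) (tt N13327 (iv F22695)) (tt N13256 (iv F22560)) (tt N8113 (iv D10476)) (tt N13328 D13351) (tt N13269 (iv F22585)))
theorem Q10477 : ∀ i, i < 10477 → P i := stepQ 10476 Q10476 (allL N10476 (tt N13193 (iv F22423)) (tt N8262 F17524) (tt N13329 D13352) (tt N8114 (iv D10477)) (tt N12748 (iv F21545)) (tt N13330 D13353))
theorem Q10478 : ∀ i, i < 10478 → P i := stepQ 10477 Q10477 (allL N10477 (tt N13243 (iv F22533)) (tt N8263 F17525) (tt N8116 F17526) (tt N13330 (iv F22699)) (tt N8128 F17527) (tt N8114 (iv D10478)))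
theorem Q10479 : ∀ i, i < 10479 → P i := stepQ 10478 Q10478 (allL N10478 (tt N13323 (iv F22684)) (tt N13331 D13354) (tt N8115 (iv D10479)) (tt N13332 D13355) (tt N8117 F17528) (tt N13333 D13356))
theorem Q10480 : ∀ i, i < 10480 → P i := stepQ 10479 Q10479 (allL N10479 (tt N13324 (iv F22686)) (tt N8134 F17529) (tt N13333 (iv F22702)) (tt N8116 F17530) (tt N9042 F17531) (tt N8115 (iv D10480)))
theorem Q10481 : ∀ i, i < 10481 → P i := stepQ 10480 Q10480 (allL N10480 (tt N13334 D13357) (tt N8117 (iv D10481)) (tt N8136 F17532) (tt N13335 D13358) (tt N13331 (iv F22701)) (tt N9063 F17533))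
theorem Q10482 : ∀ i, i < 10482 → P i := stepQ 10481 Q10481 (allL N10481 (tt N13315 (iv F22671)) (tt N13335 (iv F22708)) (tt N13298 (iv F22642)) (tt N8117 (iv D10482)) (tt N13336 D13359) (tt N10057 F17534))
theorem Q10483 : ∀ i, i < 10483 → P i := stepQ 10482 Q10482 (allL N10482 (tt N8118 (iv D10483)) (tt N13326 (iv F22692)) (tt N8120 F17535) (tt N13337 D13360) (tt N8141 F17536) (tt N13320 (iv F22681)))
theorem Q10484 : ∀ i, i < 10484 → P i := stepQ 10483 Q10483 (allL N10483 (tt N13337 (iv F22711)) (tt N8119 F17537) (tt N13338 D13361) (tt N8118 (iv D10484)) (tt N13339 D13362) (tt N13321 (iv F22683)))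
theorem Q10485 : ∀ i, i < 10485 → P i := stepQ 10484 Q10484 (allL N10484 (tt N13256 (iv F22557)) (tt N13340 D13363) (tt N8119 (iv D10485)) (tt N13249 (iv F22549)) (tt N13341 D13364) (tt N13260 (iv F22567)))
theorem Q10486 : ∀ i, i < 10486 → P i := stepQ 10485 Q10485 (allL N10485 (tt N13328 (iv F22696)) (tt N13339 (iv F22714)) (tt N13341 (iv F22716)) (tt N8144 F17538) (tt N8119 (iv D10486)) (tt N13342 D13365))
theorem Q10487 : ∀ i, i < 10487 → P i := stepQ 10486 Q10486 (allL N10486 (tt N8121 F17539) (tt N8187 F17540) (tt N13343 D13366) (tt N8120 (iv D10487)) (tt N8159 F17541) (tt N13168 (iv F22382)))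
theorem Q10488 : ∀ i, i < 10488 → P i := stepQ 10487 Q10487 (allL N10487 (tt N13343 (iv F22718)) (tt N12974 (iv F22012)) (tt N8121 (iv D10488)) (tt N13344 D13367) (tt N8164 F17542) (tt N13174 (iv F22391)))
theorem Q10489 : ∀ i, i < 10489 → P i := stepQ 10488 Q10488 (allL N10488 (tt N8124 F17543) (tt N13345 D13368) (tt N8122 (iv D10489)) (tt N13346 D13369) (tt N13241 (iv F22532)) (tt N13169 (iv F22384)))
theorem Q10490 : ∀ i, i < 10490 → P i := stepQ 10489 Q10489 (allL N10489 (tt N13346 (iv F22720)) (tt N13173 (iv F22387)) (tt N13347 D13370) (tt N8124 (iv D10490)) (tt N13348 D13371) (tt N13170 (iv F22386)))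
theorem Q10491 : ∀ i, i < 10491 → P i := stepQ 10490 Q10490 (allL N10490 (tt N12624 (iv F21360)) (tt N8127 F17544) (tt N13349 D13372) (tt N8126 (iv D10491)) (tt N12622 (iv F21355)) (tt N13350 D13373))
theorem Q10492 : ∀ i, i < 10492 → P i := stepQ 10491 Q10491 (allL N10491 (tt N12625 (iv F21363)) (tt N8128 F17545) (tt N8131 F17546) (tt N13350 (iv F22722)) (tt N8263 F17547) (tt N8126 (iv D10492)))
theorem Q10493 : ∀ i, i < 10493 → P i := stepQ 10492 Q10492 (allL N10492 (tt N13261 (iv F22568)) (tt N13351 D13374) (tt N8127 (iv D10493)) (tt N13352 D13375) (tt N13257 (iv F22562)) (tt N13353 D13376))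
theorem Q10494 : ∀ i, i < 10494 → P i := stepQ 10493 Q10493 (allL N10493 (tt N13262 (iv F22572)) (tt N13350 (iv F22721)) (tt N13353 (iv F22727)) (tt N8128 F17548) (tt N13354 D13377) (tt N8127 (iv D10494)))
theorem Q10495 : ∀ i, i < 10495 → P i := stepQ 10494 Q10494 (allL N10494 (tt N8130 F17549) (tt N8736 F17550) (tt N13355 D13378) (tt N8129 (iv D10495)) (tt N8258 F17551) (tt N13356 D13379))
theorem Q10496 : ∀ i, i < 10496 → P i := stepQ 10495 Q10495 (allL N10495 (tt N8131 F17552) (tt N8737 F17553) (tt N12625 (iv F21365)) (tt N13356 (iv F22733)) (tt N8261 F17554) (tt N8129 (iv D10496)))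
theorem Q10497 : ∀ i, i < 10497 → P i := stepQ 10496 Q10496 (allL N10496 (tt N13355 (iv F22729)) (tt N13357 D13380) (tt N8130 (iv D10497)) (tt N13358 D13381) (tt N8259 F17555) (tt N13359 D13382))
theorem Q10498 : ∀ i, i < 10498 → P i := stepQ 10497 Q10497 (allL N10497 (tt N13356 (iv F22731)) (tt N8133 F17556) (tt N13359 (iv F22738)) (tt N8131 F17557) (tt N10753 (iv F18022)) (tt N8130 (iv D10498)))
theorem Q10499 : ∀ i, i < 10499 → P i := stepQ 10498 Q10498 (allL N10498 (tt N13360 D13383) (tt N8132 (iv D10499)) (tt N13357 (iv F22734)) (tt N10094 F17558) (tt N8260 F17559) (tt N10093 F17560))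
theorem Q10500 : ∀ i, i < 10500 → P i := stepQ 10499 Q10499 (allL N10499 (tt N8804 F17561) (tt N13361 D13384) (tt N8134 (iv D10500)) (tt N8257 F17562) (tt N8254 F17563) (tt N8135 F17564))
theorem Q10501 : ∀ i, i < 10501 → P i := stepQ 10500 Q10500 (allL N10500 (tt N13362 D13385) (tt N8135 (iv D10501)) (tt N13331 (iv F22700)) (tt N13363 D13386) (tt N8136 F17565) (tt N13361 (iv F22745)))
theorem Q10502 : ∀ i, i < 10502 → P i := stepQ 10501 Q10501 (allL N10501 (tt N8803 F17566) (tt N13363 (iv F22748)) (tt N8792 F17567) (tt N8135 (iv D10502)) (tt N8805 F17568) (tt N8257 F17569))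
theorem Q10503 : ∀ i, i < 10503 → P i := stepQ 10502 Q10502 (allL N10502 (tt N8136 (iv D10503)) (tt N9066 F17570) (tt N13334 (iv F22704)) (tt N9045 F17571) (tt N13362 (iv F22747)) (tt N9062 F17572))
theorem Q10504 : ∀ i, i < 10504 → P i := stepQ 10503 Q10503 (allL N10503 (tt N8137 (iv D10504)) (tt N8141 F17573) (tt N8165 F17574) (tt N9263 (iv F17576)) (tt N13326 (iv F22694)) (tt N8155 (iv F17575)))
theorem Q10505 : ∀ i, i < 10505 → P i := stepQ 10504 Q10504 (allL N10504 (tt N9263 F17577) (tt N8138 F17578) (tt N9030 F17579) (tt N8137 (iv D10505)) (tt N13364 D13387) (tt N9074 (iv F17580)))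
theorem Q10506 : ∀ i, i < 10506 → P i := stepQ 10505 Q10505 (allL N10505 (tt N8155 F17581) (tt N8139 F17582) (tt N8167 F17583) (tt N9074 F17584) (tt N13365 D13388) (tt N8137 (iv D10506)))
theorem Q10507 : ∀ i, i < 10507 → P i := stepQ 10506 Q10506 (allL N10506 (tt N8144 F17585) (tt N13364 (iv F22752)) (tt N9027 F17586) (tt N13328 (iv F22697)) (tt N8138 (iv D10507)) (tt N13366 D13389))
theorem Q10508 : ∀ i, i < 10508 → P i := stepQ 10507 Q10507 (allL N10507 (tt N8146 F17587) (tt N13365 (iv F22755)) (tt N8140 F17588) (tt N13367 D13390) (tt N8139 (iv D10508)) (tt N13301 (iv F22650)))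
theorem Q10509 : ∀ i, i < 10509 → P i := stepQ 10508 Q10508 (allL N10508 (tt N10023 F17589) (tt N8144 F17590) (tt N10019 F17591) (tt N13339 (iv F22715)) (tt N8142 (iv D10509)) (tt N13368 D13391))
theorem Q10510 : ∀ i, i < 10510 → P i := stepQ 10509 Q10509 (allL N10509 (tt N9018 F17592) (tt N8143 (iv D10510)) (tt N9268 F17593) (tt N9017 F17594) (tt N13369 D13392) (tt N9079 F17595))
theorem Q10511 : ∀ i, i < 10511 → P i := stepQ 10510 Q10510 (allL N10510 (tt N9027 F17596) (tt N13369 (iv F22767)) (tt N8144 F17597) (tt N13370 D13393) (tt N8143 (iv D10511)) (tt N13371 D13394))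
theorem Q10512 : ∀ i, i < 10512 → P i := stepQ 10511 Q10511 (allL N10511 (tt N13366 (iv F22757)) (tt N13368 (iv F22763)) (tt N13371 (iv F22772)) (tt N13342 (iv F22717)) (tt N13372 D13395) (tt N8144 (iv D10512)))
theorem Q10513 : ∀ i, i < 10513 → P i := stepQ 10512 Q10512 (allL N10512 (tt N10052 F17598) (tt N8161 F17599) (tt N10048 F17600) (tt N13373 D13396) (tt N8145 (iv D10513)) (tt N13372 (iv F22777)))
theorem Q10514 : ∀ i, i < 10514 → P i := stepQ 10513 Q10513 (allL N10513 (tt N13367 (iv F22760)) (tt N8162 F17601) (tt N13374 D13397) (tt N8146 (iv D10514)) (tt N13373 (iv F22780)) (tt N13319 (iv F22678)))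
theorem Q10515 : ∀ i, i < 10515 → P i := stepQ 10514 Q10514 (allL N10514 (tt N13375 D13398) (tt N8147 (iv D10515)) (tt N11520 (iv F19335)) (tt N9363 F17602) (tt N11520 (iv F19336)) (tt N9362 F17603))
theorem Q10516 : ∀ i, i < 10516 → P i := stepQ 10515 Q10515 (allL N10515 (tt N8154 F17604) (tt N11523 (iv F19341)) (tt N9364 F17605) (tt N11567 (iv F19417)) (tt N8148 (iv D10516)) (tt N11523 (iv F19343)))
theorem Q10517 : ∀ i, i < 10517 → P i := stepQ 10516 Q10516 (allL N10516 (tt N13376 D13399) (tt N8149 (iv D10517)) (tt N13003 (iv F22082)) (tt N13377 D13400) (tt N8151 F17606) (tt N13378 D13401))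
theorem Q10518 : ∀ i, i < 10518 → P i := stepQ 10517 Q10517 (allL N10517 (tt N11521 (iv F19337)) (tt N13377 (iv F22785)) (tt N11528 (iv F19350)) (tt N8149 (iv D10518)) (tt N13379 D13402) (tt N11526 F19348))
theorem Q10519 : ∀ i, i < 10519 → P i := stepQ 10518 Q10518 (allL N10518 (tt N11522 (iv F19338)) (tt N13378 (iv F22786)) (tt N8150 F17607) (tt N11526 (iv F19347)) (tt N13380 D13403) (tt N8149 (iv D10519)))
theorem Q10520 : ∀ i, i < 10520 → P i := stepQ 10519 Q10519 (allL N10519 (tt N11523 (iv F19340)) (tt N13004 (iv F22085)) (tt N13380 (iv F22790)) (tt N13178 (iv F22402)) (tt N8150 (iv D10520)) (tt N8154 F17608))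
theorem Q10521 : ∀ i, i < 10521 → P i := stepQ 10520 Q10520 (allL N10520 (tt N8151 (iv D10521)) (tt N13375 (iv F22781)) (tt N13005 (iv F22088)) (tt N13381 D13404) (tt N13376 (iv F22784)) (tt N13382 D13405))
theorem Q10522 : ∀ i, i < 10522 → P i := stepQ 10521 Q10521 (allL N10521 (tt N13381 (iv F22792)) (tt N8152 F17609) (tt N12467 (iv F21066)) (tt N8151 (iv D10522)) (tt N13383 D13406) (tt N9353 (iv F17610)))
theorem Q10523 : ∀ i, i < 10523 → P i := stepQ 10522 Q10522 (allL N10522 (tt N13382 (iv F22795)) (tt N8153 F17611) (tt N13007 (iv F22091)) (tt N9353 F17612) (tt N13384 D13407) (tt N8151 (iv D10523)))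
theorem Q10524 : ∀ i, i < 10524 → P i := stepQ 10523 Q10523 (allL N10523 (tt N9365 F17613) (tt N13383 (iv F22798)) (tt N9354 F17614) (tt N13379 (iv F22788)) (tt N8152 (iv D10524)) (tt N13385 D13408))
theorem Q10525 : ∀ i, i < 10525 → P i := stepQ 10524 Q10524 (allL N10524 (tt N9364 F17615) (tt N13384 (iv F22801)) (tt N8154 F17616) (tt N13386 D13409) (tt N8153 (iv D10525)) (tt N13380 (iv F22791)))
theorem Q10526 : ∀ i, i < 10526 → P i := stepQ 10525 Q10525 (allL N10525 (tt N9074 F17617) (tt N8156 F17618) (tt N9073 F17619) (tt N8155 (iv D10526)) (tt N13387 D13410) (tt N9263 F17620))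
theorem Q10527 : ∀ i, i < 10527 → P i := stepQ 10526 Q10526 (allL N10526 (tt N13365 (iv F22754)) (tt N8157 F17621) (tt N13058 (iv F22198)) (tt N13388 D13411) (tt N8155 (iv D10527)) (tt N13389 D13412))
theorem Q10528 : ∀ i, i < 10528 → P i := stepQ 10527 Q10527 (allL N10527 (tt N8161 F17622) (tt N13387 (iv F22809)) (tt N9248 F17623) (tt N13390 D13413) (tt N8156 (iv D10528)) (tt N13391 D13414))
theorem Q10529 : ∀ i, i < 10529 → P i := stepQ 10528 Q10528 (allL N10528 (tt N8162 F17624) (tt N13388 (iv F22811)) (tt N13392 D13415) (tt N8157 (iv D10529)) (tt N13390 (iv F22814)) (tt N13393 D13416))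
theorem Q10530 : ∀ i, i < 10530 → P i := stepQ 10529 Q10529 (allL N10529 (tt N8163 F17625) (tt N13389 (iv F22812)) (tt N8158 F17626) (tt N13393 (iv F22820)) (tt N13320 (iv F22680)) (tt N8157 (iv D10530)))
theorem Q10531 : ∀ i, i < 10531 → P i := stepQ 10530 Q10530 (allL N10530 (tt N8164 F17627) (tt N13394 D13417) (tt N8159 (iv D10531)) (tt N13395 D13418) (tt N13343 (iv F22719)) (tt N13013 (iv F22099)))
theorem Q10532 : ∀ i, i < 10532 → P i := stepQ 10531 Q10531 (allL N10531 (tt N8470 F17628) (tt N8160 (iv D10532)) (tt N9079 F17629) (tt N8469 F17630) (tt N13396 D13419) (tt N9268 F17631))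
theorem Q10533 : ∀ i, i < 10533 → P i := stepQ 10532 Q10532 (allL N10532 (tt N9248 F17632) (tt N13396 (iv F22825)) (tt N8161 F17633) (tt N12541 (iv F21219)) (tt N8160 (iv D10533)) (tt N13397 D13420))
theorem Q10534 : ∀ i, i < 10534 → P i := stepQ 10533 Q10533 (allL N10533 (tt N13390 (iv F22813)) (tt N13373 (iv F22779)) (tt N13398 D13421) (tt N8161 (iv D10534)) (tt N8162 F17634) (tt N13399 D13422))
theorem Q10535 : ∀ i, i < 10535 → P i := stepQ 10534 Q10534 (allL N10534 (tt N13391 (iv F22815)) (tt N13372 (iv F22775)) (tt N13397 (iv F22829)) (tt N13399 (iv F22832)) (tt N13368 (iv F22765)) (tt N8161 (iv D10535)))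
theorem Q10536 : ∀ i, i < 10536 → P i := stepQ 10535 Q10535 (allL N10535 (tt N13392 (iv F22818)) (tt N13400 D13423) (tt N8162 (iv D10536)) (tt N13401 D13424) (tt N13398 (iv F22831)) (tt N13402 D13425))
theorem Q10537 : ∀ i, i < 10537 → P i := stepQ 10536 Q10536 (allL N10536 (tt N13393 (iv F22819)) (tt N13319 (iv F22677)) (tt N13402 (iv F22833)) (tt N8163 F17635) (tt N13403 D13426) (tt N8162 (iv D10537)))
theorem Q10538 : ∀ i, i < 10538 → P i := stepQ 10537 Q10537 (allL N10537 (tt N13395 (iv F22821)) (tt N13132 (iv F22314)) (tt N13404 D13427) (tt N8164 (iv D10538)) (tt N13405 D13428) (tt N13015 (iv F22105)))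
theorem Q10539 : ∀ i, i < 10539 → P i := stepQ 10538 Q10538 (allL N10538 (tt N8166 F17636) (tt N8174 F17637) (tt N13326 (iv F22693)) (tt N13406 D13429) (tt N8165 (iv D10539)) (tt N13407 D13430))
theorem Q10540 : ∀ i, i < 10540 → P i := stepQ 10539 Q10539 (allL N10539 (tt N13406 (iv F22837)) (tt N8168 F17638) (tt N13408 D13431) (tt N8166 (iv D10540)) (tt N10114 F17639) (tt N13409 D13432))
theorem Q10541 : ∀ i, i < 10541 → P i := stepQ 10540 Q10540 (allL N10540 (tt N13407 (iv F22840)) (tt N8169 F17640) (tt N13302 (iv F22651)) (tt N13409 (iv F22844)) (tt N13410 D13433) (tt N8166 (iv D10541)))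
theorem Q10542 : ∀ i, i < 10542 → P i := stepQ 10541 Q10541 (allL N10541 (tt N13058 (iv F22196)) (tt N8170 F17641) (tt N13365 (iv F22756)) (tt N13411 D13434) (tt N8167 (iv D10542)) (tt N13410 (iv F22846)))
theorem Q10543 : ∀ i, i < 10543 → P i := stepQ 10542 Q10542 (allL N10542 (tt N8181 F17642) (tt N13412 D13435) (tt N8168 (iv D10543)) (tt N8205 F17644) (tt N10116 F17643) (tt N8204 (iv F17645)))
theorem Q10544 : ∀ i, i < 10544 → P i := stepQ 10543 Q10543 (allL N10543 (tt N8182 F17646) (tt N13409 (iv F22843)) (tt N8204 F17647) (tt N8169 F17648) (tt N13413 D13436) (tt N8168 (iv D10544)))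
theorem Q10545 : ∀ i, i < 10545 → P i := stepQ 10544 Q10544 (allL N10544 (tt N8183 F17649) (tt N13410 (iv F22845)) (tt N8171 F17650) (tt N13414 D13437) (tt N8169 (iv D10545)) (tt N8170 F17651))
theorem Q10546 : ∀ i, i < 10546 → P i := stepQ 10545 Q10545 (allL N10545 (tt N8184 F17652) (tt N13411 (iv F22847)) (tt N13415 D13438) (tt N8170 (iv D10546)) (tt N9303 F17653) (tt N13414 (iv F22856)))
theorem Q10547 : ∀ i, i < 10547 → P i := stepQ 10546 Q10546 (allL N10546 (tt N8185 F17654) (tt N13416 D13439) (tt N8172 (iv D10547)) (tt N13417 D13440) (tt N8173 F17655) (tt N13236 (iv F22521)))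
theorem Q10548 : ∀ i, i < 10548 → P i := stepQ 10547 Q10547 (allL N10547 (tt N13418 D13441) (tt N8173 (iv D10548)) (tt N13294 (iv F22635)) (tt N8186 F17656) (tt N13416 (iv F22859)) (tt N8198 F17657))
theorem Q10549 : ∀ i, i < 10549 → P i := stepQ 10548 Q10548 (allL N10548 (tt N8176 F17658) (tt N13406 (iv F22838)) (tt N13419 D13442) (tt N8174 (iv D10549)) (tt N13090 (iv F22261)) (tt N13420 D13443))
theorem Q10550 : ∀ i, i < 10550 → P i := stepQ 10549 Q10549 (allL N10549 (tt N8177 F17659) (tt N13407 (iv F22841)) (tt N8188 F17660) (tt N13420 (iv F22868)) (tt N13060 (iv F22203)) (tt N8174 (iv D10550)))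
theorem Q10551 : ∀ i, i < 10551 → P i := stepQ 10550 Q10550 (allL N10550 (tt N13090 (iv F22259)) (tt N8178 F17661) (tt N13421 D13444) (tt N8175 (iv D10551)) (tt N8176 F17662) (tt N13422 D13445))
theorem Q10552 : ∀ i, i < 10552 → P i := stepQ 10551 Q10551 (allL N10551 (tt N13091 (iv F22262)) (tt N8179 F17663) (tt N13086 (iv F22248)) (tt N13422 (iv F22871)) (tt N13063 (iv F22214)) (tt N8175 (iv D10552)))
theorem Q10553 : ∀ i, i < 10553 → P i := stepQ 10552 Q10552 (allL N10552 (tt N13419 (iv F22866)) (tt N13423 D13446) (tt N8176 (iv D10553)) (tt N13424 D13447) (tt N13421 (iv F22869)) (tt N13425 D13448))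
theorem Q10554 : ∀ i, i < 10554 → P i := stepQ 10553 Q10553 (allL N10553 (tt N13420 (iv F22867)) (tt N8182 F17664) (tt N13425 (iv F22873)) (tt N8177 F17665) (tt N13426 D13449) (tt N8176 (iv D10554)))
theorem Q10555 : ∀ i, i < 10555 → P i := stepQ 10554 Q10554 (allL N10554 (tt N10116 F17666) (tt N13427 D13450) (tt N8178 (iv D10555)) (tt N13428 D13451) (tt N8181 F17667) (tt N13429 D13452))
theorem Q10556 : ∀ i, i < 10556 → P i := stepQ 10555 Q10555 (allL N10555 (tt N10117 F17668) (tt N13422 (iv F22870)) (tt N13429 (iv F22880)) (tt N8179 F17669) (tt N13430 D13453) (tt N8178 (iv D10556)))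
theorem Q10557 : ∀ i, i < 10557 → P i := stepQ 10556 Q10556 (allL N10556 (tt N9304 F17670) (tt N13063 (iv F22212)) (tt N9300 F17671) (tt N13431 D13454) (tt N8179 (iv D10557)) (tt N8180 F17672))
theorem Q10558 : ∀ i, i < 10558 → P i := stepQ 10557 Q10557 (allL N10557 (tt N9303 F17673) (tt N13062 (iv F22209)) (tt N13432 D13455) (tt N8180 (iv D10558)) (tt N8184 F17674) (tt N13431 (iv F22885)))
theorem Q10559 : ∀ i, i < 10559 → P i := stepQ 10558 Q10558 (allL N10558 (tt N13433 D13456) (tt N8181 (iv D10559)) (tt N13423 (iv F22872)) (tt N13434 D13457) (tt N13427 (iv F22875)) (tt N13435 D13458))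
theorem Q10560 : ∀ i, i < 10560 → P i := stepQ 10559 Q10559 (allL N10559 (tt N8205 F17675) (tt N13434 (iv F22888)) (tt N8197 F17676) (tt N8181 (iv D10560)) (tt N13436 D13459) (tt N8196 F17677))
theorem Q10561 : ∀ i, i < 10561 → P i := stepQ 10560 Q10560 (allL N10560 (tt N8204 F17678) (tt N13435 (iv F22890)) (tt N8182 F17679) (tt N8196 F17680) (tt N13437 D13460) (tt N8181 (iv D10561)))
theorem Q10562 : ∀ i, i < 10562 → P i := stepQ 10561 Q10561 (allL N10561 (tt N13413 (iv F22852)) (tt N13426 (iv F22874)) (tt N13437 (iv F22895)) (tt N13438 D13461) (tt N8182 (iv D10562)) (tt N13430 (iv F22883)))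
theorem Q10563 : ∀ i, i < 10563 → P i := stepQ 10562 Q10562 (allL N10562 (tt N13414 (iv F22855)) (tt N13065 (iv F22215)) (tt N13439 D13462) (tt N8183 (iv D10563)) (tt N13438 (iv F22896)) (tt N8184 F17681))
theorem Q10564 : ∀ i, i < 10564 → P i := stepQ 10563 Q10563 (allL N10563 (tt N13415 (iv F22857)) (tt N13440 D13463) (tt N8184 (iv D10564)) (tt N13441 D13464) (tt N13432 (iv F22887)) (tt N13439 (iv F22897)))
theorem Q10565 : ∀ i, i < 10565 → P i := stepQ 10564 Q10564 (allL N10564 (tt N13417 (iv F22860)) (tt N13289 (iv F22620)) (tt N13442 D13465) (tt N8185 (iv D10565)) (tt N13417 (iv F22861)) (tt N13240 (iv F22530)))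
theorem Q10566 : ∀ i, i < 10566 → P i := stepQ 10565 Q10565 (allL N10565 (tt N8186 (iv D10566)) (tt N13418 (iv F22862)) (tt N8190 F17682) (tt N13418 (iv F22864)) (tt N13287 (iv F22613)) (tt N8207 F17683))
theorem Q10567 : ∀ i, i < 10567 → P i := stepQ 10566 Q10566 (allL N10566 (tt N8189 F17684) (tt N13443 D13466) (tt N8187 (iv D10567)) (tt N13444 D13467) (tt N13061 (iv F22205)) (tt N13267 (iv F22580)))
theorem Q10568 : ∀ i, i < 10568 → P i := stepQ 10567 Q10567 (allL N10567 (tt N13444 (iv F22898)) (tt N13256 (iv F22558)) (tt N13445 D13468) (tt N8189 (iv D10568)) (tt N13446 D13469) (tt N13268 (iv F22582)))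
theorem Q10569 : ∀ i, i < 10569 → P i := stepQ 10568 Q10568 (allL N10568 (tt N8644 F17685) (tt N8194 F17686) (tt N13447 D13470) (tt N8191 (iv D10569)) (tt N8192 F17687) (tt N13448 D13471))
theorem Q10570 : ∀ i, i < 10570 → P i := stepQ 10569 Q10569 (allL N10569 (tt N8645 F17688) (tt N8195 F17689) (tt N9101 F17690) (tt N13448 (iv F22903)) (tt N9320 F17691) (tt N8191 (iv D10570)))
theorem Q10571 : ∀ i, i < 10571 → P i := stepQ 10570 Q10570 (allL N10570 (tt N13208 (iv F22442)) (tt N13449 D13472) (tt N8192 (iv D10571)) (tt N13450 D13473) (tt N13447 (iv F22900)) (tt N13451 D13474))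
theorem Q10572 : ∀ i, i < 10572 → P i := stepQ 10571 Q10571 (allL N10571 (tt N12965 (iv F21991)) (tt N8197 F17692) (tt N13451 (iv F22905)) (tt N8193 F17693) (tt N13452 D13475) (tt N8192 (iv D10572)))
theorem Q10573 : ∀ i, i < 10573 → P i := stepQ 10572 Q10572 (allL N10572 (tt N8201 F17694) (tt N13453 D13476) (tt N8194 (iv D10573)) (tt N13429 (iv F22881)) (tt N8196 F17695) (tt N13428 (iv F22878)))
theorem Q10574 : ∀ i, i < 10574 → P i := stepQ 10573 Q10573 (allL N10573 (tt N8202 F17696) (tt N13448 (iv F22902)) (tt N13428 (iv F22877)) (tt N8195 F17697) (tt N13454 D13477) (tt N8194 (iv D10574)))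
theorem Q10575 : ∀ i, i < 10575 → P i := stepQ 10574 Q10574 (allL N10574 (tt N13455 D13478) (tt N8196 (iv D10575)) (tt N13449 (iv F22904)) (tt N13435 (iv F22891)) (tt N13453 (iv F22907)) (tt N13434 F22889))
theorem Q10576 : ∀ i, i < 10576 → P i := stepQ 10575 Q10575 (allL N10575 (tt N8206 F17698) (tt N13452 (iv F22906)) (tt N13436 (iv F22893)) (tt N13213 (iv F22453)) (tt N8197 (iv D10576)) (tt N13454 (iv F22910)))
theorem Q10577 : ∀ i, i < 10577 → P i := stepQ 10576 Q10576 (allL N10576 (tt N8198 (iv D10577)) (tt N8207 F17699) (tt N13291 (iv F22626)) (tt N8207 F17700) (tt N13233 (iv F22512)) (tt N13418 (iv F22865)))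
theorem Q10578 : ∀ i, i < 10578 → P i := stepQ 10577 Q10577 (allL N10577 (tt N9099 F17701) (tt N8200 F17702) (tt N8631 F17703) (tt N10112 F17704) (tt N9314 F17705) (tt N8199 (iv D10578)))
theorem Q10579 : ∀ i, i < 10579 → P i := stepQ 10578 Q10578 (allL N10578 (tt N13456 D13479) (tt N8201 (iv D10579)) (tt N13230 (iv F22503)) (tt N13457 D13480) (tt N8203 F17706) (tt N13458 D13481))
theorem Q10580 : ∀ i, i < 10580 → P i := stepQ 10579 Q10579 (allL N10579 (tt N13429 (iv F22879)) (tt N13457 (iv F22913)) (tt N10117 F17707) (tt N8201 (iv D10580)) (tt N13459 D13482) (tt N10116 F17708))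
theorem Q10581 : ∀ i, i < 10581 → P i := stepQ 10580 Q10580 (allL N10580 (tt N13428 (iv F22876)) (tt N13458 (iv F22915)) (tt N8202 F17709) (tt N10116 F17710) (tt N13460 D13483) (tt N8201 (iv D10581)))
theorem Q10582 : ∀ i, i < 10582 → P i := stepQ 10581 Q10581 (allL N10581 (tt N13454 (iv F22908)) (tt N13222 (iv F22480)) (tt N13460 (iv F22920)) (tt N13220 (iv F22474)) (tt N8202 (iv D10582)) (tt N8206 F17711))
theorem Q10583 : ∀ i, i < 10583 → P i := stepQ 10582 Q10582 (allL N10582 (tt N8203 (iv D10583)) (tt N13455 (iv F22911)) (tt N13232 (iv F22509)) (tt N13461 D13484) (tt N13456 (iv F22912)) (tt N13462 D13485))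
theorem Q10584 : ∀ i, i < 10584 → P i := stepQ 10583 Q10583 (allL N10583 (tt N13461 (iv F22923)) (tt N8204 F17712) (tt N13463 D13486) (tt N8203 (iv D10584)) (tt N13464 D13487) (tt N13412 (iv F22851)))
theorem Q10585 : ∀ i, i < 10585 → P i := stepQ 10584 Q10584 (allL N10584 (tt N13462 (iv F22924)) (tt N8205 F17713) (tt N13223 (iv F22484)) (tt N13412 (iv F22849)) (tt N13465 D13488) (tt N8203 (iv D10585)))
theorem Q10586 : ∀ i, i < 10586 → P i := stepQ 10585 Q10585 (allL N10585 (tt N13437 (iv F22894)) (tt N13464 (iv F22925)) (tt N13413 (iv F22853)) (tt N13459 (iv F22918)) (tt N8204 (iv D10586)) (tt N13459 (iv F22919)))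
theorem Q10587 : ∀ i, i < 10587 → P i := stepQ 10586 Q10586 (allL N10586 (tt N13436 (iv F22892)) (tt N13465 (iv F22926)) (tt N8206 F17714) (tt N13460 (iv F22921)) (tt N8205 (iv D10587)) (tt N13460 (iv F22922)))
theorem Q10588 : ∀ i, i < 10588 → P i := stepQ 10587 Q10587 (allL N10587 (tt N8209 F17715) (tt N9647 F17716) (tt N8208 (iv D10588)) (tt N13466 D13489) (tt N13288 (iv F22616)) (tt N9137 F17717))
theorem Q10589 : ∀ i, i < 10589 → P i := stepQ 10588 Q10588 (allL N10588 (tt N13466 (iv F22927)) (tt N9131 F17718) (tt N13467 D13490) (tt N8209 (iv D10589)) (tt N13468 D13491) (tt N9138 F17719))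
theorem Q10590 : ∀ i, i < 10590 → P i := stepQ 10589 Q10589 (allL N10589 (tt N13469 D13492) (tt N8210 (iv D10590)) (tt N11511 (iv F19317)) (tt N13470 D13493) (tt N11501 (iv F19298)) (tt N13471 D13494))
theorem Q10591 : ∀ i, i < 10591 → P i := stepQ 10590 Q10590 (allL N10590 (tt N8213 F17720) (tt N13470 (iv F22935)) (tt N8226 F17721) (tt N8210 (iv D10591)) (tt N13472 D13495) (tt N8224 (iv F17722)))
theorem Q10592 : ∀ i, i < 10592 → P i := stepQ 10591 Q10591 (allL N10591 (tt N8214 F17723) (tt N13471 (iv F22937)) (tt N8211 F17724) (tt N8224 F17725) (tt N13473 D13496) (tt N8210 (iv D10592)))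
theorem Q10593 : ∀ i, i < 10593 → P i := stepQ 10592 Q10592 (allL N10592 (tt N8215 F17726) (tt N11514 (iv F19323)) (tt N13473 (iv F22942)) (tt N11575 (iv F19443)) (tt N8211 (iv D10593)) (tt N11504 (iv F19305)))
theorem Q10594 : ∀ i, i < 10594 → P i := stepQ 10593 Q10593 (allL N10593 (tt N8212 (iv D10594)) (tt N13469 (iv F22934)) (tt N8216 F17727) (tt N13474 D13497) (tt N11505 (iv F19307)) (tt N12488 (iv F21100)))
theorem Q10595 : ∀ i, i < 10595 → P i := stepQ 10594 Q10594 (allL N10594 (tt N13474 (iv F22943)) (tt N8213 F17728) (tt N13475 D13498) (tt N8212 (iv D10595)) (tt N13476 D13499) (tt N12491 (iv F21110)))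
theorem Q10596 : ∀ i, i < 10596 → P i := stepQ 10595 Q10595 (allL N10595 (tt N8226 F17729) (tt N13477 D13500) (tt N8213 (iv D10596)) (tt N8219 F17730) (tt N13478 D13501) (tt N8218 (iv F17731)))
theorem Q10597 : ∀ i, i < 10597 → P i := stepQ 10596 Q10596 (allL N10596 (tt N13472 (iv F22939)) (tt N13476 (iv F22944)) (tt N13478 (iv F22948)) (tt N11508 (iv F19311)) (tt N8213 (iv D10597)) (tt N13479 D13502))
theorem Q10598 : ∀ i, i < 10598 → P i := stepQ 10597 Q10597 (allL N10597 (tt N8224 F17732) (tt N12491 (iv F21109)) (tt N8218 F17733) (tt N8214 F17734) (tt N13480 D13503) (tt N8213 (iv D10598)))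
theorem Q10599 : ∀ i, i < 10599 → P i := stepQ 10598 Q10598 (allL N10598 (tt N13473 (iv F22941)) (tt N12492 (iv F21111)) (tt N8215 F17735) (tt N13481 D13504) (tt N8214 (iv D10599)) (tt N11510 (iv F19316)))
theorem Q10600 : ∀ i, i < 10600 → P i := stepQ 10599 Q10599 (allL N10599 (tt N12768 (iv F21585)) (tt N8218 F17736) (tt N13482 D13505) (tt N8217 (iv D10600)) (tt N12759 (iv F21564)) (tt N13477 (iv F22946)))
theorem Q10601 : ∀ i, i < 10601 → P i := stepQ 10600 Q10600 (allL N10600 (tt N12769 (iv F21588)) (tt N8219 F17737) (tt N10328 F17738) (tt N13477 (iv F22945)) (tt N13483 D13506) (tt N8217 (iv D10601)))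
theorem Q10602 : ∀ i, i < 10602 → P i := stepQ 10601 Q10601 (allL N10601 (tt N8225 F17739) (tt N12759 (iv F21563)) (tt N13480 (iv F22950)) (tt N12758 (iv F21561)) (tt N8218 (iv D10602)) (tt N13484 D13507))
theorem Q10603 : ∀ i, i < 10603 → P i := stepQ 10602 Q10602 (allL N10602 (tt N8227 F17740) (tt N13483 (iv F22951)) (tt N8220 F17741) (tt N13485 D13508) (tt N8219 (iv D10603)) (tt N10365 F17742))
theorem Q10604 : ∀ i, i < 10604 → P i := stepQ 10603 Q10603 (allL N10603 (tt N8222 F17743) (tt N12768 (iv F21586)) (tt N13486 D13509) (tt N8221 (iv D10604)) (tt N12766 (iv F21581)) (tt N13487 D13510))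
theorem Q10605 : ∀ i, i < 10605 → P i := stepQ 10604 Q10604 (allL N10604 (tt N8223 F17744) (tt N12769 (iv F21589)) (tt N8229 F17745) (tt N13487 (iv F22960)) (tt N12951 (iv F21962)) (tt N8221 (iv D10605)))
theorem Q10606 : ∀ i, i < 10606 → P i := stepQ 10605 Q10605 (allL N10605 (tt N13486 (iv F22957)) (tt N13488 D13511) (tt N8222 (iv D10606)) (tt N13489 D13512) (tt N13490 D13513) (tt N13491 D13514))
theorem Q10607 : ∀ i, i < 10607 → P i := stepQ 10606 Q10606 (allL N10606 (tt N12766 (iv F21579)) (tt N8225 F17746) (tt N13490 (iv F22964)) (tt N12765 (iv F21578)) (tt N8222 (iv D10607)) (tt N13492 D13515))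
theorem Q10608 : ∀ i, i < 10608 → P i := stepQ 10607 Q10607 (allL N10607 (tt N13487 (iv F22959)) (tt N8226 F17747) (tt N13491 (iv F22965)) (tt N8223 F17748) (tt N13493 D13516) (tt N8222 (iv D10608)))
theorem Q10609 : ∀ i, i < 10609 → P i := stepQ 10608 Q10608 (allL N10608 (tt N13494 D13517) (tt N8224 (iv D10609)) (tt N13488 (iv F22961)) (tt N13471 (iv F22938)) (tt N13495 D13518) (tt N13470 F22936))
theorem Q10610 : ∀ i, i < 10610 → P i := stepQ 10609 Q10609 (allL N10609 (tt N13480 (iv F22949)) (tt N13495 (iv F22968)) (tt N8225 F17749) (tt N13496 D13519) (tt N8224 (iv D10610)) (tt N13497 D13520))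
theorem Q10611 : ∀ i, i < 10611 → P i := stepQ 10610 Q10610 (allL N10610 (tt N13484 (iv F22954)) (tt N13492 (iv F22966)) (tt N13497 (iv F22969)) (tt N12943 (iv F21942)) (tt N13498 D13521) (tt N8225 (iv D10611)))
theorem Q10612 : ∀ i, i < 10612 → P i := stepQ 10611 Q10611 (allL N10611 (tt N13478 (iv F22947)) (tt N13493 (iv F22967)) (tt N13472 (iv F22940)) (tt N13499 D13522) (tt N8226 (iv D10612)) (tt N13498 (iv F22970)))
theorem Q10613 : ∀ i, i < 10613 → P i := stepQ 10612 Q10612 (allL N10612 (tt N13485 (iv F22955)) (tt N12956 (iv F21972)) (tt N13500 D13523) (tt N8227 (iv D10613)) (tt N13499 (iv F22971)) (tt N12941 (iv F21938)))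
theorem Q10614 : ∀ i, i < 10614 → P i := stepQ 10613 Q10613 (allL N10613 (tt N8230 F17750) (tt N13501 D13524) (tt N8228 (iv D10614)) (tt N13502 D13525) (tt N12952 (iv F21965)) (tt N9233 F17751))
theorem Q10615 : ∀ i, i < 10615 → P i := stepQ 10614 Q10614 (allL N10614 (tt N13502 (iv F22976)) (tt N9232 F17752) (tt N13503 D13526) (tt N8230 (iv D10615)) (tt N13504 D13527) (tt N9234 F17753))
theorem Q10616 : ∀ i, i < 10616 → P i := stepQ 10615 Q10615 (allL N10615 (tt N13505 D13528) (tt N8231 (iv D10616)) (tt N8232 F17754) (tt N13506 D13529) (tt N9052 F17755) (tt N11393 (iv F19111)))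
theorem Q10617 : ∀ i, i < 10617 → P i := stepQ 10616 Q10616 (allL N10616 (tt N8537 F17756) (tt N13506 (iv F22983)) (tt N11403 (iv F19131)) (tt N8231 (iv D10617)) (tt N13507 D13530) (tt N11394 (iv F19114)))
theorem Q10618 : ∀ i, i < 10618 → P i := stepQ 10617 Q10617 (allL N10617 (tt N8232 (iv D10618)) (tt N8255 F17757) (tt N13505 (iv F22981)) (tt N10758 (iv F18032)) (tt N9056 F17758) (tt N11396 (iv F19120)))
theorem Q10619 : ∀ i, i < 10619 → P i := stepQ 10618 Q10618 (allL N10618 (tt N8233 (iv D10619)) (tt N8235 F17759) (tt N11379 (iv F19085)) (tt N8272 (iv F17760)) (tt N12417 (iv F20981)) (tt N8233 (iv F17761)))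
theorem Q10620 : ∀ i, i < 10620 → P i := stepQ 10619 Q10619 (allL N10619 (tt N8272 F17762) (tt N8234 F17763) (tt N8358 (iv F17765)) (tt N8233 (iv D10620)) (tt N13508 D13531) (tt N8272 F17764))
theorem Q10621 : ∀ i, i < 10621 → P i := stepQ 10620 Q10620 (allL N10620 (tt N8240 F17766) (tt N13508 (iv F22987)) (tt N8275 F17767) (tt N12419 (iv F20985)) (tt N8234 (iv D10621)) (tt N13509 D13532))
theorem Q10622 : ∀ i, i < 10622 → P i := stepQ 10621 Q10621 (allL N10621 (tt N8238 F17768) (tt N12417 (iv F20980)) (tt N8236 F17769) (tt N13510 D13533) (tt N8235 (iv D10622)) (tt N12420 (iv F20988)))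
theorem Q10623 : ∀ i, i < 10623 → P i := stepQ 10622 Q10622 (allL N10622 (tt N8273 F17770) (tt N8240 F17771) (tt N8267 F17772) (tt N13511 D13534) (tt N8237 (iv D10623)) (tt N13512 D13535))
theorem Q10624 : ∀ i, i < 10624 → P i := stepQ 10623 Q10623 (allL N10623 (tt N13510 (iv F23002)) (tt N8241 F17773) (tt N13513 D13536) (tt N8238 (iv D10624)) (tt N13511 (iv F23007)) (tt N12427 (iv F20998)))
theorem Q10625 : ∀ i, i < 10625 → P i := stepQ 10624 Q10624 (allL N10624 (tt N12420 (iv F20986)) (tt N8242 F17774) (tt N8243 F17775) (tt N12427 (iv F20997)) (tt N8242 F17776) (tt N8238 (iv D10625)))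
theorem Q10626 : ∀ i, i < 10626 → P i := stepQ 10625 Q10625 (allL N10625 (tt N8352 F17777) (tt N8239 (iv D10626)) (tt N8265 F17778) (tt N8266 F17779) (tt N13514 D13537) (tt N8265 F17780))
theorem Q10627 : ∀ i, i < 10627 → P i := stepQ 10626 Q10626 (allL N10626 (tt N8275 F17781) (tt N13514 (iv F23013)) (tt N8240 F17782) (tt N13515 D13538) (tt N8239 (iv D10627)) (tt N13516 D13539))
theorem Q10628 : ∀ i, i < 10628 → P i := stepQ 10627 Q10627 (allL N10627 (tt N12419 (iv F20984)) (tt N13511 (iv F23006)) (tt N12430 (iv F21001)) (tt N8240 (iv D10628)) (tt N8241 F17783) (tt N13517 D13540))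
theorem Q10629 : ∀ i, i < 10629 → P i := stepQ 10628 Q10628 (allL N10628 (tt N13509 (iv F22998)) (tt N13512 (iv F23009)) (tt N13516 (iv F23019)) (tt N13517 (iv F23021)) (tt N13512 (iv F23011)) (tt N8240 (iv D10629)))
theorem Q10630 : ∀ i, i < 10630 → P i := stepQ 10629 Q10629 (allL N10629 (tt N13518 D13541) (tt N8244 (iv D10630)) (tt N8566 F17784) (tt N9059 F17785) (tt N8246 F17786) (tt N9061 F17787))
theorem Q10631 : ∀ i, i < 10631 → P i := stepQ 10630 Q10630 (allL N10630 (tt N8246 (iv D10631)) (tt N11396 (iv F19118)) (tt N8563 F17788) (tt N8808 F17789) (tt N13518 (iv F23024)) (tt N8255 F17790))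
theorem Q10632 : ∀ i, i < 10632 → P i := stepQ 10631 Q10631 (allL N10631 (tt N13519 D13542) (tt N8247 (iv D10632)) (tt N8249 F17791) (tt N13520 D13543) (tt N9014 F17792) (tt N13521 D13544))
theorem Q10633 : ∀ i, i < 10633 → P i := stepQ 10632 Q10632 (allL N10632 (tt N9608 F17793) (tt N13520 (iv F23029)) (tt N13522 D13545) (tt N8247 (iv D10633)) (tt N13523 D13546) (tt N13524 D13547))
theorem Q10634 : ∀ i, i < 10634 → P i := stepQ 10633 Q10633 (allL N10633 (tt N9609 F17794) (tt N13521 (iv F23030)) (tt N8248 F17795) (tt N13524 (iv F23051)) (tt N10091 F17796) (tt N8247 (iv D10634)))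
theorem Q10635 : ∀ i, i < 10635 → P i := stepQ 10634 Q10634 (allL N10634 (tt N8249 (iv D10635)) (tt N9060 F17797) (tt N13519 (iv F23027)) (tt N13525 D13548) (tt N9016 F17798) (tt N13526 D13549))
theorem Q10636 : ∀ i, i < 10636 → P i := stepQ 10635 Q10635 (allL N10635 (tt N13525 (iv F23053)) (tt N8250 F17799) (tt N13527 D13550) (tt N8249 (iv D10636)) (tt N9058 F17800) (tt N11395 (iv F19117)))
theorem Q10637 : ∀ i, i < 10637 → P i := stepQ 10636 Q10636 (allL N10636 (tt N13526 (iv F23056)) (tt N8251 F17801) (tt N13521 (iv F23031)) (tt N11395 (iv F19115)) (tt N10094 F17802) (tt N8249 (iv D10637)))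
theorem Q10638 : ∀ i, i < 10638 → P i := stepQ 10637 Q10637 (allL N10637 (tt N13528 D13551) (tt N8252 (iv D10638)) (tt N8557 F17803) (tt N9043 F17804) (tt N9061 F17805) (tt N8253 F17806))
theorem Q10639 : ∀ i, i < 10639 → P i := stepQ 10638 Q10638 (allL N10638 (tt N8253 (iv D10639)) (tt N9056 F17807) (tt N8555 F17808) (tt N13529 D13552) (tt N8255 F17809) (tt N13528 (iv F23067)))
theorem Q10640 : ∀ i, i < 10640 → P i := stepQ 10639 Q10639 (allL N10639 (tt N13529 (iv F23068)) (tt N8254 F17810) (tt N13530 D13553) (tt N8253 (iv D10640)) (tt N13361 (iv F22744)) (tt N9043 F17811))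
theorem Q10641 : ∀ i, i < 10641 → P i := stepQ 10640 Q10640 (allL N10640 (tt N8256 F17812) (tt N10758 (iv F18031)) (tt N13531 D13554) (tt N8255 (iv D10641)) (tt N13532 D13555) (tt N8808 F17813))
theorem Q10642 : ∀ i, i < 10642 → P i := stepQ 10641 Q10641 (allL N10641 (tt N13531 (iv F23073)) (tt N8748 F17814) (tt N8256 (iv D10642)) (tt N13533 D13556) (tt N13534 D13557) (tt N8746 F17815))
theorem Q10643 : ∀ i, i < 10643 → P i := stepQ 10642 Q10642 (allL N10642 (tt N13532 (iv F23075)) (tt N8257 F17816) (tt N13534 (iv F23079)) (tt N13361 (iv F22743)) (tt N8256 (iv D10643)) (tt N13363 (iv F22750)))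
theorem Q10644 : ∀ i, i < 10644 → P i := stepQ 10643 Q10643 (allL N10643 (tt N8259 F17817) (tt N13535 D13558) (tt N8258 (iv D10644)) (tt N10777 (iv F18066)) (tt N13355 (iv F22730)) (tt N10745 (iv F18010)))
theorem Q10645 : ∀ i, i < 10645 → P i := stepQ 10644 Q10644 (allL N10644 (tt N13536 D13559) (tt N8259 (iv D10645)) (tt N8260 F17818) (tt N13537 D13560) (tt N13357 (iv F22735)) (tt N10755 (iv F18026)))
theorem Q10646 : ∀ i, i < 10646 → P i := stepQ 10645 Q10645 (allL N10645 (tt N10777 (iv F18065)) (tt N13537 (iv F23082)) (tt N10767 (iv F18051)) (tt N8259 (iv D10646)) (tt N13538 D13561) (tt N10756 (iv F18028)))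
theorem Q10647 : ∀ i, i < 10647 → P i := stepQ 10646 Q10646 (allL N10646 (tt N8260 (iv D10647)) (tt N8808 F17819) (tt N13536 (iv F23081)) (tt N11396 (iv F19119)) (tt N13360 (iv F22741)) (tt N10758 (iv F18033)))
theorem Q10648 : ∀ i, i < 10648 → P i := stepQ 10647 Q10647 (allL N10647 (tt N12752 (iv F21554)) (tt N13539 D13562) (tt N8262 (iv D10648)) (tt N13540 D13563) (tt N12750 (iv F21551)) (tt N13541 D13564))
theorem Q10649 : ∀ i, i < 10649 → P i := stepQ 10648 Q10648 (allL N10648 (tt N12753 (iv F21556)) (tt N13330 (iv F22698)) (tt N13541 (iv F23083)) (tt N8263 F17820) (tt N13542 D13565) (tt N8262 (iv D10649)))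
theorem Q10650 : ∀ i, i < 10650 → P i := stepQ 10649 Q10649 (allL N10649 (tt N8265 F17821) (tt N8269 F17822) (tt N8352 F17823) (tt N8264 (iv D10650)) (tt N13543 D13566) (tt N8352 F17824))
theorem Q10651 : ∀ i, i < 10651 → P i := stepQ 10650 Q10650 (allL N10650 (tt N13543 (iv F23084)) (tt N8267 F17825) (tt N13514 (iv F23014)) (tt N8547 F17826) (tt N8265 (iv D10651)) (tt N13544 D13567))
theorem Q10652 : ∀ i, i < 10652 → P i := stepQ 10651 Q10651 (allL N10651 (tt N8353 F17827) (tt N8268 F17828) (tt N8369 F17829) (tt N13545 D13568) (tt N8266 (iv D10652)) (tt N8498 F17830))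
theorem Q10653 : ∀ i, i < 10653 → P i := stepQ 10652 Q10652 (allL N10652 (tt N8274 F17831) (tt N13544 (iv F23088)) (tt N13512 (iv F23010)) (tt N8548 F17832) (tt N13516 (iv F23020)) (tt N8267 (iv D10653)))
theorem Q10654 : ∀ i, i < 10654 → P i := stepQ 10653 Q10653 (allL N10653 (tt N8276 F17833) (tt N13545 (iv F23091)) (tt N8523 F17835) (tt N8268 (iv D10654)) (tt N13515 (iv F23016)) (tt N8499 F17834))
theorem Q10655 : ∀ i, i < 10655 → P i := stepQ 10654 Q10654 (allL N10654 (tt N8271 F17836) (tt N13543 (iv F23085)) (tt N8343 F17837) (tt N8570 F17838) (tt N8269 (iv D10655)) (tt N13546 D13569))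
theorem Q10656 : ∀ i, i < 10656 → P i := stepQ 10655 Q10655 (allL N10655 (tt N8358 F17839) (tt N8270 (iv D10656)) (tt N8272 F17840) (tt N8335 F17841) (tt N13547 D13570) (tt N8358 F17842))
theorem Q10657 : ∀ i, i < 10657 → P i := stepQ 10656 Q10656 (allL N10656 (tt N8343 F17843) (tt N13547 (iv F23098)) (tt N8271 F17844) (tt N13548 D13571) (tt N8270 (iv D10657)) (tt N13549 D13572))
theorem Q10658 : ∀ i, i < 10658 → P i := stepQ 10657 Q10657 (allL N10657 (tt N13546 (iv F23093)) (tt N8274 F17845) (tt N13549 (iv F23108)) (tt N8574 F17846) (tt N8361 F17847) (tt N8271 (iv D10658)))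
theorem Q10659 : ∀ i, i < 10659 → P i := stepQ 10658 Q10658 (allL N10658 (tt N13508 (iv F22986)) (tt N8273 F17848) (tt N13547 (iv F23099)) (tt N10084 (iv F21125)) (tt N8272 (iv D10659)) (tt N13550 D13573))
theorem Q10660 : ∀ i, i < 10660 → P i := stepQ 10659 Q10659 (allL N10659 (tt N13511 (iv F23005)) (tt N10084 F21124) (tt N12496 (iv F21122)) (tt N8273 (iv D10660)) (tt N13510 (iv F23004)) (tt N12495 F21120))
theorem Q10661 : ∀ i, i < 10661 → P i := stepQ 10660 Q10660 (allL N10660 (tt N13512 (iv F23008)) (tt N13550 (iv F23112)) (tt N8274 F17849) (tt N12495 (iv F21119)) (tt N13509 (iv F23001)) (tt N8273 (iv D10661)))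
theorem Q10662 : ∀ i, i < 10662 → P i := stepQ 10661 Q10661 (allL N10661 (tt N13516 (iv F23018)) (tt N8361 F17850) (tt N13509 (iv F23000)) (tt N13551 D13574) (tt N8274 (iv D10662)) (tt N8275 F17851))
theorem Q10663 : ∀ i, i < 10663 → P i := stepQ 10662 Q10662 (allL N10662 (tt N13515 (iv F23015)) (tt N8360 F17852) (tt N13552 D13575) (tt N8275 (iv D10663)) (tt N8276 F17853) (tt N13551 (iv F23118)))
theorem Q10664 : ∀ i, i < 10664 → P i := stepQ 10663 Q10663 (allL N10663 (tt N8523 F17854) (tt N13553 D13576) (tt N8276 (iv D10664)) (tt N8497 F17856) (tt N13552 (iv F23120)) (tt N8524 F17855))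
theorem Q10665 : ∀ i, i < 10665 → P i := stepQ 10664 Q10664 (allL N10664 (tt N9892 F17857) (tt N8277 (iv D10665)) (tt N8411 F17858) (tt N13554 D13577) (tt N8433 F17859) (tt N10766 (iv F18049)))
theorem Q10666 : ∀ i, i < 10666 → P i := stepQ 10665 Q10665 (allL N10665 (tt N8278 F17860) (tt N13554 (iv F23125)) (tt N10756 (iv F18029)) (tt N8277 (iv D10666)) (tt N13555 D13578) (tt N10767 (iv F18052)))
theorem Q10667 : ∀ i, i < 10667 → P i := stepQ 10666 Q10666 (allL N10666 (tt N10756 (iv F18027)) (tt N13556 D13579) (tt N8278 (iv D10667)) (tt N10745 (iv F18011)) (tt N13557 D13580) (tt N10777 (iv F18067)))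
theorem Q10668 : ∀ i, i < 10668 → P i := stepQ 10667 Q10667 (allL N10667 (tt N13555 (iv F23126)) (tt N9904 F17861) (tt N13557 (iv F23129)) (tt N8436 F17862) (tt N8278 (iv D10668)) (tt N13558 D13581))
theorem Q10669 : ∀ i, i < 10669 → P i := stepQ 10668 Q10668 (allL N10668 (tt N9313 F17863) (tt N8281 F17864) (tt N13559 D13582) (tt N8280 (iv D10669)) (tt N9093 F17865) (tt N13560 D13583))
theorem Q10670 : ∀ i, i < 10670 → P i := stepQ 10669 Q10669 (allL N10669 (tt N9314 F17866) (tt N8282 F17867) (tt N8906 F17868) (tt N13560 (iv F23136)) (tt N9099 F17869) (tt N8280 (iv D10670)))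
theorem Q10671 : ∀ i, i < 10671 → P i := stepQ 10670 Q10670 (allL N10670 (tt N9095 F17870) (tt N13561 D13584) (tt N8281 (iv D10671)) (tt N13562 D13585) (tt N9094 F17871) (tt N13563 D13586))
theorem Q10672 : ∀ i, i < 10672 → P i := stepQ 10671 Q10671 (allL N10671 (tt N9096 F17872) (tt N13560 (iv F23135)) (tt N13563 (iv F23142)) (tt N8282 F17873) (tt N10046 F17874) (tt N8281 (iv D10672)))
theorem Q10673 : ∀ i, i < 10673 → P i := stepQ 10672 Q10672 (allL N10672 (tt N13564 D13587) (tt N8283 (iv D10673)) (tt N8310 F17875) (tt N13565 D13588) (tt N8457 F17876) (tt N11402 (iv F19129)))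
theorem Q10674 : ∀ i, i < 10674 → P i := stepQ 10673 Q10673 (allL N10673 (tt N8285 F17877) (tt N13565 (iv F23148)) (tt N11394 (iv F19113)) (tt N8283 (iv D10674)) (tt N13566 D13589) (tt N11403 (iv F19132)))
theorem Q10675 : ∀ i, i < 10675 → P i := stepQ 10674 Q10674 (allL N10674 (tt N8284 (iv D10675)) (tt N13564 (iv F23144)) (tt N8286 F17878) (tt N13567 D13590) (tt N8461 F17879) (tt N8935 F17880))
theorem Q10676 : ∀ i, i < 10676 → P i := stepQ 10675 Q10675 (allL N10675 (tt N13567 (iv F23152)) (tt N8285 F17881) (tt N13568 D13591) (tt N8284 (iv D10676)) (tt N13569 D13592) (tt N8936 F17882))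
theorem Q10677 : ∀ i, i < 10677 → P i := stepQ 10676 Q10676 (allL N10676 (tt N11394 (iv F19112)) (tt N13570 D13593) (tt N8285 (iv D10677)) (tt N8538 F17884) (tt N13571 D13594) (tt N8537 F17883))
theorem Q10678 : ∀ i, i < 10678 → P i := stepQ 10677 Q10677 (allL N10677 (tt N13566 (iv F23149)) (tt N13569 (iv F23158)) (tt N13571 (iv F23163)) (tt N8464 F17885) (tt N8285 (iv D10678)) (tt N13572 D13595))
theorem Q10679 : ∀ i, i < 10679 → P i := stepQ 10678 Q10678 (allL N10678 (tt N10815 (iv F18140)) (tt N8289 F17886) (tt N10815 (iv F18142)) (tt N13573 D13596) (tt N8287 (iv D10679)) (tt N13574 D13597))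
theorem Q10680 : ∀ i, i < 10680 → P i := stepQ 10679 Q10679 (allL N10679 (tt N11418 (iv F19155)) (tt N8290 F17887) (tt N13575 D13598) (tt N8288 (iv D10680)) (tt N13573 (iv F23167)) (tt N13576 D13599))
theorem Q10681 : ∀ i, i < 10681 → P i := stepQ 10680 Q10680 (allL N10680 (tt N11417 (iv F19152)) (tt N8291 F17888) (tt N11399 (iv F19124)) (tt N13576 (iv F23171)) (tt N11412 (iv F19143)) (tt N8288 (iv D10681)))
theorem Q10682 : ∀ i, i < 10682 → P i := stepQ 10681 Q10681 (allL N10681 (tt N8295 F17889) (tt N13573 (iv F23166)) (tt N13577 D13600) (tt N8289 (iv D10682)) (tt N8290 F17890) (tt N13578 D13601))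
theorem Q10683 : ∀ i, i < 10683 → P i := stepQ 10682 Q10682 (allL N10682 (tt N8296 F17891) (tt N13574 (iv F23168)) (tt N8383 F17892) (tt N13578 (iv F23175)) (tt N8381 F17893) (tt N8289 (iv D10683)))
theorem Q10684 : ∀ i, i < 10684 → P i := stepQ 10683 Q10683 (allL N10683 (tt N8297 F17894) (tt N13579 D13602) (tt N8290 (iv D10684)) (tt N8321 F17895) (tt N13577 (iv F23173)) (tt N8320 (iv F17896)))
theorem Q10685 : ∀ i, i < 10685 → P i := stepQ 10684 Q10684 (allL N10684 (tt N8298 F17897) (tt N13576 (iv F23170)) (tt N8320 F17898) (tt N8291 F17899) (tt N11458 (iv F19231)) (tt N8290 (iv D10685)))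
theorem Q10686 : ∀ i, i < 10686 → P i := stepQ 10685 Q10685 (allL N10685 (tt N13580 D13603) (tt N8292 (iv D10686)) (tt N11402 (iv F19128)) (tt N8408 F17900) (tt N11456 (iv F19226)) (tt N8310 F17901))
theorem Q10687 : ∀ i, i < 10687 → P i := stepQ 10686 Q10686 (allL N10686 (tt N10808 (iv F18120)) (tt N8294 F17902) (tt N10808 (iv F18122)) (tt N13581 D13604) (tt N8293 (iv D10687)) (tt N13582 D13605))
theorem Q10688 : ∀ i, i < 10688 → P i := stepQ 10687 Q10687 (allL N10687 (tt N8384 F17903) (tt N13581 (iv F23182)) (tt N13583 D13606) (tt N8294 (iv D10688)) (tt N8374 F17904) (tt N13584 D13607))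
theorem Q10689 : ∀ i, i < 10689 → P i := stepQ 10688 Q10688 (allL N10688 (tt N8383 F17905) (tt N13582 (iv F23184)) (tt N8296 F17906) (tt N13584 (iv F23189)) (tt N8371 F17907) (tt N8294 (iv D10689)))
theorem Q10690 : ∀ i, i < 10690 → P i := stepQ 10689 Q10689 (allL N10689 (tt N13577 (iv F23172)) (tt N13585 D13608) (tt N8295 (iv D10690)) (tt N13586 D13609) (tt N8297 F17908) (tt N13587 D13610))
theorem Q10691 : ∀ i, i < 10691 → P i := stepQ 10690 Q10690 (allL N10690 (tt N13578 (iv F23174)) (tt N11440 (iv F19203)) (tt N13587 (iv F23191)) (tt N8296 F17909) (tt N11432 (iv F19184)) (tt N8295 (iv D10691)))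
theorem Q10692 : ∀ i, i < 10692 → P i := stepQ 10691 Q10691 (allL N10691 (tt N13588 D13611) (tt N8297 (iv D10692)) (tt N11448 (iv F19219)) (tt N13589 D13612) (tt N13585 (iv F23190)) (tt N13590 D13613))
theorem Q10693 : ∀ i, i < 10693 → P i := stepQ 10692 Q10692 (allL N10692 (tt N8321 F17910) (tt N13589 (iv F23192)) (tt N8305 F17911) (tt N8297 (iv D10693)) (tt N13591 D13614) (tt N8304 F17912))
theorem Q10694 : ∀ i, i < 10694 → P i := stepQ 10693 Q10693 (allL N10693 (tt N8320 F17913) (tt N13590 (iv F23194)) (tt N8298 F17914) (tt N8304 F17915) (tt N11457 (iv F19228)) (tt N8297 (iv D10694)))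
theorem Q10695 : ∀ i, i < 10695 → P i := stepQ 10694 Q10694 (allL N10694 (tt N11458 (iv F19230)) (tt N11446 (iv F19216)) (tt N11457 (iv F19229)) (tt N11433 (iv F19188)) (tt N8298 (iv D10695)) (tt N11432 F19185))
theorem Q10696 : ∀ i, i < 10696 → P i := stepQ 10695 Q10695 (allL N10695 (tt N8299 (iv D10696)) (tt N13580 (iv F23178)) (tt N8301 F17916) (tt N13592 D13615) (tt N11163 (iv F18706)) (tt N8328 F17917))
theorem Q10697 : ∀ i, i < 10697 → P i := stepQ 10696 Q10696 (allL N10696 (tt N13592 (iv F23199)) (tt N8300 F17918) (tt N13593 D13616) (tt N8299 (iv D10697)) (tt N8319 (iv F17920)) (tt N8329 F17919))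
theorem Q10698 : ∀ i, i < 10698 → P i := stepQ 10697 Q10697 (allL N10697 (tt N9520 F17921) (tt N13594 D13617) (tt N8302 (iv D10698)) (tt N13595 D13618) (tt N8407 F17922) (tt N13596 D13619))
theorem Q10699 : ∀ i, i < 10699 → P i := stepQ 10698 Q10698 (allL N10698 (tt N9521 F17923) (tt N8305 F17924) (tt N13596 (iv F23212)) (tt N8303 F17925) (tt N13597 D13620) (tt N8302 (iv D10699)))
theorem Q10700 : ∀ i, i < 10700 → P i := stepQ 10699 Q10699 (allL N10699 (tt N13598 D13621) (tt N8304 (iv D10700)) (tt N13594 (iv F23206)) (tt N13590 (iv F23195)) (tt N8408 F17926) (tt N13589 F23193))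
theorem Q10701 : ∀ i, i < 10701 → P i := stepQ 10700 Q10700 (allL N10700 (tt N8322 F17927) (tt N13597 (iv F23215)) (tt N13591 (iv F23197)) (tt N13599 D13622) (tt N8305 (iv D10701)) (tt N8391 F17928))
theorem Q10702 : ∀ i, i < 10702 → P i := stepQ 10701 Q10701 (allL N10701 (tt N8323 F17929) (tt N8486 F17930) (tt N13600 D13623) (tt N8306 (iv D10702)) (tt N13599 (iv F23222)) (tt N8307 F17931))
theorem Q10703 : ∀ i, i < 10703 → P i := stepQ 10702 Q10702 (allL N10702 (tt N8324 F17932) (tt N13601 D13624) (tt N8307 (iv D10703)) (tt N13602 D13625) (tt N8405 F17933) (tt N13600 (iv F23225)))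
theorem Q10704 : ∀ i, i < 10704 → P i := stepQ 10703 Q10703 (allL N10703 (tt N8325 F17934) (tt N13603 D13626) (tt N8308 (iv D10704)) (tt N13604 D13627) (tt N11183 (iv F18742)) (tt N8309 F17935))
theorem Q10705 : ∀ i, i < 10705 → P i := stepQ 10704 Q10704 (allL N10704 (tt N13605 D13628) (tt N8309 (iv D10705)) (tt N8457 F17936) (tt N13606 D13629) (tt N8310 F17937) (tt N13603 (iv F23234)))
theorem Q10706 : ∀ i, i < 10706 → P i := stepQ 10705 Q10705 (allL N10705 (tt N8327 F17938) (tt N13606 (iv F23242)) (tt N13607 D13630) (tt N8309 (iv D10706)) (tt N13608 D13631) (tt N13604 (iv F23237)))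
theorem Q10707 : ∀ i, i < 10707 → P i := stepQ 10706 Q10706 (allL N10706 (tt N8310 (iv D10707)) (tt N8328 F17939) (tt N13564 (iv F23145)) (tt N13609 D13632) (tt N13605 (iv F23240)) (tt N13580 (iv F23181)))
theorem Q10708 : ∀ i, i < 10708 → P i := stepQ 10707 Q10707 (allL N10707 (tt N13609 (iv F23248)) (tt N8311 F17940) (tt N13610 D13633) (tt N8310 (iv D10708)) (tt N13611 D13634) (tt N8408 F17941))
theorem Q10709 : ∀ i, i < 10709 → P i := stepQ 10708 Q10708 (allL N10708 (tt N8330 F17942) (tt N13611 (iv F23253)) (tt N8391 F17943) (tt N13608 (iv F23247)) (tt N8311 (iv D10709)) (tt N13591 (iv F23198)))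
theorem Q10710 : ∀ i, i < 10710 → P i := stepQ 10709 Q10709 (allL N10709 (tt N9355 F17944) (tt N13593 (iv F23203)) (tt N8312 (iv D10710)) (tt N13612 D13635) (tt N8314 F17945) (tt N13613 D13636))
theorem Q10711 : ∀ i, i < 10711 → P i := stepQ 10710 Q10710 (allL N10710 (tt N9356 F17946) (tt N8316 F17947) (tt N13613 (iv F23259)) (tt N8313 F17948) (tt N13614 D13637) (tt N8312 (iv D10711)))
theorem Q10712 : ∀ i, i < 10712 → P i := stepQ 10711 Q10711 (allL N10711 (tt N13615 D13638) (tt N8314 (iv D10712)) (tt N8319 F17949) (tt N13616 D13639) (tt N13593 (iv F23204)) (tt N13617 D13640))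
theorem Q10713 : ∀ i, i < 10713 → P i := stepQ 10712 Q10712 (allL N10712 (tt N9907 F17950) (tt N13616 (iv F23267)) (tt N9407 F17951) (tt N8314 (iv D10713)) (tt N13618 D13641) (tt N9406 (iv F17952)))
theorem Q10714 : ∀ i, i < 10714 → P i := stepQ 10713 Q10713 (allL N10713 (tt N9908 F17953) (tt N13617 (iv F23269)) (tt N8315 F17954) (tt N9406 F17955) (tt N13619 D13642) (tt N8314 (iv D10714)))
theorem Q10715 : ∀ i, i < 10715 → P i := stepQ 10714 Q10714 (allL N10714 (tt N9909 F17956) (tt N8322 F17957) (tt N13619 (iv F23278)) (tt N8446 F17958) (tt N8315 (iv D10715)) (tt N13614 (iv F23264)))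
theorem Q10716 : ∀ i, i < 10716 → P i := stepQ 10715 Q10715 (allL N10715 (tt N8391 F17959) (tt N13614 (iv F23262)) (tt N8330 F17960) (tt N13620 D13643) (tt N8316 (iv D10716)) (tt N8322 F17961))
theorem Q10717 : ∀ i, i < 10717 → P i := stepQ 10716 Q10716 (allL N10716 (tt N8388 F17962) (tt N8442 F17963) (tt N13621 D13644) (tt N8317 (iv D10717)) (tt N13620 (iv F23281)) (tt N8318 F17964))
theorem Q10718 : ∀ i, i < 10718 → P i := stepQ 10717 Q10717 (allL N10717 (tt N8405 F17965) (tt N13622 D13645) (tt N8318 (iv D10718)) (tt N8387 F17967) (tt N8324 F17966) (tt N13621 (iv F23285)))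
theorem Q10719 : ∀ i, i < 10719 → P i := stepQ 10718 Q10718 (allL N10718 (tt N8319 (iv D10719)) (tt N13598 (iv F23218)) (tt N13615 (iv F23266)) (tt N11271 F18889) (tt N13592 (iv F23201)) (tt N13623 D13646))
theorem Q10720 : ∀ i, i < 10720 → P i := stepQ 10719 Q10719 (allL N10719 (tt N11271 (iv F18887)) (tt N8320 F17968) (tt N11256 (iv F18871)) (tt N8319 (iv D10720)) (tt N11170 (iv F18719)) (tt N13579 (iv F23177)))
theorem Q10721 : ∀ i, i < 10721 → P i := stepQ 10720 Q10720 (allL N10720 (tt N13623 (iv F23289)) (tt N8321 F17969) (tt N13617 (iv F23270)) (tt N13579 (iv F23176)) (tt N13624 D13647) (tt N8319 (iv D10721)))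
theorem Q10722 : ∀ i, i < 10722 → P i := stepQ 10721 Q10721 (allL N10721 (tt N13591 (iv F23196)) (tt N13624 (iv F23290)) (tt N8322 F17970) (tt N13625 D13648) (tt N8321 (iv D10722)) (tt N8330 F17971))
theorem Q10723 : ∀ i, i < 10723 → P i := stepQ 10722 Q10722 (allL N10722 (tt N13599 (iv F23220)) (tt N8446 F17972) (tt N13626 D13649) (tt N8322 (iv D10723)) (tt N8323 F17973) (tt N13620 (iv F23282)))
theorem Q10724 : ∀ i, i < 10724 → P i := stepQ 10723 Q10723 (allL N10723 (tt N13600 (iv F23224)) (tt N13627 D13650) (tt N8323 (iv D10724)) (tt N13607 (iv F23244)) (tt N13626 (iv F23293)) (tt N8324 F17974))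
theorem Q10725 : ∀ i, i < 10725 → P i := stepQ 10724 Q10724 (allL N10724 (tt N13628 D13651) (tt N8324 (iv D10725)) (tt N8443 F17975) (tt N13629 D13652) (tt N13622 (iv F23288)) (tt N13627 (iv F23295)))
theorem Q10726 : ∀ i, i < 10726 → P i := stepQ 10725 Q10725 (allL N10725 (tt N13602 (iv F23229)) (tt N13629 (iv F23297)) (tt N13604 (iv F23236)) (tt N8324 (iv D10726)) (tt N13630 D13653) (tt N13607 (iv F23245)))
theorem Q10727 : ∀ i, i < 10727 → P i := stepQ 10726 Q10726 (allL N10726 (tt N13604 (iv F23235)) (tt N8981 F17976) (tt N13602 (iv F23231)) (tt N8325 (iv D10727)) (tt N13631 D13654) (tt N8327 F17977))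
theorem Q10728 : ∀ i, i < 10728 → P i := stepQ 10727 Q10727 (allL N10727 (tt N8326 (iv D10728)) (tt N13605 (iv F23238)) (tt N8332 F17978) (tt N13632 D13655) (tt N8328 F17979) (tt N8980 F17980))
theorem Q10729 : ∀ i, i < 10729 → P i := stepQ 10728 Q10728 (allL N10728 (tt N13632 (iv F23300)) (tt N8327 F17981) (tt N13633 D13656) (tt N8326 (iv D10729)) (tt N13634 D13657) (tt N8981 F17982))
theorem Q10730 : ∀ i, i < 10730 → P i := stepQ 10729 Q10729 (allL N10729 (tt N13607 (iv F23243)) (tt N13635 D13658) (tt N8327 (iv D10730)) (tt N13600 (iv F23226)) (tt N13636 D13659) (tt N13602 (iv F23230)))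
theorem Q10731 : ∀ i, i < 10731 → P i := stepQ 10730 Q10730 (allL N10730 (tt N13608 (iv F23246)) (tt N13634 (iv F23306)) (tt N13636 (iv F23308)) (tt N8330 F17983) (tt N8327 (iv D10731)) (tt N13625 (iv F23292)))
theorem Q10732 : ∀ i, i < 10732 → P i := stepQ 10731 Q10731 (allL N10731 (tt N8329 F17984) (tt N13609 (iv F23249)) (tt N13637 D13660) (tt N8328 (iv D10732)) (tt N13638 D13661) (tt N13592 (iv F23202)))
theorem Q10733 : ∀ i, i < 10733 → P i := stepQ 10732 Q10732 (allL N10732 (tt N13637 (iv F23309)) (tt N13613 (iv F23258)) (tt N8329 (iv D10733)) (tt N13639 D13662) (tt N13640 D13663) (tt N13593 (iv F23205)))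
theorem Q10734 : ∀ i, i < 10734 → P i := stepQ 10733 Q10733 (allL N10733 (tt N13638 (iv F23311)) (tt N8330 F17985) (tt N13640 (iv F23315)) (tt N13634 (iv F23307)) (tt N8329 (iv D10734)) (tt N13624 (iv F23291)))
theorem Q10735 : ∀ i, i < 10735 → P i := stepQ 10734 Q10734 (allL N10734 (tt N9406 F17986) (tt N13641 D13664) (tt N8331 (iv D10735)) (tt N9908 F17987) (tt N13642 D13665) (tt N9907 F17988))
theorem Q10736 : ∀ i, i < 10736 → P i := stepQ 10735 Q10735 (allL N10735 (tt N9404 F17989) (tt N8680 F17990) (tt N13642 (iv F23320)) (tt N8447 F17991) (tt N8331 (iv D10736)) (tt N13643 D13666))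
theorem Q10737 : ∀ i, i < 10737 → P i := stepQ 10736 Q10736 (allL N10736 (tt N8334 F17992) (tt N13644 D13667) (tt N8333 (iv D10737)) (tt N13645 D13668) (tt N11162 (iv F18704)) (tt N8720 F17993))
theorem Q10738 : ∀ i, i < 10738 → P i := stepQ 10737 Q10737 (allL N10737 (tt N13645 (iv F23327)) (tt N8729 F17994) (tt N13646 D13669) (tt N8334 (iv D10738)) (tt N13647 D13670) (tt N8722 F17995))
theorem Q10739 : ∀ i, i < 10739 → P i := stepQ 10738 Q10738 (allL N10738 (tt N8335 (iv D10739)) (tt N8337 F17996) (tt N11301 (iv F18960)) (tt N8358 F17997) (tt N13648 D13671) (tt N8335 (iv F17998)))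
theorem Q10740 : ∀ i, i < 10740 → P i := stepQ 10739 Q10739 (allL N10739 (tt N13648 (iv F23331)) (tt N8336 F17999) (tt N11303 (iv F18968)) (tt N13649 D13672) (tt N8335 (iv D10740)) (tt N13650 D13673))
theorem Q10741 : ∀ i, i < 10741 → P i := stepQ 10740 Q10740 (allL N10740 (tt N8344 F18000) (tt N13649 (iv F23343)) (tt N13651 D13674) (tt N8336 (iv D10741)) (tt N13548 (iv F23104)) (tt N13652 D13675))
theorem Q10742 : ∀ i, i < 10742 → P i := stepQ 10741 Q10741 (allL N10741 (tt N8345 F18001) (tt N13650 (iv F23348)) (tt N8338 F18002) (tt N13652 (iv F23357)) (tt N13653 D13676) (tt N8336 (iv D10742)))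
theorem Q10743 : ∀ i, i < 10743 → P i := stepQ 10742 Q10742 (allL N10742 (tt N8342 F18003) (tt N13648 (iv F23332)) (tt N8339 F18004) (tt N13654 D13677) (tt N8337 (iv D10743)) (tt N13653 (iv F23367)))
theorem Q10744 : ∀ i, i < 10744 → P i := stepQ 10743 Q10743 (allL N10743 (tt N8346 F18005) (tt N11308 (iv F18977)) (tt N13653 (iv F23365)) (tt N13655 D13678) (tt N8338 (iv D10744)) (tt N8339 F18006))
theorem Q10745 : ∀ i, i < 10745 → P i := stepQ 10744 Q10744 (allL N10744 (tt N8347 F18007) (tt N11253 (iv F18864)) (tt N13656 D13679) (tt N8339 (iv D10745)) (tt N8340 F18008) (tt N13655 (iv F23375)))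
theorem Q10746 : ∀ i, i < 10746 → P i := stepQ 10745 Q10745 (allL N10745 (tt N8348 F18009) (tt N13657 D13680) (tt N8340 (iv D10746)) (tt N10666 F18011) (tt N13656 (iv F23377)) (tt N10643 F18010))
theorem Q10747 : ∀ i, i < 10747 → P i := stepQ 10746 Q10746 (allL N10746 (tt N8359 F18012) (tt N8343 F18013) (tt N8354 F18014) (tt N13658 D13681) (tt N8341 (iv D10747)) (tt N13659 D13682))
theorem Q10748 : ∀ i, i < 10748 → P i := stepQ 10747 Q10747 (allL N10747 (tt N13654 (iv F23368)) (tt N8344 F18015) (tt N13660 D13683) (tt N8342 (iv D10748)) (tt N13658 (iv F23382)) (tt N13661 D13684))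
theorem Q10749 : ∀ i, i < 10749 → P i := stepQ 10748 Q10748 (allL N10748 (tt N13653 (iv F23363)) (tt N8345 F18016) (tt N8346 F18017) (tt N13661 (iv F23396)) (tt N8345 F18018) (tt N8342 (iv D10749)))
theorem Q10750 : ∀ i, i < 10750 → P i := stepQ 10749 Q10749 (allL N10749 (tt N13548 (iv F23102)) (tt N13658 (iv F23381)) (tt N13662 D13685) (tt N8343 (iv D10750)) (tt N8344 F18019) (tt N13663 D13686))
theorem Q10751 : ∀ i, i < 10751 → P i := stepQ 10750 Q10750 (allL N10750 (tt N13549 (iv F23106)) (tt N13659 (iv F23386)) (tt N13546 (iv F23094)) (tt N13663 (iv F23401)) (tt N13659 (iv F23389)) (tt N8343 (iv D10751)))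
theorem Q10752 : ∀ i, i < 10752 → P i := stepQ 10751 Q10751 (allL N10751 (tt N13651 (iv F23351)) (tt N13664 D13687) (tt N8344 (iv D10752)) (tt N13665 D13688) (tt N13662 (iv F23398)) (tt N13666 D13689))
theorem Q10753 : ∀ i, i < 10753 → P i := stepQ 10752 Q10752 (allL N10752 (tt N13652 (iv F23354)) (tt N13661 (iv F23394)) (tt N13666 (iv F23407)) (tt N8345 F18020) (tt N13667 D13690) (tt N8344 (iv D10753)))
theorem Q10754 : ∀ i, i < 10754 → P i := stepQ 10753 Q10753 (allL N10753 (tt N13655 (iv F23373)) (tt N8350 F18021) (tt N13668 D13691) (tt N8346 (iv D10754)) (tt N10497 F18022) (tt N8347 F18023))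
theorem Q10755 : ∀ i, i < 10755 → P i := stepQ 10754 Q10754 (allL N10754 (tt N13656 (iv F23376)) (tt N13669 D13692) (tt N8347 (iv D10755)) (tt N13670 D13693) (tt N8348 F18024) (tt N13668 (iv F23414)))
theorem Q10756 : ∀ i, i < 10756 → P i := stepQ 10755 Q10755 (allL N10755 (tt N13671 D13694) (tt N8348 (iv D10756)) (tt N8351 F18025) (tt N13672 D13695) (tt N13669 (iv F23416)) (tt N10644 F18026))
theorem Q10757 : ∀ i, i < 10757 → P i := stepQ 10756 Q10756 (allL N10756 (tt N10666 F18027) (tt N13672 (iv F23424)) (tt N10665 F18029) (tt N8348 (iv D10757)) (tt N13673 D13696) (tt N10645 F18028))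
theorem Q10758 : ∀ i, i < 10758 → P i := stepQ 10757 Q10757 (allL N10757 (tt N13674 D13697) (tt N8349 (iv D10758)) (tt N13669 (iv F23415)) (tt N11333 (iv F19018)) (tt N8351 F18030) (tt N11332 F19016))
theorem Q10759 : ∀ i, i < 10759 → P i := stepQ 10758 Q10758 (allL N10758 (tt N8351 (iv D10759)) (tt N10640 F18031) (tt N13671 (iv F23422)) (tt N10617 F18032) (tt N13674 (iv F23431)) (tt N10646 F18033))
theorem Q10760 : ∀ i, i < 10760 → P i := stepQ 10759 Q10759 (allL N10759 (tt N13514 (iv F23012)) (tt N8354 F18034) (tt N13543 (iv F23086)) (tt N13675 D13698) (tt N8352 (iv D10760)) (tt N13676 D13699))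
theorem Q10761 : ∀ i, i < 10761 → P i := stepQ 10760 Q10760 (allL N10760 (tt N13545 (iv F23090)) (tt N8355 F18035) (tt N13677 D13700) (tt N8353 (iv D10761)) (tt N13675 (iv F23433)) (tt N13678 D13701))
theorem Q10762 : ∀ i, i < 10762 → P i := stepQ 10761 Q10761 (allL N10761 (tt N8498 F18036) (tt N8356 F18037) (tt N10810 (iv F18127)) (tt N13678 (iv F23437)) (tt N8500 F18038) (tt N8353 (iv D10762)))
theorem Q10763 : ∀ i, i < 10763 → P i := stepQ 10762 Q10762 (allL N10762 (tt N8360 F18039) (tt N13675 (iv F23432)) (tt N13679 D13702) (tt N8354 (iv D10763)) (tt N8355 F18040) (tt N13680 D13703))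
theorem Q10764 : ∀ i, i < 10764 → P i := stepQ 10763 Q10763 (allL N10763 (tt N8361 F18041) (tt N13676 (iv F23434)) (tt N13659 (iv F23387)) (tt N13680 (iv F23445)) (tt N13546 (iv F23096)) (tt N8354 (iv D10764)))
theorem Q10765 : ∀ i, i < 10765 → P i := stepQ 10764 Q10764 (allL N10764 (tt N8362 F18042) (tt N13681 D13704) (tt N8355 (iv D10765)) (tt N9873 F18043) (tt N13679 (iv F23439)) (tt N9879 (iv F18044)))
theorem Q10766 : ∀ i, i < 10766 → P i := stepQ 10765 Q10765 (allL N10765 (tt N8363 F18045) (tt N13678 (iv F23436)) (tt N9879 F18046) (tt N8356 F18047) (tt N13682 D13705) (tt N8355 (iv D10766)))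
theorem Q10767 : ∀ i, i < 10767 → P i := stepQ 10766 Q10766 (allL N10766 (tt N10829 (iv F18167)) (tt N8357 (iv D10767)) (tt N10806 (iv F18112)) (tt N13683 D13706) (tt N8578 F18048) (tt N10664 F18049))
theorem Q10768 : ∀ i, i < 10768 → P i := stepQ 10767 Q10767 (allL N10767 (tt N8364 F18050) (tt N13683 (iv F23452)) (tt N10645 F18051) (tt N8357 (iv D10768)) (tt N13684 D13707) (tt N10665 F18052))
theorem Q10769 : ∀ i, i < 10769 → P i := stepQ 10768 Q10768 (allL N10768 (tt N13547 (iv F23097)) (tt N8359 F18053) (tt N13508 (iv F22988)) (tt N10085 F22990) (tt N8358 (iv D10769)) (tt N10087 F22991))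
theorem Q10770 : ∀ i, i < 10770 → P i := stepQ 10769 Q10769 (allL N10769 (tt N13658 (iv F23380)) (tt N10085 F22995) (tt N9057 F22996) (tt N8359 (iv D10770)) (tt N13654 (iv F23370)) (tt N10086 F22997))
theorem Q10771 : ∀ i, i < 10771 → P i := stepQ 10770 Q10770 (allL N10770 (tt N13659 (iv F23385)) (tt N10087 F22992) (tt N8361 F18054) (tt N10086 F22993) (tt N13549 (iv F23110)) (tt N8359 (iv D10771)))
theorem Q10772 : ∀ i, i < 10772 → P i := stepQ 10771 Q10771 (allL N10771 (tt N13679 (iv F23438)) (tt N13685 D13708) (tt N8360 (iv D10772)) (tt N13686 D13709) (tt N8362 F18055) (tt N13687 D13710))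
theorem Q10773 : ∀ i, i < 10773 → P i := stepQ 10772 Q10772 (allL N10772 (tt N13680 (iv F23443)) (tt N13551 (iv F23116)) (tt N13687 (iv F23462)) (tt N8361 F18056) (tt N13688 D13711) (tt N8360 (iv D10773)))
theorem Q10774 : ∀ i, i < 10774 → P i := stepQ 10773 Q10773 (allL N10773 (tt N13689 D13712) (tt N8362 (iv D10774)) (tt N13553 (iv F23121)) (tt N13690 D13713) (tt N13685 (iv F23457)) (tt N13691 D13714))
theorem Q10775 : ∀ i, i < 10775 → P i := stepQ 10774 Q10774 (allL N10774 (tt N9873 F18057) (tt N13690 (iv F23467)) (tt N9872 F18058) (tt N8362 (iv D10775)) (tt N13692 D13715) (tt N9876 F18059))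
theorem Q10776 : ∀ i, i < 10776 → P i := stepQ 10775 Q10775 (allL N10775 (tt N9879 F18060) (tt N13691 (iv F23469)) (tt N8363 F18061) (tt N9876 F18062) (tt N13693 D13716) (tt N8362 (iv D10776)))
theorem Q10777 : ∀ i, i < 10777 → P i := stepQ 10776 Q10776 (allL N10776 (tt N13682 (iv F23449)) (tt N8525 F18063) (tt N13693 (iv F23475)) (tt N8528 F18064) (tt N8363 (iv D10777)) (tt N13688 (iv F23466)))
theorem Q10778 : ∀ i, i < 10778 → P i := stepQ 10777 Q10777 (allL N10777 (tt N10645 F18065) (tt N13694 D13717) (tt N8364 (iv D10778)) (tt N10643 F18066) (tt N13695 D13718) (tt N10666 F18067))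
theorem Q10779 : ∀ i, i < 10779 → P i := stepQ 10778 Q10778 (allL N10778 (tt N13684 (iv F23454)) (tt N10832 (iv F18174)) (tt N13695 (iv F23479)) (tt N8581 F18068) (tt N8364 (iv D10779)) (tt N13696 D13719))
theorem Q10780 : ∀ i, i < 10780 → P i := stepQ 10779 Q10779 (allL N10779 (tt N8367 F18069) (tt N8375 F18070) (tt N13697 D13720) (tt N8365 (iv D10780)) (tt N11434 (iv F19192)) (tt N12301 (iv F20807)))
theorem Q10781 : ∀ i, i < 10781 → P i := stepQ 10780 Q10780 (allL N10780 (tt N11434 (iv F19190)) (tt N8370 F18071) (tt N13698 D13721) (tt N8366 (iv D10781)) (tt N8367 F18072) (tt N13699 D13722))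
theorem Q10782 : ∀ i, i < 10782 → P i := stepQ 10781 Q10781 (allL N10781 (tt N11435 (iv F19193)) (tt N8371 F18073) (tt N11435 (iv F19195)) (tt N13699 (iv F23486)) (tt N13582 (iv F23185)) (tt N8366 (iv D10782)))
theorem Q10783 : ∀ i, i < 10783 → P i := stepQ 10782 Q10782 (allL N10782 (tt N13697 (iv F23482)) (tt N8378 F18074) (tt N8367 (iv D10783)) (tt N12293 (iv F20795)) (tt N13698 (iv F23484)) (tt N12303 (iv F20810)))
theorem Q10784 : ∀ i, i < 10784 → P i := stepQ 10783 Q10783 (allL N10783 (tt N12301 (iv F20805)) (tt N8372 F18075) (tt N12303 (iv F20809)) (tt N8368 F18076) (tt N13700 D13723) (tt N8367 (iv D10784)))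
theorem Q10785 : ∀ i, i < 10785 → P i := stepQ 10784 Q10784 (allL N10784 (tt N10810 (iv F18125)) (tt N8373 F18077) (tt N8498 F18078) (tt N13701 D13724) (tt N8368 (iv D10785)) (tt N8369 F18079))
theorem Q10786 : ∀ i, i < 10786 → P i := stepQ 10785 Q10785 (allL N10785 (tt N10809 (iv F18123)) (tt N8374 F18080) (tt N13702 D13725) (tt N8369 (iv D10786)) (tt N13581 (iv F23183)) (tt N13701 (iv F23489)))
theorem Q10787 : ∀ i, i < 10787 → P i := stepQ 10786 Q10786 (allL N10786 (tt N8382 F18081) (tt N13699 (iv F23485)) (tt N8382 F18082) (tt N8371 F18083) (tt N13703 D13726) (tt N8370 (iv D10787)))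
theorem Q10788 : ∀ i, i < 10788 → P i := stepQ 10787 Q10787 (allL N10787 (tt N8385 F18084) (tt N13700 (iv F23487)) (tt N8385 F18085) (tt N13704 D13727) (tt N8372 (iv D10788)) (tt N13703 (iv F23492)))
theorem Q10789 : ∀ i, i < 10789 → P i := stepQ 10788 Q10788 (allL N10788 (tt N8386 F18086) (tt N13701 (iv F23488)) (tt N13705 D13728) (tt N8373 (iv D10789)) (tt N13704 (iv F23494)) (tt N8374 F18087))
theorem Q10790 : ∀ i, i < 10790 → P i := stepQ 10789 Q10789 (allL N10789 (tt N8387 F18088) (tt N13706 D13729) (tt N8374 (iv D10790)) (tt N8405 F18089) (tt N13583 (iv F23187)) (tt N13705 (iv F23497)))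
theorem Q10791 : ∀ i, i < 10791 → P i := stepQ 10790 Q10790 (allL N10790 (tt N11436 (iv F19196)) (tt N13698 (iv F23483)) (tt N8376 (iv D10791)) (tt N13707 D13730) (tt N8378 F18090) (tt N13708 D13731))
theorem Q10792 : ∀ i, i < 10792 → P i := stepQ 10791 Q10791 (allL N10791 (tt N11437 (iv F19198)) (tt N8382 F18091) (tt N13708 (iv F23499)) (tt N8377 F18092) (tt N12305 (iv F20813)) (tt N8376 (iv D10792)))
theorem Q10793 : ∀ i, i < 10793 → P i := stepQ 10792 Q10792 (allL N10792 (tt N11413 (iv F19144)) (tt N8380 F18093) (tt N13709 D13732) (tt N8379 (iv D10793)) (tt N11411 (iv F19140)) (tt N13710 D13733))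
theorem Q10794 : ∀ i, i < 10794 → P i := stepQ 10793 Q10793 (allL N10793 (tt N11414 (iv F19147)) (tt N8381 F18094) (tt N11414 (iv F19149)) (tt N13710 (iv F23501)) (tt N13574 (iv F23169)) (tt N8379 (iv D10794)))
theorem Q10795 : ∀ i, i < 10795 → P i := stepQ 10794 Q10794 (allL N10794 (tt N11430 (iv F19176)) (tt N13710 (iv F23500)) (tt N8380 (iv D10795)) (tt N8381 F18095) (tt N11428 (iv F19173)) (tt N8380 (iv F18096)))
theorem Q10796 : ∀ i, i < 10796 → P i := stepQ 10795 Q10795 (allL N10795 (tt N13703 (iv F23490)) (tt N12305 (iv F20812)) (tt N13703 (iv F23491)) (tt N13711 D13734) (tt N8382 (iv D10796)) (tt N8385 F18097))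
theorem Q10797 : ∀ i, i < 10797 → P i := stepQ 10796 Q10796 (allL N10796 (tt N13584 (iv F23188)) (tt N10819 (iv F18149)) (tt N13712 D13735) (tt N8383 (iv D10797)) (tt N13711 (iv F23502)) (tt N8384 F18098))
theorem Q10798 : ∀ i, i < 10798 → P i := stepQ 10797 Q10797 (allL N10797 (tt N13583 (iv F23186)) (tt N13713 D13736) (tt N8384 (iv D10798)) (tt N13630 (iv F23298)) (tt N8387 F18099) (tt N13712 (iv F23504)))
theorem Q10799 : ∀ i, i < 10799 → P i := stepQ 10798 Q10798 (allL N10798 (tt N13704 (iv F23493)) (tt N10823 (iv F18158)) (tt N13714 D13737) (tt N8385 (iv D10799)) (tt N8386 F18100) (tt N13711 (iv F23503)))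
theorem Q10800 : ∀ i, i < 10800 → P i := stepQ 10799 Q10799 (allL N10799 (tt N13705 (iv F23495)) (tt N13715 D13738) (tt N8386 (iv D10800)) (tt N13621 (iv F23284)) (tt N13714 (iv F23506)) (tt N8387 F18101))
theorem Q10801 : ∀ i, i < 10801 → P i := stepQ 10800 Q10800 (allL N10800 (tt N13716 D13739) (tt N8387 (iv D10801)) (tt N10820 (iv F18151)) (tt N13622 (iv F23287)) (tt N13713 (iv F23505)) (tt N13715 (iv F23507)))
theorem Q10802 : ∀ i, i < 10802 → P i := stepQ 10801 Q10801 (allL N10801 (tt N13621 (iv F23283)) (tt N13717 D13740) (tt N8388 (iv D10802)) (tt N13705 (iv F23496)) (tt N13718 D13741) (tt N8405 F18102))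
theorem Q10803 : ∀ i, i < 10803 → P i := stepQ 10802 Q10802 (allL N10802 (tt N13620 (iv F23279)) (tt N8490 F18103) (tt N13718 (iv F23510)) (tt N8391 F18104) (tt N8388 (iv D10803)) (tt N13599 (iv F23223)))
theorem Q10804 : ∀ i, i < 10804 → P i := stepQ 10803 Q10803 (allL N10803 (tt N8390 F18105) (tt N9356 F18106) (tt N13719 D13742) (tt N8389 (iv D10804)) (tt N13720 D13743) (tt N8406 F18107))
theorem Q10805 : ∀ i, i < 10805 → P i := stepQ 10804 Q10804 (allL N10804 (tt N13719 (iv F23511)) (tt N13610 (iv F23251)) (tt N8390 (iv D10805)) (tt N13721 D13744) (tt N13722 D13745) (tt N8407 F18108))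
theorem Q10806 : ∀ i, i < 10806 → P i := stepQ 10805 Q10805 (allL N10805 (tt N13720 (iv F23514)) (tt N8391 F18109) (tt N13722 (iv F23521)) (tt N8490 F18110) (tt N8390 (iv D10806)) (tt N13597 (iv F23217)))
theorem Q10807 : ∀ i, i < 10807 → P i := stepQ 10806 Q10806 (allL N10806 (tt N8530 F18111) (tt N8392 (iv D10807)) (tt N10766 F18112) (tt N8932 F18113) (tt N9308 F18114) (tt N8411 F18115))
theorem Q10808 : ∀ i, i < 10808 → P i := stepQ 10807 Q10807 (allL N10807 (tt N8933 F18116) (tt N8533 F18117) (tt N8915 F18118) (tt N9311 F18119) (tt N8393 (iv D10808)) (tt N13723 D13746))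
theorem Q10809 : ∀ i, i < 10809 → P i := stepQ 10808 Q10808 (allL N10808 (tt N10686 F18120) (tt N8396 F18121) (tt N10686 F18122) (tt N13724 D13747) (tt N8394 (iv D10809)) (tt N13725 D13748))
theorem Q10810 : ∀ i, i < 10810 → P i := stepQ 10809 Q10809 (allL N10809 (tt N10785 F18123) (tt N8397 F18124) (tt N13726 D13749) (tt N8395 (iv D10810)) (tt N13724 (iv F23529)) (tt N13727 D13750))
theorem Q10811 : ∀ i, i < 10811 → P i := stepQ 10810 Q10810 (allL N10810 (tt N10784 F18125) (tt N8398 F18126) (tt N10761 F18127) (tt N13727 (iv F23537)) (tt N9601 F18128) (tt N8395 (iv D10811)))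
theorem Q10812 : ∀ i, i < 10812 → P i := stepQ 10811 Q10811 (allL N10811 (tt N8401 F18129) (tt N13724 (iv F23528)) (tt N13728 D13751) (tt N8396 (iv D10812)) (tt N8397 F18130) (tt N13729 D13752))
theorem Q10813 : ∀ i, i < 10813 → P i := stepQ 10812 Q10812 (allL N10812 (tt N8402 F18131) (tt N13725 (iv F23531)) (tt N8891 F18132) (tt N13729 (iv F23541)) (tt N8888 F18133) (tt N8396 (iv D10813)))
theorem Q10814 : ∀ i, i < 10814 → P i := stepQ 10813 Q10813 (allL N10813 (tt N8403 F18134) (tt N13730 D13753) (tt N8397 (iv D10814)) (tt N8431 F18135) (tt N13728 (iv F23539)) (tt N8430 (iv F18136)))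
theorem Q10815 : ∀ i, i < 10815 → P i := stepQ 10814 Q10814 (allL N10814 (tt N8404 F18137) (tt N13727 (iv F23536)) (tt N8430 F18138) (tt N8398 F18139) (tt N13731 D13754) (tt N8397 (iv D10815)))
theorem Q10816 : ∀ i, i < 10816 → P i := stepQ 10815 Q10815 (allL N10815 (tt N10678 F18140) (tt N8400 F18141) (tt N10678 F18142) (tt N13732 D13755) (tt N8399 (iv D10816)) (tt N13733 D13756))
theorem Q10817 : ∀ i, i < 10817 → P i := stepQ 10816 Q10816 (allL N10816 (tt N8892 F18143) (tt N13732 (iv F23548)) (tt N13734 D13757) (tt N8400 (iv D10817)) (tt N8877 F18144) (tt N13735 D13758))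
theorem Q10818 : ∀ i, i < 10818 → P i := stepQ 10817 Q10817 (allL N10817 (tt N8891 F18145) (tt N13733 (iv F23551)) (tt N8402 F18146) (tt N13735 (iv F23557)) (tt N8873 F18147) (tt N8400 (iv D10818)))
theorem Q10819 : ∀ i, i < 10819 → P i := stepQ 10818 Q10818 (allL N10818 (tt N13728 (iv F23538)) (tt N13736 D13759) (tt N8401 (iv D10819)) (tt N13737 D13760) (tt N8403 F18148) (tt N13738 D13761))
theorem Q10820 : ∀ i, i < 10820 → P i := stepQ 10819 Q10819 (allL N10819 (tt N13729 (iv F23540)) (tt N10796 F18149) (tt N13738 (iv F23560)) (tt N8402 F18150) (tt N13739 D13762) (tt N8401 (iv D10820)))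
theorem Q10821 : ∀ i, i < 10821 → P i := stepQ 10820 Q10820 (allL N10820 (tt N13740 D13763) (tt N8403 (iv D10821)) (tt N10800 F18151) (tt N13741 D13764) (tt N13736 (iv F23559)) (tt N13742 D13765))
theorem Q10822 : ∀ i, i < 10822 → P i := stepQ 10821 Q10821 (allL N10821 (tt N8431 F18152) (tt N13741 (iv F23565)) (tt N8423 F18153) (tt N8403 (iv D10822)) (tt N13743 D13766) (tt N8422 F18154))
theorem Q10823 : ∀ i, i < 10823 → P i := stepQ 10822 Q10822 (allL N10822 (tt N8430 F18155) (tt N13742 (iv F23567)) (tt N8404 F18156) (tt N8422 F18157) (tt N13744 D13767) (tt N8403 (iv D10823)))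
theorem Q10824 : ∀ i, i < 10824 → P i := stepQ 10823 Q10823 (allL N10823 (tt N13731 (iv F23544)) (tt N10798 F18158) (tt N13744 (iv F23573)) (tt N9604 F18159) (tt N8404 (iv D10824)) (tt N13739 (iv F23563)))
theorem Q10825 : ∀ i, i < 10825 → P i := stepQ 10824 Q10824 (allL N10824 (tt N13745 D13768) (tt N8405 (iv D10825)) (tt N8487 F18160) (tt N13706 (iv F23498)) (tt N13601 (iv F23228)) (tt N13717 (iv F23509)))
theorem Q10826 : ∀ i, i < 10826 → P i := stepQ 10825 Q10825 (allL N10825 (tt N8407 F18161) (tt N13746 D13769) (tt N8406 (iv D10826)) (tt N9905 F18163) (tt N9520 F18162) (tt N13719 (iv F23513)))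
theorem Q10827 : ∀ i, i < 10827 → P i := stepQ 10826 Q10826 (allL N10826 (tt N13747 D13770) (tt N8407 (iv D10827)) (tt N8408 F18164) (tt N13748 D13771) (tt N13594 (iv F23207)) (tt N13610 (iv F23252)))
theorem Q10828 : ∀ i, i < 10828 → P i := stepQ 10827 Q10827 (allL N10827 (tt N9905 F18165) (tt N13748 (iv F23579)) (tt N9894 F18166) (tt N8407 (iv D10828)) (tt N13749 D13772) (tt N13721 (iv F23520)))
theorem Q10829 : ∀ i, i < 10829 → P i := stepQ 10828 Q10828 (allL N10828 (tt N8408 (iv D10829)) (tt N13592 (iv F23200)) (tt N13747 (iv F23578)) (tt N13580 (iv F23180)) (tt N13598 (iv F23219)) (tt N13609 (iv F23250)))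
theorem Q10830 : ∀ i, i < 10830 → P i := stepQ 10829 Q10829 (allL N10829 (tt N10766 F18167) (tt N8409 (iv D10830)) (tt N8530 F18168) (tt N13750 D13773) (tt N8483 F18169) (tt N9892 F18170))
theorem Q10831 : ∀ i, i < 10831 → P i := stepQ 10830 Q10830 (allL N10830 (tt N8410 F18171) (tt N13750 (iv F23583)) (tt N13721 (iv F23519)) (tt N8409 (iv D10831)) (tt N13751 D13774) (tt N9894 F18172))
theorem Q10832 : ∀ i, i < 10832 → P i := stepQ 10831 Q10831 (allL N10831 (tt N13721 (iv F23518)) (tt N13752 D13775) (tt N8410 (iv D10832)) (tt N13719 (iv F23512)) (tt N13753 D13776) (tt N9905 F18173))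
theorem Q10833 : ∀ i, i < 10833 → P i := stepQ 10832 Q10832 (allL N10832 (tt N13751 (iv F23585)) (tt N10778 F18174) (tt N13753 (iv F23589)) (tt N8491 F18175) (tt N8410 (iv D10833)) (tt N13754 D13777))
theorem Q10834 : ∀ i, i < 10834 → P i := stepQ 10833 Q10833 (allL N10833 (tt N8411 (iv D10834)) (tt N8413 F18176) (tt N9892 F18177) (tt N13755 D13778) (tt N9548 F18178) (tt N8530 F18179))
theorem Q10835 : ∀ i, i < 10835 → P i := stepQ 10834 Q10834 (allL N10834 (tt N13755 (iv F23593)) (tt N8412 F18180) (tt N13756 D13779) (tt N8411 (iv D10835)) (tt N13757 D13780) (tt N8932 F18181))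
theorem Q10836 : ∀ i, i < 10836 → P i := stepQ 10835 Q10835 (allL N10835 (tt N8416 F18182) (tt N13757 (iv F23598)) (tt N8902 F18183) (tt N11111 (iv F18620)) (tt N8412 (iv D10836)) (tt N13758 D13781))
theorem Q10837 : ∀ i, i < 10837 → P i := stepQ 10836 Q10836 (allL N10836 (tt N8414 F18184) (tt N13755 (iv F23594)) (tt N8506 F18186) (tt N8413 (iv D10837)) (tt N13759 D13782) (tt N8531 F18185))
theorem Q10838 : ∀ i, i < 10838 → P i := stepQ 10837 Q10837 (allL N10837 (tt N8506 F18187) (tt N13760 D13783) (tt N8414 (iv D10838)) (tt N8501 F18189) (tt N13761 D13784) (tt N8532 F18188))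
theorem Q10839 : ∀ i, i < 10839 → P i := stepQ 10838 Q10838 (allL N10838 (tt N13759 (iv F23602)) (tt N8416 F18190) (tt N13761 (iv F23610)) (tt N9585 F18191) (tt N8414 (iv D10839)) (tt N13762 D13785))
theorem Q10840 : ∀ i, i < 10840 → P i := stepQ 10839 Q10839 (allL N10839 (tt N13763 D13786) (tt N8415 (iv D10840)) (tt N13760 (iv F23606)) (tt N8879 F18192) (tt N13764 D13787) (tt N8914 F18193))
theorem Q10841 : ∀ i, i < 10841 → P i := stepQ 10840 Q10840 (allL N10840 (tt N8902 F18194) (tt N13764 (iv F23619)) (tt N8416 F18195) (tt N13765 D13788) (tt N8415 (iv D10841)) (tt N13766 D13789))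
theorem Q10842 : ∀ i, i < 10842 → P i := stepQ 10841 Q10841 (allL N10841 (tt N13758 (iv F23599)) (tt N13762 (iv F23613)) (tt N13766 (iv F23623)) (tt N11114 (iv F18622)) (tt N13723 (iv F23526)) (tt N8416 (iv D10842)))
theorem Q10843 : ∀ i, i < 10843 → P i := stepQ 10842 Q10842 (allL N10842 (tt N9100 F18196) (tt N8420 F18197) (tt N13767 D13790) (tt N8417 (iv D10843)) (tt N8418 F18198) (tt N13768 D13791))
theorem Q10844 : ∀ i, i < 10844 → P i := stepQ 10843 Q10843 (allL N10843 (tt N9101 F18199) (tt N8421 F18200) (tt N8645 F18201) (tt N13768 (iv F23629)) (tt N8917 F18202) (tt N8417 (iv D10844)))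
theorem Q10845 : ∀ i, i < 10845 → P i := stepQ 10844 Q10844 (allL N10844 (tt N12298 (iv F20800)) (tt N13769 D13792) (tt N8418 (iv D10845)) (tt N13770 D13793) (tt N13767 (iv F23626)) (tt N13771 D13794))
theorem Q10846 : ∀ i, i < 10846 → P i := stepQ 10845 Q10845 (allL N10845 (tt N11089 (iv F18586)) (tt N8423 F18203) (tt N13771 (iv F23631)) (tt N8419 F18204) (tt N13772 D13795) (tt N8418 (iv D10846)))
theorem Q10847 : ∀ i, i < 10847 → P i := stepQ 10846 Q10846 (allL N10846 (tt N8427 F18205) (tt N13773 D13796) (tt N8420 (iv D10847)) (tt N13774 D13797) (tt N8422 F18206) (tt N13775 D13798))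
theorem Q10848 : ∀ i, i < 10848 → P i := stepQ 10847 Q10847 (allL N10847 (tt N8428 F18207) (tt N13768 (iv F23628)) (tt N13775 (iv F23636)) (tt N8421 F18208) (tt N13776 D13799) (tt N8420 (iv D10848)))
theorem Q10849 : ∀ i, i < 10849 → P i := stepQ 10848 Q10848 (allL N10848 (tt N13777 D13800) (tt N8422 (iv D10849)) (tt N13769 (iv F23630)) (tt N13742 (iv F23569)) (tt N13773 (iv F23633)) (tt N13741 F23566))
theorem Q10850 : ∀ i, i < 10850 → P i := stepQ 10849 Q10849 (allL N10849 (tt N8432 F18209) (tt N13772 (iv F23632)) (tt N13743 (iv F23571)) (tt N11092 (iv F18593)) (tt N8423 (iv D10850)) (tt N13776 (iv F23639)))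
theorem Q10851 : ∀ i, i < 10851 → P i := stepQ 10850 Q10850 (allL N10850 (tt N8631 F18210) (tt N8426 F18211) (tt N9099 F18212) (tt N11190 (iv F18757)) (tt N8906 F18213) (tt N8424 (iv D10851)))
theorem Q10852 : ∀ i, i < 10852 → P i := stepQ 10851 Q10851 (allL N10851 (tt N8638 F18214) (tt N13778 D13801) (tt N8425 (iv D10852)) (tt N13779 D13802) (tt N8634 F18215) (tt N13780 D13803))
theorem Q10853 : ∀ i, i < 10853 → P i := stepQ 10852 Q10852 (allL N10852 (tt N8639 F18216) (tt N11190 (iv F18756)) (tt N13780 (iv F23644)) (tt N8426 F18217) (tt N13781 D13804) (tt N8425 (iv D10853)))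
theorem Q10854 : ∀ i, i < 10854 → P i := stepQ 10853 Q10853 (allL N10853 (tt N13782 D13805) (tt N8427 (iv D10854)) (tt N12300 (iv F20804)) (tt N13783 D13806) (tt N8429 F18218) (tt N13784 D13807))
theorem Q10855 : ∀ i, i < 10855 → P i := stepQ 10854 Q10854 (allL N10854 (tt N13774 (iv F23634)) (tt N13783 (iv F23649)) (tt N13785 D13808) (tt N8427 (iv D10855)) (tt N13786 D13809) (tt N13787 D13810))
theorem Q10856 : ∀ i, i < 10856 → P i := stepQ 10855 Q10855 (allL N10855 (tt N13775 (iv F23635)) (tt N13784 (iv F23650)) (tt N8428 F18219) (tt N13787 (iv F23656)) (tt N13788 D13811) (tt N8427 (iv D10856)))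
theorem Q10857 : ∀ i, i < 10857 → P i := stepQ 10856 Q10856 (allL N10856 (tt N13776 (iv F23637)) (tt N11107 (iv F18610)) (tt N13788 (iv F23657)) (tt N11101 (iv F18604)) (tt N8428 (iv D10857)) (tt N8432 F18220))
theorem Q10858 : ∀ i, i < 10858 → P i := stepQ 10857 Q10857 (allL N10857 (tt N8429 (iv D10858)) (tt N13777 (iv F23640)) (tt N12299 (iv F20802)) (tt N13789 D13812) (tt N13782 (iv F23648)) (tt N13790 D13813))
theorem Q10859 : ∀ i, i < 10859 → P i := stepQ 10858 Q10858 (allL N10858 (tt N13789 (iv F23659)) (tt N8430 F18221) (tt N13791 D13814) (tt N8429 (iv D10859)) (tt N13792 D13815) (tt N13730 (iv F23543)))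
theorem Q10860 : ∀ i, i < 10860 → P i := stepQ 10859 Q10859 (allL N10859 (tt N13790 (iv F23660)) (tt N8431 F18222) (tt N11109 (iv F18615)) (tt N13730 (iv F23542)) (tt N13793 D13816) (tt N8429 (iv D10860)))
theorem Q10861 : ∀ i, i < 10861 → P i := stepQ 10860 Q10860 (allL N10860 (tt N13744 (iv F23572)) (tt N13792 (iv F23661)) (tt N13731 (iv F23545)) (tt N13786 (iv F23654)) (tt N8430 (iv D10861)) (tt N13794 D13817))
theorem Q10862 : ∀ i, i < 10862 → P i := stepQ 10861 Q10861 (allL N10861 (tt N13743 (iv F23570)) (tt N13793 (iv F23662)) (tt N8432 F18223) (tt N13795 D13818) (tt N8431 (iv D10862)) (tt N13788 (iv F23658)))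
theorem Q10863 : ∀ i, i < 10863 → P i := stepQ 10862 Q10862 (allL N10862 (tt N9861 F18224) (tt N8434 F18225) (tt N13796 D13819) (tt N8433 (iv D10863)) (tt N13797 D13820) (tt N9889 F18226))
theorem Q10864 : ∀ i, i < 10864 → P i := stepQ 10863 Q10863 (allL N10863 (tt N8436 F18227) (tt N13797 (iv F23666)) (tt N12743 (iv F21539)) (tt N13555 (iv F23127)) (tt N8434 (iv D10864)) (tt N13798 D13821))
theorem Q10865 : ∀ i, i < 10865 → P i := stepQ 10864 Q10864 (allL N10864 (tt N13799 D13822) (tt N8435 (iv D10865)) (tt N9844 F18228) (tt N12731 (iv F21515)) (tt N12872 (iv F21752)) (tt N9896 F18229))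
theorem Q10866 : ∀ i, i < 10866 → P i := stepQ 10865 Q10865 (allL N10865 (tt N12743 (iv F21538)) (tt N12872 (iv F21751)) (tt N8436 F18230) (tt N12869 (iv F21762)) (tt N8435 (iv D10866)) (tt N12868 F21761))
theorem Q10867 : ∀ i, i < 10867 → P i := stepQ 10866 Q10866 (allL N10866 (tt N13798 (iv F23667)) (tt N9903 F18231) (tt N12868 F21760) (tt N13558 (iv F23131)) (tt N9898 F18232) (tt N8436 (iv D10867)))
theorem Q10868 : ∀ i, i < 10868 → P i := stepQ 10867 Q10867 (allL N10867 (tt N8441 F18233) (tt N13800 D13823) (tt N8437 (iv D10868)) (tt N13801 D13824) (tt N8439 F18234) (tt N13802 D13825))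
theorem Q10869 : ∀ i, i < 10869 → P i := stepQ 10868 Q10868 (allL N10868 (tt N8442 F18235) (tt N8482 F18236) (tt N13802 (iv F23678)) (tt N8438 F18237) (tt N13803 D13826) (tt N8437 (iv D10869)))
theorem Q10870 : ∀ i, i < 10870 → P i := stepQ 10869 Q10869 (allL N10869 (tt N13804 D13827) (tt N8439 (iv D10870)) (tt N9848 F18238) (tt N8836 F18239) (tt N13800 (iv F23672)) (tt N8835 F18240))
theorem Q10871 : ∀ i, i < 10871 → P i := stepQ 10870 Q10870 (allL N10870 (tt N8446 F18241) (tt N9851 F18242) (tt N8837 F18243) (tt N9909 F18244) (tt N8440 (iv D10871)) (tt N13803 (iv F23684)))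
theorem Q10872 : ∀ i, i < 10872 → P i := stepQ 10871 Q10871 (allL N10871 (tt N13805 D13828) (tt N8441 (iv D10872)) (tt N13622 (iv F23286)) (tt N13806 D13829) (tt N8443 F18245) (tt N13807 D13830))
theorem Q10873 : ∀ i, i < 10873 → P i := stepQ 10872 Q10872 (allL N10872 (tt N13801 (iv F23674)) (tt N13806 (iv F23690)) (tt N13808 D13831) (tt N8441 (iv D10873)) (tt N13809 D13832) (tt N13810 D13833))
theorem Q10874 : ∀ i, i < 10874 → P i := stepQ 10873 Q10873 (allL N10873 (tt N13802 (iv F23676)) (tt N13807 (iv F23691)) (tt N8442 F18246) (tt N13810 (iv F23698)) (tt N13811 D13834) (tt N8441 (iv D10874)))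
theorem Q10875 : ∀ i, i < 10875 → P i := stepQ 10874 Q10874 (allL N10874 (tt N13803 (iv F23680)) (tt N13620 (iv F23280)) (tt N13811 (iv F23700)) (tt N13614 (iv F23263)) (tt N8442 (iv D10875)) (tt N8446 F18247))
theorem Q10876 : ∀ i, i < 10876 → P i := stepQ 10875 Q10875 (allL N10875 (tt N8443 (iv D10876)) (tt N13804 (iv F23685)) (tt N13628 (iv F23296)) (tt N13812 D13835) (tt N13805 (iv F23689)) (tt N13813 D13836))
theorem Q10877 : ∀ i, i < 10877 → P i := stepQ 10876 Q10876 (allL N10876 (tt N13812 (iv F23702)) (tt N8444 F18248) (tt N13814 D13837) (tt N8443 (iv D10877)) (tt N13815 D13838) (tt N8826 (iv F18249)))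
theorem Q10878 : ∀ i, i < 10878 → P i := stepQ 10877 Q10877 (allL N10877 (tt N13813 (iv F23705)) (tt N8445 F18250) (tt N13627 (iv F23294)) (tt N8826 F18251) (tt N13816 D13839) (tt N8443 (iv D10878)))
theorem Q10879 : ∀ i, i < 10879 → P i := stepQ 10878 Q10878 (allL N10878 (tt N8838 F18252) (tt N13815 (iv F23710)) (tt N8827 F18253) (tt N13809 (iv F23696)) (tt N8444 (iv D10879)) (tt N13817 D13840))
theorem Q10880 : ∀ i, i < 10880 → P i := stepQ 10879 Q10879 (allL N10879 (tt N8837 F18254) (tt N13816 (iv F23711)) (tt N8446 F18255) (tt N13818 D13841) (tt N8445 (iv D10880)) (tt N13811 (iv F23701)))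
theorem Q10881 : ∀ i, i < 10881 → P i := stepQ 10880 Q10880 (allL N10880 (tt N9405 F18256) (tt N8681 F18257) (tt N11571 (iv F19431)) (tt N13643 (iv F23323)) (tt N8665 F18258) (tt N8447 (iv D10881)))
theorem Q10882 : ∀ i, i < 10882 → P i := stepQ 10881 Q10881 (allL N10881 (tt N13819 D13842) (tt N8448 (iv D10882)) (tt N9839 F18259) (tt N13820 D13843) (tt N9814 F18260) (tt N13821 D13844))
theorem Q10883 : ∀ i, i < 10883 → P i := stepQ 10882 Q10882 (allL N10882 (tt N8451 F18261) (tt N13820 (iv F23720)) (tt N8465 F18262) (tt N8448 (iv D10883)) (tt N13822 D13845) (tt N8463 (iv F18263)))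
theorem Q10884 : ∀ i, i < 10884 → P i := stepQ 10883 Q10883 (allL N10883 (tt N8452 F18264) (tt N13821 (iv F23723)) (tt N8449 F18265) (tt N8463 F18266) (tt N13823 D13846) (tt N8448 (iv D10884)))
theorem Q10885 : ∀ i, i < 10885 → P i := stepQ 10884 Q10884 (allL N10884 (tt N8453 F18267) (tt N9842 F18268) (tt N13823 (iv F23734)) (tt N9913 F18269) (tt N8449 (iv D10885)) (tt N9817 F18270))
theorem Q10886 : ∀ i, i < 10886 → P i := stepQ 10885 Q10885 (allL N10885 (tt N8450 (iv D10886)) (tt N13819 (iv F23717)) (tt N8454 F18271) (tt N13824 D13847) (tt N9818 F18272) (tt N13825 D13848))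
theorem Q10887 : ∀ i, i < 10887 → P i := stepQ 10886 Q10886 (allL N10886 (tt N13824 (iv F23737)) (tt N8451 F18273) (tt N13826 D13849) (tt N8450 (iv D10887)) (tt N13827 D13850) (tt N13828 D13851))
theorem Q10888 : ∀ i, i < 10888 → P i := stepQ 10887 Q10887 (allL N10887 (tt N13825 (iv F23738)) (tt N8452 F18274) (tt N8456 F18275) (tt N13828 (iv F23743)) (tt N11083 (iv F18580)) (tt N8450 (iv D10888)))
theorem Q10889 : ∀ i, i < 10889 → P i := stepQ 10888 Q10888 (allL N10888 (tt N8465 F18276) (tt N13829 D13852) (tt N8451 (iv D10889)) (tt N8459 F18277) (tt N13830 D13853) (tt N8458 (iv F18278)))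
theorem Q10890 : ∀ i, i < 10890 → P i := stepQ 10889 Q10889 (allL N10889 (tt N13822 (iv F23727)) (tt N13827 (iv F23740)) (tt N13830 (iv F23747)) (tt N9821 F18279) (tt N8451 (iv D10890)) (tt N13831 D13854))
theorem Q10891 : ∀ i, i < 10891 → P i := stepQ 10890 Q10890 (allL N10890 (tt N8463 F18280) (tt N13828 (iv F23742)) (tt N8458 F18281) (tt N8452 F18282) (tt N13832 D13855) (tt N8451 (iv D10891)))
theorem Q10892 : ∀ i, i < 10892 → P i := stepQ 10891 Q10891 (allL N10891 (tt N13823 (iv F23732)) (tt N11083 (iv F18578)) (tt N8453 F18283) (tt N13833 D13856) (tt N8452 (iv D10892)) (tt N9823 F18284))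
theorem Q10893 : ∀ i, i < 10893 → P i := stepQ 10892 Q10892 (allL N10892 (tt N8455 F18285) (tt N8965 F18286) (tt N13834 D13857) (tt N8454 (iv D10893)) (tt N11079 (iv F18577)) (tt N8943 (iv F18287)))
theorem Q10894 : ∀ i, i < 10894 → P i := stepQ 10893 Q10893 (allL N10893 (tt N8456 F18288) (tt N8964 F18289) (tt N13825 (iv F23739)) (tt N8943 F18290) (tt N11078 (iv F18575)) (tt N8454 (iv D10894)))
theorem Q10895 : ∀ i, i < 10895 → P i := stepQ 10894 Q10894 (allL N10894 (tt N13834 (iv F23759)) (tt N8941 F18291) (tt N8455 (iv D10895)) (tt N13835 D13858) (tt N11084 (iv F18581)) (tt N8939 F18292))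
theorem Q10896 : ∀ i, i < 10896 → P i := stepQ 10895 Q10895 (allL N10895 (tt N8457 (iv D10896)) (tt N8461 F18293) (tt N13605 (iv F23239)) (tt N13836 D13859) (tt N13564 (iv F23146)) (tt N11284 (iv F18924)))
theorem Q10897 : ∀ i, i < 10897 → P i := stepQ 10896 Q10896 (allL N10896 (tt N13836 (iv F23763)) (tt N8458 F18294) (tt N13837 D13860) (tt N8457 (iv D10897)) (tt N13838 D13861) (tt N13829 (iv F23745)))
theorem Q10898 : ∀ i, i < 10898 → P i := stepQ 10897 Q10897 (allL N10897 (tt N11284 (iv F18923)) (tt N8459 F18295) (tt N13603 (iv F23233)) (tt N13829 (iv F23744)) (tt N13839 D13862) (tt N8457 (iv D10898)))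
theorem Q10899 : ∀ i, i < 10899 → P i := stepQ 10898 Q10898 (allL N10898 (tt N8464 F18296) (tt N13838 (iv F23765)) (tt N13832 (iv F23752)) (tt N13566 (iv F23151)) (tt N8458 (iv D10899)) (tt N13840 D13863))
theorem Q10900 : ∀ i, i < 10900 → P i := stepQ 10899 Q10899 (allL N10899 (tt N8466 F18297) (tt N13839 (iv F23766)) (tt N8460 F18298) (tt N13841 D13864) (tt N8459 (iv D10900)) (tt N11273 (iv F18893)))
theorem Q10901 : ∀ i, i < 10901 → P i := stepQ 10900 Q10900 (allL N10900 (tt N8462 F18299) (tt N13836 (iv F23764)) (tt N11278 (iv F18908)) (tt N8461 (iv D10901)) (tt N13842 D13865) (tt N11285 (iv F18926)))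
theorem Q10902 : ∀ i, i < 10902 → P i := stepQ 10901 Q10901 (allL N10901 (tt N11278 (iv F18907)) (tt N11714 (iv F19727)) (tt N8462 (iv D10902)) (tt N11275 (iv F18899)) (tt N11711 (iv F19714)) (tt N11286 (iv F18927)))
theorem Q10903 : ∀ i, i < 10903 → P i := stepQ 10902 Q10902 (allL N10902 (tt N13842 (iv F23770)) (tt N8464 F18300) (tt N11711 F19715) (tt N13569 (iv F23159)) (tt N8462 (iv D10903)) (tt N13843 D13866))
theorem Q10904 : ∀ i, i < 10904 → P i := stepQ 10903 Q10903 (allL N10903 (tt N11728 (iv F19757)) (tt N8463 (iv D10904)) (tt N11714 F19729) (tt N13821 (iv F23725)) (tt N9945 F19718) (tt N13820 (iv F23721)))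
theorem Q10905 : ∀ i, i < 10905 → P i := stepQ 10904 Q10904 (allL N10904 (tt N13832 (iv F23751)) (tt N9945 (iv F19716)) (tt N8464 F18301) (tt N9942 F19717) (tt N8463 (iv D10905)) (tt N9941 F19719))
theorem Q10906 : ∀ i, i < 10906 → P i := stepQ 10905 Q10905 (allL N10905 (tt N13840 (iv F23767)) (tt N13843 (iv F23771)) (tt N9941 (iv F19720)) (tt N13572 (iv F23165)) (tt N13844 D13867) (tt N8464 (iv D10906)))
theorem Q10907 : ∀ i, i < 10907 → P i := stepQ 10906 Q10906 (allL N10906 (tt N13830 (iv F23746)) (tt N11287 (iv F18928)) (tt N13822 (iv F23729)) (tt N13845 D13868) (tt N8465 (iv D10907)) (tt N13844 (iv F23774)))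
theorem Q10908 : ∀ i, i < 10908 → P i := stepQ 10907 Q10907 (allL N10907 (tt N13841 (iv F23769)) (tt N11155 (iv F18687)) (tt N13846 D13869) (tt N8466 (iv D10908)) (tt N13845 (iv F23775)) (tt N11274 (iv F18895)))
theorem Q10909 : ∀ i, i < 10909 → P i := stepQ 10908 Q10908 (allL N10908 (tt N13396 (iv F22824)) (tt N8472 F18302) (tt N9080 F18303) (tt N8477 F18304) (tt N8470 (iv D10909)) (tt N13847 D13870))
theorem Q10910 : ∀ i, i < 10910 → P i := stepQ 10909 Q10909 (allL N10909 (tt N10018 F18305) (tt N8473 F18306) (tt N9346 F18307) (tt N13848 D13871) (tt N8471 (iv D10910)) (tt N8478 F18308))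
theorem Q10911 : ∀ i, i < 10911 → P i := stepQ 10910 Q10910 (allL N10910 (tt N9249 F18309) (tt N13847 (iv F23776)) (tt N9078 F18310) (tt N8479 F18311) (tt N9271 F18312) (tt N8472 (iv D10911)))
theorem Q10912 : ∀ i, i < 10912 → P i := stepQ 10911 Q10911 (allL N10911 (tt N9251 F18313) (tt N13848 (iv F23781)) (tt N13849 D13872) (tt N8473 (iv D10912)) (tt N9270 F18314) (tt N8480 F18315))
theorem Q10913 : ∀ i, i < 10913 → P i := stepQ 10912 Q10912 (allL N10912 (tt N8476 F18316) (tt N13850 D13873) (tt N8474 (iv D10913)) (tt N13851 D13874) (tt N13852 D13875) (tt N12518 (iv F21167)))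
theorem Q10914 : ∀ i, i < 10914 → P i := stepQ 10913 Q10913 (allL N10913 (tt N8477 F18317) (tt N12541 (iv F21218)) (tt N13852 (iv F23791)) (tt N13396 (iv F22827)) (tt N8474 (iv D10914)) (tt N13853 D13876))
theorem Q10915 : ∀ i, i < 10915 → P i := stepQ 10914 Q10914 (allL N10914 (tt N8478 F18318) (tt N10021 F18319) (tt N9969 F18320) (tt N13854 D13877) (tt N8475 (iv D10915)) (tt N10018 F18321))
theorem Q10916 : ∀ i, i < 10916 → P i := stepQ 10915 Q10915 (allL N10915 (tt N13851 (iv F23787)) (tt N12522 (iv F21174)) (tt N13855 D13878) (tt N8476 (iv D10916)) (tt N13856 D13879) (tt N12519 (iv F21169)))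
theorem Q10917 : ∀ i, i < 10917 → P i := stepQ 10916 Q10916 (allL N10916 (tt N13852 (iv F23790)) (tt N12523 (iv F21177)) (tt N8477 F18322) (tt N13857 D13880) (tt N8476 (iv D10917)) (tt N13858 D13881))
theorem Q10918 : ∀ i, i < 10918 → P i := stepQ 10917 Q10917 (allL N10917 (tt N13853 (iv F23792)) (tt N8479 F18323) (tt N13858 (iv F23799)) (tt N13847 (iv F23778)) (tt N12526 (iv F21184)) (tt N8477 (iv D10918)))
theorem Q10919 : ∀ i, i < 10919 → P i := stepQ 10918 Q10918 (allL N10918 (tt N13854 (iv F23793)) (tt N8480 F18324) (tt N13859 D13882) (tt N8478 (iv D10919)) (tt N12525 (iv F21182)) (tt N13848 (iv F23783)))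
theorem Q10920 : ∀ i, i < 10920 → P i := stepQ 10919 Q10919 (allL N10919 (tt N12539 (iv F21209)) (tt N13860 D13883) (tt N8480 (iv D10920)) (tt N13861 D13884) (tt N12527 (iv F21187)) (tt N13849 (iv F23786)))
theorem Q10921 : ∀ i, i < 10921 → P i := stepQ 10920 Q10920 (allL N10920 (tt N13862 D13885) (tt N8481 (iv D10921)) (tt N13800 (iv F23671)) (tt N9528 F18325) (tt N9848 F18326) (tt N9527 F18327))
theorem Q10922 : ∀ i, i < 10922 → P i := stepQ 10921 Q10921 (allL N10921 (tt N8490 F18328) (tt N13803 (iv F23681)) (tt N9529 F18329) (tt N13720 (iv F23516)) (tt N8482 (iv D10922)) (tt N9851 F18330))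
theorem Q10923 : ∀ i, i < 10923 → P i := stepQ 10922 Q10922 (allL N10922 (tt N11045 (iv F18518)) (tt N8484 F18331) (tt N11047 (iv F18521)) (tt N8483 (iv D10923)) (tt N13863 D13886) (tt N9518 F18332))
theorem Q10924 : ∀ i, i < 10924 → P i := stepQ 10923 Q10923 (allL N10923 (tt N8491 F18333) (tt N13863 (iv F23806)) (tt N8491 F18334) (tt N13751 (iv F23586)) (tt N8484 (iv D10924)) (tt N13864 D13887))
theorem Q10925 : ∀ i, i < 10925 → P i := stepQ 10924 Q10924 (allL N10924 (tt N13865 D13888) (tt N8485 (iv D10925)) (tt N13601 (iv F23227)) (tt N13866 D13889) (tt N8487 F18335) (tt N13867 D13890))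
theorem Q10926 : ∀ i, i < 10926 → P i := stepQ 10925 Q10925 (allL N10925 (tt N9849 F18336) (tt N13866 (iv F23812)) (tt N9856 F18337) (tt N8485 (iv D10926)) (tt N13868 D13891) (tt N9854 (iv F18338)))
theorem Q10927 : ∀ i, i < 10927 → P i := stepQ 10926 Q10926 (allL N10926 (tt N9850 F18339) (tt N13867 (iv F23814)) (tt N8486 F18340) (tt N9854 F18341) (tt N13869 D13892) (tt N8485 (iv D10927)))
theorem Q10928 : ∀ i, i < 10928 → P i := stepQ 10927 Q10927 (allL N10927 (tt N9851 F18342) (tt N13599 (iv F23221)) (tt N13869 (iv F23820)) (tt N13597 (iv F23216)) (tt N8486 (iv D10928)) (tt N8490 F18343))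
theorem Q10929 : ∀ i, i < 10929 → P i := stepQ 10928 Q10928 (allL N10928 (tt N8487 (iv D10929)) (tt N13862 (iv F23802)) (tt N13745 (iv F23574)) (tt N13870 D13893) (tt N13865 (iv F23811)) (tt N13871 D13894))
theorem Q10930 : ∀ i, i < 10930 → P i := stepQ 10929 Q10929 (allL N10929 (tt N13870 (iv F23822)) (tt N8488 F18344) (tt N13872 D13895) (tt N8487 (iv D10930)) (tt N13873 D13896) (tt N9515 (iv F18345)))
theorem Q10931 : ∀ i, i < 10931 → P i := stepQ 10930 Q10930 (allL N10930 (tt N13871 (iv F23825)) (tt N8489 F18346) (tt N13717 (iv F23508)) (tt N9515 F18347) (tt N13874 D13897) (tt N8487 (iv D10931)))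
theorem Q10932 : ∀ i, i < 10932 → P i := stepQ 10931 Q10931 (allL N10931 (tt N9530 F18348) (tt N13873 (iv F23830)) (tt N9516 F18349) (tt N13868 (iv F23818)) (tt N8488 (iv D10932)) (tt N13875 D13898))
theorem Q10933 : ∀ i, i < 10933 → P i := stepQ 10932 Q10932 (allL N10932 (tt N9529 F18350) (tt N13874 (iv F23831)) (tt N8490 F18351) (tt N13876 D13899) (tt N8489 (iv D10933)) (tt N13869 (iv F23821)))
theorem Q10934 : ∀ i, i < 10934 → P i := stepQ 10933 Q10933 (allL N10933 (tt N13864 (iv F23807)) (tt N11049 (iv F18523)) (tt N13864 (iv F23808)) (tt N13754 (iv F23591)) (tt N9534 F18352) (tt N8491 (iv D10934)))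
theorem Q10935 : ∀ i, i < 10935 → P i := stepQ 10934 Q10934 (allL N10934 (tt N13877 D13900) (tt N8492 (iv D10935)) (tt N8494 F18353) (tt N13878 D13901) (tt N9353 F18354) (tt N8564 (iv F18355)))
theorem Q10936 : ∀ i, i < 10936 → P i := stepQ 10935 Q10935 (allL N10935 (tt N9358 F18356) (tt N13878 (iv F23841)) (tt N13879 D13902) (tt N8492 (iv D10936)) (tt N13386 (iv F22807)) (tt N13880 D13903))
theorem Q10937 : ∀ i, i < 10937 → P i := stepQ 10936 Q10936 (allL N10936 (tt N9359 F18357) (tt N8564 F18358) (tt N8493 F18359) (tt N13880 (iv F23849)) (tt N13385 (iv F22805)) (tt N8492 (iv D10937)))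
theorem Q10938 : ∀ i, i < 10938 → P i := stepQ 10937 Q10937 (allL N10937 (tt N9360 F18360) (tt N8495 F18361) (tt N13385 (iv F22804)) (tt N12671 (iv F21427)) (tt N8493 (iv D10938)) (tt N9354 F18362))
theorem Q10939 : ∀ i, i < 10939 → P i := stepQ 10938 Q10938 (allL N10938 (tt N8494 (iv D10939)) (tt N8515 F18363) (tt N13877 (iv F23838)) (tt N8563 F18364) (tt N12465 (iv F21062)) (tt N8562 F18365))
theorem Q10940 : ∀ i, i < 10940 → P i := stepQ 10939 Q10939 (allL N10939 (tt N8520 F18366) (tt N12671 (iv F21426)) (tt N13881 D13904) (tt N8495 (iv D10940)) (tt N8496 F18367) (tt N12092 (iv F20394)))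
theorem Q10941 : ∀ i, i < 10941 → P i := stepQ 10940 Q10940 (allL N10940 (tt N8521 F18368) (tt N13882 D13905) (tt N8496 (iv D10941)) (tt N8524 F18369) (tt N13881 (iv F23851)) (tt N8497 F18370))
theorem Q10942 : ∀ i, i < 10942 → P i := stepQ 10941 Q10941 (allL N10941 (tt N13883 D13906) (tt N8497 (iv D10942)) (tt N12668 (iv F21420)) (tt N13553 (iv F23122)) (tt N12089 (iv F20387)) (tt N13882 (iv F23853)))
theorem Q10943 : ∀ i, i < 10943 → P i := stepQ 10942 Q10942 (allL N10942 (tt N13678 (iv F23435)) (tt N8499 F18371) (tt N13884 D13907) (tt N8498 (iv D10943)) (tt N12398 (iv F20944)) (tt N13545 (iv F23092)))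
theorem Q10944 : ∀ i, i < 10944 → P i := stepQ 10943 Q10943 (allL N10943 (tt N8524 F18372) (tt N13885 D13908) (tt N8499 (iv D10944)) (tt N8521 F18373) (tt N12400 (iv F20948)) (tt N8523 F18374))
theorem Q10945 : ∀ i, i < 10945 → P i := stepQ 10944 Q10944 (allL N10944 (tt N13886 D13909) (tt N8501 (iv D10945)) (tt N9357 F18375) (tt N13760 (iv F23607)) (tt N9230 F18376) (tt N13887 D13910))
theorem Q10946 : ∀ i, i < 10946 → P i := stepQ 10945 Q10945 (allL N10945 (tt N8507 F18377) (tt N13887 (iv F23860)) (tt N8502 F18378) (tt N8532 F18379) (tt N13888 D13911) (tt N8501 (iv D10946)))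
theorem Q10947 : ∀ i, i < 10947 → P i := stepQ 10946 Q10946 (allL N10946 (tt N8508 F18380) (tt N9360 F18381) (tt N13888 (iv F23864)) (tt N9222 F18382) (tt N8502 (iv D10947)) (tt N9228 F18383))
theorem Q10948 : ∀ i, i < 10948 → P i := stepQ 10947 Q10947 (allL N10947 (tt N13889 D13912) (tt N8503 (iv D10948)) (tt N8509 F18384) (tt N13890 D13913) (tt N8505 F18385) (tt N13891 D13914))
theorem Q10949 : ∀ i, i < 10949 → P i := stepQ 10948 Q10948 (allL N10948 (tt N9231 F18386) (tt N13890 (iv F23869)) (tt N9232 F18387) (tt N8503 (iv D10949)) (tt N13892 D13915) (tt N9235 (iv F18388)))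
theorem Q10950 : ∀ i, i < 10950 → P i := stepQ 10949 Q10949 (allL N10949 (tt N9229 F18389) (tt N13891 (iv F23871)) (tt N8504 F18390) (tt N9235 F18391) (tt N13893 D13916) (tt N8503 (iv D10950)))
theorem Q10951 : ∀ i, i < 10951 → P i := stepQ 10950 Q10950 (allL N10950 (tt N9228 F18392) (tt N8512 F18393) (tt N13893 (iv F23878)) (tt N9210 F18394) (tt N8504 (iv D10951)) (tt N8508 F18395))
theorem Q10952 : ∀ i, i < 10952 → P i := stepQ 10951 Q10951 (allL N10951 (tt N8505 (iv D10952)) (tt N13886 (iv F23857)) (tt N8515 F18396) (tt N13894 D13917) (tt N13889 (iv F23868)) (tt N13895 D13918))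
theorem Q10953 : ∀ i, i < 10953 → P i := stepQ 10952 Q10952 (allL N10952 (tt N13894 (iv F23880)) (tt N8506 F18397) (tt N13896 D13919) (tt N8505 (iv D10953)) (tt N13897 D13920) (tt N13898 D13921))
theorem Q10954 : ∀ i, i < 10954 → P i := stepQ 10953 Q10953 (allL N10953 (tt N13895 (iv F23881)) (tt N8507 F18398) (tt N8517 F18399) (tt N13898 (iv F23885)) (tt N13899 D13922) (tt N8505 (iv D10954)))
theorem Q10955 : ∀ i, i < 10955 → P i := stepQ 10954 Q10954 (allL N10954 (tt N13761 (iv F23609)) (tt N13897 (iv F23883)) (tt N13759 (iv F23603)) (tt N13892 (iv F23876)) (tt N8506 (iv D10955)) (tt N13900 D13923))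
theorem Q10956 : ∀ i, i < 10956 → P i := stepQ 10955 Q10955 (allL N10955 (tt N8532 F18400) (tt N13898 (iv F23884)) (tt N8531 F18401) (tt N8507 F18402) (tt N9666 (iv F18403)) (tt N8506 (iv D10956)))
theorem Q10957 : ∀ i, i < 10957 → P i := stepQ 10956 Q10956 (allL N10956 (tt N13888 (iv F23863)) (tt N13899 (iv F23887)) (tt N8508 F18404) (tt N13901 D13924) (tt N8507 (iv D10957)) (tt N13893 (iv F23879)))
theorem Q10958 : ∀ i, i < 10958 → P i := stepQ 10957 Q10957 (allL N10957 (tt N8509 (iv D10958)) (tt N12465 (iv F21060)) (tt N13889 (iv F23867)) (tt N13902 D13925) (tt N8515 F18405) (tt N13903 D13926))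
theorem Q10959 : ∀ i, i < 10959 → P i := stepQ 10958 Q10958 (allL N10958 (tt N13902 (iv F23892)) (tt N8510 F18406) (tt N13904 D13927) (tt N8509 (iv D10959)) (tt N13905 D13928) (tt N12474 (iv F21079)))
theorem Q10960 : ∀ i, i < 10960 → P i := stepQ 10959 Q10959 (allL N10959 (tt N13903 (iv F23893)) (tt N8511 F18407) (tt N13891 (iv F23872)) (tt N12474 (iv F21078)) (tt N13906 D13929) (tt N8509 (iv D10960)))
theorem Q10961 : ∀ i, i < 10961 → P i := stepQ 10960 Q10960 (allL N10960 (tt N8568 F18408) (tt N13905 (iv F23894)) (tt N12477 (iv F21083)) (tt N8518 F18409) (tt N8510 (iv D10961)) (tt N13907 D13930))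
theorem Q10962 : ∀ i, i < 10962 → P i := stepQ 10961 Q10961 (allL N10961 (tt N8567 F18410) (tt N13906 (iv F23896)) (tt N8512 F18411) (tt N13908 D13931) (tt N8511 (iv D10962)) (tt N8519 F18412))
theorem Q10963 : ∀ i, i < 10963 → P i := stepQ 10962 Q10962 (allL N10962 (tt N12092 (iv F20391)) (tt N9210 F18413) (tt N13909 D13932) (tt N8512 (iv D10963)) (tt N8513 F18414) (tt N8520 F18415))
theorem Q10964 : ∀ i, i < 10964 → P i := stepQ 10963 Q10963 (allL N10963 (tt N12091 (iv F20389)) (tt N13910 D13933) (tt N8513 (iv D10964)) (tt N12096 (iv F20400)) (tt N13909 (iv F23902)) (tt N8514 F18416))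
theorem Q10965 : ∀ i, i < 10965 → P i := stepQ 10964 Q10964 (allL N10964 (tt N13911 D13934) (tt N8514 (iv D10965)) (tt N9209 F18417) (tt N13912 D13935) (tt N8522 F18418) (tt N13910 (iv F23905)))
theorem Q10966 : ∀ i, i < 10966 → P i := stepQ 10965 Q10965 (allL N10965 (tt N12090 (iv F20388)) (tt N13912 (iv F23908)) (tt N12098 (iv F20404)) (tt N8514 (iv D10966)) (tt N13913 D13936) (tt N12096 F20401))
theorem Q10967 : ∀ i, i < 10967 → P i := stepQ 10966 Q10966 (allL N10966 (tt N8516 F18419) (tt N8563 F18420) (tt N13914 D13937) (tt N8515 (iv D10967)) (tt N13915 D13938) (tt N8544 (iv F18421)))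
theorem Q10968 : ∀ i, i < 10968 → P i := stepQ 10967 Q10967 (allL N10967 (tt N8517 F18422) (tt N8562 F18423) (tt N13895 (iv F23882)) (tt N8544 F18424) (tt N13916 D13939) (tt N8515 (iv D10968)))
theorem Q10969 : ∀ i, i < 10969 → P i := stepQ 10968 Q10968 (allL N10968 (tt N13914 (iv F23910)) (tt N8538 F18425) (tt N8516 (iv D10969)) (tt N13570 (iv F23160)) (tt N13917 D13940) (tt N8536 F18426))
theorem Q10970 : ∀ i, i < 10970 → P i := stepQ 10969 Q10969 (allL N10969 (tt N13915 (iv F23912)) (tt N8518 F18427) (tt N13917 (iv F23917)) (tt N13905 (iv F23895)) (tt N8516 (iv D10970)) (tt N13918 D13941))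
theorem Q10971 : ∀ i, i < 10971 → P i := stepQ 10970 Q10970 (allL N10970 (tt N13916 (iv F23914)) (tt N8519 F18428) (tt N13899 (iv F23888)) (tt N13919 D13942) (tt N8517 (iv D10971)) (tt N13906 (iv F23897)))
theorem Q10972 : ∀ i, i < 10972 → P i := stepQ 10971 Q10971 (allL N10971 (tt N8561 F18429) (tt N13918 (iv F23918)) (tt N8543 F18430) (tt N13907 (iv F23899)) (tt N8542 F18431) (tt N8518 (iv D10972)))
theorem Q10973 : ∀ i, i < 10973 → P i := stepQ 10972 Q10972 (allL N10972 (tt N8559 F18432) (tt N13919 (iv F23920)) (tt N13920 D13943) (tt N8519 (iv D10973)) (tt N8541 F18433) (tt N13908 (iv F23901)))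
theorem Q10974 : ∀ i, i < 10974 → P i := stepQ 10973 Q10973 (allL N10973 (tt N13881 (iv F23850)) (tt N13921 D13944) (tt N8520 (iv D10974)) (tt N13922 D13945) (tt N8521 F18434) (tt N13909 (iv F23903)))
theorem Q10975 : ∀ i, i < 10975 → P i := stepQ 10974 Q10974 (allL N10974 (tt N13923 D13946) (tt N8521 (iv D10975)) (tt N9421 F18435) (tt N13885 (iv F23855)) (tt N13921 (iv F23925)) (tt N8522 F18436))
theorem Q10976 : ∀ i, i < 10976 → P i := stepQ 10975 Q10975 (allL N10975 (tt N8522 (iv D10976)) (tt N13883 (iv F23854)) (tt N9419 F18437) (tt N13924 D13947) (tt N13911 (iv F23907)) (tt N13923 (iv F23927)))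
theorem Q10977 : ∀ i, i < 10977 → P i := stepQ 10976 Q10976 (allL N10976 (tt N13924 (iv F23928)) (tt N8523 F18438) (tt N13925 D13948) (tt N8522 (iv D10977)) (tt N13926 D13949) (tt N13885 (iv F23856)))
theorem Q10978 : ∀ i, i < 10978 → P i := stepQ 10977 Q10977 (allL N10977 (tt N13552 (iv F23119)) (tt N13926 (iv F23929)) (tt N13515 F23017) (tt N13913 (iv F23909)) (tt N8523 (iv D10978)) (tt N13927 D13950))
theorem Q10979 : ∀ i, i < 10979 → P i := stepQ 10978 Q10978 (allL N10978 (tt N13928 D13951) (tt N8524 (iv D10979)) (tt N13691 (iv F23470)) (tt N13882 (iv F23852)) (tt N13929 D13952) (tt N13553 (iv F23123)))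
theorem Q10980 : ∀ i, i < 10980 → P i := stepQ 10979 Q10979 (allL N10979 (tt N12400 (iv F20947)) (tt N13929 (iv F23930)) (tt N8525 F18439) (tt N13930 D13953) (tt N8524 (iv D10980)) (tt N13931 D13954))
theorem Q10981 : ∀ i, i < 10981 → P i := stepQ 10980 Q10980 (allL N10980 (tt N12401 (iv F20949)) (tt N13688 (iv F23464)) (tt N13931 (iv F23931)) (tt N8529 F18440) (tt N13551 (iv F23117)) (tt N8525 (iv D10981)))
theorem Q10982 : ∀ i, i < 10982 → P i := stepQ 10981 Q10981 (allL N10981 (tt N8527 F18441) (tt N13932 D13955) (tt N8526 (iv D10982)) (tt N8580 F18442) (tt N13933 D13956) (tt N8569 F18443))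
theorem Q10983 : ∀ i, i < 10983 → P i := stepQ 10982 Q10982 (allL N10982 (tt N8528 F18444) (tt N12397 (iv F20942)) (tt N13933 (iv F23935)) (tt N13682 (iv F23451)) (tt N8526 (iv D10983)) (tt N13934 D13957))
theorem Q10984 : ∀ i, i < 10984 → P i := stepQ 10983 Q10983 (allL N10983 (tt N8580 F18445) (tt N12394 (iv F20935)) (tt N8579 F18446) (tt N8527 (iv D10984)) (tt N13935 D13958) (tt N8572 F18447))
theorem Q10985 : ∀ i, i < 10985 → P i := stepQ 10984 Q10984 (allL N10984 (tt N13933 (iv F23934)) (tt N12395 (iv F20937)) (tt N8528 F18448) (tt N13936 D13959) (tt N8527 (iv D10985)) (tt N13937 D13960))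
theorem Q10986 : ∀ i, i < 10986 → P i := stepQ 10985 Q10985 (allL N10985 (tt N13934 (iv F23936)) (tt N8529 F18449) (tt N13937 (iv F23940)) (tt N13688 (iv F23465)) (tt N8574 F18450) (tt N8528 (iv D10986)))
theorem Q10987 : ∀ i, i < 10987 → P i := stepQ 10986 Q10986 (allL N10986 (tt N8932 F18451) (tt N8531 F18452) (tt N13938 D13961) (tt N8530 (iv D10987)) (tt N9664 F18453) (tt N13755 (iv F23595)))
theorem Q10988 : ∀ i, i < 10988 → P i := stepQ 10987 Q10987 (allL N10987 (tt N13939 D13962) (tt N8532 (iv D10988)) (tt N8914 F18454) (tt N13887 (iv F23862)) (tt N13940 D13963) (tt N13760 (iv F23608)))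
theorem Q10989 : ∀ i, i < 10989 → P i := stepQ 10988 Q10988 (allL N10988 (tt N9666 F18455) (tt N13940 (iv F23945)) (tt N8533 F18456) (tt N13941 D13964) (tt N8532 (iv D10989)) (tt N13942 D13965))
theorem Q10990 : ∀ i, i < 10990 → P i := stepQ 10989 Q10989 (allL N10989 (tt N9667 F18457) (tt N13723 (iv F23523)) (tt N13942 (iv F23951)) (tt N9312 F18458) (tt N13762 (iv F23615)) (tt N8533 (iv D10990)))
theorem Q10991 : ∀ i, i < 10991 → P i := stepQ 10990 Q10990 (allL N10990 (tt N13943 D13966) (tt N8534 (iv D10991)) (tt N8540 F18459) (tt N13944 D13967) (tt N8536 F18460) (tt N13945 D13968))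
theorem Q10992 : ∀ i, i < 10992 → P i := stepQ 10991 Q10991 (allL N10991 (tt N9053 F18461) (tt N13944 (iv F23956)) (tt N13946 D13969) (tt N8534 (iv D10992)) (tt N13947 D13970) (tt N13948 D13971))
theorem Q10993 : ∀ i, i < 10993 → P i := stepQ 10992 Q10992 (allL N10992 (tt N9054 F18462) (tt N13945 (iv F23957)) (tt N8535 F18463) (tt N13948 (iv F23966)) (tt N13949 D13972) (tt N8534 (iv D10993)))
theorem Q10994 : ∀ i, i < 10994 → P i := stepQ 10993 Q10993 (allL N10993 (tt N9055 F18464) (tt N8543 F18465) (tt N13949 (iv F23968)) (tt N11384 (iv F19097)) (tt N8535 (iv D10994)) (tt N8539 F18466))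
theorem Q10995 : ∀ i, i < 10995 → P i := stepQ 10994 Q10994 (allL N10994 (tt N8536 (iv D10995)) (tt N13505 (iv F22980)) (tt N8544 F18467) (tt N13950 D13973) (tt N13943 (iv F23955)) (tt N13914 (iv F23911)))
theorem Q10996 : ∀ i, i < 10996 → P i := stepQ 10995 Q10995 (allL N10995 (tt N13950 (iv F23970)) (tt N8537 F18468) (tt N13951 D13974) (tt N8536 (iv D10996)) (tt N13952 D13975) (tt N13570 (iv F23161)))
theorem Q10997 : ∀ i, i < 10997 → P i := stepQ 10996 Q10996 (allL N10996 (tt N13507 (iv F22984)) (tt N13952 (iv F23972)) (tt N11410 (iv F19137)) (tt N13947 (iv F23963)) (tt N8537 (iv D10997)) (tt N13953 D13976))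
theorem Q10998 : ∀ i, i < 10998 → P i := stepQ 10997 Q10997 (allL N10997 (tt N11392 (iv F19108)) (tt N13917 (iv F23916)) (tt N8539 F18469) (tt N13954 D13977) (tt N8538 (iv D10998)) (tt N13949 (iv F23969)))
theorem Q10999 : ∀ i, i < 10999 → P i := stepQ 10998 Q10998 (allL N10998 (tt N8540 (iv D10999)) (tt N8555 F18470) (tt N13943 (iv F23954)) (tt N13955 D13978) (tt N8544 F18471) (tt N13956 D13979))
theorem Q11000 : ∀ i, i < 11000 → P i := stepQ 10999 Q10999 (allL N10999 (tt N13955 (iv F23976)) (tt N8541 F18472) (tt N13957 D13980) (tt N8540 (iv D11000)) (tt N13919 (iv F23921)) (tt N13958 D13981))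
theorem Q11001 : ∀ i, i < 11001 → P i := stepQ 11000 Q11000 (allL N11000 (tt N13956 (iv F23978)) (tt N8542 F18473) (tt N13945 (iv F23958)) (tt N13958 (iv F23981)) (tt N13918 (iv F23919)) (tt N8540 (iv D11001)))
theorem Q11002 : ∀ i, i < 11002 → P i := stepQ 11001 Q11001 (allL N11001 (tt N8558 F18474) (tt N13959 D13982) (tt N8541 (iv D11002)) (tt N8553 F18475) (tt N13920 (iv F23923)) (tt N8552 (iv F18476)))
theorem Q11003 : ∀ i, i < 11003 → P i := stepQ 11002 Q11002 (allL N11002 (tt N8560 F18477) (tt N13958 (iv F23980)) (tt N8552 F18478) (tt N8542 F18479) (tt N13960 D13983) (tt N8541 (iv D11003)))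
theorem Q11004 : ∀ i, i < 11004 → P i := stepQ 11003 Q11003 (allL N11003 (tt N8546 F18480) (tt N12377 (iv F20906)) (tt N8545 (iv D11004)) (tt N12374 (iv F20899)) (tt N13961 D13984) (tt N12391 (iv F20928)))
theorem Q11005 : ∀ i, i < 11005 → P i := stepQ 11004 Q11004 (allL N11004 (tt N8547 F18481) (tt N8570 F18482) (tt N13961 (iv F23987)) (tt N13543 (iv F23087)) (tt N8545 (iv D11005)) (tt N13962 D13985))
theorem Q11006 : ∀ i, i < 11006 → P i := stepQ 11005 Q11005 (allL N11005 (tt N13961 (iv F23986)) (tt N11933 (iv F20107)) (tt N8547 F18483) (tt N12161 (iv F20550)) (tt N8546 (iv D11006)) (tt N12160 F20548))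
theorem Q11007 : ∀ i, i < 11007 → P i := stepQ 11006 Q11006 (allL N11006 (tt N13962 (iv F23988)) (tt N8548 F18484) (tt N12160 F20547) (tt N13544 (iv F23089)) (tt N12399 (iv F20946)) (tt N8547 (iv D11007)))
theorem Q11008 : ∀ i, i < 11008 → P i := stepQ 11007 Q11007 (allL N11007 (tt N12483 (iv F21090)) (tt N8549 (iv D11008)) (tt N8551 F18485) (tt N13963 D13986) (tt N12124 (iv F20456)) (tt N13964 D13987))
theorem Q11009 : ∀ i, i < 11009 → P i := stepQ 11008 Q11008 (allL N11008 (tt N12128 (iv F20471)) (tt N13963 (iv F23990)) (tt N13965 D13988) (tt N8549 (iv D11009)) (tt N13966 D13989) (tt N13967 D13990))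
theorem Q11010 : ∀ i, i < 11010 → P i := stepQ 11009 Q11009 (allL N11009 (tt N12129 (iv F20475)) (tt N13964 (iv F23991)) (tt N8550 F18486) (tt N13967 (iv F23998)) (tt N13968 D13991) (tt N8549 (iv D11010)))
theorem Q11011 : ∀ i, i < 11011 → P i := stepQ 11010 Q11010 (allL N11010 (tt N12130 (iv F20479)) (tt N8554 F18487) (tt N13968 (iv F23999)) (tt N12405 (iv F20961)) (tt N8550 (iv D11011)) (tt N12127 (iv F20470)))
theorem Q11012 : ∀ i, i < 11012 → P i := stepQ 11011 Q11011 (allL N11011 (tt N8551 (iv D11012)) (tt N12139 (iv F20506)) (tt N12483 (iv F21092)) (tt N13969 D13992) (tt N12134 (iv F20491)) (tt N13970 D13993))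
theorem Q11013 : ∀ i, i < 11013 → P i := stepQ 11012 Q11012 (allL N11012 (tt N13969 (iv F24000)) (tt N8552 F18488) (tt N13971 D13994) (tt N8551 (iv D11013)) (tt N13972 D13995) (tt N13959 (iv F23983)))
theorem Q11014 : ∀ i, i < 11014 → P i := stepQ 11013 Q11013 (allL N11013 (tt N13970 (iv F24001)) (tt N8553 F18489) (tt N13964 (iv F23992)) (tt N13959 (iv F23982)) (tt N13973 D13996) (tt N8551 (iv D11014)))
theorem Q11015 : ∀ i, i < 11015 → P i := stepQ 11014 Q11014 (allL N11014 (tt N12142 (iv F20514)) (tt N13972 (iv F24002)) (tt N13960 (iv F23985)) (tt N12137 (iv F20502)) (tt N8552 (iv D11015)) (tt N13974 D13997))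
theorem Q11016 : ∀ i, i < 11016 → P i := stepQ 11015 Q11015 (allL N11015 (tt N12143 (iv F20517)) (tt N13973 (iv F24003)) (tt N8554 F18490) (tt N13975 D13998) (tt N8553 (iv D11016)) (tt N12138 (iv F20505)))
theorem Q11017 : ∀ i, i < 11017 → P i := stepQ 11016 Q11016 (allL N11016 (tt N8556 F18491) (tt N13955 (iv F23977)) (tt N13976 D13999) (tt N8555 (iv D11017)) (tt N13977 D14000) (tt N13978 D14001))
theorem Q11018 : ∀ i, i < 11018 → P i := stepQ 11017 Q11017 (allL N11017 (tt N8557 F18492) (tt N13956 (iv F23979)) (tt N13528 (iv F23064)) (tt N13978 (iv F24008)) (tt N13979 D14002) (tt N8555 (iv D11018)))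
theorem Q11019 : ∀ i, i < 11019 → P i := stepQ 11018 Q11018 (allL N11018 (tt N13976 (iv F24004)) (tt N13980 D14003) (tt N8556 (iv D11019)) (tt N13981 D14004) (tt N13982 D14005) (tt N13983 D14006))
theorem Q11020 : ∀ i, i < 11020 → P i := stepQ 11019 Q11019 (allL N11019 (tt N13977 (iv F24005)) (tt N8559 F18493) (tt N13982 (iv F24013)) (tt N8565 F18494) (tt N8556 (iv D11020)) (tt N13984 D14007))
theorem Q11021 : ∀ i, i < 11021 → P i := stepQ 11020 Q11020 (allL N11020 (tt N13978 (iv F24007)) (tt N8560 F18495) (tt N13983 (iv F24014)) (tt N8557 F18496) (tt N13985 D14008) (tt N8556 (iv D11021)))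
theorem Q11022 : ∀ i, i < 11022 → P i := stepQ 11021 Q11021 (allL N11021 (tt N13979 (iv F24009)) (tt N8561 F18497) (tt N9061 F18498) (tt N13986 D14009) (tt N8557 (iv D11022)) (tt N8566 F18499))
theorem Q11023 : ∀ i, i < 11023 → P i := stepQ 11022 Q11022 (allL N11022 (tt N13987 D14010) (tt N8558 (iv D11023)) (tt N13980 (iv F24012)) (tt N12141 (iv F20513)) (tt N13988 D14011) (tt N12140 F20510))
theorem Q11024 : ∀ i, i < 11024 → P i := stepQ 11023 Q11023 (allL N11023 (tt N13920 (iv F23922)) (tt N13988 (iv F24020)) (tt N8559 F18500) (tt N13989 D14012) (tt N8558 (iv D11024)) (tt N13990 D14013))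
theorem Q11025 : ∀ i, i < 11025 → P i := stepQ 11024 Q11024 (allL N11024 (tt N13908 (iv F23900)) (tt N13984 (iv F24015)) (tt N13990 (iv F24021)) (tt N8567 F18501) (tt N13991 D14014) (tt N8559 (iv D11025)))
theorem Q11026 : ∀ i, i < 11026 → P i := stepQ 11025 Q11025 (allL N11025 (tt N13960 (iv F23984)) (tt N13985 (iv F24017)) (tt N12142 (iv F20515)) (tt N13992 D14015) (tt N8560 (iv D11026)) (tt N13991 (iv F24022)))
theorem Q11027 : ∀ i, i < 11027 → P i := stepQ 11026 Q11026 (allL N11026 (tt N13907 (iv F23898)) (tt N13986 (iv F24018)) (tt N13993 D14016) (tt N8561 (iv D11027)) (tt N13992 (iv F24023)) (tt N8568 F18502))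
theorem Q11028 : ∀ i, i < 11028 → P i := stepQ 11027 Q11027 (allL N11027 (tt N8564 F18503) (tt N13994 D14017) (tt N8562 (iv D11028)) (tt N13995 D14018) (tt N13996 D14019) (tt N13877 (iv F23840)))
theorem Q11029 : ∀ i, i < 11029 → P i := stepQ 11028 Q11028 (allL N11028 (tt N8565 F18504) (tt N13916 (iv F23915)) (tt N13996 (iv F24030)) (tt N13977 (iv F24006)) (tt N8562 (iv D11029)) (tt N13997 D14020))
theorem Q11030 : ∀ i, i < 11030 → P i := stepQ 11029 Q11029 (allL N11029 (tt N8566 F18505) (tt N13915 (iv F23913)) (tt N13518 (iv F23022)) (tt N13998 D14021) (tt N8563 (iv D11030)) (tt N13979 (iv F24011)))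
theorem Q11031 : ∀ i, i < 11031 → P i := stepQ 11030 Q11030 (allL N11030 (tt N13995 (iv F24027)) (tt N13880 (iv F23847)) (tt N13999 D14022) (tt N8564 (iv D11031)) (tt N14000 D14023) (tt N13878 (iv F23842)))
theorem Q11032 : ∀ i, i < 11032 → P i := stepQ 11031 Q11031 (allL N11031 (tt N13996 (iv F24029)) (tt N13385 (iv F22803)) (tt N8565 F18506) (tt N14001 D14024) (tt N8564 (iv D11032)) (tt N13383 (iv F22800)))
theorem Q11033 : ∀ i, i < 11033 → P i := stepQ 11032 Q11032 (allL N11032 (tt N13997 (iv F24031)) (tt N8567 F18507) (tt N13383 (iv F22799)) (tt N13984 (iv F24016)) (tt N12467 (iv F21067)) (tt N8565 (iv D11033)))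
theorem Q11034 : ∀ i, i < 11034 → P i := stepQ 11033 Q11033 (allL N11033 (tt N13998 (iv F24032)) (tt N8568 F18508) (tt N14002 D14025) (tt N8566 (iv D11034)) (tt N12466 (iv F21064)) (tt N13986 (iv F24019)))
theorem Q11035 : ∀ i, i < 11035 → P i := stepQ 11034 Q11034 (allL N11034 (tt N12477 (iv F21082)) (tt N14003 D14026) (tt N8568 (iv D11035)) (tt N14004 D14027) (tt N12462 F21054) (tt N13993 (iv F24024)))
theorem Q11036 : ∀ i, i < 11036 → P i := stepQ 11035 Q11035 (allL N11035 (tt N12379 (iv F20910)) (tt N8569 (iv D11036)) (tt N12377 (iv F20907)) (tt N12203 F20632) (tt N14005 D14028) (tt N13932 (iv F23933)))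
theorem Q11037 : ∀ i, i < 11037 → P i := stepQ 11036 Q11036 (allL N11036 (tt N8573 F18509) (tt N14005 (iv F24038)) (tt N8570 F18510) (tt N14006 D14029) (tt N8569 (iv D11037)) (tt N14007 D14030))
theorem Q11038 : ∀ i, i < 11038 → P i := stepQ 11037 Q11037 (allL N11037 (tt N8574 F18511) (tt N13962 (iv F23989)) (tt N14007 (iv F24041)) (tt N13546 (iv F23095)) (tt N13934 (iv F23937)) (tt N8570 (iv D11038)))
theorem Q11039 : ∀ i, i < 11039 → P i := stepQ 11038 Q11038 (allL N11038 (tt N8571 (iv D11039)) (tt N12379 (iv F20911)) (tt N8575 F18512) (tt N14008 D14031) (tt N12165 (iv F20561)) (tt N12389 (iv F20924)))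
theorem Q11040 : ∀ i, i < 11040 → P i := stepQ 11039 Q11039 (allL N11039 (tt N14008 (iv F24042)) (tt N8572 F18513) (tt N14008 (iv F24043)) (tt N8571 (iv D11040)) (tt N14009 D14032) (tt N12394 (iv F20936)))
theorem Q11041 : ∀ i, i < 11041 → P i := stepQ 11040 Q11040 (allL N11040 (tt N12165 (iv F20560)) (tt N8573 F18514) (tt N8576 F18515) (tt N14010 D14033) (tt N8571 (iv D11041)) (tt N14011 D14034))
theorem Q11042 : ∀ i, i < 11042 → P i := stepQ 11041 Q11041 (allL N11041 (tt N12224 (iv F20661)) (tt N14009 (iv F24044)) (tt N12223 (iv F20659)) (tt N14012 D14035) (tt N8572 (iv D11042)) (tt N14013 D14036))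
theorem Q11043 : ∀ i, i < 11043 → P i := stepQ 11042 Q11042 (allL N11042 (tt N14006 (iv F24039)) (tt N14010 (iv F24045)) (tt N14014 D14037) (tt N8573 (iv D11043)) (tt N14012 (iv F24048)) (tt N14015 D14038))
theorem Q11044 : ∀ i, i < 11044 → P i := stepQ 11043 Q11043 (allL N11043 (tt N14007 (iv F24040)) (tt N14011 (iv F24046)) (tt N8574 F18516) (tt N14015 (iv F24049)) (tt N13937 (iv F23941)) (tt N8573 (iv D11044)))
theorem Q11045 : ∀ i, i < 11045 → P i := stepQ 11044 Q11044 (allL N11044 (tt N12166 (iv F20562)) (tt N8577 F18517) (tt N14011 (iv F24047)) (tt N12164 (iv F20559)) (tt N12396 (iv F20940)) (tt N8576 (iv D11045)))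
theorem Q11046 : ∀ i, i < 11046 → P i := stepQ 11045 Q11045 (allL N11045 (tt N10922 F18518) (tt N8579 F18519) (tt N14016 D14039) (tt N8578 (iv D11046)) (tt N14017 D14040) (tt N12202 (iv F20629)))
theorem Q11047 : ∀ i, i < 11047 → P i := stepQ 11046 Q11046 (allL N11046 (tt N8581 F18520) (tt N14017 (iv F24052)) (tt N13935 (iv F23939)) (tt N13684 (iv F23456)) (tt N8579 (iv D11047)) (tt N14018 D14041))
theorem Q11048 : ∀ i, i < 11048 → P i := stepQ 11047 Q11047 (allL N11047 (tt N14016 (iv F24050)) (tt N8580 (iv D11048)) (tt N10922 F18521) (tt N13932 (iv F23932)) (tt N14019 D14042) (tt N12203 (iv F20631)))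
theorem Q11049 : ∀ i, i < 11049 → P i := stepQ 11048 Q11048 (allL N11048 (tt N13935 (iv F23938)) (tt N14019 (iv F24054)) (tt N8581 F18522) (tt N14020 D14043) (tt N8580 (iv D11049)) (tt N14021 D14044))
theorem Q11050 : ∀ i, i < 11050 → P i := stepQ 11049 Q11049 (allL N11049 (tt N14018 (iv F24053)) (tt N10933 F18523) (tt N14021 (iv F24056)) (tt N13696 (iv F23480)) (tt N12225 (iv F20665)) (tt N8581 (iv D11050)))
theorem Q11051 : ∀ i, i < 11051 → P i := stepQ 11050 Q11050 (allL N11050 (tt N8583 F18524) (tt N8587 F18525) (tt N14022 D14045) (tt N8582 (iv D11051)) (tt N14023 D14046) (tt N8620 (iv F18526)))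
theorem Q11052 : ∀ i, i < 11052 → P i := stepQ 11051 Q11051 (allL N11051 (tt N8584 F18527) (tt N8588 F18528) (tt N10039 F18529) (tt N8620 F18530) (tt N14024 D14047) (tt N8582 (iv D11052)))
theorem Q11053 : ∀ i, i < 11053 → P i := stepQ 11052 Q11052 (allL N11052 (tt N14022 (iv F24057)) (tt N8617 F18531) (tt N8583 (iv D11053)) (tt N14025 D14048) (tt N14026 D14049) (tt N8614 F18532))
theorem Q11054 : ∀ i, i < 11054 → P i := stepQ 11053 Q11053 (allL N11053 (tt N14023 (iv F24059)) (tt N8585 F18533) (tt N14026 (iv F24067)) (tt N12184 (iv F20591)) (tt N8583 (iv D11054)) (tt N14027 D14050))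
theorem Q11055 : ∀ i, i < 11055 → P i := stepQ 11054 Q11054 (allL N11054 (tt N14024 (iv F24061)) (tt N8586 F18534) (tt N10042 F18535) (tt N14028 D14051) (tt N8584 (iv D11055)) (tt N11886 (iv F20007)))
theorem Q11056 : ∀ i, i < 11056 → P i := stepQ 11055 Q11055 (allL N11055 (tt N8595 F18536) (tt N14027 (iv F24068)) (tt N8624 F18537) (tt N12185 (iv F20593)) (tt N8623 F18538) (tt N8585 (iv D11056)))
theorem Q11057 : ∀ i, i < 11057 → P i := stepQ 11056 Q11056 (allL N11056 (tt N8597 F18539) (tt N14028 (iv F24070)) (tt N14029 D14052) (tt N8586 (iv D11057)) (tt N8622 F18540) (tt N11887 (iv F20009)))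
theorem Q11058 : ∀ i, i < 11058 → P i := stepQ 11057 Q11057 (allL N11057 (tt N8589 F18541) (tt N14030 D14053) (tt N8587 (iv D11058)) (tt N12548 (iv F21235)) (tt N14031 D14054) (tt N14032 D14055))
theorem Q11059 : ∀ i, i < 11059 → P i := stepQ 11058 Q11058 (allL N11058 (tt N8590 F18542) (tt N14023 (iv F24060)) (tt N14031 (iv F24077)) (tt N12497 (iv F21127)) (tt N8587 (iv D11059)) (tt N14033 D14056))
theorem Q11060 : ∀ i, i < 11060 → P i := stepQ 11059 Q11059 (allL N11059 (tt N8591 F18543) (tt N8620 F18544) (tt N14032 (iv F24079)) (tt N8588 F18545) (tt N14034 D14057) (tt N8587 (iv D11060)))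
theorem Q11061 : ∀ i, i < 11061 → P i := stepQ 11060 Q11060 (allL N11060 (tt N8592 F18546) (tt N14024 (iv F24062)) (tt N8600 F18547) (tt N14035 D14058) (tt N8588 (iv D11061)) (tt N12493 (iv F21116)))
theorem Q11062 : ∀ i, i < 11062 → P i := stepQ 11061 Q11061 (allL N11061 (tt N14036 D14059) (tt N8589 (iv D11062)) (tt N8593 F18548) (tt N14037 D14060) (tt N14038 D14061) (tt N8607 (iv F18549)))
theorem Q11063 : ∀ i, i < 11063 → P i := stepQ 11062 Q11062 (allL N11062 (tt N12548 (iv F21233)) (tt N14037 (iv F24089)) (tt N12547 (iv F21232)) (tt N8589 (iv D11063)) (tt N14039 D14062) (tt N14040 D14063))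
theorem Q11064 : ∀ i, i < 11064 → P i := stepQ 11063 Q11063 (allL N11063 (tt N14031 (iv F24076)) (tt N14038 (iv F24092)) (tt N8590 F18550) (tt N14041 D14064) (tt N8589 (iv D11064)) (tt N14042 D14065))
theorem Q11065 : ∀ i, i < 11065 → P i := stepQ 11064 Q11064 (allL N11064 (tt N14032 (iv F24078)) (tt N8607 F18551) (tt N8591 F18552) (tt N14040 (iv F24097)) (tt N14043 D14066) (tt N8589 (iv D11065)))
theorem Q11066 : ∀ i, i < 11066 → P i := stepQ 11065 Q11065 (allL N11065 (tt N14033 (iv F24081)) (tt N8595 F18553) (tt N14042 (iv F24098)) (tt N12498 (iv F21129)) (tt N14044 D14067) (tt N8590 (iv D11066)))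
theorem Q11067 : ∀ i, i < 11067 → P i := stepQ 11066 Q11066 (allL N11066 (tt N14034 (iv F24082)) (tt N8596 F18554) (tt N14043 (iv F24100)) (tt N14045 D14068) (tt N8591 (iv D11067)) (tt N14044 (iv F24102)))
theorem Q11068 : ∀ i, i < 11068 → P i := stepQ 11067 Q11067 (allL N11067 (tt N14035 (iv F24084)) (tt N8597 F18555) (tt N14046 D14069) (tt N8592 (iv D11068)) (tt N14045 (iv F24104)) (tt N12494 (iv F21118)))
theorem Q11069 : ∀ i, i < 11069 → P i := stepQ 11068 Q11068 (allL N11068 (tt N8593 (iv D11069)) (tt N8613 F18556) (tt N14036 (iv F24085)) (tt N8606 F18557) (tt N14047 D14070) (tt N8605 F18558))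
theorem Q11070 : ∀ i, i < 11070 → P i := stepQ 11069 Q11069 (allL N11069 (tt N14047 (iv F24105)) (tt N8594 F18559) (tt N14038 (iv F24093)) (tt N14048 D14071) (tt N8593 (iv D11070)) (tt N14049 D14072))
theorem Q11071 : ∀ i, i < 11071 → P i := stepQ 11070 Q11070 (allL N11070 (tt N8625 F18560) (tt N14048 (iv F24109)) (tt N9563 (iv F18562)) (tt N8594 (iv D11071)) (tt N8611 F18561) (tt N11709 (iv F19709)))
theorem Q11072 : ∀ i, i < 11072 → P i := stepQ 11071 Q11071 (allL N11071 (tt N8624 F18563) (tt N14049 (iv F24111)) (tt N8595 F18564) (tt N11709 (iv F19708)) (tt N8610 F18565) (tt N8594 (iv D11072)))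
theorem Q11073 : ∀ i, i < 11073 → P i := stepQ 11072 Q11072 (allL N11072 (tt N8623 F18566) (tt N14044 (iv F24101)) (tt N8610 F18567) (tt N14050 D14073) (tt N8595 (iv D11073)) (tt N8596 F18568))
theorem Q11074 : ∀ i, i < 11074 → P i := stepQ 11073 Q11073 (allL N11073 (tt N8622 F18569) (tt N14045 (iv F24103)) (tt N14051 D14074) (tt N8596 (iv D11074)) (tt N8597 F18570) (tt N14050 (iv F24115)))
theorem Q11075 : ∀ i, i < 11075 → P i := stepQ 11074 Q11074 (allL N11074 (tt N14029 (iv F24072)) (tt N14052 D14075) (tt N8597 (iv D11075)) (tt N11885 (iv F20004)) (tt N14051 (iv F24118)) (tt N12499 (iv F21130)))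
theorem Q11076 : ∀ i, i < 11076 → P i := stepQ 11075 Q11075 (allL N11075 (tt N12544 (iv F21224)) (tt N8598 (iv D11076)) (tt N12506 (iv F21145)) (tt N14053 D14076) (tt N14054 D14077) (tt N12542 F21222))
theorem Q11077 : ∀ i, i < 11077 → P i := stepQ 11076 Q11076 (allL N11076 (tt N8601 F18571) (tt N14053 (iv F24120)) (tt N14040 (iv F24096)) (tt N8598 (iv D11077)) (tt N12435 (iv F26083)) (tt N12547 (iv F21231)))
theorem Q11078 : ∀ i, i < 11078 → P i := stepQ 11077 Q11077 (allL N11077 (tt N8602 F18572) (tt N14054 (iv F24121)) (tt N8599 F18573) (tt N12436 (iv F26080)) (tt N8598 (iv D11078)) (tt N14055 D14080))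
theorem Q11079 : ∀ i, i < 11079 → P i := stepQ 11078 Q11078 (allL N11078 (tt N8603 F18574) (tt N11541 (iv F19371)) (tt N14055 (iv F24125)) (tt N12490 (iv F21107)) (tt N10893 F18575) (tt N8599 (iv D11079)))
theorem Q11080 : ∀ i, i < 11080 → P i := stepQ 11079 Q11079 (allL N11079 (tt N8604 F18576) (tt N11542 (iv F19375)) (tt N14056 D14081) (tt N8600 (iv D11080)) (tt N10892 F18577) (tt N12489 (iv F21104)))
theorem Q11081 : ∀ i, i < 11081 → P i := stepQ 11080 Q11080 (allL N11080 (tt N14040 (iv F24094)) (tt N14057 D14082) (tt N8601 (iv D11081)) (tt N14032 (iv F24080)) (tt N14058 D14083) (tt N12548 (iv F21234)))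
theorem Q11082 : ∀ i, i < 11082 → P i := stepQ 11081 Q11081 (allL N11081 (tt N12435 (iv F26082)) (tt N12553 (iv F21238)) (tt N14058 (iv F24129)) (tt N12432 (iv F26077)) (tt N8601 (iv D11082)) (tt N14059 D14085))
theorem Q11083 : ∀ i, i < 11083 → P i := stepQ 11082 Q11082 (allL N11082 (tt N12436 (iv F26079)) (tt N12554 (iv F21239)) (tt N12433 (iv F26081)) (tt N8602 (iv D11083)) (tt N12432 (iv F26078)) (tt N14060 D14087))
theorem Q11084 : ∀ i, i < 11084 → P i := stepQ 11083 Q11083 (allL N11083 (tt N14055 (iv F24124)) (tt N10891 F18578) (tt N8603 F18579) (tt N14060 (iv F24132)) (tt N10887 F18580) (tt N8602 (iv D11084)))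
theorem Q11085 : ∀ i, i < 11085 → P i := stepQ 11084 Q11084 (allL N11084 (tt N14056 (iv F24127)) (tt N11510 (iv F19314)) (tt N8604 (iv D11085)) (tt N14061 D14088) (tt N10894 F18581) (tt N12492 (iv F21113)))
theorem Q11086 : ∀ i, i < 11086 → P i := stepQ 11085 Q11085 (allL N11085 (tt N8607 F18582) (tt N14062 D14089) (tt N8605 (iv D11086)) (tt N14063 D14090) (tt N11472 (iv F19257)) (tt N14036 (iv F24086)))
theorem Q11087 : ∀ i, i < 11087 → P i := stepQ 11086 Q11086 (allL N11086 (tt N14063 (iv F24134)) (tt N14040 (iv F24095)) (tt N14064 D14091) (tt N8607 (iv D11087)) (tt N14065 D14092) (tt N14037 (iv F24090)))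
theorem Q11088 : ∀ i, i < 11088 → P i := stepQ 11087 Q11087 (allL N11087 (tt N11472 (iv F19256)) (tt N14043 (iv F24099)) (tt N8608 F18583) (tt N14066 D14093) (tt N8607 (iv D11088)) (tt N14067 D14094))
theorem Q11089 : ∀ i, i < 11089 → P i := stepQ 11088 Q11088 (allL N11088 (tt N11473 (iv F19258)) (tt N8610 F18584) (tt N14067 (iv F24140)) (tt N9959 F18585) (tt N14049 (iv F24112)) (tt N8608 (iv D11089)))
theorem Q11090 : ∀ i, i < 11090 → P i := stepQ 11089 Q11089 (allL N11089 (tt N10845 F18586) (tt N8611 F18587) (tt N14068 D14095) (tt N8609 (iv D11090)) (tt N14048 (iv F24110)) (tt N9597 F18588))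
theorem Q11091 : ∀ i, i < 11091 → P i := stepQ 11090 Q11090 (allL N11090 (tt N14069 D14096) (tt N8612 (iv D11091)) (tt N14062 (iv F24133)) (tt N12288 (iv F20787)) (tt N11474 (iv F19261)) (tt N14070 D14097))
theorem Q11092 : ∀ i, i < 11092 → P i := stepQ 11091 Q11091 (allL N11091 (tt N8617 F18589) (tt N14070 (iv F24145)) (tt N8613 F18590) (tt N8629 F18591) (tt N14071 D14098) (tt N8612 (iv D11092)))
theorem Q11093 : ∀ i, i < 11093 → P i := stepQ 11092 Q11092 (allL N11092 (tt N8619 F18592) (tt N14047 (iv F24106)) (tt N14071 (iv F24148)) (tt N10849 F18593) (tt N8613 (iv D11093)) (tt N11477 (iv F19266)))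
theorem Q11094 : ∀ i, i < 11094 → P i := stepQ 11093 Q11093 (allL N11093 (tt N8614 (iv D11094)) (tt N14069 (iv F24144)) (tt N8620 F18594) (tt N14072 D14099) (tt N14073 D14100) (tt N14022 (iv F24058)))
theorem Q11095 : ∀ i, i < 11095 → P i := stepQ 11094 Q11094 (allL N11094 (tt N14072 (iv F24149)) (tt N8615 F18595) (tt N14074 D14101) (tt N8614 (iv D11095)) (tt N14075 D14102) (tt N14025 (iv F24065)))
theorem Q11096 : ∀ i, i < 11096 → P i := stepQ 11095 Q11095 (allL N11095 (tt N14073 (iv F24151)) (tt N8616 F18596) (tt N8621 F18597) (tt N14076 D14103) (tt N8614 (iv D11096)) (tt N14077 D14104))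
theorem Q11097 : ∀ i, i < 11097 → P i := stepQ 11096 Q11096 (allL N11096 (tt N12289 (iv F20789)) (tt N14075 (iv F24155)) (tt N12287 (iv F20784)) (tt N14078 D14105) (tt N8615 (iv D11097)) (tt N14079 D14106))
theorem Q11098 : ∀ i, i < 11098 → P i := stepQ 11097 Q11097 (allL N11097 (tt N8629 F18598) (tt N14025 (iv F24064)) (tt N8628 F18599) (tt N8617 F18600) (tt N14080 D14107) (tt N8615 (iv D11098)))
theorem Q11099 : ∀ i, i < 11099 → P i := stepQ 11098 Q11098 (allL N11098 (tt N11475 (iv F19262)) (tt N14076 (iv F24156)) (tt N11481 (iv F19273)) (tt N8616 (iv D11099)) (tt N14078 (iv F24159)) (tt N11480 F19272))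
theorem Q11100 : ∀ i, i < 11100 → P i := stepQ 11099 Q11099 (allL N11099 (tt N11476 (iv F19263)) (tt N14077 (iv F24157)) (tt N8618 F18601) (tt N11480 (iv F19271)) (tt N14081 D14108) (tt N8616 (iv D11100)))
theorem Q11101 : ∀ i, i < 11101 → P i := stepQ 11100 Q11100 (allL N11100 (tt N14071 (iv F24147)) (tt N14026 (iv F24066)) (tt N8619 F18602) (tt N14082 D14109) (tt N8617 (iv D11101)) (tt N14081 (iv F24163)))
theorem Q11102 : ∀ i, i < 11102 → P i := stepQ 11101 Q11101 (allL N11101 (tt N11477 (iv F19265)) (tt N8624 F18603) (tt N14081 (iv F24162)) (tt N10856 F18604) (tt N8618 (iv D11102)) (tt N8619 F18605))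
theorem Q11103 : ∀ i, i < 11103 → P i := stepQ 11102 Q11102 (allL N11102 (tt N8621 F18606) (tt N14034 (iv F24083)) (tt N14073 (iv F24152)) (tt N14083 D14110) (tt N8620 (iv D11103)) (tt N14084 D14111))
theorem Q11104 : ∀ i, i < 11104 → P i := stepQ 11103 Q11103 (allL N11103 (tt N14083 (iv F24164)) (tt N8622 F18607) (tt N14085 D14112) (tt N8621 (iv D11104)) (tt N14028 (iv F24071)) (tt N14086 D14113))
theorem Q11105 : ∀ i, i < 11105 → P i := stepQ 11104 Q11104 (allL N11104 (tt N14084 (iv F24165)) (tt N8623 F18608) (tt N14077 (iv F24158)) (tt N14086 (iv F24167)) (tt N14027 (iv F24069)) (tt N8621 (iv D11105)))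
theorem Q11106 : ∀ i, i < 11106 → P i := stepQ 11105 Q11105 (allL N11105 (tt N14051 (iv F24116)) (tt N14087 D14114) (tt N8622 (iv D11106)) (tt N11700 (iv F19690)) (tt N14029 (iv F24074)) (tt N11699 F19688))
theorem Q11107 : ∀ i, i < 11107 → P i := stepQ 11106 Q11106 (allL N11106 (tt N14050 (iv F24113)) (tt N14086 (iv F24166)) (tt N11699 (iv F19687)) (tt N8623 F18609) (tt N14088 D14115) (tt N8622 (iv D11107)))
theorem Q11108 : ∀ i, i < 11108 → P i := stepQ 11107 Q11107 (allL N11107 (tt N11709 (iv F19707)) (tt N10856 F18610) (tt N12393 (iv F20934)) (tt N8624 (iv D11108)) (tt N9600 F18611) (tt N8625 F18612))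
theorem Q11109 : ∀ i, i < 11109 → P i := stepQ 11108 Q11108 (allL N11108 (tt N9563 F18613) (tt N14089 D14116) (tt N8625 (iv D11109)) (tt N12162 (iv F20552)) (tt N8626 F18614) (tt N12393 (iv F20933)))
theorem Q11110 : ∀ i, i < 11110 → P i := stepQ 11109 Q11109 (allL N11109 (tt N14090 D14117) (tt N8626 (iv D11110)) (tt N10859 F18615) (tt N9553 F18616) (tt N14089 (iv F24169)) (tt N9598 F18617))
theorem Q11111 : ∀ i, i < 11111 → P i := stepQ 11110 Q11110 (allL N11110 (tt N12245 (iv F20707)) (tt N8628 F18618) (tt N14091 D14118) (tt N8627 (iv D11111)) (tt N14092 D14119) (tt N12247 (iv F20714)))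
theorem Q11112 : ∀ i, i < 11112 → P i := stepQ 11111 Q11111 (allL N11111 (tt N8630 F18619) (tt N14092 (iv F24174)) (tt N14080 (iv F24161)) (tt N10835 F18620) (tt N8628 (iv D11112)) (tt N14093 D14120))
theorem Q11113 : ∀ i, i < 11113 → P i := stepQ 11112 Q11112 (allL N11112 (tt N14094 D14121) (tt N8629 (iv D11113)) (tt N12243 F20703) (tt N14070 (iv F24146)) (tt N14095 D14122) (tt N12288 (iv F20788)))
theorem Q11114 : ∀ i, i < 11114 → P i := stepQ 11113 Q11113 (allL N11113 (tt N14080 (iv F24160)) (tt N14095 (iv F24178)) (tt N8630 F18621) (tt N14096 D14123) (tt N8629 (iv D11114)) (tt N14097 D14124))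
theorem Q11115 : ∀ i, i < 11115 → P i := stepQ 11114 Q11114 (allL N11114 (tt N14093 (iv F24176)) (tt N12286 (iv F20781)) (tt N14097 (iv F24179)) (tt N10841 F18622) (tt N12290 (iv F20793)) (tt N8630 (iv D11115)))
theorem Q11116 : ∀ i, i < 11116 → P i := stepQ 11115 Q11115 (allL N11115 (tt N8907 F18623) (tt N14098 D14125) (tt N8632 (iv D11116)) (tt N14099 D14126) (tt N13224 (iv F22488)) (tt N11199 (iv F18771)))
theorem Q11117 : ∀ i, i < 11117 → P i := stepQ 11116 Q11116 (allL N11116 (tt N14100 D14127) (tt N8633 (iv D11117)) (tt N14098 (iv F24180)) (tt N11202 (iv F18780)) (tt N13226 (iv F22492)) (tt N11202 (iv F18781)))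
theorem Q11118 : ∀ i, i < 11118 → P i := stepQ 11117 Q11117 (allL N11117 (tt N14101 D14128) (tt N8634 (iv D11118)) (tt N11187 (iv F18749)) (tt N14102 D14129) (tt N13778 (iv F23641)) (tt N14101 F24185))
theorem Q11119 : ∀ i, i < 11119 → P i := stepQ 11118 Q11118 (allL N11118 (tt N8637 F18624) (tt N14102 (iv F24187)) (tt N8659 F18625) (tt N8634 (iv D11119)) (tt N14103 D14130) (tt N8657 (iv F18626)))
theorem Q11120 : ∀ i, i < 11120 → P i := stepQ 11119 Q11119 (allL N11119 (tt N8636 F18627) (tt N14101 (iv F24183)) (tt N8635 F18628) (tt N8657 F18629) (tt N14104 D14131) (tt N8634 (iv D11120)))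
theorem Q11121 : ∀ i, i < 11121 → P i := stepQ 11120 Q11120 (allL N11120 (tt N8640 F18630) (tt N11191 (iv F18759)) (tt N14104 (iv F24193)) (tt N8912 F18631) (tt N8635 (iv D11121)) (tt N13781 (iv F23647)))
theorem Q11122 : ∀ i, i < 11122 → P i := stepQ 11121 Q11121 (allL N11121 (tt N8657 F18632) (tt N8637 F18633) (tt N8652 F18634) (tt N8636 (iv D11122)) (tt N14105 D14132) (tt N8637 F18635))
theorem Q11123 : ∀ i, i < 11123 → P i := stepQ 11122 Q11122 (allL N11122 (tt N14104 (iv F24192)) (tt N8638 F18636) (tt N8640 F18637) (tt N14106 D14133) (tt N8636 (iv D11123)) (tt N14107 D14134))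
theorem Q11124 : ∀ i, i < 11124 → P i := stepQ 11123 Q11123 (allL N11123 (tt N8659 F18638) (tt N14108 D14135) (tt N8637 (iv D11124)) (tt N8653 F18639) (tt N14109 D14136) (tt N8652 F18640))
theorem Q11125 : ∀ i, i < 11125 → P i := stepQ 11124 Q11124 (allL N11124 (tt N14103 (iv F24190)) (tt N14105 (iv F24195)) (tt N14109 (iv F24206)) (tt N14110 D14137) (tt N8637 (iv D11125)) (tt N14111 D14138))
theorem Q11126 : ∀ i, i < 11126 → P i := stepQ 11125 Q11125 (allL N11125 (tt N13779 (iv F23642)) (tt N14106 (iv F24197)) (tt N13787 (iv F23655)) (tt N8638 (iv D11126)) (tt N14110 (iv F24207)) (tt N13785 F23653))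
theorem Q11127 : ∀ i, i < 11127 → P i := stepQ 11126 Q11126 (allL N11126 (tt N13780 (iv F23643)) (tt N14107 (iv F24198)) (tt N8639 F18641) (tt N13785 (iv F23652)) (tt N14107 (iv F24200)) (tt N8638 (iv D11127)))
theorem Q11128 : ∀ i, i < 11128 → P i := stepQ 11127 Q11127 (allL N11127 (tt N13781 (iv F23645)) (tt N8642 F18642) (tt N14107 (iv F24199)) (tt N8923 F18643) (tt N8639 (iv D11128)) (tt N8640 F18644))
theorem Q11129 : ∀ i, i < 11129 → P i := stepQ 11128 Q11128 (allL N11128 (tt N11200 (iv F18772)) (tt N14112 D14139) (tt N8641 (iv D11129)) (tt N13229 (iv F22500)) (tt N8643 F18645) (tt N13231 (iv F22508)))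
theorem Q11130 : ∀ i, i < 11130 → P i := stepQ 11129 Q11129 (allL N11129 (tt N11201 (iv F18776)) (tt N8923 F18646) (tt N13231 (iv F22506)) (tt N8642 F18647) (tt N8648 F18648) (tt N8641 (iv D11130)))
theorem Q11131 : ∀ i, i < 11131 → P i := stepQ 11130 Q11130 (allL N11130 (tt N14113 D14140) (tt N8643 (iv D11131)) (tt N8926 F18649) (tt N8650 F18650) (tt N14112 (iv F24209)) (tt N8650 F18651))
theorem Q11132 : ∀ i, i < 11132 → P i := stepQ 11131 Q11131 (allL N11131 (tt N13447 (iv F22899)) (tt N14114 D14141) (tt N8644 (iv D11132)) (tt N14115 D14142) (tt N13208 (iv F22443)) (tt N14116 D14143))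
theorem Q11133 : ∀ i, i < 11133 → P i := stepQ 11132 Q11132 (allL N11132 (tt N13448 (iv F22901)) (tt N8647 F18652) (tt N14116 (iv F24214)) (tt N8645 F18653) (tt N14117 D14144) (tt N8644 (iv D11133)))
theorem Q11134 : ∀ i, i < 11134 → P i := stepQ 11133 Q11133 (allL N11133 (tt N14118 D14145) (tt N8646 (iv D11134)) (tt N14114 (iv F24213)) (tt N14119 D14146) (tt N13209 (iv F22444)) (tt N14120 D14147))
theorem Q11135 : ∀ i, i < 11135 → P i := stepQ 11134 Q11134 (allL N11134 (tt N13231 (iv F22505)) (tt N14119 (iv F24216)) (tt N11201 (iv F18777)) (tt N8646 (iv D11135)) (tt N13228 (iv F22498)) (tt N11200 F18775))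
theorem Q11136 : ∀ i, i < 11136 → P i := stepQ 11135 Q11135 (allL N11135 (tt N13229 (iv F22499)) (tt N14120 (iv F24217)) (tt N8647 F18654) (tt N11200 (iv F18774)) (tt N13227 (iv F22495)) (tt N8646 (iv D11136)))
theorem Q11137 : ∀ i, i < 11137 → P i := stepQ 11136 Q11136 (allL N11136 (tt N13222 (iv F22479)) (tt N14117 (iv F24215)) (tt N13227 (iv F22494)) (tt N12967 (iv F21999)) (tt N8647 (iv D11137)) (tt N12966 F21996))
theorem Q11138 : ∀ i, i < 11138 → P i := stepQ 11137 Q11137 (allL N11137 (tt N13228 (iv F22496)) (tt N14121 D14148) (tt N8648 (iv D11138)) (tt N13221 (iv F22477)) (tt N13231 (iv F22507)) (tt N8649 F18655))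
theorem Q11139 : ∀ i, i < 11139 → P i := stepQ 11138 Q11138 (allL N11138 (tt N14122 D14149) (tt N8649 (iv D11139)) (tt N8920 F18656) (tt N14123 D14150) (tt N8650 F18657) (tt N14121 (iv F24219)))
theorem Q11140 : ∀ i, i < 11140 → P i := stepQ 11139 Q11139 (allL N11139 (tt N13227 (iv F22493)) (tt N14123 (iv F24222)) (tt N13222 (iv F22481)) (tt N8649 (iv D11140)) (tt N13229 (iv F22501)) (tt N13221 F22478))
theorem Q11141 : ∀ i, i < 11141 → P i := stepQ 11140 Q11140 (allL N11140 (tt N8650 (iv D11141)) (tt N14100 (iv F24182)) (tt N8924 F18658) (tt N14113 (iv F24211)) (tt N14122 (iv F24221)) (tt N14113 (iv F24212)))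
theorem Q11142 : ∀ i, i < 11142 → P i := stepQ 11141 Q11141 (allL N11141 (tt N8651 (iv D11142)) (tt N8655 F18659) (tt N8709 F18660) (tt N14124 D14151) (tt N8913 F18661) (tt N8699 (iv F18662)))
theorem Q11143 : ∀ i, i < 11143 → P i := stepQ 11142 Q11142 (allL N11142 (tt N14124 (iv F24223)) (tt N8652 F18663) (tt N14108 (iv F24202)) (tt N8651 (iv D11143)) (tt N14125 D14152) (tt N14108 (iv F24204)))
theorem Q11144 : ∀ i, i < 11144 → P i := stepQ 11143 Q11143 (allL N11143 (tt N8699 F18664) (tt N8653 F18665) (tt N8712 F18666) (tt N14108 (iv F24203)) (tt N14126 D14153) (tt N8651 (iv D11144)))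
theorem Q11145 : ∀ i, i < 11145 → P i := stepQ 11144 Q11144 (allL N11144 (tt N8658 F18667) (tt N14125 (iv F24227)) (tt N14105 (iv F24196)) (tt N8915 F18668) (tt N8652 (iv D11145)) (tt N14127 D14154))
theorem Q11146 : ∀ i, i < 11146 → P i := stepQ 11145 Q11145 (allL N11145 (tt N8660 F18669) (tt N14126 (iv F24230)) (tt N8654 F18670) (tt N14128 D14155) (tt N8653 (iv D11146)) (tt N8878 F18671))
theorem Q11147 : ∀ i, i < 11147 → P i := stepQ 11146 Q11146 (allL N11146 (tt N8656 F18672) (tt N14124 (iv F24224)) (tt N8691 F18674) (tt N8655 (iv D11147)) (tt N14129 D14156) (tt N8700 F18673))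
theorem Q11148 : ∀ i, i < 11148 → P i := stepQ 11147 Q11147 (allL N11147 (tt N8691 F18675) (tt N14130 D14157) (tt N8656 (iv D11148)) (tt N8687 F18677) (tt N14131 D14158) (tt N8704 F18676))
theorem Q11149 : ∀ i, i < 11149 → P i := stepQ 11148 Q11148 (allL N11148 (tt N14129 (iv F24238)) (tt N8658 F18678) (tt N14131 (iv F24246)) (tt N8931 F18679) (tt N8656 (iv D11149)) (tt N14132 D14159))
theorem Q11150 : ∀ i, i < 11150 → P i := stepQ 11149 Q11149 (allL N11149 (tt N14102 (iv F24186)) (tt N8657 (iv D11150)) (tt N14130 (iv F24242)) (tt N14101 F24184) (tt N14133 D14160) (tt N14102 (iv F24188)))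
theorem Q11151 : ∀ i, i < 11151 → P i := stepQ 11150 Q11150 (allL N11150 (tt N14105 (iv F24194)) (tt N14133 (iv F24250)) (tt N8658 F18680) (tt N14134 D14161) (tt N8657 (iv D11151)) (tt N14135 D14162))
theorem Q11152 : ∀ i, i < 11152 → P i := stepQ 11151 Q11151 (allL N11151 (tt N14127 (iv F24233)) (tt N14132 (iv F24247)) (tt N14135 (iv F24251)) (tt N8934 F18681) (tt N14136 D14163) (tt N8658 (iv D11152)))
theorem Q11153 : ∀ i, i < 11153 → P i := stepQ 11152 Q11152 (allL N11152 (tt N14109 (iv F24205)) (tt N8705 F18682) (tt N14103 (iv F24191)) (tt N14137 D14164) (tt N8659 (iv D11153)) (tt N14136 (iv F24253)))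
theorem Q11154 : ∀ i, i < 11154 → P i := stepQ 11153 Q11153 (allL N11153 (tt N14128 (iv F24235)) (tt N8706 F18683) (tt N14138 D14165) (tt N8660 (iv D11154)) (tt N14137 (iv F24255)) (tt N8899 F18684))
theorem Q11155 : ∀ i, i < 11155 → P i := stepQ 11154 Q11154 (allL N11154 (tt N8662 F18685) (tt N14139 D14166) (tt N8661 (iv D11155)) (tt N14140 D14167) (tt N8764 F18686) (tt N11208 (iv F18792)))
theorem Q11156 : ∀ i, i < 11156 → P i := stepQ 11155 Q11155 (allL N11155 (tt N14140 (iv F24262)) (tt N10907 F18687) (tt N14141 D14168) (tt N8662 (iv D11156)) (tt N14142 D14169) (tt N11215 (iv F18797)))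
theorem Q11157 : ∀ i, i < 11157 → P i := stepQ 11156 Q11156 (allL N11156 (tt N8665 F18688) (tt N9068 F18689) (tt N9366 F18690) (tt N11545 (iv F19384)) (tt N9405 F18691) (tt N8663 (iv D11157)))
theorem Q11158 : ∀ i, i < 11158 → P i := stepQ 11157 Q11157 (allL N11157 (tt N8743 F18692) (tt N8665 F18693) (tt N8737 F18694) (tt N11552 (iv F19395)) (tt N8681 F18695) (tt N8664 (iv D11158)))
theorem Q11159 : ∀ i, i < 11159 → P i := stepQ 11158 Q11158 (allL N11158 (tt N11164 (iv F18709)) (tt N8667 F18696) (tt N11164 (iv F18710)) (tt N8666 (iv D11159)) (tt N14143 D14170) (tt N8723 F18697))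
theorem Q11160 : ∀ i, i < 11160 → P i := stepQ 11159 Q11159 (allL N11159 (tt N11220 (iv F18805)) (tt N8668 F18698) (tt N11204 (iv F18784)) (tt N14144 D14171) (tt N8666 (iv D11160)) (tt N14145 D14172))
theorem Q11161 : ∀ i, i < 11161 → P i := stepQ 11160 Q11160 (allL N11160 (tt N8672 F18699) (tt N14143 (iv F24267)) (tt N8727 F18700) (tt N14146 D14173) (tt N8667 (iv D11161)) (tt N14147 D14174))
theorem Q11162 : ∀ i, i < 11162 → P i := stepQ 11161 Q11161 (allL N11161 (tt N8673 F18701) (tt N14144 (iv F24268)) (tt N14148 D14175) (tt N8668 (iv D11162)) (tt N14146 (iv F24272)) (tt N14149 D14176))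
theorem Q11163 : ∀ i, i < 11163 → P i := stepQ 11162 Q11162 (allL N11162 (tt N8674 F18702) (tt N14145 (iv F24269)) (tt N8669 F18703) (tt N14149 (iv F24281)) (tt N10736 F18704) (tt N8668 (iv D11163)))
theorem Q11164 : ∀ i, i < 11164 → P i := stepQ 11163 Q11163 (allL N11163 (tt N8675 F18705) (tt N14150 D14177) (tt N8670 (iv D11164)) (tt N8752 F18708) (tt N10695 F18706) (tt N8679 F18707))
theorem Q11165 : ∀ i, i < 11165 → P i := stepQ 11164 Q11164 (allL N11164 (tt N11158 F18709) (tt N8671 (iv D11165)) (tt N11158 F18710) (tt N8712 F18711) (tt N14151 D14178) (tt N8710 F18712))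
theorem Q11166 : ∀ i, i < 11166 → P i := stepQ 11165 Q11165 (allL N11165 (tt N8727 F18713) (tt N14151 (iv F24287)) (tt N8672 F18714) (tt N14152 D14179) (tt N8671 (iv D11166)) (tt N14153 D14180))
theorem Q11167 : ∀ i, i < 11167 → P i := stepQ 11166 Q11166 (allL N11166 (tt N14146 (iv F24271)) (tt N11239 (iv F18842)) (tt N14154 D14181) (tt N8672 (iv D11167)) (tt N8673 F18715) (tt N14155 D14182))
theorem Q11168 : ∀ i, i < 11168 → P i := stepQ 11167 Q11167 (allL N11167 (tt N14147 (iv F24273)) (tt N11238 (iv F18840)) (tt N14153 (iv F24292)) (tt N14155 (iv F24295)) (tt N11231 (iv F18830)) (tt N8672 (iv D11168)))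
theorem Q11169 : ∀ i, i < 11169 → P i := stepQ 11168 Q11168 (allL N11168 (tt N14148 (iv F24276)) (tt N14156 D14183) (tt N8673 (iv D11169)) (tt N14157 D14184) (tt N14154 (iv F24294)) (tt N14158 D14185))
theorem Q11170 : ∀ i, i < 11170 → P i := stepQ 11169 Q11169 (allL N11169 (tt N14149 (iv F24279)) (tt N11244 (iv F18850)) (tt N14158 (iv F24300)) (tt N8674 F18716) (tt N14159 D14186) (tt N8673 (iv D11170)))
theorem Q11171 : ∀ i, i < 11171 → P i := stepQ 11170 Q11170 (allL N11170 (tt N8752 F18717) (tt N8904 F18718) (tt N8741 F18721) (tt N8675 (iv D11171)) (tt N10719 F18719) (tt N8685 F18720))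
theorem Q11172 : ∀ i, i < 11172 → P i := stepQ 11171 Q11171 (allL N11171 (tt N9088 F18722) (tt N8677 F18723) (tt N14160 D14187) (tt N8676 (iv D11172)) (tt N8794 F18724) (tt N14161 D14188))
theorem Q11173 : ∀ i, i < 11173 → P i := stepQ 11172 Q11172 (allL N11172 (tt N9089 F18725) (tt N8678 F18726) (tt N9086 F18727) (tt N14161 (iv F24307)) (tt N9070 F18728) (tt N8676 (iv D11173)))
theorem Q11174 : ∀ i, i < 11174 → P i := stepQ 11173 Q11173 (allL N11173 (tt N8682 F18729) (tt N14162 D14189) (tt N8677 (iv D11174)) (tt N14158 (iv F24301)) (tt N8796 F18730) (tt N14157 (iv F24298)))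
theorem Q11175 : ∀ i, i < 11175 → P i := stepQ 11174 Q11174 (allL N11174 (tt N8683 F18731) (tt N14161 (iv F24306)) (tt N14157 (iv F24297)) (tt N8678 F18732) (tt N14163 D14190) (tt N8677 (iv D11175)))
theorem Q11176 : ∀ i, i < 11176 → P i := stepQ 11175 Q11175 (allL N11175 (tt N14164 D14191) (tt N8679 (iv D11176)) (tt N14139 (iv F24260)) (tt N14165 D14192) (tt N11560 (iv F19404)) (tt N14150 (iv F24285)))
theorem Q11177 : ∀ i, i < 11177 → P i := stepQ 11176 Q11176 (allL N11176 (tt N8685 F18733) (tt N14165 (iv F24315)) (tt N8734 F18734) (tt N8679 (iv D11177)) (tt N14166 D14193) (tt N8752 F18735))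
theorem Q11178 : ∀ i, i < 11178 → P i := stepQ 11177 Q11177 (allL N11177 (tt N8796 F18736) (tt N14167 D14194) (tt N8680 (iv D11178)) (tt N14168 D14195) (tt N8682 F18737) (tt N14169 D14196))
theorem Q11179 : ∀ i, i < 11179 → P i := stepQ 11178 Q11178 (allL N11178 (tt N8797 F18738) (tt N13643 (iv F23322)) (tt N14169 (iv F24324)) (tt N8681 F18739) (tt N14170 D14197) (tt N8680 (iv D11179)))
theorem Q11180 : ∀ i, i < 11180 → P i := stepQ 11179 Q11179 (allL N11179 (tt N14171 D14198) (tt N8682 (iv D11180)) (tt N13641 (iv F23316)) (tt N14172 D14199) (tt N14167 (iv F24319)) (tt N14173 D14200))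
theorem Q11181 : ∀ i, i < 11181 → P i := stepQ 11180 Q11180 (allL N11180 (tt N14158 (iv F24299)) (tt N14172 (iv F24328)) (tt N14149 (iv F24280)) (tt N8682 (iv D11181)) (tt N14174 D14201) (tt N14148 F24278))
theorem Q11182 : ∀ i, i < 11182 → P i := stepQ 11181 Q11181 (allL N11181 (tt N14157 (iv F24296)) (tt N14173 (iv F24329)) (tt N8683 F18740) (tt N14148 (iv F24277)) (tt N14175 D14202) (tt N8682 (iv D11182)))
theorem Q11183 : ∀ i, i < 11183 → P i := stepQ 11182 Q11182 (allL N11182 (tt N14163 (iv F24309)) (tt N11559 (iv F19401)) (tt N14175 (iv F24331)) (tt N11553 (iv F19397)) (tt N8683 (iv D11183)) (tt N14170 (iv F24327)))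
theorem Q11184 : ∀ i, i < 11184 → P i := stepQ 11183 Q11183 (allL N11183 (tt N8684 (iv D11184)) (tt N14164 (iv F24311)) (tt N8686 F18741) (tt N14176 D14203) (tt N10703 F18742) (tt N8903 F18743))
theorem Q11185 : ∀ i, i < 11185 → P i := stepQ 11184 Q11184 (allL N11184 (tt N14176 (iv F24332)) (tt N8685 F18744) (tt N14177 D14204) (tt N8684 (iv D11185)) (tt N14178 D14205) (tt N8904 F18745))
theorem Q11186 : ∀ i, i < 11186 → P i := stepQ 11185 Q11185 (allL N11185 (tt N8734 F18746) (tt N14179 D14206) (tt N8685 (iv D11186)) (tt N8719 F18747) (tt N14180 D14207) (tt N8741 F18748))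
theorem Q11187 : ∀ i, i < 11187 → P i := stepQ 11186 Q11186 (allL N11186 (tt N14166 (iv F24317)) (tt N14178 (iv F24341)) (tt N14180 (iv F24348)) (tt N11563 (iv F19406)) (tt N8685 (iv D11187)) (tt N14181 D14208))
theorem Q11188 : ∀ i, i < 11188 → P i := stepQ 11187 Q11187 (allL N11187 (tt N14182 D14209) (tt N8687 (iv D11188)) (tt N11117 F18749) (tt N14130 (iv F24243)) (tt N14183 D14210) (tt N14182 (iv F24354)))
theorem Q11189 : ∀ i, i < 11189 → P i := stepQ 11188 Q11188 (allL N11188 (tt N8692 F18750) (tt N14183 (iv F24355)) (tt N8688 F18751) (tt N14184 D14211) (tt N8687 (iv D11189)) (tt N14185 D14212))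
theorem Q11190 : ∀ i, i < 11190 → P i := stepQ 11189 Q11189 (allL N11189 (tt N8690 F18752) (tt N14182 (iv F24351)) (tt N8689 F18753) (tt N8704 F18754) (tt N14186 D14213) (tt N8687 (iv D11190)))
theorem Q11191 : ∀ i, i < 11191 → P i := stepQ 11190 Q11190 (allL N11190 (tt N8693 F18755) (tt N10852 F18756) (tt N14185 (iv F24359)) (tt N10850 F18757) (tt N14187 D14214) (tt N8688 (iv D11191)))
theorem Q11192 : ∀ i, i < 11192 → P i := stepQ 11191 Q11191 (allL N11191 (tt N8694 F18758) (tt N11120 F18759) (tt N14186 (iv F24361)) (tt N11464 (iv F19241)) (tt N8689 (iv D11192)) (tt N14187 (iv F24364)))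
theorem Q11193 : ∀ i, i < 11193 → P i := stepQ 11192 Q11192 (allL N11192 (tt N8704 F18760) (tt N8691 F18761) (tt N8700 F18762) (tt N8690 (iv D11193)) (tt N14188 D14215) (tt N8691 F18763))
theorem Q11194 : ∀ i, i < 11194 → P i := stepQ 11193 Q11193 (allL N11193 (tt N14186 (iv F24360)) (tt N8692 F18764) (tt N8694 F18765) (tt N14189 D14216) (tt N8690 (iv D11194)) (tt N14190 D14217))
theorem Q11195 : ∀ i, i < 11195 → P i := stepQ 11194 Q11194 (allL N11194 (tt N14131 (iv F24245)) (tt N14188 (iv F24366)) (tt N14129 (iv F24239)) (tt N14191 D14218) (tt N8691 (iv D11195)) (tt N14192 D14219))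
theorem Q11196 : ∀ i, i < 11196 → P i := stepQ 11195 Q11195 (allL N11195 (tt N14184 (iv F24357)) (tt N14189 (iv F24368)) (tt N11923 (iv F20090)) (tt N8692 (iv D11196)) (tt N14191 (iv F24372)) (tt N11922 F20088))
theorem Q11197 : ∀ i, i < 11197 → P i := stepQ 11196 Q11196 (allL N11196 (tt N14185 (iv F24358)) (tt N14190 (iv F24369)) (tt N8693 F18766) (tt N11922 (iv F20087)) (tt N14190 (iv F24371)) (tt N8692 (iv D11197)))
theorem Q11198 : ∀ i, i < 11198 → P i := stepQ 11197 Q11197 (allL N11197 (tt N14187 (iv F24362)) (tt N8697 F18767) (tt N14190 (iv F24370)) (tt N14193 D14220) (tt N8693 (iv D11198)) (tt N8694 F18768))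
theorem Q11199 : ∀ i, i < 11199 → P i := stepQ 11198 Q11198 (allL N11198 (tt N11464 (iv F19239)) (tt N8696 F18769) (tt N14194 D14221) (tt N8694 (iv D11199)) (tt N8695 F18770) (tt N14193 (iv F24375)))
theorem Q11200 : ∀ i, i < 11200 → P i := stepQ 11199 Q11199 (allL N11199 (tt N11463 (iv F19237)) (tt N14195 D14222) (tt N8695 (iv D11200)) (tt N14196 D14223) (tt N14194 (iv F24376)) (tt N11115 F18771))
theorem Q11201 : ∀ i, i < 11201 → P i := stepQ 11200 Q11200 (allL N11200 (tt N11128 F18772) (tt N14197 D14224) (tt N8696 (iv D11201)) (tt N11135 F18774) (tt N8698 F18773) (tt N11134 (iv F18775)))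
theorem Q11202 : ∀ i, i < 11202 → P i := stepQ 11201 Q11201 (allL N11201 (tt N11129 F18776) (tt N14193 (iv F24373)) (tt N11134 F18777) (tt N8697 F18778) (tt N10386 F18779) (tt N8696 (iv D11202)))
theorem Q11203 : ∀ i, i < 11203 → P i := stepQ 11202 Q11202 (allL N11202 (tt N14198 D14225) (tt N8698 (iv D11203)) (tt N14195 (iv F24377)) (tt N11116 F18780) (tt N14197 (iv F24383)) (tt N11116 F18781))
theorem Q11204 : ∀ i, i < 11204 → P i := stepQ 11203 Q11203 (allL N11203 (tt N14108 (iv F24201)) (tt N8700 F18782) (tt N14124 (iv F24225)) (tt N8699 (iv D11204)) (tt N14199 D14226) (tt N14124 (iv F24226)))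
theorem Q11205 : ∀ i, i < 11205 → P i := stepQ 11204 Q11204 (allL N11204 (tt N14126 (iv F24229)) (tt N8701 F18783) (tt N11159 F18784) (tt N14200 D14227) (tt N8699 (iv D11205)) (tt N14201 D14228))
theorem Q11206 : ∀ i, i < 11206 → P i := stepQ 11205 Q11205 (allL N11205 (tt N8705 F18785) (tt N14199 (iv F24388)) (tt N14188 (iv F24367)) (tt N14202 D14229) (tt N8700 (iv D11206)) (tt N14203 D14230))
theorem Q11207 : ∀ i, i < 11207 → P i := stepQ 11206 Q11206 (allL N11206 (tt N8706 F18786) (tt N14200 (iv F24389)) (tt N12068 (iv F20333)) (tt N8701 (iv D11207)) (tt N14202 (iv F24395)) (tt N12066 F20331))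
theorem Q11208 : ∀ i, i < 11208 → P i := stepQ 11207 Q11207 (allL N11207 (tt N8707 F18787) (tt N14201 (iv F24391)) (tt N8702 F18788) (tt N12066 (iv F20330)) (tt N8900 F18789) (tt N8701 (iv D11208)))
theorem Q11209 : ∀ i, i < 11209 → P i := stepQ 11208 Q11208 (allL N11208 (tt N8708 F18790) (tt N14204 D14231) (tt N8703 (iv D11209)) (tt N14205 D14232) (tt N8935 F18791) (tt N11154 F18792))
theorem Q11210 : ∀ i, i < 11210 → P i := stepQ 11209 Q11209 (allL N11209 (tt N14130 (iv F24241)) (tt N8704 (iv D11210)) (tt N14102 F24189) (tt N14182 (iv F24353)) (tt N14206 D14233) (tt N14130 (iv F24244)))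
theorem Q11211 : ∀ i, i < 11211 → P i := stepQ 11210 Q11210 (allL N11210 (tt N14188 (iv F24365)) (tt N14206 (iv F24403)) (tt N8705 F18793) (tt N14207 D14234) (tt N8704 (iv D11211)) (tt N14208 D14235))
theorem Q11212 : ∀ i, i < 11212 → P i := stepQ 11211 Q11211 (allL N11211 (tt N14202 (iv F24394)) (tt N14137 (iv F24254)) (tt N14209 D14236) (tt N8705 (iv D11212)) (tt N8706 F18794) (tt N14210 D14237))
theorem Q11213 : ∀ i, i < 11213 → P i := stepQ 11212 Q11212 (allL N11212 (tt N14203 (iv F24396)) (tt N14136 (iv F24252)) (tt N14208 (iv F24404)) (tt N14210 (iv F24406)) (tt N14132 (iv F24249)) (tt N8705 (iv D11213)))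
theorem Q11214 : ∀ i, i < 11214 → P i := stepQ 11213 Q11213 (allL N11213 (tt N12068 (iv F20332)) (tt N14211 D14238) (tt N8706 (iv D11214)) (tt N12061 (iv F20320)) (tt N14209 (iv F24405)) (tt N12060 F20317))
theorem Q11215 : ∀ i, i < 11215 → P i := stepQ 11214 Q11214 (allL N11214 (tt N12066 (iv F20329)) (tt N8899 F18795) (tt N12060 (iv F20316)) (tt N8707 F18796) (tt N14212 D14239) (tt N8706 (iv D11215)))
theorem Q11216 : ∀ i, i < 11216 → P i := stepQ 11215 Q11215 (allL N11215 (tt N14205 (iv F24400)) (tt N11274 (iv F18894)) (tt N11462 (iv F19236)) (tt N8708 (iv D11216)) (tt N14213 D14240) (tt N11155 F18797))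
theorem Q11217 : ∀ i, i < 11217 → P i := stepQ 11216 Q11216 (allL N11216 (tt N8711 F18798) (tt N8720 F18799) (tt N8913 F18800) (tt N14214 D14241) (tt N8709 (iv D11217)) (tt N13644 (iv F23326)))
theorem Q11218 : ∀ i, i < 11218 → P i := stepQ 11217 Q11217 (allL N11217 (tt N11233 (iv F18831)) (tt N8713 F18801) (tt N11233 (iv F18833)) (tt N14215 D14242) (tt N8710 (iv D11218)) (tt N14216 D14243))
theorem Q11219 : ∀ i, i < 11219 → P i := stepQ 11218 Q11218 (allL N11218 (tt N14214 (iv F24410)) (tt N8714 F18802) (tt N14217 D14244) (tt N8711 (iv D11219)) (tt N14215 (iv F24414)) (tt N14218 D14245))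
theorem Q11220 : ∀ i, i < 11220 → P i := stepQ 11219 Q11219 (allL N11219 (tt N13644 (iv F23324)) (tt N8715 F18803) (tt N8879 F18804) (tt N14218 (iv F24419)) (tt N14219 D14246) (tt N8711 (iv D11220)))
theorem Q11221 : ∀ i, i < 11221 → P i := stepQ 11220 Q11220 (allL N11220 (tt N11159 F18805) (tt N8716 F18806) (tt N14126 (iv F24231)) (tt N14220 D14247) (tt N8712 (iv D11221)) (tt N14219 (iv F24423)))
theorem Q11222 : ∀ i, i < 11222 → P i := stepQ 11221 Q11221 (allL N11221 (tt N8725 F18807) (tt N14215 (iv F24413)) (tt N14221 D14248) (tt N8713 (iv D11222)) (tt N8714 F18808) (tt N14222 D14249))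
theorem Q11223 : ∀ i, i < 11223 → P i := stepQ 11222 Q11222 (allL N11222 (tt N8726 F18809) (tt N14216 (iv F24415)) (tt N11231 (iv F18829)) (tt N14222 (iv F24429)) (tt N14153 (iv F24293)) (tt N8713 (iv D11223)))
theorem Q11224 : ∀ i, i < 11224 → P i := stepQ 11223 Q11223 (allL N11223 (tt N8728 F18810) (tt N13533 (iv F23076)) (tt N8714 (iv D11224)) (tt N8748 F18811) (tt N14221 (iv F24427)) (tt N8747 (iv F18812)))
theorem Q11225 : ∀ i, i < 11225 → P i := stepQ 11224 Q11224 (allL N11224 (tt N8729 F18813) (tt N14218 (iv F24418)) (tt N8747 F18814) (tt N8715 F18815) (tt N14223 D14250) (tt N8714 (iv D11225)))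
theorem Q11226 : ∀ i, i < 11226 → P i := stepQ 11225 Q11225 (allL N11225 (tt N8730 F18816) (tt N14219 (iv F24421)) (tt N8717 F18817) (tt N14224 D14251) (tt N8715 (iv D11226)) (tt N8716 F18818))
theorem Q11227 : ∀ i, i < 11227 → P i := stepQ 11226 Q11226 (allL N11226 (tt N8731 F18819) (tt N14220 (iv F24425)) (tt N14225 D14252) (tt N8716 (iv D11227)) (tt N14152 (iv F24290)) (tt N14224 (iv F24433)))
theorem Q11228 : ∀ i, i < 11228 → P i := stepQ 11227 Q11227 (allL N11227 (tt N8732 F18820) (tt N14226 D14253) (tt N8718 (iv D11228)) (tt N14227 D14254) (tt N8719 F18821) (tt N8813 F18822))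
theorem Q11229 : ∀ i, i < 11229 → P i := stepQ 11228 Q11228 (allL N11228 (tt N14228 D14255) (tt N8719 (iv D11229)) (tt N8870 F18823) (tt N14179 (iv F24345)) (tt N14226 (iv F24438)) (tt N8740 F18824))
theorem Q11230 : ∀ i, i < 11230 → P i := stepQ 11229 Q11229 (allL N11229 (tt N8722 F18825) (tt N14214 (iv F24411)) (tt N13639 (iv F23314)) (tt N8720 (iv D11230)) (tt N11234 (iv F18835)) (tt N13645 (iv F23328)))
theorem Q11231 : ∀ i, i < 11231 → P i := stepQ 11230 Q11230 (allL N11230 (tt N11234 (iv F18834)) (tt N8725 F18826) (tt N14229 D14256) (tt N8721 (iv D11231)) (tt N8722 F18827) (tt N14230 D14257))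
theorem Q11232 : ∀ i, i < 11232 → P i := stepQ 11231 Q11231 (allL N11231 (tt N11235 (iv F18836)) (tt N8726 F18828) (tt N11222 F18829) (tt N14230 (iv F24448)) (tt N11167 F18830) (tt N8721 (iv D11232)))
theorem Q11233 : ∀ i, i < 11233 → P i := stepQ 11232 Q11232 (allL N11232 (tt N13639 (iv F23312)) (tt N14231 D14258) (tt N8722 (iv D11233)) (tt N13637 (iv F23310)) (tt N14229 (iv F24446)) (tt N13646 (iv F23329)))
theorem Q11234 : ∀ i, i < 11234 → P i := stepQ 11233 Q11233 (allL N11233 (tt N11217 F18831) (tt N8724 F18832) (tt N11217 F18833) (tt N14232 D14259) (tt N8723 (iv D11234)) (tt N14233 D14260))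
theorem Q11235 : ∀ i, i < 11235 → P i := stepQ 11234 Q11234 (allL N11234 (tt N11230 F18834) (tt N14232 (iv F24451)) (tt N14234 D14261) (tt N8724 (iv D11235)) (tt N11229 F18835) (tt N14235 D14262))
theorem Q11236 : ∀ i, i < 11236 → P i := stepQ 11235 Q11235 (allL N11235 (tt N11231 F18836) (tt N14233 (iv F24454)) (tt N8726 F18837) (tt N14235 (iv F24459)) (tt N14147 (iv F24275)) (tt N8724 (iv D11236)))
theorem Q11237 : ∀ i, i < 11237 → P i := stepQ 11236 Q11236 (allL N11236 (tt N14221 (iv F24426)) (tt N14236 D14263) (tt N8725 (iv D11237)) (tt N14237 D14264) (tt N8728 F18838) (tt N14238 D14265))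
theorem Q11238 : ∀ i, i < 11238 → P i := stepQ 11237 Q11237 (allL N11237 (tt N14222 (iv F24428)) (tt N14230 (iv F24447)) (tt N14238 (iv F24461)) (tt N8726 F18839) (tt N14239 D14266) (tt N8725 (iv D11238)))
theorem Q11239 : ∀ i, i < 11239 → P i := stepQ 11238 Q11238 (allL N11238 (tt N14153 (iv F24291)) (tt N11167 F18840) (tt N14147 (iv F24274)) (tt N14240 D14267) (tt N8726 (iv D11239)) (tt N8727 F18841))
theorem Q11240 : ∀ i, i < 11240 → P i := stepQ 11239 Q11239 (allL N11239 (tt N14152 (iv F24289)) (tt N11166 F18842) (tt N14241 D14268) (tt N8727 (iv D11240)) (tt N8731 F18843) (tt N14240 (iv F24464)))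
theorem Q11241 : ∀ i, i < 11241 → P i := stepQ 11240 Q11240 (allL N11240 (tt N14242 D14269) (tt N8728 (iv D11241)) (tt N14231 (iv F24449)) (tt N14243 D14270) (tt N14236 (iv F24460)) (tt N14244 D14271))
theorem Q11242 : ∀ i, i < 11242 → P i := stepQ 11241 Q11241 (allL N11241 (tt N8748 F18844) (tt N14243 (iv F24466)) (tt N8739 F18845) (tt N8728 (iv D11242)) (tt N14245 D14272) (tt N8738 F18846))
theorem Q11243 : ∀ i, i < 11243 → P i := stepQ 11242 Q11242 (allL N11242 (tt N8747 F18847) (tt N14244 (iv F24469)) (tt N8729 F18848) (tt N8738 F18849) (tt N14246 D14273) (tt N8728 (iv D11243)))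
theorem Q11244 : ∀ i, i < 11244 → P i := stepQ 11243 Q11243 (allL N11243 (tt N14223 (iv F24430)) (tt N13647 (iv F23330)) (tt N14246 (iv F24474)) (tt N14247 D14274) (tt N8729 (iv D11244)) (tt N14239 (iv F24462)))
theorem Q11245 : ∀ i, i < 11245 → P i := stepQ 11244 Q11244 (allL N11244 (tt N14224 (iv F24432)) (tt N11169 F18850) (tt N14248 D14275) (tt N8730 (iv D11245)) (tt N14247 (iv F24476)) (tt N8731 F18851))
theorem Q11246 : ∀ i, i < 11246 → P i := stepQ 11245 Q11245 (allL N11245 (tt N14225 (iv F24434)) (tt N14249 D14276) (tt N8731 (iv D11246)) (tt N14250 D14277) (tt N14241 (iv F24465)) (tt N14248 (iv F24477)))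
theorem Q11247 : ∀ i, i < 11247 → P i := stepQ 11246 Q11246 (allL N11246 (tt N14227 (iv F24440)) (tt N8865 F18852) (tt N14251 D14278) (tt N8732 (iv D11247)) (tt N14252 D14279) (tt N8821 F18853))
theorem Q11248 : ∀ i, i < 11248 → P i := stepQ 11247 Q11247 (allL N11247 (tt N8733 (iv D11248)) (tt N14228 (iv F24442)) (tt N8735 F18854) (tt N14253 D14280) (tt N8858 F18855) (tt N8750 F18856))
theorem Q11249 : ∀ i, i < 11249 → P i := stepQ 11248 Q11248 (allL N11248 (tt N14253 (iv F24484)) (tt N8734 F18857) (tt N14254 D14281) (tt N8733 (iv D11249)) (tt N14255 D14282) (tt N8751 F18858))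
theorem Q11250 : ∀ i, i < 11250 → P i := stepQ 11249 Q11249 (allL N11249 (tt N14180 (iv F24347)) (tt N14255 (iv F24487)) (tt N14166 (iv F24318)) (tt N14252 (iv F24483)) (tt N8734 (iv D11250)) (tt N14256 D14283))
theorem Q11251 : ∀ i, i < 11251 → P i := stepQ 11250 Q11250 (allL N11250 (tt N8744 F18859) (tt N14257 D14284) (tt N8736 (iv D11251)) (tt N14258 D14285) (tt N8738 F18860) (tt N14259 D14286))
theorem Q11252 : ∀ i, i < 11252 → P i := stepQ 11251 Q11251 (allL N11251 (tt N8745 F18861) (tt N13356 (iv F22732)) (tt N14259 (iv F24493)) (tt N8737 F18862) (tt N14260 D14287) (tt N8736 (iv D11252)))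
theorem Q11253 : ∀ i, i < 11253 → P i := stepQ 11252 Q11252 (allL N11252 (tt N14261 D14288) (tt N8738 (iv D11253)) (tt N13535 (iv F23080)) (tt N14244 (iv F24470)) (tt N14257 (iv F24490)) (tt N14243 F24468))
theorem Q11254 : ∀ i, i < 11254 → P i := stepQ 11253 Q11253 (allL N11253 (tt N8749 F18863) (tt N10744 F18864) (tt N14245 (iv F24472)) (tt N8784 F18865) (tt N8739 (iv D11254)) (tt N14260 (iv F24497)))
theorem Q11255 : ∀ i, i < 11255 → P i := stepQ 11254 Q11254 (allL N11254 (tt N8740 (iv D11255)) (tt N8750 F18866) (tt N8867 F18867) (tt N14262 D14289) (tt N8809 F18868) (tt N14228 (iv F24445)))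
theorem Q11256 : ∀ i, i < 11256 → P i := stepQ 11255 Q11255 (allL N11255 (tt N14262 (iv F24499)) (tt N8741 F18869) (tt N14263 D14290) (tt N8740 (iv D11256)) (tt N14264 D14291) (tt N14179 (iv F24346)))
theorem Q11257 : ∀ i, i < 11257 → P i := stepQ 11256 Q11256 (allL N11256 (tt N8753 F18870) (tt N14264 (iv F24503)) (tt N10719 F18871) (tt N8812 F18872) (tt N8741 (iv D11257)) (tt N14265 D14292))
theorem Q11258 : ∀ i, i < 11258 → P i := stepQ 11257 Q11257 (allL N11257 (tt N11550 (iv F19390)) (tt N14266 D14293) (tt N8742 (iv D11258)) (tt N14267 D14294) (tt N11546 (iv F19386)) (tt N14268 D14295))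
theorem Q11259 : ∀ i, i < 11259 → P i := stepQ 11258 Q11258 (allL N11258 (tt N11552 (iv F19393)) (tt N9072 F18873) (tt N14268 (iv F24512)) (tt N8743 F18874) (tt N14269 D14296) (tt N8742 (iv D11259)))
theorem Q11260 : ∀ i, i < 11260 → P i := stepQ 11259 Q11259 (allL N11259 (tt N14270 D14297) (tt N8744 (iv D11260)) (tt N8806 F18875) (tt N14271 D14298) (tt N8746 F18876) (tt N14272 D14299))
theorem Q11261 : ∀ i, i < 11261 → P i := stepQ 11260 Q11260 (allL N11260 (tt N14258 (iv F24491)) (tt N14271 (iv F24517)) (tt N14273 D14300) (tt N8744 (iv D11261)) (tt N14274 D14301) (tt N14275 D14302))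
theorem Q11262 : ∀ i, i < 11262 → P i := stepQ 11261 Q11261 (allL N11261 (tt N14259 (iv F24492)) (tt N14272 (iv F24518)) (tt N8745 F18877) (tt N14275 (iv F24521)) (tt N14276 D14303) (tt N8744 (iv D11262)))
theorem Q11263 : ∀ i, i < 11263 → P i := stepQ 11262 Q11262 (allL N11262 (tt N14260 (iv F24494)) (tt N8792 F18878) (tt N14276 (iv F24522)) (tt N8791 F18879) (tt N8745 (iv D11263)) (tt N8749 F18880))
theorem Q11264 : ∀ i, i < 11264 → P i := stepQ 11263 Q11263 (allL N11263 (tt N8746 (iv D11264)) (tt N14261 (iv F24498)) (tt N8808 F18881) (tt N13999 (iv F24035)) (tt N14270 (iv F24516)) (tt N13531 (iv F23074)))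
theorem Q11265 : ∀ i, i < 11265 → P i := stepQ 11264 Q11264 (allL N11264 (tt N13999 (iv F24034)) (tt N8747 F18882) (tt N13995 (iv F24028)) (tt N8746 (iv D11265)) (tt N14277 D14304) (tt N13533 (iv F23077)))
theorem Q11266 : ∀ i, i < 11266 → P i := stepQ 11265 Q11265 (allL N11265 (tt N14246 (iv F24473)) (tt N14277 (iv F24524)) (tt N14223 (iv F24431)) (tt N14274 (iv F24520)) (tt N8747 (iv D11266)) (tt N14278 D14305))
theorem Q11267 : ∀ i, i < 11267 → P i := stepQ 11266 Q11266 (allL N11266 (tt N14245 (iv F24471)) (tt N13534 (iv F23078)) (tt N8749 F18883) (tt N14279 D14306) (tt N8748 (iv D11267)) (tt N14276 (iv F24523)))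
theorem Q11268 : ∀ i, i < 11268 → P i := stepQ 11267 Q11267 (allL N11267 (tt N8751 F18884) (tt N14262 (iv F24500)) (tt N14280 D14307) (tt N8750 (iv D11268)) (tt N14281 D14308) (tt N14253 (iv F24485)))
theorem Q11269 : ∀ i, i < 11269 → P i := stepQ 11268 Q11268 (allL N11268 (tt N14280 (iv F24525)) (tt N14282 D14309) (tt N8751 (iv D11269)) (tt N14283 D14310) (tt N14284 D14311) (tt N14254 (iv F24486)))
theorem Q11270 : ∀ i, i < 11270 → P i := stepQ 11269 Q11269 (allL N11269 (tt N14281 (iv F24527)) (tt N8753 F18885) (tt N14284 (iv F24532)) (tt N8816 F18886) (tt N8751 (iv D11270)) (tt N14285 D14312))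
theorem Q11271 : ∀ i, i < 11271 → P i := stepQ 11270 Q11270 (allL N11270 (tt N14286 D14313) (tt N8752 (iv D11271)) (tt N14282 (iv F24529)) (tt N14150 (iv F24283)) (tt N14287 D14314) (tt N14165 (iv F24316)))
theorem Q11272 : ∀ i, i < 11272 → P i := stepQ 11271 Q11271 (allL N11271 (tt N10719 F18887) (tt N14287 (iv F24539)) (tt N8753 F18888) (tt N10718 (iv F18889)) (tt N8752 (iv D11272)) (tt N14288 D14315))
theorem Q11273 : ∀ i, i < 11273 → P i := stepQ 11272 Q11272 (allL N11272 (tt N14265 (iv F24507)) (tt N14285 (iv F24533)) (tt N14288 (iv F24544)) (tt N8819 F18890) (tt N14256 (iv F24489)) (tt N8753 (iv D11273)))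
theorem Q11274 : ∀ i, i < 11274 → P i := stepQ 11273 Q11273 (allL N11273 (tt N8755 F18891) (tt N14289 D14316) (tt N8754 (iv D11274)) (tt N14290 D14317) (tt N8859 F18892) (tt N10899 F18893))
theorem Q11275 : ∀ i, i < 11275 → P i := stepQ 11274 Q11274 (allL N11274 (tt N14290 (iv F24550)) (tt N11215 F18894) (tt N14291 D14318) (tt N8755 (iv D11275)) (tt N14292 D14319) (tt N10907 F18895))
theorem Q11276 : ∀ i, i < 11276 → P i := stepQ 11275 Q11275 (allL N11275 (tt N8758 F18896) (tt N9108 F18897) (tt N8756 (iv D11276)) (tt N10901 F18899) (tt N9105 F18898) (tt N14293 D14320))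
theorem Q11277 : ∀ i, i < 11277 → P i := stepQ 11276 Q11276 (allL N11276 (tt N8759 F18900) (tt N9339 F18901) (tt N14293 (iv F24557)) (tt N8757 F18902) (tt N10098 F18903) (tt N8756 (iv D11277)))
theorem Q11278 : ∀ i, i < 11278 → P i := stepQ 11277 Q11277 (allL N11277 (tt N9118 F18904) (tt N8758 (iv D11278)) (tt N8760 F18905) (tt N14294 D14321) (tt N9115 F18906) (tt N14295 D14322))
theorem Q11279 : ∀ i, i < 11279 → P i := stepQ 11278 Q11278 (allL N11278 (tt N10901 F18907) (tt N14294 (iv F24561)) (tt N10900 F18908) (tt N8758 (iv D11279)) (tt N14296 D14323) (tt N14297 D14324))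
theorem Q11280 : ∀ i, i < 11280 → P i := stepQ 11279 Q11279 (allL N11279 (tt N14293 (iv F24555)) (tt N14295 (iv F24564)) (tt N8759 F18909) (tt N14297 (iv F24573)) (tt N14298 D14325) (tt N8758 (iv D11280)))
theorem Q11281 : ∀ i, i < 11281 → P i := stepQ 11280 Q11280 (allL N11280 (tt N10098 F18910) (tt N8763 F18911) (tt N14298 (iv F24576)) (tt N9413 F18912) (tt N8759 (iv D11281)) (tt N9338 F18913))
theorem Q11282 : ∀ i, i < 11282 → P i := stepQ 11281 Q11281 (allL N11281 (tt N8760 (iv D11282)) (tt N9345 F18914) (tt N9118 F18915) (tt N14299 D14326) (tt N9117 F18916) (tt N14300 D14327))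
theorem Q11283 : ∀ i, i < 11283 → P i := stepQ 11282 Q11282 (allL N11282 (tt N14299 (iv F24579)) (tt N8761 F18917) (tt N14301 D14328) (tt N8760 (iv D11283)) (tt N9145 F18918) (tt N8768 (iv F18919)))
theorem Q11284 : ∀ i, i < 11284 → P i := stepQ 11283 Q11283 (allL N11283 (tt N14300 (iv F24583)) (tt N8762 F18920) (tt N14295 (iv F24565)) (tt N8768 F18921) (tt N9352 F18922) (tt N8760 (iv D11284)))
theorem Q11285 : ∀ i, i < 11285 → P i := stepQ 11284 Q11284 (allL N11284 (tt N10897 F18923) (tt N8764 (iv D11285)) (tt N11560 (iv F19403)) (tt N14302 D14329) (tt N14139 (iv F24261)) (tt N10895 F18924))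
theorem Q11286 : ∀ i, i < 11286 → P i := stepQ 11285 Q11285 (allL N11285 (tt N8765 F18925) (tt N14302 (iv F24592)) (tt N14297 (iv F24572)) (tt N8764 (iv D11286)) (tt N14303 D14330) (tt N10900 F18926))
theorem Q11287 : ∀ i, i < 11287 → P i := stepQ 11286 Q11286 (allL N11286 (tt N14297 (iv F24571)) (tt N14304 D14331) (tt N8765 (iv D11287)) (tt N14293 (iv F24558)) (tt N14305 D14332) (tt N10901 F18927))
theorem Q11288 : ∀ i, i < 11288 → P i := stepQ 11287 Q11287 (allL N11287 (tt N14303 (iv F24594)) (tt N10906 F18928) (tt N14305 (iv F24599)) (tt N14142 (iv F24266)) (tt N8765 (iv D11288)) (tt N14306 D14333))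
theorem Q11289 : ∀ i, i < 11289 → P i := stepQ 11288 Q11288 (allL N11288 (tt N14307 D14334) (tt N8766 (iv D11289)) (tt N8768 F18929) (tt N14308 D14335) (tt N8989 F18930) (tt N14301 (iv F24590)))
theorem Q11290 : ∀ i, i < 11290 → P i := stepQ 11289 Q11289 (allL N11289 (tt N11353 (iv F19054)) (tt N14308 (iv F24604)) (tt N11509 (iv F19312)) (tt N8766 (iv D11290)) (tt N14309 D14336) (tt N11507 F19310))
theorem Q11291 : ∀ i, i < 11291 → P i := stepQ 11290 Q11290 (allL N11290 (tt N11354 (iv F19055)) (tt N14301 (iv F24588)) (tt N8767 F18931) (tt N11507 (iv F19309)) (tt N14310 D14337) (tt N8766 (iv D11291)))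
theorem Q11292 : ∀ i, i < 11292 → P i := stepQ 11291 Q11291 (allL N11291 (tt N11355 (iv F19057)) (tt N8769 F18932) (tt N14310 (iv F24607)) (tt N8942 F18933) (tt N8767 (iv D11292)) (tt N8992 F18934))
theorem Q11293 : ∀ i, i < 11293 → P i := stepQ 11292 Q11292 (allL N11292 (tt N8768 (iv D11293)) (tt N8774 F18935) (tt N14307 (iv F24602)) (tt N14300 (iv F24586)) (tt N8993 F18936) (tt N14299 F24582))
theorem Q11294 : ∀ i, i < 11294 → P i := stepQ 11293 Q11293 (allL N11293 (tt N8770 (iv D11294)) (tt N8993 F18937) (tt N11365 (iv F19067)) (tt N14311 D14338) (tt N8774 F18938) (tt N14312 D14339))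
theorem Q11295 : ∀ i, i < 11295 → P i := stepQ 11294 Q11294 (allL N11294 (tt N14311 (iv F24609)) (tt N8771 F18939) (tt N14313 D14340) (tt N8770 (iv D11295)) (tt N9972 (iv F18940)) (tt N9002 (iv F18941)))
theorem Q11296 : ∀ i, i < 11296 → P i := stepQ 11295 Q11295 (allL N11295 (tt N14312 (iv F24613)) (tt N8772 F18942) (tt N11367 (iv F19071)) (tt N9002 F18943) (tt N9973 (iv F18944)) (tt N8770 (iv D11296)))
theorem Q11297 : ∀ i, i < 11297 → P i := stepQ 11296 Q11296 (allL N11296 (tt N8775 F18945) (tt N14300 (iv F24584)) (tt N14314 D14341) (tt N8774 (iv D11297)) (tt N14315 D14342) (tt N9345 (iv F18946)))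
theorem Q11298 : ∀ i, i < 11298 → P i := stepQ 11297 Q11297 (allL N11297 (tt N8776 F18947) (tt N14299 (iv F24580)) (tt N11373 (iv F19078)) (tt N9345 F18948) (tt N14316 D14343) (tt N8774 (iv D11298)))
theorem Q11299 : ∀ i, i < 11299 → P i := stepQ 11298 Q11298 (allL N11298 (tt N14314 (iv F24620)) (tt N9344 F18949) (tt N8775 (iv D11299)) (tt N14317 D14344) (tt N10105 (iv F18951)) (tt N9342 F18950))
theorem Q11300 : ∀ i, i < 11300 → P i := stepQ 11299 Q11299 (allL N11299 (tt N14315 (iv F24624)) (tt N8777 F18952) (tt N10105 F18953) (tt N9972 F18954) (tt N8775 (iv D11300)) (tt N9347 F18955))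
theorem Q11301 : ∀ i, i < 11301 → P i := stepQ 11300 Q11300 (allL N11300 (tt N14316 (iv F24629)) (tt N8778 F18956) (tt N11376 (iv F19083)) (tt N9346 F18957) (tt N8776 (iv D11301)) (tt N9973 F18958))
theorem Q11302 : ∀ i, i < 11302 → P i := stepQ 11301 Q11301 (allL N11301 (tt N8779 (iv D11302)) (tt N8782 F18959) (tt N10738 F18960) (tt N8817 (iv F18962)) (tt N14318 D14345) (tt N8779 (iv F18961)))
theorem Q11303 : ∀ i, i < 11303 → P i := stepQ 11302 Q11302 (allL N11302 (tt N8817 F18963) (tt N8780 F18964) (tt N8860 (iv F18966)) (tt N8779 (iv D11303)) (tt N14319 D14346) (tt N8817 F18965))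
theorem Q11304 : ∀ i, i < 11304 → P i := stepQ 11303 Q11303 (allL N11303 (tt N14318 (iv F24635)) (tt N8781 F18967) (tt N10739 F18968) (tt N11320 F23335) (tt N8779 (iv D11304)) (tt N14320 D14347))
theorem Q11305 : ∀ i, i < 11305 → P i := stepQ 11304 Q11304 (allL N11304 (tt N8788 F18969) (tt N14319 (iv F24639)) (tt N8820 F18970) (tt N14321 D14348) (tt N8780 (iv D11305)) (tt N14322 D14349))
theorem Q11306 : ∀ i, i < 11306 → P i := stepQ 11305 Q11305 (allL N11305 (tt N8789 F18971) (tt N11320 (iv F23336)) (tt N11322 F23337) (tt N8781 (iv D11306)) (tt N14321 (iv F24646)) (tt N14323 D14350))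
theorem Q11307 : ∀ i, i < 11307 → P i := stepQ 11306 Q11306 (allL N11306 (tt N8790 F18972) (tt N14320 (iv F24642)) (tt N8783 F18973) (tt N14323 (iv F24653)) (tt N14324 D14351) (tt N8781 (iv D11307)))
theorem Q11308 : ∀ i, i < 11308 → P i := stepQ 11307 Q11307 (allL N11307 (tt N8786 F18974) (tt N14318 (iv F24636)) (tt N8784 F18975) (tt N14325 D14352) (tt N8782 (iv D11308)) (tt N14324 (iv F24656)))
theorem Q11309 : ∀ i, i < 11309 → P i := stepQ 11308 Q11308 (allL N11308 (tt N8791 F18976) (tt N10743 F18977) (tt N14324 (iv F24655)) (tt N14260 (iv F24496)) (tt N8783 (iv D11309)) (tt N8784 F18978))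
theorem Q11310 : ∀ i, i < 11310 → P i := stepQ 11309 Q11309 (allL N11309 (tt N8818 F18979) (tt N8788 F18980) (tt N8812 F18981) (tt N14326 D14353) (tt N8785 (iv D11310)) (tt N14327 D14354))
theorem Q11311 : ∀ i, i < 11311 → P i := stepQ 11310 Q11310 (allL N11310 (tt N14325 (iv F24657)) (tt N8789 F18982) (tt N14328 D14355) (tt N8786 (iv D11311)) (tt N14326 (iv F24661)) (tt N14329 D14356))
theorem Q11312 : ∀ i, i < 11312 → P i := stepQ 11311 Q11311 (allL N11311 (tt N14324 (iv F24654)) (tt N8790 F18983) (tt N8791 F18984) (tt N14329 (iv F24667)) (tt N8790 F18985) (tt N8786 (iv D11312)))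
theorem Q11313 : ∀ i, i < 11313 → P i := stepQ 11312 Q11312 (allL N11312 (tt N8854 F18986) (tt N8787 (iv D11313)) (tt N8810 F18987) (tt N8811 F18988) (tt N14330 D14357) (tt N8810 F18989))
theorem Q11314 : ∀ i, i < 11314 → P i := stepQ 11313 Q11313 (allL N11313 (tt N8820 F18990) (tt N14330 (iv F24669)) (tt N8788 F18991) (tt N14331 D14358) (tt N8787 (iv D11314)) (tt N14332 D14359))
theorem Q11315 : ∀ i, i < 11315 → P i := stepQ 11314 Q11314 (allL N11314 (tt N14321 (iv F24644)) (tt N14326 (iv F24660)) (tt N14333 D14360) (tt N8788 (iv D11315)) (tt N8789 F18992) (tt N14334 D14361))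
theorem Q11316 : ∀ i, i < 11316 → P i := stepQ 11315 Q11315 (allL N11315 (tt N14322 (iv F24648)) (tt N14327 (iv F24663)) (tt N14332 (iv F24674)) (tt N14334 (iv F24679)) (tt N14327 (iv F24665)) (tt N8788 (iv D11316)))
theorem Q11317 : ∀ i, i < 11317 → P i := stepQ 11316 Q11316 (allL N11316 (tt N11322 (iv F23338)) (tt N14335 D14362) (tt N8789 (iv D11317)) (tt N14169 (iv F24325)) (tt N14333 (iv F24677)) (tt N14168 (iv F24322)))
theorem Q11318 : ∀ i, i < 11318 → P i := stepQ 11317 Q11317 (allL N11317 (tt N14323 (iv F24651)) (tt N14329 (iv F24666)) (tt N14168 (iv F24321)) (tt N8790 F18993) (tt N14336 D14363) (tt N8789 (iv D11318)))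
theorem Q11319 : ∀ i, i < 11319 → P i := stepQ 11318 Q11318 (allL N11318 (tt N8794 F18994) (tt N9404 F18995) (tt N14337 D14364) (tt N8793 (iv D11319)) (tt N9088 F18996) (tt N14338 D14365))
theorem Q11320 : ∀ i, i < 11320 → P i := stepQ 11319 Q11319 (allL N11319 (tt N8795 F18997) (tt N9405 F18998) (tt N8799 F18999) (tt N14338 (iv F24688)) (tt N9068 F19000) (tt N8793 (iv D11320)))
theorem Q11321 : ∀ i, i < 11321 → P i := stepQ 11320 Q11320 (allL N11320 (tt N14337 (iv F24682)) (tt N11305 F23336) (tt N8794 (iv D11321)) (tt N11303 (iv F23335)) (tt N14160 (iv F24304)) (tt N14339 D14366))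
theorem Q11322 : ∀ i, i < 11322 → P i := stepQ 11321 Q11321 (allL N11321 (tt N14338 (iv F24686)) (tt N8797 F19001) (tt N14339 (iv F24690)) (tt N8795 F19002) (tt N14340 D14367) (tt N8794 (iv D11322)))
theorem Q11323 : ∀ i, i < 11323 → P i := stepQ 11322 Q11322 (allL N11322 (tt N11316 F23338) (tt N8796 (iv D11323)) (tt N11305 (iv F23337)) (tt N11324 F23339) (tt N14162 (iv F24308)) (tt N11323 (iv F23341)))
theorem Q11324 : ∀ i, i < 11324 → P i := stepQ 11323 Q11323 (allL N11323 (tt N14168 (iv F24320)) (tt N11324 (iv F23340)) (tt N14323 (iv F24652)) (tt N8796 (iv D11324)) (tt N14341 D14368) (tt N11322 F23341))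
theorem Q11325 : ∀ i, i < 11325 → P i := stepQ 11324 Q11324 (allL N11324 (tt N14169 (iv F24323)) (tt N11323 F23340) (tt N8797 F19003) (tt N11322 (iv F23339)) (tt N14342 D14369) (tt N8796 (iv D11325)))
theorem Q11326 : ∀ i, i < 11326 → P i := stepQ 11325 Q11325 (allL N11325 (tt N14170 (iv F24326)) (tt N14340 (iv F24692)) (tt N14342 (iv F24695)) (tt N14269 (iv F24514)) (tt N8797 (iv D11326)) (tt N14163 (iv F24310)))
theorem Q11327 : ∀ i, i < 11327 → P i := stepQ 11326 Q11326 (allL N11326 (tt N8800 F19004) (tt N13652 (iv F23355)) (tt N8798 (iv D11327)) (tt N13650 (iv F23349)) (tt N9064 F19005) (tt N13649 (iv F23346)))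
theorem Q11328 : ∀ i, i < 11328 → P i := stepQ 11327 Q11327 (allL N11327 (tt N8801 F19006) (tt N13324 (iv F22687)) (tt N13649 (iv F23345)) (tt N8799 F19007) (tt N10066 F19008) (tt N8798 (iv D11328)))
theorem Q11329 : ∀ i, i < 11329 → P i := stepQ 11328 Q11328 (allL N11328 (tt N13661 (iv F23393)) (tt N8800 (iv D11329)) (tt N8802 F19009) (tt N13653 (iv F23366)) (tt N9065 F19010) (tt N13654 (iv F23371)))
theorem Q11330 : ∀ i, i < 11330 → P i := stepQ 11329 Q11329 (allL N11329 (tt N13650 (iv F23347)) (tt N13653 (iv F23364)) (tt N14343 D14370) (tt N8800 (iv D11330)) (tt N13650 (iv F23350)) (tt N13648 F23334))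
theorem Q11331 : ∀ i, i < 11331 → P i := stepQ 11330 Q11330 (allL N11330 (tt N13649 (iv F23342)) (tt N13654 (iv F23369)) (tt N8801 F19011) (tt N13648 (iv F23333)) (tt N10085 F19012) (tt N8800 (iv D11331)))
theorem Q11332 : ∀ i, i < 11332 → P i := stepQ 11331 Q11331 (allL N11331 (tt N8802 (iv D11332)) (tt N13362 (iv F22746)) (tt N13661 (iv F23395)) (tt N14344 D14371) (tt N9066 F19013) (tt N13660 F23392))
theorem Q11333 : ∀ i, i < 11333 → P i := stepQ 11332 Q11332 (allL N11332 (tt N14344 (iv F24700)) (tt N8803 F19014) (tt N13670 (iv F23420)) (tt N8802 (iv D11333)) (tt N10093 F19015) (tt N10757 (iv F19016)))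
theorem Q11334 : ∀ i, i < 11334 → P i := stepQ 11333 Q11333 (allL N11333 (tt N13660 (iv F23390)) (tt N8804 F19017) (tt N13654 F23372) (tt N10757 F19018) (tt N9057 F19019) (tt N8802 (iv D11334)))
theorem Q11335 : ∀ i, i < 11335 → P i := stepQ 11334 Q11334 (allL N11334 (tt N14345 D14372) (tt N8805 (iv D11335)) (tt N14272 (iv F24519)) (tt N9044 F19020) (tt N13363 (iv F22749)) (tt N8806 F19021))
theorem Q11336 : ∀ i, i < 11336 → P i := stepQ 11335 Q11335 (allL N11335 (tt N8806 (iv D11336)) (tt N13360 (iv F22739)) (tt N14270 (iv F24515)) (tt N14346 D14373) (tt N8808 F19022) (tt N14345 (iv F24705)))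
theorem Q11337 : ∀ i, i < 11337 → P i := stepQ 11336 Q11336 (allL N11336 (tt N14346 (iv F24706)) (tt N8807 F19023) (tt N9641 (iv F19026)) (tt N8806 (iv D11337)) (tt N9059 F19024) (tt N9044 F19025))
theorem Q11338 : ∀ i, i < 11338 → P i := stepQ 11337 Q11337 (allL N11337 (tt N8810 F19027) (tt N8814 F19028) (tt N8854 F19029) (tt N8809 (iv D11338)) (tt N14347 D14374) (tt N8854 F19030))
theorem Q11339 : ∀ i, i < 11339 → P i := stepQ 11338 Q11338 (allL N11338 (tt N14347 (iv F24711)) (tt N8812 F19031) (tt N14330 (iv F24670)) (tt N14264 (iv F24505)) (tt N8810 (iv D11339)) (tt N14348 D14375))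
theorem Q11340 : ∀ i, i < 11340 → P i := stepQ 11339 Q11339 (allL N11339 (tt N8855 F19032) (tt N8813 F19033) (tt N8871 F19034) (tt N14349 D14376) (tt N8811 (iv D11340)) (tt N14226 (iv F24439)))
theorem Q11341 : ∀ i, i < 11341 → P i := stepQ 11340 Q11340 (allL N11340 (tt N8819 F19035) (tt N14348 (iv F24714)) (tt N14327 (iv F24664)) (tt N14265 (iv F24510)) (tt N14332 (iv F24675)) (tt N8812 (iv D11341)))
theorem Q11342 : ∀ i, i < 11342 → P i := stepQ 11341 Q11341 (allL N11341 (tt N8821 F19036) (tt N14349 (iv F24717)) (tt N14250 (iv F24480)) (tt N8813 (iv D11342)) (tt N14331 (iv F24672)) (tt N14227 (iv F24441)))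
theorem Q11343 : ∀ i, i < 11343 → P i := stepQ 11342 Q11342 (allL N11342 (tt N8816 F19037) (tt N14347 (iv F24712)) (tt N8846 F19038) (tt N14281 (iv F24528)) (tt N8814 (iv D11343)) (tt N14350 D14377))
theorem Q11344 : ∀ i, i < 11344 → P i := stepQ 11343 Q11343 (allL N11343 (tt N8860 F19039) (tt N8815 (iv D11344)) (tt N8817 F19040) (tt N8839 F19041) (tt N14351 D14378) (tt N8860 F19042))
theorem Q11345 : ∀ i, i < 11345 → P i := stepQ 11344 Q11344 (allL N11344 (tt N8846 F19043) (tt N14351 (iv F24722)) (tt N8816 F19044) (tt N14352 D14379) (tt N8815 (iv D11345)) (tt N14353 D14380))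
theorem Q11346 : ∀ i, i < 11346 → P i := stepQ 11345 Q11345 (allL N11345 (tt N14350 (iv F24718)) (tt N8819 F19045) (tt N14353 (iv F24727)) (tt N14285 (iv F24534)) (tt N8863 F19046) (tt N8816 (iv D11346)))
theorem Q11347 : ∀ i, i < 11347 → P i := stepQ 11346 Q11346 (allL N11346 (tt N14319 (iv F24638)) (tt N8818 F19047) (tt N14351 (iv F24723)) (tt N11690 F23274) (tt N8817 (iv D11347)) (tt N14354 D14381))
theorem Q11348 : ∀ i, i < 11348 → P i := stepQ 11347 Q11347 (allL N11347 (tt N14326 (iv F24659)) (tt N11690 (iv F23273)) (tt N12057 F23272) (tt N8818 (iv D11348)) (tt N14325 (iv F24658)) (tt N14355 D14382))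
theorem Q11349 : ∀ i, i < 11349 → P i := stepQ 11348 Q11348 (allL N11348 (tt N14327 (iv F24662)) (tt N14354 (iv F24729)) (tt N8819 F19048) (tt N14355 (iv F24731)) (tt N14322 (iv F24650)) (tt N8818 (iv D11349)))
theorem Q11350 : ∀ i, i < 11350 → P i := stepQ 11349 Q11349 (allL N11349 (tt N14332 (iv F24673)) (tt N8863 F19049) (tt N14322 (iv F24649)) (tt N14356 D14383) (tt N8819 (iv D11350)) (tt N8820 F19050))
theorem Q11351 : ∀ i, i < 11351 → P i := stepQ 11350 Q11350 (allL N11350 (tt N14331 (iv F24671)) (tt N8862 F19051) (tt N14357 D14384) (tt N8820 (iv D11351)) (tt N8821 F19052) (tt N14356 (iv F24733)))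
theorem Q11352 : ∀ i, i < 11352 → P i := stepQ 11351 Q11351 (allL N11351 (tt N14250 (iv F24479)) (tt N14358 D14385) (tt N8821 (iv D11352)) (tt N14225 (iv F24435)) (tt N14357 (iv F24734)) (tt N14251 (iv F24481)))
theorem Q11353 : ∀ i, i < 11353 → P i := stepQ 11352 Q11352 (allL N11352 (tt N14359 D14386) (tt N8822 (iv D11353)) (tt N8826 F19053) (tt N14360 D14387) (tt N11572 (iv F19434)) (tt N13814 (iv F23709)))
theorem Q11354 : ∀ i, i < 11354 → P i := stepQ 11353 Q11353 (allL N11353 (tt N11289 F19054) (tt N14360 (iv F24738)) (tt N14361 D14388) (tt N8822 (iv D11354)) (tt N14362 D14389) (tt N14363 D14390))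
theorem Q11355 : ∀ i, i < 11355 → P i := stepQ 11354 Q11354 (allL N11354 (tt N11290 F19055) (tt N13814 (iv F23708)) (tt N8823 F19056) (tt N14363 (iv F24745)) (tt N14364 D14391) (tt N8822 (iv D11355)))
theorem Q11356 : ∀ i, i < 11356 → P i := stepQ 11355 Q11355 (allL N11355 (tt N11291 F19057) (tt N8827 F19058) (tt N14364 (iv F24747)) (tt N11504 (iv F19304)) (tt N8823 (iv D11356)) (tt N11575 (iv F19444)))
theorem Q11357 : ∀ i, i < 11357 → P i := stepQ 11356 Q11356 (allL N11356 (tt N14365 D14392) (tt N8824 (iv D11357)) (tt N11572 (iv F19433)) (tt N14366 D14393) (tt N8826 F19059) (tt N14367 D14394))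
theorem Q11358 : ∀ i, i < 11358 → P i := stepQ 11357 Q11357 (allL N11357 (tt N8831 F19060) (tt N14366 (iv F24750)) (tt N14368 D14395) (tt N8824 (iv D11358)) (tt N13818 (iv F23716)) (tt N14369 D14396))
theorem Q11359 : ∀ i, i < 11359 → P i := stepQ 11358 Q11358 (allL N11358 (tt N8832 F19061) (tt N14367 (iv F24751)) (tt N8825 F19062) (tt N14369 (iv F24757)) (tt N13817 (iv F23714)) (tt N8824 (iv D11359)))
theorem Q11360 : ∀ i, i < 11360 → P i := stepQ 11359 Q11359 (allL N11359 (tt N8833 F19063) (tt N11575 (iv F19442)) (tt N13817 (iv F23713)) (tt N11514 (iv F19324)) (tt N8825 (iv D11360)) (tt N8827 F19064))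
theorem Q11361 : ∀ i, i < 11361 → P i := stepQ 11360 Q11360 (allL N11360 (tt N8826 (iv D11361)) (tt N8834 F19065) (tt N14359 (iv F24737)) (tt N13813 (iv F23707)) (tt N14365 (iv F24749)) (tt N13812 F23704))
theorem Q11362 : ∀ i, i < 11362 → P i := stepQ 11361 Q11361 (allL N11361 (tt N14370 D14397) (tt N8828 (iv D11362)) (tt N11564 (iv F19407)) (tt N14371 D14398) (tt N11564 (iv F19408)) (tt N14372 D14399))
theorem Q11363 : ∀ i, i < 11363 → P i := stepQ 11362 Q11362 (allL N11362 (tt N13176 (iv F22394)) (tt N14371 (iv F24758)) (tt N14369 (iv F24756)) (tt N8828 (iv D11363)) (tt N14373 D14400) (tt N14368 F24754))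
theorem Q11364 : ∀ i, i < 11364 → P i := stepQ 11363 Q11363 (allL N11363 (tt N13177 (iv F22397)) (tt N14372 (iv F24759)) (tt N8829 F19066) (tt N14368 (iv F24753)) (tt N14374 D14401) (tt N8828 (iv D11364)))
theorem Q11365 : ∀ i, i < 11365 → P i := stepQ 11364 Q11364 (allL N11364 (tt N13178 (iv F22400)) (tt N11567 (iv F19416)) (tt N14374 (iv F24760)) (tt N11523 (iv F19342)) (tt N8829 (iv D11365)) (tt N11567 (iv F19418)))
theorem Q11366 : ∀ i, i < 11366 → P i := stepQ 11365 Q11365 (allL N11365 (tt N8830 (iv D11366)) (tt N14365 (iv F24748)) (tt N11293 F19067) (tt N14375 D14402) (tt N8834 F19068) (tt N14376 D14403))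
theorem Q11367 : ∀ i, i < 11367 → P i := stepQ 11366 Q11366 (allL N11366 (tt N14375 (iv F24761)) (tt N8831 F19069) (tt N14377 D14404) (tt N8830 (iv D11367)) (tt N14378 D14405) (tt N14379 D14406))
theorem Q11368 : ∀ i, i < 11368 → P i := stepQ 11367 Q11367 (allL N11367 (tt N14376 (iv F24762)) (tt N8832 F19070) (tt N11295 F19071) (tt N14379 (iv F24767)) (tt N12728 (iv F21509)) (tt N8830 (iv D11368)))
theorem Q11369 : ∀ i, i < 11369 → P i := stepQ 11368 Q11368 (allL N11368 (tt N14368 (iv F24752)) (tt N14380 D14407) (tt N8831 (iv D11369)) (tt N13177 (iv F22399)) (tt N14381 D14408) (tt N13176 F22396))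
theorem Q11370 : ∀ i, i < 11370 → P i := stepQ 11369 Q11369 (allL N11369 (tt N13818 (iv F23715)) (tt N14378 (iv F24764)) (tt N14381 (iv F24768)) (tt N8837 F19072) (tt N8831 (iv D11370)) (tt N14382 D14409))
theorem Q11371 : ∀ i, i < 11371 → P i := stepQ 11370 Q11370 (allL N11370 (tt N14369 (iv F24755)) (tt N14379 (iv F24766)) (tt N13176 (iv F22395)) (tt N8832 F19073) (tt N14383 D14410) (tt N8831 (iv D11371)))
theorem Q11372 : ∀ i, i < 11372 → P i := stepQ 11371 Q11371 (allL N11371 (tt N13817 (iv F23712)) (tt N12728 (iv F21508)) (tt N8833 F19074) (tt N14384 D14411) (tt N8832 (iv D11372)) (tt N8838 F19075))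
theorem Q11373 : ∀ i, i < 11373 → P i := stepQ 11372 Q11372 (allL N11372 (tt N8835 F19076) (tt N13813 (iv F23706)) (tt N14385 D14412) (tt N8834 (iv D11373)) (tt N14386 D14413) (tt N13804 (iv F23688)))
theorem Q11374 : ∀ i, i < 11374 → P i := stepQ 11373 Q11373 (allL N11373 (tt N8836 F19077) (tt N13812 (iv F23703)) (tt N11297 F19078) (tt N13804 (iv F23687)) (tt N14387 D14414) (tt N8834 (iv D11374)))
theorem Q11375 : ∀ i, i < 11375 → P i := stepQ 11374 Q11374 (allL N11374 (tt N14385 (iv F24771)) (tt N9850 F19079) (tt N8835 (iv D11375)) (tt N14388 D14415) (tt N14389 D14416) (tt N9848 F19080))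
theorem Q11376 : ∀ i, i < 11376 → P i := stepQ 11375 Q11375 (allL N11375 (tt N14386 (iv F24773)) (tt N8837 F19081) (tt N14389 (iv F24779)) (tt N14378 (iv F24765)) (tt N8835 (iv D11376)) (tt N14390 D14417))
theorem Q11377 : ∀ i, i < 11377 → P i := stepQ 11376 Q11376 (allL N11376 (tt N14387 (iv F24774)) (tt N8838 F19082) (tt N11300 F19083) (tt N14391 D14418) (tt N8836 (iv D11377)) (tt N12728 (iv F21510)))
theorem Q11378 : ∀ i, i < 11378 → P i := stepQ 11377 Q11377 (allL N11377 (tt N13811 (iv F23699)) (tt N14390 (iv F24781)) (tt N13803 (iv F23682)) (tt N14382 (iv F24769)) (tt N13802 (iv F23679)) (tt N8837 (iv D11378)))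
theorem Q11379 : ∀ i, i < 11379 → P i := stepQ 11378 Q11378 (allL N11378 (tt N13809 (iv F23695)) (tt N14391 (iv F24784)) (tt N14392 D14419) (tt N8838 (iv D11379)) (tt N13801 (iv F23675)) (tt N14384 (iv F24770)))
theorem Q11380 : ∀ i, i < 11380 → P i := stepQ 11379 Q11379 (allL N11379 (tt N8839 (iv D11380)) (tt N8841 F19084) (tt N10618 F19085) (tt N8860 F19086) (tt N12891 (iv F21852)) (tt N8839 F19087))
theorem Q11381 : ∀ i, i < 11381 → P i := stepQ 11380 Q11380 (allL N11380 (tt N12891 (iv F21848)) (tt N8840 F19088) (tt N9691 F19089) (tt N12880 F21773) (tt N8839 (iv D11381)) (tt N12879 (iv F21775)))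
theorem Q11382 : ∀ i, i < 11382 → P i := stepQ 11381 Q11381 (allL N11381 (tt N8847 F19090) (tt N12880 (iv F21774)) (tt N12340 (iv F20869)) (tt N8840 (iv D11382)) (tt N14352 (iv F24725)) (tt N12338 F20867))
theorem Q11383 : ∀ i, i < 11383 → P i := stepQ 11382 Q11382 (allL N11382 (tt N8848 F19091) (tt N12879 F21776) (tt N8842 F19092) (tt N12338 (iv F20866)) (tt N12889 (iv F21841)) (tt N8840 (iv D11383)))
theorem Q11384 : ∀ i, i < 11384 → P i := stepQ 11383 Q11383 (allL N11383 (tt N8845 F19093) (tt N12891 (iv F21849)) (tt N8843 F19094) (tt N12667 (iv F21786)) (tt N8841 (iv D11384)) (tt N12889 (iv F21842)))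
theorem Q11385 : ∀ i, i < 11385 → P i := stepQ 11384 Q11384 (allL N11384 (tt N8849 F19095) (tt N9694 F19096) (tt N12889 (iv F21843)) (tt N10993 F19097) (tt N8842 (iv D11385)) (tt N8843 F19098))
theorem Q11386 : ∀ i, i < 11386 → P i := stepQ 11385 Q11385 (allL N11385 (tt N8861 F19099) (tt N8846 F19100) (tt N8856 F19101) (tt N12664 F21789) (tt N8844 (iv D11386)) (tt N14393 D14420))
theorem Q11387 : ∀ i, i < 11387 → P i := stepQ 11386 Q11386 (allL N11386 (tt N12667 F21784) (tt N8847 F19102) (tt N12665 (iv F21785)) (tt N8845 (iv D11387)) (tt N12664 (iv F21787)) (tt N12888 (iv F21837)))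
theorem Q11388 : ∀ i, i < 11388 → P i := stepQ 11387 Q11387 (allL N11387 (tt N12889 (iv F21839)) (tt N8848 F19103) (tt N8849 F19104) (tt N12888 F21838) (tt N8848 F19105) (tt N8845 (iv D11388)))
theorem Q11389 : ∀ i, i < 11389 → P i := stepQ 11388 Q11388 (allL N11388 (tt N14352 (iv F24724)) (tt N12664 F21788) (tt N14394 D14421) (tt N8846 (iv D11389)) (tt N8847 F19106) (tt N14395 D14422))
theorem Q11390 : ∀ i, i < 11390 → P i := stepQ 11389 Q11389 (allL N11389 (tt N14353 (iv F24726)) (tt N14393 (iv F24786)) (tt N14350 (iv F24719)) (tt N14395 (iv F24790)) (tt N14393 (iv F24788)) (tt N8846 (iv D11390)))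
theorem Q11391 : ∀ i, i < 11391 → P i := stepQ 11390 Q11390 (allL N11390 (tt N12340 (iv F20868)) (tt N14396 D14423) (tt N8847 (iv D11391)) (tt N12333 (iv F20856)) (tt N14394 (iv F24789)) (tt N12332 F20853))
theorem Q11392 : ∀ i, i < 11392 → P i := stepQ 11391 Q11391 (allL N11391 (tt N12338 (iv F20865)) (tt N12888 (iv F21835)) (tt N12332 (iv F20852)) (tt N8848 F19107) (tt N12881 (iv F21810)) (tt N8847 (iv D11392)))
theorem Q11393 : ∀ i, i < 11393 → P i := stepQ 11392 Q11392 (allL N11392 (tt N10997 F19108) (tt N14397 D14424) (tt N8850 (iv D11393)) (tt N12698 F21806) (tt N8851 F19109) (tt N11660 (iv F19609)))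
theorem Q11394 : ∀ i, i < 11394 → P i := stepQ 11393 Q11393 (allL N11393 (tt N14398 D14425) (tt N8851 (iv D11394)) (tt N8853 F19110) (tt N14399 D14426) (tt N14397 (iv F24792)) (tt N10615 F19111))
theorem Q11395 : ∀ i, i < 11395 → P i := stepQ 11394 Q11394 (allL N11394 (tt N10676 F19112) (tt N14399 (iv F24797)) (tt N10673 F19113) (tt N8851 (iv D11395)) (tt N12697 (iv F21807)) (tt N10616 F19114))
theorem Q11396 : ∀ i, i < 11396 → P i := stepQ 11395 Q11395 (allL N11395 (tt N14400 D14427) (tt N8852 (iv D11396)) (tt N14397 (iv F24791)) (tt N10636 F19115) (tt N8853 F19116) (tt N10635 F19117))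
theorem Q11397 : ∀ i, i < 11397 → P i := stepQ 11396 Q11396 (allL N11396 (tt N8853 (iv D11397)) (tt N10630 F19118) (tt N14398 (iv F24795)) (tt N10646 F19119) (tt N14400 (iv F24801)) (tt N10617 F19120))
theorem Q11398 : ∀ i, i < 11398 → P i := stepQ 11397 Q11397 (allL N11397 (tt N14330 (iv F24668)) (tt N8856 F19121) (tt N14347 (iv F24713)) (tt N14401 D14428) (tt N8854 (iv D11398)) (tt N14402 D14429))
theorem Q11399 : ∀ i, i < 11399 → P i := stepQ 11398 Q11398 (allL N11398 (tt N14349 (iv F24716)) (tt N8857 F19122) (tt N14401 (iv F24805)) (tt N8855 (iv D11399)) (tt N14401 (iv F24804)) (tt N12662 (iv F21409)))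
theorem Q11400 : ∀ i, i < 11400 → P i := stepQ 11399 Q11399 (allL N11399 (tt N14226 (iv F24436)) (tt N8858 F19123) (tt N10680 F19124) (tt N12662 (iv F21408)) (tt N14228 (iv F24444)) (tt N8855 (iv D11400)))
theorem Q11401 : ∀ i, i < 11401 → P i := stepQ 11400 Q11400 (allL N11400 (tt N8862 F19125) (tt N14401 (iv F24803)) (tt N12660 (iv F21794)) (tt N8856 (iv D11401)) (tt N8857 F19126) (tt N12658 F21802))
theorem Q11402 : ∀ i, i < 11402 → P i := stepQ 11401 Q11401 (allL N11401 (tt N8863 F19127) (tt N14402 (iv F24806)) (tt N14393 (iv F24787)) (tt N12658 (iv F21804)) (tt N14350 (iv F24720)) (tt N8856 (iv D11402)))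
theorem Q11403 : ∀ i, i < 11403 → P i := stepQ 11402 Q11402 (allL N11402 (tt N11497 (iv F19294)) (tt N8859 (iv D11403)) (tt N10685 F19128) (tt N14403 D14430) (tt N14289 (iv F24548)) (tt N10672 F19129))
theorem Q11404 : ∀ i, i < 11404 → P i := stepQ 11403 Q11403 (allL N11403 (tt N8866 F19130) (tt N14403 (iv F24807)) (tt N10616 F19131) (tt N8859 (iv D11404)) (tt N14404 D14431) (tt N10673 F19132))
theorem Q11405 : ∀ i, i < 11405 → P i := stepQ 11404 Q11404 (allL N11404 (tt N14351 (iv F24721)) (tt N8861 F19133) (tt N14319 (iv F24640)) (tt N11694 F21799) (tt N8860 (iv D11405)) (tt N11693 (iv F21798)))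
theorem Q11406 : ∀ i, i < 11406 → P i := stepQ 11405 Q11405 (allL N11405 (tt N14393 (iv F24785)) (tt N11693 F21797) (tt N8863 F19134) (tt N11692 (iv F21796)) (tt N14353 (iv F24728)) (tt N8861 (iv D11407)))
theorem Q11407 : ∀ i, i < 11407 → P i := stepQ 11406 Q11406 (allL N11406 (tt N12660 (iv F21793)) (tt N14405 D14432) (tt N8862 (iv D11408)) (tt N12657 F21805) (tt N8864 F19135) (tt N12656 (iv F21792)))
theorem Q11408 : ∀ i, i < 11408 → P i := stepQ 11407 Q11407 (allL N11407 (tt N12658 (iv F21803)) (tt N14356 (iv F24732)) (tt N12656 (iv F21791)) (tt N8863 F19136) (tt N14406 D14433) (tt N8862 (iv D11409)))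
theorem Q11409 : ∀ i, i < 11409 → P i := stepQ 11408 Q11408 (allL N11408 (tt N14405 (iv F24811)) (tt N8864 (iv D11410)) (tt N14358 (iv F24735)) (tt N12653 (iv F21395)) (tt N14405 (iv F24812)) (tt N12652 F21393))
theorem Q11410 : ∀ i, i < 11410 → P i := stepQ 11409 Q11409 (allL N11409 (tt N12663 (iv F21410)) (tt N14252 (iv F24482)) (tt N12654 (iv F21397)) (tt N14255 (iv F24488)) (tt N8865 (iv D11411)) (tt N14406 (iv F24813)))
theorem Q11411 : ∀ i, i < 11411 → P i := stepQ 11410 Q11410 (allL N11410 (tt N14404 (iv F24809)) (tt N11500 (iv F19296)) (tt N10996 F19137) (tt N14292 (iv F24554)) (tt N8866 (iv D11412)) (tt N14407 D14434))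
theorem Q11412 : ∀ i, i < 11412 → P i := stepQ 11411 Q11411 (allL N11411 (tt N8869 F19138) (tt N8880 F19139) (tt N14408 D14435) (tt N8867 (iv D11413)) (tt N10792 F19140) (tt N14409 D14436))
theorem Q11413 : ∀ i, i < 11413 → P i := stepQ 11412 Q11412 (allL N11412 (tt N8870 F19141) (tt N8881 F19142) (tt N14228 (iv F24443)) (tt N14409 (iv F24820)) (tt N10680 F19143) (tt N8867 (iv D11414)))
theorem Q11414 : ∀ i, i < 11414 → P i := stepQ 11413 Q11413 (allL N11413 (tt N10792 F19144) (tt N8872 F19145) (tt N14410 D14437) (tt N8868 (iv D11415)) (tt N8869 F19146) (tt N14411 D14438))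
theorem Q11415 : ∀ i, i < 11415 → P i := stepQ 11414 Q11414 (allL N11414 (tt N10793 F19147) (tt N8873 F19148) (tt N10793 F19149) (tt N14411 (iv F24825)) (tt N13733 (iv F23553)) (tt N8868 (iv D11416)))
theorem Q11416 : ∀ i, i < 11416 → P i := stepQ 11415 Q11415 (allL N11415 (tt N14408 (iv F24816)) (tt N14412 D14439) (tt N8869 (iv D11417)) (tt N14413 D14440) (tt N14410 (iv F24822)) (tt N14414 D14441))
theorem Q11417 : ∀ i, i < 11417 → P i := stepQ 11416 Q11416 (allL N11416 (tt N14409 (iv F24818)) (tt N8875 F19150) (tt N14414 (iv F24829)) (tt N8870 F19151) (tt N14415 D14442) (tt N8869 (iv D11418)))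
theorem Q11418 : ∀ i, i < 11418 → P i := stepQ 11417 Q11417 (allL N11417 (tt N10680 F19152) (tt N8876 F19153) (tt N14226 (iv F24437)) (tt N14416 D14443) (tt N8870 (iv D11419)) (tt N8871 F19154))
theorem Q11419 : ∀ i, i < 11419 → P i := stepQ 11418 Q11418 (allL N11418 (tt N10679 F19155) (tt N8877 F19156) (tt N14417 D14444) (tt N8871 (iv D11420)) (tt N13732 (iv F23549)) (tt N14416 (iv F24833)))
theorem Q11420 : ∀ i, i < 11420 → P i := stepQ 11419 Q11419 (allL N11419 (tt N8889 F19157) (tt N14418 D14445) (tt N8872 (iv D11421)) (tt N14419 D14446) (tt N8874 F19158) (tt N14420 D14447))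
theorem Q11421 : ∀ i, i < 11421 → P i := stepQ 11420 Q11420 (allL N11420 (tt N8890 F19159) (tt N14411 (iv F24824)) (tt N14420 (iv F24839)) (tt N8873 F19160) (tt N14421 D14448) (tt N8872 (iv D11422)))
theorem Q11422 : ∀ i, i < 11422 → P i := stepQ 11421 Q11421 (allL N11421 (tt N14422 D14449) (tt N8874 (iv D11423)) (tt N14412 (iv F24826)) (tt N8926 F19161) (tt N14418 (iv F24835)) (tt N8925 F19162))
theorem Q11423 : ∀ i, i < 11423 → P i := stepQ 11422 Q11422 (allL N11422 (tt N8896 F19163) (tt N14415 (iv F24830)) (tt N8927 F19164) (tt N14423 D14450) (tt N8875 (iv D11424)) (tt N14421 (iv F24843)))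
theorem Q11424 : ∀ i, i < 11424 → P i := stepQ 11423 Q11423 (allL N11423 (tt N8897 F19165) (tt N14416 (iv F24832)) (tt N14424 D14451) (tt N8876 (iv D11425)) (tt N14423 (iv F24848)) (tt N8877 F19166))
theorem Q11425 : ∀ i, i < 11425 → P i := stepQ 11424 Q11424 (allL N11424 (tt N8898 F19167) (tt N14425 D14452) (tt N8877 (iv D11426)) (tt N14138 (iv F24258)) (tt N13734 (iv F23555)) (tt N14424 (iv F24851)))
theorem Q11426 : ∀ i, i < 11426 → P i := stepQ 11425 Q11425 (allL N11425 (tt N14201 (iv F24390)) (tt N8878 (iv D11427)) (tt N14219 (iv F24422)) (tt N14426 D14453) (tt N8879 F19168) (tt N14126 (iv F24232)))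
theorem Q11427 : ∀ i, i < 11427 → P i := stepQ 11426 Q11426 (allL N11426 (tt N8899 F19169) (tt N14426 (iv F24852)) (tt N14427 D14454) (tt N8878 (iv D11428)) (tt N13765 (iv F23621)) (tt N14128 (iv F24236)))
theorem Q11428 : ∀ i, i < 11428 → P i := stepQ 11427 Q11427 (allL N11427 (tt N8879 (iv D11429)) (tt N8900 F19170) (tt N13644 (iv F23325)) (tt N13763 (iv F23617)) (tt N14201 (iv F24393)) (tt N8913 F19171))
theorem Q11429 : ∀ i, i < 11429 → P i := stepQ 11428 Q11428 (allL N11428 (tt N8884 F19172) (tt N14428 D14455) (tt N8880 (iv D11430)) (tt N14177 (iv F24337)) (tt N10794 F19173) (tt N14429 D14456))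
theorem Q11430 : ∀ i, i < 11430 → P i := stepQ 11429 Q11429 (allL N11429 (tt N8885 F19174) (tt N14409 (iv F24819)) (tt N14429 (iv F24858)) (tt N8881 F19175) (tt N14429 (iv F24860)) (tt N8880 (iv D11431)))
theorem Q11431 : ∀ i, i < 11431 → P i := stepQ 11430 Q11430 (allL N11430 (tt N10794 F19176) (tt N8890 (iv F19179)) (tt N8882 (iv D11432)) (tt N8883 F19177) (tt N8884 F19178) (tt N8882 (iv F19180)))
theorem Q11432 : ∀ i, i < 11432 → P i := stepQ 11431 Q11431 (allL N11431 (tt N14421 (iv F24841)) (tt N8884 (iv D11433)) (tt N8893 F19181) (tt N14430 D14457) (tt N8890 F19182) (tt N8896 (iv F19183)))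
theorem Q11433 : ∀ i, i < 11433 → P i := stepQ 11432 Q11432 (allL N11432 (tt N14177 (iv F24336)) (tt N14430 (iv F24861)) (tt N14176 (iv F24334)) (tt N8884 (iv D11434)) (tt N10690 F19184) (tt N10694 (iv F19185)))
theorem Q11434 : ∀ i, i < 11434 → P i := stepQ 11433 Q11433 (allL N11433 (tt N14429 (iv F24857)) (tt N8896 F19186) (tt N8885 F19187) (tt N10694 F19188) (tt N8885 F19189) (tt N8884 (iv D11435)))
theorem Q11435 : ∀ i, i < 11435 → P i := stepQ 11434 Q11434 (allL N11434 (tt N10780 F19190) (tt N8887 F19191) (tt N14431 D14458) (tt N8886 (iv D11436)) (tt N10779 F19192) (tt N14432 D14459))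
theorem Q11436 : ∀ i, i < 11436 → P i := stepQ 11435 Q11435 (allL N11435 (tt N10781 F19193) (tt N8888 F19194) (tt N10781 F19195) (tt N14432 (iv F24868)) (tt N13725 (iv F23533)) (tt N8886 (iv D11437)))
theorem Q11437 : ∀ i, i < 11437 → P i := stepQ 11436 Q11436 (allL N11436 (tt N10790 F19196) (tt N14433 D14460) (tt N8887 (iv D11438)) (tt N14434 D14461) (tt N9594 F19197) (tt N14435 D14462))
theorem Q11438 : ∀ i, i < 11438 → P i := stepQ 11437 Q11437 (allL N11437 (tt N10791 F19198) (tt N14432 (iv F24867)) (tt N14435 (iv F24873)) (tt N8888 F19199) (tt N14436 D14463) (tt N8887 (iv D11439)))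
theorem Q11439 : ∀ i, i < 11439 → P i := stepQ 11438 Q11438 (allL N11438 (tt N14420 (iv F24838)) (tt N8889 (iv D11440)) (tt N8890 F19200) (tt N14437 D14464) (tt N8893 F19201) (tt N8889 (iv F19202)))
theorem Q11440 : ∀ i, i < 11440 → P i := stepQ 11439 Q11439 (allL N11439 (tt N14419 (iv F24836)) (tt N14437 (iv F24876)) (tt N14438 D14465) (tt N8889 (iv D11441)) (tt N14439 D14466) (tt N14437 (iv F24877)))
theorem Q11441 : ∀ i, i < 11441 → P i := stepQ 11440 Q11440 (allL N11440 (tt N13735 (iv F23556)) (tt N10690 F19203) (tt N14440 D14467) (tt N8891 (iv D11442)) (tt N14430 (iv F24862)) (tt N8892 F19204))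
theorem Q11442 : ∀ i, i < 11442 → P i := stepQ 11441 Q11441 (allL N11441 (tt N13734 (iv F23554)) (tt N14441 D14468) (tt N8892 (iv D11443)) (tt N14442 D14469) (tt N8898 F19205) (tt N14440 (iv F24883)))
theorem Q11443 : ∀ i, i < 11443 → P i := stepQ 11442 Q11442 (allL N11442 (tt N8893 (iv D11444)) (tt N14422 (iv F24844)) (tt N14421 (iv F24842)) (tt N14443 D14470) (tt N14420 (iv F24840)) (tt N8927 F19213))
theorem Q11444 : ∀ i, i < 11444 → P i := stepQ 11443 Q11443 (allL N11443 (tt N14443 (iv F24886)) (tt N8894 F19206) (tt N14444 D14471) (tt N8893 (iv D11445)) (tt N14445 D14472) (tt N8911 (iv F19207)))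
theorem Q11445 : ∀ i, i < 11445 → P i := stepQ 11444 Q11444 (allL N11444 (tt N8927 (iv F19212)) (tt N8895 F19208) (tt N8896 F19209) (tt N8911 F19210) (tt N8895 F19211) (tt N8893 (iv D11446)))
theorem Q11446 : ∀ i, i < 11446 → P i := stepQ 11445 Q11445 (allL N11445 (tt N8928 F19214) (tt N14445 (iv F24891)) (tt N8912 F19215) (tt N14439 (iv F24882)) (tt N8894 (iv D11447)) (tt N14446 D14473))
theorem Q11447 : ∀ i, i < 11447 → P i := stepQ 11446 Q11446 (allL N11446 (tt N14423 (iv F24847)) (tt N10694 F19216) (tt N14447 D14474) (tt N8896 (iv D11448)) (tt N8897 F19217) (tt N14430 (iv F24863)))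
theorem Q11448 : ∀ i, i < 11448 → P i := stepQ 11447 Q11447 (allL N11447 (tt N14424 (iv F24849)) (tt N14448 D14475) (tt N8897 (iv D11449)) (tt N14427 (iv F24854)) (tt N14447 (iv F24895)) (tt N8898 F19218))
theorem Q11449 : ∀ i, i < 11449 → P i := stepQ 11448 Q11448 (allL N11448 (tt N14449 D14476) (tt N8898 (iv D11450)) (tt N10691 F19219) (tt N14450 D14477) (tt N14441 (iv F24885)) (tt N14448 (iv F24897)))
theorem Q11450 : ∀ i, i < 11450 → P i := stepQ 11449 Q11449 (allL N11449 (tt N14138 (iv F24256)) (tt N14450 (iv F24899)) (tt N14128 (iv F24237)) (tt N8898 (iv D11451)) (tt N14451 D14478) (tt N14427 (iv F24855)))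
theorem Q11451 : ∀ i, i < 11451 → P i := stepQ 11450 Q11450 (allL N11450 (tt N14427 (iv F24853)) (tt N14452 D14479) (tt N8899 (iv D11452)) (tt N14424 (iv F24850)) (tt N14453 D14480) (tt N14138 (iv F24257)))
theorem Q11452 : ∀ i, i < 11452 → P i := stepQ 11451 Q11451 (allL N11451 (tt N13765 (iv F23620)) (tt N14212 (iv F24407)) (tt N14453 (iv F24900)) (tt N8902 F19220) (tt N8899 (iv D11453)) (tt N14454 D14481))
theorem Q11453 : ∀ i, i < 11453 → P i := stepQ 11452 Q11452 (allL N11452 (tt N8901 F19221) (tt N13763 (iv F23616)) (tt N14455 D14482) (tt N8900 (iv D11454)) (tt N14456 D14483) (tt N8929 F19222))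
theorem Q11454 : ∀ i, i < 11454 → P i := stepQ 11453 Q11453 (allL N11453 (tt N14455 (iv F24902)) (tt N13756 (iv F23596)) (tt N8901 (iv D11455)) (tt N14457 D14484) (tt N14458 D14485) (tt N8930 F19223))
theorem Q11455 : ∀ i, i < 11455 → P i := stepQ 11454 Q11454 (allL N11454 (tt N14456 (iv F24905)) (tt N8902 F19224) (tt N14458 (iv F24909)) (tt N14212 (iv F24408)) (tt N8901 (iv D11456)) (tt N14459 D14486))
theorem Q11456 : ∀ i, i < 11456 → P i := stepQ 11455 Q11455 (allL N11455 (tt N13766 (iv F23622)) (tt N14459 (iv F24910)) (tt N13758 (iv F23600)) (tt N14454 (iv F24901)) (tt N8934 F19225) (tt N8902 (iv D11457)))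
theorem Q11457 : ∀ i, i < 11457 → P i := stepQ 11456 Q11456 (allL N11456 (tt N14150 (iv F24282)) (tt N8903 (iv D11458)) (tt N14289 (iv F24547)) (tt N14286 (iv F24536)) (tt N10685 F19226) (tt N14164 (iv F24314)))
theorem Q11458 : ∀ i, i < 11458 → P i := stepQ 11457 Q11457 (allL N11457 (tt N8904 F19227) (tt N14286 (iv F24535)) (tt N10694 F19229) (tt N8903 (iv D11459)) (tt N10693 F19228) (tt N14176 (iv F24333)))
theorem Q11459 : ∀ i, i < 11459 → P i := stepQ 11458 Q11458 (allL N11458 (tt N10694 F19230) (tt N14263 (iv F24501)) (tt N8904 (iv D11460)) (tt N14429 (iv F24859)) (tt N10684 F19231) (tt N14177 (iv F24338)))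
theorem Q11460 : ∀ i, i < 11460 → P i := stepQ 11459 Q11459 (allL N11459 (tt N13224 (iv F22487)) (tt N14460 D14487) (tt N8905 (iv D11461)) (tt N14461 D14488) (tt N8907 F19232) (tt N14462 D14489))
theorem Q11461 : ∀ i, i < 11461 → P i := stepQ 11460 Q11460 (allL N11460 (tt N13225 (iv F22489)) (tt N8910 F19233) (tt N14462 (iv F24920)) (tt N8906 F19234) (tt N14463 D14490) (tt N8905 (iv D11462)))
theorem Q11462 : ∀ i, i < 11462 → P i := stepQ 11461 Q11461 (allL N11461 (tt N14464 D14491) (tt N8907 (iv D11463)) (tt N8911 F19235) (tt N14465 D14492) (tt N14460 (iv F24913)) (tt N14444 (iv F24890)))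
theorem Q11463 : ∀ i, i < 11463 → P i := stepQ 11462 Q11462 (allL N11462 (tt N14099 (iv F24181)) (tt N14465 (iv F24928)) (tt N11215 F19236) (tt N8907 (iv D11464)) (tt N14466 D14493) (tt N14141 (iv F24263)))
theorem Q11464 : ∀ i, i < 11464 → P i := stepQ 11463 Q11463 (allL N11463 (tt N11199 F19237) (tt N14444 (iv F24889)) (tt N8908 F19238) (tt N14141 (iv F24264)) (tt N14467 D14494) (tt N8907 (iv D11465)))
theorem Q11465 : ∀ i, i < 11465 → P i := stepQ 11464 Q11464 (allL N11464 (tt N11198 F19239) (tt N8912 F19240) (tt N14467 (iv F24931)) (tt N11191 F19241) (tt N8908 (iv D11466)) (tt N14463 (iv F24925)))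
theorem Q11466 : ∀ i, i < 11466 → P i := stepQ 11465 Q11465 (allL N11465 (tt N8921 F19244) (tt N8909 (iv D11467)) (tt N14460 (iv F24912)) (tt N8909 (iv F19243)) (tt N8911 F19242) (tt N14468 D14495))
theorem Q11467 : ∀ i, i < 11467 → P i := stepQ 11466 Q11466 (allL N11466 (tt N8922 F19245) (tt N14468 (iv F24933)) (tt N8910 F19246) (tt N14468 (iv F24935)) (tt N14446 (iv F24894)) (tt N8909 (iv D11468)))
theorem Q11468 : ∀ i, i < 11468 → P i := stepQ 11467 Q11467 (allL N11467 (tt N8923 F19247) (tt N14463 (iv F24923)) (tt N14446 (iv F24893)) (tt N13781 (iv F23646)) (tt N8910 (iv D11469)) (tt N8912 F19248))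
theorem Q11469 : ∀ i, i < 11469 → P i := stepQ 11468 Q11468 (allL N11468 (tt N8911 (iv D11470)) (tt N8924 F19249) (tt N14464 (iv F24926)) (tt N8927 F19250) (tt N8921 F19251) (tt N14443 (iv F24888)))
theorem Q11470 : ∀ i, i < 11470 → P i := stepQ 11469 Q11469 (allL N11469 (tt N8914 F19252) (tt N8929 F19253) (tt N13939 (iv F23944)) (tt N8913 (iv D11471)) (tt N14469 D14496) (tt N13763 (iv F23618)))
theorem Q11471 : ∀ i, i < 11471 → P i := stepQ 11470 Q11470 (allL N11470 (tt N14469 (iv F24936)) (tt N8915 F19254) (tt N13940 (iv F23946)) (tt N14125 (iv F24228)) (tt N8914 (iv D11472)) (tt N14470 D14497))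
theorem Q11472 : ∀ i, i < 11472 → P i := stepQ 11471 Q11471 (allL N11471 (tt N8934 F19255) (tt N14470 (iv F24938)) (tt N13723 (iv F23524)) (tt N14127 (iv F24234)) (tt N13766 (iv F23624)) (tt N8915 (iv D11473)))
theorem Q11473 : ∀ i, i < 11473 → P i := stepQ 11472 Q11472 (allL N11472 (tt N11087 F19256) (tt N14471 D14498) (tt N8916 (iv D11474)) (tt N14472 D14499) (tt N11085 F19257) (tt N14473 D14500))
theorem Q11474 : ∀ i, i < 11474 → P i := stepQ 11473 Q11473 (allL N11473 (tt N11088 F19258) (tt N8919 F19259) (tt N14473 (iv F24947)) (tt N8917 F19260) (tt N14474 D14501) (tt N8916 (iv D11475)))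
theorem Q11475 : ∀ i, i < 11475 → P i := stepQ 11474 Q11474 (allL N11474 (tt N14475 D14502) (tt N8918 (iv D11476)) (tt N14471 (iv F24939)) (tt N14462 (iv F24921)) (tt N11090 F19261) (tt N14461 F24918))
theorem Q11476 : ∀ i, i < 11476 → P i := stepQ 11475 Q11475 (allL N11475 (tt N11098 F19262) (tt N14462 (iv F24919)) (tt N14468 (iv F24934)) (tt N8918 (iv D11477)) (tt N14476 D14503) (tt N14460 (iv F24916)))
theorem Q11477 : ∀ i, i < 11477 → P i := stepQ 11476 Q11476 (allL N11476 (tt N11099 F19263) (tt N14461 (iv F24917)) (tt N8919 F19264) (tt N14460 F24915) (tt N14477 D14504) (tt N8918 (iv D11478)))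
theorem Q11478 : ∀ i, i < 11478 → P i := stepQ 11477 Q11477 (allL N11477 (tt N11101 F19265) (tt N14474 (iv F24949)) (tt N14477 (iv F24956)) (tt N13776 (iv F23638)) (tt N8919 (iv D11479)) (tt N11092 F19266))
theorem Q11479 : ∀ i, i < 11479 → P i := stepQ 11478 Q11478 (allL N11478 (tt N8920 (iv D11480)) (tt N8921 F19267) (tt N14122 (iv F24220)) (tt N8920 (iv F19269)) (tt N8924 F19268) (tt N14478 D14505))
theorem Q11480 : ∀ i, i < 11480 → P i := stepQ 11479 Q11479 (allL N11479 (tt N14478 (iv F24958)) (tt N8922 F19270) (tt N14121 (iv F24218)) (tt N14478 (iv F24960)) (tt N14479 D14506) (tt N8920 (iv D11481)))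
theorem Q11481 : ∀ i, i < 11481 → P i := stepQ 11480 Q11480 (allL N11480 (tt N14460 F24914) (tt N14480 D14507) (tt N8921 (iv D11482)) (tt N11099 F19271) (tt N14464 (iv F24927)) (tt N11098 (iv F19272)))
theorem Q11482 : ∀ i, i < 11482 → P i := stepQ 11481 Q11481 (allL N11481 (tt N14468 (iv F24932)) (tt N14478 (iv F24959)) (tt N11098 F19273) (tt N8922 F19274) (tt N14481 D14508) (tt N8921 (iv D11483)))
theorem Q11483 : ∀ i, i < 11483 → P i := stepQ 11482 Q11482 (allL N11482 (tt N14446 (iv F24892)) (tt N14479 (iv F24961)) (tt N8923 F19275) (tt N14482 D14509) (tt N8922 (iv D11484)) (tt N8928 F19276))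
theorem Q11484 : ∀ i, i < 11484 → P i := stepQ 11483 Q11483 (allL N11483 (tt N8925 F19277) (tt N8927 F19278) (tt N14483 D14510) (tt N8924 (iv D11485)) (tt N8925 F19279) (tt N14422 (iv F24846)))
theorem Q11485 : ∀ i, i < 11485 → P i := stepQ 11484 Q11484 (allL N11484 (tt N8926 F19280) (tt N14443 (iv F24887)) (tt N14113 (iv F24210)) (tt N14422 (iv F24845)) (tt N14484 D14511) (tt N8924 (iv D11486)))
theorem Q11486 : ∀ i, i < 11486 → P i := stepQ 11485 Q11485 (allL N11485 (tt N14483 (iv F24967)) (tt N14414 (iv F24828)) (tt N8925 (iv D11487)) (tt N14483 (iv F24969)) (tt N14483 (iv F24968)) (tt N14412 F24827))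
theorem Q11487 : ∀ i, i < 11487 → P i := stepQ 11486 Q11486 (allL N11486 (tt N14484 (iv F24970)) (tt N8928 F19281) (tt N14112 (iv F24208)) (tt N14485 D14512) (tt N8926 (iv D11488)) (tt N14479 (iv F24962)))
theorem Q11488 : ∀ i, i < 11488 → P i := stepQ 11487 Q11487 (allL N11487 (tt N14439 (iv F24881)) (tt N14485 (iv F24971)) (tt N14486 D14513) (tt N8928 (iv D11489)) (tt N14419 (iv F24837)) (tt N14482 (iv F24966)))
theorem Q11489 : ∀ i, i < 11489 → P i := stepQ 11488 Q11488 (allL N11488 (tt N8930 F19282) (tt N14487 D14514) (tt N8929 (iv D11490)) (tt N13568 (iv F23157)) (tt N14488 D14515) (tt N14455 (iv F24904)))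
theorem Q11490 : ∀ i, i < 11490 → P i := stepQ 11489 Q11489 (allL N11489 (tt N8931 F19283) (tt N14469 (iv F24937)) (tt N14488 (iv F24973)) (tt N14129 (iv F24240)) (tt N8929 (iv D11491)) (tt N14489 D14516))
theorem Q11491 : ∀ i, i < 11491 → P i := stepQ 11490 Q11490 (allL N11490 (tt N13938 (iv F23942)) (tt N8930 (iv D11492)) (tt N8932 F19284) (tt N14490 D14517) (tt N14491 D14518) (tt N13756 (iv F23597)))
theorem Q11492 : ∀ i, i < 11492 → P i := stepQ 11491 Q11491 (allL N11491 (tt N13568 (iv F23155)) (tt N14490 (iv F24975)) (tt N13567 (iv F23154)) (tt N8930 (iv D11493)) (tt N14492 D14519) (tt N14457 (iv F24908)))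
theorem Q11493 : ∀ i, i < 11493 → P i := stepQ 11492 Q11492 (allL N11492 (tt N14488 (iv F24972)) (tt N14491 (iv F24977)) (tt N8931 F19285) (tt N14493 D14520) (tt N8930 (iv D11494)) (tt N14494 D14521))
theorem Q11494 : ∀ i, i < 11494 → P i := stepQ 11493 Q11493 (allL N11493 (tt N14489 (iv F24974)) (tt N8934 F19286) (tt N14494 (iv F24979)) (tt N14132 (iv F24248)) (tt N14459 (iv F24911)) (tt N8931 (iv D11495)))
theorem Q11495 : ∀ i, i < 11495 → P i := stepQ 11494 Q11494 (allL N11494 (tt N9664 F19287) (tt N8933 F19288) (tt N14491 (iv F24978)) (tt N9663 F19289) (tt N8932 (iv D11496)) (tt N14495 D14522))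
theorem Q11496 : ∀ i, i < 11496 → P i := stepQ 11495 Q11495 (allL N11495 (tt N9311 F19290) (tt N9663 F19291) (tt N14496 D14523) (tt N8933 (iv D11497)) (tt N9309 F19292) (tt N14497 D14524))
theorem Q11497 : ∀ i, i < 11497 → P i := stepQ 11496 Q11496 (allL N11496 (tt N13723 (iv F23522)) (tt N14495 (iv F24981)) (tt N8934 F19293) (tt N14497 (iv F24987)) (tt N13758 (iv F23601)) (tt N8933 (iv D11498)))
theorem Q11498 : ∀ i, i < 11498 → P i := stepQ 11497 Q11497 (allL N11497 (tt N11402 F19294) (tt N8935 (iv D11499)) (tt N13580 (iv F23179)) (tt N14498 D14525) (tt N14204 (iv F24398)) (tt N13564 (iv F23147)))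
theorem Q11499 : ∀ i, i < 11499 → P i := stepQ 11498 Q11498 (allL N11498 (tt N8936 F19295) (tt N14498 (iv F24990)) (tt N14457 (iv F24907)) (tt N8935 (iv D11500)) (tt N14499 D14526) (tt N13567 (iv F23153)))
theorem Q11500 : ∀ i, i < 11500 → P i := stepQ 11499 Q11499 (allL N11499 (tt N14457 (iv F24906)) (tt N13951 (iv F23971)) (tt N8936 (iv D11501)) (tt N14455 (iv F24903)) (tt N14500 D14527) (tt N13568 (iv F23156)))
theorem Q11501 : ∀ i, i < 11501 → P i := stepQ 11500 Q11500 (allL N11500 (tt N14499 (iv F24991)) (tt N11410 F19296) (tt N14500 (iv F24992)) (tt N14213 (iv F24409)) (tt N8936 (iv D11502)) (tt N14501 D14528))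
theorem Q11502 : ∀ i, i < 11502 → P i := stepQ 11501 Q11501 (allL N11501 (tt N14502 D14529) (tt N8937 (iv D11503)) (tt N8946 F19297) (tt N14503 D14530) (tt N10589 F19298) (tt N14504 D14531))
theorem Q11503 : ∀ i, i < 11503 → P i := stepQ 11502 Q11502 (allL N11502 (tt N8940 F19299) (tt N14503 (iv F24997)) (tt N14363 (iv F24744)) (tt N8937 (iv D11504)) (tt N14505 D14532) (tt N14361 F24741))
theorem Q11504 : ∀ i, i < 11504 → P i := stepQ 11503 Q11503 (allL N11503 (tt N8941 F19300) (tt N14504 (iv F24998)) (tt N8938 F19301) (tt N14361 (iv F24740)) (tt N14506 D14533) (tt N8937 (iv D11505)))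
theorem Q11505 : ∀ i, i < 11505 → P i := stepQ 11504 Q11504 (allL N11504 (tt N8942 F19302) (tt N8949 F19303) (tt N14506 (iv F25003)) (tt N11355 F19304) (tt N8938 (iv D11506)) (tt N10592 F19305))
theorem Q11506 : ∀ i, i < 11506 → P i := stepQ 11505 Q11505 (allL N11505 (tt N8939 (iv D11507)) (tt N14502 (iv F24994)) (tt N8943 F19306) (tt N14507 D14534) (tt N10593 F19307) (tt N13834 (iv F23760)))
theorem Q11507 : ∀ i, i < 11507 → P i := stepQ 11506 Q11506 (allL N11506 (tt N14507 (iv F25005)) (tt N8940 F19308) (tt N14508 D14535) (tt N8939 (iv D11508)) (tt N14509 D14536) (tt N13835 (iv F23762)))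
theorem Q11508 : ∀ i, i < 11508 → P i := stepQ 11507 Q11507 (allL N11507 (tt N14363 (iv F24743)) (tt N14510 D14537) (tt N8940 (iv D11509)) (tt N11290 F19309) (tt N14511 D14538) (tt N11289 (iv F19310)))
theorem Q11509 : ∀ i, i < 11509 → P i := stepQ 11508 Q11508 (allL N11508 (tt N14505 (iv F25000)) (tt N14509 (iv F25006)) (tt N14511 (iv F25010)) (tt N10596 F19311) (tt N8940 (iv D11510)) (tt N14512 D14539))
theorem Q11510 : ∀ i, i < 11510 → P i := stepQ 11509 Q11509 (allL N11509 (tt N14361 (iv F24739)) (tt N13835 (iv F23761)) (tt N11289 F19312) (tt N8941 F19313) (tt N14513 D14540) (tt N8940 (iv D11511)))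
theorem Q11511 : ∀ i, i < 11511 → P i := stepQ 11510 Q11510 (allL N11510 (tt N14506 (iv F25002)) (tt N11084 F19314) (tt N8942 F19315) (tt N14514 D14541) (tt N8941 (iv D11512)) (tt N10598 F19316))
theorem Q11512 : ∀ i, i < 11512 → P i := stepQ 11511 Q11511 (allL N11511 (tt N14515 D14542) (tt N8944 (iv D11513)) (tt N10589 F19317) (tt N14516 D14543) (tt N8946 F19318) (tt N14517 D14544))
theorem Q11513 : ∀ i, i < 11513 → P i := stepQ 11512 Q11512 (allL N11512 (tt N8953 F19319) (tt N14516 (iv F25018)) (tt N14518 D14545) (tt N8944 (iv D11514)) (tt N14519 D14546) (tt N14520 D14547))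
theorem Q11514 : ∀ i, i < 11514 → P i := stepQ 11513 Q11513 (allL N11513 (tt N8954 F19320) (tt N14517 (iv F25019)) (tt N8945 F19321) (tt N14520 (iv F25028)) (tt N14521 D14548) (tt N8944 (iv D11515)))
theorem Q11515 : ∀ i, i < 11515 → P i := stepQ 11514 Q11514 (allL N11514 (tt N8955 F19322) (tt N10592 F19323) (tt N14521 (iv F25030)) (tt N11359 F19324) (tt N8945 (iv D11516)) (tt N8949 F19325))
theorem Q11516 : ∀ i, i < 11516 → P i := stepQ 11515 Q11515 (allL N11515 (tt N8946 (iv D11517)) (tt N8956 F19326) (tt N14502 (iv F24995)) (tt N14522 D14549) (tt N14515 (iv F25017)) (tt N14523 D14550))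
theorem Q11517 : ∀ i, i < 11517 → P i := stepQ 11516 Q11516 (allL N11516 (tt N14522 (iv F25032)) (tt N8947 F19327) (tt N14524 D14551) (tt N8946 (iv D11518)) (tt N14525 D14552) (tt N8975 (iv F19328)))
theorem Q11518 : ∀ i, i < 11518 → P i := stepQ 11517 Q11517 (allL N11517 (tt N14523 (iv F25035)) (tt N8948 F19329) (tt N14504 (iv F24999)) (tt N8975 F19330) (tt N14526 D14553) (tt N8946 (iv D11519)))
theorem Q11519 : ∀ i, i < 11519 → P i := stepQ 11518 Q11518 (allL N11518 (tt N8960 F19331) (tt N14525 (iv F25040)) (tt N8978 F19332) (tt N14519 (iv F25025)) (tt N8947 (iv D11520)) (tt N14527 D14554))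
theorem Q11520 : ∀ i, i < 11520 → P i := stepQ 11519 Q11519 (allL N11519 (tt N8962 F19333) (tt N14526 (iv F25041)) (tt N8949 F19334) (tt N14528 D14555) (tt N8948 (iv D11521)) (tt N14521 (iv F25031)))
theorem Q11521 : ∀ i, i < 11521 → P i := stepQ 11520 Q11520 (allL N11520 (tt N14529 D14556) (tt N8950 (iv D11522)) (tt N10514 F19335) (tt N14530 D14557) (tt N10514 F19336) (tt N12006 (iv F20239)))
theorem Q11522 : ∀ i, i < 11522 → P i := stepQ 11521 Q11521 (allL N11521 (tt N10517 F19337) (tt N14530 (iv F25050)) (tt N14520 (iv F25027)) (tt N8950 (iv D11523)) (tt N12010 (iv F20244)) (tt N14518 F25023))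
theorem Q11523 : ∀ i, i < 11523 → P i := stepQ 11522 Q11522 (allL N11522 (tt N10518 F19338) (tt N12006 (iv F20238)) (tt N8951 F19339) (tt N14518 (iv F25022)) (tt N12009 (iv F20243)) (tt N8950 (iv D11524)))
theorem Q11524 : ∀ i, i < 11524 → P i := stepQ 11523 Q11523 (allL N11523 (tt N10519 F19340) (tt N10515 F19341) (tt N12009 (iv F20242)) (tt N11364 F19342) (tt N8951 (iv D11525)) (tt N10515 F19343))
theorem Q11525 : ∀ i, i < 11525 → P i := stepQ 11524 Q11524 (allL N11524 (tt N8952 (iv D11526)) (tt N14515 (iv F25015)) (tt N8963 F19344) (tt N14531 D14558) (tt N8956 F19345) (tt N12023 (iv F20269)))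
theorem Q11526 : ∀ i, i < 11526 → P i := stepQ 11525 Q11525 (allL N11525 (tt N14531 (iv F25051)) (tt N8953 F19346) (tt N14532 D14559) (tt N8952 (iv D11527)) (tt N14533 D14560) (tt N12024 (iv F20271)))
theorem Q11527 : ∀ i, i < 11527 → P i := stepQ 11526 Q11526 (allL N11526 (tt N14518 (iv F25021)) (tt N14534 D14561) (tt N8953 (iv D11528)) (tt N10518 F19347) (tt N14535 D14562) (tt N10517 (iv F19348)))
theorem Q11528 : ∀ i, i < 11528 → P i := stepQ 11527 Q11527 (allL N11527 (tt N14519 (iv F25024)) (tt N14533 (iv F25052)) (tt N14535 (iv F25056)) (tt N8960 F19349) (tt N8953 (iv D11529)) (tt N14536 D14563))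
theorem Q11529 : ∀ i, i < 11529 → P i := stepQ 11528 Q11528 (allL N11528 (tt N14520 (iv F25026)) (tt N12024 (iv F20270)) (tt N10517 F19350) (tt N8954 F19351) (tt N14537 D14564) (tt N8953 (iv D11530)))
theorem Q11530 : ∀ i, i < 11530 → P i := stepQ 11529 Q11529 (allL N11529 (tt N14521 (iv F25029)) (tt N9790 F19352) (tt N8955 F19353) (tt N14538 D14565) (tt N8954 (iv D11531)) (tt N8962 F19354))
theorem Q11531 : ∀ i, i < 11531 → P i := stepQ 11530 Q11530 (allL N11530 (tt N8957 F19355) (tt N14522 (iv F25033)) (tt N14539 D14566) (tt N8956 (iv D11532)) (tt N14540 D14567) (tt N14541 D14568))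
theorem Q11532 : ∀ i, i < 11532 → P i := stepQ 11531 Q11531 (allL N11531 (tt N8958 F19356) (tt N14523 (iv F25036)) (tt N8965 F19357) (tt N14541 (iv F25066)) (tt N14542 D14569) (tt N8956 (iv D11533)))
theorem Q11533 : ∀ i, i < 11533 → P i := stepQ 11532 Q11532 (allL N11532 (tt N14539 (iv F25061)) (tt N11984 (iv F20209)) (tt N8957 (iv D11534)) (tt N12854 (iv F21707)) (tt N14543 D14570) (tt N11982 F20206))
theorem Q11534 : ∀ i, i < 11534 → P i := stepQ 11533 Q11533 (allL N11533 (tt N14540 (iv F25063)) (tt N8960 F19358) (tt N14543 (iv F25070)) (tt N14533 (iv F25053)) (tt N8957 (iv D11535)) (tt N14544 D14571))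
theorem Q11535 : ∀ i, i < 11535 → P i := stepQ 11534 Q11534 (allL N11534 (tt N14541 (iv F25064)) (tt N8961 F19359) (tt N11982 (iv F20205)) (tt N8958 F19360) (tt N14545 D14572) (tt N8957 (iv D11536)))
theorem Q11536 : ∀ i, i < 11536 → P i := stepQ 11535 Q11535 (allL N11535 (tt N14542 (iv F25067)) (tt N8962 F19361) (tt N8968 F19362) (tt N14546 D14573) (tt N8958 (iv D11537)) (tt N9790 F19363))
theorem Q11537 : ∀ i, i < 11537 → P i := stepQ 11536 Q11536 (allL N11536 (tt N8978 F19364) (tt N11985 (iv F20212)) (tt N8960 F19365) (tt N12058 (iv F20314)) (tt N8959 (iv D11538)) (tt N14547 D14574))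
theorem Q11538 : ∀ i, i < 11538 → P i := stepQ 11537 Q11537 (allL N11537 (tt N14527 (iv F25042)) (tt N14544 (iv F25071)) (tt N14547 (iv F25076)) (tt N14536 (iv F25057)) (tt N14548 D14575) (tt N8960 (iv D11539)))
theorem Q11539 : ∀ i, i < 11539 → P i := stepQ 11538 Q11538 (allL N11538 (tt N8976 F19366) (tt N14545 (iv F25072)) (tt N8969 F19367) (tt N14549 D14576) (tt N8961 (iv D11540)) (tt N14548 (iv F25080)))
theorem Q11540 : ∀ i, i < 11540 → P i := stepQ 11539 Q11539 (allL N11539 (tt N14528 (iv F25045)) (tt N14546 (iv F25073)) (tt N14550 D14577) (tt N8962 (iv D11541)) (tt N14549 (iv F25082)) (tt N14538 (iv F25060)))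
theorem Q11541 : ∀ i, i < 11541 → P i := stepQ 11540 Q11540 (allL N11540 (tt N8966 F19368) (tt N14551 D14578) (tt N8964 (iv D11542)) (tt N14552 D14579) (tt N14553 D14580) (tt N9852 F19369))
theorem Q11542 : ∀ i, i < 11542 → P i := stepQ 11541 Q11541 (allL N11541 (tt N8967 F19370) (tt N11078 F19371) (tt N14553 (iv F25088)) (tt N9786 F19372) (tt N8964 (iv D11543)) (tt N9781 F19373))
theorem Q11543 : ∀ i, i < 11543 → P i := stepQ 11542 Q11542 (allL N11542 (tt N8968 F19374) (tt N11079 F19375) (tt N14542 (iv F25068)) (tt N9782 F19376) (tt N8965 (iv D11544)) (tt N9787 F19377))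
theorem Q11544 : ∀ i, i < 11544 → P i := stepQ 11543 Q11543 (allL N11543 (tt N14552 (iv F25085)) (tt N9856 F19378) (tt N14554 D14581) (tt N8966 (iv D11545)) (tt N14555 D14582) (tt N9853 F19379))
theorem Q11545 : ∀ i, i < 11545 → P i := stepQ 11544 Q11544 (allL N11544 (tt N14553 (iv F25087)) (tt N9857 F19380) (tt N8967 F19381) (tt N14556 D14583) (tt N8966 (iv D11546)) (tt N9784 F19382))
theorem Q11546 : ∀ i, i < 11546 → P i := stepQ 11545 Q11545 (allL N11545 (tt N8977 F19383) (tt N11670 (iv F19630)) (tt N14548 (iv F25079)) (tt N11156 F19384) (tt N14547 (iv F25077)) (tt N8969 (iv D11547)))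
theorem Q11547 : ∀ i, i < 11547 → P i := stepQ 11546 Q11546 (allL N11546 (tt N8972 F19385) (tt N14557 D14584) (tt N8970 (iv D11548)) (tt N13633 (iv F23305)) (tt N11257 F19386) (tt N14558 D14585))
theorem Q11548 : ∀ i, i < 11548 → P i := stepQ 11547 Q11547 (allL N11547 (tt N8974 F19387) (tt N11672 (iv F19636)) (tt N14558 (iv F25096)) (tt N8971 F19388) (tt N14559 D14586) (tt N8970 (iv D11549)))
theorem Q11549 : ∀ i, i < 11549 → P i := stepQ 11548 Q11548 (allL N11548 (tt N14560 D14587) (tt N8972 (iv D11550)) (tt N8975 F19389) (tt N14561 D14588) (tt N14562 D14589) (tt N14524 (iv F25039)))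
theorem Q11550 : ∀ i, i < 11550 → P i := stepQ 11549 Q11549 (allL N11549 (tt N13633 (iv F23303)) (tt N14561 (iv F25102)) (tt N13632 (iv F23302)) (tt N8972 (iv D11551)) (tt N14563 D14590) (tt N14564 D14591))
theorem Q11551 : ∀ i, i < 11551 → P i := stepQ 11550 Q11550 (allL N11550 (tt N11257 F19390) (tt N14562 (iv F25103)) (tt N8973 F19391) (tt N14565 D14592) (tt N8972 (iv D11552)) (tt N14566 D14593))
theorem Q11552 : ∀ i, i < 11552 → P i := stepQ 11551 Q11551 (allL N11551 (tt N14558 (iv F25095)) (tt N14524 (iv F25038)) (tt N8974 F19392) (tt N14564 (iv F25107)) (tt N14567 D14594) (tt N8972 (iv D11553)))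
theorem Q11553 : ∀ i, i < 11553 → P i := stepQ 11552 Q11552 (allL N11552 (tt N11258 F19393) (tt N8977 F19394) (tt N14566 (iv F25112)) (tt N11157 F19395) (tt N14568 D14595) (tt N8973 (iv D11554)))
theorem Q11554 : ∀ i, i < 11554 → P i := stepQ 11553 Q11553 (allL N11553 (tt N14559 (iv F25098)) (tt N8978 F19396) (tt N14567 (iv F25114)) (tt N11182 F19397) (tt N8974 (iv D11555)) (tt N14568 (iv F25118)))
theorem Q11555 : ∀ i, i < 11555 → P i := stepQ 11554 Q11554 (allL N11554 (tt N8975 (iv D11556)) (tt N14541 (iv F25065)) (tt N14560 (iv F25101)) (tt N14523 (iv F25037)) (tt N14569 D14596) (tt N14522 F25034))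
theorem Q11556 : ∀ i, i < 11556 → P i := stepQ 11555 Q11555 (allL N11555 (tt N14569 (iv F25119)) (tt N8976 F19398) (tt N14562 (iv F25104)) (tt N14570 D14597) (tt N8975 (iv D11557)) (tt N14571 D14598))
theorem Q11557 : ∀ i, i < 11557 → P i := stepQ 11556 Q11556 (allL N11556 (tt N14549 (iv F25081)) (tt N14570 (iv F25120)) (tt N14572 D14599) (tt N8976 (iv D11558)) (tt N14528 (iv F25046)) (tt N14573 D14600))
theorem Q11558 : ∀ i, i < 11558 → P i := stepQ 11557 Q11557 (allL N11557 (tt N14548 (iv F25078)) (tt N14571 (iv F25121)) (tt N8977 F19399) (tt N14573 (iv F25122)) (tt N14527 (iv F25044)) (tt N8976 (iv D11559)))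
theorem Q11559 : ∀ i, i < 11559 → P i := stepQ 11558 Q11558 (allL N11558 (tt N14547 (iv F25075)) (tt N14568 (iv F25116)) (tt N14527 (iv F25043)) (tt N14574 D14601) (tt N8977 (iv D11560)) (tt N8978 F19400))
theorem Q11560 : ∀ i, i < 11560 → P i := stepQ 11559 Q11559 (allL N11559 (tt N12058 (iv F20313)) (tt N11182 F19401) (tt N12649 (iv F21389)) (tt N8978 (iv D11561)) (tt N8979 F19402) (tt N14574 (iv F25125)))
theorem Q11561 : ∀ i, i < 11561 → P i := stepQ 11560 Q11560 (allL N11560 (tt N13603 (iv F23232)) (tt N8980 (iv D11562)) (tt N11284 F19403) (tt N14575 D14602) (tt N11175 F19404) (tt N13605 (iv F23241)))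
theorem Q11562 : ∀ i, i < 11562 → P i := stepQ 11561 Q11561 (allL N11561 (tt N8981 F19405) (tt N14575 (iv F25126)) (tt N14564 (iv F25106)) (tt N8980 (iv D11563)) (tt N14576 D14603) (tt N13632 (iv F23301)))
theorem Q11563 : ∀ i, i < 11563 → P i := stepQ 11562 Q11562 (allL N11562 (tt N14564 (iv F25105)) (tt N14577 D14604) (tt N8981 (iv D11564)) (tt N14558 (iv F25097)) (tt N14578 D14605) (tt N13633 (iv F23304)))
theorem Q11564 : ∀ i, i < 11564 → P i := stepQ 11563 Q11563 (allL N11563 (tt N14576 (iv F25127)) (tt N13631 (iv F23299)) (tt N14578 (iv F25129)) (tt N11186 F19406) (tt N8981 (iv D11565)) (tt N14579 D14606))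
theorem Q11565 : ∀ i, i < 11565 → P i := stepQ 11564 Q11564 (allL N11564 (tt N14580 D14607) (tt N8982 (iv D11566)) (tt N11361 F19407) (tt N14581 D14608) (tt N11361 F19408) (tt N14582 D14609))
theorem Q11566 : ∀ i, i < 11566 → P i := stepQ 11565 Q11565 (allL N11565 (tt N10349 F19409) (tt N14581 (iv F25134)) (tt N10361 F19410) (tt N8982 (iv D11567)) (tt N14583 D14610) (tt N10359 (iv F19411)))
theorem Q11567 : ∀ i, i < 11567 → P i := stepQ 11566 Q11566 (allL N11566 (tt N10350 F19412) (tt N14582 (iv F25136)) (tt N8983 F19413) (tt N10359 F19414) (tt N14584 D14611) (tt N8982 (iv D11568)))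
theorem Q11568 : ∀ i, i < 11568 → P i := stepQ 11567 Q11567 (allL N11567 (tt N10351 F19415) (tt N11364 F19416) (tt N14584 (iv F25143)) (tt N10515 F19417) (tt N8983 (iv D11569)) (tt N11364 F19418))
theorem Q11569 : ∀ i, i < 11569 → P i := stepQ 11568 Q11568 (allL N11568 (tt N10359 F19419) (tt N14585 D14612) (tt N8984 (iv D11570)) (tt N10350 F19420) (tt N14586 D14613) (tt N10349 (iv F19421)))
theorem Q11570 : ∀ i, i < 11570 → P i := stepQ 11569 Q11569 (allL N11569 (tt N10360 F19422) (tt N9992 F19423) (tt N14586 (iv F25149)) (tt N8986 F19424) (tt N8984 (iv D11571)) (tt N14587 D14614))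
theorem Q11571 : ∀ i, i < 11571 → P i := stepQ 11570 Q11570 (allL N11570 (tt N10361 F19425) (tt N9995 F19426) (tt N10349 F19427) (tt N8985 F19428) (tt N14588 D14615) (tt N8984 (iv D11572)))
theorem Q11572 : ∀ i, i < 11572 → P i := stepQ 11571 Q11571 (allL N11571 (tt N10402 F19429) (tt N9993 F19430) (tt N10880 F19431) (tt N14587 (iv F25152)) (tt N9935 F19432) (tt N8986 (iv D11573)))
theorem Q11573 : ∀ i, i < 11573 → P i := stepQ 11572 Q11572 (allL N11572 (tt N14589 D14616) (tt N8987 (iv D11574)) (tt N11356 F19433) (tt N14590 D14617) (tt N11352 F19434) (tt N14591 D14618))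
theorem Q11574 : ∀ i, i < 11574 → P i := stepQ 11573 Q11573 (allL N11573 (tt N8990 F19435) (tt N14590 (iv F25160)) (tt N10250 F19436) (tt N8987 (iv D11575)) (tt N14592 D14619) (tt N10249 (iv F19437)))
theorem Q11575 : ∀ i, i < 11575 → P i := stepQ 11574 Q11574 (allL N11574 (tt N8991 F19438) (tt N14591 (iv F25162)) (tt N8988 F19439) (tt N10249 F19440) (tt N14593 D14620) (tt N8987 (iv D11576)))
theorem Q11576 : ∀ i, i < 11576 → P i := stepQ 11575 Q11575 (allL N11575 (tt N8992 F19441) (tt N11359 F19442) (tt N14593 (iv F25169)) (tt N10592 F19443) (tt N8988 (iv D11577)) (tt N11355 F19444))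
theorem Q11577 : ∀ i, i < 11577 → P i := stepQ 11576 Q11576 (allL N11576 (tt N8989 (iv D11578)) (tt N14589 (iv F25157)) (tt N8993 F19445) (tt N14594 D14621) (tt N14307 (iv F24603)) (tt N14595 D14622))
theorem Q11578 : ∀ i, i < 11578 → P i := stepQ 11577 Q11577 (allL N11577 (tt N14594 (iv F25171)) (tt N8990 F19446) (tt N14596 D14623) (tt N8989 (iv D11579)) (tt N14597 D14624) (tt N14598 D14625))
theorem Q11579 : ∀ i, i < 11579 → P i := stepQ 11578 Q11578 (allL N11578 (tt N14595 (iv F25172)) (tt N8991 F19447) (tt N8995 F19448) (tt N14598 (iv F25176)) (tt N14599 D14626) (tt N8989 (iv D11580)))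
theorem Q11580 : ∀ i, i < 11580 → P i := stepQ 11579 Q11579 (allL N11579 (tt N10250 F19449) (tt N14600 D14627) (tt N8990 (iv D11581)) (tt N10240 F19450) (tt N14601 D14628) (tt N10239 (iv F19451)))
theorem Q11581 : ∀ i, i < 11581 → P i := stepQ 11580 Q11580 (allL N11580 (tt N14592 (iv F25165)) (tt N14597 (iv F25174)) (tt N14601 (iv F25183)) (tt N14309 (iv F24605)) (tt N8990 (iv D11582)) (tt N14602 D14629))
theorem Q11582 : ∀ i, i < 11582 → P i := stepQ 11581 Q11581 (allL N11581 (tt N10249 F19452) (tt N14598 (iv F25175)) (tt N10239 F19453) (tt N8991 F19454) (tt N14603 D14630) (tt N8990 (iv D11583)))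
theorem Q11583 : ∀ i, i < 11583 → P i := stepQ 11582 Q11582 (allL N11582 (tt N14593 (iv F25168)) (tt N14599 (iv F25177)) (tt N8992 F19455) (tt N14604 D14631) (tt N8991 (iv D11584)) (tt N14310 (iv F24608)))
theorem Q11584 : ∀ i, i < 11584 → P i := stepQ 11583 Q11583 (allL N11583 (tt N8994 F19456) (tt N14311 (iv F24610)) (tt N14605 D14632) (tt N8993 (iv D11585)) (tt N14606 D14633) (tt N9988 (iv F19457)))
theorem Q11585 : ∀ i, i < 11585 → P i := stepQ 11584 Q11584 (allL N11584 (tt N8995 F19458) (tt N14312 (iv F24614)) (tt N14595 (iv F25173)) (tt N9988 F19459) (tt N14607 D14634) (tt N8993 (iv D11586)))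
theorem Q11586 : ∀ i, i < 11586 → P i := stepQ 11585 Q11585 (allL N11585 (tt N14605 (iv F25186)) (tt N9985 F19460) (tt N8994 (iv D11587)) (tt N14608 D14635) (tt N14609 D14636) (tt N9981 F19461))
theorem Q11587 : ∀ i, i < 11587 → P i := stepQ 11586 Q11586 (allL N11586 (tt N14606 (iv F25191)) (tt N8996 F19462) (tt N14609 (iv F25207)) (tt N9352 F19463) (tt N8994 (iv D11588)) (tt N9351 F19464))
theorem Q11588 : ∀ i, i < 11588 → P i := stepQ 11587 Q11587 (allL N11587 (tt N14607 (iv F25196)) (tt N8997 F19465) (tt N14599 (iv F25178)) (tt N9146 F19466) (tt N8995 (iv D11589)) (tt N9145 F19467))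
theorem Q11589 : ∀ i, i < 11589 → P i := stepQ 11588 Q11588 (allL N11588 (tt N9000 F19468) (tt N14610 D14637) (tt N8998 (iv D11590)) (tt N14611 D14638) (tt N9960 F19469) (tt N14612 D14639))
theorem Q11590 : ∀ i, i < 11590 → P i := stepQ 11589 Q11589 (allL N11589 (tt N9001 F19470) (tt N9977 F19471) (tt N14612 (iv F25216)) (tt N8999 F19472) (tt N14613 D14640) (tt N8998 (iv D11591)))
theorem Q11591 : ∀ i, i < 11591 → P i := stepQ 11590 Q11590 (allL N11590 (tt N14614 D14641) (tt N9000 (iv D11592)) (tt N9002 F19473) (tt N14615 D14642) (tt N9962 F19474) (tt N14313 (iv F24619)))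
theorem Q11592 : ∀ i, i < 11592 → P i := stepQ 11591 Q11591 (allL N11591 (tt N14611 (iv F25212)) (tt N14615 (iv F25224)) (tt N14616 D14643) (tt N9000 (iv D11593)) (tt N14617 D14644) (tt N14618 D14645))
theorem Q11593 : ∀ i, i < 11593 → P i := stepQ 11592 Q11592 (allL N11592 (tt N14612 (iv F25215)) (tt N14313 (iv F24617)) (tt N9001 F19475) (tt N14618 (iv F25231)) (tt N14619 D14646) (tt N9000 (iv D11594)))
theorem Q11594 : ∀ i, i < 11594 → P i := stepQ 11593 Q11593 (allL N11593 (tt N14613 (iv F25218)) (tt N9003 F19476) (tt N14619 (iv F25233)) (tt N9957 F19477) (tt N9001 (iv D11595)) (tt N9965 F19478))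
theorem Q11595 : ∀ i, i < 11595 → P i := stepQ 11594 Q11594 (allL N11594 (tt N9002 (iv D11596)) (tt N9988 F19479) (tt N14614 (iv F25222)) (tt N14312 (iv F24615)) (tt N9966 F19480) (tt N14311 F24611))
theorem Q11596 : ∀ i, i < 11596 → P i := stepQ 11595 Q11595 (allL N11595 (tt N10061 F19481) (tt N9006 F19482) (tt N9019 F19483) (tt N14620 D14647) (tt N9004 (iv D11597)) (tt N14621 D14648))
theorem Q11597 : ∀ i, i < 11597 → P i := stepQ 11596 Q11596 (allL N11596 (tt N9009 F19484) (tt N10103 F19485) (tt N9125 F19486) (tt N14622 D14649) (tt N9005 (iv D11598)) (tt N14623 D14650))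
theorem Q11598 : ∀ i, i < 11598 → P i := stepQ 11597 Q11597 (allL N11597 (tt N9010 F19487) (tt N14620 (iv F25236)) (tt N13967 (iv F23997)) (tt N9006 (iv D11599)) (tt N14622 (iv F25244)) (tt N13965 F23995))
theorem Q11599 : ∀ i, i < 11599 → P i := stepQ 11598 Q11598 (allL N11598 (tt N9011 F19488) (tt N14621 (iv F25239)) (tt N9007 F19489) (tt N13965 (iv F23994)) (tt N10070 F19490) (tt N9006 (iv D11600)))
theorem Q11600 : ∀ i, i < 11600 → P i := stepQ 11599 Q11599 (allL N11599 (tt N9125 F19491) (tt N10096 F19492) (tt N9009 F19493) (tt N14624 D14651) (tt N9008 (iv D11601)) (tt N14625 D14652))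
theorem Q11601 : ∀ i, i < 11601 → P i := stepQ 11600 Q11600 (allL N11600 (tt N14622 (iv F25242)) (tt N10078 F19494) (tt N14626 D14653) (tt N9009 (iv D11602)) (tt N9010 F19495) (tt N14627 D14654))
theorem Q11602 : ∀ i, i < 11602 → P i := stepQ 11601 Q11601 (allL N11601 (tt N14623 (iv F25245)) (tt N10077 F19496) (tt N14625 (iv F25254)) (tt N14627 (iv F25258)) (tt N10072 F19497) (tt N9009 (iv D11603)))
theorem Q11603 : ∀ i, i < 11603 → P i := stepQ 11602 Q11602 (allL N11602 (tt N13967 (iv F23996)) (tt N12496 (iv F21121)) (tt N9010 (iv D11604)) (tt N12129 (iv F20478)) (tt N14626 (iv F25256)) (tt N12128 F20474))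
theorem Q11604 : ∀ i, i < 11604 → P i := stepQ 11603 Q11603 (allL N11603 (tt N13965 (iv F23993)) (tt N10083 F19498) (tt N12128 (iv F20473)) (tt N9011 F19499) (tt N14628 D14655) (tt N9010 (iv D11605)))
theorem Q11605 : ∀ i, i < 11605 → P i := stepQ 11604 Q11604 (allL N11604 (tt N14629 D14656) (tt N9012 (iv D11606)) (tt N9013 F19500) (tt N14630 D14657) (tt N10089 F19501) (tt N9014 F19502))
theorem Q11606 : ∀ i, i < 11606 → P i := stepQ 11605 Q11605 (allL N11605 (tt N9139 F19503) (tt N14630 (iv F25265)) (tt N9136 F19504) (tt N9012 (iv D11607)) (tt N14631 D14658) (tt N9015 F19505))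
theorem Q11607 : ∀ i, i < 11607 → P i := stepQ 11606 Q11606 (allL N11606 (tt N9013 (iv D11608)) (tt N9045 F19506) (tt N14629 (iv F25262)) (tt N9066 F19507) (tt N10092 F19508) (tt N9016 F19509))
theorem Q11608 : ∀ i, i < 11608 → P i := stepQ 11607 Q11607 (allL N11607 (tt N9014 (iv D11609)) (tt N9611 F19510) (tt N9016 F19511) (tt N14632 D14659) (tt N13519 (iv F23028)) (tt N14629 (iv F25264)))
theorem Q11609 : ∀ i, i < 11609 → P i := stepQ 11608 Q11608 (allL N11608 (tt N14632 (iv F25270)) (tt N9015 F19512) (tt N14633 D14660) (tt N9014 (iv D11610)) (tt N14634 D14661) (tt N14630 (iv F25266)))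
theorem Q11610 : ∀ i, i < 11610 → P i := stepQ 11609 Q11609 (allL N11609 (tt N9131 F19513) (tt N9650 (iv F19516)) (tt N9015 (iv D11611)) (tt N9114 F19514) (tt N14635 D14662) (tt N9136 F19515))
theorem Q11611 : ∀ i, i < 11611 → P i := stepQ 11610 Q11610 (allL N11610 (tt N9613 F19517) (tt N14634 (iv F25275)) (tt N14635 (iv F25282)) (tt N13523 (iv F23046)) (tt N9015 (iv D11612)) (tt N14636 D14663))
theorem Q11612 : ∀ i, i < 11612 → P i := stepQ 11611 Q11611 (allL N11611 (tt N9019 F19518) (tt N9026 F19519) (tt N10061 F19520) (tt N14637 D14664) (tt N9017 (iv D11613)) (tt N14638 D14665))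
theorem Q11613 : ∀ i, i < 11613 → P i := stepQ 11612 Q11612 (allL N11612 (tt N13369 (iv F22766)) (tt N9021 F19521) (tt N9269 F19522) (tt N14639 D14666) (tt N9018 (iv D11614)) (tt N14640 D14667))
theorem Q11614 : ∀ i, i < 11614 → P i := stepQ 11613 Q11613 (allL N11613 (tt N14637 (iv F25286)) (tt N9022 F19523) (tt N14641 D14668) (tt N9019 (iv D11615)) (tt N14639 (iv F25293)) (tt N14642 D14669))
theorem Q11615 : ∀ i, i < 11615 → P i := stepQ 11614 Q11614 (allL N11614 (tt N14638 (iv F25288)) (tt N9023 F19524) (tt N14621 (iv F25240)) (tt N14642 (iv F25298)) (tt N14643 D14670) (tt N9019 (iv D11616)))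
theorem Q11616 : ∀ i, i < 11616 → P i := stepQ 11615 Q11615 (allL N11615 (tt N10047 F19525) (tt N9024 F19526) (tt N10058 F19527) (tt N14644 D14671) (tt N9020 (iv D11617)) (tt N14643 (iv F25302)))
theorem Q11617 : ∀ i, i < 11617 → P i := stepQ 11616 Q11616 (allL N11616 (tt N9032 F19528) (tt N14639 (iv F25292)) (tt N14645 D14672) (tt N9021 (iv D11618)) (tt N9022 F19529) (tt N14646 D14673))
theorem Q11618 : ∀ i, i < 11618 → P i := stepQ 11617 Q11617 (allL N11617 (tt N9033 F19530) (tt N14640 (iv F25294)) (tt N9083 F19531) (tt N14646 (iv F25312)) (tt N9082 F19532) (tt N9021 (iv D11619)))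
theorem Q11619 : ∀ i, i < 11619 → P i := stepQ 11618 Q11618 (allL N11618 (tt N9035 F19533) (tt N14647 D14674) (tt N9022 (iv D11620)) (tt N9050 F19534) (tt N14645 (iv F25307)) (tt N9049 (iv F19535)))
theorem Q11620 : ∀ i, i < 11620 → P i := stepQ 11619 Q11619 (allL N11619 (tt N9036 F19536) (tt N14642 (iv F25297)) (tt N9049 F19537) (tt N9023 F19538) (tt N14648 D14675) (tt N9022 (iv D11621)))
theorem Q11621 : ∀ i, i < 11621 → P i := stepQ 11620 Q11620 (allL N11620 (tt N9037 F19539) (tt N14643 (iv F25300)) (tt N9025 F19540) (tt N14649 D14676) (tt N9023 (iv D11622)) (tt N9024 F19541))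
theorem Q11622 : ∀ i, i < 11622 → P i := stepQ 11621 Q11621 (allL N11621 (tt N9038 F19542) (tt N14644 (iv F25304)) (tt N14650 D14677) (tt N9024 (iv D11623)) (tt N9081 F19543) (tt N14649 (iv F25318)))
theorem Q11623 : ∀ i, i < 11623 → P i := stepQ 11622 Q11622 (allL N11622 (tt N9028 F19544) (tt N14637 (iv F25287)) (tt N14651 D14678) (tt N9026 (iv D11624)) (tt N13370 (iv F22770)) (tt N14652 D14679))
theorem Q11624 : ∀ i, i < 11624 → P i := stepQ 11623 Q11623 (allL N11623 (tt N9029 F19545) (tt N14638 (iv F25289)) (tt N9040 F19546) (tt N14652 (iv F25326)) (tt N10050 F19547) (tt N9026 (iv D11625)))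
theorem Q11625 : ∀ i, i < 11625 → P i := stepQ 11624 Q11624 (allL N11624 (tt N13370 (iv F22769)) (tt N9032 F19548) (tt N14653 D14680) (tt N9027 (iv D11626)) (tt N9028 F19549) (tt N14654 D14681))
theorem Q11626 : ∀ i, i < 11626 → P i := stepQ 11625 Q11625 (allL N11625 (tt N13371 (iv F22771)) (tt N9033 F19550) (tt N13366 (iv F22758)) (tt N14654 (iv F25329)) (tt N10054 F19551) (tt N9027 (iv D11627)))
theorem Q11627 : ∀ i, i < 11627 → P i := stepQ 11626 Q11626 (allL N11626 (tt N14651 (iv F25324)) (tt N14655 D14682) (tt N9028 (iv D11628)) (tt N14656 D14683) (tt N14653 (iv F25327)) (tt N14657 D14684))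
theorem Q11628 : ∀ i, i < 11628 → P i := stepQ 11627 Q11627 (allL N11627 (tt N14652 (iv F25325)) (tt N9036 F19552) (tt N14657 (iv F25333)) (tt N9029 F19553) (tt N14658 D14685) (tt N9028 (iv D11629)))
theorem Q11629 : ∀ i, i < 11629 → P i := stepQ 11628 Q11628 (allL N11628 (tt N9264 F19554) (tt N9031 F19555) (tt N13364 (iv F22753)) (tt N9186 F19556) (tt N9030 (iv D11630)) (tt N14659 D14686))
theorem Q11630 : ∀ i, i < 11630 → P i := stepQ 11629 Q11629 (allL N11629 (tt N9083 F19557) (tt N14659 (iv F25337)) (tt N9033 F19558) (tt N9187 F19559) (tt N9076 F19560) (tt N9031 (iv D11631)))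
theorem Q11631 : ∀ i, i < 11631 → P i := stepQ 11630 Q11630 (allL N11630 (tt N14645 (iv F25306)) (tt N14660 D14687) (tt N9032 (iv D11632)) (tt N14661 D14688) (tt N9035 F19561) (tt N14662 D14689))
theorem Q11632 : ∀ i, i < 11632 → P i := stepQ 11631 Q11631 (allL N11631 (tt N14646 (iv F25310)) (tt N14654 (iv F25328)) (tt N14662 (iv F25346)) (tt N9033 F19562) (tt N14663 D14690) (tt N9032 (iv D11633)))
theorem Q11633 : ∀ i, i < 11633 → P i := stepQ 11632 Q11632 (allL N11632 (tt N9082 F19563) (tt N10054 F19564) (tt N9076 F19565) (tt N14664 D14691) (tt N9033 (iv D11634)) (tt N9034 F19566))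
theorem Q11634 : ∀ i, i < 11634 → P i := stepQ 11633 Q11633 (allL N11633 (tt N9081 F19567) (tt N10053 F19568) (tt N14665 D14692) (tt N9034 (iv D11635)) (tt N9038 F19569) (tt N14664 (iv F25354)))
theorem Q11635 : ∀ i, i < 11635 → P i := stepQ 11634 Q11634 (allL N11634 (tt N14666 D14693) (tt N9035 (iv D11636)) (tt N14655 (iv F25330)) (tt N9568 F19570) (tt N14660 (iv F25340)) (tt N9567 F19571))
theorem Q11636 : ∀ i, i < 11636 → P i := stepQ 11635 Q11635 (allL N11635 (tt N14648 (iv F25315)) (tt N14658 (iv F25334)) (tt N9569 F19572) (tt N14667 D14694) (tt N9036 (iv D11637)) (tt N14663 (iv F25350)))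
theorem Q11637 : ∀ i, i < 11637 → P i := stepQ 11636 Q11636 (allL N11636 (tt N14649 (iv F25317)) (tt N10056 F19573) (tt N14668 D14695) (tt N9037 (iv D11638)) (tt N14667 (iv F25362)) (tt N9038 F19574))
theorem Q11638 : ∀ i, i < 11638 → P i := stepQ 11637 Q11637 (allL N11637 (tt N14650 (iv F25320)) (tt N14669 D14696) (tt N9038 (iv D11639)) (tt N14670 D14697) (tt N14665 (iv F25357)) (tt N14668 (iv F25365)))
theorem Q11639 : ∀ i, i < 11639 → P i := stepQ 11638 Q11638 (allL N11638 (tt N9041 F19575) (tt N14671 D14698) (tt N9039 (iv D11640)) (tt N14672 D14699) (tt N10051 F19576) (tt N14673 D14700))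
theorem Q11640 : ∀ i, i < 11640 → P i := stepQ 11639 Q11639 (allL N11639 (tt N9042 F19577) (tt N10066 F19578) (tt N14673 (iv F25374)) (tt N9040 F19579) (tt N13324 (iv F22689)) (tt N9039 (iv D11641)))
theorem Q11641 : ∀ i, i < 11641 → P i := stepQ 11640 Q11640 (allL N11640 (tt N14674 D14701) (tt N9041 (iv D11642)) (tt N9043 F19580) (tt N14675 D14702) (tt N9063 F19581) (tt N13530 (iv F23072)))
theorem Q11642 : ∀ i, i < 11642 → P i := stepQ 11641 Q11641 (allL N11641 (tt N14672 (iv F25372)) (tt N14675 (iv F25377)) (tt N14676 D14703) (tt N9041 (iv D11643)) (tt N14677 D14704) (tt N14678 D14705))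
theorem Q11643 : ∀ i, i < 11643 → P i := stepQ 11642 Q11642 (allL N11642 (tt N14673 (iv F25373)) (tt N13530 (iv F23071)) (tt N9042 F19582) (tt N14678 (iv F25379)) (tt N13333 (iv F22703)) (tt N9041 (iv D11644)))
theorem Q11644 : ∀ i, i < 11644 → P i := stepQ 11643 Q11643 (allL N11643 (tt N9043 (iv D11645)) (tt N10095 F19583) (tt N14674 (iv F25375)) (tt N13528 (iv F23065)) (tt N9062 F19584) (tt N13529 (iv F23070)))
theorem Q11645 : ∀ i, i < 11645 → P i := stepQ 11644 Q11644 (allL N11644 (tt N9044 (iv D11646)) (tt N10092 F19585) (tt N9649 F19586) (tt N14345 (iv F24704)) (tt N9045 F19587) (tt N14346 (iv F24709)))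
theorem Q11646 : ∀ i, i < 11646 → P i := stepQ 11645 Q11645 (allL N11645 (tt N14679 D14706) (tt N9046 (iv D11647)) (tt N9048 F19588) (tt N14680 D14707) (tt N9537 F19589) (tt N14681 D14708))
theorem Q11647 : ∀ i, i < 11647 → P i := stepQ 11646 Q11646 (allL N11646 (tt N12156 (iv F20538)) (tt N14680 (iv F25382)) (tt N13948 (iv F23965)) (tt N9046 (iv D11648)) (tt N14682 D14709) (tt N13946 F23961))
theorem Q11648 : ∀ i, i < 11648 → P i := stepQ 11647 Q11647 (allL N11647 (tt N12157 (iv F20541)) (tt N14681 (iv F25383)) (tt N9047 F19590) (tt N13946 (iv F23960)) (tt N14683 D14710) (tt N9046 (iv D11649)))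
theorem Q11649 : ∀ i, i < 11649 → P i := stepQ 11648 Q11648 (allL N11648 (tt N12158 (iv F20544)) (tt N9051 F19591) (tt N14683 (iv F25386)) (tt N9630 F19592) (tt N9047 (iv D11650)) (tt N9540 F19593))
theorem Q11650 : ∀ i, i < 11650 → P i := stepQ 11649 Q11649 (allL N11649 (tt N9048 (iv D11651)) (tt N9566 F19594) (tt N14679 (iv F25380)) (tt N14684 D14711) (tt N9543 F19595) (tt N14685 D14712))
theorem Q11651 : ∀ i, i < 11651 → P i := stepQ 11650 Q11650 (allL N11650 (tt N14684 (iv F25388)) (tt N9049 F19596) (tt N14686 D14713) (tt N9048 (iv D11652)) (tt N14687 D14714) (tt N14647 (iv F25314)))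
theorem Q11652 : ∀ i, i < 11652 → P i := stepQ 11651 Q11651 (allL N11651 (tt N14685 (iv F25390)) (tt N9050 F19597) (tt N14681 (iv F25384)) (tt N14647 (iv F25313)) (tt N14688 D14715) (tt N9048 (iv D11653)))
theorem Q11653 : ∀ i, i < 11653 → P i := stepQ 11652 Q11652 (allL N11652 (tt N9569 F19598) (tt N14687 (iv F25392)) (tt N14648 (iv F25316)) (tt N9423 F19599) (tt N9049 (iv D11654)) (tt N14689 D14716))
theorem Q11654 : ∀ i, i < 11654 → P i := stepQ 11653 Q11653 (allL N11653 (tt N9570 F19600) (tt N14688 (iv F25394)) (tt N9051 F19601) (tt N14690 D14717) (tt N9050 (iv D11655)) (tt N9422 F19602))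
theorem Q11655 : ∀ i, i < 11655 → P i := stepQ 11654 Q11654 (allL N11654 (tt N9052 (iv D11656)) (tt N13943 (iv F23953)) (tt N9056 F19603) (tt N13687 (iv F23463)) (tt N13505 (iv F22982)) (tt N13686 (iv F23460)))
theorem Q11656 : ∀ i, i < 11656 → P i := stepQ 11655 Q11655 (allL N11655 (tt N13687 (iv F23461)) (tt N9053 F19604) (tt N13680 (iv F23444)) (tt N9052 (iv D11657)) (tt N14691 D14718) (tt N13679 F23442))
theorem Q11657 : ∀ i, i < 11657 → P i := stepQ 11656 Q11656 (allL N11656 (tt N13686 (iv F23458)) (tt N9054 F19605) (tt N9058 F19606) (tt N13679 (iv F23440)) (tt N13527 (iv F23061)) (tt N9052 (iv D11658)))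
theorem Q11658 : ∀ i, i < 11658 → P i := stepQ 11657 Q11657 (allL N11657 (tt N13946 (iv F23959)) (tt N14692 D14719) (tt N9053 (iv D11659)) (tt N12157 (iv F20543)) (tt N14693 D14720) (tt N12156 F20540))
theorem Q11659 : ∀ i, i < 11659 → P i := stepQ 11658 Q11658 (allL N11658 (tt N13947 (iv F23962)) (tt N14691 (iv F25403)) (tt N14693 (iv F25405)) (tt N13507 (iv F22985)) (tt N9053 (iv D11660)) (tt N14694 D14721))
theorem Q11660 : ∀ i, i < 11660 → P i := stepQ 11659 Q11659 (allL N11659 (tt N13948 (iv F23964)) (tt N13679 F23441) (tt N12156 (iv F20539)) (tt N9054 F19607) (tt N13681 (iv F23447)) (tt N9053 (iv D11661)))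
theorem Q11661 : ∀ i, i < 11661 → P i := stepQ 11660 Q11660 (allL N11660 (tt N13949 (iv F23967)) (tt N13527 (iv F23060)) (tt N9055 F19608) (tt N14695 D14722) (tt N9054 (iv D11662)) (tt N11392 F19609))
theorem Q11662 : ∀ i, i < 11662 → P i := stepQ 11661 Q11661 (allL N11661 (tt N9057 F19610) (tt N13529 (iv F23069)) (tt N13658 F23383) (tt N9056 (iv D11663)) (tt N13660 (iv F23391)) (tt N10095 (iv F19611)))
theorem Q11663 : ∀ i, i < 11663 → P i := stepQ 11662 Q11662 (allL N11662 (tt N9058 F19612) (tt N13528 (iv F23063)) (tt N13686 (iv F23459)) (tt N10095 F19613) (tt N13525 (iv F23055)) (tt N9056 (iv D11664)))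
theorem Q11664 : ∀ i, i < 11664 → P i := stepQ 11663 Q11663 (allL N11663 (tt N9059 (iv D11666)) (tt N13526 (iv F23057)) (tt N9637 F19616) (tt N13518 (iv F23023)) (tt N14346 (iv F24708)) (tt N9060 F19617))
theorem Q11665 : ∀ i, i < 11665 → P i := stepQ 11664 Q11664 (allL N11664 (tt N9061 F19618) (tt N13525 (iv F23054)) (tt N13979 (iv F24010)) (tt N9060 (iv D11667)) (tt N13528 (iv F23066)) (tt N13518 (iv F23025)))
theorem Q11666 : ∀ i, i < 11666 → P i := stepQ 11665 Q11665 (allL N11665 (tt N9063 F19619) (tt N14696 D14723) (tt N9062 (iv D11668)) (tt N14697 D14724) (tt N14674 (iv F25376)) (tt N13334 (iv F22705)))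
theorem Q11667 : ∀ i, i < 11667 → P i := stepQ 11666 Q11666 (allL N11666 (tt N14697 (iv F25414)) (tt N10057 F19620) (tt N14698 D14725) (tt N9063 (iv D11669)) (tt N14699 D14726) (tt N13335 (iv F22709)))
theorem Q11668 : ∀ i, i < 11668 → P i := stepQ 11667 Q11667 (allL N11667 (tt N13667 (iv F23409)) (tt N9064 (iv D11670)) (tt N13325 (iv F22690)) (tt N9065 F19621) (tt N13652 (iv F23358)) (tt N10068 F19622))
theorem Q11669 : ∀ i, i < 11669 → P i := stepQ 11668 Q11668 (allL N11668 (tt N9065 (iv D11671)) (tt N13667 (iv F23410)) (tt N9066 F19623) (tt N13667 (iv F23411)) (tt N13661 (iv F23397)) (tt N10088 F19624))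
theorem Q11670 : ∀ i, i < 11670 → P i := stepQ 11669 Q11669 (allL N11669 (tt N9071 F19625) (tt N14700 D14727) (tt N9067 (iv D11672)) (tt N10081 F19627) (tt N9340 F19626) (tt N10080 (iv F19628)))
theorem Q11671 : ∀ i, i < 11671 → P i := stepQ 11670 Q11670 (allL N11670 (tt N9072 F19629) (tt N11545 F19630) (tt N10080 F19631) (tt N9068 F19632) (tt N14701 D14728) (tt N9067 (iv D11673)))
theorem Q11672 : ∀ i, i < 11672 → P i := stepQ 11671 Q11671 (allL N11671 (tt N9340 F19633) (tt N14702 D14729) (tt N9069 (iv D11674)) (tt N14703 D14730) (tt N9071 F19634) (tt N14704 D14731))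
theorem Q11673 : ∀ i, i < 11673 → P i := stepQ 11672 Q11672 (allL N11672 (tt N9341 F19635) (tt N11547 F19636) (tt N14704 (iv F25436)) (tt N9070 F19637) (tt N14705 D14732) (tt N9069 (iv D11675)))
theorem Q11674 : ∀ i, i < 11674 → P i := stepQ 11673 Q11673 (allL N11673 (tt N14706 D14733) (tt N9071 (iv D11676)) (tt N14266 (iv F24511)) (tt N14707 D14734) (tt N14702 (iv F25431)) (tt N14708 D14735))
theorem Q11675 : ∀ i, i < 11675 → P i := stepQ 11674 Q11674 (allL N11674 (tt N10081 F19638) (tt N14707 (iv F25441)) (tt N10063 F19639) (tt N9071 (iv D11677)) (tt N14709 D14736) (tt N10062 F19640))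
theorem Q11676 : ∀ i, i < 11676 → P i := stepQ 11675 Q11675 (allL N11675 (tt N10080 F19641) (tt N14708 (iv F25443)) (tt N9072 F19642) (tt N10062 F19643) (tt N14710 D14737) (tt N9071 (iv D11678)))
theorem Q11677 : ∀ i, i < 11677 → P i := stepQ 11676 Q11676 (allL N11676 (tt N14701 (iv F25426)) (tt N14269 (iv F24513)) (tt N14710 (iv F25448)) (tt N14340 (iv F24693)) (tt N9072 (iv D11679)) (tt N14705 (iv F25440)))
theorem Q11678 : ∀ i, i < 11678 → P i := stepQ 11677 Q11677 (allL N11677 (tt N9075 F19644) (tt N9077 F19645) (tt N13387 (iv F22810)) (tt N9621 F19646) (tt N9073 (iv D11680)) (tt N14711 D14738))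
theorem Q11679 : ∀ i, i < 11679 → P i := stepQ 11678 Q11678 (allL N11678 (tt N13387 (iv F22808)) (tt N10052 F19647) (tt N9075 F19648) (tt N14712 D14739) (tt N9074 (iv D11681)) (tt N14713 D14740))
theorem Q11680 : ∀ i, i < 11680 → P i := stepQ 11679 Q11679 (allL N11679 (tt N14711 (iv F25449)) (tt N9076 F19649) (tt N14713 (iv F25455)) (tt N9624 F19650) (tt N14659 (iv F25339)) (tt N9075 (iv D11682)))
theorem Q11681 : ∀ i, i < 11681 → P i := stepQ 11680 Q11680 (allL N11680 (tt N9078 F19651) (tt N14711 (iv F25450)) (tt N9249 F19652) (tt N9657 F19653) (tt N9265 F19654) (tt N9077 (iv D11683)))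
theorem Q11682 : ∀ i, i < 11682 → P i := stepQ 11681 Q11681 (allL N11681 (tt N9080 F19655) (tt N10048 F19656) (tt N13396 (iv F22826)) (tt N14714 D14741) (tt N9079 (iv D11684)) (tt N14715 D14742))
theorem Q11683 : ∀ i, i < 11683 → P i := stepQ 11682 Q11682 (allL N11682 (tt N14714 (iv F25456)) (tt N9081 F19657) (tt N14716 D14743) (tt N9080 (iv D11685)) (tt N14644 (iv F25305)) (tt N14717 D14744))
theorem Q11684 : ∀ i, i < 11684 → P i := stepQ 11683 Q11683 (allL N11683 (tt N14715 (iv F25459)) (tt N9082 F19658) (tt N13847 (iv F23777)) (tt N14717 (iv F25462)) (tt N14640 (iv F25296)) (tt N9080 (iv D11686)))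
theorem Q11685 : ∀ i, i < 11685 → P i := stepQ 11684 Q11684 (allL N11684 (tt N14665 (iv F25355)) (tt N14718 D14745) (tt N9081 (iv D11687)) (tt N13942 (iv F23952)) (tt N14650 (iv F25321)) (tt N13941 F23949))
theorem Q11686 : ∀ i, i < 11686 → P i := stepQ 11685 Q11685 (allL N11685 (tt N14664 (iv F25351)) (tt N14717 (iv F25461)) (tt N13941 (iv F23948)) (tt N9082 F19659) (tt N14719 D14746) (tt N9081 (iv D11688)))
theorem Q11687 : ∀ i, i < 11687 → P i := stepQ 11686 Q11686 (allL N11686 (tt N9327 F19660) (tt N14720 D14747) (tt N9084 (iv D11689)) (tt N14721 D14748) (tt N9408 F19661) (tt N10099 F19662))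
theorem Q11688 : ∀ i, i < 11688 → P i := stepQ 11687 Q11687 (allL N11687 (tt N9090 F19663) (tt N14722 D14749) (tt N9085 (iv D11690)) (tt N14723 D14750) (tt N9087 F19664) (tt N14724 D14751))
theorem Q11689 : ∀ i, i < 11689 → P i := stepQ 11688 Q11688 (allL N11688 (tt N9091 F19665) (tt N9409 F19666) (tt N14724 (iv F25481)) (tt N9086 F19667) (tt N10101 F19668) (tt N9085 (iv D11691)))
theorem Q11690 : ∀ i, i < 11690 → P i := stepQ 11689 Q11689 (allL N11689 (tt N14725 D14752) (tt N9087 (iv D11692)) (tt N14720 (iv F25463)) (tt N9092 F19669) (tt N14722 (iv F25470)) (tt N10102 F19670))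
theorem Q11691 : ∀ i, i < 11691 → P i := stepQ 11690 Q11690 (allL N11690 (tt N14160 (iv F24303)) (tt N11347 F23273) (tt N9088 (iv D11693)) (tt N11346 (iv F23274)) (tt N14337 (iv F24683)) (tt N14726 D14753))
theorem Q11692 : ∀ i, i < 11692 → P i := stepQ 11691 Q11691 (allL N11691 (tt N14161 (iv F24305)) (tt N9407 F19671) (tt N14726 (iv F25489)) (tt N9089 F19672) (tt N14727 D14754) (tt N9088 (iv D11694)))
theorem Q11693 : ∀ i, i < 11693 → P i := stepQ 11692 Q11692 (allL N11692 (tt N14728 D14755) (tt N9090 (iv D11695)) (tt N9331 F19673) (tt N11405 F21796) (tt N9092 F19674) (tt N9923 (iv F19675)))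
theorem Q11694 : ∀ i, i < 11694 → P i := stepQ 11693 Q11693 (allL N11693 (tt N14723 (iv F25474)) (tt N11405 (iv F21797)) (tt N14729 D14756) (tt N9090 (iv D11696)) (tt N14723 (iv F25476)) (tt N11404 F21798))
theorem Q11695 : ∀ i, i < 11695 → P i := stepQ 11694 Q11694 (allL N11694 (tt N14724 (iv F25479)) (tt N9923 F19676) (tt N9091 F19677) (tt N11404 (iv F21799)) (tt N10110 F19678) (tt N9090 (iv D11697)))
theorem Q11696 : ∀ i, i < 11696 → P i := stepQ 11695 Q11695 (allL N11695 (tt N9092 (iv D11698)) (tt N14725 (iv F25484)) (tt N9333 F19679) (tt N14725 (iv F25485)) (tt N14728 (iv F25496)) (tt N10111 F19680))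
theorem Q11697 : ∀ i, i < 11697 → P i := stepQ 11696 Q11696 (allL N11696 (tt N9315 F19681) (tt N14730 D14757) (tt N9093 (iv D11699)) (tt N14731 D14758) (tt N13559 (iv F23133)) (tt N10113 F19682))
theorem Q11698 : ∀ i, i < 11698 → P i := stepQ 11697 Q11697 (allL N11697 (tt N14732 D14759) (tt N9094 (iv D11700)) (tt N14730 (iv F25502)) (tt N9452 F19683) (tt N13561 (iv F23138)) (tt N9451 F19684))
theorem Q11699 : ∀ i, i < 11699 → P i := stepQ 11698 Q11698 (allL N11698 (tt N14733 D14760) (tt N9095 (iv D11701)) (tt N9323 F19685) (tt N14734 D14761) (tt N9097 F19686) (tt N14735 D14762))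
theorem Q11700 : ∀ i, i < 11700 → P i := stepQ 11699 Q11699 (allL N11699 (tt N13562 (iv F23139)) (tt N14734 (iv F25512)) (tt N11106 F19687) (tt N9095 (iv D11702)) (tt N14736 D14763) (tt N11105 (iv F19688)))
theorem Q11701 : ∀ i, i < 11701 → P i := stepQ 11700 Q11700 (allL N11700 (tt N13563 (iv F23141)) (tt N14735 (iv F25514)) (tt N9096 F19689) (tt N11105 F19690) (tt N10123 F19691) (tt N9095 (iv D11703)))
theorem Q11702 : ∀ i, i < 11702 → P i := stepQ 11701 Q11701 (allL N11701 (tt N9097 (iv D11704)) (tt N14732 (iv F25507)) (tt N9326 F19692) (tt N14737 D14764) (tt N14733 (iv F25511)) (tt N10126 F19693))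
theorem Q11703 : ∀ i, i < 11703 → P i := stepQ 11702 Q11702 (allL N11702 (tt N14737 (iv F25521)) (tt N9098 F19694) (tt N14738 D14765) (tt N9097 (iv D11705)) (tt N14739 D14766) (tt N9444 F19695))
theorem Q11704 : ∀ i, i < 11704 → P i := stepQ 11703 Q11703 (allL N11703 (tt N9454 F19696) (tt N14739 (iv F25526)) (tt N9445 F19697) (tt N14736 (iv F25520)) (tt N9098 (iv D11706)) (tt N12532 (iv F21199)))
theorem Q11705 : ∀ i, i < 11705 → P i := stepQ 11704 Q11704 (allL N11704 (tt N13767 (iv F23625)) (tt N14740 D14767) (tt N9100 (iv D11707)) (tt N14741 D14768) (tt N12298 (iv F20801)) (tt N14742 D14769))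
theorem Q11706 : ∀ i, i < 11706 → P i := stepQ 11705 Q11705 (allL N11705 (tt N13768 (iv F23627)) (tt N9103 F19698) (tt N14742 (iv F25528)) (tt N9101 F19699) (tt N14743 D14770) (tt N9100 (iv D11708)))
theorem Q11707 : ∀ i, i < 11707 → P i := stepQ 11706 Q11706 (allL N11706 (tt N14744 D14771) (tt N9102 (iv D11709)) (tt N14740 (iv F25527)) (tt N14745 D14772) (tt N12261 F20742) (tt N14746 D14773))
theorem Q11708 : ∀ i, i < 11708 → P i := stepQ 11707 Q11707 (allL N11707 (tt N10122 F19700) (tt N14745 (iv F25532)) (tt N9281 F19701) (tt N9102 (iv D11710)) (tt N9662 F19702) (tt N9280 F19703))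
theorem Q11709 : ∀ i, i < 11709 → P i := stepQ 11708 Q11708 (allL N11708 (tt N10121 F19704) (tt N14746 (iv F25536)) (tt N9103 F19705) (tt N9280 F19706) (tt N12263 (iv F20747)) (tt N9102 (iv D11711)))
theorem Q11710 : ∀ i, i < 11710 → P i := stepQ 11709 Q11709 (allL N11709 (tt N11107 F19707) (tt N14743 (iv F25529)) (tt N12263 (iv F20745)) (tt N11071 F19708) (tt N9103 (iv D11712)) (tt N11070 F19709))
theorem Q11711 : ∀ i, i < 11711 → P i := stepQ 11710 Q11710 (allL N11710 (tt N9106 F19710) (tt N9116 F19711) (tt N9165 F19712) (tt N14296 (iv F24570)) (tt N9104 (iv D11713)) (tt N14747 D14774))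
theorem Q11712 : ∀ i, i < 11712 → P i := stepQ 11711 Q11711 (allL N11711 (tt N14296 (iv F24567)) (tt N9109 F19713) (tt N10902 (iv F19715)) (tt N9106 (iv D11714)) (tt N10901 F19714) (tt N12690 (iv F21462)))
theorem Q11713 : ∀ i, i < 11713 → P i := stepQ 11712 Q11712 (allL N11712 (tt N14747 (iv F25538)) (tt N9110 F19721) (tt N9168 F19722) (tt N12690 (iv F21461)) (tt N14748 D14775) (tt N9106 (iv D11715)))
theorem Q11714 : ∀ i, i < 11714 → P i := stepQ 11713 Q11713 (allL N11713 (tt N9150 F19723) (tt N9111 F19724) (tt N9169 F19725) (tt N14749 D14776) (tt N9107 (iv D11716)) (tt N14748 (iv F25545)))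
theorem Q11715 : ∀ i, i < 11715 → P i := stepQ 11714 Q11714 (allL N11714 (tt N9123 F19726) (tt N10901 F19727) (tt N10903 (iv F19729)) (tt N9108 (iv D11717)) (tt N9109 F19728) (tt N14304 (iv F24597)))
theorem Q11716 : ∀ i, i < 11716 → P i := stepQ 11715 Q11715 (allL N11715 (tt N9124 F19730) (tt N14293 (iv F24556)) (tt N10072 F19731) (tt N14304 (iv F24596)) (tt N14625 (iv F25255)) (tt N9108 (iv D11718)))
theorem Q11717 : ∀ i, i < 11717 → P i := stepQ 11716 Q11716 (allL N11716 (tt N9128 F19732) (tt N14748 (iv F25543)) (tt N9112 F19733) (tt N14750 D14777) (tt N9110 (iv D11719)) (tt N9111 F19734))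
theorem Q11718 : ∀ i, i < 11718 → P i := stepQ 11717 Q11717 (allL N11717 (tt N9129 F19735) (tt N14749 (iv F25547)) (tt N14751 D14778) (tt N9111 (iv D11720)) (tt N14624 (iv F25251)) (tt N14750 (iv F25550)))
theorem Q11719 : ∀ i, i < 11719 → P i := stepQ 11718 Q11718 (allL N11718 (tt N9130 F19736) (tt N9651 F19737) (tt N9113 (iv D11721)) (tt N14752 D14779) (tt N9114 F19738) (tt N9385 F19739))
theorem Q11720 : ∀ i, i < 11720 → P i := stepQ 11719 Q11719 (allL N11719 (tt N9119 F19740) (tt N14296 (iv F24568)) (tt N14753 D14780) (tt N9116 (iv D11722)) (tt N14294 (iv F24562)) (tt N14754 D14781))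
theorem Q11721 : ∀ i, i < 11721 → P i := stepQ 11720 Q11720 (allL N11720 (tt N9120 F19741) (tt N14747 (iv F25539)) (tt N9133 F19742) (tt N14754 (iv F25558)) (tt N9153 F19743) (tt N9116 (iv D11723)))
theorem Q11722 : ∀ i, i < 11722 → P i := stepQ 11721 Q11721 (allL N11721 (tt N14294 (iv F24560)) (tt N9123 F19744) (tt N14755 D14782) (tt N9118 (iv D11724)) (tt N9119 F19745) (tt N14756 D14783))
theorem Q11723 : ∀ i, i < 11723 → P i := stepQ 11722 Q11722 (allL N11722 (tt N14295 (iv F24563)) (tt N9124 F19746) (tt N14300 (iv F24585)) (tt N14756 (iv F25561)) (tt N9158 F19747) (tt N9118 (iv D11725)))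
theorem Q11724 : ∀ i, i < 11724 → P i := stepQ 11723 Q11723 (allL N11723 (tt N14753 (iv F25556)) (tt N14757 D14784) (tt N9119 (iv D11726)) (tt N14758 D14785) (tt N14755 (iv F25559)) (tt N14759 D14786))
theorem Q11725 : ∀ i, i < 11725 → P i := stepQ 11724 Q11724 (allL N11724 (tt N14754 (iv F25557)) (tt N9127 F19748) (tt N14759 (iv F25563)) (tt N9120 F19749) (tt N14760 D14787) (tt N9119 (iv D11727)))
theorem Q11726 : ∀ i, i < 11726 → P i := stepQ 11725 Q11725 (allL N11725 (tt N9342 F19750) (tt N9122 F19751) (tt N9345 F19752) (tt N14761 D14788) (tt N9121 (iv D11728)) (tt N14314 (iv F24622)))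
theorem Q11727 : ∀ i, i < 11727 → P i := stepQ 11726 Q11726 (allL N11726 (tt N10071 F19753) (tt N14761 (iv F25567)) (tt N12573 F21720) (tt N9122 (iv D11729)) (tt N10069 F19754) (tt N14762 D14789))
theorem Q11728 : ∀ i, i < 11728 → P i := stepQ 11727 Q11727 (allL N11727 (tt N10072 F19755) (tt N14314 (iv F24621)) (tt N9124 F19756) (tt N14762 (iv F25571)) (tt N14623 (iv F25248)) (tt N9122 (iv D11730)))
theorem Q11729 : ∀ i, i < 11729 → P i := stepQ 11728 Q11728 (allL N11728 (tt N10903 F19757) (tt N14763 D14790) (tt N9123 (iv D11731)) (tt N14764 D14791) (tt N9126 F19758) (tt N14765 D14792))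
theorem Q11730 : ∀ i, i < 11730 → P i := stepQ 11729 Q11729 (allL N11729 (tt N14304 F24598) (tt N14756 (iv F25560)) (tt N14765 (iv F25582)) (tt N9124 F19759) (tt N14766 D14793) (tt N9123 (iv D11732)))
theorem Q11731 : ∀ i, i < 11731 → P i := stepQ 11730 Q11730 (allL N11730 (tt N14625 (iv F25252)) (tt N9158 F19760) (tt N14623 (iv F25247)) (tt N14767 D14794) (tt N9124 (iv D11733)) (tt N9125 F19761))
theorem Q11732 : ∀ i, i < 11732 → P i := stepQ 11731 Q11731 (allL N11731 (tt N14624 (iv F25249)) (tt N9157 F19762) (tt N14768 D14795) (tt N9125 (iv D11734)) (tt N9129 F19763) (tt N14767 (iv F25586)))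
theorem Q11733 : ∀ i, i < 11733 → P i := stepQ 11732 Q11732 (allL N11732 (tt N14769 D14796) (tt N9126 (iv D11735)) (tt N14757 (iv F25562)) (tt N12683 (iv F21450)) (tt N14763 (iv F25573)) (tt N12682 F21448))
theorem Q11734 : ∀ i, i < 11734 → P i := stepQ 11733 Q11733 (allL N11733 (tt N12691 (iv F21463)) (tt N14760 (iv F25564)) (tt N12684 (iv F21452)) (tt N14770 D14797) (tt N9127 (iv D11736)) (tt N14766 (iv F25584)))
theorem Q11735 : ∀ i, i < 11735 → P i := stepQ 11734 Q11734 (allL N11734 (tt N14750 (iv F25549)) (tt N9160 F19764) (tt N14771 D14798) (tt N9128 (iv D11737)) (tt N14770 (iv F25592)) (tt N9129 F19765))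
theorem Q11736 : ∀ i, i < 11736 → P i := stepQ 11735 Q11735 (allL N11735 (tt N14751 (iv F25551)) (tt N14772 D14799) (tt N9129 (iv D11738)) (tt N14773 D14800) (tt N14768 (iv F25588)) (tt N14771 (iv F25593)))
theorem Q11737 : ∀ i, i < 11737 → P i := stepQ 11736 Q11736 (allL N11736 (tt N14752 (iv F25553)) (tt N13290 (iv F22622)) (tt N14774 D14801) (tt N9130 (iv D11739)) (tt N14775 D14802) (tt N9396 F19766))
theorem Q11738 : ∀ i, i < 11738 → P i := stepQ 11737 Q11737 (allL N11737 (tt N14635 (iv F25280)) (tt N13468 (iv F22933)) (tt N9613 F19767) (tt N14775 (iv F25600)) (tt N9131 (iv D11740)) (tt N14776 D14803))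
theorem Q11739 : ∀ i, i < 11739 → P i := stepQ 11738 Q11738 (allL N11738 (tt N9134 F19768) (tt N14777 D14804) (tt N9132 (iv D11741)) (tt N14778 D14805) (tt N9154 F19769) (tt N12981 (iv F22033)))
theorem Q11740 : ∀ i, i < 11740 → P i := stepQ 11739 Q11739 (allL N11739 (tt N14778 (iv F25605)) (tt N13255 (iv F22555)) (tt N14779 D14806) (tt N9134 (iv D11742)) (tt N14780 D14807) (tt N12991 (iv F22053)))
theorem Q11741 : ∀ i, i < 11741 → P i := stepQ 11740 Q11740 (allL N11740 (tt N9135 (iv D11743)) (tt N9137 F19770) (tt N9214 F19771) (tt N14698 (iv F25419)) (tt N9381 F19772) (tt N9647 F19773))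
theorem Q11742 : ∀ i, i < 11742 → P i := stepQ 11741 Q11741 (allL N11741 (tt N14698 (iv F25417)) (tt N9136 F19774) (tt N14697 (iv F25415)) (tt N9135 (iv D11744)) (tt N14781 D14808) (tt N9650 F19775))
theorem Q11743 : ∀ i, i < 11743 → P i := stepQ 11742 Q11742 (allL N11742 (tt N9140 F19776) (tt N14781 (iv F25607)) (tt N14631 (iv F25268)) (tt N9384 F19777) (tt N9136 (iv D11745)) (tt N14782 D14809))
theorem Q11744 : ∀ i, i < 11744 → P i := stepQ 11743 Q11743 (allL N11743 (tt N9138 F19778) (tt N14698 (iv F25418)) (tt N13293 (iv F22632)) (tt N9137 (iv D11746)) (tt N14783 D14810) (tt N13466 (iv F22929)))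
theorem Q11745 : ∀ i, i < 11745 → P i := stepQ 11744 Q11744 (allL N11744 (tt N13293 (iv F22630)) (tt N13303 (iv F22654)) (tt N9138 (iv D11747)) (tt N13291 F22627) (tt N14784 D14811) (tt N13467 (iv F22932)))
theorem Q11746 : ∀ i, i < 11746 → P i := stepQ 11745 Q11745 (allL N11745 (tt N14783 (iv F25611)) (tt N9140 F19779) (tt N14784 (iv F25613)) (tt N9389 F19780) (tt N9138 (iv D11748)) (tt N14785 D14812))
theorem Q11747 : ∀ i, i < 11747 → P i := stepQ 11746 Q11746 (allL N11746 (tt N13306 (iv F22660)) (tt N9139 (iv D11749)) (tt N13303 (iv F22655)) (tt N9238 F19781) (tt N14786 D14813) (tt N9612 F19782))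
theorem Q11748 : ∀ i, i < 11748 → P i := stepQ 11747 Q11747 (allL N11747 (tt N14631 (iv F25267)) (tt N14786 (iv F25616)) (tt N9140 F19783) (tt N14787 D14814) (tt N9139 (iv D11750)) (tt N14788 D14815))
theorem Q11749 : ∀ i, i < 11749 → P i := stepQ 11748 Q11748 (allL N11748 (tt N14782 (iv F25609)) (tt N14785 (iv F25614)) (tt N14788 (iv F25619)) (tt N9394 F19784) (tt N14776 (iv F25602)) (tt N9140 (iv D11751)))
theorem Q11750 : ∀ i, i < 11750 → P i := stepQ 11749 Q11749 (allL N11749 (tt N9346 F19785) (tt N9142 F19786) (tt N10018 F19787) (tt N14316 (iv F24631)) (tt N9141 (iv D11752)) (tt N9969 F19788))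
theorem Q11751 : ∀ i, i < 11751 → P i := stepQ 11750 Q11750 (allL N11750 (tt N9145 F19789) (tt N14316 (iv F24630)) (tt N14789 D14816) (tt N9142 (iv D11753)) (tt N14299 (iv F24581)) (tt N14607 (iv F25199)))
theorem Q11752 : ∀ i, i < 11752 → P i := stepQ 11751 Q11751 (allL N11751 (tt N9146 F19790) (tt N9969 F19791) (tt N9143 F19792) (tt N14607 (iv F25198)) (tt N9349 F19793) (tt N9142 (iv D11754)))
theorem Q11753 : ∀ i, i < 11753 → P i := stepQ 11752 Q11752 (allL N11752 (tt N9147 F19794) (tt N14790 D14817) (tt N9144 (iv D11755)) (tt N12990 (iv F22051)) (tt N10031 F19795) (tt N12994 (iv F22063)))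
theorem Q11754 : ∀ i, i < 11754 → P i := stepQ 11753 Q11753 (allL N11753 (tt N14789 (iv F25621)) (tt N14310 (iv F24606)) (tt N9145 (iv D11756)) (tt N14791 D14818) (tt N14301 (iv F24589)) (tt N14599 (iv F25179)))
theorem Q11755 : ∀ i, i < 11755 → P i := stepQ 11754 Q11754 (allL N11754 (tt N14792 D14819) (tt N9147 (iv D11757)) (tt N9148 F19796) (tt N14793 D14820) (tt N10033 F19797) (tt N12995 (iv F22065)))
theorem Q11756 : ∀ i, i < 11756 → P i := stepQ 11755 Q11755 (allL N11755 (tt N12990 (iv F22049)) (tt N14793 (iv F25626)) (tt N12980 (iv F22030)) (tt N9147 (iv D11758)) (tt N14794 D14821) (tt N12996 (iv F22068)))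
theorem Q11757 : ∀ i, i < 11757 → P i := stepQ 11756 Q11756 (allL N11756 (tt N9148 (iv D11759)) (tt N10030 F19798) (tt N14792 (iv F25624)) (tt N13012 (iv F22095)) (tt N10037 F19799) (tt N13012 (iv F22096)))
theorem Q11758 : ∀ i, i < 11758 → P i := stepQ 11757 Q11757 (allL N11757 (tt N10096 F19800) (tt N9151 F19801) (tt N9338 F19802) (tt N14795 D14822) (tt N9149 (iv D11760)) (tt N14298 (iv F24577)))
theorem Q11759 : ∀ i, i < 11759 → P i := stepQ 11758 Q11758 (allL N11758 (tt N14749 (iv F25546)) (tt N9152 F19803) (tt N14796 D14823) (tt N9150 (iv D11761)) (tt N14795 (iv F25630)) (tt N14797 D14824))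
theorem Q11760 : ∀ i, i < 11760 → P i := stepQ 11759 Q11759 (allL N11759 (tt N14748 (iv F25542)) (tt N9153 F19804) (tt N13084 (iv F22241)) (tt N14797 (iv F25636)) (tt N14747 (iv F25541)) (tt N9150 (iv D11762)))
theorem Q11761 : ∀ i, i < 11761 → P i := stepQ 11760 Q11760 (allL N11760 (tt N9157 F19805) (tt N14795 (iv F25629)) (tt N9616 F19813) (tt N9151 (iv D11763)) (tt N9152 F19806) (tt N14798 D14825))
theorem Q11762 : ∀ i, i < 11762 → P i := stepQ 11761 Q11761 (allL N11761 (tt N9158 F19807) (tt N14298 (iv F24575)) (tt N9352 F19808) (tt N14798 (iv F25640)) (tt N14295 (iv F24566)) (tt N9151 (iv D11764)))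
theorem Q11763 : ∀ i, i < 11763 → P i := stepQ 11762 Q11762 (allL N11762 (tt N9159 F19809) (tt N9200 (iv F19811)) (tt N9152 (iv D11765)) (tt N9199 F19810) (tt N9616 (iv F19812)) (tt N12957 (iv F21977)))
theorem Q11764 : ∀ i, i < 11764 → P i := stepQ 11763 Q11763 (allL N11763 (tt N9160 F19814) (tt N14797 (iv F25635)) (tt N12957 (iv F21976)) (tt N9153 F19815) (tt N14799 D14826) (tt N9152 (iv D11766)))
theorem Q11765 : ∀ i, i < 11765 → P i := stepQ 11764 Q11764 (allL N11764 (tt N14800 D14827) (tt N9154 (iv D11767)) (tt N13089 (iv F22256)) (tt N14801 D14828) (tt N14777 (iv F25604)) (tt N12977 F22023))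
theorem Q11766 : ∀ i, i < 11766 → P i := stepQ 11765 Q11765 (allL N11765 (tt N9162 F19816) (tt N14801 (iv F25643)) (tt N12996 (iv F22067)) (tt N9154 (iv D11768)) (tt N14802 D14829) (tt N12980 (iv F22029)))
theorem Q11767 : ∀ i, i < 11767 → P i := stepQ 11766 Q11766 (allL N11766 (tt N9347 F19817) (tt N9156 F19818) (tt N10103 F19819) (tt N9968 F19820) (tt N9155 (iv D11769)) (tt N14315 (iv F24628)))
theorem Q11768 : ∀ i, i < 11768 → P i := stepQ 11767 Q11767 (allL N11767 (tt N9351 F19821) (tt N9968 F19822) (tt N14803 D14830) (tt N9156 (iv D11770)) (tt N9348 F19823) (tt N14606 (iv F25195)))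
theorem Q11769 : ∀ i, i < 11769 → P i := stepQ 11768 Q11768 (allL N11768 (tt N9352 F19824) (tt N14315 (iv F24625)) (tt N9158 F19825) (tt N14606 (iv F25194)) (tt N14300 (iv F24587)) (tt N9156 (iv D11771)))
theorem Q11770 : ∀ i, i < 11770 → P i := stepQ 11769 Q11769 (allL N11769 (tt N9616 F19826) (tt N9636 (iv F19828)) (tt N9157 (iv D11772)) (tt N9615 (iv F19829)) (tt N9159 F19827) (tt N14804 D14831))
theorem Q11771 : ∀ i, i < 11771 → P i := stepQ 11770 Q11770 (allL N11770 (tt N14798 (iv F25637)) (tt N14767 (iv F25585)) (tt N14804 (iv F25652)) (tt N9158 F19830) (tt N14805 D14832) (tt N9157 (iv D11773)))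
theorem Q11772 : ∀ i, i < 11772 → P i := stepQ 11771 Q11771 (allL N11771 (tt N9639 F19831) (tt N9159 (iv D11774)) (tt N14772 (iv F25594)) (tt N9648 (iv F19833)) (tt N9636 F19832) (tt N14806 D14833))
theorem Q11773 : ∀ i, i < 11773 → P i := stepQ 11772 Q11772 (allL N11772 (tt N9199 F19834) (tt N9648 F19835) (tt N9208 F19837) (tt N9159 (iv D11775)) (tt N9201 F19836) (tt N12952 (iv F21966)))
theorem Q11774 : ∀ i, i < 11774 → P i := stepQ 11773 Q11773 (allL N11773 (tt N12957 (iv F21974)) (tt N14806 (iv F25656)) (tt N9160 F19838) (tt N12952 (iv F21964)) (tt N14807 D14834) (tt N9159 (iv D11776)))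
theorem Q11775 : ∀ i, i < 11775 → P i := stepQ 11774 Q11774 (allL N11774 (tt N14799 (iv F25641)) (tt N14770 (iv F25591)) (tt N14807 (iv F25658)) (tt N14760 (iv F25565)) (tt N9160 (iv D11777)) (tt N14805 (iv F25654)))
theorem Q11776 : ∀ i, i < 11776 → P i := stepQ 11775 Q11775 (allL N11775 (tt N9161 (iv D11778)) (tt N14800 (iv F25642)) (tt N9163 F19839) (tt N14808 D14835) (tt N13248 (iv F22546)) (tt N12982 F22036))
theorem Q11777 : ∀ i, i < 11777 → P i := stepQ 11776 Q11776 (allL N11776 (tt N14808 (iv F25659)) (tt N9162 F19840) (tt N14809 D14836) (tt N9161 (iv D11779)) (tt N14810 D14837) (tt N12984 (iv F22041)))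
theorem Q11778 : ∀ i, i < 11778 → P i := stepQ 11777 Q11777 (allL N11777 (tt N12996 (iv F22066)) (tt N14811 D14838) (tt N9162 (iv D11780)) (tt N12994 (iv F22062)) (tt N14812 D14839) (tt N12990 (iv F22050)))
theorem Q11779 : ∀ i, i < 11779 → P i := stepQ 11778 Q11778 (allL N11778 (tt N14802 (iv F25644)) (tt N14810 (iv F25660)) (tt N14812 (iv F25661)) (tt N14780 (iv F25606)) (tt N9162 (iv D11781)) (tt N14813 D14840))
theorem Q11780 : ∀ i, i < 11780 → P i := stepQ 11779 Q11779 (allL N11779 (tt N9166 F19841) (tt N9177 F19842) (tt N9297 F19843) (tt N14814 D14841) (tt N9164 (iv D11782)) (tt N14815 D14842))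
theorem Q11781 : ∀ i, i < 11781 → P i := stepQ 11780 Q11780 (allL N11780 (tt N9167 F19844) (tt N9178 F19845) (tt N14816 D14843) (tt N9165 (iv D11783)) (tt N14814 (iv F25664)) (tt N14817 D14844))
theorem Q11782 : ∀ i, i < 11782 → P i := stepQ 11781 Q11781 (allL N11781 (tt N9168 F19846) (tt N9179 F19847) (tt N14747 (iv F25540)) (tt N14817 (iv F25672)) (tt N13084 (iv F22242)) (tt N9165 (iv D11784)))
theorem Q11783 : ∀ i, i < 11783 → P i := stepQ 11782 Q11782 (allL N11782 (tt N14814 (iv F25662)) (tt N9170 F19848) (tt N14818 D14845) (tt N9166 (iv D11785)) (tt N9167 F19849) (tt N14819 D14846))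
theorem Q11784 : ∀ i, i < 11784 → P i := stepQ 11783 Q11783 (allL N11783 (tt N14815 (iv F25665)) (tt N9171 F19850) (tt N10045 F19851) (tt N14819 (iv F25675)) (tt N9286 F19852) (tt N9166 (iv D11786)))
theorem Q11785 : ∀ i, i < 11785 → P i := stepQ 11784 Q11784 (allL N11784 (tt N14816 (iv F25669)) (tt N14820 D14847) (tt N9167 (iv D11787)) (tt N14821 D14848) (tt N14818 (iv F25673)) (tt N14822 D14849))
theorem Q11786 : ∀ i, i < 11786 → P i := stepQ 11785 Q11785 (allL N11785 (tt N14817 (iv F25670)) (tt N9173 F19853) (tt N14822 (iv F25679)) (tt N9168 F19854) (tt N14823 D14850) (tt N9167 (iv D11788)))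
theorem Q11787 : ∀ i, i < 11787 → P i := stepQ 11786 Q11786 (allL N11786 (tt N13084 (iv F22239)) (tt N9174 F19855) (tt N14748 (iv F25544)) (tt N14824 D14851) (tt N9168 (iv D11789)) (tt N9169 F19856))
theorem Q11788 : ∀ i, i < 11788 → P i := stepQ 11787 Q11787 (allL N11787 (tt N13083 (iv F22236)) (tt N9175 F19857) (tt N14825 D14852) (tt N9169 (iv D11790)) (tt N9285 F19858) (tt N14824 (iv F25682)))
theorem Q11789 : ∀ i, i < 11789 → P i := stepQ 11788 Q11788 (allL N11788 (tt N9188 F19859) (tt N14826 D14853) (tt N9170 (iv D11791)) (tt N14662 (iv F25347)) (tt N9172 F19860) (tt N14661 (iv F25344)))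
theorem Q11790 : ∀ i, i < 11790 → P i := stepQ 11789 Q11789 (allL N11789 (tt N9189 F19861) (tt N14819 (iv F25674)) (tt N14661 (iv F25342)) (tt N9171 F19862) (tt N14827 D14854) (tt N9170 (iv D11792)))
theorem Q11791 : ∀ i, i < 11791 → P i := stepQ 11790 Q11790 (allL N11790 (tt N14828 D14855) (tt N9172 (iv D11793)) (tt N14820 (iv F25676)) (tt N9225 F19863) (tt N14826 (iv F25684)) (tt N9224 F19864))
theorem Q11792 : ∀ i, i < 11792 → P i := stepQ 11791 Q11791 (allL N11791 (tt N9195 F19865) (tt N14823 (iv F25680)) (tt N9226 F19866) (tt N14829 D14856) (tt N9173 (iv D11794)) (tt N14827 (iv F25688)))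
theorem Q11793 : ∀ i, i < 11793 → P i := stepQ 11792 Q11792 (allL N11792 (tt N9196 F19867) (tt N14824 (iv F25681)) (tt N14830 D14857) (tt N9174 (iv D11795)) (tt N14829 (iv F25693)) (tt N9175 F19868))
theorem Q11794 : ∀ i, i < 11794 → P i := stepQ 11793 Q11793 (allL N11793 (tt N9197 F19869) (tt N14831 D14858) (tt N9175 (iv D11796)) (tt N14832 D14859) (tt N9287 F19870) (tt N14830 (iv F25699)))
theorem Q11795 : ∀ i, i < 11795 → P i := stepQ 11794 Q11794 (allL N11794 (tt N9182 F19871) (tt N14814 (iv F25663)) (tt N14833 D14860) (tt N9177 (iv D11797)) (tt N9178 F19872) (tt N14834 D14861))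
theorem Q11796 : ∀ i, i < 11796 → P i := stepQ 11795 Q11795 (allL N11795 (tt N9183 F19873) (tt N14815 (iv F25666)) (tt N13063 (iv F22213)) (tt N14834 (iv F25708)) (tt N13086 (iv F22249)) (tt N9177 (iv D11798)))
theorem Q11797 : ∀ i, i < 11797 → P i := stepQ 11796 Q11796 (allL N11796 (tt N9184 F19874) (tt N14835 D14862) (tt N9178 (iv D11799)) (tt N14836 D14863) (tt N14833 (iv F25706)) (tt N14837 D14864))
theorem Q11798 : ∀ i, i < 11798 → P i := stepQ 11797 Q11797 (allL N11797 (tt N9185 F19875) (tt N14817 (iv F25671)) (tt N14837 (iv F25713)) (tt N9179 F19876) (tt N14838 D14865) (tt N9178 (iv D11800)))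
theorem Q11799 : ∀ i, i < 11799 → P i := stepQ 11798 Q11798 (allL N11798 (tt N9302 F19877) (tt N9181 F19878) (tt N9186 F19879) (tt N14839 D14866) (tt N9180 (iv D11801)) (tt N14840 D14867))
theorem Q11800 : ∀ i, i < 11800 → P i := stepQ 11799 Q11799 (allL N11799 (tt N13062 (iv F22208)) (tt N14839 (iv F25717)) (tt N14841 D14868) (tt N9181 (iv D11802)) (tt N13059 (iv F22200)) (tt N14842 D14869))
theorem Q11801 : ∀ i, i < 11801 → P i := stepQ 11800 Q11800 (allL N11800 (tt N13063 (iv F22211)) (tt N14840 (iv F25719)) (tt N9183 F19880) (tt N14842 (iv F25722)) (tt N13091 (iv F22265)) (tt N9181 (iv D11803)))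
theorem Q11802 : ∀ i, i < 11802 → P i := stepQ 11801 Q11801 (allL N11801 (tt N14833 (iv F25705)) (tt N14843 D14870) (tt N9182 (iv D11804)) (tt N14844 D14871) (tt N9184 F19881) (tt N14845 D14872))
theorem Q11803 : ∀ i, i < 11803 → P i := stepQ 11802 Q11802 (allL N11802 (tt N14834 (iv F25707)) (tt N9189 F19882) (tt N14845 (iv F25725)) (tt N9183 F19883) (tt N14846 D14873) (tt N9182 (iv D11805)))
theorem Q11804 : ∀ i, i < 11804 → P i := stepQ 11803 Q11803 (allL N11803 (tt N14847 D14874) (tt N9184 (iv D11806)) (tt N9192 F19884) (tt N14848 D14875) (tt N14843 (iv F25724)) (tt N14849 D14876))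
theorem Q11805 : ∀ i, i < 11805 → P i := stepQ 11804 Q11804 (allL N11804 (tt N14836 (iv F25709)) (tt N14848 (iv F25729)) (tt N14850 D14877) (tt N9184 (iv D11807)) (tt N14851 D14878) (tt N14852 D14879))
theorem Q11806 : ∀ i, i < 11806 → P i := stepQ 11805 Q11805 (allL N11805 (tt N14837 (iv F25712)) (tt N14849 (iv F25730)) (tt N9185 F19885) (tt N14852 (iv F25737)) (tt N14853 D14880) (tt N9184 (iv D11808)))
theorem Q11807 : ∀ i, i < 11807 → P i := stepQ 11806 Q11806 (allL N11806 (tt N14838 (iv F25715)) (tt N9195 F19886) (tt N14853 (iv F25738)) (tt N13097 (iv F22277)) (tt N9185 (iv D11809)) (tt N14846 (iv F25727)))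
theorem Q11808 : ∀ i, i < 11808 → P i := stepQ 11807 Q11807 (allL N11807 (tt N10043 F19887) (tt N9187 F19888) (tt N14840 (iv F25720)) (tt N14659 (iv F25338)) (tt N9276 F19889) (tt N9186 (iv D11810)))
theorem Q11809 : ∀ i, i < 11809 → P i := stepQ 11808 Q11808 (allL N11808 (tt N14854 D14881) (tt N9188 (iv D11811)) (tt N14843 (iv F25723)) (tt N14855 D14882) (tt N9192 F19890) (tt N14856 D14883))
theorem Q11810 : ∀ i, i < 11810 → P i := stepQ 11809 Q11809 (allL N11809 (tt N14662 (iv F25345)) (tt N14855 (iv F25740)) (tt N14646 (iv F25311)) (tt N9188 (iv D11812)) (tt N14689 (iv F25398)) (tt N14645 F25309))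
theorem Q11811 : ∀ i, i < 11811 → P i := stepQ 11810 Q11810 (allL N11810 (tt N14661 (iv F25341)) (tt N14856 (iv F25741)) (tt N9189 F19891) (tt N14645 (iv F25308)) (tt N14690 (iv F25400)) (tt N9188 (iv D11813)))
theorem Q11812 : ∀ i, i < 11812 → P i := stepQ 11811 Q11811 (allL N11811 (tt N14827 (iv F25685)) (tt N14846 (iv F25726)) (tt N14690 F25402) (tt N14857 D14884) (tt N9189 (iv D11814)) (tt N9195 F19892))
theorem Q11813 : ∀ i, i < 11813 → P i := stepQ 11812 Q11812 (allL N11812 (tt N9288 F19893) (tt N13093 (iv F22267)) (tt N14858 D14885) (tt N9190 (iv D11815)) (tt N14857 (iv F25744)) (tt N9191 F19894))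
theorem Q11814 : ∀ i, i < 11814 → P i := stepQ 11813 Q11813 (allL N11813 (tt N9287 F19895) (tt N14859 D14886) (tt N9191 (iv D11816)) (tt N14860 D14887) (tt N9197 F19896) (tt N14858 (iv F25749)))
theorem Q11815 : ∀ i, i < 11815 → P i := stepQ 11814 Q11814 (allL N11814 (tt N9192 (iv D11817)) (tt N14828 (iv F25689)) (tt N14847 (iv F25728)) (tt N14861 D14888) (tt N14854 (iv F25739)) (tt N14862 D14889))
theorem Q11816 : ∀ i, i < 11816 → P i := stepQ 11815 Q11815 (allL N11815 (tt N14861 (iv F25755)) (tt N9193 F19897) (tt N13910 (iv F23904)) (tt N9192 (iv D11818)) (tt N14863 D14890) (tt N9209 (iv F19898)))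
theorem Q11817 : ∀ i, i < 11817 → P i := stepQ 11816 Q11816 (allL N11816 (tt N14862 (iv F25758)) (tt N9194 F19899) (tt N14849 (iv F25731)) (tt N9209 F19900) (tt N14864 D14891) (tt N9192 (iv D11819)))
theorem Q11818 : ∀ i, i < 11818 → P i := stepQ 11817 Q11817 (allL N11817 (tt N9227 F19901) (tt N14863 (iv F25761)) (tt N9210 F19902) (tt N14689 (iv F25397)) (tt N9193 (iv D11820)) (tt N9423 F19903))
theorem Q11819 : ∀ i, i < 11819 → P i := stepQ 11818 Q11818 (allL N11818 (tt N9226 F19904) (tt N14864 (iv F25763)) (tt N9195 F19905) (tt N9422 F19906) (tt N9194 (iv D11821)) (tt N14690 (iv F25401)))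
theorem Q11820 : ∀ i, i < 11820 → P i := stepQ 11819 Q11819 (allL N11819 (tt N14829 (iv F25692)) (tt N13097 (iv F22276)) (tt N14865 D14892) (tt N9195 (iv D11822)) (tt N9196 F19907) (tt N14857 (iv F25745)))
theorem Q11821 : ∀ i, i < 11821 → P i := stepQ 11820 Q11820 (allL N11820 (tt N14830 (iv F25696)) (tt N14866 D14893) (tt N9196 (iv D11823)) (tt N9643 F19909) (tt N14865 (iv F25766)) (tt N9197 F19908))
theorem Q11822 : ∀ i, i < 11822 → P i := stepQ 11821 Q11821 (allL N11821 (tt N14867 D14894) (tt N9197 (iv D11824)) (tt N13094 (iv F22269)) (tt N14868 D14895) (tt N14859 (iv F25750)) (tt N14866 (iv F25770)))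
theorem Q11823 : ∀ i, i < 11823 → P i := stepQ 11822 Q11822 (allL N11822 (tt N14832 (iv F25701)) (tt N14868 (iv F25771)) (tt N9644 F19911) (tt N9197 (iv D11825)) (tt N14869 D14896) (tt N9643 F19910))
theorem Q11824 : ∀ i, i < 11824 → P i := stepQ 11823 Q11823 (allL N11823 (tt N9644 F19912) (tt N12957 (iv F21975)) (tt N14832 (iv F25702)) (tt N9198 (iv D11826)) (tt N14870 D14897) (tt N9200 F19913))
theorem Q11825 : ∀ i, i < 11825 → P i := stepQ 11824 Q11824 (allL N11824 (tt N9643 F19914) (tt N14796 (iv F25633)) (tt N9200 (iv D11827)) (tt N14830 (iv F25697)) (tt N9618 F19915) (tt N14832 (iv F25703)))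
theorem Q11826 : ∀ i, i < 11826 → P i := stepQ 11825 Q11825 (allL N11825 (tt N14871 D14898) (tt N9202 (iv D11828)) (tt N14777 (iv F25603)) (tt N14872 D14899) (tt N13089 (iv F22257)) (tt N14873 D14900))
theorem Q11827 : ∀ i, i < 11827 → P i := stepQ 11826 Q11826 (allL N11826 (tt N9205 F19916) (tt N14872 (iv F25783)) (tt N14852 (iv F25736)) (tt N9202 (iv D11829)) (tt N14874 D14901) (tt N14850 F25734))
theorem Q11828 : ∀ i, i < 11828 → P i := stepQ 11827 Q11827 (allL N11827 (tt N9206 F19917) (tt N14873 (iv F25785)) (tt N9203 F19918) (tt N14850 (iv F25733)) (tt N12934 (iv F21926)) (tt N9202 (iv D11830)))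
theorem Q11829 : ∀ i, i < 11829 → P i := stepQ 11828 Q11828 (allL N11828 (tt N9204 (iv D11831)) (tt N14871 (iv F25781)) (tt N9207 F19919) (tt N12705 (iv F21479)) (tt N13098 (iv F22279)) (tt N9402 F19920))
theorem Q11830 : ∀ i, i < 11830 → P i := stepQ 11829 Q11829 (allL N11829 (tt N12705 (iv F21478)) (tt N9205 F19921) (tt N12700 (iv F21470)) (tt N9204 (iv D11832)) (tt N14875 D14902) (tt N9403 F19922))
theorem Q11831 : ∀ i, i < 11831 → P i := stepQ 11830 Q11830 (allL N11830 (tt N14852 (iv F25735)) (tt N14876 D14903) (tt N9205 (iv D11833)) (tt N14837 (iv F25714)) (tt N14877 D14904) (tt N14836 F25711))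
theorem Q11832 : ∀ i, i < 11832 → P i := stepQ 11831 Q11831 (allL N11831 (tt N14874 (iv F25786)) (tt N14875 (iv F25787)) (tt N14877 (iv F25788)) (tt N13100 (iv F22283)) (tt N9205 (iv D11834)) (tt N14878 D14905))
theorem Q11833 : ∀ i, i < 11833 → P i := stepQ 11832 Q11832 (allL N11832 (tt N14850 (iv F25732)) (tt N9403 F19923) (tt N14836 (iv F25710)) (tt N9206 F19924) (tt N14879 D14906) (tt N9205 (iv D11835)))
theorem Q11834 : ∀ i, i < 11834 → P i := stepQ 11833 Q11833 (allL N11833 (tt N9209 (iv D11836)) (tt N9223 F19925) (tt N13911 (iv F23906)) (tt N14862 (iv F25760)) (tt N9419 F19926) (tt N14861 F25757))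
theorem Q11835 : ∀ i, i < 11835 → P i := stepQ 11834 Q11834 (allL N11834 (tt N13501 (iv F22972)) (tt N9211 (iv D11837)) (tt N9383 F19927) (tt N14880 D14907) (tt N9652 F19928) (tt N9212 F19929))
theorem Q11836 : ∀ i, i < 11836 → P i := stepQ 11835 Q11835 (allL N11835 (tt N9232 F19930) (tt N14880 (iv F25790)) (tt N9231 F19931) (tt N9211 (iv D11838)) (tt N14881 D14908) (tt N9213 F19932))
theorem Q11837 : ∀ i, i < 11837 → P i := stepQ 11836 Q11836 (allL N11836 (tt N9212 (iv D11839)) (tt N9233 F19933) (tt N9381 F19934) (tt N14882 D14909) (tt N9214 F19935) (tt N13501 (iv F22975)))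
theorem Q11838 : ∀ i, i < 11838 → P i := stepQ 11837 Q11837 (allL N11837 (tt N14882 (iv F25796)) (tt N9213 F19936) (tt N14883 D14910) (tt N9212 (iv D11840)) (tt N9653 F19937) (tt N14880 (iv F25791)))
theorem Q11839 : ∀ i, i < 11839 → P i := stepQ 11838 Q11838 (allL N11838 (tt N9235 F19938) (tt N14884 D14911) (tt N9213 (iv D11841)) (tt N9229 F19939) (tt N9654 F19940) (tt N9231 F19941))
theorem Q11840 : ∀ i, i < 11840 → P i := stepQ 11839 Q11839 (allL N11839 (tt N14885 D14912) (tt N9215 (iv D11842)) (tt N9221 F19942) (tt N14886 D14913) (tt N9217 F19943) (tt N9577 (iv F19944)))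
theorem Q11841 : ∀ i, i < 11841 → P i := stepQ 11840 Q11840 (allL N11840 (tt N12669 (iv F21422)) (tt N14886 (iv F25806)) (tt N13810 (iv F23697)) (tt N9215 (iv D11843)) (tt N14887 D14914) (tt N13808 F23694))
theorem Q11842 : ∀ i, i < 11842 → P i := stepQ 11841 Q11841 (allL N11841 (tt N12670 (iv F21423)) (tt N9577 F19945) (tt N9216 F19946) (tt N13808 (iv F23692)) (tt N14888 D14915) (tt N9215 (iv D11844)))
theorem Q11843 : ∀ i, i < 11843 → P i := stepQ 11842 Q11842 (allL N11842 (tt N12671 (iv F21425)) (tt N9222 F19947) (tt N14888 (iv F25810)) (tt N9360 F19948) (tt N9216 (iv D11845)) (tt N9220 F19949))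
theorem Q11844 : ∀ i, i < 11844 → P i := stepQ 11843 Q11843 (allL N11843 (tt N9217 (iv D11846)) (tt N12672 (iv F21429)) (tt N9223 F19950) (tt N14889 D14916) (tt N14885 (iv F25804)) (tt N14890 D14917))
theorem Q11845 : ∀ i, i < 11845 → P i := stepQ 11844 Q11844 (allL N11844 (tt N14889 (iv F25812)) (tt N9218 F19951) (tt N14891 D14918) (tt N9217 (iv D11847)) (tt N14892 D14919) (tt N12677 (iv F21439)))
theorem Q11846 : ∀ i, i < 11846 → P i := stepQ 11845 Q11845 (allL N11845 (tt N14890 (iv F25813)) (tt N9219 F19952) (tt N9225 F19953) (tt N12677 (iv F21438)) (tt N14893 D14920) (tt N9217 (iv D11848)))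
theorem Q11847 : ∀ i, i < 11847 → P i := stepQ 11846 Q11846 (allL N11846 (tt N12675 (iv F21434)) (tt N14892 (iv F25815)) (tt N12680 (iv F21445)) (tt N14887 (iv F25808)) (tt N9218 (iv D11849)) (tt N14894 D14921))
theorem Q11848 : ∀ i, i < 11848 → P i := stepQ 11847 Q11847 (allL N11847 (tt N12676 (iv F21436)) (tt N14893 (iv F25816)) (tt N9220 F19954) (tt N14895 D14922) (tt N9219 (iv D11850)) (tt N14888 (iv F25811)))
theorem Q11849 : ∀ i, i < 11849 → P i := stepQ 11848 Q11848 (allL N11848 (tt N9221 (iv D11851)) (tt N9419 F19955) (tt N14885 (iv F25803)) (tt N9576 F19956) (tt N9223 F19957) (tt N9575 F19958))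
theorem Q11850 : ∀ i, i < 11850 → P i := stepQ 11849 Q11849 (allL N11849 (tt N9224 F19959) (tt N14862 (iv F25759)) (tt N14896 D14923) (tt N9223 (iv D11852)) (tt N14897 D14924) (tt N14828 (iv F25691)))
theorem Q11851 : ∀ i, i < 11851 → P i := stepQ 11850 Q11850 (allL N11850 (tt N9225 F19960) (tt N14861 (iv F25756)) (tt N14890 (iv F25814)) (tt N14828 (iv F25690)) (tt N14898 D14925) (tt N9223 (iv D11853)))
theorem Q11852 : ∀ i, i < 11852 → P i := stepQ 11851 Q11851 (allL N11851 (tt N14896 (iv F25819)) (tt N14822 (iv F25678)) (tt N9224 (iv D11854)) (tt N14899 D14926) (tt N14900 D14927) (tt N14820 F25677))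
theorem Q11853 : ∀ i, i < 11853 → P i := stepQ 11852 Q11852 (allL N11852 (tt N14897 (iv F25820)) (tt N9226 F19961) (tt N14900 (iv F25824)) (tt N9579 F19962) (tt N9224 (iv D11855)) (tt N14901 D14928))
theorem Q11854 : ∀ i, i < 11854 → P i := stepQ 11853 Q11853 (allL N11853 (tt N14898 (iv F25822)) (tt N9227 F19963) (tt N14893 (iv F25817)) (tt N14902 D14929) (tt N9225 (iv D11856)) (tt N9578 F19964))
theorem Q11855 : ∀ i, i < 11855 → P i := stepQ 11854 Q11854 (allL N11854 (tt N14690 (iv F25399)) (tt N14901 (iv F25833)) (tt N14827 (iv F25686)) (tt N9570 F19965) (tt N14661 (iv F25343)) (tt N9226 (iv D11857)))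
theorem Q11856 : ∀ i, i < 11856 → P i := stepQ 11855 Q11855 (allL N11855 (tt N14689 (iv F25396)) (tt N14902 (iv F25835)) (tt N14663 (iv F25349)) (tt N9227 (iv D11858)) (tt N14662 (iv F25348)) (tt N9569 F19966))
theorem Q11857 : ∀ i, i < 11857 → P i := stepQ 11856 Q11856 (allL N11856 (tt N13893 (iv F23877)) (tt N14903 D14930) (tt N9228 (iv D11859)) (tt N14904 D14931) (tt N9229 F19967) (tt N13888 (iv F23865)))
theorem Q11858 : ∀ i, i < 11858 → P i := stepQ 11857 Q11857 (allL N11857 (tt N14905 D14932) (tt N9229 (iv D11860)) (tt N9363 F19968) (tt N14884 (iv F25800)) (tt N14903 (iv F25838)) (tt N9230 F19969))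
theorem Q11859 : ∀ i, i < 11859 → P i := stepQ 11858 Q11858 (allL N11858 (tt N9230 (iv D11861)) (tt N13889 (iv F23866)) (tt N9361 F19970) (tt N14906 D14933) (tt N13886 (iv F23859)) (tt N14905 (iv F25841)))
theorem Q11860 : ∀ i, i < 11860 → P i := stepQ 11859 Q11859 (allL N11859 (tt N14906 (iv F25842)) (tt N9231 F19971) (tt N14907 D14934) (tt N9230 (iv D11862)) (tt N14908 D14935) (tt N14884 (iv F25802)))
theorem Q11861 : ∀ i, i < 11861 → P i := stepQ 11860 Q11860 (allL N11860 (tt N13892 (iv F23874)) (tt N14908 (iv F25843)) (tt N14881 (iv F25793)) (tt N13761 (iv F23611)) (tt N9231 (iv D11863)) (tt N14909 D14936))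
theorem Q11862 : ∀ i, i < 11862 → P i := stepQ 11861 Q11861 (allL N11861 (tt N14881 (iv F25792)) (tt N13504 (iv F22979)) (tt N13892 (iv F23875)) (tt N14870 (iv F25779)) (tt N9232 (iv D11864)) (tt N14910 D14937))
theorem Q11863 : ∀ i, i < 11863 → P i := stepQ 11862 Q11862 (allL N11862 (tt N9234 F19972) (tt N14882 (iv F25797)) (tt N13489 (iv F22963)) (tt N9233 (iv D11865)) (tt N14911 D14938) (tt N13502 (iv F22977)))
theorem Q11864 : ∀ i, i < 11864 → P i := stepQ 11863 Q11863 (allL N11863 (tt N13489 (iv F22962)) (tt N14912 D14939) (tt N9234 (iv D11866)) (tt N13486 (iv F22958)) (tt N14913 D14940) (tt N13503 (iv F22978)))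
theorem Q11865 : ∀ i, i < 11865 → P i := stepQ 11864 Q11864 (allL N11864 (tt N14911 (iv F25849)) (tt N9236 F19973) (tt N14913 (iv F25853)) (tt N9239 F19974) (tt N9234 (iv D11867)) (tt N14914 D14941))
theorem Q11866 : ∀ i, i < 11866 → P i := stepQ 11865 Q11865 (allL N11865 (tt N14915 D14942) (tt N9235 (iv D11868)) (tt N14912 (iv F25852)) (tt N13891 (iv F23873)) (tt N14916 D14943) (tt N13890 F23870))
theorem Q11867 : ∀ i, i < 11867 → P i := stepQ 11866 Q11866 (allL N11866 (tt N9654 F19975) (tt N14916 (iv F25856)) (tt N9236 F19976) (tt N14668 (iv F25364)) (tt N9235 (iv D11869)) (tt N14670 (iv F25369)))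
theorem Q11868 : ∀ i, i < 11868 → P i := stepQ 11867 Q11867 (allL N11867 (tt N9646 F19977) (tt N14914 (iv F25854)) (tt N14670 (iv F25368)) (tt N9240 F19978) (tt N14910 (iv F25848)) (tt N9236 (iv D11870)))
theorem Q11869 : ∀ i, i < 11869 → P i := stepQ 11868 Q11868 (allL N11868 (tt N9238 F19979) (tt N14629 (iv F25261)) (tt N9237 (iv D11871)) (tt N13306 (iv F22661)) (tt N14917 D14944) (tt N9611 F19980))
theorem Q11870 : ∀ i, i < 11870 → P i := stepQ 11869 Q11869 (allL N11869 (tt N9239 F19981) (tt N9649 F19982) (tt N14917 (iv F25859)) (tt N14911 (iv F25851)) (tt N9237 (iv D11872)) (tt N14918 D14945))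
theorem Q11871 : ∀ i, i < 11871 → P i := stepQ 11870 Q11870 (allL N11870 (tt N14917 (iv F25857)) (tt N9614 F19983) (tt N9239 F19984) (tt N14919 D14946) (tt N9238 (iv D11873)) (tt N14920 D14947))
theorem Q11872 : ∀ i, i < 11872 → P i := stepQ 11871 Q11871 (allL N11871 (tt N14918 (iv F25860)) (tt N9240 F19985) (tt N14920 (iv F25865)) (tt N14914 (iv F25855)) (tt N9617 F19986) (tt N9239 (iv D11874)))
theorem Q11873 : ∀ i, i < 11873 → P i := stepQ 11872 Q11872 (allL N11872 (tt N14921 D14948) (tt N9241 (iv D11875)) (tt N13263 (iv F22576)) (tt N12674 (iv F21433)) (tt N14922 D14949) (tt N12673 F21431))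
theorem Q11874 : ∀ i, i < 11874 → P i := stepQ 11873 Q11873 (allL N11873 (tt N12678 (iv F21440)) (tt N14922 (iv F25867)) (tt N9242 F19987) (tt N14923 D14950) (tt N9241 (iv D11876)) (tt N14924 D14951))
theorem Q11875 : ∀ i, i < 11875 → P i := stepQ 11874 Q11874 (allL N11874 (tt N12679 (iv F21442)) (tt N13262 (iv F22573)) (tt N14924 (iv F25870)) (tt N9366 F19988) (tt N14925 D14952) (tt N9242 (iv D11877)))
theorem Q11876 : ∀ i, i < 11876 → P i := stepQ 11875 Q11875 (allL N11875 (tt N12680 (iv F21444)) (tt N13266 (iv F22578)) (tt N12675 (iv F21435)) (tt N13198 (iv F22430)) (tt N9243 (iv D11878)) (tt N14925 (iv F25872)))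
theorem Q11877 : ∀ i, i < 11877 → P i := stepQ 11876 Q11876 (allL N11876 (tt N13294 (iv F22633)) (tt N9244 (iv D11879)) (tt N13418 (iv F22863)) (tt N13467 (iv F22931)) (tt N14926 D14953) (tt N13291 F22628))
theorem Q11878 : ∀ i, i < 11878 → P i := stepQ 11877 Q11877 (allL N11877 (tt N9246 F19989) (tt N13467 (iv F22930)) (tt N9612 F19990) (tt N9244 (iv D11880)) (tt N14927 D14954) (tt N13303 (iv F22656)))
theorem Q11879 : ∀ i, i < 11879 → P i := stepQ 11878 Q11878 (allL N11878 (tt N9247 F19991) (tt N14926 (iv F25873)) (tt N9245 F19992) (tt N14928 D14955) (tt N9244 (iv D11881)) (tt N12946 (iv F21951)))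
theorem Q11880 : ∀ i, i < 11880 → P i := stepQ 11879 Q11879 (allL N11879 (tt N9612 F19993) (tt N14632 (iv F25271)) (tt N9246 (iv D11882)) (tt N9611 F19994) (tt N14608 F25203) (tt N13306 (iv F22662)))
theorem Q11881 : ∀ i, i < 11881 → P i := stepQ 11880 Q11880 (allL N11880 (tt N14927 (iv F25874)) (tt N13316 (iv F22674)) (tt N14608 (iv F25204)) (tt N14929 D14956) (tt N9246 (iv D11883)) (tt N14930 D14957))
theorem Q11882 : ∀ i, i < 11882 → P i := stepQ 11881 Q11881 (allL N11881 (tt N14928 (iv F25876)) (tt N13317 (iv F22675)) (tt N14931 D14958) (tt N9247 (iv D11884)) (tt N14929 (iv F25877)) (tt N12949 (iv F21957)))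
theorem Q11883 : ∀ i, i < 11883 → P i := stepQ 11882 Q11882 (allL N11882 (tt N13397 (iv F22828)) (tt N9249 F19995) (tt N13391 (iv F22816)) (tt N12537 F21206) (tt N10025 F19996) (tt N9248 (iv D11885)))
theorem Q11884 : ∀ i, i < 11884 → P i := stepQ 11883 Q11883 (allL N11883 (tt N9271 F19997) (tt N10025 F19998) (tt N9265 F19999) (tt N12540 (iv F21215)) (tt N9249 (iv D11886)) (tt N9250 F20000))
theorem Q11885 : ∀ i, i < 11885 → P i := stepQ 11884 Q11884 (allL N11884 (tt N9270 F20001) (tt N10024 F20002) (tt N14932 D14959) (tt N9250 (iv D11887)) (tt N9251 F20003) (tt N12540 (iv F21216)))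
theorem Q11886 : ∀ i, i < 11886 → P i := stepQ 11885 Q11885 (allL N11885 (tt N13849 (iv F23784)) (tt N14933 D14960) (tt N9251 (iv D11888)) (tt N11074 F20004) (tt N14932 (iv F25881)) (tt N12539 F21211))
theorem Q11887 : ∀ i, i < 11887 → P i := stepQ 11886 Q11886 (allL N11886 (tt N14934 D14961) (tt N9252 (iv D11889)) (tt N9261 F20005) (tt N14935 D14962) (tt N9253 F20006) (tt N11054 F20007))
theorem Q11888 : ∀ i, i < 11888 → P i := stepQ 11887 Q11887 (allL N11887 (tt N9772 F20008) (tt N14935 (iv F25889)) (tt N13861 (iv F23801)) (tt N9252 (iv D11890)) (tt N14936 D14963) (tt N11056 F20009))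
theorem Q11889 : ∀ i, i < 11889 → P i := stepQ 11888 Q11888 (allL N11888 (tt N9253 (iv D11891)) (tt N9762 F20010) (tt N9262 F20011) (tt N14937 D14964) (tt N14934 (iv F25887)) (tt N9502 F20012))
theorem Q11890 : ∀ i, i < 11890 → P i := stepQ 11889 Q11889 (allL N11889 (tt N14937 (iv F25894)) (tt N9254 F20013) (tt N14938 D14965) (tt N9253 (iv D11892)) (tt N14939 D14966) (tt N9503 F20014))
theorem Q11891 : ∀ i, i < 11891 → P i := stepQ 11890 Q11890 (allL N11890 (tt N9506 F20015) (tt N14939 (iv F25899)) (tt N9493 F20016) (tt N14936 (iv F25892)) (tt N9254 (iv D11893)) (tt N14940 D14967))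
theorem Q11892 : ∀ i, i < 11892 → P i := stepQ 11891 Q11891 (allL N11891 (tt N9257 F20017) (tt N14941 D14968) (tt N9255 (iv D11894)) (tt N12283 (iv F20779)) (tt N10022 F20018) (tt N14942 D14969))
theorem Q11893 : ∀ i, i < 11893 → P i := stepQ 11892 Q11892 (allL N11892 (tt N9258 F20019) (tt N10032 F20020) (tt N14942 (iv F25907)) (tt N9256 F20021) (tt N14943 D14970) (tt N9255 (iv D11895)))
theorem Q11894 : ∀ i, i < 11894 → P i := stepQ 11893 Q11893 (allL N11893 (tt N14944 D14971) (tt N9257 (iv D11896)) (tt N9259 F20022) (tt N14945 D14972) (tt N10028 F20023) (tt N10040 (iv F20024)))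
theorem Q11895 : ∀ i, i < 11895 → P i := stepQ 11894 Q11894 (allL N11894 (tt N12283 (iv F20778)) (tt N14945 (iv F25915)) (tt N12282 (iv F20777)) (tt N9257 (iv D11897)) (tt N14946 D14973) (tt N14947 D14974))
theorem Q11896 : ∀ i, i < 11896 → P i := stepQ 11895 Q11895 (allL N11895 (tt N14942 (iv F25906)) (tt N10040 F20025) (tt N9258 F20026) (tt N14947 (iv F25919)) (tt N14948 D14975) (tt N9257 (iv D11898)))
theorem Q11897 : ∀ i, i < 11897 → P i := stepQ 11896 Q11896 (allL N11896 (tt N14943 (iv F25908)) (tt N9260 F20027) (tt N14948 (iv F25921)) (tt N10010 F20028) (tt N9258 (iv D11899)) (tt N10011 F20029))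
theorem Q11898 : ∀ i, i < 11898 → P i := stepQ 11897 Q11897 (allL N11897 (tt N9259 (iv D11900)) (tt N10037 F20030) (tt N14944 (iv F25912)) (tt N10039 F20031) (tt N10030 F20032) (tt N10038 F20033))
theorem Q11899 : ∀ i, i < 11899 → P i := stepQ 11898 Q11898 (allL N11898 (tt N9261 (iv D11901)) (tt N9779 F20034) (tt N14934 (iv F25886)) (tt N12810 (iv F21654)) (tt N9262 F20035) (tt N12811 (iv F21657)))
theorem Q11900 : ∀ i, i < 11900 → P i := stepQ 11899 Q11899 (allL N11899 (tt N13364 (iv F22751)) (tt N10023 F20036) (tt N9264 F20037) (tt N14949 D14976) (tt N9263 (iv D11902)) (tt N14950 D14977))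
theorem Q11901 : ∀ i, i < 11901 → P i := stepQ 11900 Q11900 (allL N11900 (tt N14659 (iv F25336)) (tt N9265 F20038) (tt N14950 (iv F25925)) (tt N10043 F20039) (tt N14711 (iv F25452)) (tt N9264 (iv D11903)))
theorem Q11902 : ∀ i, i < 11902 → P i := stepQ 11901 Q11901 (allL N11901 (tt N9494 F20040) (tt N9267 F20041) (tt N14951 D14978) (tt N9266 (iv D11904)) (tt N14952 D14979) (tt N9501 F20042))
theorem Q11903 : ∀ i, i < 11903 → P i := stepQ 11902 Q11902 (allL N11902 (tt N9272 F20043) (tt N14952 (iv F25930)) (tt N9504 F20044) (tt N9669 F20045) (tt N9267 (iv D11905)) (tt N14953 D14980))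
theorem Q11904 : ∀ i, i < 11904 → P i := stepQ 11903 Q11903 (allL N11903 (tt N9269 F20046) (tt N10019 F20047) (tt N13369 (iv F22768)) (tt N14954 D14981) (tt N9268 (iv D11906)) (tt N14955 D14982))
theorem Q11905 : ∀ i, i < 11905 → P i := stepQ 11904 Q11904 (allL N11904 (tt N14954 (iv F25936)) (tt N9270 F20048) (tt N14956 D14983) (tt N9269 (iv D11907)) (tt N13848 (iv F23782)) (tt N14957 D14984))
theorem Q11906 : ∀ i, i < 11906 → P i := stepQ 11905 Q11905 (allL N11905 (tt N14955 (iv F25939)) (tt N9271 F20049) (tt N14640 (iv F25295)) (tt N14957 (iv F25942)) (tt N13847 (iv F23779)) (tt N9269 (iv D11908)))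
theorem Q11907 : ∀ i, i < 11907 → P i := stepQ 11906 Q11906 (allL N11906 (tt N14932 (iv F25879)) (tt N14958 D14985) (tt N9270 (iv D11909)) (tt N10123 F20050) (tt N13849 (iv F23785)) (tt N10125 (iv F20051)))
theorem Q11908 : ∀ i, i < 11908 → P i := stepQ 11907 Q11907 (allL N11907 (tt N12540 (iv F21213)) (tt N14957 (iv F25941)) (tt N10125 F20052) (tt N9271 F20053) (tt N12528 (iv F21192)) (tt N9270 (iv D11910)))
theorem Q11909 : ∀ i, i < 11909 → P i := stepQ 11908 Q11908 (allL N11908 (tt N14953 (iv F25932)) (tt N9499 F20054) (tt N9771 F20055) (tt N9672 F20056) (tt N9507 F20057) (tt N9272 (iv D11911)))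
theorem Q11910 : ∀ i, i < 11910 → P i := stepQ 11909 Q11909 (allL N11909 (tt N9277 F20058) (tt N14959 D14986) (tt N9273 (iv D11912)) (tt N14960 D14987) (tt N10118 F20059) (tt N9620 F20060))
theorem Q11911 : ∀ i, i < 11911 → P i := stepQ 11910 Q11910 (allL N11910 (tt N10114 F20061) (tt N13090 (iv F22260)) (tt N14961 D14988) (tt N9274 (iv D11913)) (tt N13406 (iv F22839)) (tt N14962 D14989))
theorem Q11912 : ∀ i, i < 11912 → P i := stepQ 11911 Q11911 (allL N11911 (tt N10115 F20062) (tt N13091 (iv F22263)) (tt N9276 F20063) (tt N14962 (iv F25956)) (tt N14840 (iv F25721)) (tt N9274 (iv D11914)))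
theorem Q11913 : ∀ i, i < 11913 → P i := stepQ 11912 Q11912 (allL N11912 (tt N10118 F20064) (tt N9595 F20065) (tt N9275 (iv D11915)) (tt N14963 D14990) (tt N9277 F20066) (tt N14964 D14991))
theorem Q11914 : ∀ i, i < 11914 → P i := stepQ 11913 Q11913 (allL N11913 (tt N10119 F20067) (tt N9278 F20068) (tt N14964 (iv F25961)) (tt N9276 F20069) (tt N9624 F20070) (tt N9275 (iv D11916)))
theorem Q11915 : ∀ i, i < 11915 → P i := stepQ 11914 Q11914 (allL N11914 (tt N14960 (iv F25950)) (tt N9594 F20071) (tt N14960 (iv F25952)) (tt N9277 (iv D11917)) (tt N14433 (iv F24869)) (tt N9622 F20072))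
theorem Q11916 : ∀ i, i < 11916 → P i := stepQ 11915 Q11915 (allL N11915 (tt N14965 D14992) (tt N9279 (iv D11918)) (tt N14959 (iv F25946)) (tt N9670 F20073) (tt N10120 F20074) (tt N9655 F20075))
theorem Q11917 : ∀ i, i < 11917 → P i := stepQ 11916 Q11916 (allL N11916 (tt N14966 D14993) (tt N9280 (iv D11919)) (tt N9289 F20076) (tt N14746 (iv F25537)) (tt N9282 F20077) (tt N14745 F25535))
theorem Q11918 : ∀ i, i < 11918 → P i := stepQ 11917 Q11917 (allL N11917 (tt N9282 (iv D11920)) (tt N14965 (iv F25963)) (tt N9292 F20078) (tt N14967 D14994) (tt N14966 (iv F25970)) (tt N9658 F20079))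
theorem Q11919 : ∀ i, i < 11919 → P i := stepQ 11918 Q11918 (allL N11918 (tt N14967 (iv F25971)) (tt N9283 F20080) (tt N14968 D14995) (tt N9282 (iv D11921)) (tt N14969 D14996) (tt N9659 F20081))
theorem Q11920 : ∀ i, i < 11920 → P i := stepQ 11919 Q11919 (allL N11919 (tt N9671 F20082) (tt N14969 (iv F25979)) (tt N9669 F20083) (tt N12263 (iv F20746)) (tt N9283 (iv D11922)) (tt N12256 (iv F20735)))
theorem Q11921 : ∀ i, i < 11921 → P i := stepQ 11920 Q11920 (allL N11920 (tt N9285 F20084) (tt N13085 (iv F22244)) (tt N14970 D14997) (tt N9284 (iv D11923)) (tt N13083 (iv F22238)) (tt N14971 D14998))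
theorem Q11922 : ∀ i, i < 11922 → P i := stepQ 11921 Q11921 (allL N11921 (tt N9286 F20085) (tt N13086 (iv F22247)) (tt N10112 F20086) (tt N14971 (iv F25985)) (tt N14815 (iv F25668)) (tt N9284 (iv D11924)))
theorem Q11923 : ∀ i, i < 11923 → P i := stepQ 11922 Q11922 (allL N11922 (tt N14970 (iv F25980)) (tt N14972 D14999) (tt N9285 (iv D11925)) (tt N11196 F20087) (tt N14825 (iv F25683)) (tt N11195 (iv F20088)))
theorem Q11924 : ∀ i, i < 11924 → P i := stepQ 11923 Q11923 (allL N11923 (tt N14971 (iv F25983)) (tt N9288 F20089) (tt N11195 F20090) (tt N9286 F20091) (tt N14973 D15000) (tt N9285 (iv D11926)))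
theorem Q11925 : ∀ i, i < 11925 → P i := stepQ 11924 Q11924 (allL N11924 (tt N14974 D15001) (tt N9287 (iv D11927)) (tt N14972 (iv F25986)) (tt N14975 D15002) (tt N14831 (iv F25700)) (tt N14976 D15003))
theorem Q11926 : ∀ i, i < 11926 → P i := stepQ 11925 Q11925 (allL N11925 (tt N14860 (iv F25751)) (tt N14975 (iv F25991)) (tt N9591 F20092) (tt N9287 (iv D11928)) (tt N14977 D15004) (tt N9590 (iv F20093)))
theorem Q11927 : ∀ i, i < 11927 → P i := stepQ 11926 Q11926 (allL N11926 (tt N14858 (iv F25746)) (tt N14976 (iv F25993)) (tt N9288 F20094) (tt N9590 F20095) (tt N14978 D15005) (tt N9287 (iv D11929)))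
theorem Q11928 : ∀ i, i < 11928 → P i := stepQ 11927 Q11927 (allL N11927 (tt N14857 (iv F25742)) (tt N14973 (iv F25989)) (tt N14978 (iv F26001)) (tt N14827 (iv F25687)) (tt N9288 (iv D11930)) (tt N14829 (iv F25694)))
theorem Q11929 : ∀ i, i < 11929 → P i := stepQ 11928 Q11928 (allL N11928 (tt N9289 (iv D11931)) (tt N9593 F20096) (tt N14966 (iv F25969)) (tt N14979 D15006) (tt N9292 F20097) (tt N14980 D15007))
theorem Q11930 : ∀ i, i < 11930 → P i := stepQ 11929 Q11929 (allL N11929 (tt N14979 (iv F26004)) (tt N9290 F20098) (tt N14981 D15008) (tt N9289 (iv D11932)) (tt N9551 F20099) (tt N14982 D15009))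
theorem Q11931 : ∀ i, i < 11931 → P i := stepQ 11930 Q11930 (allL N11930 (tt N14980 (iv F26007)) (tt N9291 F20100) (tt N14745 F25534) (tt N14982 (iv F26012)) (tt N9665 F20101) (tt N9289 (iv D11933)))
theorem Q11932 : ∀ i, i < 11932 → P i := stepQ 11931 Q11931 (allL N11931 (tt N9590 F20102) (tt N14983 D15010) (tt N9290 (iv D11934)) (tt N14858 (iv F25747)) (tt N9552 F20103) (tt N14860 (iv F25753)))
theorem Q11933 : ∀ i, i < 11933 → P i := stepQ 11932 Q11932 (allL N11932 (tt N9591 F20104) (tt N14982 (iv F26011)) (tt N14860 (iv F25752)) (tt N9291 F20105) (tt N14984 D15011) (tt N9290 (iv D11935)))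
theorem Q11934 : ∀ i, i < 11934 → P i := stepQ 11933 Q11933 (allL N11933 (tt N9488 F20106) (tt N11005 F20107) (tt N9296 F20108) (tt N9483 (iv F20109)) (tt N9295 (iv D11936)) (tt N9482 F20110))
theorem Q11935 : ∀ i, i < 11935 → P i := stepQ 11934 Q11934 (allL N11934 (tt N9489 F20111) (tt N9424 F20112) (tt N9482 F20113) (tt N9462 F20114) (tt N9672 F20115) (tt N9296 (iv D11937)))
theorem Q11936 : ∀ i, i < 11936 → P i := stepQ 11935 Q11935 (allL N11935 (tt N10044 F20116) (tt N9299 F20117) (tt N14985 D15012) (tt N9297 (iv D11938)) (tt N9298 F20118) (tt N14986 D15013))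
theorem Q11937 : ∀ i, i < 11937 → P i := stepQ 11936 Q11936 (allL N11936 (tt N10045 F20119) (tt N9300 F20120) (tt N14815 (iv F25667)) (tt N14986 (iv F26022)) (tt N10112 F20121) (tt N9297 (iv D11939)))
theorem Q11938 : ∀ i, i < 11938 → P i := stepQ 11937 Q11937 (allL N11937 (tt N10113 F20122) (tt N14987 D15014) (tt N9298 (iv D11940)) (tt N14988 D15015) (tt N14985 (iv F26019)) (tt N9315 F20123))
theorem Q11939 : ∀ i, i < 11939 → P i := stepQ 11938 Q11938 (allL N11938 (tt N9305 F20124) (tt N14989 D15016) (tt N9299 (iv D11941)) (tt N14990 D15017) (tt N9301 F20125) (tt N14991 D15018))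
theorem Q11940 : ∀ i, i < 11940 → P i := stepQ 11939 Q11939 (allL N11939 (tt N9306 F20126) (tt N14986 (iv F26021)) (tt N14991 (iv F26033)) (tt N9300 F20127) (tt N9317 F20128) (tt N9299 (iv D11942)))
theorem Q11941 : ∀ i, i < 11941 → P i := stepQ 11940 Q11940 (allL N11940 (tt N14992 D15019) (tt N9301 (iv D11943)) (tt N14987 (iv F26024)) (tt N9307 F20129) (tt N14989 (iv F26029)) (tt N9318 F20130))
theorem Q11942 : ∀ i, i < 11942 → P i := stepQ 11941 Q11941 (allL N11941 (tt N14839 (iv F25716)) (tt N9303 F20131) (tt N14993 D15020) (tt N9302 (iv D11944)) (tt N13411 (iv F22848)) (tt N14994 D15021))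
theorem Q11943 : ∀ i, i < 11943 → P i := stepQ 11942 Q11942 (allL N11942 (tt N14840 (iv F25718)) (tt N9304 F20132) (tt N10043 F20133) (tt N14994 (iv F26039)) (tt N10115 F20134) (tt N9302 (iv D11945)))
theorem Q11944 : ∀ i, i < 11944 → P i := stepQ 11943 Q11943 (allL N11943 (tt N13432 (iv F22886)) (tt N14995 D15022) (tt N9303 (iv D11946)) (tt N14996 D15023) (tt N13415 (iv F22858)) (tt N14997 D15024))
theorem Q11945 : ∀ i, i < 11945 → P i := stepQ 11944 Q11944 (allL N11944 (tt N13431 (iv F22884)) (tt N14994 (iv F26038)) (tt N14997 (iv F26040)) (tt N9304 F20135) (tt N14998 D15025) (tt N9303 (iv D11947)))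
theorem Q11946 : ∀ i, i < 11946 → P i := stepQ 11945 Q11945 (allL N11945 (tt N14999 D15026) (tt N9305 (iv D11948)) (tt N10124 F20136) (tt N15000 D15027) (tt N9307 F20137) (tt N15001 D15028))
theorem Q11947 : ∀ i, i < 11947 → P i := stepQ 11946 Q11946 (allL N11946 (tt N14990 (iv F26030)) (tt N15000 (iv F26044)) (tt N15002 D15029) (tt N9305 (iv D11949)) (tt N14990 (iv F26031)) (tt N15003 D15030))
theorem Q11948 : ∀ i, i < 11948 → P i := stepQ 11947 Q11947 (allL N11947 (tt N14991 (iv F26032)) (tt N15001 (iv F26045)) (tt N9306 F20138) (tt N15003 (iv F26048)) (tt N9325 F20139) (tt N9305 (iv D11950)))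
theorem Q11949 : ∀ i, i < 11949 → P i := stepQ 11948 Q11948 (allL N11948 (tt N9307 (iv D11951)) (tt N14992 (iv F26035)) (tt N10126 F20140) (tt N14992 (iv F26036)) (tt N14999 (iv F26043)) (tt N9326 F20141))
theorem Q11950 : ∀ i, i < 11950 → P i := stepQ 11949 Q11949 (allL N11949 (tt N9310 F20142) (tt N15004 D15031) (tt N9309 (iv D11952)) (tt N9603 F20143) (tt N14496 (iv F24984)) (tt N9592 F20144))
theorem Q11951 : ∀ i, i < 11951 → P i := stepQ 11950 Q11950 (allL N11950 (tt N9603 F20145) (tt N9622 F20146) (tt N9602 F20147) (tt N9310 (iv D11953)) (tt N15005 D15032) (tt N9594 F20148))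
theorem Q11952 : ∀ i, i < 11952 → P i := stepQ 11951 Q11951 (allL N11951 (tt N14496 (iv F24983)) (tt N9623 F20149) (tt N9311 F20150) (tt N15006 D15033) (tt N9310 (iv D11954)) (tt N15007 D15034))
theorem Q11953 : ∀ i, i < 11953 → P i := stepQ 11952 Q11952 (allL N11952 (tt N14497 (iv F24985)) (tt N9312 F20151) (tt N15007 (iv F26058)) (tt N13723 (iv F23525)) (tt N9596 F20152) (tt N9311 (iv D11955)))
theorem Q11954 : ∀ i, i < 11954 → P i := stepQ 11953 Q11953 (allL N11953 (tt N13559 (iv F23132)) (tt N14472 (iv F24943)) (tt N9313 (iv D11956)) (tt N14471 F24941) (tt N9315 F20153) (tt N15008 D15035))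
theorem Q11955 : ∀ i, i < 11955 → P i := stepQ 11954 Q11954 (allL N11954 (tt N13560 (iv F23134)) (tt N9317 F20154) (tt N15008 (iv F26060)) (tt N9314 F20155) (tt N14986 (iv F26023)) (tt N9313 (iv D11957)))
theorem Q11956 : ∀ i, i < 11956 → P i := stepQ 11955 Q11955 (allL N11955 (tt N15009 D15036) (tt N9315 (iv D11958)) (tt N9318 F20156) (tt N15010 D15037) (tt N14472 F24945) (tt N14987 (iv F26025)))
theorem Q11957 : ∀ i, i < 11957 → P i := stepQ 11956 Q11956 (allL N11956 (tt N14731 (iv F25504)) (tt N15010 (iv F26065)) (tt N15011 D15038) (tt N9315 (iv D11959)) (tt N15012 D15039) (tt N14988 (iv F26028)))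
theorem Q11958 : ∀ i, i < 11958 → P i := stepQ 11957 Q11957 (allL N11957 (tt N15013 D15040) (tt N9316 (iv D11960)) (tt N14472 F24944) (tt N15014 D15041) (tt N9318 F20157) (tt N15015 D15042))
theorem Q11959 : ∀ i, i < 11959 → P i := stepQ 11958 Q11958 (allL N11958 (tt N9324 F20158) (tt N15014 (iv F26087)) (tt N15016 D15043) (tt N9316 (iv D11961)) (tt N9324 F20159) (tt N15017 D15044))
theorem Q11960 : ∀ i, i < 11960 → P i := stepQ 11959 Q11959 (allL N11959 (tt N9325 F20160) (tt N15015 (iv F26091)) (tt N9317 F20161) (tt N15017 (iv F26104)) (tt N14991 (iv F26034)) (tt N9316 (iv D11962)))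
theorem Q11961 : ∀ i, i < 11961 → P i := stepQ 11960 Q11960 (allL N11960 (tt N9318 (iv D11963)) (tt N9326 F20162) (tt N15009 (iv F26061)) (tt N9326 F20163) (tt N15013 (iv F26086)) (tt N14992 (iv F26037)))
theorem Q11962 : ∀ i, i < 11962 → P i := stepQ 11961 Q11961 (allL N11961 (tt N12962 (iv F21985)) (tt N15017 (iv F26102)) (tt N9319 (iv D11964)) (tt N15015 (iv F26092)) (tt N12958 (iv F21979)) (tt N15014 (iv F26090)))
theorem Q11963 : ∀ i, i < 11963 → P i := stepQ 11962 Q11962 (allL N11962 (tt N12963 (iv F21987)) (tt N9322 F20164) (tt N15014 (iv F26089)) (tt N9320 F20165) (tt N15018 D15045) (tt N9319 (iv D11965)))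
theorem Q11964 : ∀ i, i < 11964 → P i := stepQ 11963 Q11963 (allL N11963 (tt N13218 F26098) (tt N9321 (iv D11966)) (tt N15017 (iv F26103)) (tt N9321 F26099) (tt N13210 (iv F22445)) (tt N15016 F26100))
theorem Q11965 : ∀ i, i < 11965 → P i := stepQ 11964 Q11964 (allL N11964 (tt N13219 (iv F22469)) (tt N15016 (iv F26094)) (tt N9322 F20166) (tt N15016 (iv F26095)) (tt N15019 D15046) (tt N9321 (iv D11968)))
theorem Q11966 : ∀ i, i < 11966 → P i := stepQ 11965 Q11965 (allL N11965 (tt N13220 (iv F22472)) (tt N15018 (iv F26105)) (tt N15019 (iv F26108)) (tt N13454 (iv F22909)) (tt N9322 (iv D11969)) (tt N13213 (iv F22454)))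
theorem Q11967 : ∀ i, i < 11967 → P i := stepQ 11966 Q11966 (allL N11966 (tt N9323 (iv D11970)) (tt N15013 (iv F26084)) (tt N14733 (iv F25510)) (tt N15020 D15047) (tt N9326 F20167) (tt N15021 D15048))
theorem Q11968 : ∀ i, i < 11968 → P i := stepQ 11967 Q11967 (allL N11967 (tt N15020 (iv F26109)) (tt N9324 F20168) (tt N15018 (iv F26106)) (tt N9323 (iv D11971)) (tt N15014 (iv F26088)) (tt N15022 D15049))
theorem Q11969 : ∀ i, i < 11969 → P i := stepQ 11968 Q11968 (allL N11968 (tt N15021 (iv F26110)) (tt N9325 F20169) (tt N14735 (iv F25515)) (tt N15022 (iv F26112)) (tt N15001 (iv F26047)) (tt N9323 (iv D11972)))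
theorem Q11970 : ∀ i, i < 11970 → P i := stepQ 11969 Q11969 (allL N11969 (tt N15016 (iv F26093)) (tt N15019 (iv F26107)) (tt N9324 (iv D11973)) (tt N13219 (iv F22471)) (tt N15016 (iv F26096)) (tt N13218 F22468))
theorem Q11971 : ∀ i, i < 11971 → P i := stepQ 11970 Q11970 (allL N11970 (tt N15017 (iv F26101)) (tt N15022 (iv F26111)) (tt N13218 (iv F22467)) (tt N9325 F20170) (tt N15023 D15050) (tt N9324 (iv D11974)))
theorem Q11972 : ∀ i, i < 11972 → P i := stepQ 11971 Q11971 (allL N11971 (tt N15024 D15051) (tt N9327 (iv D11975)) (tt N9329 F20171) (tt N15025 D15052) (tt N9410 F20172) (tt N9721 (iv F20173)))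
theorem Q11973 : ∀ i, i < 11973 → P i := stepQ 11972 Q11972 (allL N11972 (tt N14721 (iv F25466)) (tt N15025 (iv F26116)) (tt N14988 (iv F26027)) (tt N9327 (iv D11976)) (tt N15026 D15053) (tt N15011 (iv F26069)))
theorem Q11974 : ∀ i, i < 11974 → P i := stepQ 11973 Q11973 (allL N11973 (tt N10099 F20174) (tt N9721 F20175) (tt N9328 F20176) (tt N15011 (iv F26068)) (tt N15027 D15054) (tt N9327 (iv D11977)))
theorem Q11975 : ∀ i, i < 11975 → P i := stepQ 11974 Q11974 (allL N11974 (tt N10097 F20177) (tt N9330 F20178) (tt N15027 (iv F26121)) (tt N9338 F20179) (tt N9328 (iv D11978)) (tt N9413 F20180))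
theorem Q11976 : ∀ i, i < 11976 → P i := stepQ 11975 Q11975 (allL N11975 (tt N9329 (iv D11979)) (tt N9333 F20181) (tt N15024 (iv F26113)) (tt N9720 F20182) (tt N9414 F20183) (tt N9719 F20184))
theorem Q11977 : ∀ i, i < 11977 → P i := stepQ 11976 Q11976 (allL N11976 (tt N9331 (iv D11980)) (tt N9414 F20185) (tt N14728 (iv F25494)) (tt N9922 F20186) (tt N9333 F20187) (tt N9921 F20188))
theorem Q11978 : ∀ i, i < 11978 → P i := stepQ 11977 Q11977 (allL N11977 (tt N9334 F20189) (tt N9720 F20190) (tt N15028 D15055) (tt N9333 (iv D11981)) (tt N15029 D15056) (tt N9713 (iv F20191)))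
theorem Q11979 : ∀ i, i < 11979 → P i := stepQ 11978 Q11978 (allL N11978 (tt N9335 F20192) (tt N9719 F20193) (tt N10111 F20194) (tt N9713 F20195) (tt N15030 D15057) (tt N9333 (iv D11982)))
theorem Q11980 : ∀ i, i < 11980 → P i := stepQ 11979 Q11979 (allL N11979 (tt N15028 (iv F26124)) (tt N9711 F20196) (tt N9334 (iv D11983)) (tt N15031 D15058) (tt N15032 D15059) (tt N9709 F20197))
theorem Q11981 : ∀ i, i < 11981 → P i := stepQ 11980 Q11980 (allL N11980 (tt N15029 (iv F26129)) (tt N9336 F20198) (tt N15032 (iv F26146)) (tt N9925 F20199) (tt N9334 (iv D11984)) (tt N9951 F20200))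
theorem Q11982 : ∀ i, i < 11982 → P i := stepQ 11981 Q11981 (allL N11981 (tt N15030 (iv F26134)) (tt N9337 F20201) (tt N10108 F20202) (tt N9950 F20203) (tt N9335 (iv D11985)) (tt N9924 F20204))
theorem Q11983 : ∀ i, i < 11983 → P i := stepQ 11982 Q11982 (allL N11982 (tt N15033 D15060) (tt N9340 (iv D11986)) (tt N11534 F20205) (tt N15034 D15061) (tt N14700 (iv F25424)) (tt N11532 (iv F20206)))
theorem Q11984 : ∀ i, i < 11984 → P i := stepQ 11983 Q11983 (allL N11983 (tt N14703 (iv F25432)) (tt N15034 (iv F26153)) (tt N10076 F20207) (tt N9340 (iv D11987)) (tt N15035 D15062) (tt N10075 (iv F20208)))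
theorem Q11985 : ∀ i, i < 11985 → P i := stepQ 11984 Q11984 (allL N11984 (tt N14704 (iv F25435)) (tt N11532 F20209) (tt N9341 F20210) (tt N10075 F20211) (tt N15036 D15063) (tt N9340 (iv D11988)))
theorem Q11986 : ∀ i, i < 11986 → P i := stepQ 11985 Q11985 (allL N11985 (tt N14705 (iv F25438)) (tt N11536 F20212) (tt N15036 (iv F26160)) (tt N14727 (iv F25492)) (tt N9341 (iv D11989)) (tt N14701 (iv F25429)))
theorem Q11987 : ∀ i, i < 11987 → P i := stepQ 11986 Q11986 (allL N11986 (tt N14761 (iv F25566)) (tt N9343 F20213) (tt N15037 D15064) (tt N9342 (iv D11990)) (tt N10059 F20214) (tt N14317 (iv F24634)))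
theorem Q11988 : ∀ i, i < 11988 → P i := stepQ 11987 Q11987 (allL N11987 (tt N10075 F20215) (tt N15038 D15065) (tt N9343 (iv D11991)) (tt N14704 (iv F25437)) (tt N10062 F20216) (tt N14703 (iv F25434)))
theorem Q11989 : ∀ i, i < 11989 → P i := stepQ 11988 Q11988 (allL N11988 (tt N10076 F20217) (tt N14317 (iv F24633)) (tt N14703 (iv F25433)) (tt N9344 F20218) (tt N15039 D15066) (tt N9343 (iv D11992)))
theorem Q11990 : ∀ i, i < 11990 → P i := stepQ 11989 Q11989 (allL N11989 (tt N9350 F20219) (tt N15040 D15067) (tt N9348 (iv D11993)) (tt N15041 D15068) (tt N14803 (iv F25648)) (tt N9979 F20220))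
theorem Q11991 : ∀ i, i < 11991 → P i := stepQ 11990 Q11990 (allL N11990 (tt N15041 (iv F26175)) (tt N9983 F20221) (tt N15042 D15069) (tt N9350 (iv D11994)) (tt N15043 D15070) (tt N9980 F20222))
theorem Q11992 : ∀ i, i < 11992 → P i := stepQ 11991 Q11991 (allL N11991 (tt N14803 (iv F25645)) (tt N9986 F20223) (tt N9351 F20224) (tt N15044 D15071) (tt N9350 (iv D11995)) (tt N14609 (iv F25209)))
theorem Q11993 : ∀ i, i < 11993 → P i := stepQ 11992 Q11992 (allL N11992 (tt N9353 (iv D11996)) (tt N9361 F20225) (tt N12465 (iv F21061)) (tt N13382 (iv F22797)) (tt N13877 (iv F23839)) (tt N13381 F22794))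
theorem Q11994 : ∀ i, i < 11994 → P i := stepQ 11993 Q11993 (allL N11993 (tt N15045 D15072) (tt N9355 (iv D11997)) (tt N13746 (iv F23575)) (tt N15046 D15073) (tt N9906 F20226) (tt N15047 D15074))
theorem Q11995 : ∀ i, i < 11995 → P i := stepQ 11994 Q11994 (allL N11994 (tt N13612 (iv F23254)) (tt N15046 (iv F26189)) (tt N13880 (iv F23848)) (tt N9355 (iv D11998)) (tt N15048 D15075) (tt N13879 F23845))
theorem Q11996 : ∀ i, i < 11996 → P i := stepQ 11995 Q11995 (allL N11995 (tt N13613 (iv F23257)) (tt N15047 (iv F26190)) (tt N9356 F20227) (tt N13879 (iv F23844)) (tt N15049 D15076) (tt N9355 (iv D11999)))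
theorem Q11997 : ∀ i, i < 11997 → P i := stepQ 11996 Q11996 (allL N11996 (tt N13614 (iv F23261)) (tt N13720 (iv F23515)) (tt N15049 (iv F26192)) (tt N13803 (iv F23683)) (tt N9356 (iv D12000)) (tt N9909 F20228))
theorem Q11998 : ∀ i, i < 11998 → P i := stepQ 11997 Q11997 (allL N11997 (tt N9357 (iv D12001)) (tt N13877 (iv F23837)) (tt N13886 (iv F23858)) (tt N14217 (iv F24417)) (tt N9361 F20229) (tt N13994 (iv F24026)))
theorem Q11999 : ∀ i, i < 11999 → P i := stepQ 11998 Q11998 (allL N11998 (tt N14217 (iv F24416)) (tt N9358 F20230) (tt N14214 (iv F24412)) (tt N9357 (iv D12002)) (tt N15050 D15077) (tt N15051 D15078))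
theorem Q12000 : ∀ i, i < 12000 → P i := stepQ 11999 Q11999 (allL N11999 (tt N13994 (iv F24025)) (tt N9359 F20231) (tt N13887 (iv F23861)) (tt N15051 (iv F26198)) (tt N15052 D15079) (tt N9357 (iv D12003)))
theorem Q12001 : ∀ i, i < 12001 → P i := stepQ 12000 Q12000 (allL N12000 (tt N13879 (iv F23843)) (tt N13639 (iv F23313)) (tt N9358 (iv D12004)) (tt N13613 (iv F23260)) (tt N15053 D15080) (tt N13612 F23256))
theorem Q12002 : ∀ i, i < 12002 → P i := stepQ 12001 Q12001 (allL N12001 (tt N13386 (iv F22806)) (tt N15050 (iv F26194)) (tt N15053 (iv F26202)) (tt N9364 F20232) (tt N9358 (iv D12005)) (tt N15054 D15081))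
theorem Q12003 : ∀ i, i < 12003 → P i := stepQ 12002 Q12002 (allL N12002 (tt N13880 (iv F23846)) (tt N15051 (iv F26197)) (tt N13612 (iv F23255)) (tt N9359 F20233) (tt N15055 D15082) (tt N9358 (iv D12006)))
theorem Q12004 : ∀ i, i < 12004 → P i := stepQ 12003 Q12003 (allL N12003 (tt N13385 (iv F22802)) (tt N15052 (iv F26199)) (tt N9360 F20234) (tt N15056 D15083) (tt N9359 (iv D12007)) (tt N9365 F20235))
theorem Q12005 : ∀ i, i < 12005 → P i := stepQ 12004 Q12004 (allL N12004 (tt N9362 F20236) (tt N13382 (iv F22796)) (tt N15057 D15084) (tt N9361 (iv D12008)) (tt N15058 D15085) (tt N13375 (iv F22783)))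
theorem Q12006 : ∀ i, i < 12006 → P i := stepQ 12005 Q12005 (allL N12005 (tt N9363 F20237) (tt N13381 (iv F22793)) (tt N14905 (iv F25840)) (tt N13375 (iv F22782)) (tt N15059 D15086) (tt N9361 (iv D12009)))
theorem Q12007 : ∀ i, i < 12007 → P i := stepQ 12006 Q12006 (allL N12006 (tt N15057 (iv F26205)) (tt N11522 F20238) (tt N9362 (iv D12010)) (tt N15060 D15087) (tt N15061 D15088) (tt N11520 F20239))
theorem Q12008 : ∀ i, i < 12008 → P i := stepQ 12007 Q12007 (allL N12007 (tt N15058 (iv F26207)) (tt N9364 F20240) (tt N15061 (iv F26212)) (tt N15050 (iv F26196)) (tt N9362 (iv D12011)) (tt N15061 (iv F26213)))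
theorem Q12009 : ∀ i, i < 12009 → P i := stepQ 12008 Q12008 (allL N12008 (tt N15059 (iv F26208)) (tt N9365 F20241) (tt N14903 (iv F25837)) (tt N15062 D15089) (tt N9363 (iv D12012)) (tt N15052 (iv F26200)))
theorem Q12010 : ∀ i, i < 12010 → P i := stepQ 12009 Q12009 (allL N12009 (tt N13380 (iv F22789)) (tt N15061 (iv F26211)) (tt N11523 F20242) (tt N15054 (iv F26203)) (tt N11522 F20243) (tt N9364 (iv D12013)))
theorem Q12011 : ∀ i, i < 12011 → P i := stepQ 12010 Q12010 (allL N12010 (tt N13379 (iv F22787)) (tt N15062 (iv F26214)) (tt N15063 D15090) (tt N9365 (iv D12014)) (tt N11521 F20244) (tt N15056 (iv F26204)))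
theorem Q12012 : ∀ i, i < 12012 → P i := stepQ 12011 Q12011 (allL N12011 (tt N9375 F20245) (tt N9368 F20246) (tt N9395 (iv F20248)) (tt N9367 (iv D12015)) (tt N9368 F20247) (tt N9392 (iv F20249)))
theorem Q12013 : ∀ i, i < 12013 → P i := stepQ 12012 Q12012 (allL N12012 (tt N12456 (iv F21039)) (tt N9369 F20250) (tt N12460 (iv F21047)) (tt N9392 F20251) (tt N15064 D15091) (tt N9367 (iv D12016)))
theorem Q12014 : ∀ i, i < 12014 → P i := stepQ 12013 Q12013 (allL N12013 (tt N9377 F20252) (tt N15064 (iv F26218)) (tt N9370 F20253) (tt N15065 D15092) (tt N9369 (iv D12017)) (tt N12454 (iv F21035)))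
theorem Q12015 : ∀ i, i < 12015 → P i := stepQ 12014 Q12014 (allL N12014 (tt N9372 F20254) (tt N9375 F20255) (tt N15066 D15093) (tt N9371 (iv D12018)) (tt N9372 F20256) (tt N15067 D15094))
theorem Q12016 : ∀ i, i < 12016 → P i := stepQ 12015 Q12015 (allL N12015 (tt N9373 F20257) (tt N12456 (iv F21040)) (tt N9379 F20258) (tt N15067 (iv F26226)) (tt N12513 (iv F21161)) (tt N9371 (iv D12019)))
theorem Q12017 : ∀ i, i < 12017 → P i := stepQ 12016 Q12016 (allL N12016 (tt N15066 (iv F26221)) (tt N15068 D15095) (tt N9372 (iv D12020)) (tt N15069 D15096) (tt N15066 (iv F26222)) (tt N15070 D15097))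
theorem Q12018 : ∀ i, i < 12018 → P i := stepQ 12017 Q12017 (allL N12017 (tt N15067 (iv F26224)) (tt N9376 F20259) (tt N15070 (iv F26232)) (tt N9373 F20260) (tt N15071 D15098) (tt N9372 (iv D12021)))
theorem Q12019 : ∀ i, i < 12019 → P i := stepQ 12018 Q12018 (allL N12018 (tt N15072 D15099) (tt N9374 (iv D12022)) (tt N15068 (iv F26227)) (tt N9383 F20261) (tt N15073 D15100) (tt N9382 F20262))
theorem Q12020 : ∀ i, i < 12020 → P i := stepQ 12019 Q12019 (allL N12019 (tt N9395 F20263) (tt N15073 (iv F26237)) (tt N9375 F20264) (tt N15074 D15101) (tt N9374 (iv D12023)) (tt N15075 D15102))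
theorem Q12021 : ∀ i, i < 12021 → P i := stepQ 12020 Q12020 (allL N12020 (tt N9392 F20265) (tt N15067 (iv F26225)) (tt N15075 (iv F26241)) (tt N12456 (iv F21041)) (tt N15076 D15103) (tt N9375 (iv D12024)))
theorem Q12022 : ∀ i, i < 12022 → P i := stepQ 12021 Q12021 (allL N12021 (tt N9393 F20266) (tt N15071 (iv F26233)) (tt N9384 F20267) (tt N15077 D15104) (tt N9376 (iv D12025)) (tt N15076 (iv F26245)))
theorem Q12023 : ∀ i, i < 12023 → P i := stepQ 12022 Q12022 (allL N12022 (tt N15065 (iv F26219)) (tt N12516 (iv F21164)) (tt N15078 D15105) (tt N9377 (iv D12026)) (tt N15077 (iv F26247)) (tt N12458 (iv F21044)))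
theorem Q12024 : ∀ i, i < 12024 → P i := stepQ 12023 Q12023 (allL N12023 (tt N9380 F20268) (tt N15079 D15106) (tt N9378 (iv D12027)) (tt N15080 D15107) (tt N12514 (iv F21163)) (tt N11524 F20269))
theorem Q12025 : ∀ i, i < 12025 → P i := stepQ 12024 Q12024 (allL N12024 (tt N15080 (iv F26250)) (tt N11528 F20270) (tt N15081 D15108) (tt N9380 (iv D12028)) (tt N15082 D15109) (tt N11525 F20271))
theorem Q12026 : ∀ i, i < 12026 → P i := stepQ 12025 Q12025 (allL N12025 (tt N9382 F20272) (tt N9386 F20273) (tt N15083 D15110) (tt N9381 (iv D12029)) (tt N15084 D15111) (tt N15072 (iv F26236)))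
theorem Q12027 : ∀ i, i < 12027 → P i := stepQ 12026 Q12026 (allL N12026 (tt N9383 F20274) (tt N9387 F20275) (tt N13501 (iv F22973)) (tt N15072 (iv F26235)) (tt N15085 D15112) (tt N9381 (iv D12030)))
theorem Q12028 : ∀ i, i < 12028 → P i := stepQ 12027 Q12027 (allL N12027 (tt N15083 (iv F26254)) (tt N15070 (iv F26231)) (tt N9382 (iv D12031)) (tt N15086 D15113) (tt N15087 D15114) (tt N15068 F26228))
theorem Q12029 : ∀ i, i < 12029 → P i := stepQ 12028 Q12028 (allL N12028 (tt N15084 (iv F26255)) (tt N9384 F20276) (tt N15087 (iv F26261)) (tt N14781 (iv F25608)) (tt N9382 (iv D12032)) (tt N15088 D15115))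
theorem Q12030 : ∀ i, i < 12030 → P i := stepQ 12029 Q12029 (allL N12029 (tt N15085 (iv F26257)) (tt N9385 F20277) (tt N9652 F20278) (tt N15089 D15116) (tt N9383 (iv D12033)) (tt N9651 F20279))
theorem Q12031 : ∀ i, i < 12031 → P i := stepQ 12030 Q12030 (allL N12030 (tt N9394 F20280) (tt N15088 (iv F26262)) (tt N15076 (iv F26244)) (tt N14782 (iv F25610)) (tt N15075 (iv F26242)) (tt N9384 (iv D12034)))
theorem Q12032 : ∀ i, i < 12032 → P i := stepQ 12031 Q12031 (allL N12031 (tt N9396 F20281) (tt N15089 (iv F26263)) (tt N14773 (iv F25598)) (tt N9385 (iv D12035)) (tt N15074 (iv F26239)) (tt N14752 (iv F25555)))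
theorem Q12033 : ∀ i, i < 12033 → P i := stepQ 12032 Q12032 (allL N12032 (tt N9388 F20282) (tt N15090 D15117) (tt N9386 (iv D12036)) (tt N12998 (iv F22074)) (tt N15091 D15118) (tt N15092 D15119))
theorem Q12034 : ∀ i, i < 12034 → P i := stepQ 12033 Q12033 (allL N12033 (tt N9389 F20283) (tt N15084 (iv F26256)) (tt N15091 (iv F26266)) (tt N14783 (iv F25612)) (tt N9386 (iv D12037)) (tt N15091 F26267))
theorem Q12035 : ∀ i, i < 12035 → P i := stepQ 12034 Q12034 (allL N12034 (tt N9390 F20284) (tt N15072 (iv F26234)) (tt N15092 (iv F26269)) (tt N9387 F20285) (tt N15092 (iv F26271)) (tt N9386 (iv D12038)))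
theorem Q12036 : ∀ i, i < 12036 → P i := stepQ 12035 Q12035 (allL N12035 (tt N9391 F20286) (tt N15085 (iv F26258)) (tt N9399 F20287) (tt N15093 D15120) (tt N9387 (iv D12039)) (tt N13288 (iv F22617)))
theorem Q12037 : ∀ i, i < 12037 → P i := stepQ 12036 Q12036 (allL N12036 (tt N15075 (iv F26240)) (tt N9388 (iv D12040)) (tt N9392 F20288) (tt N15094 D15121) (tt N9394 F20290) (tt N9395 (iv F20289)))
theorem Q12038 : ∀ i, i < 12038 → P i := stepQ 12037 Q12037 (allL N12037 (tt N12998 (iv F22072)) (tt N15094 (iv F26300)) (tt N12997 (iv F22071)) (tt N9388 (iv D12041)) (tt N15095 D15122) (tt N15096 D15123))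
theorem Q12039 : ∀ i, i < 12039 → P i := stepQ 12038 Q12038 (allL N12038 (tt N15091 (iv F26265)) (tt N9394 F20291) (tt N9389 F20292) (tt N14785 (iv F25615)) (tt N9388 (iv D12042)) (tt N9389 (iv F20293)))
theorem Q12040 : ∀ i, i < 12040 → P i := stepQ 12039 Q12039 (allL N12039 (tt N15092 (iv F26268)) (tt N9395 F20294) (tt N9390 F20295) (tt N15096 (iv F26307)) (tt N9390 F20296) (tt N9388 (iv D12043)))
theorem Q12041 : ∀ i, i < 12041 → P i := stepQ 12040 Q12040 (allL N12040 (tt N15093 (iv F26272)) (tt N9396 F20297) (tt N15097 D15124) (tt N9391 (iv D12044)) (tt N15096 F26308) (tt N13290 (iv F22623)))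
theorem Q12042 : ∀ i, i < 12042 → P i := stepQ 12041 Q12041 (allL N12041 (tt N15076 (iv F26243)) (tt N9393 F20298) (tt N9394 F20299) (tt N15098 D15125) (tt N9392 (iv D12045)) (tt N9393 F20300))
theorem Q12043 : ∀ i, i < 12043 → P i := stepQ 12042 Q12042 (allL N12042 (tt N15077 (iv F26246)) (tt N15098 (iv F26311)) (tt N12640 (iv F27495)) (tt N9393 (iv D12046)) (tt N15065 (iv F26220)) (tt N15098 (iv F26312)))
theorem Q12044 : ∀ i, i < 12044 → P i := stepQ 12043 Q12043 (allL N12043 (tt N15074 (iv F26238)) (tt N15096 (iv F26305)) (tt N15099 D15127) (tt N9395 (iv D12047)) (tt N9396 F20301) (tt N15094 (iv F26301)))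
theorem Q12045 : ∀ i, i < 12045 → P i := stepQ 12044 Q12044 (allL N12044 (tt N14773 (iv F25597)) (tt N15100 D15128) (tt N9396 (iv D12048)) (tt N14751 (iv F25552)) (tt N15099 (iv F26313)) (tt N14774 (iv F25599)))
theorem Q12046 : ∀ i, i < 12046 → P i := stepQ 12045 Q12045 (allL N12045 (tt N10328 F20302) (tt N9397 (iv D12049)) (tt N12769 (iv F21590)) (tt N15101 D15129) (tt N15102 D15130) (tt N10324 F20303))
theorem Q12047 : ∀ i, i < 12047 → P i := stepQ 12046 Q12046 (allL N12046 (tt N9400 F20304) (tt N15101 (iv F26315)) (tt N15096 (iv F26306)) (tt N9397 (iv D12050)) (tt N15097 (iv F26310)) (tt N12997 (iv F22070)))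
theorem Q12048 : ∀ i, i < 12048 → P i := stepQ 12047 Q12047 (allL N12047 (tt N9401 F20305) (tt N15102 (iv F26318)) (tt N9398 F20306) (tt N15103 D15131) (tt N9397 (iv D12051)) (tt N10366 F20307))
theorem Q12049 : ∀ i, i < 12049 → P i := stepQ 12048 Q12048 (allL N12048 (tt N15096 (iv F26304)) (tt N15104 D15132) (tt N9400 (iv D12052)) (tt N15092 (iv F26270)) (tt N15093 (iv F26273)) (tt N12998 (iv F22073)))
theorem Q12050 : ∀ i, i < 12050 → P i := stepQ 12049 Q12049 (allL N12049 (tt N15097 (iv F26309)) (tt N13002 (iv F22081)) (tt N15093 F26274) (tt N13283 (iv F26275)) (tt N9400 (iv D12053)) (tt N15105 D15133))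
theorem Q12051 : ∀ i, i < 12051 → P i := stepQ 12050 Q12050 (allL N12050 (tt N15103 (iv F26320)) (tt N10369 F20308) (tt N13282 (iv F26278)) (tt N9401 (iv D12054)) (tt N13283 F26277) (tt N10367 F20309))
theorem Q12052 : ∀ i, i < 12052 → P i := stepQ 12051 Q12051 (allL N12051 (tt N14873 (iv F25784)) (tt N9402 (iv D12055)) (tt N13245 (iv F22540)) (tt N15106 D15134) (tt N12969 (iv F22005)) (tt N14871 F25782))
theorem Q12053 : ∀ i, i < 12053 → P i := stepQ 12052 Q12052 (allL N12052 (tt N9403 F20310) (tt N15106 (iv F26324)) (tt N12707 (iv F21482)) (tt N9402 (iv D12056)) (tt N15107 D15135) (tt N12705 F21480))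
theorem Q12054 : ∀ i, i < 12054 → P i := stepQ 12053 Q12053 (allL N12053 (tt N12707 (iv F21481)) (tt N15108 D15136) (tt N9403 (iv D12057)) (tt N12701 (iv F21474)) (tt N15109 D15137) (tt N12700 F21471))
theorem Q12055 : ∀ i, i < 12055 → P i := stepQ 12054 Q12054 (allL N12054 (tt N15107 (iv F26325)) (tt N14879 (iv F25789)) (tt N15109 (iv F26326)) (tt N12973 (iv F22011)) (tt N9403 (iv D12058)) (tt N15110 D15138))
theorem Q12056 : ∀ i, i < 12056 → P i := stepQ 12055 Q12055 (allL N12055 (tt N13642 (iv F23319)) (tt N15111 D15139) (tt N9404 (iv D12059)) (tt N15112 D15140) (tt N9406 F20311) (tt N15113 D15141))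
theorem Q12057 : ∀ i, i < 12057 → P i := stepQ 12056 Q12056 (allL N12056 (tt N13643 (iv F23321)) (tt N14338 (iv F24687)) (tt N15113 (iv F26330)) (tt N9405 F20312) (tt N15114 D15142) (tt N9404 (iv D12060)))
theorem Q12058 : ∀ i, i < 12058 → P i := stepQ 12057 Q12057 (allL N12057 (tt N15115 D15143) (tt N9406 (iv D12061)) (tt N11347 (iv F23272)) (tt N13617 (iv F23271)) (tt N15111 (iv F26328)) (tt N13616 F23268))
theorem Q12059 : ∀ i, i < 12059 → P i := stepQ 12058 Q12058 (allL N12058 (tt N11559 F20313) (tt N14727 (iv F25491)) (tt N13618 (iv F23276)) (tt N11536 F20314) (tt N9407 (iv D12062)) (tt N15114 (iv F26333)))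
theorem Q12060 : ∀ i, i < 12060 → P i := stepQ 12059 Q12059 (allL N12059 (tt N15116 D15144) (tt N9408 (iv D12063)) (tt N14722 (iv F25469)) (tt N15117 D15145) (tt N14720 (iv F25464)) (tt N15118 D15146))
theorem Q12061 : ∀ i, i < 12061 → P i := stepQ 12060 Q12060 (allL N12060 (tt N9411 F20315) (tt N15117 (iv F26339)) (tt N11214 F20316) (tt N9408 (iv D12064)) (tt N15119 D15147) (tt N11213 (iv F20317)))
theorem Q12062 : ∀ i, i < 12062 → P i := stepQ 12061 Q12061 (allL N12061 (tt N9412 F20318) (tt N15118 (iv F26343)) (tt N9409 F20319) (tt N11213 F20320) (tt N15120 D15148) (tt N9408 (iv D12065)))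
theorem Q12063 : ∀ i, i < 12063 → P i := stepQ 12062 Q12062 (allL N12062 (tt N9413 F20321) (tt N10101 F20322) (tt N15120 (iv F26351)) (tt N10098 F20323) (tt N9409 (iv D12066)) (tt N10097 F20324))
theorem Q12064 : ∀ i, i < 12064 → P i := stepQ 12063 Q12063 (allL N12063 (tt N9410 (iv D12067)) (tt N15116 (iv F26336)) (tt N9414 F20325) (tt N15121 D15149) (tt N15024 (iv F26114)) (tt N15122 D15150))
theorem Q12065 : ∀ i, i < 12065 → P i := stepQ 12064 Q12064 (allL N12064 (tt N15121 (iv F26354)) (tt N9411 F20326) (tt N15123 D15151) (tt N9410 (iv D12068)) (tt N15124 D15152) (tt N15125 D15153))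
theorem Q12066 : ∀ i, i < 12066 → P i := stepQ 12065 Q12065 (allL N12065 (tt N15122 (iv F26355)) (tt N9412 F20327) (tt N9416 F20328) (tt N15125 (iv F26361)) (tt N15126 D15154) (tt N9410 (iv D12069)))
theorem Q12067 : ∀ i, i < 12067 → P i := stepQ 12066 Q12066 (allL N12066 (tt N11214 F20329) (tt N15127 D15155) (tt N9411 (iv D12070)) (tt N11207 F20330) (tt N15128 D15156) (tt N11206 (iv F20331)))
theorem Q12068 : ∀ i, i < 12068 → P i := stepQ 12067 Q12067 (allL N12067 (tt N15119 (iv F26347)) (tt N15124 (iv F26359)) (tt N15128 (iv F26370)) (tt N15026 (iv F26118)) (tt N9411 (iv D12071)) (tt N15129 D15157))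
theorem Q12069 : ∀ i, i < 12069 → P i := stepQ 12068 Q12068 (allL N12068 (tt N11213 F20332) (tt N15125 (iv F26360)) (tt N11206 F20333) (tt N9412 F20334) (tt N15130 D15158) (tt N9411 (iv D12072)))
theorem Q12070 : ∀ i, i < 12070 → P i := stepQ 12069 Q12069 (allL N12069 (tt N15120 (iv F26349)) (tt N15126 (iv F26363)) (tt N9413 F20335) (tt N15131 D15159) (tt N9412 (iv D12073)) (tt N15027 (iv F26122)))
theorem Q12071 : ∀ i, i < 12071 → P i := stepQ 12070 Q12070 (allL N12070 (tt N9415 F20336) (tt N9922 F20337) (tt N15132 D15160) (tt N9414 (iv D12074)) (tt N15133 D15161) (tt N9866 (iv F20338)))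
theorem Q12072 : ∀ i, i < 12072 → P i := stepQ 12071 Q12071 (allL N12071 (tt N9416 F20339) (tt N9921 F20340) (tt N15122 (iv F26357)) (tt N9866 F20341) (tt N15134 D15162) (tt N9414 (iv D12075)))
theorem Q12073 : ∀ i, i < 12073 → P i := stepQ 12072 Q12072 (allL N12072 (tt N15132 (iv F26377)) (tt N9524 F20342) (tt N9415 (iv D12076)) (tt N15135 D15163) (tt N15136 D15164) (tt N9522 F20343))
theorem Q12074 : ∀ i, i < 12074 → P i := stepQ 12073 Q12073 (allL N12073 (tt N15133 (iv F26379)) (tt N9417 F20344) (tt N15136 (iv F26391)) (tt N9723 F20345) (tt N9415 (iv D12077)) (tt N9867 F20346))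
theorem Q12075 : ∀ i, i < 12075 → P i := stepQ 12074 Q12074 (allL N12074 (tt N15134 (iv F26383)) (tt N9418 F20347) (tt N15126 (iv F26364)) (tt N9871 F20348) (tt N9416 (iv D12078)) (tt N9722 F20349))
theorem Q12076 : ∀ i, i < 12076 → P i := stepQ 12075 Q12075 (allL N12075 (tt N9420 F20350) (tt N9576 F20351) (tt N15137 D15165) (tt N9419 (iv D12079)) (tt N15138 D15166) (tt N9543 (iv F20352)))
theorem Q12077 : ∀ i, i < 12077 → P i := stepQ 12076 Q12076 (allL N12076 (tt N9421 F20353) (tt N9575 F20354) (tt N13923 (iv F23926)) (tt N9543 F20355) (tt N15139 D15167) (tt N9419 (iv D12080)))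
theorem Q12078 : ∀ i, i < 12078 → P i := stepQ 12077 Q12077 (allL N12077 (tt N15137 (iv F26393)) (tt N9539 F20356) (tt N9420 (iv D12081)) (tt N15140 D15168) (tt N15141 D15169) (tt N9537 F20357))
theorem Q12079 : ∀ i, i < 12079 → P i := stepQ 12078 Q12078 (allL N12078 (tt N15138 (iv F26395)) (tt N9422 F20358) (tt N15141 (iv F26402)) (tt N14864 (iv F25764)) (tt N9420 (iv D12082)) (tt N14688 (iv F25395)))
theorem Q12080 : ∀ i, i < 12080 → P i := stepQ 12079 Q12079 (allL N12079 (tt N15139 (iv F26397)) (tt N9423 F20359) (tt N13921 (iv F23924)) (tt N14687 (iv F25393)) (tt N9421 (iv D12083)) (tt N14863 (iv F25762)))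
theorem Q12081 : ∀ i, i < 12081 → P i := stepQ 12080 Q12080 (allL N12080 (tt N15142 D15170) (tt N9425 (iv D12084)) (tt N9429 F20360) (tt N15143 D15171) (tt N9936 F20361) (tt N9704 (iv F20362)))
theorem Q12082 : ∀ i, i < 12082 → P i := stepQ 12081 Q12081 (allL N12081 (tt N9710 F20363) (tt N15143 (iv F26409)) (tt N15144 D15172) (tt N9425 (iv D12085)) (tt N15145 D15173) (tt N15146 D15174))
theorem Q12083 : ∀ i, i < 12083 → P i := stepQ 12082 Q12082 (allL N12082 (tt N9711 F20364) (tt N9704 F20365) (tt N9426 F20366) (tt N15146 (iv F26419)) (tt N15147 D15175) (tt N9425 (iv D12086)))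
theorem Q12084 : ∀ i, i < 12084 → P i := stepQ 12083 Q12083 (allL N12083 (tt N9712 F20367) (tt N9430 F20368) (tt N15147 (iv F26423)) (tt N9726 F20369) (tt N9426 (iv D12087)) (tt N9939 F20370))
theorem Q12085 : ∀ i, i < 12085 → P i := stepQ 12084 Q12084 (allL N12084 (tt N15148 D15176) (tt N9427 (iv D12088)) (tt N9936 F20371) (tt N15149 D15177) (tt N9429 F20372) (tt N15150 D15178))
theorem Q12086 : ∀ i, i < 12086 → P i := stepQ 12085 Q12085 (allL N12085 (tt N9434 F20373) (tt N15149 (iv F26429)) (tt N15151 D15179) (tt N9427 (iv D12089)) (tt N9708 F20374) (tt N15152 D15180))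
theorem Q12087 : ∀ i, i < 12087 → P i := stepQ 12086 Q12086 (allL N12086 (tt N9435 F20375) (tt N15150 (iv F26431)) (tt N9428 F20376) (tt N15152 (iv F26440)) (tt N9707 F20377) (tt N9427 (iv D12090)))
theorem Q12088 : ∀ i, i < 12088 → P i := stepQ 12087 Q12087 (allL N12087 (tt N9436 F20378) (tt N9939 F20379) (tt N9707 F20380) (tt N9735 F20381) (tt N9428 (iv D12091)) (tt N9430 F20382))
theorem Q12089 : ∀ i, i < 12089 → P i := stepQ 12088 Q12088 (allL N12088 (tt N9429 (iv D12092)) (tt N9437 F20383) (tt N15142 (iv F26404)) (tt N9703 F20384) (tt N15148 (iv F26428)) (tt N9702 F20385))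
theorem Q12090 : ∀ i, i < 12090 → P i := stepQ 12089 Q12089 (allL N12089 (tt N15153 D15181) (tt N9431 (iv D12093)) (tt N9928 F20386) (tt N15154 D15182) (tt N10941 F20387) (tt N15155 D15183))
theorem Q12091 : ∀ i, i < 12091 → P i := stepQ 12090 Q12090 (allL N12090 (tt N10965 F20388) (tt N15154 (iv F26444)) (tt N15152 (iv F26439)) (tt N9431 (iv D12094)) (tt N15156 D15184) (tt N15151 F26437))
theorem Q12092 : ∀ i, i < 12092 → P i := stepQ 12091 Q12091 (allL N12091 (tt N10963 F20389) (tt N15155 (iv F26445)) (tt N9432 F20390) (tt N15151 (iv F26435)) (tt N15157 D15185) (tt N9431 (iv D12095)))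
theorem Q12093 : ∀ i, i < 12093 → P i := stepQ 12092 Q12092 (allL N12092 (tt N10962 F20391) (tt N9931 F20392) (tt N15157 (iv F26450)) (tt N9740 F20393) (tt N9432 (iv D12096)) (tt N10939 F20394))
theorem Q12094 : ∀ i, i < 12094 → P i := stepQ 12093 Q12093 (allL N12093 (tt N9433 (iv D12097)) (tt N15148 (iv F26426)) (tt N9714 F20395) (tt N15158 D15186) (tt N9437 F20396) (tt N15159 D15187))
theorem Q12095 : ∀ i, i < 12095 → P i := stepQ 12094 Q12094 (allL N12094 (tt N15158 (iv F26452)) (tt N9434 F20397) (tt N15160 D15188) (tt N9433 (iv D12098)) (tt N15161 D15189) (tt N15162 D15190))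
theorem Q12096 : ∀ i, i < 12096 → P i := stepQ 12095 Q12095 (allL N12095 (tt N15159 (iv F26453)) (tt N9435 F20398) (tt N9716 F20399) (tt N15162 (iv F26458)) (tt N15163 D15191) (tt N9433 (iv D12099)))
theorem Q12097 : ∀ i, i < 12097 → P i := stepQ 12096 Q12096 (allL N12096 (tt N15151 (iv F26434)) (tt N15164 D15192) (tt N9434 (iv D12100)) (tt N10963 F20400) (tt N15165 D15193) (tt N10965 (iv F20401)))
theorem Q12098 : ∀ i, i < 12098 → P i := stepQ 12097 Q12097 (allL N12097 (tt N9708 F20402) (tt N15161 (iv F26455)) (tt N15165 (iv F26465)) (tt N9440 F20403) (tt N9434 (iv D12101)) (tt N15166 D15194))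
theorem Q12099 : ∀ i, i < 12099 → P i := stepQ 12098 Q12098 (allL N12098 (tt N15152 (iv F26438)) (tt N15162 (iv F26457)) (tt N10965 F20404) (tt N9435 F20405) (tt N15167 D15195) (tt N9434 (iv D12102)))
theorem Q12100 : ∀ i, i < 12100 → P i := stepQ 12099 Q12099 (allL N12099 (tt N9707 F20406) (tt N15163 (iv F26459)) (tt N9436 F20407) (tt N15168 D15196) (tt N9435 (iv D12103)) (tt N9441 F20408))
theorem Q12101 : ∀ i, i < 12101 → P i := stepQ 12100 Q12100 (allL N12100 (tt N9438 F20409) (tt N9703 F20410) (tt N15169 D15197) (tt N9437 (iv D12104)) (tt N15170 D15198) (tt N9690 (iv F20411)))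
theorem Q12102 : ∀ i, i < 12102 → P i := stepQ 12101 Q12101 (allL N12101 (tt N9439 F20412) (tt N9702 F20413) (tt N9720 F20414) (tt N9690 F20415) (tt N15171 D15199) (tt N9437 (iv D12105)))
theorem Q12103 : ∀ i, i < 12103 → P i := stepQ 12102 Q12102 (allL N12102 (tt N15169 (iv F26471)) (tt N9684 F20416) (tt N9438 (iv D12106)) (tt N15172 D15200) (tt N15173 D15201) (tt N9682 F20417))
theorem Q12104 : ∀ i, i < 12104 → P i := stepQ 12103 Q12103 (allL N12103 (tt N15170 (iv F26473)) (tt N9440 F20418) (tt N15173 (iv F26481)) (tt N15161 (iv F26456)) (tt N9438 (iv D12107)) (tt N15174 D15202))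
theorem Q12105 : ∀ i, i < 12105 → P i := stepQ 12104 Q12104 (allL N12104 (tt N15171 (iv F26475)) (tt N9441 F20419) (tt N9723 F20420) (tt N15175 D15203) (tt N9439 (iv D12108)) (tt N15163 (iv F26461)))
theorem Q12106 : ∀ i, i < 12106 → P i := stepQ 12105 Q12105 (allL N12105 (tt N9701 F20421) (tt N15174 (iv F26482)) (tt N9689 F20422) (tt N15166 (iv F26467)) (tt N9688 F20423) (tt N9440 (iv D12109)))
theorem Q12107 : ∀ i, i < 12107 → P i := stepQ 12106 Q12106 (allL N12106 (tt N9699 F20424) (tt N15175 (iv F26484)) (tt N15176 D15204) (tt N9441 (iv D12110)) (tt N9687 F20425) (tt N15168 (iv F26470)))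
theorem Q12108 : ∀ i, i < 12108 → P i := stepQ 12107 Q12107 (allL N12107 (tt N15177 D15205) (tt N9442 (iv D12111)) (tt N9444 F20426) (tt N15178 D15206) (tt N12306 (iv F20815)) (tt N14738 (iv F25525)))
theorem Q12109 : ∀ i, i < 12109 → P i := stepQ 12108 Q12108 (allL N12108 (tt N9683 F20427) (tt N15178 (iv F26490)) (tt N15146 (iv F26418)) (tt N9442 (iv D12112)) (tt N15179 D15207) (tt N15144 F26413))
theorem Q12110 : ∀ i, i < 12110 → P i := stepQ 12109 Q12109 (allL N12109 (tt N9684 F20428) (tt N14738 (iv F25524)) (tt N9443 F20429) (tt N15144 (iv F26412)) (tt N15180 D15208) (tt N9442 (iv D12113)))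
theorem Q12111 : ∀ i, i < 12111 → P i := stepQ 12110 Q12110 (allL N12110 (tt N9685 F20430) (tt N9445 F20431) (tt N15180 (iv F26497)) (tt N9461 F20432) (tt N9443 (iv D12114)) (tt N12309 (iv F20819)))
theorem Q12112 : ∀ i, i < 12112 → P i := stepQ 12111 Q12111 (allL N12111 (tt N9444 (iv D12115)) (tt N9450 F20433) (tt N15177 (iv F26489)) (tt N10126 F20434) (tt N12529 (iv F21194)) (tt N14737 (iv F25523)))
theorem Q12113 : ∀ i, i < 12113 → P i := stepQ 12112 Q12112 (allL N12112 (tt N9446 (iv D12116)) (tt N12529 (iv F21193)) (tt N9695 F20435) (tt N15181 D15209) (tt N9450 F20436) (tt N15182 D15210))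
theorem Q12114 : ∀ i, i < 12114 → P i := stepQ 12113 Q12113 (allL N12113 (tt N15181 (iv F26498)) (tt N9447 F20437) (tt N15183 D15211) (tt N9446 (iv D12117)) (tt N15184 D15212) (tt N12538 (iv F21208)))
theorem Q12115 : ∀ i, i < 12115 → P i := stepQ 12114 Q12114 (allL N12114 (tt N15182 (iv F26499)) (tt N9448 F20438) (tt N9697 F20439) (tt N12538 (iv F21207)) (tt N15185 D15213) (tt N9446 (iv D12118)))
theorem Q12116 : ∀ i, i < 12116 → P i := stepQ 12115 Q12115 (allL N12115 (tt N10125 F20440) (tt N15184 (iv F26501)) (tt N12540 (iv F21214)) (tt N9453 F20441) (tt N9447 (iv D12119)) (tt N14932 (iv F25882)))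
theorem Q12117 : ∀ i, i < 12117 → P i := stepQ 12116 Q12116 (allL N12116 (tt N12532 (iv F21197)) (tt N15185 (iv F26503)) (tt N9449 F20442) (tt N15186 D15214) (tt N9448 (iv D12120)) (tt N9454 F20443))
theorem Q12118 : ∀ i, i < 12118 → P i := stepQ 12117 Q12117 (allL N12117 (tt N9451 F20444) (tt N10126 F20445) (tt N15187 D15215) (tt N9450 (iv D12121)) (tt N15188 D15216) (tt N14732 (iv F25509)))
theorem Q12119 : ∀ i, i < 12119 → P i := stepQ 12118 Q12118 (allL N12118 (tt N9452 F20446) (tt N14737 (iv F25522)) (tt N9703 F20447) (tt N14732 (iv F25508)) (tt N15189 D15217) (tt N9450 (iv D12122)))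
theorem Q12120 : ∀ i, i < 12120 → P i := stepQ 12119 Q12119 (allL N12119 (tt N15187 (iv F26509)) (tt N10113 F20448) (tt N9451 (iv D12123)) (tt N15190 D15218) (tt N15191 D15219) (tt N14730 (iv F25503)))
theorem Q12121 : ∀ i, i < 12121 → P i := stepQ 12120 Q12120 (allL N12120 (tt N15188 (iv F26510)) (tt N9453 F20449) (tt N15191 (iv F26518)) (tt N15184 (iv F26502)) (tt N9451 (iv D12124)) (tt N15192 D15220))
theorem Q12122 : ∀ i, i < 12122 → P i := stepQ 12121 Q12121 (allL N12121 (tt N15189 (iv F26512)) (tt N9454 F20450) (tt N9706 F20451) (tt N15193 D15221) (tt N9452 (iv D12125)) (tt N15185 (iv F26505)))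
theorem Q12123 : ∀ i, i < 12123 → P i := stepQ 12122 Q12122 (allL N12122 (tt N10123 F20452) (tt N15192 (iv F26519)) (tt N10046 F20453) (tt N14932 (iv F25880)) (tt N13563 (iv F23143)) (tt N9453 (iv D12126)))
theorem Q12124 : ∀ i, i < 12124 → P i := stepQ 12123 Q12123 (allL N12123 (tt N14736 (iv F25518)) (tt N15193 (iv F26520)) (tt N15194 D15222) (tt N9454 (iv D12127)) (tt N13562 (iv F23140)) (tt N15186 (iv F26508)))
theorem Q12125 : ∀ i, i < 12125 → P i := stepQ 12124 Q12124 (allL N12124 (tt N9752 F20454) (tt N9455 (iv D12128)) (tt N9464 F20455) (tt N9749 (iv F20457)) (tt N11007 F20456) (tt N9748 (iv F20458)))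
theorem Q12126 : ∀ i, i < 12126 → P i := stepQ 12125 Q12125 (allL N12125 (tt N9459 F20459) (tt N9749 F20460) (tt N9730 F20461) (tt N9455 (iv D12129)) (tt N15195 D15223) (tt N9728 F20462))
theorem Q12127 : ∀ i, i < 12127 → P i := stepQ 12126 Q12126 (allL N12126 (tt N9460 F20463) (tt N9748 F20464) (tt N9456 F20465) (tt N9728 F20466) (tt N15196 D15224) (tt N9455 (iv D12130)))
theorem Q12128 : ∀ i, i < 12128 → P i := stepQ 12127 Q12127 (allL N12127 (tt N9461 F20467) (tt N9467 F20468) (tt N15196 (iv F26531)) (tt N9685 F20469) (tt N9456 (iv D12131)) (tt N11010 F20470))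
theorem Q12129 : ∀ i, i < 12129 → P i := stepQ 12128 Q12128 (allL N12128 (tt N11008 F20471) (tt N9767 F20472) (tt N11603 F20473) (tt N9457 (iv D12132)) (tt N15197 D15225) (tt N11602 (iv F20474)))
theorem Q12130 : ∀ i, i < 12130 → P i := stepQ 12129 Q12129 (allL N12129 (tt N11009 F20475) (tt N9768 F20476) (tt N9458 F20477) (tt N11602 F20478) (tt N15198 D15226) (tt N9457 (iv D12133)))
theorem Q12131 : ∀ i, i < 12131 → P i := stepQ 12130 Q12130 (allL N12130 (tt N11010 F20479) (tt N9463 F20480) (tt N15198 (iv F26539)) (tt N12309 (iv F20818)) (tt N9458 (iv D12134)) (tt N9461 F20481))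
theorem Q12132 : ∀ i, i < 12132 → P i := stepQ 12131 Q12131 (allL N12131 (tt N9730 F20482) (tt N9725 F20483) (tt N9459 (iv D12135)) (tt N9725 F20484) (tt N15199 D15227) (tt N9724 F20485))
theorem Q12133 : ∀ i, i < 12133 → P i := stepQ 12132 Q12132 (allL N12132 (tt N15195 (iv F26525)) (tt N9736 F20486) (tt N15199 (iv F26543)) (tt N15197 (iv F26536)) (tt N9459 (iv D12136)) (tt N15200 D15228))
theorem Q12134 : ∀ i, i < 12134 → P i := stepQ 12133 Q12133 (allL N12133 (tt N15196 (iv F26529)) (tt N9509 F20487) (tt N9461 F20488) (tt N15201 D15229) (tt N9460 (iv D12137)) (tt N15198 (iv F26540)))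
theorem Q12135 : ∀ i, i < 12135 → P i := stepQ 12134 Q12134 (allL N12134 (tt N9464 (iv D12138)) (tt N9472 F20489) (tt N9752 F20490) (tt N15202 D15230) (tt N11011 F20491) (tt N9750 (iv F20492)))
theorem Q12136 : ∀ i, i < 12136 → P i := stepQ 12135 Q12135 (allL N12135 (tt N15202 (iv F26550)) (tt N9465 F20493) (tt N9505 F20494) (tt N9464 (iv D12139)) (tt N15203 D15231) (tt N9497 (iv F20495)))
theorem Q12137 : ∀ i, i < 12137 → P i := stepQ 12136 Q12136 (allL N12136 (tt N9750 F20496) (tt N9466 F20497) (tt N9748 F20498) (tt N9497 F20499) (tt N15204 D15232) (tt N9464 (iv D12140)))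
theorem Q12138 : ∀ i, i < 12138 → P i := stepQ 12137 Q12137 (allL N12137 (tt N9476 F20500) (tt N15203 (iv F26554)) (tt N9500 F20501) (tt N11014 F20502) (tt N9465 (iv D12141)) (tt N15205 D15233))
theorem Q12139 : ∀ i, i < 12139 → P i := stepQ 12138 Q12138 (allL N12138 (tt N9478 F20503) (tt N15204 (iv F26558)) (tt N9467 F20504) (tt N15206 D15234) (tt N9466 (iv D12142)) (tt N11015 F20505))
theorem Q12140 : ∀ i, i < 12140 → P i := stepQ 12139 Q12139 (allL N12139 (tt N9468 (iv D12143)) (tt N11011 F20506) (tt N9485 F20507) (tt N15207 D15235) (tt N9472 F20508) (tt N15208 D15236))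
theorem Q12141 : ∀ i, i < 12141 → P i := stepQ 12140 Q12140 (allL N12140 (tt N15207 (iv F26568)) (tt N9469 F20509) (tt N15209 D15237) (tt N9468 (iv D12144)) (tt N15210 D15238) (tt N11022 (iv F20510)))
theorem Q12142 : ∀ i, i < 12142 → P i := stepQ 12141 Q12141 (allL N12141 (tt N15208 (iv F26571)) (tt N9470 F20511) (tt N9487 F20512) (tt N11022 F20513) (tt N15211 D15239) (tt N9468 (iv D12145)))
theorem Q12143 : ∀ i, i < 12143 → P i := stepQ 12142 Q12142 (allL N12142 (tt N11014 F20514) (tt N15210 (iv F26577)) (tt N11025 F20515) (tt N9476 F20516) (tt N9469 (iv D12146)) (tt N15212 D15240))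
theorem Q12144 : ∀ i, i < 12144 → P i := stepQ 12143 Q12143 (allL N12143 (tt N11015 F20517) (tt N15211 (iv F26579)) (tt N9471 F20518) (tt N15213 D15241) (tt N9470 (iv D12147)) (tt N9478 F20519))
theorem Q12145 : ∀ i, i < 12145 → P i := stepQ 12144 Q12144 (allL N12144 (tt N9473 F20520) (tt N15202 (iv F26551)) (tt N15214 D15242) (tt N9472 (iv D12148)) (tt N15215 D15243) (tt N15216 D15244))
theorem Q12146 : ∀ i, i < 12146 → P i := stepQ 12145 Q12145 (allL N12145 (tt N9474 F20521) (tt N9750 F20522) (tt N9491 F20523) (tt N15216 (iv F26594)) (tt N15217 D15245) (tt N9472 (iv D12149)))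
theorem Q12147 : ∀ i, i < 12147 → P i := stepQ 12146 Q12146 (allL N12146 (tt N15214 (iv F26589)) (tt N15218 D15246) (tt N9473 (iv D12150)) (tt N15218 F26601) (tt N15219 D15247) (tt N15220 D15248))
theorem Q12148 : ∀ i, i < 12148 → P i := stepQ 12147 Q12147 (allL N12147 (tt N15215 (iv F26591)) (tt N9476 F20524) (tt N15219 (iv F26602)) (tt N15210 (iv F26578)) (tt N9473 (iv D12151)) (tt N15221 D15249))
theorem Q12149 : ∀ i, i < 12149 → P i := stepQ 12148 Q12148 (allL N12148 (tt N15216 (iv F26592)) (tt N9477 F20525) (tt N15220 (iv F26604)) (tt N9474 F20526) (tt N15222 D15250) (tt N9473 (iv D12152)))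
theorem Q12150 : ∀ i, i < 12150 → P i := stepQ 12149 Q12149 (allL N12149 (tt N15217 (iv F26595)) (tt N9478 F20527) (tt N9492 F20528) (tt N15223 D15251) (tt N9474 (iv D12153)) (tt N15211 (iv F26581)))
theorem Q12151 : ∀ i, i < 12151 → P i := stepQ 12150 Q12150 (allL N12150 (tt N9501 F20529) (tt N9475 (iv D12154)) (tt N15218 (iv F26598)) (tt N9495 F20530) (tt N15224 D15252) (tt N9494 F20531))
theorem Q12152 : ∀ i, i < 12152 → P i := stepQ 12151 Q12151 (allL N12151 (tt N9500 F20532) (tt N15224 (iv F26610)) (tt N9476 F20533) (tt N9508 F20534) (tt N9475 (iv D12155)) (tt N15225 D15253))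
theorem Q12153 : ∀ i, i < 12153 → P i := stepQ 12152 Q12152 (allL N12152 (tt N15205 (iv F26561)) (tt N15221 (iv F26606)) (tt N15225 (iv F26613)) (tt N15212 (iv F26584)) (tt N15226 D15254) (tt N9476 (iv D12156)))
theorem Q12154 : ∀ i, i < 12154 → P i := stepQ 12153 Q12153 (allL N12153 (tt N9498 F20535) (tt N15222 (iv F26607)) (tt N9496 F20536) (tt N15227 D15255) (tt N9477 (iv D12157)) (tt N15226 (iv F26618)))
theorem Q12155 : ∀ i, i < 12155 → P i := stepQ 12154 Q12154 (allL N12154 (tt N15206 (iv F26565)) (tt N15223 (iv F26608)) (tt N15228 D15256) (tt N9478 (iv D12158)) (tt N15227 (iv F26620)) (tt N15213 (iv F26588)))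
theorem Q12156 : ∀ i, i < 12156 → P i := stepQ 12155 Q12155 (allL N12155 (tt N15229 D15257) (tt N9479 (iv D12159)) (tt N9481 F20537) (tt N15230 D15258) (tt N12226 (iv F20667)) (tt N15231 D15259))
theorem Q12157 : ∀ i, i < 12157 → P i := stepQ 12156 Q12156 (allL N12156 (tt N11646 F20538) (tt N15230 (iv F26623)) (tt N11659 F20539) (tt N9479 (iv D12160)) (tt N15232 D15260) (tt N11657 (iv F20540)))
theorem Q12158 : ∀ i, i < 12158 → P i := stepQ 12157 Q12157 (allL N12157 (tt N11647 F20541) (tt N15231 (iv F26627)) (tt N9480 F20542) (tt N11657 F20543) (tt N15233 D15261) (tt N9479 (iv D12161)))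
theorem Q12159 : ∀ i, i < 12159 → P i := stepQ 12158 Q12158 (allL N12158 (tt N11648 F20544) (tt N9484 F20545) (tt N15233 (iv F26634)) (tt N12334 (iv F20859)) (tt N9480 (iv D12162)) (tt N12229 (iv F20674)))
theorem Q12160 : ∀ i, i < 12160 → P i := stepQ 12159 Q12159 (allL N12159 (tt N9481 (iv D12163)) (tt N12253 (iv F20724)) (tt N15229 (iv F26622)) (tt N15234 D15262) (tt N12250 (iv F20718)) (tt N15235 D15263))
theorem Q12161 : ∀ i, i < 12161 → P i := stepQ 12160 Q12160 (allL N12160 (tt N15234 (iv F26635)) (tt N9482 F20546) (tt N11006 (iv F20547)) (tt N9481 (iv D12164)) (tt N15236 D15264) (tt N11005 (iv F20548)))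
theorem Q12162 : ∀ i, i < 12162 → P i := stepQ 12161 Q12161 (allL N12161 (tt N15235 (iv F26638)) (tt N9483 F20549) (tt N15231 (iv F26628)) (tt N11005 F20550) (tt N15237 D15265) (tt N9481 (iv D12165)))
theorem Q12163 : ∀ i, i < 12163 → P i := stepQ 12162 Q12162 (allL N12162 (tt N12256 (iv F20732)) (tt N15236 (iv F26640)) (tt N9672 F20551) (tt N11108 F20552) (tt N9482 (iv D12166)) (tt N9671 F20553))
theorem Q12164 : ∀ i, i < 12164 → P i := stepQ 12163 Q12163 (allL N12163 (tt N9661 F20554) (tt N15237 (iv F26644)) (tt N9484 F20555) (tt N9656 F20556) (tt N9483 (iv D12167)) (tt N12252 (iv F20723)))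
theorem Q12165 : ∀ i, i < 12165 → P i := stepQ 12164 Q12164 (allL N12164 (tt N9487 F20557) (tt N9766 F20558) (tt N15208 (iv F26573)) (tt N11044 F20559) (tt N15238 D15266) (tt N9485 (iv D12168)))
theorem Q12166 : ∀ i, i < 12166 → P i := stepQ 12165 Q12165 (allL N12165 (tt N11040 F20560) (tt N15239 D15267) (tt N9486 (iv D12169)) (tt N15240 D15268) (tt N11038 F20561) (tt N15241 D15269))
theorem Q12167 : ∀ i, i < 12167 → P i := stepQ 12166 Q12166 (allL N12166 (tt N11044 F20562) (tt N9489 F20563) (tt N15241 (iv F26654)) (tt N9487 F20564) (tt N15242 D15270) (tt N9486 (iv D12170)))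
theorem Q12168 : ∀ i, i < 12168 → P i := stepQ 12167 Q12167 (allL N12167 (tt N15238 (iv F26646)) (tt N9490 F20565) (tt N15211 (iv F26580)) (tt N15243 D15271) (tt N9487 (iv D12171)) (tt N9492 F20566))
theorem Q12169 : ∀ i, i < 12169 → P i := stepQ 12168 Q12168 (allL N12168 (tt N15244 D15272) (tt N9488 (iv D12172)) (tt N15239 (iv F26650)) (tt N12255 (iv F20731)) (tt N9659 F20567) (tt N12254 F20728))
theorem Q12170 : ∀ i, i < 12170 → P i := stepQ 12169 Q12169 (allL N12169 (tt N9672 F20568) (tt N15242 (iv F26656)) (tt N12256 (iv F20733)) (tt N14953 (iv F25934)) (tt N9489 (iv D12173)) (tt N9669 F20569))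
theorem Q12171 : ∀ i, i < 12171 → P i := stepQ 12170 Q12170 (allL N12170 (tt N9507 F20570) (tt N15243 (iv F26658)) (tt N14940 (iv F25901)) (tt N9490 (iv D12174)) (tt N14953 (iv F25935)) (tt N9493 F20571))
theorem Q12172 : ∀ i, i < 12172 → P i := stepQ 12171 Q12171 (allL N12171 (tt N9492 F20572) (tt N9508 F20573) (tt N15217 (iv F26597)) (tt N15224 (iv F26611)) (tt N9491 (iv D12175)) (tt N15238 (iv F26648)))
theorem Q12173 : ∀ i, i < 12173 → P i := stepQ 12172 Q12172 (allL N12172 (tt N15224 (iv F26609)) (tt N9493 F20574) (tt N15245 D15273) (tt N9492 (iv D12176)) (tt N9501 F20575) (tt N15243 (iv F26659)))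
theorem Q12174 : ∀ i, i < 12174 → P i := stepQ 12173 Q12173 (allL N12173 (tt N14951 (iv F25926)) (tt N15220 (iv F26603)) (tt N9494 (iv D12177)) (tt N15220 (iv F26605)) (tt N15246 D15274) (tt N15218 F26600))
theorem Q12175 : ∀ i, i < 12175 → P i := stepQ 12174 Q12174 (allL N12174 (tt N14952 (iv F25929)) (tt N9496 F20576) (tt N15246 (iv F26664)) (tt N9674 F20577) (tt N9494 (iv D12178)) (tt N15247 D15275))
theorem Q12176 : ∀ i, i < 12176 → P i := stepQ 12175 Q12175 (allL N12175 (tt N9499 F20578) (tt N15247 (iv F26665)) (tt N15226 (iv F26617)) (tt N9675 F20579) (tt N15225 (iv F26615)) (tt N9496 (iv D12179)))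
theorem Q12177 : ∀ i, i < 12177 → P i := stepQ 12176 Q12176 (allL N12176 (tt N9497 (iv D12180)) (tt N15216 (iv F26593)) (tt N9769 F20580) (tt N9750 F20581) (tt N15248 D15276) (tt N15202 (iv F26553)))
theorem Q12178 : ∀ i, i < 12178 → P i := stepQ 12177 Q12177 (allL N12177 (tt N15248 (iv F26667)) (tt N9498 F20582) (tt N9770 F20583) (tt N15249 D15277) (tt N9497 (iv D12181)) (tt N15250 D15278))
theorem Q12179 : ∀ i, i < 12179 → P i := stepQ 12178 Q12178 (allL N12178 (tt N15227 (iv F26619)) (tt N15249 (iv F26669)) (tt N15251 D15279) (tt N9498 (iv D12182)) (tt N15206 (iv F26566)) (tt N15252 D15280))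
theorem Q12180 : ∀ i, i < 12180 → P i := stepQ 12179 Q12179 (allL N12179 (tt N15226 (iv F26616)) (tt N15250 (iv F26670)) (tt N9499 F20584) (tt N15252 (iv F26675)) (tt N15205 (iv F26564)) (tt N9498 (iv D12183)))
theorem Q12181 : ∀ i, i < 12181 → P i := stepQ 12180 Q12180 (allL N12180 (tt N15225 (iv F26612)) (tt N9507 F20585) (tt N15205 (iv F26562)) (tt N9510 F20586) (tt N9499 (iv D12184)) (tt N9500 F20587))
theorem Q12182 : ∀ i, i < 12182 → P i := stepQ 12181 Q12181 (allL N12181 (tt N15218 F26599) (tt N14938 (iv F25897)) (tt N9501 (iv D12185)) (tt N15214 (iv F26590)) (tt N15245 (iv F26663)) (tt N14951 (iv F25928)))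
theorem Q12183 : ∀ i, i < 12183 → P i := stepQ 12182 Q12182 (allL N12182 (tt N9503 F20588) (tt N9769 F20589) (tt N15253 D15281) (tt N9502 (iv D12186)) (tt N15254 D15282) (tt N14937 (iv F25896)))
theorem Q12184 : ∀ i, i < 12184 → P i := stepQ 12183 Q12183 (allL N12183 (tt N15253 (iv F26676)) (tt N14951 (iv F25927)) (tt N9503 (iv D12187)) (tt N15253 (iv F26677)) (tt N15255 D15283) (tt N14938 (iv F25898)))
theorem Q12185 : ∀ i, i < 12185 → P i := stepQ 12184 Q12184 (allL N12184 (tt N15254 (iv F26678)) (tt N9504 F20590) (tt N15255 (iv F26681)) (tt N11053 F20591) (tt N9503 (iv D12188)) (tt N15256 D15284))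
theorem Q12186 : ∀ i, i < 12186 → P i := stepQ 12185 Q12185 (allL N12185 (tt N9771 F20592) (tt N15256 (iv F26682)) (tt N14953 (iv F25933)) (tt N11055 F20593) (tt N14940 (iv F25903)) (tt N9504 (iv D12189)))
theorem Q12187 : ∀ i, i < 12187 → P i := stepQ 12186 Q12186 (allL N12186 (tt N9505 (iv D12190)) (tt N14937 (iv F25895)) (tt N15202 (iv F26552)) (tt N9762 F20594) (tt N15257 D15285) (tt N9769 F20595))
theorem Q12188 : ∀ i, i < 12188 → P i := stepQ 12187 Q12187 (allL N12187 (tt N15257 (iv F26684)) (tt N9506 F20596) (tt N15203 (iv F26555)) (tt N15258 D15286) (tt N9505 (iv D12191)) (tt N15259 D15287))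
theorem Q12189 : ∀ i, i < 12189 → P i := stepQ 12188 Q12188 (allL N12188 (tt N14936 (iv F25891)) (tt N15258 (iv F26685)) (tt N15186 (iv F26506)) (tt N9506 (iv D12192)) (tt N9772 F20597) (tt N15194 (iv F26523)))
theorem Q12190 : ∀ i, i < 12190 → P i := stepQ 12189 Q12189 (allL N12189 (tt N14940 (iv F25900)) (tt N15259 (iv F26687)) (tt N9507 F20598) (tt N15194 (iv F26524)) (tt N9771 F20599) (tt N9506 (iv D12193)))
theorem Q12191 : ∀ i, i < 12191 → P i := stepQ 12190 Q12190 (allL N12190 (tt N9510 F20600) (tt N15238 (iv F26647)) (tt N9754 F20601) (tt N15225 (iv F26614)) (tt N9766 F20602) (tt N9508 (iv D12194)))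
theorem Q12192 : ∀ i, i < 12192 → P i := stepQ 12191 Q12191 (allL N12191 (tt N9745 F20603) (tt N15201 (iv F26548)) (tt N15260 D15288) (tt N9509 (iv D12195)) (tt N9733 F20604) (tt N15261 D15289))
theorem Q12193 : ∀ i, i < 12193 → P i := stepQ 12192 Q12192 (allL N12192 (tt N9754 F20605) (tt N15198 (iv F26538)) (tt N9510 F20606) (tt N15261 (iv F26695)) (tt N9768 F20607) (tt N9509 (iv D12196)))
theorem Q12194 : ∀ i, i < 12194 → P i := stepQ 12193 Q12193 (allL N12193 (tt N15262 D15290) (tt N9511 (iv D12197)) (tt N9515 F20608) (tt N15263 D15291) (tt N9910 F20609) (tt N13872 (iv F23829)))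
theorem Q12195 : ∀ i, i < 12195 → P i := stepQ 12194 Q12194 (allL N12194 (tt N9827 F20610) (tt N15263 (iv F26700)) (tt N15264 D15292) (tt N9511 (iv D12198)) (tt N15265 D15293) (tt N15266 D15294))
theorem Q12196 : ∀ i, i < 12196 → P i := stepQ 12195 Q12195 (allL N12195 (tt N9825 F20611) (tt N13872 (iv F23828)) (tt N9512 F20612) (tt N15266 (iv F26708)) (tt N15267 D15295) (tt N9511 (iv D12199)))
theorem Q12197 : ∀ i, i < 12197 → P i := stepQ 12196 Q12196 (allL N12196 (tt N9824 F20613) (tt N9516 F20614) (tt N15267 (iv F26710)) (tt N9817 F20615) (tt N9512 (iv D12200)) (tt N9913 F20616))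
theorem Q12198 : ∀ i, i < 12198 → P i := stepQ 12197 Q12197 (allL N12197 (tt N15268 D15296) (tt N9513 (iv D12201)) (tt N9910 F20617) (tt N15269 D15297) (tt N9515 F20618) (tt N15270 D15298))
theorem Q12199 : ∀ i, i < 12199 → P i := stepQ 12198 Q12198 (allL N12198 (tt N9523 F20619) (tt N15269 (iv F26715)) (tt N15271 D15299) (tt N9513 (iv D12202)) (tt N13876 (iv F23836)) (tt N15272 D15300))
theorem Q12200 : ∀ i, i < 12200 → P i := stepQ 12199 Q12199 (allL N12199 (tt N9524 F20620) (tt N15270 (iv F26716)) (tt N9514 F20621) (tt N15272 (iv F26723)) (tt N13875 (iv F23834)) (tt N9513 (iv D12203)))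
theorem Q12201 : ∀ i, i < 12201 → P i := stepQ 12200 Q12200 (allL N12200 (tt N9525 F20622) (tt N9913 F20623) (tt N13875 (iv F23833)) (tt N9842 F20624) (tt N9514 (iv D12204)) (tt N9516 F20625))
theorem Q12202 : ∀ i, i < 12202 → P i := stepQ 12201 Q12201 (allL N12201 (tt N9515 (iv D12205)) (tt N9526 F20626) (tt N15262 (iv F26698)) (tt N13871 (iv F23827)) (tt N15268 (iv F26714)) (tt N13870 F23824))
theorem Q12203 : ∀ i, i < 12203 → P i := stepQ 12202 Q12202 (allL N12202 (tt N9518 F20627) (tt N9531 F20628) (tt N15273 D15301) (tt N9517 (iv D12206)) (tt N15274 D15302) (tt N11045 F20629))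
theorem Q12204 : ∀ i, i < 12204 → P i := stepQ 12203 Q12203 (allL N12203 (tt N15273 (iv F26724)) (tt N9532 F20630) (tt N9518 (iv D12207)) (tt N11035 (iv F20632)) (tt N15275 D15303) (tt N11047 F20631))
theorem Q12205 : ∀ i, i < 12205 → P i := stepQ 12204 Q12204 (allL N12204 (tt N15274 (iv F26728)) (tt N9519 F20633) (tt N15275 (iv F26732)) (tt N9891 F20634) (tt N9518 (iv D12208)) (tt N15276 D15304))
theorem Q12206 : ∀ i, i < 12206 → P i := stepQ 12205 Q12205 (allL N12205 (tt N9534 F20635) (tt N15276 (iv F26733)) (tt N9534 F20636) (tt N9893 F20637) (tt N13864 (iv F23809)) (tt N9519 (iv D12209)))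
theorem Q12207 : ∀ i, i < 12207 → P i := stepQ 12206 Q12206 (allL N12206 (tt N15277 D15305) (tt N9520 (iv D12210)) (tt N9906 F20638) (tt N15278 D15306) (tt N13746 (iv F23577)) (tt N15279 D15307))
theorem Q12208 : ∀ i, i < 12208 → P i := stepQ 12207 Q12207 (allL N12207 (tt N13595 (iv F23208)) (tt N15278 (iv F26736)) (tt N15272 (iv F26722)) (tt N9520 (iv D12211)) (tt N15280 D15308) (tt N15271 F26720))
theorem Q12209 : ∀ i, i < 12209 → P i := stepQ 12208 Q12208 (allL N12208 (tt N13596 (iv F23211)) (tt N15279 (iv F26737)) (tt N9521 F20639) (tt N15271 (iv F26719)) (tt N15281 D15309) (tt N9520 (iv D12212)))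
theorem Q12210 : ∀ i, i < 12210 → P i := stepQ 12209 Q12209 (allL N12209 (tt N13597 (iv F23214)) (tt N9909 F20640) (tt N15281 (iv F26740)) (tt N9851 F20641) (tt N9521 (iv D12213)) (tt N13720 (iv F23517)))
theorem Q12211 : ∀ i, i < 12211 → P i := stepQ 12210 Q12210 (allL N12210 (tt N9522 (iv D12214)) (tt N15268 (iv F26712)) (tt N9866 F20642) (tt N15282 D15310) (tt N9526 F20643) (tt N15132 (iv F26378)))
theorem Q12212 : ∀ i, i < 12212 → P i := stepQ 12211 Q12211 (allL N12211 (tt N15282 (iv F26741)) (tt N9523 F20644) (tt N15283 D15311) (tt N9522 (iv D12215)) (tt N15284 D15312) (tt N15135 (iv F26389)))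
theorem Q12213 : ∀ i, i < 12213 → P i := stepQ 12212 Q12212 (allL N12212 (tt N15271 (iv F26718)) (tt N15285 D15313) (tt N9523 (iv D12216)) (tt N13596 (iv F23213)) (tt N15286 D15314) (tt N13595 F23210))
theorem Q12214 : ∀ i, i < 12214 → P i := stepQ 12213 Q12213 (allL N12213 (tt N13876 (iv F23835)) (tt N15284 (iv F26742)) (tt N15286 (iv F26744)) (tt N9529 F20645) (tt N9523 (iv D12217)) (tt N15287 D15315))
theorem Q12215 : ∀ i, i < 12215 → P i := stepQ 12214 Q12214 (allL N12214 (tt N15272 (iv F26721)) (tt N15135 (iv F26388)) (tt N13595 (iv F23209)) (tt N9524 F20646) (tt N15288 D15316) (tt N9523 (iv D12218)))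
theorem Q12216 : ∀ i, i < 12216 → P i := stepQ 12215 Q12215 (allL N12215 (tt N13875 (iv F23832)) (tt N15136 (iv F26390)) (tt N9525 F20647) (tt N15289 D15317) (tt N9524 (iv D12219)) (tt N9530 F20648))
theorem Q12217 : ∀ i, i < 12217 → P i := stepQ 12216 Q12216 (allL N12216 (tt N9527 F20649) (tt N13871 (iv F23826)) (tt N15290 D15318) (tt N9526 (iv D12220)) (tt N15291 D15319) (tt N13862 (iv F23805)))
theorem Q12218 : ∀ i, i < 12218 → P i := stepQ 12217 Q12217 (allL N12217 (tt N9528 F20650) (tt N13870 (iv F23823)) (tt N9868 F20651) (tt N13862 (iv F23803)) (tt N15292 D15320) (tt N9526 (iv D12221)))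
theorem Q12219 : ∀ i, i < 12219 → P i := stepQ 12218 Q12218 (allL N12218 (tt N15290 (iv F26747)) (tt N13802 (iv F23677)) (tt N9527 (iv D12222)) (tt N15293 D15321) (tt N14390 (iv F24783)) (tt N13800 F23673))
theorem Q12220 : ∀ i, i < 12220 → P i := stepQ 12219 Q12219 (allL N12219 (tt N15291 (iv F26748)) (tt N9529 F20652) (tt N14390 (iv F24782)) (tt N15284 (iv F26743)) (tt N9527 (iv D12223)) (tt N14389 (iv F24780)))
theorem Q12221 : ∀ i, i < 12221 → P i := stepQ 12220 Q12220 (allL N12220 (tt N15292 (iv F26749)) (tt N9530 F20653) (tt N9867 F20654) (tt N15294 D15322) (tt N9528 (iv D12224)) (tt N15136 (iv F26392)))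
theorem Q12222 : ∀ i, i < 12222 → P i := stepQ 12221 Q12221 (allL N12221 (tt N13869 (iv F23819)) (tt N14389 (iv F24778)) (tt N9851 F20655) (tt N15287 (iv F26745)) (tt N9850 F20656) (tt N9529 (iv D12225)))
theorem Q12223 : ∀ i, i < 12223 → P i := stepQ 12222 Q12222 (allL N12222 (tt N13868 (iv F23816)) (tt N15294 (iv F26751)) (tt N15295 D15323) (tt N9530 (iv D12226)) (tt N9849 F20657) (tt N15289 (iv F26746)))
theorem Q12224 : ∀ i, i < 12224 → P i := stepQ 12223 Q12223 (allL N12223 (tt N9533 F20658) (tt N15274 (iv F26729)) (tt N11041 F20659) (tt N9895 F20660) (tt N9531 (iv D12227)) (tt N15296 D15324))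
theorem Q12225 : ∀ i, i < 12225 → P i := stepQ 12224 Q12224 (allL N12224 (tt N11041 F20661) (tt N15275 (iv F26731)) (tt N9533 F20662) (tt N15297 D15325) (tt N9532 (iv D12228)) (tt N15298 D15326))
theorem Q12226 : ∀ i, i < 12226 → P i := stepQ 12225 Q12225 (allL N12225 (tt N15296 (iv F26755)) (tt N9534 F20663) (tt N15298 (iv F26762)) (tt N9898 F20664) (tt N11049 F20665) (tt N9533 (iv D12229)))
theorem Q12227 : ∀ i, i < 12227 → P i := stepQ 12226 Q12226 (allL N12226 (tt N15299 D15327) (tt N9535 (iv D12230)) (tt N9553 F20666) (tt N15300 D15328) (tt N12155 F20667) (tt N15301 D15329))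
theorem Q12228 : ∀ i, i < 12228 → P i := stepQ 12227 Q12227 (allL N12227 (tt N9538 F20668) (tt N15300 (iv F26767)) (tt N15266 (iv F26707)) (tt N9535 (iv D12231)) (tt N15302 D15330) (tt N15264 F26703))
theorem Q12229 : ∀ i, i < 12229 → P i := stepQ 12228 Q12228 (allL N12228 (tt N9539 F20669) (tt N15301 (iv F26768)) (tt N9536 F20670) (tt N15264 (iv F26702)) (tt N15303 D15331) (tt N9535 (iv D12232)))
theorem Q12230 : ∀ i, i < 12230 → P i := stepQ 12229 Q12229 (allL N12229 (tt N9540 F20671) (tt N9555 F20672) (tt N15303 (iv F26773)) (tt N9794 F20673) (tt N9536 (iv D12233)) (tt N12158 F20674))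
theorem Q12231 : ∀ i, i < 12231 → P i := stepQ 12230 Q12230 (allL N12230 (tt N9537 (iv D12234)) (tt N15299 (iv F26764)) (tt N9543 F20675) (tt N15304 D15332) (tt N14679 (iv F25381)) (tt N15137 (iv F26394)))
theorem Q12232 : ∀ i, i < 12232 → P i := stepQ 12231 Q12231 (allL N12231 (tt N15304 (iv F26775)) (tt N9538 F20676) (tt N15305 D15333) (tt N9537 (iv D12235)) (tt N15305 (iv F27438)) (tt N15140 (iv F26400)))
theorem Q12233 : ∀ i, i < 12233 → P i := stepQ 12232 Q12232 (allL N12232 (tt N15266 (iv F26706)) (tt N15306 D15335) (tt N9538 (iv D12236)) (tt N9825 F20677) (tt N15306 (iv F27436)) (tt N9827 (iv F20678)))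
theorem Q12234 : ∀ i, i < 12234 → P i := stepQ 12233 Q12233 (allL N12233 (tt N15302 (iv F26770)) (tt N15305 (iv F27437)) (tt N15306 (iv F27435)) (tt N14682 (iv F25385)) (tt N9538 (iv D12237)) (tt N15307 D15337))
theorem Q12235 : ∀ i, i < 12235 → P i := stepQ 12234 Q12234 (allL N12234 (tt N15264 (iv F26701)) (tt N15140 (iv F26399)) (tt N9827 F20679) (tt N9539 F20680) (tt N15308 D15338) (tt N9538 (iv D12238)))
theorem Q12236 : ∀ i, i < 12236 → P i := stepQ 12235 Q12235 (allL N12235 (tt N15303 (iv F26772)) (tt N15141 (iv F26401)) (tt N9540 F20681) (tt N15309 D15339) (tt N9539 (iv D12239)) (tt N14683 (iv F25387)))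
theorem Q12237 : ∀ i, i < 12237 → P i := stepQ 12236 Q12236 (allL N12236 (tt N9794 F20682) (tt N9544 F20683) (tt N15310 D15340) (tt N9540 (iv D12240)) (tt N9541 F20684) (tt N9630 F20685))
theorem Q12238 : ∀ i, i < 12238 → P i := stepQ 12237 Q12237 (allL N12237 (tt N9793 F20686) (tt N15311 D15341) (tt N9541 (iv D12241)) (tt N9820 F20688) (tt N15310 (iv F26782)) (tt N9542 F20687))
theorem Q12239 : ∀ i, i < 12239 → P i := stepQ 12238 Q12238 (allL N12238 (tt N15312 D15342) (tt N9542 (iv D12242)) (tt N9546 F20689) (tt N15313 D15343) (tt N9627 F20690) (tt N15311 (iv F26787)))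
theorem Q12240 : ∀ i, i < 12240 → P i := stepQ 12239 Q12239 (allL N12239 (tt N9792 F20691) (tt N15313 (iv F26792)) (tt N9822 F20693) (tt N9542 (iv D12243)) (tt N15314 D15344) (tt N9820 F20692))
theorem Q12241 : ∀ i, i < 12241 → P i := stepQ 12240 Q12240 (allL N12240 (tt N9580 F20694) (tt N15315 D15345) (tt N9544 (iv D12244)) (tt N14978 (iv F26002)) (tt N9545 F20695) (tt N9635 F20696))
theorem Q12242 : ∀ i, i < 12242 → P i := stepQ 12241 Q12241 (allL N12241 (tt N15316 D15346) (tt N9545 (iv D12245)) (tt N15311 (iv F26785)) (tt N9589 F20697) (tt N15315 (iv F26800)) (tt N9546 F20698))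
theorem Q12243 : ∀ i, i < 12243 → P i := stepQ 12242 Q12242 (allL N12242 (tt N9546 (iv D12246)) (tt N9582 F20699) (tt N15312 (iv F26789)) (tt N15317 D15347) (tt N9631 F20700) (tt N15316 (iv F26805)))
theorem Q12244 : ∀ i, i < 12244 → P i := stepQ 12243 Q12243 (allL N12243 (tt N15317 (iv F26806)) (tt N9547 F20701) (tt N11112 (iv F20703)) (tt N9546 (iv D12247)) (tt N15318 D15348) (tt N9589 F20702))
theorem Q12245 : ∀ i, i < 12245 → P i := stepQ 12244 Q12244 (allL N12244 (tt N9584 F20704) (tt N15318 (iv F26810)) (tt N9585 F20705) (tt N9634 F20706) (tt N9547 (iv D12248)) (tt N14977 (iv F25999)))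
theorem Q12246 : ∀ i, i < 12246 → P i := stepQ 12245 Q12245 (allL N12245 (tt N11110 F20707) (tt N9549 F20708) (tt N15319 D15349) (tt N9548 (iv D12249)) (tt N15320 D15350) (tt N9551 F20709))
theorem Q12247 : ∀ i, i < 12247 → P i := stepQ 12246 Q12246 (allL N12246 (tt N9585 F20710) (tt N15320 (iv F26818)) (tt N9584 F20711) (tt N13759 (iv F23604)) (tt N9549 (iv D12250)) (tt N14984 (iv F26017)))
theorem Q12248 : ∀ i, i < 12248 → P i := stepQ 12247 Q12247 (allL N12247 (tt N9551 F20712) (tt N9586 F20713) (tt N15321 D15351) (tt N9550 (iv D12251)) (tt N14979 (iv F26006)) (tt N11110 F20714))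
theorem Q12249 : ∀ i, i < 12249 → P i := stepQ 12248 Q12248 (allL N12248 (tt N15321 (iv F26819)) (tt N15322 D15352) (tt N9551 (iv D12252)) (tt N15323 D15353) (tt N14981 (iv F26010)) (tt N15319 (iv F26815)))
theorem Q12250 : ∀ i, i < 12250 → P i := stepQ 12249 Q12249 (allL N12249 (tt N15324 D15354) (tt N9552 (iv D12253)) (tt N15322 (iv F26823)) (tt N9581 F20715) (tt N14983 (iv F26013)) (tt N9583 F20716))
theorem Q12251 : ∀ i, i < 12251 → P i := stepQ 12250 Q12250 (allL N12250 (tt N9553 (iv D12254)) (tt N9560 F20717) (tt N15299 (iv F26765)) (tt N14090 (iv F24172)) (tt N12159 F20718) (tt N15325 D15355))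
theorem Q12252 : ∀ i, i < 12252 → P i := stepQ 12251 Q12251 (allL N12251 (tt N15325 (iv F26832)) (tt N9554 F20719) (tt N15301 (iv F26769)) (tt N9598 F20720) (tt N15326 D15356) (tt N9553 (iv D12255)))
theorem Q12253 : ∀ i, i < 12253 → P i := stepQ 12252 Q12252 (allL N12252 (tt N9565 F20721) (tt N15326 (iv F26835)) (tt N9555 F20722) (tt N12376 (iv F20903)) (tt N9554 (iv D12256)) (tt N12163 F20723))
theorem Q12254 : ∀ i, i < 12254 → P i := stepQ 12253 Q12253 (allL N12253 (tt N9556 (iv D12257)) (tt N12159 F20724) (tt N9566 F20725) (tt N15327 D15357) (tt N9560 F20726) (tt N15328 D15358))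
theorem Q12255 : ∀ i, i < 12255 → P i := stepQ 12254 Q12254 (allL N12254 (tt N15327 (iv F26837)) (tt N9557 F20727) (tt N15329 D15359) (tt N9556 (iv D12258)) (tt N15330 D15360) (tt N12168 (iv F20728)))
theorem Q12256 : ∀ i, i < 12256 → P i := stepQ 12255 Q12255 (allL N12255 (tt N15328 (iv F26840)) (tt N9558 F20729) (tt N9568 F20730) (tt N12168 F20731) (tt N12380 (iv F20913)) (tt N9556 (iv D12259)))
theorem Q12257 : ∀ i, i < 12257 → P i := stepQ 12256 Q12256 (allL N12256 (tt N12162 F20732) (tt N15330 (iv F26846)) (tt N12169 F20733) (tt N9563 F20734) (tt N9557 (iv D12260)) (tt N11919 F20735))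
theorem Q12258 : ∀ i, i < 12258 → P i := stepQ 12257 Q12257 (allL N12257 (tt N9561 F20736) (tt N14090 (iv F24170)) (tt N15331 D15361) (tt N9560 (iv D12261)) (tt N15332 D15362) (tt N15333 D15363))
theorem Q12259 : ∀ i, i < 12259 → P i := stepQ 12258 Q12258 (allL N12258 (tt N9562 F20737) (tt N15325 (iv F26833)) (tt N9576 F20738) (tt N15333 (iv F26853)) (tt N15334 D15364) (tt N9560 (iv D12262)))
theorem Q12260 : ∀ i, i < 12260 → P i := stepQ 12259 Q12259 (allL N12259 (tt N15331 (iv F26849)) (tt N14068 (iv F24142)) (tt N9561 (iv D12263)) (tt N15335 D15365) (tt N15336 D15366) (tt N15337 D15367))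
theorem Q12261 : ∀ i, i < 12261 → P i := stepQ 12260 Q12260 (allL N12260 (tt N15332 (iv F26850)) (tt N9563 F20739) (tt N15336 (iv F26857)) (tt N15330 (iv F26847)) (tt N9561 (iv D12264)) (tt N15338 D15368))
theorem Q12262 : ∀ i, i < 12262 → P i := stepQ 12261 Q12261 (allL N12261 (tt N15333 (iv F26851)) (tt N9564 F20740) (tt N15337 (iv F26859)) (tt N9562 F20741) (tt N11706 (iv F20742)) (tt N9561 (iv D12265)))
theorem Q12263 : ∀ i, i < 12263 → P i := stepQ 12262 Q12262 (allL N12262 (tt N15334 (iv F26855)) (tt N9565 F20743) (tt N9579 F20744) (tt N12381 (iv F20918)) (tt N9562 (iv D12266)) (tt N12380 F20915))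
theorem Q12264 : ∀ i, i < 12264 → P i := stepQ 12263 Q12263 (allL N12263 (tt N12393 (iv F20931)) (tt N15338 (iv F26861)) (tt N11709 F20745) (tt N11919 F20746) (tt N11708 F20747) (tt N9563 (iv D12267)))
theorem Q12265 : ∀ i, i < 12265 → P i := stepQ 12264 Q12264 (allL N12264 (tt N9567 F20748) (tt N14684 (iv F25389)) (tt N15339 D15369) (tt N9566 (iv D12268)) (tt N15340 D15370) (tt N14666 (iv F25360)))
theorem Q12266 : ∀ i, i < 12266 → P i := stepQ 12265 Q12265 (allL N12265 (tt N9568 F20749) (tt N14685 (iv F25391)) (tt N15328 (iv F26842)) (tt N14666 (iv F25359)) (tt N15341 D15371) (tt N9566 (iv D12269)))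
theorem Q12267 : ∀ i, i < 12267 → P i := stepQ 12266 Q12266 (allL N12266 (tt N15339 (iv F26864)) (tt N14657 (iv F25332)) (tt N9567 (iv D12270)) (tt N15342 D15372) (tt N15343 D15373) (tt N14655 F25331))
theorem Q12268 : ∀ i, i < 12268 → P i := stepQ 12267 Q12267 (allL N12267 (tt N15340 (iv F26865)) (tt N9569 F20750) (tt N15343 (iv F26869)) (tt N9578 F20751) (tt N9567 (iv D12271)) (tt N14902 (iv F25836)))
theorem Q12269 : ∀ i, i < 12269 → P i := stepQ 12268 Q12268 (allL N12268 (tt N15341 (iv F26867)) (tt N9570 F20752) (tt N12380 F20914) (tt N14901 (iv F25834)) (tt N9568 (iv D12272)) (tt N9579 F20753))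
theorem Q12270 : ∀ i, i < 12270 → P i := stepQ 12269 Q12269 (allL N12269 (tt N9635 F20754) (tt N15344 D15374) (tt N9571 (iv D12273)) (tt N14865 (iv F25768)) (tt N9572 F20755) (tt N9580 F20756))
theorem Q12271 : ∀ i, i < 12271 → P i := stepQ 12270 Q12270 (allL N12270 (tt N15345 D15375) (tt N9572 (iv D12274)) (tt N9806 F20757) (tt N9642 F20758) (tt N15344 (iv F26871)) (tt N9573 F20759))
theorem Q12272 : ∀ i, i < 12272 → P i := stepQ 12271 Q12271 (allL N12271 (tt N9573 (iv D12275)) (tt N9631 F20760) (tt N9804 F20761) (tt N15346 D15376) (tt N9582 F20762) (tt N15345 (iv F26876)))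
theorem Q12273 : ∀ i, i < 12273 → P i := stepQ 12272 Q12272 (allL N12272 (tt N15346 (iv F26877)) (tt N9574 F20763) (tt N15347 D15377) (tt N9573 (iv D12276)) (tt N15348 D15378) (tt N9642 F20764))
theorem Q12274 : ∀ i, i < 12274 → P i := stepQ 12273 Q12273 (allL N12273 (tt N9634 F20765) (tt N15348 (iv F26882)) (tt N9645 F20766) (tt N9584 F20767) (tt N9574 (iv D12277)) (tt N14869 (iv F25776)))
theorem Q12275 : ∀ i, i < 12275 → P i := stepQ 12274 Q12274 (allL N12274 (tt N9577 F20768) (tt N15349 D15379) (tt N9575 (iv D12278)) (tt N15350 D15380) (tt N15351 D15381) (tt N14885 (iv F25805)))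
theorem Q12276 : ∀ i, i < 12276 → P i := stepQ 12275 Q12275 (allL N12275 (tt N9578 F20769) (tt N15139 (iv F26398)) (tt N15351 (iv F26886)) (tt N15340 (iv F26866)) (tt N9575 (iv D12279)) (tt N14898 (iv F25823)))
theorem Q12277 : ∀ i, i < 12277 → P i := stepQ 12276 Q12276 (allL N12276 (tt N9579 F20770) (tt N15138 (iv F26396)) (tt N15334 (iv F26856)) (tt N14897 (iv F25821)) (tt N9576 (iv D12280)) (tt N15341 (iv F26868)))
theorem Q12278 : ∀ i, i < 12278 → P i := stepQ 12277 Q12277 (allL N12277 (tt N15350 (iv F26884)) (tt N13808 F23693) (tt N15352 D15382) (tt N9577 (iv D12281)) (tt N15353 D15383) (tt N14886 (iv F25807)))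
theorem Q12279 : ∀ i, i < 12279 → P i := stepQ 12278 Q12278 (allL N12278 (tt N15351 (iv F26885)) (tt N14888 (iv F25809)) (tt N9578 F20771) (tt N15354 D15384) (tt N9577 (iv D12282)) (tt N14893 (iv F25818)))
theorem Q12280 : ∀ i, i < 12280 → P i := stepQ 12279 Q12279 (allL N12279 (tt N15355 D15385) (tt N9580 (iv D12283)) (tt N9813 F20772) (tt N15356 D15386) (tt N9581 F20773) (tt N15344 (iv F26872)))
theorem Q12281 : ∀ i, i < 12281 → P i := stepQ 12280 Q12280 (allL N12280 (tt N14978 (iv F26000)) (tt N15356 (iv F26889)) (tt N14857 (iv F25743)) (tt N9580 (iv D12284)) (tt N14858 (iv F25748)) (tt N14865 (iv F25767)))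
theorem Q12282 : ∀ i, i < 12282 → P i := stepQ 12281 Q12281 (allL N12281 (tt N9581 (iv D12285)) (tt N15316 (iv F26802)) (tt N9812 F20774) (tt N15324 (iv F26830)) (tt N15355 (iv F26888)) (tt N9582 F20775))
theorem Q12283 : ∀ i, i < 12283 → P i := stepQ 12282 Q12282 (allL N12282 (tt N9583 F20776) (tt N15317 (iv F26807)) (tt N11894 F20777) (tt N9582 (iv D12286)) (tt N15357 D15387) (tt N15324 (iv F26831)))
theorem Q12284 : ∀ i, i < 12284 → P i := stepQ 12283 Q12283 (allL N12283 (tt N11894 F20778) (tt N15319 (iv F26814)) (tt N9583 (iv D12287)) (tt N11891 F20779) (tt N15358 D15388) (tt N15322 (iv F26824)))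
theorem Q12285 : ∀ i, i < 12285 → P i := stepQ 12284 Q12284 (allL N12284 (tt N15357 (iv F26890)) (tt N9584 F20780) (tt N15358 (iv F26893)) (tt N15348 (iv F26883)) (tt N9583 (iv D12288)) (tt N15359 D15389))
theorem Q12286 : ∀ i, i < 12286 → P i := stepQ 12285 Q12285 (allL N12285 (tt N14977 (iv F25996)) (tt N15359 (iv F26894)) (tt N14984 (iv F26015)) (tt N14869 (iv F25775)) (tt N14860 F25754) (tt N9584 (iv D12289)))
theorem Q12287 : ∀ i, i < 12287 → P i := stepQ 12286 Q12286 (allL N12286 (tt N14984 (iv F26014)) (tt N11114 F20781) (tt N14977 (iv F25997)) (tt N13762 (iv F23614)) (tt N9591 F20782) (tt N9585 (iv D12290)))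
theorem Q12288 : ∀ i, i < 12288 → P i := stepQ 12287 Q12287 (allL N12287 (tt N9588 F20783) (tt N14979 (iv F26005)) (tt N11096 F20784) (tt N9593 F20785) (tt N9586 (iv D12291)) (tt N15360 D15390))
theorem Q12289 : ∀ i, i < 12289 → P i := stepQ 12288 Q12288 (allL N12288 (tt N15361 D15391) (tt N9587 (iv D12292)) (tt N9589 F20786) (tt N11090 F20787) (tt N15362 D15392) (tt N11112 F20788))
theorem Q12290 : ∀ i, i < 12290 → P i := stepQ 12289 Q12289 (allL N12289 (tt N11096 F20789) (tt N15362 (iv F26903)) (tt N9588 F20790) (tt N14476 (iv F24954)) (tt N9587 (iv D12293)) (tt N15363 D15393))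
theorem Q12291 : ∀ i, i < 12291 → P i := stepQ 12290 Q12290 (allL N12290 (tt N15360 (iv F26895)) (tt N9591 F20791) (tt N15363 (iv F26906)) (tt N9596 F20792) (tt N11114 F20793) (tt N9588 (iv D12294)))
theorem Q12292 : ∀ i, i < 12292 → P i := stepQ 12291 Q12291 (allL N12291 (tt N9589 (iv D12295)) (tt N15324 (iv F26828)) (tt N15361 (iv F26900)) (tt N15316 (iv F26804)) (tt N15364 D15394) (tt N15317 (iv F26808)))
theorem Q12293 : ∀ i, i < 12293 → P i := stepQ 12292 Q12292 (allL N12292 (tt N15364 (iv F26908)) (tt N9590 F20794) (tt N15362 (iv F26904)) (tt N14976 (iv F25995)) (tt N9589 (iv D12296)) (tt N14975 F25992))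
theorem Q12294 : ∀ i, i < 12294 → P i := stepQ 12293 Q12293 (allL N12293 (tt N14959 (iv F25945)) (tt N9592 (iv D12297)) (tt N14965 (iv F25964)) (tt N10782 F20795) (tt N15365 D15395) (tt N15004 (iv F26052)))
theorem Q12295 : ∀ i, i < 12295 → P i := stepQ 12294 Q12294 (allL N12294 (tt N9595 F20796) (tt N15365 (iv F26910)) (tt N9593 F20797) (tt N15366 D15396) (tt N9592 (iv D12298)) (tt N15367 D15397))
theorem Q12296 : ∀ i, i < 12296 → P i := stepQ 12295 Q12295 (allL N12295 (tt N9596 F20798) (tt N14980 (iv F26008)) (tt N15367 (iv F26915)) (tt N15360 (iv F26897)) (tt N14497 (iv F24988)) (tt N9593 (iv D12299)))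
theorem Q12297 : ∀ i, i < 12297 → P i := stepQ 12296 Q12296 (allL N12296 (tt N15366 (iv F26912)) (tt N14963 (iv F25958)) (tt N15368 D15398) (tt N9595 (iv D12300)) (tt N14434 (iv F24871)) (tt N15369 D15399))
theorem Q12298 : ∀ i, i < 12298 → P i := stepQ 12297 Q12297 (allL N12297 (tt N15367 (iv F26914)) (tt N14964 (iv F25960)) (tt N9596 F20799) (tt N15369 (iv F26916)) (tt N15007 (iv F26059)) (tt N9595 (iv D12301)))
theorem Q12299 : ∀ i, i < 12299 → P i := stepQ 12298 Q12298 (allL N12298 (tt N10844 F20800) (tt N15337 (iv F26858)) (tt N9597 (iv D12302)) (tt N15370 D15400) (tt N11704 F20801) (tt N14068 (iv F24143)))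
theorem Q12300 : ∀ i, i < 12300 → P i := stepQ 12299 Q12299 (allL N12299 (tt N9598 (iv D12303)) (tt N15333 (iv F26852)) (tt N10857 F20802) (tt N15325 (iv F26834)) (tt N15371 D15401) (tt N14090 (iv F24173)))
theorem Q12301 : ∀ i, i < 12301 → P i := stepQ 12300 Q12300 (allL N12300 (tt N15371 (iv F26918)) (tt N9599 F20803) (tt N10853 F20804) (tt N12902 (iv F21860)) (tt N9598 (iv D12304)) (tt N12901 F21858))
theorem Q12302 : ∀ i, i < 12302 → P i := stepQ 12301 Q12301 (allL N12301 (tt N10783 F20805) (tt N9602 F20806) (tt N15372 D15402) (tt N9601 (iv D12305)) (tt N15373 D15403) (tt N10779 F20807))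
theorem Q12303 : ∀ i, i < 12303 → P i := stepQ 12302 Q12302 (allL N12302 (tt N9604 F20808) (tt N15373 (iv F26926)) (tt N15005 (iv F26055)) (tt N13731 (iv F23546)) (tt N9602 (iv D12306)) (tt N14436 (iv F24875)))
theorem Q12304 : ∀ i, i < 12304 → P i := stepQ 12303 Q12303 (allL N12303 (tt N15372 (iv F26921)) (tt N9603 (iv D12307)) (tt N10783 F20809) (tt N15004 (iv F26051)) (tt N15374 D15404) (tt N10782 F20810))
theorem Q12305 : ∀ i, i < 12305 → P i := stepQ 12304 Q12304 (allL N12304 (tt N15005 (iv F26053)) (tt N15374 (iv F26927)) (tt N9604 F20811) (tt N15375 D15405) (tt N9603 (iv D12308)) (tt N15376 D15406))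
theorem Q12306 : ∀ i, i < 12306 → P i := stepQ 12305 Q12305 (allL N12305 (tt N14436 (iv F24874)) (tt N10795 F20812) (tt N15376 (iv F26929)) (tt N13739 (iv F23562)) (tt N10791 F20813) (tt N9604 (iv D12309)))
theorem Q12307 : ∀ i, i < 12307 → P i := stepQ 12306 Q12306 (allL N12306 (tt N15377 D15407) (tt N9605 (iv D12310)) (tt N9800 F20814) (tt N15378 D15408) (tt N12107 F20815) (tt N15379 D15409))
theorem Q12308 : ∀ i, i < 12308 → P i := stepQ 12307 Q12307 (allL N12307 (tt N12403 (iv F20953)) (tt N15378 (iv F26936)) (tt N13524 (iv F23050)) (tt N9605 (iv D12311)) (tt N15380 D15410) (tt N13522 F23043))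
theorem Q12309 : ∀ i, i < 12309 → P i := stepQ 12308 Q12308 (allL N12308 (tt N12404 (iv F20956)) (tt N15379 (iv F26939)) (tt N9606 F20816) (tt N13522 (iv F23042)) (tt N15381 D15411) (tt N9605 (iv D12312)))
theorem Q12310 : ∀ i, i < 12310 → P i := stepQ 12309 Q12309 (allL N12309 (tt N12405 (iv F20959)) (tt N9803 F20817) (tt N15381 (iv F26946)) (tt N12130 F20818) (tt N9606 (iv D12313)) (tt N12110 F20819))
theorem Q12311 : ∀ i, i < 12311 → P i := stepQ 12310 Q12310 (allL N12310 (tt N9607 (iv D12314)) (tt N13519 (iv F23026)) (tt N9615 F20820) (tt N14609 (iv F25208)) (tt N9611 F20821) (tt N15044 (iv F26187)))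
theorem Q12312 : ∀ i, i < 12312 → P i := stepQ 12311 Q12311 (allL N12311 (tt N14609 (iv F25205)) (tt N9608 F20822) (tt N14606 (iv F25193)) (tt N9607 (iv D12315)) (tt N14605 (iv F25190)) (tt N14803 (iv F25649)))
theorem Q12313 : ∀ i, i < 12313 → P i := stepQ 12312 Q12312 (allL N12312 (tt N15044 (iv F26184)) (tt N9609 F20823) (tt N9617 F20824) (tt N14803 (iv F25647)) (tt N14920 (iv F25866)) (tt N9607 (iv D12316)))
theorem Q12314 : ∀ i, i < 12314 → P i := stepQ 12313 Q12313 (allL N12313 (tt N13522 (iv F23041)) (tt N15382 D15412) (tt N9608 (iv D12317)) (tt N12404 (iv F20958)) (tt N15383 D15413) (tt N12403 F20955))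
theorem Q12315 : ∀ i, i < 12315 → P i := stepQ 12314 Q12314 (allL N12314 (tt N13523 (iv F23044)) (tt N14605 F25188) (tt N15383 (iv F26951)) (tt N9613 F20825) (tt N9608 (iv D12318)) (tt N15384 D15414))
theorem Q12316 : ∀ i, i < 12316 → P i := stepQ 12315 Q12315 (allL N12315 (tt N13524 (iv F23048)) (tt N14803 (iv F25646)) (tt N12403 (iv F20954)) (tt N9609 F20826) (tt N15040 (iv F26172)) (tt N9608 (iv D12319)))
theorem Q12317 : ∀ i, i < 12317 → P i := stepQ 12316 Q12316 (allL N12316 (tt N10091 F20827) (tt N14920 (iv F25864)) (tt N9610 F20828) (tt N15385 D15415) (tt N9609 (iv D12320)) (tt N9614 F20829))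
theorem Q12318 : ∀ i, i < 12318 → P i := stepQ 12317 Q12317 (allL N12317 (tt N14608 (iv F25200)) (tt N9613 F20830) (tt N14927 (iv F25875)) (tt N14605 (iv F25189)) (tt N9612 (iv D12321)) (tt N15386 D15416))
theorem Q12319 : ∀ i, i < 12319 → P i := stepQ 12318 Q12318 (allL N12318 (tt N14636 (iv F25283)) (tt N15386 (iv F26961)) (tt N14776 (iv F25601)) (tt N15384 (iv F26954)) (tt N14788 (iv F25620)) (tt N9613 (iv D12322)))
theorem Q12320 : ∀ i, i < 12320 → P i := stepQ 12319 Q12319 (allL N12319 (tt N10090 F20831) (tt N14919 (iv F25863)) (tt N15387 D15417) (tt N9614 (iv D12323)) (tt N14787 (iv F25618)) (tt N15385 (iv F26958)))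
theorem Q12321 : ∀ i, i < 12321 → P i := stepQ 12320 Q12320 (allL N12320 (tt N9617 F20832) (tt N9637 F20833) (tt N15044 (iv F26186)) (tt N14804 (iv F25653)) (tt N14918 (iv F25862)) (tt N9615 (iv D12324)))
theorem Q12322 : ∀ i, i < 12322 → P i := stepQ 12321 Q12321 (allL N12321 (tt N14804 (iv F25650)) (tt N9619 F20834) (tt N14798 (iv F25639)) (tt N9617 F20835) (tt N15388 D15418) (tt N9616 (iv D12325)))
theorem Q12323 : ∀ i, i < 12323 → P i := stepQ 12322 Q12322 (allL N12322 (tt N15389 D15419) (tt N9618 (iv D12326)) (tt N14795 F25632) (tt N9633 F20836) (tt N14796 (iv F25634)) (tt N9632 F20837))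
theorem Q12324 : ∀ i, i < 12324 → P i := stepQ 12323 Q12323 (allL N12323 (tt N9645 F20838) (tt N15388 (iv F26966)) (tt N9634 F20839) (tt N14910 (iv F25847)) (tt N9619 (iv D12327)) (tt N14870 (iv F25780)))
theorem Q12325 : ∀ i, i < 12325 → P i := stepQ 12324 Q12324 (allL N12324 (tt N15004 (iv F26049)) (tt N9620 (iv D12328)) (tt N9655 F20840) (tt N15372 (iv F26923)) (tt N15390 D15420) (tt N14959 (iv F25948)))
theorem Q12326 : ∀ i, i < 12326 → P i := stepQ 12325 Q12325 (allL N12325 (tt N9622 F20841) (tt N15372 (iv F26922)) (tt N9622 F20842) (tt N9620 (iv D12329)) (tt N15391 D15421) (tt N14960 (iv F25953)))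
theorem Q12327 : ∀ i, i < 12327 → P i := stepQ 12326 Q12326 (allL N12326 (tt N9623 F20843) (tt N15390 (iv F26971)) (tt N9621 F20844) (tt N15392 D15422) (tt N9620 (iv D12330)) (tt N15393 D15423))
theorem Q12328 : ∀ i, i < 12328 → P i := stepQ 12327 Q12327 (allL N12327 (tt N9624 F20845) (tt N9657 F20846) (tt N15393 (iv F26977)) (tt N14711 (iv F25451)) (tt N10119 F20847) (tt N9621 (iv D12331)))
theorem Q12329 : ∀ i, i < 12329 → P i := stepQ 12328 Q12328 (allL N12328 (tt N15391 (iv F26973)) (tt N15005 (iv F26054)) (tt N15391 (iv F26974)) (tt N15394 D15424) (tt N9622 (iv D12332)) (tt N15395 D15425))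
theorem Q12330 : ∀ i, i < 12330 → P i := stepQ 12329 Q12329 (allL N12329 (tt N15392 (iv F26975)) (tt N15006 (iv F26056)) (tt N15396 D15426) (tt N9623 (iv D12333)) (tt N15394 (iv F26979)) (tt N15397 D15427))
theorem Q12331 : ∀ i, i < 12331 → P i := stepQ 12330 Q12330 (allL N12330 (tt N15393 (iv F26976)) (tt N15007 (iv F26057)) (tt N9624 F20848) (tt N15397 (iv F26980)) (tt N14964 (iv F25962)) (tt N9623 (iv D12334)))
theorem Q12332 : ∀ i, i < 12332 → P i := stepQ 12331 Q12331 (allL N12331 (tt N15398 D15428) (tt N9625 (iv D12335)) (tt N9795 F20849) (tt N15399 D15429) (tt N9791 F20850) (tt N15400 D15430))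
theorem Q12333 : ∀ i, i < 12333 → P i := stepQ 12332 Q12332 (allL N12332 (tt N9628 F20851) (tt N15399 (iv F26986)) (tt N11391 F20852) (tt N9625 (iv D12336)) (tt N15401 D15431) (tt N11390 (iv F20853)))
theorem Q12334 : ∀ i, i < 12334 → P i := stepQ 12333 Q12333 (allL N12333 (tt N9629 F20854) (tt N15400 (iv F26990)) (tt N9626 F20855) (tt N11390 F20856) (tt N15402 D15432) (tt N9625 (iv D12337)))
theorem Q12335 : ∀ i, i < 12335 → P i := stepQ 12334 Q12334 (allL N12334 (tt N9630 F20857) (tt N9798 F20858) (tt N15402 (iv F27000)) (tt N12158 F20859) (tt N9626 (iv D12338)) (tt N9794 F20860))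
theorem Q12336 : ∀ i, i < 12336 → P i := stepQ 12335 Q12335 (allL N12335 (tt N9627 (iv D12339)) (tt N15398 (iv F26981)) (tt N9631 F20861) (tt N15027 F26123) (tt N15312 (iv F26790)) (tt N15131 (iv F26375)))
theorem Q12337 : ∀ i, i < 12337 → P i := stepQ 12336 Q12336 (allL N12336 (tt N15027 (iv F26119)) (tt N9628 F20862) (tt N10097 F21782) (tt N9627 (iv D12340)) (tt N10099 F21783) (tt N15120 (iv F26352)))
theorem Q12338 : ∀ i, i < 12338 → P i := stepQ 12337 Q12337 (allL N12337 (tt N15131 (iv F26374)) (tt N9629 F20863) (tt N9633 F20864) (tt N15120 F26353) (tt N15403 D15433) (tt N9627 (iv D12341)))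
theorem Q12339 : ∀ i, i < 12339 → P i := stepQ 12338 Q12338 (allL N12338 (tt N11391 F20865) (tt N10100 F21778) (tt N9628 (iv D12342)) (tt N11382 F20866) (tt N10102 F21779) (tt N11381 (iv F20867)))
theorem Q12340 : ∀ i, i < 12340 → P i := stepQ 12339 Q12339 (allL N12339 (tt N15401 (iv F26994)) (tt N10099 F21780) (tt N10102 F21781) (tt N15314 (iv F26799)) (tt N9628 (iv D12343)) (tt N14720 (iv F25465)))
theorem Q12341 : ∀ i, i < 12341 → P i := stepQ 12340 Q12340 (allL N12340 (tt N11390 F20868) (tt N15120 (iv F26350)) (tt N11381 F20869) (tt N9629 F20870) (tt N15118 (iv F26346)) (tt N9628 (iv D12344)))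
theorem Q12342 : ∀ i, i < 12342 → P i := stepQ 12341 Q12341 (allL N12341 (tt N15402 (iv F26998)) (tt N15403 (iv F27002)) (tt N9630 F20871) (tt N15404 D15434) (tt N9629 (iv D12345)) (tt N15310 (iv F26783)))
theorem Q12343 : ∀ i, i < 12343 → P i := stepQ 12342 Q12342 (allL N12342 (tt N9632 F20872) (tt N15346 (iv F26878)) (tt N15405 D15435) (tt N9631 (iv D12346)) (tt N15406 D15436) (tt N15389 (iv F26970)))
theorem Q12344 : ∀ i, i < 12344 → P i := stepQ 12343 Q12343 (allL N12343 (tt N9633 F20873) (tt N15345 (iv F26873)) (tt N15131 F26376) (tt N15389 (iv F26969)) (tt N15407 D15437) (tt N9631 (iv D12347)))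
theorem Q12345 : ∀ i, i < 12345 → P i := stepQ 12344 Q12344 (allL N12344 (tt N15405 (iv F27007)) (tt N14798 (iv F25638)) (tt N9632 (iv D12348)) (tt N14298 F24578) (tt N15408 D15438) (tt N14795 (iv F25631)))
theorem Q12346 : ∀ i, i < 12346 → P i := stepQ 12345 Q12345 (allL N12345 (tt N15406 (iv F27010)) (tt N9634 F20874) (tt N15408 (iv F27012)) (tt N15318 (iv F26812)) (tt N9632 (iv D12349)) (tt N15409 D15439))
theorem Q12347 : ∀ i, i < 12347 → P i := stepQ 12346 Q12346 (allL N12346 (tt N15407 (iv F27011)) (tt N9635 F20875) (tt N15403 (iv F27003)) (tt N15410 D15440) (tt N9633 (iv D12350)) (tt N15315 (iv F26801)))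
theorem Q12348 : ∀ i, i < 12348 → P i := stepQ 12347 Q12347 (allL N12347 (tt N14869 (iv F25773)) (tt N15409 (iv F27013)) (tt N14870 (iv F25778)) (tt N14977 (iv F25998)) (tt N14832 F25704) (tt N9634 (iv D12351)))
theorem Q12349 : ∀ i, i < 12349 → P i := stepQ 12348 Q12348 (allL N12348 (tt N14865 (iv F25765)) (tt N15410 (iv F27014)) (tt N14829 (iv F25695)) (tt N9635 (iv D12352)) (tt N14830 (iv F25698)) (tt N14978 (iv F26003)))
theorem Q12350 : ∀ i, i < 12350 → P i := stepQ 12349 Q12349 (allL N12349 (tt N9638 F20876) (tt N14768 (iv F25587)) (tt N9636 (iv D12353)) (tt N14002 (iv F24037)) (tt N14772 (iv F25595)) (tt N15411 D15441))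
theorem Q12351 : ∀ i, i < 12351 → P i := stepQ 12350 Q12350 (allL N12350 (tt N9640 F20877) (tt N14804 (iv F25651)) (tt N15411 (iv F27016)) (tt N9637 F20878) (tt N15412 D15442) (tt N9636 (iv D12354)))
theorem Q12352 : ∀ i, i < 12352 → P i := stepQ 12351 Q12351 (allL N12351 (tt N9641 F20879) (tt N14918 (iv F25861)) (tt N14346 F24710) (tt N15413 D15443) (tt N9637 (iv D12355)) (tt N9649 F20880))
theorem Q12353 : ∀ i, i < 12353 → P i := stepQ 12352 Q12352 (allL N12352 (tt N15414 D15444) (tt N9638 (iv D12356)) (tt N9642 F20881) (tt N15415 D15445) (tt N15416 D15446) (tt N15347 (iv F26881)))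
theorem Q12354 : ∀ i, i < 12354 → P i := stepQ 12353 Q12353 (allL N12353 (tt N14002 (iv F24036)) (tt N15415 (iv F27021)) (tt N13998 (iv F24033)) (tt N9638 (iv D12357)) (tt N15417 D15447) (tt N15418 D15448))
theorem Q12355 : ∀ i, i < 12355 → P i := stepQ 12354 Q12354 (allL N12354 (tt N14772 F25596) (tt N15416 (iv F27022)) (tt N9639 F20882) (tt N15419 D15449) (tt N9638 (iv D12358)) (tt N15420 D15450))
theorem Q12356 : ∀ i, i < 12356 → P i := stepQ 12355 Q12355 (allL N12355 (tt N15411 (iv F27015)) (tt N15347 (iv F26880)) (tt N9640 F20883) (tt N15418 (iv F27024)) (tt N15421 D15451) (tt N9638 (iv D12359)))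
theorem Q12357 : ∀ i, i < 12357 → P i := stepQ 12356 Q12356 (allL N12356 (tt N14806 (iv F25655)) (tt N9644 F20884) (tt N15420 (iv F27025)) (tt N9652 F20885) (tt N15422 D15452) (tt N9639 (iv D12360)))
theorem Q12358 : ∀ i, i < 12358 → P i := stepQ 12357 Q12357 (allL N12357 (tt N15412 (iv F27017)) (tt N9645 F20886) (tt N15421 (iv F27026)) (tt N15423 D15453) (tt N9640 (iv D12361)) (tt N15422 (iv F27028)))
theorem Q12359 : ∀ i, i < 12359 → P i := stepQ 12358 Q12358 (allL N12358 (tt N15413 (iv F27018)) (tt N9646 F20887) (tt N15424 D15454) (tt N9641 (iv D12362)) (tt N15423 (iv F27030)) (tt N9653 F20888))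
theorem Q12360 : ∀ i, i < 12360 → P i := stepQ 12359 Q12359 (allL N12359 (tt N9642 (iv D12363)) (tt N15389 (iv F26967)) (tt N15414 (iv F27020)) (tt N15345 (iv F26875)) (tt N15425 D15455) (tt N15346 (iv F26879)))
theorem Q12361 : ∀ i, i < 12361 → P i := stepQ 12360 Q12360 (allL N12360 (tt N15425 (iv F27032)) (tt N9643 F20889) (tt N15416 (iv F27023)) (tt N14866 (iv F25769)) (tt N9642 (iv D12364)) (tt N14868 (iv F25772)))
theorem Q12362 : ∀ i, i < 12362 → P i := stepQ 12361 Q12361 (allL N12361 (tt N14870 (iv F25777)) (tt N15422 (iv F27027)) (tt N14869 (iv F25774)) (tt N14881 (iv F25794)) (tt N9644 (iv D12365)) (tt N9645 F20890))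
theorem Q12363 : ∀ i, i < 12363 → P i := stepQ 12362 Q12362 (allL N12362 (tt N14910 (iv F25846)) (tt N15423 (iv F27029)) (tt N14909 (iv F25844)) (tt N9645 (iv D12366)) (tt N9646 F20891) (tt N14881 (iv F25795)))
theorem Q12364 : ∀ i, i < 12364 → P i := stepQ 12363 Q12363 (allL N12363 (tt N14670 (iv F25367)) (tt N15426 D15456) (tt N9646 (iv D12367)) (tt N14650 (iv F25323)) (tt N14909 (iv F25845)) (tt N9654 F20892))
theorem Q12365 : ∀ i, i < 12365 → P i := stepQ 12364 Q12364 (allL N12364 (tt N9650 F20893) (tt N13466 (iv F22928)) (tt N13335 (iv F22710)) (tt N9647 (iv D12368)) (tt N15427 D15457) (tt N14698 (iv F25420)))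
theorem Q12366 : ∀ i, i < 12366 → P i := stepQ 12365 Q12365 (allL N12365 (tt N9651 F20894) (tt N13288 (iv F22615)) (tt N9648 F20895) (tt N15428 D15458) (tt N9647 (iv D12369)) (tt N15085 (iv F26260)))
theorem Q12367 : ∀ i, i < 12367 → P i := stepQ 12366 Q12366 (allL N12366 (tt N9652 F20896) (tt N12952 F21967) (tt N15085 (iv F26259)) (tt N14806 (iv F25657)) (tt N13501 (iv F22974)) (tt N9648 (iv D12370)))
theorem Q12368 : ∀ i, i < 12368 → P i := stepQ 12367 Q12367 (allL N12367 (tt N9653 F20897) (tt N14911 (iv F25850)) (tt N15429 D15459) (tt N9649 (iv D12371)) (tt N14882 (iv F25798)) (tt N15413 (iv F27019)))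
theorem Q12369 : ∀ i, i < 12369 → P i := stepQ 12368 Q12368 (allL N12368 (tt N13335 (iv F22707)) (tt N14633 (iv F25273)) (tt N9650 (iv D12372)) (tt N13334 F22706) (tt N15430 D15460) (tt N14697 (iv F25416)))
theorem Q12370 : ∀ i, i < 12370 → P i := stepQ 12369 Q12369 (allL N12369 (tt N15427 (iv F27034)) (tt N14635 (iv F25281)) (tt N15430 (iv F27038)) (tt N15431 D15461) (tt N9650 (iv D12373)) (tt N15432 D15462))
theorem Q12371 : ∀ i, i < 12371 → P i := stepQ 12370 Q12370 (allL N12370 (tt N15428 (iv F27035)) (tt N14752 (iv F25554)) (tt N15433 D15463) (tt N9651 (iv D12374)) (tt N15431 (iv F27040)) (tt N15089 (iv F26264)))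
theorem Q12372 : ∀ i, i < 12372 → P i := stepQ 12371 Q12371 (allL N12371 (tt N15429 (iv F27036)) (tt N15434 D15464) (tt N9653 (iv D12375)) (tt N15435 D15465) (tt N14883 (iv F25799)) (tt N15424 (iv F27031)))
theorem Q12373 : ∀ i, i < 12373 → P i := stepQ 12372 Q12372 (allL N12372 (tt N15436 D15466) (tt N9654 (iv D12376)) (tt N15434 (iv F27048)) (tt N15437 D15467) (tt N14884 (iv F25801)) (tt N15426 (iv F27033)))
theorem Q12374 : ∀ i, i < 12374 → P i := stepQ 12373 Q12373 (allL N12373 (tt N14668 (iv F25363)) (tt N15437 (iv F27049)) (tt N14649 (iv F25319)) (tt N9654 (iv D12377)) (tt N14904 (iv F25839)) (tt N14650 (iv F25322)))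
theorem Q12375 : ∀ i, i < 12375 → P i := stepQ 12374 Q12374 (allL N12374 (tt N9655 (iv D12378)) (tt N9658 F20898) (tt N15004 (iv F26050)) (tt N11003 F20899) (tt N15438 D15468) (tt N14965 (iv F25967)))
theorem Q12376 : ∀ i, i < 12376 → P i := stepQ 12375 Q12375 (allL N12375 (tt N15438 (iv F27050)) (tt N9656 F20900) (tt N15390 (iv F26972)) (tt N15237 (iv F26645)) (tt N9655 (iv D12379)) (tt N15439 D15469))
theorem Q12377 : ∀ i, i < 12377 → P i := stepQ 12376 Q12376 (allL N12376 (tt N9662 F20901) (tt N15439 (iv F27052)) (tt N9657 F20902) (tt N12252 F20903) (tt N10122 F20904) (tt N9656 (iv D12380)))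
theorem Q12378 : ∀ i, i < 12378 → P i := stepQ 12377 Q12377 (allL N12377 (tt N9659 F20905) (tt N11003 F20906) (tt N11035 F20907) (tt N9658 (iv D12381)) (tt N15244 (iv F26662)) (tt N14967 (iv F25973)))
theorem Q12379 : ∀ i, i < 12379 → P i := stepQ 12378 Q12378 (allL N12378 (tt N9660 F20908) (tt N15438 (iv F27051)) (tt N9663 F20909) (tt N15440 D15470) (tt N9658 (iv D12382)) (tt N15441 D15471))
theorem Q12380 : ∀ i, i < 12380 → P i := stepQ 12379 Q12379 (allL N12379 (tt N11035 F20910) (tt N11038 F20911) (tt N9659 (iv D12383)) (tt N15273 (iv F26726)) (tt N15239 (iv F26651)) (tt N14968 (iv F25978)))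
theorem Q12381 : ∀ i, i < 12381 → P i := stepQ 12380 Q12380 (allL N12380 (tt N15440 (iv F27055)) (tt N9661 F20912) (tt N12268 (iv F20914)) (tt N9660 (iv D12384)) (tt N12255 F20913) (tt N12262 (iv F20915)))
theorem Q12382 : ∀ i, i < 12382 → P i := stepQ 12381 Q12381 (allL N12381 (tt N15441 (iv F27059)) (tt N9662 F20916) (tt N9665 F20917) (tt N12262 F20918) (tt N14745 (iv F25533)) (tt N9660 (iv D12385)))
theorem Q12383 : ∀ i, i < 12383 → P i := stepQ 12382 Q12382 (allL N12382 (tt N9665 F20919) (tt N14497 (iv F24986)) (tt N15441 (iv F27060)) (tt N14495 (iv F24982)) (tt N14980 (iv F26009)) (tt N9663 (iv D12386)))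
theorem Q12384 : ∀ i, i < 12384 → P i := stepQ 12383 Q12383 (allL N12383 (tt N14491 (iv F24976)) (tt N15442 D15472) (tt N9664 (iv D12387)) (tt N15443 D15473) (tt N13938 (iv F23943)) (tt N15444 D15474))
theorem Q12385 : ∀ i, i < 12385 → P i := stepQ 12384 Q12384 (allL N12384 (tt N14495 (iv F24980)) (tt N9667 F20920) (tt N15444 (iv F27066)) (tt N9665 F20921) (tt N15445 D15475) (tt N9664 (iv D12388)))
theorem Q12386 : ∀ i, i < 12386 → P i := stepQ 12385 Q12385 (allL N12385 (tt N15446 D15476) (tt N9666 (iv D12389)) (tt N15442 (iv F27062)) (tt N15447 D15477) (tt N13898 F23886) (tt N15448 D15478))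
theorem Q12387 : ∀ i, i < 12387 → P i := stepQ 12386 Q12386 (allL N12386 (tt N13941 (iv F23947)) (tt N15447 (iv F27068)) (tt N14664 (iv F25353)) (tt N9666 (iv D12390)) (tt N13901 (iv F23891)) (tt N14665 (iv F25358)))
theorem Q12388 : ∀ i, i < 12388 → P i := stepQ 12387 Q12387 (allL N12387 (tt N13942 (iv F23950)) (tt N15448 (iv F27069)) (tt N9667 F20922) (tt N14665 (iv F25356)) (tt N13900 (iv F23890)) (tt N9666 (iv D12391)))
theorem Q12389 : ∀ i, i < 12389 → P i := stepQ 12388 Q12388 (allL N12388 (tt N13762 (iv F23612)) (tt N15445 (iv F27067)) (tt N13900 (iv F23889)) (tt N14984 (iv F26016)) (tt N9667 (iv D12392)) (tt N13759 (iv F23605)))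
theorem Q12390 : ∀ i, i < 12390 → P i := stepQ 12389 Q12389 (allL N12389 (tt N9673 F20923) (tt N14968 (iv F25976)) (tt N9668 (iv D12393)) (tt N15449 D15479) (tt N15450 D15480) (tt N11038 F20924))
theorem Q12391 : ∀ i, i < 12391 → P i := stepQ 12390 Q12390 (allL N12390 (tt N9674 F20925) (tt N9669 F20926) (tt N15450 (iv F27075)) (tt N14952 (iv F25931)) (tt N9668 (iv D12394)) (tt N15242 (iv F26657)))
theorem Q12392 : ∀ i, i < 12392 → P i := stepQ 12391 Q12391 (allL N12391 (tt N9670 (iv D12395)) (tt N14967 (iv F25972)) (tt N9676 F20927) (tt N14965 (iv F25965)) (tt N15451 D15481) (tt N11003 F20928))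
theorem Q12393 : ∀ i, i < 12393 → P i := stepQ 12392 Q12392 (allL N12392 (tt N15451 (iv F27076)) (tt N9671 F20929) (tt N9677 F20930) (tt N15452 D15482) (tt N9670 (iv D12396)) (tt N15236 (iv F26643)))
theorem Q12394 : ∀ i, i < 12394 → P i := stepQ 12393 Q12393 (allL N12393 (tt N12263 F20931) (tt N15452 (iv F27078)) (tt N11107 F20934) (tt N9671 (iv D12397)) (tt N10121 F20932) (tt N11108 F20933))
theorem Q12395 : ∀ i, i < 12395 → P i := stepQ 12394 Q12394 (allL N12394 (tt N15449 (iv F27070)) (tt N10983 F20935) (tt N15449 (iv F27072)) (tt N9673 (iv D12398)) (tt N15453 D15483) (tt N11039 F20936))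
theorem Q12396 : ∀ i, i < 12396 → P i := stepQ 12395 Q12395 (allL N12395 (tt N15450 (iv F27074)) (tt N10984 F20937) (tt N9674 F20938) (tt N15454 D15484) (tt N9673 (iv D12399)) (tt N15455 D15485))
theorem Q12397 : ∀ i, i < 12397 → P i := stepQ 12396 Q12396 (allL N12396 (tt N15242 (iv F26655)) (tt N9675 F20939) (tt N15455 (iv F27084)) (tt N15247 (iv F26666)) (tt N11044 F20940) (tt N9674 (iv D12400)))
theorem Q12398 : ∀ i, i < 12398 → P i := stepQ 12397 Q12397 (allL N12397 (tt N9677 F20941) (tt N10982 F20942) (tt N15451 (iv F27077)) (tt N15456 D15486) (tt N9676 (iv D12401)) (tt N15457 D15487))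
theorem Q12399 : ∀ i, i < 12399 → P i := stepQ 12398 Q12398 (allL N12398 (tt N15456 (iv F27086)) (tt N9678 F20943) (tt N15458 D15488) (tt N9677 (iv D12402)) (tt N10942 F20944) (tt N15459 D15489))
theorem Q12400 : ∀ i, i < 12400 → P i := stepQ 12399 Q12399 (allL N12399 (tt N15457 (iv F27089)) (tt N9679 F20945) (tt N15236 (iv F26641)) (tt N15459 (iv F27094)) (tt N11006 F20946) (tt N9677 (iv D12403)))
theorem Q12401 : ∀ i, i < 12401 → P i := stepQ 12400 Q12400 (allL N12400 (tt N10979 F20947) (tt N15460 D15490) (tt N9678 (iv D12404)) (tt N15461 D15491) (tt N10943 F20948) (tt N15462 D15492))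
theorem Q12402 : ∀ i, i < 12402 → P i := stepQ 12401 Q12401 (allL N12401 (tt N10980 F20949) (tt N15459 (iv F27093)) (tt N15462 (iv F27099)) (tt N9679 F20950) (tt N15463 D15493) (tt N9678 (iv D12405)))
theorem Q12403 : ∀ i, i < 12403 → P i := stepQ 12402 Q12402 (allL N12402 (tt N12726 (iv F21817)) (tt N9680 (iv D12406)) (tt N9686 F20951) (tt N12721 (iv F21825)) (tt N9682 F20952) (tt N15464 D15494))
theorem Q12404 : ∀ i, i < 12404 → P i := stepQ 12403 Q12403 (allL N12403 (tt N12307 F20953) (tt N12721 F21826) (tt N12315 F20954) (tt N9680 (iv D12407)) (tt N12719 (iv F21827)) (tt N12313 (iv F20955)))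
theorem Q12405 : ∀ i, i < 12405 → P i := stepQ 12404 Q12404 (allL N12404 (tt N12308 F20956) (tt N15464 (iv F27105)) (tt N9681 F20957) (tt N12313 F20958) (tt N15465 D15495) (tt N9680 (iv D12408)))
theorem Q12406 : ∀ i, i < 12406 → P i := stepQ 12405 Q12405 (allL N12405 (tt N12309 F20959) (tt N9689 F20960) (tt N15465 (iv F27109)) (tt N11010 F20961) (tt N9681 (iv D12409)) (tt N9685 F20962))
theorem Q12407 : ∀ i, i < 12407 → P i := stepQ 12406 Q12406 (allL N12406 (tt N9682 (iv D12410)) (tt N15177 (iv F26488)) (tt N9690 F20963) (tt N12725 F21819) (tt N12726 (iv F21818)) (tt N15169 (iv F26472)))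
theorem Q12408 : ∀ i, i < 12408 → P i := stepQ 12407 Q12407 (allL N12407 (tt N12725 (iv F21820)) (tt N9683 F20964) (tt N15466 D15496) (tt N9682 (iv D12411)) (tt N12720 F21823) (tt N15172 (iv F26479)))
theorem Q12409 : ∀ i, i < 12409 → P i := stepQ 12408 Q12408 (allL N12408 (tt N15146 (iv F26416)) (tt N15031 (iv F26140)) (tt N9683 (iv D12412)) (tt N9711 F20965) (tt N15467 D15497) (tt N9710 (iv F20966)))
theorem Q12410 : ∀ i, i < 12410 → P i := stepQ 12409 Q12409 (allL N12409 (tt N15179 (iv F26493)) (tt N12720 (iv F21824)) (tt N15467 (iv F27117)) (tt N12719 F21828) (tt N9683 (iv D12413)) (tt N15468 D15498))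
theorem Q12411 : ∀ i, i < 12411 → P i := stepQ 12410 Q12410 (allL N12410 (tt N15144 (iv F26411)) (tt N15172 (iv F26478)) (tt N9710 F20967) (tt N9684 F20968) (tt N15469 D15499) (tt N9683 (iv D12414)))
theorem Q12412 : ∀ i, i < 12412 → P i := stepQ 12411 Q12411 (allL N12411 (tt N15180 (iv F26496)) (tt N15173 (iv F26480)) (tt N9685 F20969) (tt N15470 D15500) (tt N9684 (iv D12415)) (tt N15465 (iv F27110)))
theorem Q12413 : ∀ i, i < 12413 → P i := stepQ 12412 Q12412 (allL N12412 (tt N9686 (iv D12416)) (tt N9695 F20970) (tt N12726 F21816) (tt N15471 D15501) (tt N9690 F20971) (tt N15472 D15502))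
theorem Q12414 : ∀ i, i < 12414 → P i := stepQ 12413 Q12413 (allL N12413 (tt N15471 (iv F27123)) (tt N9687 F20972) (tt N12885 (iv F21830)) (tt N9686 (iv D12417)) (tt N15175 (iv F26485)) (tt N12884 F21815))
theorem Q12415 : ∀ i, i < 12415 → P i := stepQ 12414 Q12414 (allL N12414 (tt N15472 (iv F27125)) (tt N9688 F20973) (tt N15464 (iv F27106)) (tt N12884 F21814) (tt N15174 (iv F26483)) (tt N9686 (iv D12418)))
theorem Q12416 : ∀ i, i < 12416 → P i := stepQ 12415 Q12415 (allL N12415 (tt N9698 F20974) (tt N12886 (iv F21832)) (tt N9687 (iv D12419)) (tt N9693 F20975) (tt N15176 (iv F26487)) (tt N9692 (iv F20976)))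
theorem Q12417 : ∀ i, i < 12417 → P i := stepQ 12416 Q12416 (allL N12416 (tt N9700 F20977) (tt N12884 (iv F21813)) (tt N9692 F20978) (tt N9688 F20979) (tt N15473 D15503) (tt N9687 (iv D12420)))
theorem Q12418 : ∀ i, i < 12418 → P i := stepQ 12417 Q12417 (allL N12417 (tt N9691 (iv D12421)) (tt N10621 F20980) (tt N12891 (iv F21850)) (tt N12857 F21729) (tt N10618 F20981) (tt N12890 F21847))
theorem Q12419 : ∀ i, i < 12419 → P i := stepQ 12418 Q12418 (allL N12418 (tt N12890 (iv F21844)) (tt N9693 F20983) (tt N12879 F21777) (tt N12886 (iv F21834)) (tt N12890 (iv F21846)) (tt N9691 (iv D12423)))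
theorem Q12420 : ∀ i, i < 12420 → P i := stepQ 12419 Q12419 (allL N12419 (tt N10627 F20984) (tt N12841 F21732) (tt N15473 (iv F27128)) (tt N10620 F20985) (tt N9692 (iv D12424)) (tt N15474 D15504))
theorem Q12421 : ∀ i, i < 12421 → P i := stepQ 12420 Q12420 (allL N12420 (tt N10624 F20986) (tt N12890 (iv F21845)) (tt N9694 F20987) (tt N15475 D15505) (tt N9693 (iv D12425)) (tt N10621 F20988))
theorem Q12422 : ∀ i, i < 12422 → P i := stepQ 12421 Q12421 (allL N12421 (tt N9696 F20989) (tt N15471 (iv F27124)) (tt N15476 D15506) (tt N9695 (iv D12426)) (tt N15477 D15507) (tt N15478 D15508))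
theorem Q12423 : ∀ i, i < 12423 → P i := stepQ 12422 Q12422 (allL N12422 (tt N9697 F20990) (tt N15472 (iv F27126)) (tt N15182 (iv F26500)) (tt N15478 (iv F27138)) (tt N15479 D15509) (tt N9695 (iv D12427)))
theorem Q12424 : ∀ i, i < 12424 → P i := stepQ 12423 Q12423 (allL N12423 (tt N15476 (iv F27134)) (tt N15480 D15510) (tt N9696 (iv D12428)) (tt N15481 D15511) (tt N15482 D15512) (tt N15483 D15513))
theorem Q12425 : ∀ i, i < 12425 → P i := stepQ 12424 Q12424 (allL N12424 (tt N15477 (iv F27135)) (tt N9699 F20991) (tt N15482 (iv F27149)) (tt N9705 F20992) (tt N9696 (iv D12429)) (tt N15484 D15514))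
theorem Q12426 : ∀ i, i < 12426 → P i := stepQ 12425 Q12425 (allL N12425 (tt N15478 (iv F27137)) (tt N9700 F20993) (tt N15483 (iv F27153)) (tt N9697 F20994) (tt N15485 D15515) (tt N9696 (iv D12430)))
theorem Q12427 : ∀ i, i < 12427 → P i := stepQ 12426 Q12426 (allL N12426 (tt N15479 (iv F27139)) (tt N9701 F20995) (tt N15185 (iv F26504)) (tt N15486 D15516) (tt N9697 (iv D12431)) (tt N9706 F20996))
theorem Q12428 : ∀ i, i < 12428 → P i := stepQ 12427 Q12427 (allL N12427 (tt N15475 (iv F27131)) (tt N9698 (iv D12432)) (tt N15480 (iv F27141)) (tt N10624 F20997) (tt N15487 D15517) (tt N10623 F20998))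
theorem Q12429 : ∀ i, i < 12429 → P i := stepQ 12428 Q12428 (allL N12428 (tt N15176 (iv F26486)) (tt N15487 (iv F27160)) (tt N9699 F20999) (tt N15487 (iv F27162)) (tt N9698 (iv D12433)) (tt N15488 D15518))
theorem Q12430 : ∀ i, i < 12430 → P i := stepQ 12429 Q12429 (allL N12429 (tt N15168 (iv F26469)) (tt N15484 (iv F27154)) (tt N15488 (iv F27165)) (tt N9707 F21000) (tt N15489 D15519) (tt N9699 (iv D12434)))
theorem Q12431 : ∀ i, i < 12431 → P i := stepQ 12430 Q12430 (allL N12430 (tt N15473 (iv F27127)) (tt N15485 (iv F27157)) (tt N10627 F21001) (tt N15490 D15520) (tt N9700 (iv D12435)) (tt N15489 (iv F27169)))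
theorem Q12432 : ∀ i, i < 12432 → P i := stepQ 12431 Q12431 (allL N12431 (tt N15166 (iv F26466)) (tt N15486 (iv F27158)) (tt N15491 D15521) (tt N9701 (iv D12436)) (tt N15490 (iv F27170)) (tt N9708 F21002))
theorem Q12433 : ∀ i, i < 12433 → P i := stepQ 12432 Q12432 (allL N12432 (tt N9704 F21003) (tt N15028 (iv F26125)) (tt N9702 (iv D12437)) (tt N11081 F26077) (tt N11082 F26078) (tt N15142 (iv F26406)))
theorem Q12434 : ∀ i, i < 12434 → P i := stepQ 12433 Q12433 (allL N12433 (tt N9705 F21004) (tt N15171 (iv F26476)) (tt N11082 F26081) (tt N15477 (iv F27136)) (tt N9702 (iv D12438)) (tt N15492 D15522))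
theorem Q12435 : ∀ i, i < 12435 → P i := stepQ 12434 Q12434 (allL N12434 (tt N9706 F21005) (tt N15170 (iv F26474)) (tt N15189 (iv F26513)) (tt N15493 D15523) (tt N9703 (iv D12439)) (tt N15479 (iv F27140)))
theorem Q12436 : ∀ i, i < 12436 → P i := stepQ 12435 Q12435 (allL N12435 (tt N11081 F26082) (tt N15146 (iv F26417)) (tt N15494 D15524) (tt N9704 (iv D12440)) (tt N11076 F26083) (tt N15143 (iv F26410)))
theorem Q12437 : ∀ i, i < 12437 → P i := stepQ 12436 Q12436 (allL N12436 (tt N11082 F26079) (tt N15147 (iv F26422)) (tt N9705 F21006) (tt N11077 F26080) (tt N9704 (iv D12441)) (tt N15495 D15525))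
theorem Q12438 : ∀ i, i < 12438 → P i := stepQ 12437 Q12437 (allL N12437 (tt N15492 (iv F27172)) (tt N9707 F21007) (tt N15495 (iv F27180)) (tt N15484 (iv F27156)) (tt N15150 (iv F26433)) (tt N9705 (iv D12442)))
theorem Q12439 : ∀ i, i < 12439 → P i := stepQ 12438 Q12438 (allL N12438 (tt N15493 (iv F27174)) (tt N9708 F21008) (tt N15496 D15526) (tt N9706 (iv D12443)) (tt N15149 (iv F26430)) (tt N15486 (iv F27159)))
theorem Q12440 : ∀ i, i < 12440 → P i := stepQ 12439 Q12439 (allL N12439 (tt N15165 (iv F26464)) (tt N15497 D15527) (tt N9708 (iv D12444)) (tt N15498 D15528) (tt N15151 (iv F26436)) (tt N15491 (iv F27171)))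
theorem Q12441 : ∀ i, i < 12441 → P i := stepQ 12440 Q12440 (allL N12440 (tt N9709 (iv D12445)) (tt N15142 (iv F26403)) (tt N9713 F21009) (tt N15499 D15529) (tt N9940 F21010) (tt N15028 (iv F26126)))
theorem Q12442 : ∀ i, i < 12442 → P i := stepQ 12441 Q12441 (allL N12441 (tt N15499 (iv F27184)) (tt N9710 F21011) (tt N15500 D15530) (tt N9709 (iv D12446)) (tt N15501 D15531) (tt N15031 (iv F26141)))
theorem Q12443 : ∀ i, i < 12443 → P i := stepQ 12442 Q12442 (allL N12442 (tt N15145 (iv F26414)) (tt N15501 (iv F27190)) (tt N15469 (iv F27122)) (tt N9944 F21012) (tt N9710 (iv D12447)) (tt N15502 D15532))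
theorem Q12444 : ∀ i, i < 12444 → P i := stepQ 12443 Q12443 (allL N12443 (tt N15147 (iv F26421)) (tt N15032 (iv F26145)) (tt N9712 F21013) (tt N15503 D15533) (tt N9711 (iv D12448)) (tt N9946 F21014))
theorem Q12445 : ∀ i, i < 12445 → P i := stepQ 12444 Q12444 (allL N12444 (tt N9715 F21015) (tt N9947 F21016) (tt N15504 D15534) (tt N9714 (iv D12449)) (tt N15505 D15535) (tt N9958 (iv F21017)))
theorem Q12446 : ∀ i, i < 12446 → P i := stepQ 12445 Q12445 (allL N12445 (tt N9716 F21018) (tt N9948 F21019) (tt N15159 (iv F26454)) (tt N9958 F21020) (tt N15506 D15536) (tt N9714 (iv D12450)))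
theorem Q12447 : ∀ i, i < 12447 → P i := stepQ 12446 Q12446 (allL N12446 (tt N15504 (iv F27201)) (tt N9956 F21021) (tt N9715 (iv D12451)) (tt N15507 D15537) (tt N15508 D15538) (tt N9954 F21022))
theorem Q12448 : ∀ i, i < 12448 → P i := stepQ 12447 Q12447 (allL N12447 (tt N15505 (iv F27203)) (tt N9717 F21023) (tt N15508 (iv F27214)) (tt N9722 F21024) (tt N9715 (iv D12452)) (tt N9871 F21025))
theorem Q12449 : ∀ i, i < 12449 → P i := stepQ 12448 Q12448 (allL N12448 (tt N15506 (iv F27207)) (tt N9718 F21026) (tt N15163 (iv F26460)) (tt N9867 F21027) (tt N9716 (iv D12453)) (tt N9723 F21028))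
theorem Q12450 : ∀ i, i < 12450 → P i := stepQ 12449 Q12449 (allL N12449 (tt N9721 F21029) (tt N15401 (iv F26995)) (tt N9719 (iv D12454)) (tt N15466 (iv F27114)) (tt N15399 (iv F26989)) (tt N15024 (iv F26115)))
theorem Q12451 : ∀ i, i < 12451 → P i := stepQ 12450 Q12450 (allL N12450 (tt N9722 F21030) (tt N15030 (iv F26135)) (tt N15399 F26987) (tt N15505 (iv F27205)) (tt N9719 (iv D12455)) (tt N15134 (iv F26387)))
theorem Q12452 : ∀ i, i < 12452 → P i := stepQ 12451 Q12451 (allL N12451 (tt N9723 F21031) (tt N15029 (iv F26130)) (tt N15171 (iv F26477)) (tt N15133 (iv F26381)) (tt N9720 (iv D12456)) (tt N15506 (iv F27210)))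
theorem Q12453 : ∀ i, i < 12453 → P i := stepQ 12452 Q12452 (allL N12452 (tt N15466 (iv F27111)) (tt N15011 F26070) (tt N12725 (iv F21821)) (tt N9721 (iv D12457)) (tt N12724 F21822) (tt N15025 (iv F26117)))
theorem Q12454 : ∀ i, i < 12454 → P i := stepQ 12453 Q12453 (allL N12453 (tt N15399 (iv F26985)) (tt N15027 (iv F26120)) (tt N9722 F21032) (tt N15398 F26984) (tt N9721 (iv D12458)) (tt N15126 (iv F26365)))
theorem Q12455 : ∀ i, i < 12455 → P i := stepQ 12454 Q12454 (allL N12454 (tt N9731 F21033) (tt N15199 (iv F26542)) (tt N9726 F21034) (tt N15509 D15539) (tt N9725 (iv D12459)) (tt N12013 F21035))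
theorem Q12456 : ∀ i, i < 12456 → P i := stepQ 12455 Q12455 (allL N12455 (tt N9732 F21036) (tt N9741 F21037) (tt N9729 F21038) (tt N15510 D15540) (tt N9728 (iv D12460)) (tt N15511 D15541))
theorem Q12457 : ∀ i, i < 12457 → P i := stepQ 12456 Q12456 (allL N12456 (tt N12012 F21039) (tt N12015 F21040) (tt N15511 (iv F27222)) (tt N12020 F21041) (tt N15512 D15542) (tt N9729 (iv D12461)))
theorem Q12458 : ∀ i, i < 12458 → P i := stepQ 12457 Q12457 (allL N12457 (tt N15199 (iv F26541)) (tt N9785 F21042) (tt N15195 (iv F26527)) (tt N15513 D15543) (tt N9730 (iv D12462)) (tt N15512 (iv F27225)))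
theorem Q12459 : ∀ i, i < 12459 → P i := stepQ 12458 Q12458 (allL N12458 (tt N15509 (iv F27216)) (tt N9788 F21043) (tt N15514 D15544) (tt N9731 (iv D12463)) (tt N15513 (iv F27227)) (tt N12022 F21044))
theorem Q12460 : ∀ i, i < 12460 → P i := stepQ 12459 Q12459 (allL N12459 (tt N15510 (iv F27218)) (tt N9733 F21045) (tt N15515 D15545) (tt N9732 (iv D12464)) (tt N15201 (iv F26549)) (tt N15516 D15546))
theorem Q12461 : ∀ i, i < 12461 → P i := stepQ 12460 Q12460 (allL N12460 (tt N15511 (iv F27220)) (tt N9734 F21046) (tt N12012 F21047) (tt N15516 (iv F27230)) (tt N15200 (iv F26547)) (tt N9732 (iv D12465)))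
theorem Q12462 : ∀ i, i < 12462 → P i := stepQ 12461 Q12461 (allL N12461 (tt N9744 F21048) (tt N15517 D15547) (tt N9733 (iv D12466)) (tt N9739 F21049) (tt N15260 (iv F26690)) (tt N9738 (iv F21050)))
theorem Q12463 : ∀ i, i < 12463 → P i := stepQ 12462 Q12462 (allL N12462 (tt N9746 F21051) (tt N15516 (iv F27229)) (tt N9738 F21052) (tt N9734 F21053) (tt N11034 (iv F21054)) (tt N9733 (iv D12467)))
theorem Q12464 : ∀ i, i < 12464 → P i := stepQ 12463 Q12463 (allL N12463 (tt N9747 F21055) (tt N15200 (iv F26545)) (tt N9735 F21056) (tt N15518 D15548) (tt N9734 (iv D12468)) (tt N9736 F21057))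
theorem Q12465 : ∀ i, i < 12465 → P i := stepQ 12464 Q12464 (allL N12464 (tt N9756 F21058) (tt N15197 (iv F26534)) (tt N15519 D15549) (tt N9736 (iv D12469)) (tt N9767 F21059) (tt N15518 (iv F27236)))
theorem Q12466 : ∀ i, i < 12466 → P i := stepQ 12465 Q12465 (allL N12465 (tt N9737 (iv D12470)) (tt N10957 F21060) (tt N11992 F21061) (tt N15520 D15550) (tt N10938 F21062) (tt N15521 D15551))
theorem Q12467 : ∀ i, i < 12467 → P i := stepQ 12466 Q12466 (allL N12466 (tt N15520 (iv F27239)) (tt N9738 F21063) (tt N15522 D15552) (tt N9737 (iv D12471)) (tt N11033 F21064) (tt N15517 (iv F27233)))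
theorem Q12468 : ∀ i, i < 12468 → P i := stepQ 12467 Q12467 (allL N12467 (tt N15521 (iv F27243)) (tt N9739 F21065) (tt N10521 F21066) (tt N15517 (iv F27232)) (tt N11032 F21067) (tt N9737 (iv D12472)))
theorem Q12469 : ∀ i, i < 12469 → P i := stepQ 12468 Q12468 (allL N12468 (tt N9742 F21068) (tt N15510 (iv F27219)) (tt N15523 D15553) (tt N9741 (iv D12473)) (tt N15524 D15554) (tt N15525 D15555))
theorem Q12470 : ∀ i, i < 12470 → P i := stepQ 12469 Q12469 (allL N12469 (tt N9743 F21069) (tt N15511 (iv F27221)) (tt N9758 F21070) (tt N15525 (iv F27254)) (tt N15526 D15556) (tt N9741 (iv D12474)))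
theorem Q12471 : ∀ i, i < 12471 → P i := stepQ 12470 Q12470 (allL N12470 (tt N15523 (iv F27249)) (tt N15527 D15557) (tt N9742 (iv D12475)) (tt N15528 D15558) (tt N15529 D15559) (tt N15530 D15560))
theorem Q12472 : ∀ i, i < 12472 → P i := stepQ 12471 Q12471 (allL N12471 (tt N15524 (iv F27251)) (tt N9745 F21071) (tt N15529 (iv F27262)) (tt N9751 F21072) (tt N9742 (iv D12476)) (tt N15531 D15561))
theorem Q12473 : ∀ i, i < 12473 → P i := stepQ 12472 Q12472 (allL N12472 (tt N15525 (iv F27253)) (tt N9746 F21073) (tt N15530 (iv F27264)) (tt N9743 F21074) (tt N15481 F27147) (tt N9742 (iv D12477)))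
theorem Q12474 : ∀ i, i < 12474 → P i := stepQ 12473 Q12473 (allL N12473 (tt N15526 (iv F27255)) (tt N9747 F21075) (tt N9761 F21076) (tt N15482 (iv F27150)) (tt N9743 (iv D12478)) (tt N9753 F21077))
theorem Q12475 : ∀ i, i < 12475 → P i := stepQ 12474 Q12474 (allL N12474 (tt N15532 D15562) (tt N9744 (iv D12479)) (tt N15527 (iv F27258)) (tt N10959 F21078) (tt N15533 D15563) (tt N10958 F21079))
theorem Q12476 : ∀ i, i < 12476 → P i := stepQ 12475 Q12475 (allL N12475 (tt N15260 (iv F26689)) (tt N15533 (iv F27269)) (tt N9745 F21080) (tt N15534 D15564) (tt N9744 (iv D12480)) (tt N15535 D15565))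
theorem Q12477 : ∀ i, i < 12477 → P i := stepQ 12476 Q12476 (allL N12476 (tt N15261 (iv F26693)) (tt N15531 (iv F27265)) (tt N15535 (iv F27275)) (tt N9754 F21081) (tt N15536 D15566) (tt N9745 (iv D12481)))
theorem Q12478 : ∀ i, i < 12478 → P i := stepQ 12477 Q12477 (allL N12477 (tt N11034 F21082) (tt N15481 (iv F27146)) (tt N10960 F21083) (tt N15480 F27144) (tt N9746 (iv D12482)) (tt N15536 (iv F27280)))
theorem Q12479 : ∀ i, i < 12479 → P i := stepQ 12478 Q12478 (allL N12478 (tt N15518 (iv F27234)) (tt N15482 (iv F27148)) (tt N15487 (iv F27161)) (tt N9747 (iv D12483)) (tt N15480 (iv F27145)) (tt N9756 F21084))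
theorem Q12480 : ∀ i, i < 12480 → P i := stepQ 12479 Q12479 (allL N12479 (tt N9751 F21085) (tt N15196 (iv F26530)) (tt N15204 (iv F26559)) (tt N15524 (iv F27252)) (tt N9748 (iv D12484)) (tt N15537 D15567))
theorem Q12481 : ∀ i, i < 12481 → P i := stepQ 12480 Q12480 (allL N12480 (tt N9753 F21086) (tt N15195 (iv F26526)) (tt N9764 F21087) (tt N15538 D15568) (tt N9749 (iv D12485)) (tt N15526 (iv F27257)))
theorem Q12482 : ∀ i, i < 12482 → P i := stepQ 12481 Q12481 (allL N12481 (tt N15204 (iv F26557)) (tt N15217 (iv F26596)) (tt N9751 F21088) (tt N15539 D15569) (tt N9750 (iv D12486)) (tt N15540 D15570))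
theorem Q12483 : ∀ i, i < 12483 → P i := stepQ 12482 Q12482 (allL N12482 (tt N15537 (iv F27282)) (tt N9754 F21089) (tt N15540 (iv F27290)) (tt N15531 (iv F27266)) (tt N15541 D15571) (tt N9751 (iv D12487)))
theorem Q12484 : ∀ i, i < 12484 → P i := stepQ 12483 Q12483 (allL N12483 (tt N11007 F21090) (tt N9755 F21091) (tt N11011 F21092) (tt N15542 D15572) (tt N9752 (iv D12488)) (tt N15541 (iv F27295)))
theorem Q12485 : ∀ i, i < 12485 → P i := stepQ 12484 Q12484 (allL N12484 (tt N15538 (iv F27286)) (tt N9756 F21093) (tt N15484 (iv F27155)) (tt N9753 (iv D12489)) (tt N15542 (iv F27298)) (tt N15482 F27151))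
theorem Q12486 : ∀ i, i < 12486 → P i := stepQ 12485 Q12485 (allL N12485 (tt N9768 F21094) (tt N15541 (iv F27293)) (tt N9766 F21095) (tt N15543 D15573) (tt N9754 (iv D12490)) (tt N9755 F21096))
theorem Q12487 : ∀ i, i < 12487 → P i := stepQ 12486 Q12486 (allL N12486 (tt N9767 F21097) (tt N15542 (iv F27297)) (tt N15544 D15574) (tt N9755 (iv D12491)) (tt N9756 F21098) (tt N15543 (iv F27302)))
theorem Q12488 : ∀ i, i < 12488 → P i := stepQ 12487 Q12487 (allL N12487 (tt N15519 (iv F27237)) (tt N15488 (iv F27164)) (tt N9756 (iv D12492)) (tt N15488 (iv F27166)) (tt N15544 (iv F27305)) (tt N15487 F27163))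
theorem Q12489 : ∀ i, i < 12489 → P i := stepQ 12488 Q12488 (allL N12488 (tt N9759 F21099) (tt N15545 D15575) (tt N9757 (iv D12493)) (tt N15546 D15576) (tt N15547 D15577) (tt N10593 F21100))
theorem Q12490 : ∀ i, i < 12490 → P i := stepQ 12489 Q12489 (allL N12489 (tt N9760 F21101) (tt N9787 F21102) (tt N15547 (iv F27316)) (tt N9763 F21103) (tt N9757 (iv D12494)) (tt N11079 F21104))
theorem Q12491 : ∀ i, i < 12491 → P i := stepQ 12490 Q12490 (allL N12490 (tt N9761 F21105) (tt N9786 F21106) (tt N15526 (iv F27256)) (tt N11078 F21107) (tt N9758 (iv D12495)) (tt N9764 F21108))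
theorem Q12492 : ∀ i, i < 12492 → P i := stepQ 12491 Q12491 (allL N12491 (tt N15546 (iv F27312)) (tt N10597 F21109) (tt N15548 D15578) (tt N9759 (iv D12496)) (tt N15549 D15579) (tt N10594 F21110))
theorem Q12493 : ∀ i, i < 12493 → P i := stepQ 12492 Q12492 (allL N12492 (tt N15547 (iv F27315)) (tt N10598 F21111) (tt N9760 F21112) (tt N15550 D15580) (tt N9759 (iv D12497)) (tt N11084 F21113))
theorem Q12494 : ∀ i, i < 12494 → P i := stepQ 12493 Q12493 (allL N12493 (tt N9765 F21114) (tt N14934 (iv F25885)) (tt N9763 F21115) (tt N15551 D15581) (tt N9762 (iv D12498)) (tt N11060 F21116))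
theorem Q12495 : ∀ i, i < 12495 → P i := stepQ 12494 Q12494 (allL N12494 (tt N15551 (iv F27323)) (tt N9772 F21117) (tt N15552 D15582) (tt N9765 (iv D12499)) (tt N15258 (iv F26686)) (tt N11067 F21118))
theorem Q12496 : ∀ i, i < 12496 → P i := stepQ 12495 Q12495 (allL N12495 (tt N15544 (iv F27303)) (tt N12864 (iv F21739)) (tt N9767 (iv D12500)) (tt N10660 F21119) (tt N15519 (iv F27238)) (tt N10659 (iv F21120)))
theorem Q12497 : ∀ i, i < 12497 → P i := stepQ 12496 Q12496 (allL N12496 (tt N15543 (iv F27299)) (tt N11602 F21121) (tt N10659 F21122) (tt N9768 F21123) (tt N15553 D15583) (tt N9767 (iv D12501)))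
theorem Q12498 : ∀ i, i < 12498 → P i := stepQ 12497 Q12497 (allL N12497 (tt N9770 F21126) (tt N15254 (iv F26679)) (tt N15248 (iv F26668)) (tt N11058 F21127) (tt N9769 (iv D12502)) (tt N15554 D15584))
theorem Q12499 : ∀ i, i < 12499 → P i := stepQ 12498 Q12498 (allL N12498 (tt N15554 (iv F27331)) (tt N9771 F21128) (tt N15250 (iv F26671)) (tt N11065 F21129) (tt N15259 (iv F26688)) (tt N9770 (iv D12503)))
theorem Q12500 : ∀ i, i < 12500 → P i := stepQ 12499 Q12499 (allL N12499 (tt N13861 (iv F23800)) (tt N15555 D15585) (tt N9772 (iv D12504)) (tt N12539 F21212) (tt N15186 (iv F26507)) (tt N11074 F21130))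
theorem Q12501 : ∀ i, i < 12501 → P i := stepQ 12500 Q12500 (allL N12500 (tt N9775 F21131) (tt N15556 D15586) (tt N9773 (iv D12505)) (tt N9859 F21132) (tt N15557 D15587) (tt N12804 (iv F21640)))
theorem Q12502 : ∀ i, i < 12502 → P i := stepQ 12501 Q12501 (allL N12501 (tt N9776 F21133) (tt N12810 (iv F21653)) (tt N15557 (iv F27337)) (tt N9779 F21134) (tt N9773 (iv D12506)) (tt N15558 D15588))
theorem Q12503 : ∀ i, i < 12503 → P i := stepQ 12502 Q12502 (allL N12502 (tt N9777 F21135) (tt N12811 (iv F21656)) (tt N9782 F21136) (tt N15558 (iv F27339)) (tt N9774 (iv D12507)) (tt N9779 F21137))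
theorem Q12504 : ∀ i, i < 12504 → P i := stepQ 12503 Q12503 (allL N12503 (tt N9859 F21138) (tt N12807 (iv F21646)) (tt N9858 F21139) (tt N9775 (iv D12508)) (tt N15559 D15589) (tt N12805 (iv F21645)))
theorem Q12505 : ∀ i, i < 12505 → P i := stepQ 12504 Q12504 (allL N12504 (tt N15557 (iv F27336)) (tt N12808 (iv F21648)) (tt N9776 F21140) (tt N15560 D15590) (tt N9775 (iv D12509)) (tt N15561 D15591))
theorem Q12506 : ∀ i, i < 12506 → P i := stepQ 12505 Q12505 (allL N12505 (tt N15558 (iv F27338)) (tt N9778 F21141) (tt N15561 (iv F27344)) (tt N9777 F21142) (tt N10217 F21143) (tt N9776 (iv D12510)))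
theorem Q12507 : ∀ i, i < 12507 → P i := stepQ 12506 Q12506 (allL N12506 (tt N9845 F21144) (tt N9780 (iv D12511)) (tt N11075 F21145) (tt N9899 (iv F21147)) (tt N15562 D15592) (tt N9843 F21146))
theorem Q12508 : ∀ i, i < 12508 → P i := stepQ 12507 Q12507 (allL N12507 (tt N9783 F21148) (tt N9899 F21149) (tt N12805 (iv F21644)) (tt N9780 (iv D12512)) (tt N15563 D15593) (tt N9858 F21150))
theorem Q12509 : ∀ i, i < 12509 → P i := stepQ 12508 Q12508 (allL N12508 (tt N9784 F21151) (tt N15562 (iv F27347)) (tt N9781 F21152) (tt N15564 D15594) (tt N9780 (iv D12513)) (tt N14553 (iv F25089)))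
theorem Q12510 : ∀ i, i < 12510 → P i := stepQ 12509 Q12509 (allL N12509 (tt N12805 (iv F21642)) (tt N9890 F21153) (tt N9783 (iv D12514)) (tt N12804 F21641) (tt N15565 D15595) (tt N9859 F21154))
theorem Q12511 : ∀ i, i < 12511 → P i := stepQ 12510 Q12510 (allL N12510 (tt N15563 (iv F27350)) (tt N9864 F21155) (tt N15565 (iv F27355)) (tt N15566 D15596) (tt N9783 (iv D12515)) (tt N15567 D15597))
theorem Q12512 : ∀ i, i < 12512 → P i := stepQ 12511 Q12511 (allL N12511 (tt N15564 (iv F27352)) (tt N9865 F21156) (tt N15568 D15598) (tt N9784 (iv D12516)) (tt N15566 (iv F27357)) (tt N14556 (iv F25093)))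
theorem Q12513 : ∀ i, i < 12513 → P i := stepQ 12512 Q12512 (allL N12512 (tt N9788 F21157) (tt N15513 (iv F27226)) (tt N15569 D15599) (tt N9785 (iv D12517)) (tt N9788 F21158) (tt N15570 D15600))
theorem Q12514 : ∀ i, i < 12514 → P i := stepQ 12513 Q12513 (allL N12513 (tt N9789 F21159) (tt N15512 (iv F27224)) (tt N9786 F21160) (tt N15570 (iv F27363)) (tt N12015 F21161) (tt N9785 (iv D12518)))
theorem Q12515 : ∀ i, i < 12515 → P i := stepQ 12514 Q12514 (allL N12514 (tt N9790 F21162) (tt N15571 D15601) (tt N9787 (iv D12519)) (tt N15572 D15602) (tt N12023 F21163) (tt N14542 (iv F25069)))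
theorem Q12516 : ∀ i, i < 12516 → P i := stepQ 12515 Q12515 (allL N12515 (tt N15569 (iv F27360)) (tt N15573 D15603) (tt N9788 (iv D12520)) (tt N15573 (iv F31615)) (tt N15569 (iv F27361)) (tt N15574 D15605))
theorem Q12517 : ∀ i, i < 12517 → P i := stepQ 12516 Q12516 (allL N12516 (tt N15570 (iv F27362)) (tt N12022 F21164) (tt N15574 (iv F27366)) (tt N9789 F21165) (tt N15575 D15606) (tt N9788 (iv D12521)))
theorem Q12518 : ∀ i, i < 12518 → P i := stepQ 12517 Q12517 (allL N12517 (tt N15572 (iv F27365)) (tt N14538 (iv F25059)) (tt N15576 D15607) (tt N9790 (iv D12522)) (tt N15577 D15608) (tt N14546 (iv F25074)))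
theorem Q12519 : ∀ i, i < 12519 → P i := stepQ 12518 Q12518 (allL N12518 (tt N9791 (iv D12523)) (tt N15312 (iv F26788)) (tt N9799 F21166) (tt N12724 (iv F21506)) (tt N15398 (iv F26983)) (tt N10912 F21167))
theorem Q12520 : ∀ i, i < 12520 → P i := stepQ 12519 Q12519 (allL N12519 (tt N12724 (iv F21505)) (tt N9792 F21168) (tt N12720 (iv F21500)) (tt N9791 (iv D12524)) (tt N15466 (iv F27113)) (tt N10915 F21169))
theorem Q12521 : ∀ i, i < 12521 → P i := stepQ 12520 Q12520 (allL N12520 (tt N9822 F21170) (tt N15467 (iv F27116)) (tt N9792 (iv D12525)) (tt N9816 F21171) (tt N15031 F26142) (tt N9815 (iv F21172)))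
theorem Q12522 : ∀ i, i < 12522 → P i := stepQ 12521 Q12521 (allL N12521 (tt N15314 (iv F26796)) (tt N15466 (iv F27112)) (tt N15031 (iv F26143)) (tt N15401 (iv F26997)) (tt N9792 (iv D12526)) (tt N15500 (iv F27188)))
theorem Q12523 : ∀ i, i < 12523 → P i := stepQ 12522 Q12522 (allL N12522 (tt N9820 F21173) (tt N10915 F21174) (tt N9815 F21175) (tt N9793 F21176) (tt N15578 D15609) (tt N9792 (iv D12527)))
theorem Q12524 : ∀ i, i < 12524 → P i := stepQ 12523 Q12523 (allL N12523 (tt N15310 (iv F26781)) (tt N10916 F21177) (tt N9794 F21178) (tt N15579 D15610) (tt N9793 (iv D12528)) (tt N15402 (iv F27001)))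
theorem Q12525 : ∀ i, i < 12525 → P i := stepQ 12524 Q12524 (allL N12524 (tt N9795 (iv D12529)) (tt N9804 F21179) (tt N15398 (iv F26982)) (tt N15580 D15611) (tt N9799 F21180) (tt N15581 D15612))
theorem Q12526 : ∀ i, i < 12526 → P i := stepQ 12525 Q12525 (allL N12525 (tt N15580 (iv F27374)) (tt N9796 F21181) (tt N15582 D15613) (tt N9795 (iv D12530)) (tt N10918 F21182) (tt N15583 D15614))
theorem Q12527 : ∀ i, i < 12527 → P i := stepQ 12526 Q12526 (allL N12526 (tt N15581 (iv F27377)) (tt N9797 F21183) (tt N15400 (iv F26991)) (tt N15583 (iv F27383)) (tt N10917 F21184) (tt N9795 (iv D12531)))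
theorem Q12528 : ∀ i, i < 12528 → P i := stepQ 12527 Q12527 (allL N12527 (tt N9807 F21185) (tt N15584 D15615) (tt N9796 (iv D12532)) (tt N9802 F21186) (tt N10919 F21187) (tt N9801 (iv F21188)))
theorem Q12529 : ∀ i, i < 12529 → P i := stepQ 12528 Q12528 (allL N12528 (tt N9809 F21189) (tt N15583 (iv F27382)) (tt N9801 F21190) (tt N9797 F21191) (tt N11907 F21192) (tt N9796 (iv D12533)))
theorem Q12530 : ∀ i, i < 12530 → P i := stepQ 12529 Q12529 (allL N12529 (tt N9800 (iv D12534)) (tt N12112 F21193) (tt N15377 (iv F26932)) (tt N15585 D15616) (tt N12111 F21194) (tt N15586 D15617))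
theorem Q12531 : ∀ i, i < 12531 → P i := stepQ 12530 Q12530 (allL N12530 (tt N15585 (iv F27388)) (tt N9801 F21195) (tt N15587 D15618) (tt N9800 (iv D12535)) (tt N12905 (iv F21864)) (tt N15584 (iv F27387)))
theorem Q12532 : ∀ i, i < 12532 → P i := stepQ 12531 Q12531 (allL N12531 (tt N15586 (iv F27390)) (tt N9802 F21196) (tt N15379 (iv F26940)) (tt N15584 (iv F27385)) (tt N15588 D15619) (tt N9800 (iv D12536)))
theorem Q12533 : ∀ i, i < 12533 → P i := stepQ 12532 Q12532 (allL N12532 (tt N12116 F21197) (tt N15588 (iv F27393)) (tt N9803 F21198) (tt N15589 D15620) (tt N9802 (iv D12537)) (tt N11703 F21199))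
theorem Q12534 : ∀ i, i < 12534 → P i := stepQ 12533 Q12533 (allL N12533 (tt N9805 F21200) (tt N15580 (iv F27375)) (tt N15590 D15621) (tt N9804 (iv D12538)) (tt N12787 F21620) (tt N15591 D15622))
theorem Q12535 : ∀ i, i < 12535 → P i := stepQ 12534 Q12534 (allL N12534 (tt N9806 F21201) (tt N15581 (iv F27378)) (tt N15345 (iv F26874)) (tt N15591 (iv F27401)) (tt N15592 D15623) (tt N9804 (iv D12539)))
theorem Q12536 : ∀ i, i < 12536 → P i := stepQ 12535 Q12535 (allL N12535 (tt N15590 (iv F27399)) (tt N15593 D15624) (tt N9805 (iv D12540)) (tt N15594 D15625) (tt N12796 F21628) (tt N15595 D15626))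
theorem Q12537 : ∀ i, i < 12537 → P i := stepQ 12536 Q12536 (allL N12536 (tt N15591 (iv F27400)) (tt N9809 F21202) (tt N15595 (iv F27409)) (tt N9806 F21203) (tt N12793 (iv F21626)) (tt N9805 (iv D12541)))
theorem Q12538 : ∀ i, i < 12538 → P i := stepQ 12537 Q12537 (allL N12537 (tt N15592 (iv F27402)) (tt N9810 F21204) (tt N15344 (iv F26870)) (tt N11882 (iv F21206)) (tt N9806 (iv D12542)) (tt N9813 F21205))
theorem Q12539 : ∀ i, i < 12539 → P i := stepQ 12538 Q12538 (allL N12538 (tt N15596 D15627) (tt N9807 (iv D12543)) (tt N15593 (iv F27406)) (tt N12114 F21207) (tt N15597 D15628) (tt N12113 F21208))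
theorem Q12540 : ∀ i, i < 12540 → P i := stepQ 12539 Q12539 (allL N12539 (tt N10919 F21209) (tt N15597 (iv F27412)) (tt N9808 F21210) (tt N12499 (iv F21212)) (tt N9807 (iv D12544)) (tt N11885 (iv F21211)))
theorem Q12541 : ∀ i, i < 12541 → P i := stepQ 12540 Q12540 (allL N12540 (tt N11907 F21213) (tt N12793 (iv F21624)) (tt N12115 F21214) (tt N11883 F21215) (tt N9809 (iv D12545)) (tt N11884 F21216))
theorem Q12542 : ∀ i, i < 12542 → P i := stepQ 12541 Q12541 (allL N12541 (tt N9813 F21217) (tt N10913 F21218) (tt N15355 (iv F26887)) (tt N10532 F21219) (tt N9812 (iv D12546)) (tt N15592 (iv F27404)))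
theorem Q12543 : ∀ i, i < 12543 → P i := stepQ 12542 Q12542 (allL N12542 (tt N9814 (iv D12547)) (tt N9818 F21220) (tt N9843 F21221) (tt N15598 D15629) (tt N13819 (iv F23719)) (tt N11075 (iv F21222)))
theorem Q12544 : ∀ i, i < 12544 → P i := stepQ 12543 Q12543 (allL N12543 (tt N15598 (iv F27415)) (tt N9815 F21223) (tt N15468 (iv F27121)) (tt N9814 (iv D12548)) (tt N15502 (iv F27195)) (tt N15467 (iv F27119)))
theorem Q12545 : ∀ i, i < 12545 → P i := stepQ 12544 Q12544 (allL N12544 (tt N11075 F21224) (tt N9816 F21225) (tt N9845 F21226) (tt N15467 F27118) (tt N15503 (iv F27198)) (tt N9814 (iv D12549)))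
theorem Q12546 : ∀ i, i < 12546 → P i := stepQ 12545 Q12545 (allL N12545 (tt N9821 F21227) (tt N15502 (iv F27193)) (tt N15578 (iv F27372)) (tt N13822 (iv F23730)) (tt N9815 (iv D12550)) (tt N15501 (iv F27192)))
theorem Q12547 : ∀ i, i < 12547 → P i := stepQ 12546 Q12546 (allL N12546 (tt N9823 F21228) (tt N15503 (iv F27197)) (tt N9817 F21229) (tt N15032 (iv F26147)) (tt N9816 (iv D12551)) (tt N13823 (iv F23736)))
theorem Q12548 : ∀ i, i < 12548 → P i := stepQ 12547 Q12547 (allL N12547 (tt N9819 F21230) (tt N15598 (iv F27416)) (tt N11062 F21232) (tt N9818 (iv D12552)) (tt N15599 D15630) (tt N11076 F21231))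
theorem Q12549 : ∀ i, i < 12549 → P i := stepQ 12548 Q12548 (allL N12548 (tt N11062 F21233) (tt N15600 D15631) (tt N9819 (iv D12553)) (tt N11057 F21235) (tt N15601 D15632) (tt N11080 F21234))
theorem Q12550 : ∀ i, i < 12550 → P i := stepQ 12549 Q12549 (allL N12549 (tt N15599 (iv F27418)) (tt N9821 F21236) (tt N15601 (iv F27424)) (tt N13827 (iv F23741)) (tt N9819 (iv D12554)) (tt N15602 D15633))
theorem Q12551 : ∀ i, i < 12551 → P i := stepQ 12550 Q12550 (allL N12550 (tt N15603 D15634) (tt N9820 (iv D12555)) (tt N15600 (iv F27420)) (tt N15311 (iv F26786)) (tt N15604 D15635) (tt N15313 (iv F26794)))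
theorem Q12552 : ∀ i, i < 12552 → P i := stepQ 12551 Q12551 (allL N12551 (tt N15578 (iv F27370)) (tt N15604 (iv F27429)) (tt N9821 F21237) (tt N15605 D15636) (tt N9820 (iv D12556)) (tt N15606 D15637))
theorem Q12553 : ∀ i, i < 12553 → P i := stepQ 12552 Q12552 (allL N12552 (tt N15501 (iv F27189)) (tt N15602 (iv F27425)) (tt N15606 (iv F27430)) (tt N13831 (iv F23749)) (tt N15499 (iv F27186)) (tt N9821 (iv D12557)))
theorem Q12554 : ∀ i, i < 12554 → P i := stepQ 12553 Q12553 (allL N12553 (tt N15031 (iv F26139)) (tt N11081 F21238) (tt N15314 (iv F26798)) (tt N15028 (iv F26128)) (tt N9822 (iv D12558)) (tt N15499 (iv F27187)))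
theorem Q12555 : ∀ i, i < 12555 → P i := stepQ 12554 Q12554 (allL N12554 (tt N15032 (iv F26144)) (tt N11082 F21239) (tt N15029 (iv F26131)) (tt N9823 (iv D12559)) (tt N15028 F26127) (tt N13833 (iv F23757)))
theorem Q12556 : ∀ i, i < 12556 → P i := stepQ 12555 Q12555 (allL N12555 (tt N15267 (iv F26709)) (tt N15607 D15638) (tt N9824 (iv D12560)) (tt N15607 F27434) (tt N9825 F21240) (tt N9920 F21241))
theorem Q12557 : ∀ i, i < 12557 → P i := stepQ 12556 Q12556 (allL N12556 (tt N15608 D15639) (tt N9825 (iv D12561)) (tt N9829 F21242) (tt N15306 (iv F26777)) (tt N15607 (iv F27432)) (tt N9826 F21243))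
theorem Q12558 : ∀ i, i < 12558 → P i := stepQ 12557 Q12557 (allL N12557 (tt N9826 (iv D12562)) (tt N15262 (iv F26697)) (tt N9830 F21244) (tt N15609 D15640) (tt N9914 F21245) (tt N15608 (iv F27441)))
theorem Q12559 : ∀ i, i < 12559 → P i := stepQ 12558 Q12558 (allL N12558 (tt N15609 (iv F27442)) (tt N9827 F21246) (tt N15307 (iv F27439)) (tt N9826 (iv D12563)) (tt N15610 D15641) (tt N15306 (iv F26778)))
theorem Q12560 : ∀ i, i < 12560 → P i := stepQ 12559 Q12559 (allL N12559 (tt N15265 (iv F26704)) (tt N15610 (iv F27443)) (tt N15308 (iv F26780)) (tt N9918 F21247) (tt N9827 (iv D12564)) (tt N15610 (iv F27445)))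
theorem Q12561 : ∀ i, i < 12561 → P i := stepQ 12560 Q12560 (allL N12560 (tt N15611 D15642) (tt N9828 (iv D12565)) (tt N15607 (iv F27431)) (tt N9951 F21248) (tt N9829 F21249) (tt N9925 F21250))
theorem Q12562 : ∀ i, i < 12562 → P i := stepQ 12561 Q12561 (allL N12561 (tt N9829 (iv D12566)) (tt N9868 F21251) (tt N15608 (iv F27440)) (tt N9882 F21252) (tt N15611 (iv F27448)) (tt N9830 F21253))
theorem Q12563 : ∀ i, i < 12563 → P i := stepQ 12562 Q12562 (allL N12562 (tt N9831 F21254) (tt N9869 F21255) (tt N15612 D15643) (tt N9830 (iv D12567)) (tt N15613 D15644) (tt N9882 F21256))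
theorem Q12564 : ∀ i, i < 12564 → P i := stepQ 12563 Q12563 (allL N12563 (tt N15612 (iv F27450)) (tt N9873 F21257) (tt N9831 (iv D12568)) (tt N13681 (iv F23446)) (tt N14695 (iv F25409)) (tt N9878 F21258))
theorem Q12565 : ∀ i, i < 12565 → P i := stepQ 12564 Q12564 (allL N12564 (tt N15613 (iv F27452)) (tt N9832 F21259) (tt N14695 (iv F25411)) (tt N9924 F21260) (tt N9831 (iv D12569)) (tt N9950 F21261))
theorem Q12566 : ∀ i, i < 12566 → P i := stepQ 12565 Q12565 (allL N12565 (tt N9834 F21262) (tt N9872 F21263) (tt N15614 D15645) (tt N9833 (iv D12570)) (tt N15615 D15646) (tt N9836 F21264))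
theorem Q12567 : ∀ i, i < 12567 → P i := stepQ 12566 Q12566 (allL N12566 (tt N15614 (iv F27456)) (tt N9870 F21265) (tt N9834 (iv D12571)) (tt N15616 D15647) (tt N15617 D15648) (tt N9837 F21266))
theorem Q12568 : ∀ i, i < 12568 → P i := stepQ 12567 Q12567 (allL N12567 (tt N15615 (iv F27458)) (tt N9835 F21267) (tt N15617 (iv F27466)) (tt N9965 F21268) (tt N9834 (iv D12572)) (tt N9957 F21269))
theorem Q12569 : ∀ i, i < 12569 → P i := stepQ 12568 Q12568 (allL N12568 (tt N9837 F21270) (tt N15618 D15649) (tt N9836 (iv D12573)) (tt N15619 D15650) (tt N9952 F21271) (tt N15614 (iv F27457)))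
theorem Q12570 : ∀ i, i < 12570 → P i := stepQ 12569 Q12569 (allL N12569 (tt N15620 D15651) (tt N9837 (iv D12574)) (tt N9838 F21272) (tt N15621 D15652) (tt N9954 F21273) (tt N9870 F21274))
theorem Q12571 : ∀ i, i < 12571 → P i := stepQ 12570 Q12570 (allL N12570 (tt N15619 (iv F27470)) (tt N15621 (iv F27474)) (tt N15622 D15653) (tt N9837 (iv D12575)) (tt N15623 D15654) (tt N15616 (iv F27463)))
theorem Q12572 : ∀ i, i < 12572 → P i := stepQ 12571 Q12571 (allL N12571 (tt N9838 (iv D12576)) (tt N9882 F21275) (tt N15620 (iv F27471)) (tt N9868 F21276) (tt N9958 F21277) (tt N9869 F21278))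
theorem Q12573 : ∀ i, i < 12573 → P i := stepQ 12572 Q12572 (allL N12572 (tt N9839 (iv D12577)) (tt N9852 F21279) (tt N13819 (iv F23718)) (tt N12848 (iv F21718)) (tt N9843 F21280) (tt N14551 (iv F25084)))
theorem Q12574 : ∀ i, i < 12574 → P i := stepQ 12573 Q12573 (allL N12573 (tt N12848 F21719) (tt N9840 F21281) (tt N11726 (iv F21720)) (tt N9839 (iv D12578)) (tt N12846 (iv F21721)) (tt N15624 D15655))
theorem Q12575 : ∀ i, i < 12575 → P i := stepQ 12574 Q12574 (allL N12574 (tt N14551 (iv F25083)) (tt N9841 F21282) (tt N13821 (iv F23724)) (tt N15624 (iv F27481)) (tt N15625 D15656) (tt N9839 (iv D12579)))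
theorem Q12576 : ∀ i, i < 12576 → P i := stepQ 12575 Q12575 (allL N12575 (tt N9854 F21283) (tt N14388 (iv F24776)) (tt N9840 (iv D12580)) (tt N9850 F21284) (tt N15626 D15657) (tt N9849 (iv F21285)))
theorem Q12577 : ∀ i, i < 12577 → P i := stepQ 12576 Q12576 (allL N12576 (tt N9855 F21286) (tt N12846 F21722) (tt N15626 (iv F27486)) (tt N9846 F21287) (tt N9840 (iv D12581)) (tt N15627 D15658))
theorem Q12578 : ∀ i, i < 12578 → P i := stepQ 12577 Q12577 (allL N12577 (tt N9856 F21288) (tt N15624 (iv F27479)) (tt N9849 F21289) (tt N9841 F21290) (tt N15295 (iv F26754)) (tt N9840 (iv D12582)))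
theorem Q12579 : ∀ i, i < 12579 → P i := stepQ 12578 Q12578 (allL N12578 (tt N9857 F21291) (tt N15625 (iv F27482)) (tt N9842 F21292) (tt N15628 D15659) (tt N9841 (iv D12583)) (tt N9847 F21293))
theorem Q12580 : ∀ i, i < 12580 → P i := stepQ 12579 Q12579 (allL N12579 (tt N9844 F21294) (tt N9858 F21295) (tt N13799 (iv F23669)) (tt N9843 (iv D12584)) (tt N12851 F21717) (tt N9899 F21296))
theorem Q12581 : ∀ i, i < 12581 → P i := stepQ 12580 Q12580 (allL N12580 (tt N12851 F21716) (tt N9846 F21297) (tt N12872 F21750) (tt N12846 F21723) (tt N9844 (iv D12585)) (tt N12870 (iv F21753)))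
theorem Q12582 : ∀ i, i < 12582 → P i := stepQ 12581 Q12581 (allL N12581 (tt N15562 (iv F27346)) (tt N9847 F21298) (tt N15503 F27200) (tt N15629 D15660) (tt N9845 (iv D12586)) (tt N15625 (iv F27484)))
theorem Q12583 : ∀ i, i < 12583 → P i := stepQ 12582 Q12582 (allL N12582 (tt N9863 F21299) (tt N12870 F21754) (tt N9903 F21300) (tt N15627 (iv F27488)) (tt N9902 F21301) (tt N9846 (iv D12587)))
theorem Q12584 : ∀ i, i < 12584 → P i := stepQ 12583 Q12583 (allL N12583 (tt N9865 F21302) (tt N15629 (iv F27492)) (tt N15630 D15661) (tt N9847 (iv D12588)) (tt N9901 F21303) (tt N15628 (iv F27490)))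
theorem Q12585 : ∀ i, i < 12585 → P i := stepQ 12584 Q12584 (allL N12584 (tt N9848 (iv D12589)) (tt N13865 (iv F23810)) (tt N13804 (iv F23686)) (tt N15631 D15662) (tt N13862 (iv F23804)) (tt N14385 (iv F24772)))
theorem Q12586 : ∀ i, i < 12586 → P i := stepQ 12585 Q12585 (allL N12585 (tt N15631 (iv F27498)) (tt N9849 F21304) (tt N15632 D15663) (tt N9848 (iv D12590)) (tt N15294 (iv F26752)) (tt N14388 (iv F24777)))
theorem Q12587 : ∀ i, i < 12587 → P i := stepQ 12586 Q12586 (allL N12586 (tt N9853 F21305) (tt N12848 (iv F21711)) (tt N12854 F21709) (tt N9852 (iv D12591)) (tt N12850 (iv F21712)) (tt N14552 (iv F25086)))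
theorem Q12588 : ∀ i, i < 12588 → P i := stepQ 12587 Q12587 (allL N12587 (tt N12854 (iv F21710)) (tt N15633 D15664) (tt N9853 (iv D12592)) (tt N14539 (iv F25062)) (tt N12858 (iv F21734)) (tt N14554 (iv F25090)))
theorem Q12589 : ∀ i, i < 12589 → P i := stepQ 12588 Q12588 (allL N12588 (tt N12850 F21713) (tt N9855 F21306) (tt N12858 (iv F21733)) (tt N9860 F21307) (tt N9853 (iv D12593)) (tt N15634 D15665))
theorem Q12590 : ∀ i, i < 12590 → P i := stepQ 12589 Q12589 (allL N12589 (tt N15635 D15666) (tt N9854 (iv D12594)) (tt N15633 (iv F27506)) (tt N13867 (iv F23815)) (tt N15636 D15667) (tt N13866 F23813))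
theorem Q12591 : ∀ i, i < 12591 → P i := stepQ 12590 Q12590 (allL N12590 (tt N15626 (iv F27485)) (tt N15636 (iv F27511)) (tt N9855 F21308) (tt N15637 D15668) (tt N9854 (iv D12595)) (tt N15638 D15669))
theorem Q12592 : ∀ i, i < 12592 → P i := stepQ 12591 Q12591 (allL N12591 (tt N15627 (iv F27487)) (tt N15634 (iv F27507)) (tt N15638 (iv F27512)) (tt N9863 F21309) (tt N15639 D15670) (tt N9855 (iv D12596)))
theorem Q12593 : ∀ i, i < 12593 → P i := stepQ 12592 Q12592 (allL N12592 (tt N15295 (iv F26753)) (tt N14555 (iv F25091)) (tt N13868 (iv F23817)) (tt N15640 D15671) (tt N9856 (iv D12597)) (tt N15639 (iv F27513)))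
theorem Q12594 : ∀ i, i < 12594 → P i := stepQ 12593 Q12593 (allL N12593 (tt N15628 (iv F27489)) (tt N14556 (iv F25092)) (tt N15640 (iv F27517)) (tt N9857 (iv D12598)) (tt N15640 (iv F27515)) (tt N9865 F21310))
theorem Q12595 : ∀ i, i < 12595 → P i := stepQ 12594 Q12594 (allL N12594 (tt N9860 F21311) (tt N12851 (iv F21715)) (tt N15559 (iv F27342)) (tt N12850 F21714) (tt N9858 (iv D12599)) (tt N15641 D15672))
theorem Q12596 : ∀ i, i < 12596 → P i := stepQ 12595 Q12595 (allL N12595 (tt N13796 (iv F23663)) (tt N9859 (iv D12600)) (tt N9861 F21312) (tt N15556 (iv F27334)) (tt N15642 D15673) (tt N9890 F21313))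
theorem Q12597 : ∀ i, i < 12597 → P i := stepQ 12596 Q12596 (allL N12596 (tt N15559 (iv F27341)) (tt N15642 (iv F27520)) (tt N9860 F21314) (tt N15643 D15674) (tt N9859 (iv D12601)) (tt N15644 D15675))
theorem Q12598 : ∀ i, i < 12598 → P i := stepQ 12597 Q12597 (allL N12597 (tt N15641 (iv F27518)) (tt N9863 F21315) (tt N15644 (iv F27522)) (tt N15634 (iv F27508)) (tt N15567 (iv F27359)) (tt N9860 (iv D12602)))
theorem Q12599 : ∀ i, i < 12599 → P i := stepQ 12598 Q12598 (allL N12598 (tt N13797 (iv F23665)) (tt N9862 F21316) (tt N15642 (iv F27521)) (tt N15645 D15676) (tt N9861 (iv D12603)) (tt N15646 D15677))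
theorem Q12600 : ∀ i, i < 12600 → P i := stepQ 12599 Q12599 (allL N12599 (tt N9904 F21317) (tt N15645 (iv F27523)) (tt N13749 (iv F23581)) (tt N9862 (iv D12604)) (tt N9894 F21318) (tt N15647 D15678))
theorem Q12601 : ∀ i, i < 12601 → P i := stepQ 12600 Q12600 (allL N12600 (tt N9903 F21319) (tt N15646 (iv F27525)) (tt N9863 F21320) (tt N15647 (iv F27528)) (tt N9893 F21321) (tt N9862 (iv D12605)))
theorem Q12602 : ∀ i, i < 12602 → P i := stepQ 12601 Q12601 (allL N12601 (tt N9902 F21322) (tt N15567 (iv F27358)) (tt N9893 F21323) (tt N15648 D15679) (tt N9863 (iv D12606)) (tt N9864 F21324))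
theorem Q12603 : ∀ i, i < 12603 → P i := stepQ 12602 Q12602 (allL N12602 (tt N9901 F21325) (tt N15566 (iv F27356)) (tt N15648 (iv F27530)) (tt N9864 (iv D12607)) (tt N9865 F21326) (tt N15648 (iv F27532)))
theorem Q12604 : ∀ i, i < 12604 → P i := stepQ 12603 Q12603 (allL N12603 (tt N15630 (iv F27496)) (tt N15649 D15680) (tt N9865 (iv D12608)) (tt N15639 F27514) (tt N15648 (iv F27531)) (tt N15640 (iv F27516)))
theorem Q12605 : ∀ i, i < 12605 → P i := stepQ 12604 Q12604 (allL N12604 (tt N9867 (iv D12609)) (tt N15611 (iv F27446)) (tt N15292 (iv F26750)) (tt N15506 (iv F27209)) (tt N9868 F21327) (tt N15133 (iv F26382)))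
theorem Q12606 : ∀ i, i < 12606 → P i := stepQ 12605 Q12605 (allL N12605 (tt N9870 F21328) (tt N15650 D15681) (tt N9869 (iv D12610)) (tt N15651 D15682) (tt N15652 D15683) (tt N15620 (iv F27473)))
theorem Q12607 : ∀ i, i < 12607 → P i := stepQ 12606 Q12606 (allL N12606 (tt N9871 F21329) (tt N15613 (iv F27453)) (tt N15652 (iv F27535)) (tt N15134 (iv F26386)) (tt N9869 (iv D12611)) (tt N15505 (iv F27206)))
theorem Q12608 : ∀ i, i < 12608 → P i := stepQ 12607 Q12607 (allL N12607 (tt N15651 (iv F27533)) (tt N15616 (iv F27462)) (tt N15653 D15684) (tt N9870 (iv D12612)) (tt N15654 D15685) (tt N15621 (iv F27475)))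
theorem Q12609 : ∀ i, i < 12609 → P i := stepQ 12608 Q12608 (allL N12608 (tt N15652 (iv F27534)) (tt N15617 (iv F27465)) (tt N9871 F21330) (tt N15582 (iv F27381)) (tt N9870 (iv D12613)) (tt N15508 (iv F27215)))
theorem Q12610 : ∀ i, i < 12610 → P i := stepQ 12609 Q12609 (allL N12609 (tt N9874 F21331) (tt N15615 (iv F27459)) (tt N13692 (iv F23473)) (tt N9978 F21332) (tt N9872 (iv D12614)) (tt N15655 D15686))
theorem Q12611 : ∀ i, i < 12611 → P i := stepQ 12610 Q12610 (allL N12610 (tt N13692 (iv F23472)) (tt N14695 (iv F25408)) (tt N9874 F21333) (tt N13527 (iv F23062)) (tt N9873 (iv D12615)) (tt N15656 D15687))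
theorem Q12612 : ∀ i, i < 12612 → P i := stepQ 12611 Q12611 (allL N12611 (tt N15655 (iv F27537)) (tt N9875 F21334) (tt N15656 (iv F27542)) (tt N9987 F21335) (tt N9881 F21336) (tt N9874 (iv D12616)))
theorem Q12613 : ∀ i, i < 12613 → P i := stepQ 12612 Q12612 (allL N12612 (tt N15657 D15688) (tt N9876 (iv D12617)) (tt N15618 (iv F27468)) (tt N13691 (iv F23471)) (tt N15658 D15689) (tt N13690 F23468))
theorem Q12614 : ∀ i, i < 12614 → P i := stepQ 12613 Q12613 (allL N12613 (tt N9880 F21337) (tt N15658 (iv F27546)) (tt N9877 F21338) (tt N15659 D15690) (tt N9876 (iv D12618)) (tt N15660 D15691))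
theorem Q12615 : ∀ i, i < 12615 → P i := stepQ 12614 Q12614 (allL N12614 (tt N9881 F21339) (tt N9953 F21340) (tt N15660 (iv F27550)) (tt N9885 F21341) (tt N15655 (iv F27540)) (tt N9877 (iv D12619)))
theorem Q12616 : ∀ i, i < 12616 → P i := stepQ 12615 Q12615 (allL N12615 (tt N9878 (iv D12620)) (tt N15657 (iv F27545)) (tt N9882 F21342) (tt N15661 D15692) (tt N15662 D15693) (tt N15612 (iv F27451)))
theorem Q12617 : ∀ i, i < 12617 → P i := stepQ 12616 Q12616 (allL N12616 (tt N15661 (iv F27551)) (tt N9879 F21343) (tt N15663 D15694) (tt N9878 (iv D12621)) (tt N14694 (iv F25407)) (tt N13681 (iv F23448)))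
theorem Q12618 : ∀ i, i < 12618 → P i := stepQ 12617 Q12617 (allL N12617 (tt N15662 (iv F27552)) (tt N9880 F21344) (tt N9883 F21345) (tt N15664 D15695) (tt N9878 (iv D12622)) (tt N9949 (iv F21346)))
theorem Q12619 : ∀ i, i < 12619 → P i := stepQ 12618 Q12618 (allL N12618 (tt N13693 (iv F23474)) (tt N14694 (iv F25406)) (tt N13682 (iv F23450)) (tt N15665 D15696) (tt N9879 (iv D12623)) (tt N14691 (iv F25404)))
theorem Q12620 : ∀ i, i < 12620 → P i := stepQ 12619 Q12619 (allL N12619 (tt N15659 (iv F27548)) (tt N15664 (iv F27556)) (tt N15666 D15697) (tt N9880 (iv D12624)) (tt N15665 (iv F27558)) (tt N15667 D15698))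
theorem Q12621 : ∀ i, i < 12621 → P i := stepQ 12620 Q12620 (allL N12620 (tt N15660 (iv F27549)) (tt N9949 F21347) (tt N9881 F21348) (tt N15667 (iv F27560)) (tt N15656 (iv F27544)) (tt N9880 (iv D12625)))
theorem Q12622 : ∀ i, i < 12622 → P i := stepQ 12621 Q12621 (allL N12621 (tt N9883 F21349) (tt N9958 F21350) (tt N15662 (iv F27553)) (tt N9948 (iv F21351)) (tt N9882 (iv D12626)) (tt N9947 (iv F21352)))
theorem Q12623 : ∀ i, i < 12623 → P i := stepQ 12622 Q12622 (allL N12622 (tt N9887 F21353) (tt N10413 F21354) (tt N15668 D15699) (tt N9884 (iv D12627)) (tt N10490 F21355) (tt N15669 D15700))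
theorem Q12624 : ∀ i, i < 12624 → P i := stepQ 12623 Q12623 (allL N12623 (tt N9888 F21356) (tt N10414 F21357) (tt N9885 F21358) (tt N15669 (iv F27566)) (tt N9991 F21359) (tt N9884 (iv D12628)))
theorem Q12625 : ∀ i, i < 12625 → P i := stepQ 12624 Q12624 (allL N12624 (tt N10490 F21360) (tt N9933 F21361) (tt N15670 D15701) (tt N9886 (iv D12629)) (tt N9887 F21362) (tt N15671 D15702))
theorem Q12626 : ∀ i, i < 12626 → P i := stepQ 12625 Q12625 (allL N12625 (tt N10491 F21363) (tt N9935 F21364) (tt N10495 F21365) (tt N15671 (iv F27571)) (tt N9993 F21366) (tt N9886 (iv D12630)))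
theorem Q12627 : ∀ i, i < 12627 → P i := stepQ 12626 Q12626 (allL N12626 (tt N15668 (iv F27562)) (tt N15672 D15703) (tt N9887 (iv D12631)) (tt N15673 D15704) (tt N15670 (iv F27568)) (tt N15674 D15705))
theorem Q12628 : ∀ i, i < 12628 → P i := stepQ 12627 Q12627 (allL N12627 (tt N15669 (iv F27564)) (tt N9934 F21367) (tt N15674 (iv F27575)) (tt N9888 F21368) (tt N15675 D15706) (tt N9887 (iv D12632)))
theorem Q12629 : ∀ i, i < 12629 → P i := stepQ 12628 Q12628 (allL N12628 (tt N9890 F21369) (tt N12738 (iv F21530)) (tt N9889 (iv D12633)) (tt N12801 (iv F21631)) (tt N15676 D15707) (tt N13796 (iv F23664)))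
theorem Q12630 : ∀ i, i < 12630 → P i := stepQ 12629 Q12629 (allL N12629 (tt N9891 F21370) (tt N9895 F21371) (tt N15676 (iv F27579)) (tt N15274 (iv F26730)) (tt N9889 (iv D12634)) (tt N15677 D15708))
theorem Q12631 : ∀ i, i < 12631 → P i := stepQ 12630 Q12630 (allL N12630 (tt N12801 F21632) (tt N12804 (iv F21638)) (tt N15678 D15709) (tt N9890 (iv D12635)) (tt N15679 D15710) (tt N15556 (iv F27335)))
theorem Q12632 : ∀ i, i < 12632 → P i := stepQ 12631 Q12631 (allL N12631 (tt N15676 (iv F27578)) (tt N15565 (iv F27354)) (tt N9891 F21372) (tt N15680 D15711) (tt N9890 (iv D12636)) (tt N15681 D15712))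
theorem Q12633 : ∀ i, i < 12633 → P i := stepQ 12632 Q12632 (allL N12632 (tt N15677 (iv F27580)) (tt N9893 F21373) (tt N15681 (iv F27587)) (tt N15276 (iv F26734)) (tt N15646 (iv F27526)) (tt N9891 (iv D12637)))
theorem Q12634 : ∀ i, i < 12634 → P i := stepQ 12633 Q12633 (allL N12633 (tt N13554 (iv F23124)) (tt N9894 F21374) (tt N15682 D15713) (tt N9892 (iv D12638)) (tt N15645 (iv F27524)) (tt N13750 (iv F23584)))
theorem Q12635 : ∀ i, i < 12635 → P i := stepQ 12634 Q12634 (allL N12634 (tt N9898 F21375) (tt N15677 (iv F27581)) (tt N12742 (iv F21537)) (tt N15296 (iv F26757)) (tt N13798 (iv F23668)) (tt N9895 (iv D12639)))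
theorem Q12636 : ∀ i, i < 12636 → P i := stepQ 12635 Q12635 (allL N12635 (tt N9896 (iv D12640)) (tt N12736 (iv F21525)) (tt N9899 F21376) (tt N12729 (iv F21512)) (tt N15683 D15714) (tt N13799 (iv F23670)))
theorem Q12637 : ∀ i, i < 12637 → P i := stepQ 12636 Q12636 (allL N12636 (tt N15683 (iv F27588)) (tt N9897 F21377) (tt N9900 F21378) (tt N15684 D15715) (tt N9896 (iv D12641)) (tt N12871 F21758))
theorem Q12638 : ∀ i, i < 12638 → P i := stepQ 12637 Q12637 (allL N12637 (tt N12741 (iv F21534)) (tt N15684 (iv F27593)) (tt N15685 D15716) (tt N9897 (iv D12642)) (tt N12732 (iv F21517)) (tt N15686 D15717))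
theorem Q12639 : ∀ i, i < 12639 → P i := stepQ 12638 Q12638 (allL N12638 (tt N12742 (iv F21536)) (tt N12871 F21757) (tt N9898 F21379) (tt N15686 (iv F27598)) (tt N12868 (iv F21759)) (tt N9897 (iv D12643)))
theorem Q12640 : ∀ i, i < 12640 → P i := stepQ 12639 Q12639 (allL N12639 (tt N9900 F21380) (tt N15563 (iv F27351)) (tt N15683 (iv F27589)) (tt N15687 D15718) (tt N9899 (iv D12644)) (tt N15688 D15719))
theorem Q12641 : ∀ i, i < 12641 → P i := stepQ 12640 Q12640 (allL N12640 (tt N15687 (iv F27600)) (tt N9901 F21381) (tt N12042 F27495) (tt N9900 (iv D12645)) (tt N15629 (iv F27493)) (tt N15689 D15720))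
theorem Q12642 : ∀ i, i < 12642 → P i := stepQ 12641 Q12641 (allL N12641 (tt N15688 (iv F27603)) (tt N9902 F21382) (tt N12871 (iv F21756)) (tt N15689 (iv F27608)) (tt N12870 F21755) (tt N9900 (iv D12646)))
theorem Q12643 : ∀ i, i < 12643 → P i := stepQ 12642 Q12642 (allL N12642 (tt N15648 (iv F27529)) (tt N15689 (iv F27606)) (tt N9901 (iv D12647)) (tt N9902 F21383) (tt N15630 (iv F27497)) (tt N9901 (iv F21384)))
theorem Q12644 : ∀ i, i < 12644 → P i := stepQ 12643 Q12643 (allL N12643 (tt N15647 (iv F27527)) (tt N13558 (iv F23130)) (tt N15690 D15721) (tt N9903 (iv D12648)) (tt N13754 (iv F23592)) (tt N9904 F21385))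
theorem Q12645 : ∀ i, i < 12645 → P i := stepQ 12644 Q12644 (allL N12644 (tt N13749 (iv F23580)) (tt N15691 D15722) (tt N9904 (iv D12649)) (tt N15280 (iv F26739)) (tt N9905 F21386) (tt N15690 (iv F27609)))
theorem Q12646 : ∀ i, i < 12646 → P i := stepQ 12645 Q12645 (allL N12645 (tt N15692 D15723) (tt N9905 (iv D12650)) (tt N13556 (iv F23128)) (tt N13746 (iv F23576)) (tt N15691 (iv F27610)) (tt N13752 (iv F23588)))
theorem Q12647 : ∀ i, i < 12647 → P i := stepQ 12646 Q12646 (allL N12646 (tt N9906 (iv D12651)) (tt N13615 (iv F23265)) (tt N15277 (iv F26735)) (tt N15693 D15724) (tt N15045 (iv F26188)) (tt N15694 D15725))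
theorem Q12648 : ∀ i, i < 12648 → P i := stepQ 12647 Q12647 (allL N12647 (tt N15693 (iv F27611)) (tt N9907 F21387) (tt N14173 (iv F24330)) (tt N9906 (iv D12652)) (tt N15695 D15726) (tt N13641 (iv F23318)))
theorem Q12649 : ∀ i, i < 12649 → P i := stepQ 12648 Q12648 (allL N12648 (tt N15694 (iv F27612)) (tt N9908 F21388) (tt N15279 (iv F26738)) (tt N13641 (iv F23317)) (tt N15696 D15727) (tt N9906 (iv D12653)))
theorem Q12650 : ∀ i, i < 12650 → P i := stepQ 12649 Q12649 (allL N12649 (tt N13618 (iv F23275)) (tt N15695 (iv F27613)) (tt N11559 F21389) (tt N15048 (iv F26191)) (tt N9907 (iv D12654)) (tt N15697 D15728))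
theorem Q12651 : ∀ i, i < 12651 → P i := stepQ 12650 Q12650 (allL N12650 (tt N13619 (iv F23277)) (tt N15696 (iv F27614)) (tt N9909 F21390) (tt N15698 D15729) (tt N9908 (iv D12655)) (tt N15049 (iv F26193)))
theorem Q12652 : ∀ i, i < 12652 → P i := stepQ 12651 Q12651 (allL N12651 (tt N9910 (iv D12656)) (tt N9914 F21391) (tt N15268 (iv F26713)) (tt N15699 D15730) (tt N15262 (iv F26699)) (tt N15700 D15731))
theorem Q12653 : ∀ i, i < 12653 → P i := stepQ 12652 Q12652 (allL N12652 (tt N15699 (iv F27616)) (tt N9911 F21392) (tt N15701 D15732) (tt N9910 (iv D12657)) (tt N15702 D15733) (tt N11408 (iv F21393)))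
theorem Q12654 : ∀ i, i < 12654 → P i := stepQ 12653 Q12653 (allL N12653 (tt N15700 (iv F27619)) (tt N9912 F21394) (tt N15270 (iv F26717)) (tt N11408 F21395) (tt N15703 D15734) (tt N9910 (iv D12658)))
theorem Q12655 : ∀ i, i < 12655 → P i := stepQ 12654 Q12654 (allL N12654 (tt N9918 F21396) (tt N15702 (iv F27624)) (tt N11409 F21397) (tt N15265 (iv F26705)) (tt N9911 (iv D12659)) (tt N15704 D15735))
theorem Q12656 : ∀ i, i < 12656 → P i := stepQ 12655 Q12655 (allL N12655 (tt N9920 F21398) (tt N15703 (iv F27625)) (tt N9913 F21399) (tt N15705 D15736) (tt N9912 (iv D12660)) (tt N15267 (iv F26711)))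
theorem Q12657 : ∀ i, i < 12657 → P i := stepQ 12656 Q12656 (allL N12656 (tt N9915 F21400) (tt N15699 (iv F27617)) (tt N11407 F21791) (tt N9914 (iv D12661)) (tt N15704 (iv F27628)) (tt N11406 F21792))
theorem Q12658 : ∀ i, i < 12658 → P i := stepQ 12657 Q12657 (allL N12657 (tt N9916 F21401) (tt N15700 (iv F27620)) (tt N9922 F21402) (tt N11406 (iv F21805)) (tt N15705 (iv F27631)) (tt N9914 (iv D12662)))
theorem Q12659 : ∀ i, i < 12659 → P i := stepQ 12658 Q12658 (allL N12658 (tt N11407 F21803) (tt N15706 D15737) (tt N9915 (iv D12663)) (tt N11401 F21804) (tt N15707 D15738) (tt N11400 (iv F21802)))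
theorem Q12660 : ∀ i, i < 12660 → P i := stepQ 12659 Q12659 (allL N12659 (tt N15704 (iv F27626)) (tt N9918 F21403) (tt N15707 (iv F27636)) (tt N15610 (iv F27444)) (tt N9915 (iv D12664)) (tt N9918 F21801))
theorem Q12661 : ∀ i, i < 12661 → P i := stepQ 12660 Q12660 (allL N12660 (tt N11406 F21793) (tt N9919 F21404) (tt N11400 F21794) (tt N9916 F21405) (tt N9919 F21795) (tt N9915 (iv D12665)))
theorem Q12662 : ∀ i, i < 12662 → P i := stepQ 12661 Q12661 (allL N12661 (tt N15705 (iv F27629)) (tt N9920 F21406) (tt N9925 F21407) (tt N9920 F21800) (tt N9916 (iv D12666)) (tt N15607 (iv F27433)))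
theorem Q12663 : ∀ i, i < 12663 → P i := stepQ 12662 Q12662 (allL N12662 (tt N15708 D15739) (tt N9917 (iv D12667)) (tt N15706 (iv F27632)) (tt N11399 F21408) (tt N15709 D15740) (tt N11398 F21409))
theorem Q12664 : ∀ i, i < 12664 → P i := stepQ 12663 Q12663 (allL N12663 (tt N11409 F21410) (tt N15709 (iv F27641)) (tt N9918 F21411) (tt N15710 D15741) (tt N9917 (iv D12668)) (tt N15707 (iv F27637)))
theorem Q12665 : ∀ i, i < 12665 → P i := stepQ 12664 Q12664 (allL N12664 (tt N9923 F21414) (tt N11388 (iv F21788)) (tt N9921 (iv D12672)) (tt N11385 (iv F21789)) (tt N11386 F21787) (tt N14728 (iv F25497)))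
theorem Q12666 : ∀ i, i < 12666 → P i := stepQ 12665 Q12665 (allL N12665 (tt N9924 F21415) (tt N15134 (iv F26384)) (tt N11386 F21785) (tt N15613 (iv F27454)) (tt N9921 (iv D12673)) (tt N15030 (iv F26138)))
theorem Q12667 : ∀ i, i < 12667 → P i := stepQ 12666 Q12666 (allL N12666 (tt N9925 F21416) (tt N15133 (iv F26380)) (tt N15705 (iv F27630)) (tt N15029 (iv F26132)) (tt N9922 (iv D12674)) (tt N15611 (iv F27449)))
theorem Q12668 : ∀ i, i < 12668 → P i := stepQ 12667 Q12667 (allL N12667 (tt N11386 (iv F21784)) (tt N10110 F21417) (tt N9924 F21418) (tt N11383 F21786) (tt N9923 (iv D12676)) (tt N10108 F21419))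
theorem Q12669 : ∀ i, i < 12669 → P i := stepQ 12668 Q12668 (allL N12668 (tt N15711 D15742) (tt N9926 (iv D12677)) (tt N10941 F21420) (tt N15712 D15743) (tt N9928 F21421) (tt N15713 D15744))
theorem Q12670 : ∀ i, i < 12670 → P i := stepQ 12669 Q12669 (allL N12669 (tt N11840 F21422) (tt N15712 (iv F27648)) (tt N15714 D15745) (tt N9926 (iv D12678)) (tt N15715 D15746) (tt N15716 D15747))
theorem Q12671 : ∀ i, i < 12671 → P i := stepQ 12670 Q12670 (allL N12670 (tt N11841 F21423) (tt N15713 (iv F27650)) (tt N9927 F21424) (tt N15716 (iv F27660)) (tt N15717 D15748) (tt N9926 (iv D12679)))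
theorem Q12672 : ∀ i, i < 12672 → P i := stepQ 12671 Q12671 (allL N12671 (tt N11842 F21425) (tt N10939 F21426) (tt N15717 (iv F27663)) (tt N10937 F21427) (tt N9927 (iv D12680)) (tt N9931 F21428))
theorem Q12673 : ∀ i, i < 12673 → P i := stepQ 12672 Q12672 (allL N12672 (tt N9928 (iv D12681)) (tt N11843 F21429) (tt N15153 (iv F26442)) (tt N15718 D15749) (tt N15711 (iv F27646)) (tt N15719 D15750))
theorem Q12674 : ∀ i, i < 12674 → P i := stepQ 12673 Q12673 (allL N12673 (tt N15718 (iv F27665)) (tt N9929 F21430) (tt N15720 D15751) (tt N9928 (iv D12682)) (tt N15721 D15752) (tt N11872 (iv F21431)))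
theorem Q12675 : ∀ i, i < 12675 → P i := stepQ 12674 Q12674 (allL N12674 (tt N15719 (iv F27668)) (tt N9930 F21432) (tt N15155 (iv F26446)) (tt N11872 F21433) (tt N15722 D15753) (tt N9928 (iv D12683)))
theorem Q12676 : ∀ i, i < 12676 → P i := stepQ 12675 Q12675 (allL N12675 (tt N11846 F21434) (tt N15721 (iv F27673)) (tt N11875 F21435) (tt N15715 (iv F27657)) (tt N9929 (iv D12684)) (tt N15723 D15754))
theorem Q12677 : ∀ i, i < 12677 → P i := stepQ 12676 Q12676 (allL N12676 (tt N11847 F21436) (tt N15722 (iv F27674)) (tt N9931 F21437) (tt N15724 D15755) (tt N9930 (iv D12685)) (tt N15717 (iv F27664)))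
theorem Q12678 : ∀ i, i < 12678 → P i := stepQ 12677 Q12677 (allL N12677 (tt N15725 D15756) (tt N9932 (iv D12686)) (tt N15672 (iv F27572)) (tt N11845 F21438) (tt N15726 D15757) (tt N11844 F21439))
theorem Q12679 : ∀ i, i < 12679 → P i := stepQ 12678 Q12678 (allL N12678 (tt N11873 F21440) (tt N15726 (iv F27683)) (tt N9933 F21441) (tt N15727 D15758) (tt N9932 (iv D12687)) (tt N15728 D15759))
theorem Q12680 : ∀ i, i < 12680 → P i := stepQ 12679 Q12679 (allL N12679 (tt N11874 F21442) (tt N15671 (iv F27570)) (tt N15728 (iv F27687)) (tt N9935 F21443) (tt N15729 D15760) (tt N9933 (iv D12688)))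
theorem Q12681 : ∀ i, i < 12681 → P i := stepQ 12680 Q12680 (allL N12680 (tt N11875 F21444) (tt N15675 (iv F27576)) (tt N11846 F21445) (tt N14588 (iv F25156)) (tt N9934 (iv D12689)) (tt N15729 (iv F27691)))
theorem Q12682 : ∀ i, i < 12682 → P i := stepQ 12681 Q12681 (allL N12681 (tt N9936 (iv D12690)) (tt N9940 F21446) (tt N15148 (iv F26427)) (tt N15730 D15761) (tt N15142 (iv F26405)) (tt N15731 D15762))
theorem Q12683 : ∀ i, i < 12683 → P i := stepQ 12682 Q12682 (allL N12682 (tt N15730 (iv F27692)) (tt N9937 F21447) (tt N15732 D15763) (tt N9936 (iv D12691)) (tt N15733 D15764) (tt N11732 (iv F21448)))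
theorem Q12684 : ∀ i, i < 12684 → P i := stepQ 12683 Q12683 (allL N12683 (tt N15731 (iv F27695)) (tt N9938 F21449) (tt N15150 (iv F26432)) (tt N11732 F21450) (tt N15495 (iv F27182)) (tt N9936 (iv D12692)))
theorem Q12685 : ∀ i, i < 12685 → P i := stepQ 12684 Q12684 (allL N12684 (tt N9944 F21451) (tt N15733 (iv F27701)) (tt N11733 F21452) (tt N15145 (iv F26415)) (tt N9937 (iv D12693)) (tt N15734 D15765))
theorem Q12686 : ∀ i, i < 12686 → P i := stepQ 12685 Q12685 (allL N12685 (tt N9946 F21453) (tt N15495 (iv F27179)) (tt N9939 F21454) (tt N15735 D15766) (tt N9938 (iv D12694)) (tt N15147 (iv F26425)))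
theorem Q12687 : ∀ i, i < 12687 → P i := stepQ 12686 Q12686 (allL N12686 (tt N9941 F21455) (tt N15730 (iv F27693)) (tt N13840 (iv F23768)) (tt N9940 (iv D12695)) (tt N13831 F23750) (tt N13832 (iv F23753)))
theorem Q12688 : ∀ i, i < 12688 → P i := stepQ 12687 Q12687 (allL N12687 (tt N9942 F21456) (tt N15731 (iv F27696)) (tt N9948 F21457) (tt N13832 F23754) (tt N13833 (iv F23756)) (tt N9940 (iv D12696)))
theorem Q12689 : ∀ i, i < 12689 → P i := stepQ 12688 Q12688 (allL N12688 (tt N13831 (iv F23748)) (tt N9944 F21458) (tt N13844 (iv F23773)) (tt N15501 (iv F27191)) (tt N9941 (iv D12697)) (tt N13822 (iv F23731)))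
theorem Q12690 : ∀ i, i < 12690 → P i := stepQ 12689 Q12689 (allL N12689 (tt N13833 (iv F23755)) (tt N9946 F21459) (tt N9951 F21460) (tt N13823 (iv F23735)) (tt N9942 (iv D12698)) (tt N15032 (iv F26148)))
theorem Q12691 : ∀ i, i < 12691 → P i := stepQ 12690 Q12690 (allL N12690 (tt N15736 D15767) (tt N9943 (iv D12699)) (tt N13843 (iv F23772)) (tt N11712 F21461) (tt N15737 D15768) (tt N11711 F21462))
theorem Q12692 : ∀ i, i < 12692 → P i := stepQ 12691 Q12691 (allL N12691 (tt N11733 F21463) (tt N15737 (iv F27712)) (tt N9944 F21464) (tt N15738 D15769) (tt N9943 (iv D12700)) (tt N15739 D15770))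
theorem Q12693 : ∀ i, i < 12693 → P i := stepQ 12692 Q12692 (allL N12692 (tt N15734 (iv F27702)) (tt N13822 (iv F23728)) (tt N15739 (iv F27719)) (tt N15502 (iv F27194)) (tt N13820 F23722) (tt N9944 (iv D12701)))
theorem Q12694 : ∀ i, i < 12694 → P i := stepQ 12693 Q12693 (allL N12693 (tt N15735 (iv F27705)) (tt N13823 (iv F23733)) (tt N15625 (iv F27483)) (tt N9946 (iv D12702)) (tt N13821 F23726) (tt N15503 (iv F27199)))
theorem Q12695 : ∀ i, i < 12695 → P i := stepQ 12694 Q12694 (allL N12694 (tt N9949 F21465) (tt N15740 D15771) (tt N9947 (iv D12703)) (tt N13571 F23164) (tt N13954 (iv F23974)) (tt N15662 F27554))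
theorem Q12696 : ∀ i, i < 12696 → P i := stepQ 12695 Q12695 (allL N12695 (tt N9950 F21466) (tt N15505 (iv F27204)) (tt N13954 F23975) (tt N15030 (iv F26137)) (tt N9947 (iv D12704)) (tt N15613 (iv F27455)))
theorem Q12697 : ∀ i, i < 12697 → P i := stepQ 12696 Q12696 (allL N12696 (tt N9951 F21467) (tt N15506 (iv F27208)) (tt N13833 F23758) (tt N15611 (iv F27447)) (tt N9948 (iv D12705)) (tt N15029 (iv F26133)))
theorem Q12698 : ∀ i, i < 12698 → P i := stepQ 12697 Q12697 (allL N12697 (tt N13571 (iv F23162)) (tt N15667 (iv F27559)) (tt N13566 (iv F23150)) (tt N9949 (iv D12706)) (tt N11394 F21807) (tt N15664 (iv F27557)))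
theorem Q12699 : ∀ i, i < 12699 → P i := stepQ 12698 Q12698 (allL N12698 (tt N13954 (iv F23973)) (tt N15656 (iv F27541)) (tt N9950 F21468) (tt N11392 (iv F21806)) (tt N9949 (iv D12707)) (tt N14695 (iv F25410)))
theorem Q12700 : ∀ i, i < 12700 → P i := stepQ 12699 Q12699 (allL N12699 (tt N15741 D15772) (tt N9952 (iv D12708)) (tt N15658 (iv F27547)) (tt N15742 D15773) (tt N15618 (iv F27469)) (tt N15743 D15774))
theorem Q12701 : ∀ i, i < 12701 → P i := stepQ 12700 Q12700 (allL N12700 (tt N9955 F21469) (tt N15742 (iv F27722)) (tt N11829 F21470) (tt N9952 (iv D12709)) (tt N15744 D15775) (tt N12053 (iv F21471)))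
theorem Q12702 : ∀ i, i < 12702 → P i := stepQ 12701 Q12701 (allL N12701 (tt N9956 F21472) (tt N15743 (iv F27725)) (tt N9953 F21473) (tt N12053 F21474) (tt N15745 D15776) (tt N9952 (iv D12710)))
theorem Q12703 : ∀ i, i < 12703 → P i := stepQ 12702 Q12702 (allL N12702 (tt N9957 F21475) (tt N15655 (iv F27538)) (tt N15745 (iv F27730)) (tt N14613 (iv F25220)) (tt N9953 (iv D12711)) (tt N15615 (iv F27461)))
theorem Q12704 : ∀ i, i < 12704 → P i := stepQ 12703 Q12703 (allL N12703 (tt N9954 (iv D12712)) (tt N15741 (iv F27721)) (tt N9958 F21476) (tt N15746 D15777) (tt N15620 (iv F27472)) (tt N15504 (iv F27202)))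
theorem Q12705 : ∀ i, i < 12705 → P i := stepQ 12704 Q12704 (allL N12704 (tt N15746 (iv F27731)) (tt N9955 F21477) (tt N15747 D15778) (tt N9954 (iv D12713)) (tt N15748 D15779) (tt N15507 (iv F27212)))
theorem Q12706 : ∀ i, i < 12706 → P i := stepQ 12705 Q12705 (allL N12705 (tt N11829 F21478) (tt N15749 D15780) (tt N9955 (iv D12714)) (tt N11828 F21479) (tt N15750 D15781) (tt N12052 (iv F21480)))
theorem Q12707 : ∀ i, i < 12707 → P i := stepQ 12706 Q12706 (allL N12706 (tt N15744 (iv F27727)) (tt N15748 (iv F27732)) (tt N15750 (iv F27737)) (tt N15623 (iv F27478)) (tt N9955 (iv D12715)) (tt N15751 D15782))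
theorem Q12708 : ∀ i, i < 12708 → P i := stepQ 12707 Q12707 (allL N12707 (tt N12053 F21481) (tt N15507 (iv F27211)) (tt N12052 F21482) (tt N9956 F21483) (tt N15752 D15783) (tt N9955 (iv D12716)))
theorem Q12709 : ∀ i, i < 12709 → P i := stepQ 12708 Q12708 (allL N12708 (tt N15745 (iv F27729)) (tt N15508 (iv F27213)) (tt N9957 F21484) (tt N15587 (iv F27392)) (tt N9956 (iv D12717)) (tt N15617 (iv F27467)))
theorem Q12710 : ∀ i, i < 12710 → P i := stepQ 12709 Q12709 (allL N12709 (tt N15753 D15784) (tt N9960 (iv D12718)) (tt N9974 F21485) (tt N15754 D15785) (tt N14610 (iv F25211)) (tt N15380 F26945))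
theorem Q12711 : ∀ i, i < 12711 → P i := stepQ 12710 Q12710 (allL N12710 (tt N9963 F21486) (tt N15754 (iv F27745)) (tt N14037 (iv F24091)) (tt N9960 (iv D12719)) (tt N15755 D15786) (tt N14064 (iv F24139)))
theorem Q12712 : ∀ i, i < 12712 → P i := stepQ 12711 Q12711 (allL N12711 (tt N9964 F21487) (tt N15380 (iv F26942)) (tt N9961 F21488) (tt N14064 (iv F24138)) (tt N15378 (iv F26937)) (tt N9960 (iv D12720)))
theorem Q12713 : ∀ i, i < 12713 → P i := stepQ 12712 Q12712 (allL N12712 (tt N9965 F21489) (tt N9978 F21490) (tt N15378 F26938) (tt N15615 (iv F27460)) (tt N9961 (iv D12721)) (tt N14613 (iv F25221)))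
theorem Q12714 : ∀ i, i < 12714 → P i := stepQ 12713 Q12713 (allL N12713 (tt N9962 (iv D12722)) (tt N15753 (iv F27740)) (tt N9966 F21491) (tt N13855 (iv F23797)) (tt N14614 (iv F25223)) (tt N9967 F21492))
theorem Q12715 : ∀ i, i < 12715 → P i := stepQ 12714 Q12714 (allL N12714 (tt N13855 (iv F23796)) (tt N9963 F21493) (tt N13851 (iv F23788)) (tt N9962 (iv D12723)) (tt N15756 D15787) (tt N9970 F21494))
theorem Q12716 : ∀ i, i < 12716 → P i := stepQ 12715 Q12715 (allL N12715 (tt N14037 (iv F24088)) (tt N15757 D15788) (tt N9963 (iv D12724)) (tt N14036 F24087) (tt N15758 D15789) (tt N14063 (iv F24136)))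
theorem Q12717 : ∀ i, i < 12717 → P i := stepQ 12716 Q12716 (allL N12716 (tt N15755 (iv F27748)) (tt N15756 (iv F27749)) (tt N15758 (iv F27753)) (tt N14617 (iv F25228)) (tt N9963 (iv D12725)) (tt N15759 D15790))
theorem Q12718 : ∀ i, i < 12718 → P i := stepQ 12717 Q12717 (allL N12717 (tt N14064 (iv F24137)) (tt N9970 F21495) (tt N14063 (iv F24135)) (tt N9964 F21496) (tt N15760 D15791) (tt N9963 (iv D12726)))
theorem Q12719 : ∀ i, i < 12719 → P i := stepQ 12718 Q12718 (allL N12718 (tt N15378 (iv F26935)) (tt N9971 F21497) (tt N9965 F21498) (tt N15377 F26934) (tt N9964 (iv D12727)) (tt N14619 (iv F25234)))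
theorem Q12720 : ∀ i, i < 12720 → P i := stepQ 12719 Q12719 (allL N12719 (tt N15380 (iv F26941)) (tt N9967 (iv D12728)) (tt N15040 (iv F26171)) (tt N12409 (iv F21828)) (tt N12403 F21827) (tt N15753 (iv F27742)))
theorem Q12721 : ∀ i, i < 12721 → P i := stepQ 12720 Q12720 (allL N12720 (tt N9970 F21499) (tt N12409 F21824) (tt N12519 F21500) (tt N9967 (iv D12729)) (tt N12407 (iv F21823)) (tt N13855 (iv F23798)))
theorem Q12722 : ∀ i, i < 12722 → P i := stepQ 12721 Q12721 (allL N12721 (tt N9971 F21501) (tt N12403 (iv F21826)) (tt N9968 F21502) (tt N12402 F21825) (tt N9967 (iv D12730)) (tt N15382 (iv F26949)))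
theorem Q12723 : ∀ i, i < 12723 → P i := stepQ 12722 Q12722 (allL N12722 (tt N9972 F21503) (tt N14606 (iv F25192)) (tt N15382 (iv F26948)) (tt N14315 (iv F24627)) (tt N14311 (iv F24612)) (tt N9968 (iv D12731)))
theorem Q12724 : ∀ i, i < 12724 → P i := stepQ 12723 Q12723 (allL N12723 (tt N9973 F21504) (tt N14607 (iv F25197)) (tt N15761 D15792) (tt N9969 (iv D12732)) (tt N14312 F24616) (tt N14316 (iv F24632)))
theorem Q12725 : ∀ i, i < 12725 → P i := stepQ 12724 Q12724 (allL N12724 (tt N12519 F21505) (tt N15762 D15793) (tt N9970 (iv D12733)) (tt N12518 F21506) (tt N12452 (iv F21822)) (tt N13851 (iv F23789)))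
theorem Q12726 : ∀ i, i < 12726 → P i := stepQ 12725 Q12725 (allL N12725 (tt N12407 F21820) (tt N15760 (iv F27755)) (tt N12452 F21821) (tt N12406 (iv F21819)) (tt N9970 (iv D12734)) (tt N15763 D15794))
theorem Q12727 : ∀ i, i < 12727 → P i := stepQ 12726 Q12726 (allL N12726 (tt N12402 F21817) (tt N15377 (iv F26931)) (tt N12412 (iv F21816)) (tt N9971 (iv D12735)) (tt N12406 F21818) (tt N15764 D15795))
theorem Q12728 : ∀ i, i < 12728 → P i := stepQ 12727 Q12727 (allL N12727 (tt N15382 F26950) (tt N14619 (iv F25232)) (tt N9972 F21507) (tt N15764 (iv F27771)) (tt N14313 (iv F24618)) (tt N9971 (iv D12736)))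
theorem Q12729 : ∀ i, i < 12729 → P i := stepQ 12728 Q12728 (allL N12728 (tt N15761 (iv F27758)) (tt N11371 F21508) (tt N9973 (iv D12737)) (tt N15765 D15796) (tt N11367 F21509) (tt N11376 F21510))
theorem Q12730 : ∀ i, i < 12730 → P i := stepQ 12729 Q12729 (allL N12729 (tt N9974 (iv D12738)) (tt N9979 F21511) (tt N15753 (iv F27741)) (tt N12635 F21512) (tt N15384 (iv F26955)) (tt N15040 (iv F26173)))
theorem Q12731 : ∀ i, i < 12731 → P i := stepQ 12730 Q12730 (allL N12730 (tt N15384 (iv F26952)) (tt N9975 F21513) (tt N14610 (iv F25210)) (tt N14636 (iv F25285)) (tt N9974 (iv D12739)) (tt N13523 F23047))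
theorem Q12732 : ∀ i, i < 12732 → P i := stepQ 12731 Q12731 (allL N12731 (tt N15040 (iv F26170)) (tt N9976 F21514) (tt N15380 (iv F26943)) (tt N10864 F21515) (tt N13524 (iv F23052)) (tt N9974 (iv D12740)))
theorem Q12733 : ∀ i, i < 12733 → P i := stepQ 12732 Q12732 (allL N12732 (tt N9984 F21516) (tt N14636 (iv F25284)) (tt N15766 D15797) (tt N9975 (iv D12741)) (tt N12637 F21517) (tt N14634 F25277))
theorem Q12734 : ∀ i, i < 12734 → P i := stepQ 12733 Q12733 (allL N12733 (tt N9985 F21518) (tt N13523 (iv F23045)) (tt N9977 F21519) (tt N14634 (iv F25276)) (tt N13520 F23038) (tt N9975 (iv D12742)))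
theorem Q12735 : ∀ i, i < 12735 → P i := stepQ 12734 Q12734 (allL N12734 (tt N9986 F21520) (tt N13524 (iv F23049)) (tt N9978 F21521) (tt N13521 F23033) (tt N9976 (iv D12743)) (tt N13520 (iv F23035)))
theorem Q12736 : ∀ i, i < 12736 → P i := stepQ 12735 Q12735 (allL N12735 (tt N9987 F21522) (tt N14613 (iv F25219)) (tt N13520 F23037) (tt N15655 (iv F27539)) (tt N9977 (iv D12744)) (tt N9978 F21523))
theorem Q12737 : ∀ i, i < 12737 → P i := stepQ 12736 Q12736 (allL N12736 (tt N9980 F21524) (tt N12635 F21525) (tt N10034 F21526) (tt N9979 (iv D12745)) (tt N15767 D15798) (tt N15041 (iv F26178)))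
theorem Q12738 : ∀ i, i < 12738 → P i := stepQ 12737 Q12737 (allL N12737 (tt N9981 F21527) (tt N15384 (iv F26953)) (tt N9988 F21528) (tt N15386 (iv F26962)) (tt N9979 (iv D12746)) (tt N14605 (iv F25187)))
theorem Q12739 : ∀ i, i < 12739 → P i := stepQ 12738 Q12738 (allL N12738 (tt N10034 F21529) (tt N12628 F21530) (tt N9980 (iv D12747)) (tt N10031 F21531) (tt N15768 D15799) (tt N15042 (iv F26182)))
theorem Q12740 : ∀ i, i < 12740 → P i := stepQ 12739 Q12739 (allL N12739 (tt N15767 (iv F27778)) (tt N9982 F21532) (tt N15768 (iv F27783)) (tt N15769 D15800) (tt N9980 (iv D12748)) (tt N15770 D15801))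
theorem Q12741 : ∀ i, i < 12741 → P i := stepQ 12740 Q12740 (allL N12740 (tt N15386 (iv F26960)) (tt N9984 F21533) (tt N14930 (iv F25878)) (tt N9981 (iv D12749)) (tt N15769 (iv F27785)) (tt N14608 (iv F25202)))
theorem Q12742 : ∀ i, i < 12742 → P i := stepQ 12741 Q12741 (allL N12741 (tt N12637 F21534) (tt N15769 (iv F27784)) (tt N15771 D15802) (tt N9982 (iv D12750)) (tt N9984 F21535) (tt N15772 D15803))
theorem Q12743 : ∀ i, i < 12743 → P i := stepQ 12742 Q12742 (allL N12742 (tt N12638 F21536) (tt N15770 (iv F27786)) (tt N12634 F21537) (tt N15772 (iv F27790)) (tt N15773 D15804) (tt N9982 (iv D12751)))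
theorem Q12744 : ∀ i, i < 12744 → P i := stepQ 12743 Q12743 (allL N12743 (tt N10865 F21538) (tt N15043 (iv F26183)) (tt N10863 F21539) (tt N15774 D15805) (tt N9983 (iv D12752)) (tt N15773 (iv F27793)))
theorem Q12745 : ∀ i, i < 12745 → P i := stepQ 12744 Q12744 (allL N12744 (tt N15766 (iv F27774)) (tt N15775 D15806) (tt N9984 (iv D12753)) (tt N15776 D15807) (tt N15771 (iv F27788)) (tt N15777 D15808))
theorem Q12746 : ∀ i, i < 12746 → P i := stepQ 12745 Q12745 (allL N12745 (tt N14634 (iv F25274)) (tt N14608 (iv F25201)) (tt N15777 (iv F27803)) (tt N9985 F21540) (tt N14632 (iv F25272)) (tt N9984 (iv D12754)))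
theorem Q12747 : ∀ i, i < 12747 → P i := stepQ 12746 Q12746 (allL N12746 (tt N13520 F23036) (tt N14609 (iv F25206)) (tt N9987 F21541) (tt N13519 (iv F23039)) (tt N9985 (iv D12755)) (tt N9986 F21542))
theorem Q12748 : ∀ i, i < 12748 → P i := stepQ 12747 Q12747 (allL N12747 (tt N13521 (iv F23034)) (tt N15044 (iv F26185)) (tt N13526 (iv F23058)) (tt N9986 (iv D12756)) (tt N15774 (iv F27796)) (tt N13519 F23040))
theorem Q12749 : ∀ i, i < 12749 → P i := stepQ 12748 Q12748 (allL N12748 (tt N10357 F21543) (tt N9990 F21544) (tt N15778 D15809) (tt N9989 (iv D12757)) (tt N10476 F21545) (tt N15779 D15810))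
theorem Q12750 : ∀ i, i < 12750 → P i := stepQ 12749 Q12749 (allL N12749 (tt N10358 F21546) (tt N9991 F21547) (tt N10363 F21548) (tt N15779 (iv F27809)) (tt N10414 F21549) (tt N9989 (iv D12758)))
theorem Q12751 : ∀ i, i < 12751 → P i := stepQ 12750 Q12750 (allL N12750 (tt N9994 F21550) (tt N15780 D15811) (tt N9990 (iv D12759)) (tt N15777 (iv F27804)) (tt N10647 F21551) (tt N15776 (iv F27801)))
theorem Q12752 : ∀ i, i < 12752 → P i := stepQ 12751 Q12751 (allL N12751 (tt N9995 F21552) (tt N15779 (iv F27808)) (tt N15776 (iv F27800)) (tt N9991 F21553) (tt N15781 D15812) (tt N9990 (iv D12760)))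
theorem Q12753 : ∀ i, i < 12753 → P i := stepQ 12752 Q12752 (allL N12752 (tt N10647 F21554) (tt N15782 D15813) (tt N9992 (iv D12761)) (tt N13666 (iv F23408)) (tt N9994 F21555) (tt N13665 (iv F23405)))
theorem Q12754 : ∀ i, i < 12754 → P i := stepQ 12753 Q12753 (allL N12753 (tt N10648 F21556) (tt N14587 (iv F25151)) (tt N13665 (iv F23404)) (tt N9993 F21557) (tt N15783 D15814) (tt N9992 (iv D12762)))
theorem Q12755 : ∀ i, i < 12755 → P i := stepQ 12754 Q12754 (allL N12754 (tt N15784 D15815) (tt N9994 (iv D12763)) (tt N14585 (iv F25145)) (tt N15430 F27039) (tt N15782 (iv F27813)) (tt N15785 D15816))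
theorem Q12756 : ∀ i, i < 12756 → P i := stepQ 12755 Q12755 (allL N12755 (tt N15777 (iv F27802)) (tt N15430 (iv F27037)) (tt N14634 F25278) (tt N9994 (iv D12764)) (tt N14633 (iv F25279)) (tt N15766 (iv F27776)))
theorem Q12757 : ∀ i, i < 12757 → P i := stepQ 12756 Q12756 (allL N12756 (tt N15776 (iv F27799)) (tt N15785 (iv F27816)) (tt N9995 F21558) (tt N15766 (iv F27777)) (tt N15786 D15817) (tt N9994 (iv D12765)))
theorem Q12758 : ∀ i, i < 12758 → P i := stepQ 12757 Q12757 (allL N12757 (tt N15781 (iv F27811)) (tt N14588 (iv F25154)) (tt N15786 (iv F27818)) (tt N15675 (iv F27577)) (tt N9995 (iv D12766)) (tt N15783 (iv F27815)))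
theorem Q12759 : ∀ i, i < 12759 → P i := stepQ 12758 Q12758 (allL N12758 (tt N10161 F21559) (tt N9997 F21560) (tt N12940 (iv F21936)) (tt N10601 F21561) (tt N9996 (iv D12767)) (tt N15787 D15818))
theorem Q12760 : ∀ i, i < 12760 → P i := stepQ 12759 Q12759 (allL N12759 (tt N10007 F21562) (tt N10601 F21563) (tt N15788 D15819) (tt N9997 (iv D12768)) (tt N10599 F21564) (tt N15789 D15820))
theorem Q12761 : ∀ i, i < 12761 → P i := stepQ 12760 Q12760 (allL N12760 (tt N10008 F21565) (tt N15787 (iv F27820)) (tt N9999 F21566) (tt N15789 (iv F27829)) (tt N15790 D15821) (tt N9997 (iv D12769)))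
theorem Q12762 : ∀ i, i < 12762 → P i := stepQ 12761 Q12761 (allL N12761 (tt N10009 F21567) (tt N12942 (iv F21940)) (tt N10000 F21568) (tt N15791 D15822) (tt N9998 (iv D12770)) (tt N15790 (iv F27832)))
theorem Q12763 : ∀ i, i < 12763 → P i := stepQ 12762 Q12762 (allL N12762 (tt N10010 F21569) (tt N12779 (iv F21605)) (tt N15790 (iv F27831)) (tt N14943 (iv F25910)) (tt N9999 (iv D12771)) (tt N10000 F21570))
theorem Q12764 : ∀ i, i < 12764 → P i := stepQ 12763 Q12763 (allL N12763 (tt N10011 F21571) (tt N12778 (iv F21602)) (tt N15792 D15823) (tt N10000 (iv D12772)) (tt N10001 F21572) (tt N14943 (iv F25911)))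
theorem Q12765 : ∀ i, i < 12765 → P i := stepQ 12764 Q12764 (allL N12764 (tt N10012 F21573) (tt N15793 D15824) (tt N10001 (iv D12773)) (tt N13404 (iv F22835)) (tt N15792 (iv F27835)) (tt N10022 F21574))
theorem Q12766 : ∀ i, i < 12766 → P i := stepQ 12765 Q12765 (allL N12765 (tt N10004 F21575) (tt N10161 F21576) (tt N10013 F21577) (tt N10606 F21578) (tt N10002 (iv D12774)) (tt N15794 D15825))
theorem Q12767 : ∀ i, i < 12767 → P i := stepQ 12766 Q12766 (allL N12766 (tt N10606 F21579) (tt N10007 F21580) (tt N15795 D15826) (tt N10004 (iv D12775)) (tt N10603 F21581) (tt N15796 D15827))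
theorem Q12768 : ∀ i, i < 12768 → P i := stepQ 12767 Q12767 (allL N12767 (tt N15794 (iv F27837)) (tt N10008 F21582) (tt N10015 F21583) (tt N15796 (iv F27846)) (tt N10216 F21584) (tt N10004 (iv D12776)))
theorem Q12769 : ∀ i, i < 12769 → P i := stepQ 12768 Q12768 (allL N12768 (tt N10599 F21585) (tt N10603 F21586) (tt N15797 D15828) (tt N10005 (iv D12777)) (tt N10007 F21587) (tt N15798 D15829))
theorem Q12770 : ∀ i, i < 12770 → P i := stepQ 12769 Q12769 (allL N12769 (tt N10600 F21588) (tt N10604 F21589) (tt N12045 F21590) (tt N15798 (iv F27851)) (tt N15799 D15830) (tt N10005 (iv D12778)))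
theorem Q12771 : ∀ i, i < 12771 → P i := stepQ 12770 Q12770 (allL N12770 (tt N13021 (iv F22121)) (tt N10167 F21591) (tt N13018 (iv F22116)) (tt N15800 D15831) (tt N10006 (iv D12779)) (tt N15799 (iv F27855)))
theorem Q12772 : ∀ i, i < 12772 → P i := stepQ 12771 Q12771 (allL N12771 (tt N15788 (iv F27822)) (tt N15801 D15832) (tt N10007 (iv D12780)) (tt N15802 D15833) (tt N15797 (iv F27848)) (tt N15803 D15834))
theorem Q12773 : ∀ i, i < 12773 → P i := stepQ 12772 Q12772 (allL N12772 (tt N15789 (iv F27826)) (tt N15796 (iv F27845)) (tt N15803 (iv F27863)) (tt N10008 F21592) (tt N15804 D15835) (tt N10007 (iv D12781)))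
theorem Q12774 : ∀ i, i < 12774 → P i := stepQ 12773 Q12773 (allL N12773 (tt N15790 (iv F27830)) (tt N10216 F21593) (tt N10010 F21594) (tt N15805 D15836) (tt N10008 (iv D12782)) (tt N10009 F21595))
theorem Q12775 : ∀ i, i < 12775 → P i := stepQ 12774 Q12774 (allL N12774 (tt N15791 (iv F27833)) (tt N10215 F21596) (tt N15806 D15837) (tt N10009 (iv D12783)) (tt N15800 (iv F27857)) (tt N15805 (iv F27866)))
theorem Q12776 : ∀ i, i < 12776 → P i := stepQ 12775 Q12775 (allL N12775 (tt N15792 (iv F27834)) (tt N15807 D15838) (tt N10011 (iv D12784)) (tt N15808 D15839) (tt N10012 F21597) (tt N14948 (iv F25922)))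
theorem Q12777 : ∀ i, i < 12777 → P i := stepQ 12776 Q12776 (allL N12776 (tt N15809 D15840) (tt N10012 (iv D12785)) (tt N10017 F21598) (tt N15810 D15841) (tt N15807 (iv F27868)) (tt N10028 F21599))
theorem Q12778 : ∀ i, i < 12778 → P i := stepQ 12777 Q12777 (allL N12777 (tt N13404 (iv F22834)) (tt N15810 (iv F27872)) (tt N13395 (iv F22822)) (tt N10012 (iv D12786)) (tt N15811 D15842) (tt N10029 F21600))
theorem Q12779 : ∀ i, i < 12779 → P i := stepQ 12778 Q12778 (allL N12778 (tt N10014 F21601) (tt N12763 F21602) (tt N15812 D15843) (tt N10013 (iv D12787)) (tt N10202 F21603) (tt N12803 (iv F21637)))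
theorem Q12780 : ∀ i, i < 12780 → P i := stepQ 12779 Q12779 (allL N12779 (tt N10015 F21604) (tt N12762 F21605) (tt N15794 (iv F27839)) (tt N12803 (iv F21636)) (tt N10214 F21606) (tt N10013 (iv D12788)))
theorem Q12781 : ∀ i, i < 12781 → P i := stepQ 12780 Q12780 (allL N12780 (tt N15812 (iv F27874)) (tt N15561 (iv F27343)) (tt N10014 (iv D12789)) (tt N15813 D15844) (tt N10203 F21607) (tt N12808 (iv F21650)))
theorem Q12782 : ∀ i, i < 12782 → P i := stepQ 12781 Q12781 (allL N12781 (tt N15814 D15845) (tt N10016 (iv D12790)) (tt N15807 (iv F27867)) (tt N10042 F21608) (tt N10017 F21609) (tt N10041 F21610))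
theorem Q12783 : ∀ i, i < 12783 → P i := stepQ 12782 Q12782 (allL N12782 (tt N10017 (iv D12791)) (tt N13012 (iv F22094)) (tt N15809 (iv F27870)) (tt N10030 F21611) (tt N15814 (iv F27878)) (tt N10030 F21612))
theorem Q12784 : ∀ i, i < 12784 → P i := stepQ 12783 Q12783 (allL N12783 (tt N13848 (iv F23780)) (tt N10020 F21613) (tt N15815 D15846) (tt N10018 (iv D12792)) (tt N14954 (iv F25938)) (tt N13854 (iv F23795)))
theorem Q12785 : ∀ i, i < 12785 → P i := stepQ 12784 Q12784 (allL N12784 (tt N10024 F21614) (tt N14954 (iv F25937)) (tt N15816 D15847) (tt N10019 (iv D12793)) (tt N10020 F21615) (tt N15817 D15848))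
theorem Q12786 : ∀ i, i < 12786 → P i := stepQ 12785 Q12785 (allL N12785 (tt N10025 F21616) (tt N14955 (iv F25940)) (tt N13368 (iv F22764)) (tt N15817 (iv F27883)) (tt N13397 (iv F22830)) (tt N10019 (iv D12794)))
theorem Q12787 : ∀ i, i < 12787 → P i := stepQ 12786 Q12786 (allL N12786 (tt N10026 F21617) (tt N15818 D15849) (tt N10020 (iv D12795)) (tt N15803 (iv F27864)) (tt N15816 (iv F27881)) (tt N15802 (iv F27860)))
theorem Q12788 : ∀ i, i < 12788 → P i := stepQ 12787 Q12787 (allL N12787 (tt N10027 F21618) (tt N13854 (iv F23794)) (tt N15802 (iv F27859)) (tt N10021 F21619) (tt N12533 (iv F21620)) (tt N10020 (iv D12796)))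
theorem Q12789 : ∀ i, i < 12789 → P i := stepQ 12788 Q12788 (allL N12788 (tt N15819 D15850) (tt N10022 (iv D12797)) (tt N14790 (iv F25622)) (tt N15820 D15851) (tt N14941 (iv F25905)) (tt N15793 (iv F27836)))
theorem Q12790 : ∀ i, i < 12790 → P i := stepQ 12789 Q12789 (allL N12789 (tt N10029 F21621) (tt N15820 (iv F27888)) (tt N13015 (iv F22106)) (tt N10022 (iv D12798)) (tt N15821 D15852) (tt N13404 (iv F22836)))
theorem Q12791 : ∀ i, i < 12791 → P i := stepQ 12790 Q12790 (allL N12790 (tt N13339 (iv F22713)) (tt N14949 (iv F25923)) (tt N15822 D15853) (tt N10023 (iv D12799)) (tt N13337 (iv F22712)) (tt N15823 D15854))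
theorem Q12792 : ∀ i, i < 12792 → P i := stepQ 12791 Q12791 (allL N12791 (tt N13368 (iv F22762)) (tt N14950 (iv F25924)) (tt N10025 F21622) (tt N15823 (iv F27891)) (tt N13391 (iv F22817)) (tt N10023 (iv D12800)))
theorem Q12793 : ∀ i, i < 12793 → P i := stepQ 12792 Q12792 (allL N12792 (tt N15816 (iv F27880)) (tt N15824 D15855) (tt N10024 (iv D12801)) (tt N15825 D15856) (tt N10026 F21623) (tt N15826 D15857))
theorem Q12794 : ∀ i, i < 12794 → P i := stepQ 12793 Q12793 (allL N12793 (tt N15817 (iv F27882)) (tt N12540 F21624) (tt N15826 (iv F27893)) (tt N10025 F21625) (tt N12536 F21626) (tt N10024 (iv D12802)))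
theorem Q12795 : ∀ i, i < 12795 → P i := stepQ 12794 Q12794 (allL N12794 (tt N15827 D15858) (tt N10026 (iv D12803)) (tt N14933 (iv F25883)) (tt N15828 D15859) (tt N15824 (iv F27892)) (tt N15829 D15860))
theorem Q12796 : ∀ i, i < 12796 → P i := stepQ 12795 Q12795 (allL N12795 (tt N15803 (iv F27862)) (tt N15828 (iv F27895)) (tt N15789 (iv F27828)) (tt N10026 (iv D12804)) (tt N15830 D15861) (tt N15788 F27825))
theorem Q12797 : ∀ i, i < 12797 → P i := stepQ 12796 Q12796 (allL N12796 (tt N15802 (iv F27858)) (tt N15829 (iv F27896)) (tt N10027 F21627) (tt N15788 (iv F27824)) (tt N12535 (iv F21628)) (tt N10026 (iv D12805)))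
theorem Q12798 : ∀ i, i < 12798 → P i := stepQ 12797 Q12797 (allL N12797 (tt N10028 (iv D12806)) (tt N15819 (iv F27885)) (tt N10030 F21629) (tt N15831 D15862) (tt N14944 (iv F25913)) (tt N15809 (iv F27871)))
theorem Q12799 : ∀ i, i < 12799 → P i := stepQ 12798 Q12798 (allL N12798 (tt N15831 (iv F27899)) (tt N10029 F21630) (tt N15832 D15863) (tt N10028 (iv D12807)) (tt N15833 D15864) (tt N15810 (iv F27873)))
theorem Q12800 : ∀ i, i < 12800 → P i := stepQ 12799 Q12799 (allL N12799 (tt N13015 (iv F22104)) (tt N15834 D15865) (tt N10029 (iv D12808)) (tt N13013 (iv F22100)) (tt N15835 D15866) (tt N13395 (iv F22823)))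
theorem Q12801 : ∀ i, i < 12801 → P i := stepQ 12800 Q12800 (allL N12800 (tt N15821 (iv F27889)) (tt N15833 (iv F27900)) (tt N15835 (iv F27901)) (tt N14946 (iv F25917)) (tt N10029 (iv D12809)) (tt N15836 D15867))
theorem Q12802 : ∀ i, i < 12802 → P i := stepQ 12801 Q12801 (allL N12801 (tt N12630 (iv F21632)) (tt N10031 (iv D12810)) (tt N14941 (iv F25904)) (tt N12628 F21631) (tt N14790 (iv F25623)) (tt N15837 D15868))
theorem Q12803 : ∀ i, i < 12803 → P i := stepQ 12802 Q12802 (allL N12802 (tt N10035 F21633) (tt N15837 (iv F27903)) (tt N10032 F21634) (tt N15042 (iv F26181)) (tt N15838 D15869) (tt N10031 (iv D12811)))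
theorem Q12804 : ∀ i, i < 12804 → P i := stepQ 12803 Q12803 (allL N12803 (tt N10036 F21635) (tt N14943 (iv F25909)) (tt N15838 (iv F27907)) (tt N12779 F21636) (tt N10032 (iv D12812)) (tt N12778 F21637))
theorem Q12805 : ∀ i, i < 12805 → P i := stepQ 12804 Q12804 (allL N12804 (tt N10033 (iv D12813)) (tt N12630 F21638) (tt N10037 F21639) (tt N12509 (iv F21641)) (tt N14792 (iv F25625)) (tt N12500 F21640))
theorem Q12806 : ∀ i, i < 12806 → P i := stepQ 12805 Q12805 (allL N12805 (tt N12509 F21642) (tt N10034 F21643) (tt N12507 F21644) (tt N10033 (iv D12814)) (tt N15839 D15870) (tt N12503 F21645))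
theorem Q12807 : ∀ i, i < 12807 → P i := stepQ 12806 Q12806 (allL N12806 (tt N15768 (iv F27781)) (tt N15839 (iv F27910)) (tt N15767 (iv F27780)) (tt N14794 (iv F25627)) (tt N10034 (iv D12815)) (tt N15840 D15871))
theorem Q12808 : ∀ i, i < 12808 → P i := stepQ 12807 Q12807 (allL N12807 (tt N15042 (iv F26179)) (tt N12503 F21646) (tt N15041 (iv F26177)) (tt N10035 F21647) (tt N15841 D15872) (tt N10034 (iv D12816)))
theorem Q12809 : ∀ i, i < 12809 → P i := stepQ 12808 Q12808 (allL N12808 (tt N15838 (iv F27906)) (tt N12504 F21648) (tt N10036 F21649) (tt N15842 D15873) (tt N10035 (iv D12817)) (tt N12780 F21650))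
theorem Q12810 : ∀ i, i < 12810 → P i := stepQ 12809 Q12809 (allL N12809 (tt N10040 F21651) (tt N15843 D15874) (tt N10038 (iv D12818)) (tt N14074 (iv F24154)) (tt N15844 D15875) (tt N14944 (iv F25914)))
theorem Q12811 : ∀ i, i < 12811 → P i := stepQ 12810 Q12810 (allL N12810 (tt N10041 F21652) (tt N12501 F21653) (tt N15844 (iv F27920)) (tt N11898 F21654) (tt N10038 (iv D12819)) (tt N15814 (iv F27879)))
theorem Q12812 : ∀ i, i < 12812 → P i := stepQ 12811 Q12811 (allL N12811 (tt N10042 F21655) (tt N12502 F21656) (tt N14024 (iv F24063)) (tt N15814 (iv F27877)) (tt N10039 (iv D12820)) (tt N11898 F21657))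
theorem Q12813 : ∀ i, i < 12813 → P i := stepQ 12812 Q12812 (allL N12812 (tt N14074 (iv F24153)) (tt N14947 (iv F25918)) (tt N14072 (iv F24150)) (tt N10040 (iv D12821)) (tt N15845 D15876) (tt N14945 (iv F25916)))
theorem Q12814 : ∀ i, i < 12814 → P i := stepQ 12813 Q12813 (allL N12813 (tt N15844 (iv F27919)) (tt N14948 (iv F25920)) (tt N10041 F21658) (tt N15846 D15877) (tt N10040 (iv D12822)) (tt N15807 (iv F27869)))
theorem Q12815 : ∀ i, i < 12815 → P i := stepQ 12814 Q12814 (allL N12814 (tt N14985 (iv F26018)) (tt N15191 (iv F26517)) (tt N10044 (iv D12823)) (tt N15847 D15878) (tt N10113 F21659) (tt N15848 D15879))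
theorem Q12816 : ∀ i, i < 12816 → P i := stepQ 12815 Q12815 (allL N12815 (tt N14986 (iv F26020)) (tt N10046 F21660) (tt N15848 (iv F27921)) (tt N10045 F21661) (tt N13560 (iv F23137)) (tt N10044 (iv D12824)))
theorem Q12817 : ∀ i, i < 12817 → P i := stepQ 12816 Q12816 (allL N12816 (tt N14644 (iv F25303)) (tt N10049 F21662) (tt N15849 D15880) (tt N10047 (iv D12825)) (tt N14714 (iv F25458)) (tt N15850 D15881))
theorem Q12818 : ∀ i, i < 12818 → P i := stepQ 12817 Q12817 (allL N12817 (tt N14643 (iv F25299)) (tt N10050 F21663) (tt N10060 F21664) (tt N15850 (iv F27923)) (tt N14638 (iv F25291)) (tt N10047 (iv D12826)))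
theorem Q12819 : ∀ i, i < 12819 → P i := stepQ 12818 Q12818 (allL N12818 (tt N10053 F21665) (tt N14714 (iv F25457)) (tt N15851 D15882) (tt N10048 (iv D12827)) (tt N10049 F21666) (tt N15852 D15883))
theorem Q12820 : ∀ i, i < 12820 → P i := stepQ 12819 Q12819 (allL N12819 (tt N10054 F21667) (tt N14715 (iv F25460)) (tt N13372 (iv F22776)) (tt N15852 (iv F27927)) (tt N13371 (iv F22773)) (tt N10048 (iv D12828)))
theorem Q12821 : ∀ i, i < 12821 → P i := stepQ 12820 Q12820 (allL N12820 (tt N10055 F21668) (tt N15853 D15884) (tt N10049 (iv D12829)) (tt N13353 (iv F22728)) (tt N15851 (iv F27925)) (tt N13352 (iv F22725)))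
theorem Q12822 : ∀ i, i < 12822 → P i := stepQ 12821 Q12821 (allL N12821 (tt N10056 F21669) (tt N15850 (iv F27922)) (tt N13352 (iv F22724)) (tt N10050 F21670) (tt N15854 D15885) (tt N10049 (iv D12830)))
theorem Q12823 : ∀ i, i < 12823 → P i := stepQ 12822 Q12822 (allL N12822 (tt N14696 (iv F25412)) (tt N10051 (iv D12831)) (tt N10068 F21671) (tt N13314 (iv F22670)) (tt N14671 (iv F25371)) (tt N13325 (iv F22691)))
theorem Q12824 : ∀ i, i < 12824 → P i := stepQ 12823 Q12823 (allL N12823 (tt N13373 (iv F22778)) (tt N14712 (iv F25453)) (tt N15855 D15886) (tt N10052 (iv D12832)) (tt N13367 (iv F22761)) (tt N15856 D15887))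
theorem Q12825 : ∀ i, i < 12825 → P i := stepQ 12824 Q12824 (allL N12824 (tt N13372 (iv F22774)) (tt N14713 (iv F25454)) (tt N10054 F21672) (tt N15856 (iv F27929)) (tt N13366 (iv F22759)) (tt N10052 (iv D12833)))
theorem Q12826 : ∀ i, i < 12826 → P i := stepQ 12825 Q12825 (allL N12825 (tt N15851 (iv F27924)) (tt N15857 D15888) (tt N10053 (iv D12834)) (tt N15858 D15889) (tt N10055 F21673) (tt N15859 D15890))
theorem Q12827 : ∀ i, i < 12827 → P i := stepQ 12826 Q12826 (allL N12826 (tt N15852 (iv F27926)) (tt N14664 (iv F25352)) (tt N15859 (iv F27931)) (tt N10054 F21674) (tt N15860 D15891) (tt N10053 (iv D12835)))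
theorem Q12828 : ∀ i, i < 12828 → P i := stepQ 12827 Q12827 (allL N12827 (tt N15861 D15892) (tt N10055 (iv D12836)) (tt N14669 (iv F25366)) (tt N15862 D15893) (tt N15857 (iv F27930)) (tt N15863 D15894))
theorem Q12829 : ∀ i, i < 12829 → P i := stepQ 12828 Q12828 (allL N12828 (tt N13353 (iv F22726)) (tt N15862 (iv F27933)) (tt N13262 (iv F22574)) (tt N10055 (iv D12837)) (tt N15864 D15895) (tt N13261 F22571))
theorem Q12830 : ∀ i, i < 12830 → P i := stepQ 12829 Q12829 (allL N12829 (tt N13352 (iv F22723)) (tt N15863 (iv F27934)) (tt N10056 F21675) (tt N13261 (iv F22570)) (tt N15865 D15896) (tt N10055 (iv D12838)))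
theorem Q12831 : ∀ i, i < 12831 → P i := stepQ 12830 Q12830 (allL N12830 (tt N15854 (iv F27928)) (tt N14667 (iv F25361)) (tt N15865 (iv F27935)) (tt N14658 (iv F25335)) (tt N10056 (iv D12839)) (tt N15860 (iv F27932)))
theorem Q12832 : ∀ i, i < 12832 → P i := stepQ 12831 Q12831 (allL N12831 (tt N13310 (iv F22665)) (tt N14699 (iv F25421)) (tt N13296 F22639) (tt N14677 (iv F25378)) (tt N10057 (iv D12840)) (tt N15866 D15897))
theorem Q12833 : ∀ i, i < 12833 → P i := stepQ 12832 Q12832 (allL N12832 (tt N10059 F21676) (tt N10069 F21677) (tt N15867 D15898) (tt N10058 (iv D12841)) (tt N14761 (iv F25568)) (tt N15868 D15899))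
theorem Q12834 : ∀ i, i < 12834 → P i := stepQ 12833 Q12833 (allL N12833 (tt N10060 F21678) (tt N10070 F21679) (tt N14643 (iv F25301)) (tt N15868 (iv F27941)) (tt N14621 (iv F25241)) (tt N10058 (iv D12842)))
theorem Q12835 : ∀ i, i < 12835 → P i := stepQ 12834 Q12834 (allL N12834 (tt N15867 (iv F27936)) (tt N15869 D15900) (tt N10059 (iv D12843)) (tt N15870 D15901) (tt N15037 (iv F26164)) (tt N15871 D15902))
theorem Q12836 : ∀ i, i < 12836 → P i := stepQ 12835 Q12835 (allL N12835 (tt N15868 (iv F27939)) (tt N10063 F21680) (tt N15871 (iv F27945)) (tt N10060 F21681) (tt N15872 D15903) (tt N10059 (iv D12844)))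
theorem Q12837 : ∀ i, i < 12837 → P i := stepQ 12836 Q12836 (allL N12836 (tt N14621 (iv F25238)) (tt N10064 F21682) (tt N14638 (iv F25290)) (tt N15873 D15904) (tt N10060 (iv D12845)) (tt N10061 F21683))
theorem Q12838 : ∀ i, i < 12838 → P i := stepQ 12837 Q12837 (allL N12837 (tt N14620 (iv F25235)) (tt N10065 F21684) (tt N15874 D15905) (tt N10061 (iv D12846)) (tt N10104 F21685) (tt N15873 (iv F27948)))
theorem Q12839 : ∀ i, i < 12839 → P i := stepQ 12838 Q12838 (allL N12838 (tt N15875 D15906) (tt N10062 (iv D12847)) (tt N15869 (iv F27943)) (tt N14708 (iv F25444)) (tt N15038 (iv F26166)) (tt N14707 F25442))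
theorem Q12840 : ∀ i, i < 12840 → P i := stepQ 12839 Q12839 (allL N12839 (tt N10082 F21686) (tt N15872 (iv F27946)) (tt N14709 (iv F25446)) (tt N15876 D15907) (tt N10063 (iv D12848)) (tt N15039 (iv F26169)))
theorem Q12841 : ∀ i, i < 12841 → P i := stepQ 12840 Q12840 (allL N12840 (tt N10083 F21687) (tt N15873 (iv F27947)) (tt N15877 D15908) (tt N10064 (iv D12849)) (tt N15876 (iv F27955)) (tt N10065 F21688))
theorem Q12842 : ∀ i, i < 12842 → P i := stepQ 12841 Q12841 (allL N12841 (tt N10084 F21689) (tt N12419 (iv F21732)) (tt N10065 (iv D12850)) (tt N13508 (iv F22989)) (tt N10106 F21690) (tt N15877 (iv F27959)))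
theorem Q12843 : ∀ i, i < 12843 → P i := stepQ 12842 Q12842 (allL N12842 (tt N10085 F21691) (tt N13548 (iv F23103)) (tt N10066 (iv D12851)) (tt N13547 F23101) (tt N13649 (iv F23344)) (tt N10067 F21692))
theorem Q12844 : ∀ i, i < 12844 → P i := stepQ 12843 Q12843 (allL N12843 (tt N13663 (iv F23399)) (tt N10067 (iv D12852)) (tt N14671 (iv F25370)) (tt N13549 (iv F23109)) (tt N10068 F21693) (tt N13548 F23105))
theorem Q12845 : ∀ i, i < 12845 → P i := stepQ 12844 Q12844 (allL N12844 (tt N10087 F21694) (tt N13549 (iv F23107)) (tt N13550 (iv F23113)) (tt N10067 (iv D12853)) (tt N10087 F21695) (tt N13547 (iv F23100)))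
theorem Q12846 : ∀ i, i < 12846 → P i := stepQ 12845 Q12845 (allL N12845 (tt N10068 (iv D12854)) (tt N10088 F21696) (tt N14696 (iv F25413)) (tt N10088 F21697) (tt N13663 F23402) (tt N13667 (iv F23412)))
theorem Q12847 : ∀ i, i < 12847 → P i := stepQ 12846 Q12846 (allL N12846 (tt N10073 F21698) (tt N12576 (iv F21722)) (tt N10069 (iv D12855)) (tt N12580 (iv F21723)) (tt N12573 F21721) (tt N15878 D15909))
theorem Q12848 : ∀ i, i < 12848 → P i := stepQ 12847 Q12847 (allL N12847 (tt N10074 F21699) (tt N15868 (iv F27940)) (tt N15878 (iv F27963)) (tt N10070 F21700) (tt N15879 D15910) (tt N10069 (iv D12856)))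
theorem Q12849 : ∀ i, i < 12849 → P i := stepQ 12848 Q12848 (allL N12848 (tt N12573 (iv F21719)) (tt N12586 F21711) (tt N10071 (iv D12857)) (tt N12572 F21718) (tt N10073 F21701) (tt N15880 D15911))
theorem Q12850 : ∀ i, i < 12850 → P i := stepQ 12849 Q12849 (allL N12849 (tt N14762 (iv F25570)) (tt N10076 F21702) (tt N15880 (iv F27968)) (tt N10072 F21703) (tt N15881 D15912) (tt N10071 (iv D12858)))
theorem Q12851 : ∀ i, i < 12851 → P i := stepQ 12850 Q12850 (allL N12850 (tt N12588 (iv F21713)) (tt N10073 (iv D12859)) (tt N10079 F21704) (tt N12594 (iv F21714)) (tt N12586 F21712) (tt N15882 D15913))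
theorem Q12852 : ∀ i, i < 12852 → P i := stepQ 12851 Q12851 (allL N12851 (tt N12580 (iv F21716)) (tt N12594 F21715) (tt N15385 (iv F26959)) (tt N10073 (iv D12860)) (tt N12579 (iv F21717)) (tt N15387 (iv F26965)))
theorem Q12853 : ∀ i, i < 12853 → P i := stepQ 12852 Q12852 (allL N12852 (tt N15878 (iv F27961)) (tt N15882 (iv F27973)) (tt N10074 F21705) (tt N15387 (iv F26964)) (tt N15883 D15914) (tt N10073 (iv D12861)))
theorem Q12854 : ∀ i, i < 12854 → P i := stepQ 12853 Q12853 (allL N12853 (tt N15879 (iv F27965)) (tt N10082 F21706) (tt N15883 (iv F27976)) (tt N14628 (iv F25260)) (tt N10074 (iv D12862)) (tt N15881 (iv F27971)))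
theorem Q12855 : ∀ i, i < 12855 → P i := stepQ 12854 Q12854 (allL N12854 (tt N12587 F21710) (tt N10075 (iv D12863)) (tt N12586 (iv F21709)) (tt N11532 F21707) (tt N10079 F21708) (tt N15034 (iv F26155)))
theorem Q12856 : ∀ i, i < 12856 → P i := stepQ 12855 Q12855 (allL N12855 (tt N15039 (iv F26167)) (tt N15881 (iv F27970)) (tt N15035 (iv F26156)) (tt N15884 D15915) (tt N10076 (iv D12864)) (tt N10082 F21724))
theorem Q12857 : ∀ i, i < 12857 → P i := stepQ 12856 Q12856 (allL N12856 (tt N10107 F21725) (tt N14627 (iv F25257)) (tt N15885 D15916) (tt N10077 (iv D12865)) (tt N15884 (iv F27978)) (tt N10078 F21726))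
theorem Q12858 : ∀ i, i < 12858 → P i := stepQ 12857 Q12857 (allL N12857 (tt N10106 F21727) (tt N13510 (iv F23003)) (tt N10078 (iv D12866)) (tt N12417 (iv F21729)) (tt N10084 F21728) (tt N15885 (iv F27982)))
theorem Q12859 : ∀ i, i < 12859 → P i := stepQ 12858 Q12858 (allL N12858 (tt N10079 (iv D12867)) (tt N15875 (iv F27951)) (tt N12588 F21733) (tt N15886 D15917) (tt N12587 F21734) (tt N15887 D15918))
theorem Q12860 : ∀ i, i < 12860 → P i := stepQ 12859 Q12859 (allL N12859 (tt N15886 (iv F27984)) (tt N10080 F21735) (tt N15888 D15919) (tt N10079 (iv D12868)) (tt N15889 D15920) (tt N14700 (iv F25425)))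
theorem Q12861 : ∀ i, i < 12861 → P i := stepQ 12860 Q12860 (allL N12860 (tt N15887 (iv F27985)) (tt N10081 F21736) (tt N15882 (iv F27974)) (tt N14700 (iv F25423)) (tt N15890 D15921) (tt N10079 (iv D12869)))
theorem Q12862 : ∀ i, i < 12862 → P i := stepQ 12861 Q12861 (allL N12861 (tt N14710 (iv F25447)) (tt N15889 (iv F27990)) (tt N14701 (iv F25428)) (tt N15036 (iv F26161)) (tt N10080 (iv D12870)) (tt N15036 (iv F26162)))
theorem Q12863 : ∀ i, i < 12863 → P i := stepQ 12862 Q12862 (allL N12862 (tt N14709 (iv F25445)) (tt N15890 (iv F27994)) (tt N10082 F21737) (tt N15035 (iv F26157)) (tt N10081 (iv D12871)) (tt N15035 (iv F26158)))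
theorem Q12864 : ∀ i, i < 12864 → P i := stepQ 12863 Q12863 (allL N12863 (tt N15876 (iv F27954)) (tt N14628 (iv F25259)) (tt N15891 D15922) (tt N10082 (iv D12872)) (tt N10083 F21738) (tt N15884 (iv F27979)))
theorem Q12865 : ∀ i, i < 12865 → P i := stepQ 12864 Q12864 (allL N12864 (tt N15877 (iv F27957)) (tt N12495 F21739) (tt N10083 (iv D12873)) (tt N13550 (iv F23114)) (tt N15891 (iv F27996)) (tt N10084 F21740))
theorem Q12866 : ∀ i, i < 12866 → P i := stepQ 12865 Q12865 (allL N12865 (tt N10086 (iv D12875)) (tt N13663 (iv F23400)) (tt N10095 F21742) (tt N13659 (iv F23388)) (tt N10088 F21743) (tt N13658 F23384))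
theorem Q12867 : ∀ i, i < 12867 → P i := stepQ 12866 Q12866 (allL N12866 (tt N13550 (iv F23111)) (tt N13509 (iv F22999)) (tt N10087 (iv D12877)) (tt N15877 (iv F27958)) (tt N13550 (iv F23115)) (tt N13508 F22994))
theorem Q12868 : ∀ i, i < 12868 → P i := stepQ 12867 Q12867 (allL N12867 (tt N10089 (iv D12878)) (tt N14917 (iv F25858)) (tt N10092 F21745) (tt N15773 F27794) (tt N14629 (iv F25263)) (tt N15774 (iv F27797)))
theorem Q12869 : ∀ i, i < 12869 → P i := stepQ 12868 Q12868 (allL N12868 (tt N15773 (iv F27791)) (tt N10090 F21746) (tt N10866 (iv F21760)) (tt N10089 (iv D12879)) (tt N12638 F21759) (tt N10865 (iv F21761)))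
theorem Q12870 : ∀ i, i < 12870 → P i := stepQ 12869 Q12869 (allL N12869 (tt N15774 (iv F27795)) (tt N10091 F21747) (tt N10094 F21748) (tt N10865 F21762) (tt N13521 (iv F23032)) (tt N10089 (iv D12880)))
theorem Q12871 : ∀ i, i < 12871 → P i := stepQ 12870 Q12870 (allL N12870 (tt N15387 (iv F26963)) (tt N12582 (iv F21754)) (tt N10090 (iv D12881)) (tt N15878 (iv F27964)) (tt N12641 (iv F21755)) (tt N12580 F21753))
theorem Q12872 : ∀ i, i < 12872 → P i := stepQ 12871 Q12871 (allL N12871 (tt N14787 (iv F25617)) (tt N12638 (iv F21757)) (tt N12641 F21756) (tt N14631 (iv F25269)) (tt N10090 (iv D12882)) (tt N12636 (iv F21758)))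
theorem Q12873 : ∀ i, i < 12873 → P i := stepQ 12872 Q12872 (allL N12872 (tt N15385 (iv F26956)) (tt N10865 F21751) (tt N12580 (iv F21750)) (tt N10091 F21749) (tt N10864 F21752) (tt N10090 (iv D12883)))
theorem Q12874 : ∀ i, i < 12874 → P i := stepQ 12873 Q12873 (allL N12873 (tt N10093 F21763) (tt N14345 (iv F24703)) (tt N15892 D15923) (tt N10092 (iv D12884)) (tt N14344 (iv F24701)) (tt N13360 (iv F22742)))
theorem Q12875 : ∀ i, i < 12875 → P i := stepQ 12874 Q12874 (allL N12874 (tt N10094 F21764) (tt N14346 (iv F24707)) (tt N15774 (iv F27798)) (tt N13360 (iv F22740)) (tt N13526 (iv F23059)) (tt N10092 (iv D12885)))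
theorem Q12876 : ∀ i, i < 12876 → P i := stepQ 12875 Q12875 (allL N12875 (tt N15892 (iv F27997)) (tt N13359 (iv F22737)) (tt N10093 (iv D12886)) (tt N13673 (iv F23428)) (tt N13670 F23421) (tt N13357 F22736))
theorem Q12877 : ∀ i, i < 12877 → P i := stepQ 12876 Q12876 (allL N12876 (tt N14795 (iv F25628)) (tt N14624 (iv F25250)) (tt N15389 (iv F26968)) (tt N10096 (iv D12887)) (tt N14749 (iv F25548)) (tt N15405 (iv F27009)))
theorem Q12878 : ∀ i, i < 12878 → P i := stepQ 12877 Q12877 (allL N12877 (tt N14298 (iv F24574)) (tt N14625 (iv F25253)) (tt N10098 F21765) (tt N15405 (iv F27008)) (tt N14293 (iv F24559)) (tt N10096 (iv D12888)))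
theorem Q12879 : ∀ i, i < 12879 → P i := stepQ 12878 Q12878 (allL N12878 (tt N15011 (iv F26067)) (tt N15314 (iv F26797)) (tt N14731 (iv F25506)) (tt N10099 (iv D12891)) (tt N15313 (iv F26793)) (tt N14721 (iv F25467)))
theorem Q12880 : ∀ i, i < 12880 → P i := stepQ 12879 Q12879 (allL N12879 (tt N10109 F21769) (tt N11382 (iv F21776)) (tt N12418 (iv F21777)) (tt N10100 (iv D12893)) (tt N10109 F21770) (tt N11380 F21775))
theorem Q12881 : ∀ i, i < 12881 → P i := stepQ 12880 Q12880 (allL N12880 (tt N10110 F21771) (tt N11381 F21774) (tt N10101 F21772) (tt N11380 (iv F21773)) (tt N14724 (iv F25483)) (tt N10100 (iv D12894)))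
theorem Q12882 : ∀ i, i < 12882 → P i := stepQ 12881 Q12881 (allL N12881 (tt N10102 (iv D12895)) (tt N10111 F21808) (tt N15401 (iv F26996)) (tt N10111 F21809) (tt N11391 F21810) (tt N14725 (iv F25487)))
theorem Q12883 : ∀ i, i < 12883 → P i := stepQ 12882 Q12882 (allL N12882 (tt N10104 F21811) (tt N14622 (iv F25243)) (tt N15893 D15924) (tt N10103 (iv D12896)) (tt N14620 (iv F25237)) (tt N15894 D15925))
theorem Q12884 : ∀ i, i < 12884 → P i := stepQ 12883 Q12883 (allL N12883 (tt N10105 F21812) (tt N14623 (iv F25246)) (tt N14315 (iv F24626)) (tt N15894 (iv F28005)) (tt N14314 F24623) (tt N10103 (iv D12897)))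
theorem Q12885 : ∀ i, i < 12885 → P i := stepQ 12884 Q12884 (allL N12884 (tt N15893 (iv F27999)) (tt N12416 F21813) (tt N10104 (iv D12898)) (tt N12414 (iv F21814)) (tt N15874 (iv F27950)) (tt N12413 (iv F21815)))
theorem Q12886 : ∀ i, i < 12886 → P i := stepQ 12885 Q12885 (allL N12885 (tt N15894 (iv F28003)) (tt N10107 F21829) (tt N12413 F21830) (tt N10105 F21831) (tt N15895 D15926) (tt N10104 (iv D12899)))
theorem Q12887 : ∀ i, i < 12887 → P i := stepQ 12886 Q12886 (allL N12886 (tt N15885 (iv F27980)) (tt N12415 F21832) (tt N10107 F21833) (tt N12418 F21834) (tt N15896 D15927) (tt N10106 (iv D12900)))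
theorem Q12888 : ∀ i, i < 12888 → P i := stepQ 12887 Q12887 (allL N12887 (tt N15884 (iv F27977)) (tt N15895 (iv F28006)) (tt N15896 (iv F28009)) (tt N15039 (iv F26168)) (tt N10107 (iv D12901)) (tt N15876 (iv F27956)))
theorem Q12889 : ∀ i, i < 12889 → P i := stepQ 12888 Q12888 (allL N12888 (tt N10108 (iv D12902)) (tt N11391 F21835) (tt N15030 (iv F26136)) (tt N11387 (iv F21838)) (tt N10111 F21836) (tt N11386 F21837))
theorem Q12890 : ∀ i, i < 12890 → P i := stepQ 12889 Q12889 (allL N12889 (tt N11387 F21839) (tt N10109 F21840) (tt N11384 F21843) (tt N10108 (iv D12903)) (tt N11382 F21841) (tt N11383 F21842))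
theorem Q12891 : ∀ i, i < 12891 → P i := stepQ 12890 Q12890 (allL N12890 (tt N12418 F21844) (tt N12420 F21845) (tt N10109 (iv D12904)) (tt N15885 (iv F27981)) (tt N12418 F21846) (tt N12417 (iv F21847)))
theorem Q12892 : ∀ i, i < 12892 → P i := stepQ 12891 Q12891 (allL N12891 (tt N11380 F21848) (tt N11383 F21849) (tt N12417 F21850) (tt N10110 F21851) (tt N11379 F21852) (tt N10109 (iv D12905)))
theorem Q12893 : ∀ i, i < 12893 → P i := stepQ 12892 Q12892 (allL N12892 (tt N14988 (iv F26026)) (tt N15190 (iv F26514)) (tt N14721 (iv F25468)) (tt N10113 (iv D12906)) (tt N15897 D15928) (tt N14731 (iv F25505)))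
theorem Q12894 : ∀ i, i < 12894 → P i := stepQ 12893 Q12893 (allL N12893 (tt N14961 (iv F25954)) (tt N15898 D15929) (tt N10114 (iv D12907)) (tt N15899 D15930) (tt N13408 (iv F22842)) (tt N15900 D15931))
theorem Q12895 : ∀ i, i < 12895 → P i := stepQ 12894 Q12894 (allL N12894 (tt N14962 (iv F25955)) (tt N10117 F21853) (tt N15900 (iv F28011)) (tt N10115 F21854) (tt N15901 D15932) (tt N10114 (iv D12908)))
theorem Q12896 : ∀ i, i < 12896 → P i := stepQ 12895 Q12895 (allL N12895 (tt N15902 D15933) (tt N10116 (iv D12909)) (tt N15898 (iv F28010)) (tt N13458 (iv F22916)) (tt N13412 (iv F22850)) (tt N13457 F22914))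
theorem Q12897 : ∀ i, i < 12897 → P i := stepQ 12896 Q12896 (allL N12896 (tt N13430 (iv F22882)) (tt N15901 (iv F28012)) (tt N13459 (iv F22917)) (tt N14998 (iv F26041)) (tt N10117 (iv D12910)) (tt N13413 (iv F22854)))
theorem Q12898 : ∀ i, i < 12898 → P i := stepQ 12897 Q12897 (allL N12897 (tt N15365 (iv F26909)) (tt N10118 (iv D12911)) (tt N10120 F21855) (tt N15903 D15934) (tt N14959 (iv F25947)) (tt N15904 D15935))
theorem Q12899 : ∀ i, i < 12899 → P i := stepQ 12898 Q12898 (allL N12898 (tt N14963 (iv F25957)) (tt N15903 (iv F28013)) (tt N15905 D15936) (tt N10118 (iv D12912)) (tt N15906 D15937) (tt N15907 D15938))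
theorem Q12900 : ∀ i, i < 12900 → P i := stepQ 12899 Q12899 (allL N12899 (tt N14964 (iv F25959)) (tt N15904 (iv F28014)) (tt N10119 F21856) (tt N15907 (iv F28016)) (tt N15393 (iv F26978)) (tt N10118 (iv D12913)))
theorem Q12901 : ∀ i, i < 12901 → P i := stepQ 12900 Q12900 (allL N12900 (tt N10120 (iv D12914)) (tt N14966 (iv F25968)) (tt N15365 (iv F26911)) (tt N15908 D15939) (tt N14965 (iv F25966)) (tt N15909 D15940))
theorem Q12902 : ∀ i, i < 12902 → P i := stepQ 12901 Q12901 (allL N12901 (tt N15908 (iv F28017)) (tt N10121 F21857) (tt N13784 (iv F23651)) (tt N10120 (iv D12915)) (tt N15452 (iv F27079)) (tt N12300 (iv F21858)))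
theorem Q12903 : ∀ i, i < 12903 → P i := stepQ 12902 Q12902 (allL N12902 (tt N15909 (iv F28019)) (tt N10122 F21859) (tt N15904 (iv F28015)) (tt N12300 F21860) (tt N15439 (iv F27054)) (tt N10120 (iv D12916)))
theorem Q12904 : ∀ i, i < 12904 → P i := stepQ 12903 Q12903 (allL N12903 (tt N15910 D15941) (tt N10123 (iv D12917)) (tt N15001 (iv F26046)) (tt N14958 (iv F25943)) (tt N14735 (iv F25517)) (tt N10124 F21861))
theorem Q12905 : ∀ i, i < 12905 → P i := stepQ 12904 Q12904 (allL N12904 (tt N10124 (iv D12918)) (tt N15188 (iv F26511)) (tt N14999 (iv F26042)) (tt N15911 D15942) (tt N10126 F21862) (tt N15910 (iv F28021)))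
theorem Q12906 : ∀ i, i < 12906 → P i := stepQ 12905 Q12905 (allL N12905 (tt N15911 (iv F28022)) (tt N10125 F21863) (tt N15912 D15943) (tt N10124 (iv D12919)) (tt N12530 F21864) (tt N14958 (iv F25944)))
theorem Q12907 : ∀ i, i < 12907 → P i := stepQ 12906 Q12906 (allL N12906 (tt N10128 F21865) (tt N10140 F21866) (tt N13034 (iv F22148)) (tt N10424 F21867) (tt N10127 (iv D12920)) (tt N15913 D15944))
theorem Q12908 : ∀ i, i < 12908 → P i := stepQ 12907 Q12907 (allL N12907 (tt N15913 (iv F28026)) (tt N10130 F21868) (tt N13113 (iv F22302)) (tt N10429 F21869) (tt N12926 (iv F21912)) (tt N10128 (iv D12921)))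
theorem Q12909 : ∀ i, i < 12909 → P i := stepQ 12908 Q12908 (allL N12908 (tt N10289 F21870) (tt N10131 F21871) (tt N15914 D15945) (tt N10129 (iv D12922)) (tt N12925 (iv F21910)) (tt N10431 F21872))
theorem Q12910 : ∀ i, i < 12910 → P i := stepQ 12909 Q12909 (allL N12909 (tt N10149 F21873) (tt N15915 D15946) (tt N10131 (iv D12923)) (tt N10434 F21875) (tt N12927 (iv F21913)) (tt N10434 F21874))
theorem Q12911 : ∀ i, i < 12911 → P i := stepQ 12910 Q12910 (allL N12910 (tt N10134 F21876) (tt N15916 D15947) (tt N10132 (iv D12924)) (tt N15917 D15948) (tt N15918 D15949) (tt N15919 D15950))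
theorem Q12912 : ∀ i, i < 12912 → P i := stepQ 12911 Q12911 (allL N12911 (tt N10135 F21877) (tt N10424 F21878) (tt N15918 (iv F28041)) (tt N10140 F21879) (tt N10132 (iv D12925)) (tt N15920 D15951))
theorem Q12913 : ∀ i, i < 12913 → P i := stepQ 12912 Q12912 (allL N12912 (tt N10136 F21880) (tt N10425 F21881) (tt N15919 (iv F28043)) (tt N10133 F21882) (tt N15921 D15952) (tt N10132 (iv D12926)))
theorem Q12914 : ∀ i, i < 12914 → P i := stepQ 12913 Q12913 (allL N12913 (tt N15919 (iv F28042)) (tt N10134 (iv D12927)) (tt N10136 F21883) (tt N15922 D15953) (tt N15923 D15954) (tt N10134 (iv F21884)))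
theorem Q12915 : ∀ i, i < 12915 → P i := stepQ 12914 Q12914 (allL N12914 (tt N15917 (iv F28037)) (tt N15922 (iv F28052)) (tt N15924 D15955) (tt N10134 (iv D12928)) (tt N15925 D15956) (tt N15922 (iv F28054)))
theorem Q12916 : ∀ i, i < 12916 → P i := stepQ 12915 Q12915 (allL N12915 (tt N15918 (iv F28040)) (tt N15923 (iv F28055)) (tt N10135 F21885) (tt N15926 D15957) (tt N10134 (iv D12929)) (tt N15927 D15958))
theorem Q12917 : ∀ i, i < 12917 → P i := stepQ 12916 Q12916 (allL N12916 (tt N15920 (iv F28045)) (tt N10138 F21886) (tt N15927 (iv F28060)) (tt N10143 F21887) (tt N15928 D15959) (tt N10135 (iv D12930)))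
theorem Q12918 : ∀ i, i < 12918 → P i := stepQ 12917 Q12917 (allL N12917 (tt N15921 (iv F28048)) (tt N10137 F21888) (tt N15923 (iv F28056)) (tt N10305 F21889) (tt N10136 (iv D12931)) (tt N15928 (iv F28063)))
theorem Q12919 : ∀ i, i < 12919 → P i := stepQ 12918 Q12918 (allL N12918 (tt N10432 F21890) (tt N10305 F21891) (tt N15929 D15960) (tt N10137 (iv D12932)) (tt N10139 F21892) (tt N15930 D15961))
theorem Q12920 : ∀ i, i < 12920 → P i := stepQ 12919 Q12919 (allL N12919 (tt N10433 F21893) (tt N15928 (iv F28061)) (tt N10138 F21894) (tt N15930 (iv F28068)) (tt N10138 F21895) (tt N10137 (iv D12933)))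
theorem Q12921 : ∀ i, i < 12921 → P i := stepQ 12920 Q12920 (allL N12920 (tt N10434 F21896) (tt N15931 D15962) (tt N10139 (iv D12934)) (tt N10149 F21897) (tt N15929 (iv F28065)) (tt N10149 F21898))
theorem Q12922 : ∀ i, i < 12922 → P i := stepQ 12921 Q12921 (allL N12921 (tt N10143 F21899) (tt N15913 (iv F28027)) (tt N10269 F21900) (tt N15920 (iv F28047)) (tt N10292 F21901) (tt N10140 (iv D12935)))
theorem Q12923 : ∀ i, i < 12923 → P i := stepQ 12922 Q12922 (allL N12922 (tt N13045 (iv F22170)) (tt N10142 F21902) (tt N10144 F21903) (tt N15932 D15963) (tt N10141 (iv D12936)) (tt N15933 D15964))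
theorem Q12924 : ∀ i, i < 12924 → P i := stepQ 12923 Q12923 (allL N12923 (tt N10268 F21904) (tt N15932 (iv F28073)) (tt N15934 D15965) (tt N10142 (iv D12937)) (tt N10265 F21905) (tt N15935 D15966))
theorem Q12925 : ∀ i, i < 12925 → P i := stepQ 12924 Q12924 (allL N12924 (tt N10269 F21906) (tt N15933 (iv F28075)) (tt N10143 F21907) (tt N15935 (iv F28081)) (tt N10299 F21908) (tt N10142 (iv D12938)))
theorem Q12926 : ∀ i, i < 12926 → P i := stepQ 12925 Q12925 (allL N12925 (tt N13101 (iv F22284)) (tt N10145 F21909) (tt N15936 D15967) (tt N10144 (iv D12939)) (tt N12908 F21910) (tt N15937 D15968))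
theorem Q12927 : ∀ i, i < 12927 → P i := stepQ 12926 Q12926 (allL N12926 (tt N13102 (iv F22287)) (tt N10146 F21911) (tt N15933 (iv F28076)) (tt N15937 (iv F28090)) (tt N12907 F21912) (tt N10144 (iv D12940)))
theorem Q12928 : ∀ i, i < 12928 → P i := stepQ 12927 Q12927 (allL N12927 (tt N12930 (iv F21918)) (tt N13205 (iv F26295)) (tt N10145 (iv D12941)) (tt N13204 F26294) (tt N12909 F21913) (tt N15938 D15969))
theorem Q12929 : ∀ i, i < 12929 → P i := stepQ 12928 Q12928 (allL N12928 (tt N12929 (iv F21915)) (tt N15937 (iv F28088)) (tt N15938 (iv F28093)) (tt N10146 F21914) (tt N13285 (iv F22606)) (tt N10145 (iv D12942)))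
theorem Q12930 : ∀ i, i < 12930 → P i := stepQ 12929 Q12929 (allL N12929 (tt N12928 F21915) (tt N10301 F21916) (tt N15939 D15970) (tt N10147 (iv D12943)) (tt N15930 (iv F28069)) (tt N10148 F21917))
theorem Q12931 : ∀ i, i < 12931 → P i := stepQ 12930 Q12930 (allL N12930 (tt N12927 F21918) (tt N15940 D15971) (tt N10148 (iv D12944)) (tt N15941 D15972) (tt N10149 F21919) (tt N15939 (iv F28098)))
theorem Q12932 : ∀ i, i < 12932 → P i := stepQ 12931 Q12931 (allL N12931 (tt N15942 D15973) (tt N10149 (iv D12945)) (tt N10302 F21920) (tt N15931 (iv F28071)) (tt N15940 (iv F28100)) (tt N15931 (iv F28072)))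
theorem Q12933 : ∀ i, i < 12933 → P i := stepQ 12932 Q12932 (allL N12932 (tt N15943 D15974) (tt N10150 (iv D12946)) (tt N10187 F21921) (tt N15944 D15975) (tt N10295 F21922) (tt N15945 D15976))
theorem Q12934 : ∀ i, i < 12934 → P i := stepQ 12933 Q12933 (allL N12933 (tt N10153 F21923) (tt N15944 (iv F28110)) (tt N15922 (iv F28053)) (tt N10150 (iv D12947)) (tt N15946 D15977) (tt N15924 (iv F28059)))
theorem Q12935 : ∀ i, i < 12935 → P i := stepQ 12934 Q12934 (allL N12934 (tt N10154 F21924) (tt N15945 (iv F28112)) (tt N10151 F21925) (tt N15924 (iv F28058)) (tt N11827 F21926) (tt N10150 (iv D12948)))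
theorem Q12936 : ∀ i, i < 12936 → P i := stepQ 12935 Q12935 (allL N12935 (tt N10152 (iv D12949)) (tt N15943 (iv F28106)) (tt N10155 F21927) (tt N15947 D15978) (tt N10306 F21928) (tt N10183 F21929))
theorem Q12937 : ∀ i, i < 12937 → P i := stepQ 12936 Q12936 (allL N12936 (tt N15947 (iv F28117)) (tt N10153 F21930) (tt N15948 D15979) (tt N10152 (iv D12950)) (tt N15949 D15980) (tt N10185 F21931))
theorem Q12938 : ∀ i, i < 12938 → P i := stepQ 12937 Q12937 (allL N12937 (tt N15922 (iv F28051)) (tt N15950 D15981) (tt N10153 (iv D12951)) (tt N15919 (iv F28044)) (tt N15951 D15982) (tt N15917 F28039))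
theorem Q12939 : ∀ i, i < 12939 → P i := stepQ 12938 Q12938 (allL N12938 (tt N15946 (iv F28115)) (tt N15949 (iv F28123)) (tt N15951 (iv F28125)) (tt N10309 F21932) (tt N10153 (iv D12952)) (tt N15952 D15983))
theorem Q12940 : ∀ i, i < 12940 → P i := stepQ 12939 Q12939 (allL N12939 (tt N15924 (iv F28057)) (tt N10185 F21933) (tt N15917 (iv F28038)) (tt N10154 F21934) (tt N15953 D15984) (tt N10153 (iv D12953)))
theorem Q12941 : ∀ i, i < 12941 → P i := stepQ 12940 Q12940 (allL N12940 (tt N12942 (iv F21939)) (tt N10170 F21935) (tt N12758 F21936) (tt N15954 D15985) (tt N10158 (iv D12954)) (tt N15955 D15986))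
theorem Q12942 : ∀ i, i < 12942 → P i := stepQ 12941 Q12941 (allL N12941 (tt N13201 (iv F22433)) (tt N10171 F21937) (tt N15956 D15987) (tt N10159 (iv D12955)) (tt N15954 (iv F28130)) (tt N10612 F21938))
theorem Q12943 : ∀ i, i < 12943 → P i := stepQ 12942 Q12942 (allL N12942 (tt N12940 F21939) (tt N12761 F21940) (tt N10161 F21941) (tt N15957 D15988) (tt N10160 (iv D12956)) (tt N15958 D15989))
theorem Q12944 : ∀ i, i < 12944 → P i := stepQ 12943 Q12943 (allL N12943 (tt N15787 (iv F27819)) (tt N15794 (iv F27838)) (tt N15958 (iv F28140)) (tt N10610 F21942) (tt N15955 (iv F28133)) (tt N10161 (iv D12957)))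
theorem Q12945 : ∀ i, i < 12945 → P i := stepQ 12944 Q12944 (allL N12944 (tt N10447 F21943) (tt N10162 (iv D12958)) (tt N10435 F21944) (tt N15959 D15990) (tt N15960 D15991) (tt N10444 F21945))
theorem Q12946 : ∀ i, i < 12946 → P i := stepQ 12945 Q12945 (allL N12945 (tt N10165 F21946) (tt N15959 (iv F28143)) (tt N10197 F21947) (tt N10162 (iv D12959)) (tt N15961 D15992) (tt N10195 F21948))
theorem Q12947 : ∀ i, i < 12947 → P i := stepQ 12946 Q12946 (allL N12946 (tt N10166 F21949) (tt N15960 (iv F28147)) (tt N10163 F21950) (tt N15962 D15993) (tt N10162 (iv D12960)) (tt N11878 F21951))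
theorem Q12948 : ∀ i, i < 12948 → P i := stepQ 12947 Q12947 (allL N12947 (tt N10197 F21952) (tt N15963 D15994) (tt N10165 (iv D12961)) (tt N10190 F21953) (tt N15964 D15995) (tt N10188 F21954))
theorem Q12949 : ∀ i, i < 12949 → P i := stepQ 12948 Q12948 (allL N12948 (tt N15961 (iv F28150)) (tt N10462 F21955) (tt N15964 (iv F28159)) (tt N15965 D15996) (tt N10165 (iv D12962)) (tt N15966 D15997))
theorem Q12950 : ∀ i, i < 12950 → P i := stepQ 12949 Q12949 (allL N12949 (tt N15962 (iv F28152)) (tt N10466 F21956) (tt N15967 D15998) (tt N10166 (iv D12963)) (tt N15965 (iv F28161)) (tt N11881 F21957))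
theorem Q12951 : ∀ i, i < 12951 → P i := stepQ 12950 Q12950 (allL N12950 (tt N10171 F21958) (tt N15800 (iv F27856)) (tt N15968 D15999) (tt N10167 (iv D12964)) (tt N10215 F21959) (tt N15969 D16000))
theorem Q12952 : ∀ i, i < 12952 → P i := stepQ 12951 Q12951 (allL N12951 (tt N10172 F21960) (tt N15799 (iv F27853)) (tt N10168 F21961) (tt N15969 (iv F28169)) (tt N10604 F21962) (tt N10167 (iv D12965)))
theorem Q12953 : ∀ i, i < 12953 → P i := stepQ 12952 Q12952 (allL N12952 (tt N10173 F21963) (tt N12366 (iv F21967)) (tt N10169 (iv D12966)) (tt N11773 F21964) (tt N10613 F21965) (tt N11772 F21966))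
theorem Q12954 : ∀ i, i < 12954 → P i := stepQ 12953 Q12953 (allL N12953 (tt N10215 F21968) (tt N15954 (iv F28129)) (tt N15970 D16001) (tt N10170 (iv D12967)) (tt N10171 F21969) (tt N15971 D16002))
theorem Q12955 : ∀ i, i < 12955 → P i := stepQ 12954 Q12954 (allL N12954 (tt N10216 F21970) (tt N15955 (iv F28131)) (tt N10214 F21971) (tt N15971 (iv F28177)) (tt N15794 (iv F27841)) (tt N10170 (iv D12968)))
theorem Q12956 : ∀ i, i < 12956 → P i := stepQ 12955 Q12955 (allL N12955 (tt N15968 (iv F28165)) (tt N15972 D16003) (tt N10171 (iv D12969)) (tt N15973 D16004) (tt N15970 (iv F28171)) (tt N15974 D16005))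
theorem Q12957 : ∀ i, i < 12957 → P i := stepQ 12956 Q12956 (allL N12956 (tt N15969 (iv F28168)) (tt N10612 F21972) (tt N15974 (iv F28184)) (tt N10172 F21973) (tt N15975 D16006) (tt N10171 (iv D12970)))
theorem Q12958 : ∀ i, i < 12958 → P i := stepQ 12957 Q12957 (allL N12957 (tt N11773 F21974) (tt N11823 F21975) (tt N11763 F21976) (tt N10173 (iv D12971)) (tt N15976 D16007) (tt N11762 F21977))
theorem Q12959 : ∀ i, i < 12959 → P i := stepQ 12958 Q12958 (allL N12958 (tt N10176 F21978) (tt N15977 D16008) (tt N10174 (iv D12972)) (tt N15948 (iv F28122)) (tt N11961 F21979) (tt N15978 D16009))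
theorem Q12960 : ∀ i, i < 12960 → P i := stepQ 12959 Q12959 (allL N12959 (tt N10178 F21980) (tt N10374 F21981) (tt N15978 (iv F28198)) (tt N10175 F21982) (tt N15979 D16010) (tt N10174 (iv D12973)))
theorem Q12961 : ∀ i, i < 12961 → P i := stepQ 12960 Q12960 (allL N12960 (tt N15978 (iv F28196)) (tt N10176 (iv D12974)) (tt N10178 F21983) (tt N15980 D16011) (tt N15981 D16012) (tt N10176 (iv F21984)))
theorem Q12962 : ∀ i, i < 12962 → P i := stepQ 12961 Q12961 (allL N12961 (tt N15948 (iv F28120)) (tt N15980 (iv F28207)) (tt N15947 (iv F28119)) (tt N10176 (iv D12975)) (tt N15982 D16013) (tt N15980 (iv F28209)))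
theorem Q12963 : ∀ i, i < 12963 → P i := stepQ 12962 Q12962 (allL N12962 (tt N11961 F21985) (tt N15981 (iv F28211)) (tt N10177 F21986) (tt N15983 D16014) (tt N10176 (iv D12976)) (tt N15984 D16015))
theorem Q12964 : ∀ i, i < 12964 → P i := stepQ 12963 Q12963 (allL N12963 (tt N11962 F21987) (tt N10181 F21988) (tt N15984 (iv F28220)) (tt N10370 F21989) (tt N15985 D16016) (tt N10177 (iv D12977)))
theorem Q12965 : ∀ i, i < 12965 → P i := stepQ 12964 Q12964 (allL N12964 (tt N15979 (iv F28201)) (tt N10180 F21990) (tt N15981 (iv F28212)) (tt N15986 D16017) (tt N10178 (iv D12978)) (tt N15985 (iv F28227)))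
theorem Q12966 : ∀ i, i < 12966 → P i := stepQ 12965 Q12965 (allL N12965 (tt N10571 F21991) (tt N10182 F21992) (tt N15987 D16018) (tt N10179 (iv D12979)) (tt N15986 (iv F28230)) (tt N10371 F21993))
theorem Q12967 : ∀ i, i < 12967 → P i := stepQ 12966 Q12966 (allL N12966 (tt N10380 F21994) (tt N15986 (iv F28229)) (tt N15988 D16019) (tt N10180 (iv D12980)) (tt N10182 F21995) (tt N11136 (iv F21996)))
theorem Q12968 : ∀ i, i < 12968 → P i := stepQ 12967 Q12967 (allL N12967 (tt N10381 F21997) (tt N15985 (iv F28224)) (tt N10181 F21998) (tt N11136 F21999) (tt N10181 F22000) (tt N10180 (iv D12981)))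
theorem Q12969 : ∀ i, i < 12969 → P i := stepQ 12968 Q12968 (allL N12968 (tt N10382 F22001) (tt N15989 D16020) (tt N10182 (iv D12982)) (tt N10372 F22002) (tt N15988 (iv F28236)) (tt N10372 F22003))
theorem Q12970 : ∀ i, i < 12970 → P i := stepQ 12969 Q12969 (allL N12969 (tt N15945 (iv F28111)) (tt N10183 (iv D12983)) (tt N10403 F22004) (tt N15990 D16021) (tt N12051 F22005) (tt N15943 F28109))
theorem Q12971 : ∀ i, i < 12971 → P i := stepQ 12970 Q12970 (allL N12970 (tt N10185 F22006) (tt N15990 (iv F28240)) (tt N15980 (iv F28208)) (tt N10183 (iv D12984)) (tt N15991 D16022) (tt N15947 (iv F28118)))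
theorem Q12972 : ∀ i, i < 12972 → P i := stepQ 12971 Q12971 (allL N12971 (tt N10186 F22007) (tt N10407 F22008) (tt N15992 D16023) (tt N10184 (iv D12985)) (tt N10310 F22009) (tt N10399 F22010))
theorem Q12973 : ∀ i, i < 12973 → P i := stepQ 12972 Q12972 (allL N12972 (tt N15980 (iv F28206)) (tt N15993 D16024) (tt N10185 (iv D12986)) (tt N15978 (iv F28199)) (tt N15994 D16025) (tt N15948 (iv F28121)))
theorem Q12974 : ∀ i, i < 12974 → P i := stepQ 12973 Q12973 (allL N12973 (tt N15991 (iv F28241)) (tt N15953 (iv F28127)) (tt N15994 (iv F28249)) (tt N12054 F22011) (tt N10185 (iv D12987)) (tt N15995 D16026))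
theorem Q12975 : ∀ i, i < 12975 → P i := stepQ 12974 Q12974 (allL N12974 (tt N15992 (iv F28243)) (tt N10487 F22012) (tt N10186 (iv D12988)) (tt N15996 D16027) (tt N10311 F22013) (tt N10400 F22014))
theorem Q12976 : ∀ i, i < 12976 → P i := stepQ 12975 Q12975 (allL N12975 (tt N10187 (iv D12989)) (tt N10192 F22015) (tt N15943 (iv F28107)) (tt N10458 (iv F22016)) (tt N15997 D16028) (tt N10403 (iv F22017)))
theorem Q12977 : ∀ i, i < 12977 → P i := stepQ 12976 Q12976 (allL N12976 (tt N10458 F22018) (tt N10188 F22019) (tt N10458 (iv F22020)) (tt N10187 (iv D12990)) (tt N15998 D16029) (tt N15963 (iv F28157)))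
theorem Q12978 : ∀ i, i < 12978 → P i := stepQ 12977 Q12977 (allL N12977 (tt N15997 (iv F28257)) (tt N10189 F22021) (tt N10295 F22022) (tt N15999 D16030) (tt N10187 (iv D12991)) (tt N11764 (iv F22023)))
theorem Q12979 : ∀ i, i < 12979 → P i := stepQ 12978 Q12978 (allL N12978 (tt N10403 F22024) (tt N10190 F22025) (tt N15945 (iv F28113)) (tt N15963 (iv F28156)) (tt N16000 D16031) (tt N10187 (iv D12992)))
theorem Q12980 : ∀ i, i < 12980 → P i := stepQ 12979 Q12979 (allL N12979 (tt N10196 F22026) (tt N15998 (iv F28262)) (tt N10456 F22027) (tt N16001 D16032) (tt N10188 (iv D12993)) (tt N16002 D16033))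
theorem Q12981 : ∀ i, i < 12981 → P i := stepQ 12980 Q12980 (allL N12980 (tt N10198 F22028) (tt N15999 (iv F28264)) (tt N11755 F22030) (tt N10189 (iv D12994)) (tt N16001 (iv F28271)) (tt N11765 F22029))
theorem Q12982 : ∀ i, i < 12982 → P i := stepQ 12981 Q12981 (allL N12981 (tt N10199 F22031) (tt N16000 (iv F28267)) (tt N10191 F22032) (tt N16003 D16034) (tt N10190 (iv D12995)) (tt N11738 F22033))
theorem Q12983 : ∀ i, i < 12983 → P i := stepQ 12982 Q12982 (allL N12982 (tt N10194 F22034) (tt N15997 (iv F28258)) (tt N10200 F22035) (tt N16004 D16035) (tt N10192 (iv D12996)) (tt N11775 (iv F22036)))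
theorem Q12984 : ∀ i, i < 12984 → P i := stepQ 12983 Q12983 (allL N12983 (tt N10459 F22037) (tt N10196 F22038) (tt N10448 F22039) (tt N16005 D16036) (tt N10193 (iv D12997)) (tt N16006 D16037))
theorem Q12985 : ∀ i, i < 12985 → P i := stepQ 12984 Q12984 (allL N12984 (tt N16004 (iv F28278)) (tt N10198 F22040) (tt N16007 D16038) (tt N10194 (iv D12998)) (tt N16005 (iv F28283)) (tt N11776 F22041))
theorem Q12986 : ∀ i, i < 12986 → P i := stepQ 12985 Q12985 (allL N12985 (tt N10445 F22042) (tt N10195 (iv D12999)) (tt N10445 F22043) (tt N10444 F22044) (tt N16008 D16039) (tt N15959 (iv F28144)))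
theorem Q12987 : ∀ i, i < 12987 → P i := stepQ 12986 Q12986 (allL N12986 (tt N10456 F22045) (tt N16008 (iv F28290)) (tt N10196 F22046) (tt N16009 D16040) (tt N10195 (iv D13000)) (tt N16010 D16041))
theorem Q12988 : ∀ i, i < 12988 → P i := stepQ 12987 Q12987 (allL N12987 (tt N16001 (iv F28270)) (tt N16005 (iv F28282)) (tt N16011 D16042) (tt N10196 (iv D13001)) (tt N10198 F22047) (tt N16012 D16043))
theorem Q12989 : ∀ i, i < 12989 → P i := stepQ 12988 Q12988 (allL N12988 (tt N16002 (iv F28273)) (tt N16006 (iv F28285)) (tt N16010 (iv F28298)) (tt N16012 (iv F28302)) (tt N16013 D16044) (tt N10196 (iv D13002)))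
theorem Q12990 : ∀ i, i < 12990 → P i := stepQ 12989 Q12989 (allL N12989 (tt N15964 (iv F28158)) (tt N10409 F22048) (tt N15961 (iv F28151)) (tt N16014 D16045) (tt N10197 (iv D13003)) (tt N16013 (iv F28305)))
theorem Q12991 : ∀ i, i < 12991 → P i := stepQ 12990 Q12990 (allL N12990 (tt N11755 F22049) (tt N16015 D16046) (tt N10198 (iv D13004)) (tt N11752 F22051) (tt N16011 (iv F28300)) (tt N11777 F22050))
theorem Q12992 : ∀ i, i < 12992 → P i := stepQ 12991 Q12991 (allL N12991 (tt N16003 (iv F28275)) (tt N10410 F22052) (tt N16016 D16047) (tt N10199 (iv D13005)) (tt N16014 (iv F28307)) (tt N11739 F22053))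
theorem Q12993 : ∀ i, i < 12993 → P i := stepQ 12992 Q12992 (allL N12992 (tt N10201 F22054) (tt N10310 F22055) (tt N16017 D16048) (tt N10200 (iv D13006)) (tt N10407 F22056) (tt N10274 F22057))
theorem Q12994 : ∀ i, i < 12994 → P i := stepQ 12993 Q12993 (allL N12993 (tt N16017 (iv F28313)) (tt N10263 F22058) (tt N10201 (iv D13007)) (tt N16018 D16049) (tt N10412 F22059) (tt N10272 F22060))
theorem Q12995 : ∀ i, i < 12995 → P i := stepQ 12994 Q12994 (allL N12994 (tt N10203 F22061) (tt N16019 D16050) (tt N10202 (iv D13008)) (tt N11777 F22062) (tt N15812 (iv F27875)) (tt N11752 F22063))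
theorem Q12996 : ∀ i, i < 12996 → P i := stepQ 12995 Q12995 (allL N12995 (tt N16020 D16051) (tt N10203 (iv D13009)) (tt N10217 F22064) (tt N16021 D16052) (tt N15561 (iv F27345)) (tt N11754 F22065))
theorem Q12997 : ∀ i, i < 12997 → P i := stepQ 12996 Q12996 (allL N12996 (tt N11777 F22066) (tt N16021 (iv F28323)) (tt N11765 F22067) (tt N10203 (iv D13010)) (tt N16022 D16053) (tt N11755 F22068))
theorem Q12998 : ∀ i, i < 12998 → P i := stepQ 12997 Q12997 (allL N12997 (tt N10205 F22069) (tt N13149 (iv F22347)) (tt N12037 F22071) (tt N10204 (iv D13011)) (tt N13143 (iv F22334)) (tt N12046 F22070))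
theorem Q12999 : ∀ i, i < 12999 → P i := stepQ 12998 Q12998 (allL N12998 (tt N12037 F22072) (tt N16023 D16054) (tt N10205 (iv D13012)) (tt N12032 F22074) (tt N13145 (iv F22337)) (tt N12048 F22073))
theorem Q13000 : ∀ i, i < 13000 → P i := stepQ 12999 Q12999 (allL N12999 (tt N16024 D16055) (tt N10206 (iv D13013)) (tt N16023 (iv F28327)) (tt N16025 D16056) (tt N13147 (iv F22341)) (tt N16026 D16057))
theorem Q13001 : ∀ i, i < 13001 → P i := stepQ 13000 Q13000 (allL N13000 (tt N10212 F22075) (tt N16025 (iv F28330)) (tt N10209 F22076) (tt N10206 (iv D13014)) (tt N13191 (iv F22420)) (tt N10208 F22077))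
theorem Q13002 : ∀ i, i < 13002 → P i := stepQ 13001 Q13001 (allL N13001 (tt N10211 F22078) (tt N16026 (iv F28333)) (tt N10207 F22079) (tt N10208 F22080) (tt N13190 (iv F22418)) (tt N10206 (iv D13015)))
theorem Q13003 : ∀ i, i < 13003 → P i := stepQ 13002 Q13002 (allL N13002 (tt N13159 (iv F22361)) (tt N12049 F22081) (tt N13190 (iv F22416)) (tt N13207 (iv F22441)) (tt N10207 (iv D13016)) (tt N13148 (iv F22345)))
theorem Q13004 : ∀ i, i < 13004 → P i := stepQ 13003 Q13003 (allL N13003 (tt N16027 D16058) (tt N10208 (iv D13017)) (tt N10516 F22082) (tt N16026 (iv F28335)) (tt N10210 F22083) (tt N16025 F28332))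
theorem Q13005 : ∀ i, i < 13005 → P i := stepQ 13004 Q13004 (allL N13004 (tt N10213 F22084) (tt N10519 F22085) (tt N13191 (iv F22422)) (tt N10347 F22086) (tt N10209 (iv D13018)) (tt N10213 F22087))
theorem Q13006 : ∀ i, i < 13006 → P i := stepQ 13005 Q13005 (allL N13005 (tt N10210 (iv D13019)) (tt N16027 (iv F28336)) (tt N10520 F22088) (tt N16028 D16059) (tt N16027 (iv F28338)) (tt N16029 D16060))
theorem Q13007 : ∀ i, i < 13007 → P i := stepQ 13006 Q13006 (allL N13006 (tt N16028 (iv F28339)) (tt N10211 F22089) (tt N16030 D16061) (tt N10210 (iv D13020)) (tt N16031 D16062) (tt N13158 (iv F22360)))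
theorem Q13008 : ∀ i, i < 13008 → P i := stepQ 13007 Q13007 (allL N13007 (tt N16029 (iv F28340)) (tt N10212 F22090) (tt N10522 F22091) (tt N13158 (iv F22358)) (tt N16032 D16063) (tt N10210 (iv D13021)))
theorem Q13009 : ∀ i, i < 13009 → P i := stepQ 13008 Q13008 (allL N13008 (tt N13190 (iv F22415)) (tt N16031 (iv F28344)) (tt N13159 (iv F22362)) (tt N13190 (iv F22417)) (tt N10211 (iv D13022)) (tt N13164 (iv F22375)))
theorem Q13010 : ∀ i, i < 13010 → P i := stepQ 13009 Q13009 (allL N13009 (tt N13191 (iv F22419)) (tt N16032 (iv F28346)) (tt N10213 F22092) (tt N13163 (iv F22370)) (tt N10212 (iv D13023)) (tt N13191 (iv F22421)))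
theorem Q13011 : ∀ i, i < 13011 → P i := stepQ 13010 Q13010 (allL N13010 (tt N15970 (iv F28170)) (tt N16033 D16064) (tt N10215 (iv D13024)) (tt N16034 D16065) (tt N15968 (iv F28166)) (tt N16035 D16066))
theorem Q13012 : ∀ i, i < 13012 → P i := stepQ 13011 Q13011 (allL N13011 (tt N15971 (iv F28175)) (tt N15805 (iv F27865)) (tt N16035 (iv F28353)) (tt N10216 F22093) (tt N16036 D16067) (tt N10215 (iv D13025)))
theorem Q13013 : ∀ i, i < 13013 → P i := stepQ 13012 Q13012 (allL N13012 (tt N10217 (iv D13026)) (tt N12782 F22094) (tt N16020 (iv F28321)) (tt N11756 F22095) (tt N15558 (iv F27340)) (tt N11756 F22096))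
theorem Q13014 : ∀ i, i < 13014 → P i := stepQ 13013 Q13013 (allL N13013 (tt N10219 F22097) (tt N16037 D16068) (tt N10218 (iv D13027)) (tt N12799 F22100) (tt N10337 F22098) (tt N10530 F22099))
theorem Q13015 : ∀ i, i < 13015 → P i := stepQ 13014 Q13014 (allL N13014 (tt N16038 D16069) (tt N10219 (iv D13028)) (tt N10220 F22101) (tt N16039 D16070) (tt N10339 F22102) (tt N10311 F22103))
theorem Q13016 : ∀ i, i < 13016 → P i := stepQ 13015 Q13015 (allL N13015 (tt N12799 F22104) (tt N16039 (iv F28362)) (tt N12789 F22106) (tt N10219 (iv D13029)) (tt N16040 D16071) (tt N10537 F22105))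
theorem Q13017 : ∀ i, i < 13017 → P i := stepQ 13016 Q13016 (allL N13016 (tt N10220 (iv D13030)) (tt N10274 F22107) (tt N16038 (iv F28359)) (tt N10287 F22108) (tt N10343 F22109) (tt N10310 F22110))
theorem Q13018 : ∀ i, i < 13018 → P i := stepQ 13017 Q13017 (allL N13017 (tt N10312 F22111) (tt N10223 F22112) (tt N10264 F22113) (tt N16041 D16072) (tt N10221 (iv D13031)) (tt N16042 D16073))
theorem Q13019 : ∀ i, i < 13019 → P i := stepQ 13018 Q13018 (allL N13018 (tt N10226 F22114) (tt N10366 F22115) (tt N12770 F22116) (tt N16043 D16074) (tt N10222 (iv D13032)) (tt N15102 (iv F26319)))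
theorem Q13020 : ∀ i, i < 13020 → P i := stepQ 13019 Q13019 (allL N13019 (tt N10227 F22117) (tt N16041 (iv F28368)) (tt N16044 D16075) (tt N10223 (iv D13033)) (tt N16043 (iv F28376)) (tt N16045 D16076))
theorem Q13021 : ∀ i, i < 13021 → P i := stepQ 13020 Q13020 (allL N13020 (tt N10228 F22118) (tt N16042 (iv F28371)) (tt N10224 F22119) (tt N16045 (iv F28382)) (tt N10326 F22120) (tt N10223 (iv D13034)))
theorem Q13022 : ∀ i, i < 13022 → P i := stepQ 13021 Q13021 (allL N13021 (tt N12770 F22121) (tt N10365 F22122) (tt N10226 F22123) (tt N16046 D16077) (tt N10225 (iv D13035)) (tt N13483 (iv F22953)))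
theorem Q13023 : ∀ i, i < 13023 → P i := stepQ 13022 Q13022 (allL N13022 (tt N16043 (iv F28374)) (tt N10315 F22124) (tt N16047 D16078) (tt N10226 (iv D13036)) (tt N10227 F22125) (tt N16048 D16079))
theorem Q13024 : ∀ i, i < 13024 → P i := stepQ 13023 Q13023 (allL N13023 (tt N15102 (iv F26317)) (tt N10316 F22126) (tt N13483 (iv F22952)) (tt N16048 (iv F28388)) (tt N10328 F22127) (tt N10226 (iv D13037)))
theorem Q13025 : ∀ i, i < 13025 → P i := stepQ 13024 Q13024 (allL N13024 (tt N16044 (iv F28377)) (tt N16049 D16080) (tt N10227 (iv D13038)) (tt N16050 D16081) (tt N16047 (iv F28386)) (tt N16051 D16082))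
theorem Q13026 : ∀ i, i < 13026 → P i := stepQ 13025 Q13025 (allL N13025 (tt N16045 (iv F28380)) (tt N10318 F22128) (tt N16051 (iv F28394)) (tt N10228 F22129) (tt N16052 D16083) (tt N10227 (iv D13039)))
theorem Q13027 : ∀ i, i < 13027 → P i := stepQ 13026 Q13026 (allL N13026 (tt N10264 F22130) (tt N10230 F22131) (tt N10312 F22132) (tt N16053 D16084) (tt N10229 (iv D13040)) (tt N16054 D16085))
theorem Q13028 : ∀ i, i < 13028 → P i := stepQ 13027 Q13027 (allL N13027 (tt N10233 F22133) (tt N16053 (iv F28399)) (tt N16055 D16086) (tt N10230 (iv D13041)) (tt N13046 (iv F22174)) (tt N16056 D16087))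
theorem Q13029 : ∀ i, i < 13029 → P i := stepQ 13028 Q13028 (allL N13028 (tt N10234 F22134) (tt N16054 (iv F28401)) (tt N10231 F22135) (tt N16056 (iv F28407)) (tt N10240 F22136) (tt N10230 (iv D13042)))
theorem Q13030 : ∀ i, i < 13030 → P i := stepQ 13029 Q13029 (allL N13029 (tt N13046 (iv F22173)) (tt N10268 F22137) (tt N16057 D16088) (tt N10232 (iv D13043)) (tt N10233 F22138) (tt N16058 D16089))
theorem Q13031 : ∀ i, i < 13031 → P i := stepQ 13030 Q13030 (allL N13030 (tt N13047 (iv F22175)) (tt N10269 F22139) (tt N13038 (iv F22155)) (tt N16058 (iv F28410)) (tt N10248 F22140) (tt N10232 (iv D13044)))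
theorem Q13032 : ∀ i, i < 13032 → P i := stepQ 13031 Q13031 (allL N13031 (tt N16055 (iv F28404)) (tt N16059 D16090) (tt N10233 (iv D13045)) (tt N16060 D16091) (tt N16057 (iv F28408)) (tt N16061 D16092))
theorem Q13033 : ∀ i, i < 13033 → P i := stepQ 13032 Q13032 (allL N13032 (tt N16056 (iv F28406)) (tt N10271 F22141) (tt N16061 (iv F28414)) (tt N10234 F22142) (tt N16062 D16093) (tt N10233 (iv D13046)))
theorem Q13034 : ∀ i, i < 13034 → P i := stepQ 13033 Q13033 (allL N13033 (tt N10237 F22143) (tt N10241 F22144) (tt N10319 F22145) (tt N16063 D16094) (tt N10235 (iv D13047)) (tt N16064 D16095))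
theorem Q13035 : ∀ i, i < 13035 → P i := stepQ 13034 Q13034 (allL N13034 (tt N10297 F22146) (tt N10238 F22147) (tt N12906 F22148) (tt N16065 D16096) (tt N10236 (iv D13048)) (tt N16066 D16097))
theorem Q13036 : ∀ i, i < 13036 → P i := stepQ 13035 Q13035 (allL N13035 (tt N16063 (iv F28417)) (tt N10239 F22149) (tt N16067 D16098) (tt N10237 (iv D13049)) (tt N16065 (iv F28426)) (tt N14600 (iv F25181)))
theorem Q13037 : ∀ i, i < 13037 → P i := stepQ 13036 Q13036 (allL N13036 (tt N16064 (iv F28420)) (tt N10240 F22150) (tt N10321 F22151) (tt N14600 (iv F25180)) (tt N16054 (iv F28403)) (tt N10237 (iv D13050)))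
theorem Q13038 : ∀ i, i < 13038 → P i := stepQ 13037 Q13037 (allL N13037 (tt N10247 F22152) (tt N16065 (iv F28425)) (tt N14603 (iv F25185)) (tt N10238 (iv D13051)) (tt N10239 F22153) (tt N16068 D16099))
theorem Q13039 : ∀ i, i < 13039 → P i := stepQ 13038 Q13038 (allL N13038 (tt N10248 F22154) (tt N16066 (iv F28428)) (tt N13030 F22155) (tt N16068 (iv F28431)) (tt N13047 (iv F22177)) (tt N10238 (iv D13052)))
theorem Q13040 : ∀ i, i < 13040 → P i := stepQ 13039 Q13039 (allL N13039 (tt N10243 F22156) (tt N16063 (iv F28418)) (tt N16069 D16100) (tt N10241 (iv D13053)) (tt N10298 F22157) (tt N16070 D16101))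
theorem Q13041 : ∀ i, i < 13041 → P i := stepQ 13040 Q13040 (allL N13040 (tt N10244 F22158) (tt N16064 (iv F28421)) (tt N10252 F22159) (tt N16070 (iv F28435)) (tt N10266 F22160) (tt N10241 (iv D13054)))
theorem Q13042 : ∀ i, i < 13042 → P i := stepQ 13041 Q13041 (allL N13041 (tt N10298 F22161) (tt N10247 F22162) (tt N16071 D16102) (tt N10242 (iv D13055)) (tt N10243 F22163) (tt N16072 D16103))
theorem Q13043 : ∀ i, i < 13043 → P i := stepQ 13042 Q13042 (allL N13042 (tt N10299 F22164) (tt N10248 F22165) (tt N10292 F22166) (tt N16072 (iv F28440)) (tt N10269 F22167) (tt N10242 (iv D13056)))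
theorem Q13044 : ∀ i, i < 13044 → P i := stepQ 13043 Q13043 (allL N13043 (tt N16069 (iv F28432)) (tt N16073 D16104) (tt N10243 (iv D13057)) (tt N16074 D16105) (tt N16071 (iv F28437)) (tt N16075 D16106))
theorem Q13045 : ∀ i, i < 13045 → P i := stepQ 13044 Q13044 (allL N13044 (tt N16070 (iv F28434)) (tt N10250 F22168) (tt N16075 (iv F28442)) (tt N10244 F22169) (tt N16076 D16107) (tt N10243 (iv D13058)))
theorem Q13046 : ∀ i, i < 13046 → P i := stepQ 13045 Q13045 (allL N13045 (tt N12922 F22170) (tt N10246 F22171) (tt N10288 F22172) (tt N16077 D16108) (tt N10245 (iv D13059)) (tt N16078 D16109))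
theorem Q13047 : ∀ i, i < 13047 → P i := stepQ 13046 Q13046 (allL N13046 (tt N13029 F22173) (tt N16077 (iv F28446)) (tt N16079 D16110) (tt N10246 (iv D13060)) (tt N13027 F22174) (tt N16080 D16111))
theorem Q13048 : ∀ i, i < 13048 → P i := stepQ 13047 Q13047 (allL N13047 (tt N13030 F22175) (tt N16078 (iv F28450)) (tt N10248 F22176) (tt N16080 (iv F28457)) (tt N13038 F22177) (tt N10246 (iv D13061)))
theorem Q13049 : ∀ i, i < 13049 → P i := stepQ 13048 Q13048 (allL N13048 (tt N14603 (iv F25184)) (tt N16081 D16112) (tt N10247 (iv D13062)) (tt N16082 D16113) (tt N10249 F22178) (tt N16083 D16114))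
theorem Q13050 : ∀ i, i < 13050 → P i := stepQ 13049 Q13049 (allL N13049 (tt N16068 (iv F28430)) (tt N16072 (iv F28439)) (tt N16083 (iv F28460)) (tt N10248 F22179) (tt N16084 D16115) (tt N10247 (iv D13063)))
theorem Q13051 : ∀ i, i < 13051 → P i := stepQ 13050 Q13050 (allL N13050 (tt N16085 D16116) (tt N10249 (iv D13064)) (tt N16073 (iv F28441)) (tt N14591 (iv F25164)) (tt N16081 (iv F28458)) (tt N14590 F25161))
theorem Q13052 : ∀ i, i < 13052 → P i := stepQ 13051 Q13051 (allL N13051 (tt N14601 (iv F25182)) (tt N16076 (iv F28443)) (tt N14592 (iv F25166)) (tt N16062 (iv F28416)) (tt N10250 (iv D13065)) (tt N16084 (iv F28461)))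
theorem Q13053 : ∀ i, i < 13053 → P i := stepQ 13052 Q13052 (allL N13052 (tt N10253 F22180) (tt N16086 D16117) (tt N10251 (iv D13066)) (tt N16087 D16118) (tt N10267 F22181) (tt N16088 D16119))
theorem Q13054 : ∀ i, i < 13054 → P i := stepQ 13053 Q13053 (allL N13053 (tt N10254 F22182) (tt N10338 F22183) (tt N16088 (iv F28466)) (tt N10252 F22184) (tt N10422 F22185) (tt N10251 (iv D13067)))
theorem Q13055 : ∀ i, i < 13055 → P i := stepQ 13054 Q13054 (allL N13054 (tt N16089 D16120) (tt N10253 (iv D13068)) (tt N10255 F22186) (tt N16090 D16121) (tt N10272 F22187) (tt N10364 (iv F22188)))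
theorem Q13056 : ∀ i, i < 13056 → P i := stepQ 13055 Q13055 (allL N13055 (tt N16087 (iv F28464)) (tt N16090 (iv F28471)) (tt N16091 D16122) (tt N10253 (iv D13069)) (tt N16092 D16123) (tt N16093 D16124))
theorem Q13057 : ∀ i, i < 13057 → P i := stepQ 13056 Q13056 (allL N13056 (tt N16088 (iv F28465)) (tt N10364 F22189) (tt N10254 F22190) (tt N16093 (iv F28475)) (tt N10420 F22191) (tt N10253 (iv D13070)))
theorem Q13058 : ∀ i, i < 13058 → P i := stepQ 13057 Q13057 (allL N13057 (tt N10255 (iv D13071)) (tt N10343 F22192) (tt N16089 (iv F28468)) (tt N10363 F22193) (tt N10274 F22194) (tt N10362 F22195))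
theorem Q13059 : ∀ i, i < 13059 → P i := stepQ 13058 Q13058 (allL N13058 (tt N10541 F22196) (tt N10257 F22197) (tt N10526 F22198) (tt N16094 D16125) (tt N10256 (iv D13072)) (tt N16095 D16126))
theorem Q13060 : ∀ i, i < 13060 → P i := stepQ 13059 Q13059 (allL N13059 (tt N10261 F22199) (tt N16094 (iv F28477)) (tt N16096 D16127) (tt N10257 (iv D13073)) (tt N11799 F22200) (tt N16097 D16128))
theorem Q13061 : ∀ i, i < 13061 → P i := stepQ 13060 Q13060 (allL N13060 (tt N10262 F22201) (tt N16095 (iv F28480)) (tt N10258 F22202) (tt N16097 (iv F28489)) (tt N10549 F22203) (tt N10257 (iv D13074)))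
theorem Q13062 : ∀ i, i < 13062 → P i := stepQ 13061 Q13061 (allL N13061 (tt N10263 F22204) (tt N16098 D16129) (tt N10259 (iv D13075)) (tt N10308 F22207) (tt N10566 F22205) (tt N10267 F22206))
theorem Q13063 : ∀ i, i < 13063 → P i := stepQ 13062 Q13062 (allL N13062 (tt N11799 F22208) (tt N10557 F22209) (tt N16099 D16130) (tt N10260 (iv D13076)) (tt N10261 F22210) (tt N16100 D16131))
theorem Q13064 : ∀ i, i < 13064 → P i := stepQ 13063 Q13063 (allL N13063 (tt N11800 F22211) (tt N10556 F22212) (tt N11795 F22213) (tt N16100 (iv F28498)) (tt N10551 F22214) (tt N10260 (iv D13077)))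
theorem Q13065 : ∀ i, i < 13065 → P i := stepQ 13064 Q13064 (allL N13064 (tt N16096 (iv F28483)) (tt N16101 D16132) (tt N10261 (iv D13078)) (tt N16102 D16133) (tt N16099 (iv F28495)) (tt N16103 D16134))
theorem Q13066 : ∀ i, i < 13066 → P i := stepQ 13065 Q13065 (allL N13065 (tt N16097 (iv F28487)) (tt N10562 F22215) (tt N16103 (iv F28504)) (tt N10262 F22216) (tt N16104 D16135) (tt N10261 (iv D13079)))
theorem Q13067 : ∀ i, i < 13067 → P i := stepQ 13066 Q13066 (allL N13066 (tt N10308 F22217) (tt N16018 (iv F28316)) (tt N10296 F22219) (tt N10263 (iv D13080)) (tt N16105 D16136) (tt N10273 F22218))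
theorem Q13068 : ∀ i, i < 13068 → P i := stepQ 13067 Q13067 (allL N13067 (tt N16053 (iv F28398)) (tt N10265 F22220) (tt N15932 F28086) (tt N10264 (iv D13081)) (tt N15932 (iv F28074)) (tt N16106 D16137))
theorem Q13069 : ∀ i, i < 13069 → P i := stepQ 13068 Q13068 (allL N13068 (tt N16054 (iv F28400)) (tt N10266 F22221) (tt N16042 (iv F28372)) (tt N16106 (iv F28512)) (tt N16064 (iv F28423)) (tt N10264 (iv D13082)))
theorem Q13070 : ∀ i, i < 13070 → P i := stepQ 13069 Q13069 (allL N13069 (tt N10270 F22222) (tt N15934 (iv F28087)) (tt N10265 (iv D13083)) (tt N16103 (iv F28505)) (tt N15934 (iv F28079)) (tt N16102 (iv F28502)))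
theorem Q13071 : ∀ i, i < 13071 → P i := stepQ 13070 Q13070 (allL N13070 (tt N10271 F22223) (tt N16106 (iv F28511)) (tt N16102 (iv F28501)) (tt N10266 F22224) (tt N16107 D16138) (tt N10265 (iv D13084)))
theorem Q13072 : ∀ i, i < 13072 → P i := stepQ 13071 Q13071 (allL N13071 (tt N16108 D16139) (tt N10267 (iv D13085)) (tt N16037 (iv F28355)) (tt N16109 D16140) (tt N16086 (iv F28463)) (tt N16098 (iv F28493)))
theorem Q13073 : ∀ i, i < 13073 → P i := stepQ 13072 Q13072 (allL N13072 (tt N10273 F22225) (tt N16109 (iv F28515)) (tt N10286 F22226) (tt N10267 (iv D13086)) (tt N16110 D16141) (tt N10308 F22227))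
theorem Q13074 : ∀ i, i < 13074 → P i := stepQ 13073 Q13073 (allL N13073 (tt N15934 (iv F28078)) (tt N16111 D16142) (tt N10268 (iv D13087)) (tt N16112 D16143) (tt N10270 F22228) (tt N16113 D16144))
theorem Q13075 : ∀ i, i < 13075 → P i := stepQ 13074 Q13074 (allL N13074 (tt N15935 (iv F28080)) (tt N16058 (iv F28409)) (tt N16113 (iv F28521)) (tt N10269 F22229) (tt N16114 D16145) (tt N10268 (iv D13088)))
theorem Q13076 : ∀ i, i < 13076 → P i := stepQ 13075 Q13075 (allL N13075 (tt N16111 (iv F28519)) (tt N10270 (iv D13089)) (tt N16059 (iv F28411)) (tt N16115 D16146) (tt N16111 (iv F28520)) (tt N16116 D16147))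
theorem Q13077 : ∀ i, i < 13077 → P i := stepQ 13076 Q13076 (allL N13076 (tt N16103 (iv F28503)) (tt N16115 (iv F28523)) (tt N16097 (iv F28488)) (tt N10270 (iv D13090)) (tt N16117 D16148) (tt N16096 F28486))
theorem Q13078 : ∀ i, i < 13078 → P i := stepQ 13077 Q13077 (allL N13077 (tt N16102 (iv F28500)) (tt N16116 (iv F28524)) (tt N10271 F22230) (tt N16096 (iv F28485)) (tt N16118 D16149) (tt N10270 (iv D13091)))
theorem Q13079 : ∀ i, i < 13079 → P i := stepQ 13078 Q13078 (allL N13078 (tt N16107 (iv F28513)) (tt N16062 (iv F28415)) (tt N16118 (iv F28525)) (tt N16076 (iv F28444)) (tt N10271 (iv D13092)) (tt N16114 (iv F28522)))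
theorem Q13080 : ∀ i, i < 13080 → P i := stepQ 13079 Q13079 (allL N13079 (tt N10272 (iv D13093)) (tt N16108 (iv F28514)) (tt N10274 F22231) (tt N16119 D16150) (tt N16089 (iv F28469)) (tt N16017 (iv F28315)))
theorem Q13081 : ∀ i, i < 13081 → P i := stepQ 13080 Q13080 (allL N13080 (tt N16119 (iv F28526)) (tt N10273 F22232) (tt N16120 D16151) (tt N10272 (iv D13094)) (tt N16121 D16152) (tt N16018 (iv F28317)))
theorem Q13082 : ∀ i, i < 13082 → P i := stepQ 13081 Q13081 (allL N13081 (tt N10286 F22233) (tt N16122 D16153) (tt N10273 (iv D13095)) (tt N10279 F22234) (tt N16123 D16154) (tt N10296 F22235))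
theorem Q13083 : ∀ i, i < 13083 → P i := stepQ 13082 Q13082 (allL N13082 (tt N16110 (iv F28517)) (tt N16121 (iv F28527)) (tt N16123 (iv F28531)) (tt N16092 (iv F28473)) (tt N10273 (iv D13096)) (tt N16124 D16155))
theorem Q13084 : ∀ i, i < 13084 → P i := stepQ 13083 Q13083 (allL N13083 (tt N11787 F22236) (tt N10277 F22237) (tt N16125 D16156) (tt N10275 (iv D13097)) (tt N11920 F22238) (tt N16126 D16157))
theorem Q13085 : ∀ i, i < 13085 → P i := stepQ 13084 Q13084 (allL N13084 (tt N11786 F22239) (tt N10278 F22240) (tt N11759 F22241) (tt N16126 (iv F28537)) (tt N11781 F22242) (tt N10275 (iv D13098)))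
theorem Q13086 : ∀ i, i < 13086 → P i := stepQ 13085 Q13085 (allL N13085 (tt N10281 F22243) (tt N11920 F22244) (tt N16127 D16158) (tt N10276 (iv D13099)) (tt N10277 F22245) (tt N16128 D16159))
theorem Q13087 : ∀ i, i < 13087 → P i := stepQ 13086 Q13086 (allL N13086 (tt N10282 F22246) (tt N11921 F22247) (tt N10551 F22248) (tt N16128 (iv F28542)) (tt N11795 F22249) (tt N10276 (iv D13100)))
theorem Q13088 : ∀ i, i < 13088 → P i := stepQ 13087 Q13087 (allL N13087 (tt N10283 F22250) (tt N16129 D16160) (tt N10277 (iv D13101)) (tt N10304 F22251) (tt N16127 (iv F28539)) (tt N10303 (iv F22252)))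
theorem Q13089 : ∀ i, i < 13089 → P i := stepQ 13088 Q13088 (allL N13088 (tt N10284 F22253) (tt N16126 (iv F28536)) (tt N10303 F22254) (tt N10278 F22255) (tt N16130 D16161) (tt N10277 (iv D13102)))
theorem Q13090 : ∀ i, i < 13090 → P i := stepQ 13089 Q13089 (allL N13089 (tt N16131 D16162) (tt N10279 (iv D13103)) (tt N11764 F22256) (tt N16122 (iv F28528)) (tt N11825 F22257) (tt N10295 F22258))
theorem Q13091 : ∀ i, i < 13091 → P i := stepQ 13090 Q13090 (allL N13090 (tt N10550 F22259) (tt N11910 F22260) (tt N16132 D16163) (tt N10280 (iv D13104)) (tt N10548 F22261) (tt N16133 D16164))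
theorem Q13092 : ∀ i, i < 13092 → P i := stepQ 13091 Q13091 (allL N13091 (tt N10551 F22262) (tt N11911 F22263) (tt N10282 F22264) (tt N16133 (iv F28556)) (tt N11800 F22265) (tt N10280 (iv D13105)))
theorem Q13093 : ∀ i, i < 13093 → P i := stepQ 13092 Q13092 (allL N13092 (tt N16127 (iv F28538)) (tt N16134 D16165) (tt N10281 (iv D13106)) (tt N16135 D16166) (tt N10283 F22266) (tt N16136 D16167))
theorem Q13094 : ∀ i, i < 13094 → P i := stepQ 13093 Q13093 (allL N13093 (tt N16128 (iv F28540)) (tt N11812 F22267) (tt N16136 (iv F28559)) (tt N10282 F22268) (tt N16137 D16168) (tt N10281 (iv D13107)))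
theorem Q13095 : ∀ i, i < 13095 → P i := stepQ 13094 Q13094 (allL N13094 (tt N16138 D16169) (tt N10283 (iv D13108)) (tt N11821 F22269) (tt N16139 D16170) (tt N16134 (iv F28558)) (tt N16140 D16171))
theorem Q13096 : ∀ i, i < 13096 → P i := stepQ 13095 Q13095 (allL N13095 (tt N10304 F22270) (tt N16139 (iv F28564)) (tt N10294 F22271) (tt N10283 (iv D13109)) (tt N16141 D16172) (tt N10293 F22272))
theorem Q13097 : ∀ i, i < 13097 → P i := stepQ 13096 Q13096 (allL N13096 (tt N10303 F22273) (tt N16140 (iv F28566)) (tt N10284 F22274) (tt N10293 F22275) (tt N16142 D16173) (tt N10283 (iv D13110)))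
theorem Q13098 : ∀ i, i < 13098 → P i := stepQ 13097 Q13097 (allL N13097 (tt N16130 (iv F28545)) (tt N11819 F22276) (tt N16142 (iv F28572)) (tt N11806 F22277) (tt N10284 (iv D13111)) (tt N16137 (iv F28562)))
theorem Q13099 : ∀ i, i < 13099 → P i := stepQ 13098 Q13098 (allL N13098 (tt N10285 (iv D13112)) (tt N16131 (iv F28548)) (tt N10287 F22278) (tt N16143 D16174) (tt N11828 F22279) (tt N10306 F22280))
theorem Q13100 : ∀ i, i < 13100 → P i := stepQ 13099 Q13099 (allL N13099 (tt N16143 (iv F28573)) (tt N10286 F22281) (tt N16144 D16175) (tt N10285 (iv D13113)) (tt N16145 D16176) (tt N10307 F22282))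
theorem Q13101 : ∀ i, i < 13101 → P i := stepQ 13100 Q13100 (allL N13100 (tt N16123 (iv F28530)) (tt N16145 (iv F28576)) (tt N16110 (iv F28518)) (tt N11831 F22283) (tt N10286 (iv D13114)) (tt N16146 D16177))
theorem Q13102 : ∀ i, i < 13102 → P i := stepQ 13101 Q13101 (allL N13101 (tt N12925 F22284) (tt N10291 F22285) (tt N16147 D16178) (tt N10288 (iv D13115)) (tt N10289 F22286) (tt N16148 D16179))
theorem Q13103 : ∀ i, i < 13103 → P i := stepQ 13102 Q13102 (allL N13102 (tt N12926 F22287) (tt N10292 F22288) (tt N16078 (iv F28451)) (tt N16148 (iv F28592)) (tt N15913 (iv F28029)) (tt N10288 (iv D13116)))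
theorem Q13104 : ∀ i, i < 13104 → P i := stepQ 13103 Q13103 (allL N13103 (tt N15914 (iv F28030)) (tt N16149 D16180) (tt N10289 (iv D13117)) (tt N16150 D16181) (tt N16147 (iv F28581)) (tt N16151 D16182))
theorem Q13105 : ∀ i, i < 13105 → P i := stepQ 13104 Q13104 (allL N13104 (tt N10431 F22289) (tt N10294 F22290) (tt N16151 (iv F28600)) (tt N10290 F22291) (tt N16152 D16183) (tt N10289 (iv D13118)))
theorem Q13106 : ∀ i, i < 13106 → P i := stepQ 13105 Q13105 (allL N13105 (tt N10300 F22292) (tt N13401 F28585) (tt N10291 (iv D13119)) (tt N13400 (iv F28586)) (tt N10293 F22293) (tt N16153 D16184))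
theorem Q13107 : ∀ i, i < 13107 → P i := stepQ 13106 Q13106 (allL N13106 (tt N10301 F22294) (tt N16148 (iv F28590)) (tt N16153 (iv F28609)) (tt N10292 F22295) (tt N16154 D16185) (tt N10291 (iv D13120)))
theorem Q13108 : ∀ i, i < 13108 → P i := stepQ 13107 Q13107 (allL N13107 (tt N16155 D16186) (tt N10293 (iv D13121)) (tt N16149 (iv F28593)) (tt N16140 (iv F28568)) (tt N13401 (iv F28587)) (tt N16139 F28565))
theorem Q13109 : ∀ i, i < 13109 → P i := stepQ 13108 Q13108 (allL N13108 (tt N10305 F22296) (tt N16152 (iv F28604)) (tt N16141 (iv F28570)) (tt N15921 (iv F28050)) (tt N10294 (iv D13122)) (tt N16154 (iv F28611)))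
theorem Q13110 : ∀ i, i < 13110 → P i := stepQ 13109 Q13109 (allL N13109 (tt N10295 (iv D13123)) (tt N10306 F22297) (tt N15997 (iv F28259)) (tt N16156 D16187) (tt N15943 (iv F28108)) (tt N16131 (iv F28551)))
theorem Q13111 : ∀ i, i < 13111 → P i := stepQ 13110 Q13110 (allL N13110 (tt N16156 (iv F28615)) (tt N10296 F22298) (tt N16157 D16188) (tt N10295 (iv D13124)) (tt N16158 D16189) (tt N16122 (iv F28529)))
theorem Q13112 : ∀ i, i < 13112 → P i := stepQ 13111 Q13111 (allL N13111 (tt N10309 F22299) (tt N16158 (iv F28617)) (tt N16105 (iv F28509)) (tt N15946 (iv F28116)) (tt N10296 (iv D13125)) (tt N16159 D16190))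
theorem Q13113 : ∀ i, i < 13113 → P i := stepQ 13112 Q13112 (allL N13112 (tt N16065 (iv F28424)) (tt N10298 F22300) (tt N16160 D16191) (tt N10297 (iv D13126)) (tt N16063 (iv F28419)) (tt N16161 D16192))
theorem Q13114 : ∀ i, i < 13114 → P i := stepQ 13113 Q13113 (allL N13113 (tt N16066 (iv F28427)) (tt N10299 F22301) (tt N12907 F22302) (tt N16161 (iv F28620)) (tt N15933 (iv F28077)) (tt N10297 (iv D13127)))
theorem Q13115 : ∀ i, i < 13115 → P i := stepQ 13114 Q13114 (allL N13114 (tt N16071 (iv F28436)) (tt N16162 D16193) (tt N10298 (iv D13128)) (tt N16163 D16194) (tt N16069 (iv F28433)) (tt N16164 D16195))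
theorem Q13116 : ∀ i, i < 13116 → P i := stepQ 13115 Q13115 (allL N13115 (tt N16072 (iv F28438)) (tt N16161 (iv F28619)) (tt N16164 (iv F28621)) (tt N10299 F22303) (tt N16165 D16196) (tt N10298 (iv D13129)))
theorem Q13117 : ∀ i, i < 13117 → P i := stepQ 13116 Q13116 (allL N13116 (tt N16166 D16197) (tt N10300 (iv D13130)) (tt N15940 (iv F28099)) (tt N16167 D16198) (tt N10302 F22304) (tt N16168 D16199))
theorem Q13118 : ∀ i, i < 13118 → P i := stepQ 13117 Q13117 (allL N13117 (tt N13400 F28588) (tt N16167 (iv F28625)) (tt N16169 D16200) (tt N10300 (iv D13131)) (tt N16170 D16201) (tt N16171 D16202))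
theorem Q13119 : ∀ i, i < 13119 → P i := stepQ 13118 Q13118 (allL N13118 (tt N16153 (iv F28607)) (tt N16168 (iv F28627)) (tt N10301 F22305) (tt N16171 (iv F28629)) (tt N16172 D16203) (tt N10300 (iv D13132)))
theorem Q13120 : ∀ i, i < 13120 → P i := stepQ 13119 Q13119 (allL N13119 (tt N16154 (iv F28610)) (tt N15930 (iv F28067)) (tt N16172 (iv F28630)) (tt N15928 (iv F28062)) (tt N10301 (iv D13133)) (tt N10305 F22306))
theorem Q13121 : ∀ i, i < 13121 → P i := stepQ 13120 Q13120 (allL N13120 (tt N10302 (iv D13134)) (tt N16155 (iv F28612)) (tt N15942 (iv F28105)) (tt N16173 D16204) (tt N16166 (iv F28623)) (tt N16174 D16205))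
theorem Q13122 : ∀ i, i < 13122 → P i := stepQ 13121 Q13121 (allL N13121 (tt N16173 (iv F28632)) (tt N10303 F22307) (tt N16175 D16206) (tt N10302 (iv D13135)) (tt N16176 D16207) (tt N16129 (iv F28544)))
theorem Q13123 : ∀ i, i < 13123 → P i := stepQ 13122 Q13122 (allL N13122 (tt N16174 (iv F28633)) (tt N10304 F22308) (tt N15931 (iv F28070)) (tt N16129 (iv F28543)) (tt N16177 D16208) (tt N10302 (iv D13136)))
theorem Q13124 : ∀ i, i < 13124 → P i := stepQ 13123 Q13123 (allL N13123 (tt N16142 (iv F28571)) (tt N16176 (iv F28634)) (tt N16130 (iv F28546)) (tt N16170 (iv F28628)) (tt N10303 (iv D13137)) (tt N16178 D16209))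
theorem Q13125 : ∀ i, i < 13125 → P i := stepQ 13124 Q13124 (allL N13124 (tt N16141 (iv F28569)) (tt N16177 (iv F28635)) (tt N10305 F22309) (tt N16179 D16210) (tt N10304 (iv D13138)) (tt N16172 (iv F28631)))
theorem Q13126 : ∀ i, i < 13126 → P i := stepQ 13125 Q13125 (allL N13125 (tt N10307 F22310) (tt N16156 (iv F28616)) (tt N16180 D16211) (tt N10306 (iv D13139)) (tt N16181 D16212) (tt N16143 (iv F28574)))
theorem Q13127 : ∀ i, i < 13127 → P i := stepQ 13126 Q13126 (allL N13126 (tt N16180 (iv F28636)) (tt N16182 D16213) (tt N10307 (iv D13140)) (tt N16183 D16214) (tt N16184 D16215) (tt N16144 (iv F28575)))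
theorem Q13128 : ∀ i, i < 13128 → P i := stepQ 13127 Q13127 (allL N13127 (tt N16181 (iv F28637)) (tt N10309 F22311) (tt N16184 (iv F28639)) (tt N15949 (iv F28124)) (tt N10307 (iv D13141)) (tt N16185 D16216))
theorem Q13129 : ∀ i, i < 13129 → P i := stepQ 13128 Q13128 (allL N13128 (tt N16186 D16217) (tt N10308 (iv D13142)) (tt N16182 (iv F28638)) (tt N16098 (iv F28491)) (tt N16187 D16218) (tt N16109 (iv F28516)))
theorem Q13130 : ∀ i, i < 13130 → P i := stepQ 13129 Q13129 (allL N13129 (tt N16105 (iv F28508)) (tt N16187 (iv F28641)) (tt N10309 F22312) (tt N16188 D16219) (tt N10308 (iv D13143)) (tt N16189 D16220))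
theorem Q13131 : ∀ i, i < 13131 → P i := stepQ 13130 Q13130 (allL N13130 (tt N16159 (iv F28618)) (tt N16185 (iv F28640)) (tt N16189 (iv F28644)) (tt N15952 (iv F28126)) (tt N16146 (iv F28579)) (tt N10309 (iv D13144)))
theorem Q13132 : ∀ i, i < 13132 → P i := stepQ 13131 Q13131 (allL N13131 (tt N10311 F22313) (tt N16190 D16221) (tt N10310 (iv D13145)) (tt N16191 D16222) (tt N15992 (iv F28244)) (tt N16038 (iv F28361)))
theorem Q13133 : ∀ i, i < 13133 → P i := stepQ 13132 Q13132 (allL N13132 (tt N16191 (iv F28646)) (tt N10537 F22314) (tt N16192 D16223) (tt N10311 (iv D13146)) (tt N16193 D16224) (tt N16039 (iv F28363)))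
theorem Q13134 : ∀ i, i < 13134 → P i := stepQ 13133 Q13133 (allL N13133 (tt N16041 (iv F28367)) (tt N10313 F22315) (tt N15937 (iv F28089)) (tt N10312 (iv D13147)) (tt N10367 F22316) (tt N15936 F28085))
theorem Q13135 : ∀ i, i < 13135 → P i := stepQ 13134 Q13134 (allL N13134 (tt N16042 (iv F28370)) (tt N10314 F22317) (tt N16054 (iv F28402)) (tt N15936 F28084) (tt N10321 F22318) (tt N10312 (iv D13148)))
theorem Q13136 : ∀ i, i < 13136 → P i := stepQ 13135 Q13135 (allL N13135 (tt N10317 F22319) (tt N15938 (iv F28092)) (tt N10313 (iv D13149)) (tt N13206 (iv F22440)) (tt N10368 F22320) (tt N13205 (iv F22437)))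
theorem Q13137 : ∀ i, i < 13137 → P i := stepQ 13136 Q13136 (allL N13136 (tt N10318 F22321) (tt N15936 (iv F28082)) (tt N13205 (iv F22436)) (tt N10314 F22322) (tt N16194 D16225) (tt N10313 (iv D13150)))
theorem Q13138 : ∀ i, i < 13138 → P i := stepQ 13137 Q13137 (allL N13137 (tt N10368 F22323) (tt N16195 D16226) (tt N10315 (iv D13151)) (tt N13141 (iv F22330)) (tt N10317 F22324) (tt N13140 (iv F22328)))
theorem Q13139 : ∀ i, i < 13139 → P i := stepQ 13138 Q13138 (allL N13138 (tt N10369 F22325) (tt N16048 (iv F28387)) (tt N13140 (iv F22327)) (tt N10316 F22326) (tt N16196 D16227) (tt N10315 (iv D13152)))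
theorem Q13140 : ∀ i, i < 13140 → P i := stepQ 13139 Q13139 (allL N13139 (tt N16197 D16228) (tt N10317 (iv D13153)) (tt N16049 (iv F28389)) (tt N16198 D16229) (tt N16195 (iv F28653)) (tt N16199 D16230))
theorem Q13141 : ∀ i, i < 13141 → P i := stepQ 13140 Q13140 (allL N13140 (tt N13206 (iv F22438)) (tt N16198 (iv F28660)) (tt N13138 F22327) (tt N10317 (iv D13154)) (tt N16200 D16231) (tt N13137 F22328))
theorem Q13142 : ∀ i, i < 13142 → P i := stepQ 13141 Q13141 (allL N13141 (tt N13205 (iv F22435)) (tt N16199 (iv F28663)) (tt N10318 F22329) (tt N13137 F22330) (tt N16201 D16232) (tt N10317 (iv D13155)))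
theorem Q13143 : ∀ i, i < 13143 → P i := stepQ 13142 Q13142 (allL N13142 (tt N16194 (iv F28648)) (tt N16052 (iv F28396)) (tt N16201 (iv F28671)) (tt N10336 F22331) (tt N10318 (iv D13156)) (tt N16196 (iv F28656)))
theorem Q13144 : ∀ i, i < 13144 → P i := stepQ 13143 Q13143 (allL N13143 (tt N10320 F22332) (tt N10325 F22333) (tt N15095 (iv F26303)) (tt N10319 (iv D13157)) (tt N12997 F22334) (tt N16202 D16233))
theorem Q13145 : ∀ i, i < 13145 → P i := stepQ 13144 Q13144 (allL N13144 (tt N10321 F22335) (tt N10326 F22336) (tt N16064 (iv F28422)) (tt N16202 (iv F28676)) (tt N16042 (iv F28373)) (tt N10319 (iv D13158)))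
theorem Q13146 : ∀ i, i < 13146 → P i := stepQ 13145 Q13145 (allL N13145 (tt N15095 (iv F26302)) (tt N16203 D16234) (tt N10320 (iv D13159)) (tt N16204 D16235) (tt N12998 F22337) (tt N16205 D16236))
theorem Q13147 : ∀ i, i < 13147 → P i := stepQ 13146 Q13146 (allL N13146 (tt N16202 (iv F28674)) (tt N10323 F22338) (tt N16205 (iv F28682)) (tt N10321 F22339) (tt N15105 (iv F26323)) (tt N10320 (iv D13160)))
theorem Q13148 : ∀ i, i < 13148 → P i := stepQ 13147 Q13147 (allL N13147 (tt N16206 D16237) (tt N10322 (iv D13161)) (tt N16203 (iv F28678)) (tt N10354 F22340) (tt N12999 F22341) (tt N10353 F22342))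
theorem Q13149 : ∀ i, i < 13149 → P i := stepQ 13148 Q13148 (allL N13148 (tt N10336 F22343) (tt N15105 (iv F26322)) (tt N10355 F22344) (tt N16194 (iv F28651)) (tt N10323 (iv D13162)) (tt N13002 F22345))
theorem Q13150 : ∀ i, i < 13150 → P i := stepQ 13149 Q13149 (allL N13149 (tt N10327 F22346) (tt N12997 F22347) (tt N16207 D16238) (tt N10324 (iv D13163)) (tt N10325 F22348) (tt N15101 (iv F26316)))
theorem Q13151 : ∀ i, i < 13151 → P i := stepQ 13150 Q13150 (allL N13150 (tt N10329 F22349) (tt N16208 D16239) (tt N10325 (iv D13164)) (tt N16209 D16240) (tt N16207 (iv F28688)) (tt N16210 D16241))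
theorem Q13152 : ∀ i, i < 13152 → P i := stepQ 13151 Q13151 (allL N13151 (tt N10330 F22350) (tt N16202 (iv F28675)) (tt N16210 (iv F28693)) (tt N10326 F22351) (tt N16211 D16242) (tt N10325 (iv D13165)))
theorem Q13153 : ∀ i, i < 13153 → P i := stepQ 13152 Q13152 (allL N13152 (tt N16207 (iv F28687)) (tt N16212 D16243) (tt N10327 (iv D13166)) (tt N16213 D16244) (tt N10329 F22352) (tt N16214 D16245))
theorem Q13154 : ∀ i, i < 13154 → P i := stepQ 13153 Q13153 (allL N13153 (tt N15101 (iv F26314)) (tt N10332 F22353) (tt N16214 (iv F28702)) (tt N10328 F22354) (tt N16215 D16246) (tt N10327 (iv D13167)))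
theorem Q13155 : ∀ i, i < 13155 → P i := stepQ 13154 Q13154 (allL N13154 (tt N16216 D16247) (tt N10329 (iv D13168)) (tt N10333 F22355) (tt N16217 D16248) (tt N16212 (iv F28699)) (tt N16218 D16249))
theorem Q13156 : ∀ i, i < 13156 → P i := stepQ 13155 Q13155 (allL N13155 (tt N16209 (iv F28689)) (tt N16217 (iv F28706)) (tt N16219 D16250) (tt N10329 (iv D13169)) (tt N16220 D16251) (tt N16221 D16252))
theorem Q13157 : ∀ i, i < 13157 → P i := stepQ 13156 Q13156 (allL N13156 (tt N16210 (iv F28692)) (tt N16218 (iv F28707)) (tt N10330 F22356) (tt N16221 (iv F28714)) (tt N16222 D16253) (tt N10329 (iv D13170)))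
theorem Q13158 : ∀ i, i < 13158 → P i := stepQ 13157 Q13157 (allL N13157 (tt N16211 (iv F28695)) (tt N10336 F22357) (tt N16222 (iv F28715)) (tt N16052 (iv F28397)) (tt N10330 (iv D13171)) (tt N16215 (iv F28704)))
theorem Q13159 : ∀ i, i < 13159 → P i := stepQ 13158 Q13158 (allL N13158 (tt N16223 D16254) (tt N10331 (iv D13172)) (tt N16212 (iv F28698)) (tt N13007 F22358) (tt N10333 F22359) (tt N13006 F22360))
theorem Q13160 : ∀ i, i < 13160 → P i := stepQ 13159 Q13159 (allL N13159 (tt N13002 F22361) (tt N16215 (iv F28703)) (tt N13008 F22362) (tt N16196 (iv F28655)) (tt N10332 (iv D13173)) (tt N10336 F22363))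
theorem Q13161 : ∀ i, i < 13161 → P i := stepQ 13160 Q13160 (allL N13160 (tt N10333 (iv D13174)) (tt N16206 (iv F28683)) (tt N16216 (iv F28705)) (tt N16224 D16255) (tt N16223 (iv F28718)) (tt N16225 D16256))
theorem Q13162 : ∀ i, i < 13162 → P i := stepQ 13161 Q13161 (allL N13161 (tt N16224 (iv F28720)) (tt N10334 F22364) (tt N16226 D16257) (tt N10333 (iv D13175)) (tt N16227 D16258) (tt N10346 (iv F22365)))
theorem Q13163 : ∀ i, i < 13163 → P i := stepQ 13162 Q13162 (allL N13162 (tt N16225 (iv F28723)) (tt N10335 F22366) (tt N16218 (iv F28708)) (tt N10346 F22367) (tt N16228 D16259) (tt N10333 (iv D13176)))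
theorem Q13164 : ∀ i, i < 13164 → P i := stepQ 13163 Q13163 (allL N13163 (tt N10356 F22368) (tt N16227 (iv F28729)) (tt N10347 F22369) (tt N13009 F22370) (tt N10334 (iv D13177)) (tt N10356 F22371))
theorem Q13165 : ∀ i, i < 13165 → P i := stepQ 13164 Q13164 (allL N13164 (tt N10355 F22372) (tt N16228 (iv F28732)) (tt N10336 F22373) (tt N10355 F22374) (tt N10335 (iv D13178)) (tt N13008 F22375))
theorem Q13166 : ∀ i, i < 13166 → P i := stepQ 13165 Q13165 (allL N13165 (tt N16229 D16260) (tt N10337 (iv D13179)) (tt N16086 (iv F28462)) (tt N16230 D16261) (tt N16037 (iv F28357)) (tt N16231 D16262))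
theorem Q13167 : ∀ i, i < 13167 → P i := stepQ 13166 Q13166 (allL N13166 (tt N10340 F22376) (tt N16230 (iv F28737)) (tt N16221 (iv F28713)) (tt N10337 (iv D13180)) (tt N16232 D16263) (tt N16219 F28711))
theorem Q13168 : ∀ i, i < 13168 → P i := stepQ 13167 Q13167 (allL N13167 (tt N10341 F22377) (tt N16231 (iv F28739)) (tt N10338 F22378) (tt N16219 (iv F28710)) (tt N16233 D16264) (tt N10337 (iv D13181)))
theorem Q13169 : ∀ i, i < 13169 → P i := stepQ 13168 Q13168 (allL N13168 (tt N10342 F22379) (tt N10422 F22380) (tt N16233 (iv F28743)) (tt N10470 F22381) (tt N10338 (iv D13182)) (tt N10486 F22382))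
theorem Q13170 : ∀ i, i < 13170 → P i := stepQ 13169 Q13169 (allL N13169 (tt N10339 (iv D13183)) (tt N16229 (iv F28735)) (tt N10343 F22383) (tt N14616 (iv F25226)) (tt N16038 (iv F28360)) (tt N10488 F22384))
theorem Q13171 : ∀ i, i < 13171 → P i := stepQ 13170 Q13170 (allL N13170 (tt N14616 (iv F25225)) (tt N10340 F22385) (tt N14611 (iv F25213)) (tt N10339 (iv D13184)) (tt N16234 D16265) (tt N10489 F22386))
theorem Q13172 : ∀ i, i < 13172 → P i := stepQ 13171 Q13171 (allL N13171 (tt N16221 (iv F28712)) (tt N16235 D16266) (tt N10340 (iv D13185)) (tt N16210 (iv F28694)) (tt N16236 D16267) (tt N16209 F28691))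
theorem Q13173 : ∀ i, i < 13173 → P i := stepQ 13172 Q13172 (allL N13172 (tt N16232 (iv F28740)) (tt N16234 (iv F28745)) (tt N16236 (iv F28746)) (tt N16040 (iv F28366)) (tt N10340 (iv D13186)) (tt N16237 D16268))
theorem Q13174 : ∀ i, i < 13174 → P i := stepQ 13173 Q13173 (allL N13173 (tt N16219 (iv F28709)) (tt N10489 F22387) (tt N16209 (iv F28690)) (tt N10341 F22388) (tt N16238 D16269) (tt N10340 (iv D13187)))
theorem Q13175 : ∀ i, i < 13175 → P i := stepQ 13174 Q13174 (allL N13174 (tt N16233 (iv F28742)) (tt N10400 F22389) (tt N10342 F22390) (tt N16239 D16270) (tt N10341 (iv D13188)) (tt N10487 F22391))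
theorem Q13176 : ∀ i, i < 13176 → P i := stepQ 13175 Q13175 (allL N13175 (tt N16240 D16271) (tt N10344 (iv D13189)) (tt N10346 F22392) (tt N16241 D16272) (tt N10348 F22393) (tt N16226 (iv F28727)))
theorem Q13177 : ∀ i, i < 13177 → P i := stepQ 13176 Q13176 (allL N13176 (tt N11362 F22394) (tt N16241 (iv F28753)) (tt N11370 F22395) (tt N10344 (iv D13190)) (tt N16242 D16273) (tt N11368 (iv F22396)))
theorem Q13178 : ∀ i, i < 13178 → P i := stepQ 13177 Q13177 (allL N13177 (tt N11363 F22397) (tt N16226 (iv F28726)) (tt N10345 F22398) (tt N11368 F22399) (tt N16243 D16274) (tt N10344 (iv D13191)))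
theorem Q13179 : ∀ i, i < 13179 → P i := stepQ 13178 Q13178 (allL N13178 (tt N11364 F22400) (tt N10347 F22401) (tt N16243 (iv F28759)) (tt N10519 F22402) (tt N10345 (iv D13192)) (tt N10351 F22403))
theorem Q13180 : ∀ i, i < 13180 → P i := stepQ 13179 Q13179 (allL N13179 (tt N10346 (iv D13193)) (tt N10352 F22404) (tt N16240 (iv F28751)) (tt N16225 (iv F28725)) (tt N10352 F22405) (tt N16224 F28722))
theorem Q13181 : ∀ i, i < 13181 → P i := stepQ 13180 Q13180 (allL N13180 (tt N10348 (iv D13194)) (tt N14580 (iv F25131)) (tt N10352 F22406) (tt N16244 D16275) (tt N16240 (iv F28752)) (tt N16245 D16276))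
theorem Q13182 : ∀ i, i < 13182 → P i := stepQ 13181 Q13181 (allL N13181 (tt N16244 (iv F28761)) (tt N10349 F22407) (tt N15785 (iv F27817)) (tt N10348 (iv D13195)) (tt N16246 D16277) (tt N14585 (iv F25147)))
theorem Q13183 : ∀ i, i < 13183 → P i := stepQ 13182 Q13182 (allL N13182 (tt N16245 (iv F28762)) (tt N10350 F22408) (tt N10354 F22409) (tt N14585 (iv F25146)) (tt N16247 D16278) (tt N10348 (iv D13196)))
theorem Q13184 : ∀ i, i < 13184 → P i := stepQ 13183 Q13183 (allL N13183 (tt N14583 (iv F25139)) (tt N16246 (iv F28764)) (tt N14588 (iv F25155)) (tt N16242 (iv F28757)) (tt N10349 (iv D13197)) (tt N16248 D16279))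
theorem Q13185 : ∀ i, i < 13185 → P i := stepQ 13184 Q13184 (allL N13184 (tt N14584 (iv F25142)) (tt N16247 (iv F28765)) (tt N10351 F22410) (tt N16249 D16280) (tt N10350 (iv D13198)) (tt N16243 (iv F28760)))
theorem Q13186 : ∀ i, i < 13186 → P i := stepQ 13185 Q13185 (allL N13185 (tt N10353 F22411) (tt N16225 (iv F28724)) (tt N15431 (iv F27041)) (tt N10352 (iv D13199)) (tt N15433 (iv F27047)) (tt N16206 (iv F28686)))
theorem Q13187 : ∀ i, i < 13187 → P i := stepQ 13186 Q13186 (allL N13186 (tt N10354 F22412) (tt N16224 (iv F28721)) (tt N16245 (iv F28763)) (tt N16206 (iv F28684)) (tt N16250 D16281) (tt N10352 (iv D13200)))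
theorem Q13188 : ∀ i, i < 13188 → P i := stepQ 13187 Q13187 (allL N13187 (tt N15431 F27042) (tt N16205 (iv F28681)) (tt N10353 (iv D13201)) (tt N15427 (iv F27043)) (tt N15428 (iv F27044)) (tt N16203 F28680))
theorem Q13189 : ∀ i, i < 13189 → P i := stepQ 13188 Q13188 (allL N13188 (tt N15433 (iv F27046)) (tt N10355 F22413) (tt N15428 F27045) (tt N16228 (iv F28733)) (tt N10353 (iv D13202)) (tt N16251 D16282))
theorem Q13190 : ∀ i, i < 13190 → P i := stepQ 13189 Q13189 (allL N13189 (tt N16250 (iv F28767)) (tt N10356 F22414) (tt N16247 (iv F28766)) (tt N16252 D16283) (tt N10354 (iv D13203)) (tt N16227 (iv F28731)))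
theorem Q13191 : ∀ i, i < 13191 → P i := stepQ 13190 Q13190 (allL N13190 (tt N13008 F22415) (tt N16251 (iv F28768)) (tt N13002 F22416) (tt N13008 F22417) (tt N13001 F22418) (tt N10355 (iv D13204)))
theorem Q13192 : ∀ i, i < 13192 → P i := stepQ 13191 Q13191 (allL N13191 (tt N13009 F22419) (tt N16252 (iv F28771)) (tt N13004 F22422) (tt N10356 (iv D13205)) (tt N13000 F22420) (tt N13009 F22421))
theorem Q13193 : ∀ i, i < 13193 → P i := stepQ 13192 Q13192 (allL N13192 (tt N15778 (iv F27805)) (tt N16253 D16284) (tt N10357 (iv D13206)) (tt N16254 D16285) (tt N16255 D16286) (tt N16256 D16287))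
theorem Q13194 : ∀ i, i < 13194 → P i := stepQ 13193 Q13193 (allL N13193 (tt N10476 F22423) (tt N10360 F22424) (tt N16255 (iv F28776)) (tt N10401 F22425) (tt N10357 (iv D13207)) (tt N16257 D16288))
theorem Q13195 : ∀ i, i < 13195 → P i := stepQ 13194 Q13194 (allL N13194 (tt N15779 (iv F27807)) (tt N10361 F22426) (tt N16256 (iv F28777)) (tt N10358 F22427) (tt N16258 D16289) (tt N10357 (iv D13208)))
theorem Q13196 : ∀ i, i < 13196 → P i := stepQ 13195 Q13195 (allL N13195 (tt N16259 D16290) (tt N10359 (iv D13209)) (tt N16253 (iv F28774)) (tt N14582 (iv F25138)) (tt N16260 D16291) (tt N14581 F25135))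
theorem Q13197 : ∀ i, i < 13197 → P i := stepQ 13196 Q13196 (allL N13196 (tt N14586 (iv F25148)) (tt N16260 (iv F28783)) (tt N10360 F22428) (tt N16261 D16292) (tt N10359 (iv D13210)) (tt N16262 D16293))
theorem Q13198 : ∀ i, i < 13198 → P i := stepQ 13197 Q13197 (allL N13197 (tt N14587 (iv F25150)) (tt N16257 (iv F28779)) (tt N16262 (iv F28784)) (tt N10402 F22429) (tt N16263 D16294) (tt N10360 (iv D13211)))
theorem Q13199 : ∀ i, i < 13199 → P i := stepQ 13198 Q13198 (allL N13198 (tt N14588 (iv F25153)) (tt N16258 (iv F28781)) (tt N14583 (iv F25140)) (tt N11875 F22430) (tt N10361 (iv D13212)) (tt N16263 (iv F28786)))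
theorem Q13200 : ∀ i, i < 13200 → P i := stepQ 13199 Q13199 (allL N13199 (tt N10364 F22431) (tt N16264 D16295) (tt N10362 (iv D13213)) (tt N16265 D16296) (tt N10415 F22432) (tt N16089 (iv F28470)))
theorem Q13201 : ∀ i, i < 13201 → P i := stepQ 13200 Q13200 (allL N13200 (tt N16265 (iv F28789)) (tt N16093 (iv F28474)) (tt N16266 D16297) (tt N10364 (iv D13214)) (tt N16267 D16298) (tt N16090 (iv F28472)))
theorem Q13202 : ∀ i, i < 13202 → P i := stepQ 13201 Q13201 (allL N13201 (tt N12941 F22433) (tt N16046 (iv F28384)) (tt N16268 D16299) (tt N10365 (iv D13215)) (tt N15957 (iv F28137)) (tt N13485 (iv F22956)))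
theorem Q13203 : ∀ i, i < 13203 → P i := stepQ 13202 Q13202 (allL N13202 (tt N10367 F22434) (tt N16043 (iv F28375)) (tt N16269 D16300) (tt N10366 (iv D13216)) (tt N16041 (iv F28369)) (tt N15103 (iv F26321)))
theorem Q13204 : ∀ i, i < 13204 → P i := stepQ 13203 Q13203 (allL N13203 (tt N16269 (iv F28794)) (tt N13285 (iv F26291)) (tt N10367 (iv D13217)) (tt N13281 F26290) (tt N15937 (iv F28091)) (tt N13282 F26280))
theorem Q13205 : ∀ i, i < 13205 → P i := stepQ 13204 Q13204 (allL N13204 (tt N15941 (iv F28101)) (tt N10368 (iv D13218)) (tt N13285 F26292) (tt N12927 (iv F26294)) (tt N15938 (iv F28095)) (tt N13284 (iv F26293)))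
theorem Q13206 : ∀ i, i < 13206 → P i := stepQ 13205 Q13205 (allL N13205 (tt N13141 F22435) (tt N12927 F26295) (tt N13136 F22436) (tt N10368 (iv D13219)) (tt N15915 (iv F28034)) (tt N13135 F22437))
theorem Q13207 : ∀ i, i < 13207 → P i := stepQ 13206 Q13206 (allL N13206 (tt N13140 F22438) (tt N13284 F26279) (tt N10369 F22439) (tt N13135 F22440) (tt N13286 (iv F26298)) (tt N10368 (iv D13220)))
theorem Q13208 : ∀ i, i < 13208 → P i := stepQ 13207 Q13207 (allL N13207 (tt N16196 (iv F28654)) (tt N13283 F26276) (tt N13286 F26299) (tt N13002 F22441) (tt N10369 (iv D13221)) (tt N16194 (iv F28652)))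
theorem Q13209 : ∀ i, i < 13209 → P i := stepQ 13208 Q13208 (allL N13208 (tt N10570 F22442) (tt N16270 D16301) (tt N10371 (iv D13222)) (tt N16271 D16302) (tt N11131 F22443) (tt N15987 (iv F28233)))
theorem Q13210 : ∀ i, i < 13210 → P i := stepQ 13209 Q13209 (allL N13209 (tt N16272 D16303) (tt N10372 (iv D13223)) (tt N16270 (iv F28798)) (tt N15989 (iv F28238)) (tt N11133 F22444) (tt N15989 (iv F28239)))
theorem Q13211 : ∀ i, i < 13211 → P i := stepQ 13210 Q13210 (allL N13210 (tt N16273 D16304) (tt N10373 (iv D13224)) (tt N15977 (iv F28192)) (tt N16274 D16305) (tt N11963 F22445) (tt N16273 F28807))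
theorem Q13212 : ∀ i, i < 13212 → P i := stepQ 13211 Q13211 (allL N13211 (tt N10376 F22446) (tt N16274 (iv F28809)) (tt N10397 F22447) (tt N10373 (iv D13225)) (tt N16274 (iv F28810)) (tt N10396 (iv F22448)))
theorem Q13213 : ∀ i, i < 13213 → P i := stepQ 13212 Q13212 (allL N13212 (tt N10375 F22449) (tt N16273 (iv F28803)) (tt N10374 F22450) (tt N10396 F22451) (tt N16275 D16306) (tt N10373 (iv D13226)))
theorem Q13214 : ∀ i, i < 13214 → P i := stepQ 13213 Q13213 (allL N13213 (tt N10379 F22452) (tt N15979 (iv F28202)) (tt N16275 (iv F28815)) (tt N10575 F22453) (tt N10374 (iv D13227)) (tt N11965 F22454))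
theorem Q13215 : ∀ i, i < 13215 → P i := stepQ 13214 Q13214 (allL N13214 (tt N10396 F22455) (tt N10376 F22456) (tt N10391 F22457) (tt N10375 (iv D13228)) (tt N10396 (iv F22459)) (tt N10376 F22458))
theorem Q13216 : ∀ i, i < 13216 → P i := stepQ 13215 Q13215 (allL N13215 (tt N16275 (iv F28813)) (tt N10377 F22460) (tt N10379 F22461) (tt N16275 (iv F28816)) (tt N10375 (iv D13229)) (tt N16276 D16307))
theorem Q13217 : ∀ i, i < 13217 → P i := stepQ 13216 Q13216 (allL N13216 (tt N10397 F22462) (tt N16277 D16308) (tt N10376 (iv D13230)) (tt N10392 F22463) (tt N16278 D16309) (tt N10391 F22464))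
theorem Q13218 : ∀ i, i < 13218 → P i := stepQ 13217 Q13217 (allL N13217 (tt N16274 (iv F28808)) (tt N10396 F22465) (tt N16278 (iv F28830)) (tt N16273 F28806) (tt N10376 (iv D13231)) (tt N16274 (iv F28811)))
theorem Q13219 : ∀ i, i < 13219 → P i := stepQ 13218 Q13218 (allL N13218 (tt N11963 (iv F26098)) (tt N16275 (iv F28814)) (tt N11970 F22467) (tt N10377 (iv D13232)) (tt N16273 (iv F28805)) (tt N11969 (iv F22468)))
theorem Q13220 : ∀ i, i < 13220 → P i := stepQ 13219 Q13219 (allL N13219 (tt N11964 F22469) (tt N16276 (iv F28819)) (tt N10378 F22470) (tt N11969 F22471) (tt N16276 (iv F28822)) (tt N10377 (iv D13233)))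
theorem Q13221 : ∀ i, i < 13221 → P i := stepQ 13220 Q13220 (allL N13220 (tt N11965 F22472) (tt N10381 F22473) (tt N16276 (iv F28820)) (tt N10581 F22474) (tt N10378 (iv D13234)) (tt N10379 F22475))
theorem Q13222 : ∀ i, i < 13222 → P i := stepQ 13221 Q13221 (allL N13221 (tt N15988 (iv F28234)) (tt N16279 D16310) (tt N10380 (iv D13235)) (tt N11137 F22477) (tt N10382 F22476) (tt N11139 (iv F22478)))
theorem Q13223 : ∀ i, i < 13223 → P i := stepQ 13222 Q13222 (allL N13222 (tt N11136 F22479) (tt N10581 F22480) (tt N11139 F22481) (tt N10381 F22482) (tt N10387 F22483) (tt N10380 (iv D13236)))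
theorem Q13224 : ∀ i, i < 13224 → P i := stepQ 13223 Q13223 (allL N13223 (tt N16280 D16311) (tt N10382 (iv D13237)) (tt N10584 F22484) (tt N10389 F22485) (tt N16279 (iv F28835)) (tt N10389 F22486))
theorem Q13225 : ∀ i, i < 13225 → P i := stepQ 13224 Q13224 (allL N13224 (tt N11459 F22487) (tt N16281 D16312) (tt N10383 (iv D13238)) (tt N16282 D16313) (tt N11115 F22488) (tt N16283 D16314))
theorem Q13226 : ∀ i, i < 13226 → P i := stepQ 13225 Q13225 (allL N13225 (tt N11460 F22489) (tt N10386 F22490) (tt N16283 (iv F28846)) (tt N10384 F22491) (tt N14193 (iv F24374)) (tt N10383 (iv D13239)))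
theorem Q13227 : ∀ i, i < 13227 → P i := stepQ 13226 Q13226 (allL N13226 (tt N16284 D16315) (tt N10385 (iv D13240)) (tt N16281 (iv F28841)) (tt N16285 D16316) (tt N11116 F22492) (tt N16286 D16317))
theorem Q13228 : ∀ i, i < 13228 → P i := stepQ 13227 Q13227 (allL N13227 (tt N11139 F22493) (tt N16285 (iv F28851)) (tt N11136 F22494) (tt N10385 (iv D13241)) (tt N11135 F22495) (tt N15988 (iv F28237)))
theorem Q13229 : ∀ i, i < 13229 → P i := stepQ 13228 Q13228 (allL N13228 (tt N11137 F22496) (tt N16286 (iv F28853)) (tt N10386 F22497) (tt N15988 (iv F28235)) (tt N11134 F22498) (tt N10385 (iv D13242)))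
theorem Q13230 : ∀ i, i < 13230 → P i := stepQ 13229 Q13229 (allL N13229 (tt N11135 F22499) (tt N16287 D16318) (tt N10387 (iv D13243)) (tt N11128 F22500) (tt N11139 F22501) (tt N10388 F22502))
theorem Q13231 : ∀ i, i < 13231 → P i := stepQ 13230 Q13230 (allL N13230 (tt N16288 D16319) (tt N10388 (iv D13244)) (tt N10578 F22503) (tt N16289 D16320) (tt N10389 F22504) (tt N16287 (iv F28858)))
theorem Q13232 : ∀ i, i < 13232 → P i := stepQ 13231 Q13231 (allL N13231 (tt N11134 F22505) (tt N16289 (iv F28862)) (tt N11129 F22506) (tt N10388 (iv D13245)) (tt N11137 F22507) (tt N11128 F22508))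
theorem Q13233 : ∀ i, i < 13233 → P i := stepQ 13232 Q13232 (allL N13232 (tt N10389 (iv D13246)) (tt N16272 (iv F28801)) (tt N10582 F22509) (tt N16280 (iv F28838)) (tt N16288 (iv F28861)) (tt N16280 (iv F28839)))
theorem Q13234 : ∀ i, i < 13234 → P i := stepQ 13233 Q13233 (allL N13233 (tt N10390 (iv D13247)) (tt N10394 F22510) (tt N10444 F22511) (tt N16290 D16321) (tt N10576 F22512) (tt N10435 (iv F22513)))
theorem Q13235 : ∀ i, i < 13235 → P i := stepQ 13234 Q13234 (allL N13234 (tt N16290 (iv F28866)) (tt N10391 F22514) (tt N16277 (iv F28824)) (tt N10390 (iv D13248)) (tt N10395 F22515) (tt N16277 (iv F28826)))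
theorem Q13236 : ∀ i, i < 13236 → P i := stepQ 13235 Q13235 (allL N13235 (tt N10435 F22516) (tt N10392 F22517) (tt N10447 F22518) (tt N16277 (iv F28825)) (tt N16291 D16322) (tt N10390 (iv D13249)))
theorem Q13237 : ∀ i, i < 13237 → P i := stepQ 13236 Q13236 (allL N13236 (tt N10398 F22519) (tt N16291 (iv F28872)) (tt N10393 F22520) (tt N16292 D16323) (tt N10392 (iv D13250)) (tt N10546 F22521))
theorem Q13238 : ∀ i, i < 13238 → P i := stepQ 13237 Q13237 (allL N13237 (tt N10395 F22522) (tt N16290 (iv F28867)) (tt N10427 F22524) (tt N10394 (iv D13251)) (tt N16290 (iv F28869)) (tt N10436 F22523))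
theorem Q13239 : ∀ i, i < 13239 → P i := stepQ 13238 Q13238 (allL N13238 (tt N10427 F22525) (tt N16278 (iv F28829)) (tt N10395 (iv D13252)) (tt N10423 F22527) (tt N16277 F28827) (tt N10440 F22526))
theorem Q13240 : ∀ i, i < 13240 → P i := stepQ 13239 Q13239 (allL N13239 (tt N16278 (iv F28828)) (tt N10440 F26286) (tt N16274 F28812) (tt N16293 D16324) (tt N10397 (iv D13253)) (tt N16278 (iv F28831)))
theorem Q13241 : ∀ i, i < 13241 → P i := stepQ 13240 Q13240 (allL N13240 (tt N16292 (iv F28876)) (tt N10441 F22529) (tt N16294 D16325) (tt N10398 (iv D13254)) (tt N16293 (iv F28887)) (tt N10564 F22530))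
theorem Q13242 : ∀ i, i < 13242 → P i := stepQ 13241 Q13241 (allL N13241 (tt N10400 F22531) (tt N16295 D16326) (tt N10399 (iv D13255)) (tt N16296 D16327) (tt N10488 F22532) (tt N15992 (iv F28245)))
theorem Q13243 : ∀ i, i < 13243 → P i := stepQ 13242 Q13242 (allL N13242 (tt N16296 (iv F28894)) (tt N16239 (iv F28748)) (tt N16297 D16328) (tt N10400 (iv D13256)) (tt N16298 D16329) (tt N15996 (iv F28255)))
theorem Q13244 : ∀ i, i < 13244 → P i := stepQ 13243 Q13243 (allL N13243 (tt N10477 F22533) (tt N10402 F22534) (tt N10472 F22535) (tt N16257 (iv F28780)) (tt N10417 F22536) (tt N10401 (iv D13257)))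
theorem Q13245 : ∀ i, i < 13245 → P i := stepQ 13244 Q13244 (allL N13244 (tt N15963 (iv F28154)) (tt N10404 F22537) (tt N15963 (iv F28155)) (tt N10403 (iv D13258)) (tt N16299 D16330) (tt N10458 F22538))
theorem Q13246 : ∀ i, i < 13246 → P i := stepQ 13245 Q13245 (allL N13245 (tt N16000 (iv F28266)) (tt N10405 F22539) (tt N12051 F22540) (tt N16300 D16331) (tt N10403 (iv D13259)) (tt N16301 D16332))
theorem Q13247 : ∀ i, i < 13247 → P i := stepQ 13246 Q13246 (allL N13246 (tt N10409 F22541) (tt N16299 (iv F28898)) (tt N10462 F22542) (tt N16302 D16333) (tt N10404 (iv D13260)) (tt N16303 D16334))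
theorem Q13248 : ∀ i, i < 13248 → P i := stepQ 13247 Q13247 (allL N13247 (tt N10410 F22543) (tt N16300 (iv F28899)) (tt N16304 D16335) (tt N10405 (iv D13261)) (tt N16302 (iv F28905)) (tt N16305 D16336))
theorem Q13249 : ∀ i, i < 13249 → P i := stepQ 13248 Q13248 (allL N13248 (tt N10411 F22544) (tt N16301 (iv F28901)) (tt N10406 F22545) (tt N16305 (iv F28914)) (tt N11775 F22546) (tt N10405 (iv D13262)))
theorem Q13250 : ∀ i, i < 13250 → P i := stepQ 13249 Q13249 (allL N13249 (tt N10412 F22547) (tt N16306 D16337) (tt N10407 (iv D13263)) (tt N10484 F22549) (tt N16017 (iv F28314)) (tt N10415 F22548))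
theorem Q13251 : ∀ i, i < 13251 → P i := stepQ 13250 Q13250 (allL N13250 (tt N15959 (iv F28142)) (tt N10408 (iv D13264)) (tt N15959 F28145) (tt N10447 F22550) (tt N16307 D16338) (tt N10445 F22551))
theorem Q13252 : ∀ i, i < 13252 → P i := stepQ 13251 Q13251 (allL N13251 (tt N10462 F22552) (tt N16307 (iv F28918)) (tt N10409 F22553) (tt N16308 D16339) (tt N10408 (iv D13265)) (tt N16309 D16340))
theorem Q13253 : ∀ i, i < 13253 → P i := stepQ 13252 Q13252 (allL N13252 (tt N16302 (iv F28904)) (tt N16014 (iv F28306)) (tt N16310 D16341) (tt N10409 (iv D13266)) (tt N10410 F22554) (tt N16311 D16342))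
theorem Q13254 : ∀ i, i < 13254 → P i := stepQ 13253 Q13253 (allL N13253 (tt N16303 (iv F28906)) (tt N16013 (iv F28304)) (tt N16309 (iv F28922)) (tt N16311 (iv F28925)) (tt N16006 (iv F28287)) (tt N10409 (iv D13267)))
theorem Q13255 : ∀ i, i < 13255 → P i := stepQ 13254 Q13254 (allL N13254 (tt N16304 (iv F28909)) (tt N16312 D16343) (tt N10410 (iv D13268)) (tt N16313 D16344) (tt N16310 (iv F28924)) (tt N16314 D16345))
theorem Q13256 : ∀ i, i < 13256 → P i := stepQ 13255 Q13255 (allL N13255 (tt N16305 (iv F28912)) (tt N11739 F22555) (tt N16314 (iv F28930)) (tt N10411 F22556) (tt N16315 D16346) (tt N10410 (iv D13269)))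
theorem Q13257 : ∀ i, i < 13257 → P i := stepQ 13256 Q13256 (allL N13256 (tt N10484 F22557) (tt N10567 F22558) (tt N10475 F22560) (tt N10412 (iv D13270)) (tt N16316 D16347) (tt N10421 F22559))
theorem Q13258 : ∀ i, i < 13258 → P i := stepQ 13257 Q13257 (allL N13257 (tt N10418 F22561) (tt N16317 D16348) (tt N10413 (iv D13271)) (tt N16314 (iv F28931)) (tt N10492 F22562) (tt N16313 (iv F28928)))
theorem Q13259 : ∀ i, i < 13259 → P i := stepQ 13258 Q13258 (allL N13258 (tt N10419 F22563) (tt N15669 (iv F27565)) (tt N16313 (iv F28927)) (tt N10414 F22564) (tt N16318 D16349) (tt N10413 (iv D13272)))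
theorem Q13260 : ∀ i, i < 13260 → P i := stepQ 13259 Q13259 (allL N13259 (tt N16319 D16350) (tt N10415 (iv D13273)) (tt N16295 (iv F28892)) (tt N16320 D16351) (tt N16264 (iv F28788)) (tt N16306 (iv F28917)))
theorem Q13261 : ∀ i, i < 13261 → P i := stepQ 13260 Q13260 (allL N13260 (tt N10421 F22565) (tt N16320 (iv F28942)) (tt N10469 F22566) (tt N10415 (iv D13274)) (tt N16321 D16352) (tt N10484 F22567))
theorem Q13262 : ∀ i, i < 13262 → P i := stepQ 13261 Q13261 (allL N13261 (tt N10492 F22568) (tt N16322 D16353) (tt N10416 (iv D13275)) (tt N12829 F22570) (tt N10418 F22569) (tt N12828 (iv F22571)))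
theorem Q13263 : ∀ i, i < 13263 → P i := stepQ 13262 Q13262 (allL N13262 (tt N10493 F22572) (tt N11874 F22573) (tt N12828 F22574) (tt N10417 F22575) (tt N16323 D16354) (tt N10416 (iv D13276)))
theorem Q13264 : ∀ i, i < 13264 → P i := stepQ 13263 Q13263 (allL N13263 (tt N16324 D16355) (tt N10418 (iv D13277)) (tt N11872 F22576) (tt N16325 D16356) (tt N16322 (iv F28948)) (tt N15720 (iv F27672)))
theorem Q13265 : ∀ i, i < 13265 → P i := stepQ 13264 Q13264 (allL N13264 (tt N16314 (iv F28929)) (tt N16325 (iv F28955)) (tt N16305 (iv F28913)) (tt N10418 (iv D13278)) (tt N16326 D16357) (tt N16304 F28911))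
theorem Q13266 : ∀ i, i < 13266 → P i := stepQ 13265 Q13265 (allL N13265 (tt N16313 (iv F28926)) (tt N15720 (iv F27671)) (tt N10419 F22577) (tt N16304 (iv F28910)) (tt N16327 D16358) (tt N10418 (iv D13279)))
theorem Q13267 : ∀ i, i < 13267 → P i := stepQ 13266 Q13266 (allL N13266 (tt N16318 (iv F28938)) (tt N11875 F22578) (tt N16327 (iv F28957)) (tt N16258 (iv F28782)) (tt N10419 (iv D13280)) (tt N16323 (iv F28953)))
theorem Q13268 : ∀ i, i < 13268 → P i := stepQ 13267 Q13267 (allL N13267 (tt N10420 (iv D13281)) (tt N16319 (iv F28940)) (tt N10422 F22579) (tt N16328 D16359) (tt N16088 (iv F28467)) (tt N10566 F22580))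
theorem Q13269 : ∀ i, i < 13269 → P i := stepQ 13268 Q13268 (allL N13268 (tt N16328 (iv F28959)) (tt N10421 F22581) (tt N16329 D16360) (tt N10420 (iv D13282)) (tt N16330 D16361) (tt N10567 F22582))
theorem Q13270 : ∀ i, i < 13270 → P i := stepQ 13269 Q13269 (allL N13269 (tt N10469 F22583) (tt N16331 D16362) (tt N10421 (iv D13283)) (tt N10454 F22584) (tt N16332 D16363) (tt N10475 F22585))
theorem Q13271 : ∀ i, i < 13271 → P i := stepQ 13270 Q13270 (allL N13270 (tt N16321 (iv F28944)) (tt N16330 (iv F28965)) (tt N16332 (iv F28969)) (tt N16267 (iv F28790)) (tt N10421 (iv D13284)) (tt N16333 D16364))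
theorem Q13272 : ∀ i, i < 13272 → P i := stepQ 13271 Q13271 (allL N13271 (tt N16293 (iv F28885)) (tt N10423 (iv D13285)) (tt N15916 (iv F28036)) (tt N16278 F28832) (tt N16292 (iv F28878)) (tt N16293 (iv F28888)))
theorem Q13273 : ∀ i, i < 13273 → P i := stepQ 13272 Q13272 (allL N13272 (tt N10428 F22586) (tt N16292 (iv F28877)) (tt N10424 F22587) (tt N16291 (iv F28874)) (tt N10423 (iv D13286)) (tt N16334 D16365))
theorem Q13274 : ∀ i, i < 13274 → P i := stepQ 13273 Q13273 (allL N13273 (tt N10426 F22588) (tt N16293 (iv F28886)) (tt N10425 F22589) (tt N10440 F22590) (tt N10441 F26288) (tt N10423 (iv D13287)))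
theorem Q13275 : ∀ i, i < 13275 → P i := stepQ 13274 Q13274 (allL N13274 (tt N10429 F22591) (tt N15920 (iv F28046)) (tt N16334 (iv F28972)) (tt N15913 (iv F28028)) (tt N16335 D16366) (tt N10424 (iv D13288)))
theorem Q13276 : ∀ i, i < 13276 → P i := stepQ 13275 Q13275 (allL N13275 (tt N10430 F22592) (tt N15921 (iv F28049)) (tt N10441 F26289) (tt N16152 (iv F28606)) (tt N10425 (iv D13289)) (tt N16335 (iv F28978)))
theorem Q13277 : ∀ i, i < 13277 → P i := stepQ 13276 Q13276 (allL N13276 (tt N10440 F22593) (tt N10427 F22594) (tt N10436 F22595) (tt N10426 (iv D13290)) (tt N10436 F26285) (tt N10427 F22596))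
theorem Q13278 : ∀ i, i < 13278 → P i := stepQ 13277 Q13277 (allL N13277 (tt N10441 F26281) (tt N10428 F22597) (tt N10430 F22598) (tt N10437 F26282) (tt N10426 (iv D13291)) (tt N16336 D16367))
theorem Q13279 : ∀ i, i < 13279 → P i := stepQ 13278 Q13278 (allL N13278 (tt N16277 (iv F28823)) (tt N10436 F26296) (tt N16290 (iv F28868)) (tt N10435 F26297) (tt N10427 (iv D13292)) (tt N16290 (iv F28870)))
theorem Q13280 : ∀ i, i < 13280 → P i := stepQ 13279 Q13279 (allL N13279 (tt N16291 (iv F28871)) (tt N10437 F26283) (tt N15960 (iv F28148)) (tt N10428 (iv D13293)) (tt N10435 F26284) (tt N16337 D16368))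
theorem Q13281 : ∀ i, i < 13281 → P i := stepQ 13280 Q13280 (allL N13280 (tt N16334 (iv F28970)) (tt N16336 (iv F28980)) (tt N10429 F22599) (tt N16337 (iv F28987)) (tt N16336 (iv F28983)) (tt N10428 (iv D13294)))
theorem Q13282 : ∀ i, i < 13282 → P i := stepQ 13281 Q13281 (allL N13281 (tt N16335 (iv F28975)) (tt N10433 F22600) (tt N16336 (iv F28981)) (tt N13203 (iv F26290)) (tt N10429 (iv D13295)) (tt N10430 F22601))
theorem Q13283 : ∀ i, i < 13283 → P i := stepQ 13282 Q13282 (allL N13282 (tt N16152 (iv F28603)) (tt N10432 F22602) (tt N12050 F26278) (tt N10430 (iv D13296)) (tt N10431 F22603) (tt N13203 (iv F26280)))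
theorem Q13284 : ∀ i, i < 13284 → P i := stepQ 13283 Q13283 (allL N13283 (tt N16151 (iv F28599)) (tt N13207 (iv F26276)) (tt N10431 (iv D13297)) (tt N12049 F26275) (tt N12050 (iv F26277)) (tt N15914 (iv F28031)))
theorem Q13285 : ∀ i, i < 13285 → P i := stepQ 13284 Q13284 (allL N13284 (tt N15929 (iv F28064)) (tt N13206 (iv F26279)) (tt N10432 (iv D13298)) (tt N15938 (iv F28094)) (tt N10434 F22604) (tt N13204 F26293))
theorem Q13286 : ∀ i, i < 13286 → P i := stepQ 13285 Q13285 (allL N13285 (tt N15930 (iv F28066)) (tt N13203 F26291) (tt N13204 (iv F26292)) (tt N10433 F22605) (tt N12928 F22606) (tt N10432 (iv D13299)))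
theorem Q13287 : ∀ i, i < 13287 → P i := stepQ 13286 Q13286 (allL N13286 (tt N16200 (iv F28667)) (tt N10434 (iv D13300)) (tt N13207 (iv F26299)) (tt N15915 (iv F28033)) (tt N13206 F26298) (tt N15915 (iv F28035)))
theorem Q13288 : ∀ i, i < 13288 → P i := stepQ 13287 Q13287 (allL N13287 (tt N10442 F22611) (tt N16337 (iv F28985)) (tt N10438 F22612) (tt N16336 (iv F28982)) (tt N10565 F22613) (tt N10437 (iv D13305)))
theorem Q13289 : ∀ i, i < 13289 → P i := stepQ 13288 Q13288 (allL N13288 (tt N10443 F22614) (tt N12365 F22615) (tt N10439 (iv D13306)) (tt N16338 D16369) (tt N10587 F22616) (tt N12035 F22617))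
theorem Q13290 : ∀ i, i < 13290 → P i := stepQ 13289 Q13289 (allL N13289 (tt N16336 (iv F28979)) (tt N10564 F22620) (tt N16335 (iv F28976)) (tt N10442 F22621) (tt N16334 (iv F28974)) (tt N10441 (iv D13312)))
theorem Q13291 : ∀ i, i < 13291 → P i := stepQ 13290 Q13290 (allL N13290 (tt N16338 (iv F28989)) (tt N11736 F22622) (tt N16150 (iv F28597)) (tt N10443 (iv D13313)) (tt N16339 D16370) (tt N12040 F22623))
theorem Q13292 : ∀ i, i < 13292 → P i := stepQ 13291 Q13291 (allL N13291 (tt N10446 F22624) (tt N10455 F22625) (tt N10576 F22626) (tt N11744 (iv F22627)) (tt N10444 (iv D13314)) (tt N11876 (iv F22628)))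
theorem Q13293 : ∀ i, i < 13293 → P i := stepQ 13292 Q13292 (allL N13292 (tt N16008 (iv F28289)) (tt N10448 F22629) (tt N16008 (iv F28291)) (tt N16340 D16371) (tt N10445 (iv D13315)) (tt N16341 D16372))
theorem Q13294 : ∀ i, i < 13294 → P i := stepQ 13293 Q13293 (allL N13293 (tt N11744 F22630) (tt N10449 F22631) (tt N11743 F22632) (tt N10446 (iv D13316)) (tt N16340 (iv F29001)) (tt N16342 D16373))
theorem Q13295 : ∀ i, i < 13295 → P i := stepQ 13294 Q13294 (allL N13294 (tt N11876 F22633) (tt N10450 F22634) (tt N10547 F22635) (tt N16342 (iv F29007)) (tt N16343 D16374) (tt N10446 (iv D13317)))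
theorem Q13296 : ∀ i, i < 13296 → P i := stepQ 13295 Q13295 (allL N13295 (tt N15960 (iv F28146)) (tt N10451 F22636) (tt N16291 (iv F28873)) (tt N16344 D16375) (tt N10447 (iv D13318)) (tt N16343 (iv F29011)))
theorem Q13297 : ∀ i, i < 13297 → P i := stepQ 13296 Q13296 (allL N13296 (tt N10460 F22637) (tt N16340 (iv F29000)) (tt N12831 (iv F22639)) (tt N10448 (iv D13319)) (tt N10449 F22638) (tt N16345 D16376))
theorem Q13298 : ∀ i, i < 13298 → P i := stepQ 13297 Q13297 (allL N13297 (tt N10461 F22640) (tt N16341 (iv F29003)) (tt N16006 (iv F28286)) (tt N16345 (iv F29018)) (tt N16309 (iv F28923)) (tt N10448 (iv D13320)))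
theorem Q13299 : ∀ i, i < 13299 → P i := stepQ 13298 Q13298 (allL N13298 (tt N10464 F22641) (tt N16342 (iv F29005)) (tt N10481 F22642) (tt N10450 F22643) (tt N16346 D16377) (tt N10449 (iv D13321)))
theorem Q13300 : ∀ i, i < 13300 → P i := stepQ 13299 Q13299 (allL N13299 (tt N10465 F22644) (tt N16343 (iv F29009)) (tt N10452 F22645) (tt N16347 D16378) (tt N10450 (iv D13322)) (tt N10451 F22646))
theorem Q13301 : ∀ i, i < 13301 → P i := stepQ 13300 Q13300 (allL N13300 (tt N10466 F22647) (tt N16344 (iv F29013)) (tt N16348 D16379) (tt N10451 (iv D13323)) (tt N16308 (iv F28920)) (tt N16347 (iv F29023)))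
theorem Q13302 : ∀ i, i < 13302 → P i := stepQ 13301 Q13301 (allL N13301 (tt N10467 F22648) (tt N16349 D16380) (tt N10453 (iv D13324)) (tt N16350 D16381) (tt N10454 F22649) (tt N10507 F22650))
theorem Q13303 : ∀ i, i < 13303 → P i := stepQ 13302 Q13302 (allL N13302 (tt N16351 D16382) (tt N10454 (iv D13325)) (tt N10540 F22651) (tt N16331 (iv F28966)) (tt N16349 (iv F29031)) (tt N10474 F22652))
theorem Q13304 : ∀ i, i < 13304 → P i := stepQ 13303 Q13303 (allL N13303 (tt N10457 F22653) (tt N11744 F22654) (tt N11746 F22655) (tt N10455 (iv D13326)) (tt N16009 (iv F28295)) (tt N11877 F22656))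
theorem Q13305 : ∀ i, i < 13305 → P i := stepQ 13304 Q13304 (allL N13304 (tt N16009 (iv F28293)) (tt N10460 F22657) (tt N16352 D16383) (tt N10456 (iv D13327)) (tt N10457 F22658) (tt N16353 D16384))
theorem Q13306 : ∀ i, i < 13306 → P i := stepQ 13305 Q13305 (allL N13305 (tt N16010 (iv F28297)) (tt N10461 F22659) (tt N16002 (iv F28274)) (tt N16353 (iv F29046)) (tt N15966 (iv F28163)) (tt N10456 (iv D13328)))
theorem Q13307 : ∀ i, i < 13307 → P i := stepQ 13306 Q13306 (allL N13306 (tt N11746 F22660) (tt N16354 D16385) (tt N10457 (iv D13329)) (tt N11868 F22661) (tt N16352 (iv F29040)) (tt N11879 F22662))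
theorem Q13308 : ∀ i, i < 13308 → P i := stepQ 13307 Q13307 (allL N13307 (tt N15998 (iv F28261)) (tt N10459 F22663) (tt N15998 (iv F28263)) (tt N16355 D16386) (tt N10458 (iv D13330)) (tt N16356 D16387))
theorem Q13309 : ∀ i, i < 13309 → P i := stepQ 13308 Q13308 (allL N13308 (tt N16005 (iv F28281)) (tt N16355 (iv F29053)) (tt N16357 D16388) (tt N10459 (iv D13331)) (tt N16004 (iv F28279)) (tt N16358 D16389))
theorem Q13310 : ∀ i, i < 13310 → P i := stepQ 13309 Q13309 (allL N13309 (tt N16006 (iv F28284)) (tt N16356 (iv F29054)) (tt N10461 F22664) (tt N16358 (iv F29055)) (tt N16303 (iv F28908)) (tt N10459 (iv D13332)))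
theorem Q13311 : ∀ i, i < 13311 → P i := stepQ 13310 Q13310 (allL N13310 (tt N12831 F22665) (tt N16359 D16390) (tt N10460 (iv D13333)) (tt N16360 D16391) (tt N10463 F22666) (tt N16361 D16392))
theorem Q13312 : ∀ i, i < 13312 → P i := stepQ 13311 Q13311 (allL N13311 (tt N16345 (iv F29016)) (tt N16353 (iv F29044)) (tt N16361 (iv F29063)) (tt N10461 F22667) (tt N16362 D16393) (tt N10460 (iv D13334)))
theorem Q13313 : ∀ i, i < 13313 → P i := stepQ 13312 Q13312 (allL N13312 (tt N16309 (iv F28921)) (tt N15966 (iv F28162)) (tt N16303 (iv F28907)) (tt N16363 D16394) (tt N10461 (iv D13335)) (tt N10462 F22668))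
theorem Q13314 : ∀ i, i < 13314 → P i := stepQ 13313 Q13313 (allL N13313 (tt N16308 (iv F28919)) (tt N15965 (iv F28160)) (tt N16364 D16395) (tt N10462 (iv D13336)) (tt N10466 F22669) (tt N16363 (iv F29068)))
theorem Q13315 : ∀ i, i < 13315 → P i := stepQ 13314 Q13314 (allL N13314 (tt N16365 D16396) (tt N10463 (iv D13337)) (tt N16354 (iv F29049)) (tt N12822 F22670) (tt N16359 (iv F29057)) (tt N16366 D16397))
theorem Q13316 : ∀ i, i < 13316 → P i := stepQ 13315 Q13315 (allL N13315 (tt N10481 F22671) (tt N16366 (iv F29075)) (tt N10464 F22672) (tt N10473 F22673) (tt N16367 D16398) (tt N10463 (iv D13338)))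
theorem Q13317 : ∀ i, i < 13317 → P i := stepQ 13316 Q13316 (allL N13316 (tt N16346 (iv F29019)) (tt N11880 F22674) (tt N16367 (iv F29081)) (tt N16368 D16399) (tt N10464 (iv D13339)) (tt N16362 (iv F29067)))
theorem Q13318 : ∀ i, i < 13318 → P i := stepQ 13317 Q13317 (allL N13317 (tt N16347 (iv F29021)) (tt N11881 F22675) (tt N16369 D16400) (tt N10465 (iv D13340)) (tt N16368 (iv F29085)) (tt N10466 F22676))
theorem Q13319 : ∀ i, i < 13319 → P i := stepQ 13318 Q13318 (allL N13318 (tt N16348 (iv F29025)) (tt N16370 D16401) (tt N10466 (iv D13341)) (tt N16371 D16402) (tt N16364 (iv F29069)) (tt N16369 (iv F29087)))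
theorem Q13320 : ∀ i, i < 13320 → P i := stepQ 13319 Q13319 (allL N13319 (tt N16350 (iv F29033)) (tt N10536 F22677) (tt N16372 D16403) (tt N10467 (iv D13342)) (tt N16373 D16404) (tt N10513 F22678))
theorem Q13321 : ∀ i, i < 13321 → P i := stepQ 13320 Q13320 (allL N13320 (tt N10468 (iv D13343)) (tt N16351 (iv F29035)) (tt N10470 F22679) (tt N16374 D16405) (tt N10529 F22680) (tt N10482 F22681))
theorem Q13322 : ∀ i, i < 13322 → P i := stepQ 13321 Q13321 (allL N13321 (tt N16374 (iv F29096)) (tt N10469 F22682) (tt N16375 D16406) (tt N10468 (iv D13344)) (tt N16376 D16407) (tt N10483 F22683))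
theorem Q13323 : ∀ i, i < 13323 → P i := stepQ 13322 Q13322 (allL N13322 (tt N16332 (iv F28968)) (tt N16376 (iv F29099)) (tt N16321 (iv F28945)) (tt N16373 (iv F29095)) (tt N10469 (iv D13345)) (tt N16377 D16408))
theorem Q13324 : ∀ i, i < 13324 → P i := stepQ 13323 Q13323 (allL N13323 (tt N10478 F22684) (tt N13540 (iv F23360)) (tt N10471 (iv D13346)) (tt N13539 F23361) (tt N10473 F22685) (tt N16378 D16409))
theorem Q13325 : ∀ i, i < 13325 → P i := stepQ 13324 Q13324 (allL N13324 (tt N10479 F22686) (tt N11327 F22687) (tt N16378 (iv F29104)) (tt N10472 F22688) (tt N11639 F22689) (tt N10471 (iv D13347)))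
theorem Q13326 : ∀ i, i < 13326 → P i := stepQ 13325 Q13325 (allL N13325 (tt N16379 D16410) (tt N10473 (iv D13348)) (tt N11667 F22690) (tt N16366 (iv F29077)) (tt N13540 F23359) (tt N12822 F22691))
theorem Q13327 : ∀ i, i < 13327 → P i := stepQ 13326 Q13326 (allL N13326 (tt N10474 (iv D13349)) (tt N10482 F22692) (tt N10538 F22693) (tt N16380 D16411) (tt N10503 F22694) (tt N16351 (iv F29038)))
theorem Q13328 : ∀ i, i < 13328 → P i := stepQ 13327 Q13327 (allL N13327 (tt N16380 (iv F29111)) (tt N10475 F22695) (tt N16381 D16412) (tt N10474 (iv D13350)) (tt N16382 D16413) (tt N16331 (iv F28967)))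
theorem Q13329 : ∀ i, i < 13329 → P i := stepQ 13328 Q13328 (allL N13328 (tt N10485 F22696) (tt N16382 (iv F29116)) (tt N16316 (iv F28936)) (tt N10506 F22697) (tt N10475 (iv D13351)) (tt N16383 D16414))
theorem Q13330 : ∀ i, i < 13330 → P i := stepQ 13329 Q13329 (allL N13329 (tt N16255 (iv F28775)) (tt N16384 D16415) (tt N10476 (iv D13352)) (tt N16385 D16416) (tt N15778 (iv F27806)) (tt N16386 D16417))
theorem Q13331 : ∀ i, i < 13331 → P i := stepQ 13330 Q13330 (allL N13330 (tt N16257 (iv F28778)) (tt N10648 F22698) (tt N16386 (iv F29121)) (tt N10477 F22699) (tt N16387 D16418) (tt N10476 (iv D13353)))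
theorem Q13332 : ∀ i, i < 13332 → P i := stepQ 13331 Q13331 (allL N13331 (tt N16388 D16419) (tt N10478 (iv D13354)) (tt N10500 F22700) (tt N16389 D16420) (tt N10480 F22701) (tt N16390 D16421))
theorem Q13333 : ∀ i, i < 13333 → P i := stepQ 13332 Q13332 (allL N13332 (tt N13539 (iv F23362)) (tt N16389 (iv F29133)) (tt N16391 D16422) (tt N10478 (iv D13355)) (tt N16392 D16423) (tt N16393 D16424))
theorem Q13334 : ∀ i, i < 13334 → P i := stepQ 13333 Q13333 (allL N13333 (tt N16378 (iv F29102)) (tt N16390 (iv F29136)) (tt N10479 F22702) (tt N16393 (iv F29143)) (tt N11642 F22703) (tt N10478 (iv D13356)))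
theorem Q13335 : ∀ i, i < 13335 → P i := stepQ 13334 Q13334 (allL N13334 (tt N10480 (iv D13357)) (tt N16379 (iv F29106)) (tt N10502 F22704) (tt N12368 (iv F22706)) (tt N16388 (iv F29129)) (tt N11665 F22705))
theorem Q13336 : ∀ i, i < 13336 → P i := stepQ 13335 Q13335 (allL N13335 (tt N12368 F22707) (tt N10481 F22708) (tt N12364 F22710) (tt N10480 (iv D13358)) (tt N16394 D16425) (tt N11666 F22709))
theorem Q13337 : ∀ i, i < 13337 → P i := stepQ 13336 Q13336 (allL N13336 (tt N16367 (iv F29079)) (tt N16394 (iv F29145)) (tt N16346 (iv F29020)) (tt N16392 (iv F29142)) (tt N10481 (iv D13359)) (tt N16395 D16426))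
theorem Q13338 : ∀ i, i < 13338 → P i := stepQ 13337 Q13337 (allL N13337 (tt N10483 F22711) (tt N16380 (iv F29112)) (tt N16396 D16427) (tt N10482 (iv D13360)) (tt N12790 F22712) (tt N16374 (iv F29097)))
theorem Q13339 : ∀ i, i < 13339 → P i := stepQ 13338 Q13338 (allL N13338 (tt N16396 (iv F29150)) (tt N16397 D16428) (tt N10483 (iv D13361)) (tt N16398 D16429) (tt N16399 D16430) (tt N16375 (iv F29098)))
theorem Q13340 : ∀ i, i < 13340 → P i := stepQ 13339 Q13339 (allL N13339 (tt N12790 F22713) (tt N10485 F22714) (tt N16399 (iv F29154)) (tt N10508 F22715) (tt N10483 (iv D13362)) (tt N16400 D16431))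
theorem Q13341 : ∀ i, i < 13341 → P i := stepQ 13340 Q13340 (allL N13340 (tt N16401 D16432) (tt N10484 (iv D13363)) (tt N16397 (iv F29152)) (tt N16306 (iv F28916)) (tt N16402 D16433) (tt N16320 (iv F28943)))
theorem Q13342 : ∀ i, i < 13342 → P i := stepQ 13341 Q13341 (allL N13341 (tt N16316 (iv F28934)) (tt N16402 (iv F29160)) (tt N10485 F22716) (tt N16403 D16434) (tt N10484 (iv D13364)) (tt N16404 D16435))
theorem Q13343 : ∀ i, i < 13343 → P i := stepQ 13342 Q13342 (allL N13342 (tt N16383 (iv F29118)) (tt N16400 (iv F29156)) (tt N16404 (iv F29161)) (tt N10511 F22717) (tt N16377 (iv F29101)) (tt N10485 (iv D13365)))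
theorem Q13344 : ∀ i, i < 13344 → P i := stepQ 13343 Q13343 (allL N13343 (tt N10487 F22718) (tt N16405 D16436) (tt N10486 (iv D13366)) (tt N16406 D16437) (tt N10530 F22719) (tt N16233 (iv F28744)))
theorem Q13345 : ∀ i, i < 13345 → P i := stepQ 13344 Q13344 (allL N13344 (tt N16406 (iv F29164)) (tt N15996 (iv F28254)) (tt N16407 D16438) (tt N10487 (iv D13367)) (tt N16408 D16439) (tt N16239 (iv F28749)))
theorem Q13346 : ∀ i, i < 13346 → P i := stepQ 13345 Q13345 (allL N13345 (tt N16231 (iv F28738)) (tt N10488 (iv D13368)) (tt N16264 (iv F28787)) (tt N16409 D16440) (tt N16295 (iv F28893)) (tt N16229 F28736))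
theorem Q13347 : ∀ i, i < 13347 → P i := stepQ 13346 Q13346 (allL N13346 (tt N10489 F22720) (tt N16409 (iv F29166)) (tt N14618 (iv F25230)) (tt N10488 (iv D13369)) (tt N16410 D16441) (tt N14616 F25227))
theorem Q13348 : ∀ i, i < 13348 → P i := stepQ 13347 Q13347 (allL N13347 (tt N14618 (iv F25229)) (tt N16411 D16442) (tt N10489 (iv D13370)) (tt N14612 (iv F25217)) (tt N16412 D16443) (tt N14611 F25214))
theorem Q13349 : ∀ i, i < 13349 → P i := stepQ 13348 Q13348 (allL N13348 (tt N16410 (iv F29167)) (tt N16238 (iv F28747)) (tt N16412 (iv F29168)) (tt N16298 (iv F28897)) (tt N10489 (iv D13371)) (tt N16413 D16444))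
theorem Q13350 : ∀ i, i < 13350 → P i := stepQ 13349 Q13349 (allL N13349 (tt N15670 (iv F27567)) (tt N16414 D16445) (tt N10490 (iv D13372)) (tt N16415 D16446) (tt N15668 (iv F27563)) (tt N16416 D16447))
theorem Q13351 : ∀ i, i < 13351 → P i := stepQ 13350 Q13350 (allL N13350 (tt N15671 (iv F27569)) (tt N10493 F22721) (tt N16416 (iv F29170)) (tt N10491 F22722) (tt N16417 D16448) (tt N10490 (iv D13373)))
theorem Q13352 : ∀ i, i < 13352 → P i := stepQ 13351 Q13351 (allL N13351 (tt N16418 D16449) (tt N10492 (iv D13374)) (tt N16414 (iv F29169)) (tt N16419 D16450) (tt N16317 (iv F28937)) (tt N16420 D16451))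
theorem Q13353 : ∀ i, i < 13353 → P i := stepQ 13352 Q13352 (allL N13352 (tt N12829 F22723) (tt N16419 (iv F29173)) (tt N12821 F22724) (tt N10492 (iv D13375)) (tt N16421 D16452) (tt N12820 F22725))
theorem Q13354 : ∀ i, i < 13354 → P i := stepQ 13353 Q13353 (allL N13353 (tt N12828 F22726) (tt N16420 (iv F29175)) (tt N10493 F22727) (tt N12820 F22728) (tt N16422 D16453) (tt N10492 (iv D13376)))
theorem Q13355 : ∀ i, i < 13355 → P i := stepQ 13354 Q13354 (allL N13354 (tt N16323 (iv F28950)) (tt N16417 (iv F29171)) (tt N16422 (iv F29180)) (tt N16387 (iv F29126)) (tt N10493 (iv D13377)) (tt N16318 (iv F28939)))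
theorem Q13356 : ∀ i, i < 13356 → P i := stepQ 13355 Q13355 (allL N13355 (tt N10496 F22729) (tt N16423 D16454) (tt N10494 (iv D13378)) (tt N16424 D16455) (tt N10643 F22730) (tt N16425 D16456))
theorem Q13357 : ∀ i, i < 13357 → P i := stepQ 13356 Q13356 (allL N13356 (tt N10497 F22731) (tt N11251 F22732) (tt N16425 (iv F29185)) (tt N10495 F22733) (tt N13655 (iv F23374)) (tt N10494 (iv D13379)))
theorem Q13358 : ∀ i, i < 13358 → P i := stepQ 13357 Q13357 (allL N13357 (tt N16426 D16457) (tt N10496 (iv D13380)) (tt N10498 F22734) (tt N16427 D16458) (tt N10644 F22735) (tt N12875 (iv F22736)))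
theorem Q13359 : ∀ i, i < 13359 → P i := stepQ 13358 Q13358 (allL N13358 (tt N16424 (iv F29183)) (tt N16427 (iv F29189)) (tt N16428 D16459) (tt N10496 (iv D13381)) (tt N16429 D16460) (tt N16430 D16461))
theorem Q13360 : ∀ i, i < 13360 → P i := stepQ 13359 Q13359 (allL N13359 (tt N16425 (iv F29184)) (tt N12875 F22737) (tt N10497 F22738) (tt N16430 (iv F29193)) (tt N13668 (iv F23413)) (tt N10496 (iv D13382)))
theorem Q13361 : ∀ i, i < 13361 → P i := stepQ 13360 Q13360 (allL N13360 (tt N10498 (iv D13383)) (tt N11335 F22739) (tt N16426 (iv F29186)) (tt N12874 F22740) (tt N10646 F22741) (tt N12873 F22742))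
theorem Q13362 : ∀ i, i < 13362 → P i := stepQ 13361 Q13361 (allL N13361 (tt N16431 D16462) (tt N10499 (iv D13384)) (tt N16390 (iv F29137)) (tt N10642 F22743) (tt N10639 F22744) (tt N10500 F22745))
theorem Q13363 : ∀ i, i < 13363 → P i := stepQ 13362 Q13362 (allL N13362 (tt N10500 (iv D13385)) (tt N11331 F22746) (tt N16388 (iv F29128)) (tt N16432 D16463) (tt N10502 F22747) (tt N16431 (iv F29199)))
theorem Q13364 : ∀ i, i < 13364 → P i := stepQ 13363 Q13363 (allL N13363 (tt N16432 (iv F29200)) (tt N10501 F22748) (tt N16433 D16464) (tt N10500 (iv D13386)) (tt N11334 F22749) (tt N10642 F22750))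
theorem Q13365 : ∀ i, i < 13365 → P i := stepQ 13364 Q13364 (allL N13364 (tt N11899 F22751) (tt N10506 F22752) (tt N11628 F22753) (tt N16382 (iv F29117)) (tt N10504 (iv D13387)) (tt N16434 D16465))
theorem Q13366 : ∀ i, i < 13366 → P i := stepQ 13365 Q13365 (allL N13365 (tt N10526 F22754) (tt N10507 F22755) (tt N10541 F22756) (tt N16435 D16466) (tt N10505 (iv D13388)) (tt N16349 (iv F29032)))
theorem Q13367 : ∀ i, i < 13367 → P i := stepQ 13366 Q13366 (allL N13366 (tt N10511 F22757) (tt N16434 (iv F29208)) (tt N11625 F22758) (tt N16383 (iv F29119)) (tt N12824 F22759) (tt N10506 (iv D13389)))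
theorem Q13368 : ∀ i, i < 13368 → P i := stepQ 13367 Q13367 (allL N13367 (tt N10513 F22760) (tt N16435 (iv F29212)) (tt N16371 (iv F29089)) (tt N10507 (iv D13390)) (tt N12823 F22761) (tt N16350 (iv F29034)))
theorem Q13369 : ∀ i, i < 13369 → P i := stepQ 13368 Q13368 (allL N13368 (tt N12791 F22762) (tt N10511 F22763) (tt N12785 F22764) (tt N16400 (iv F29157)) (tt N10534 F22765) (tt N10508 (iv D13391)))
theorem Q13370 : ∀ i, i < 13370 → P i := stepQ 13369 Q13369 (allL N13369 (tt N11612 F22766) (tt N10510 F22767) (tt N11903 F22768) (tt N16436 D16467) (tt N10509 (iv D13392)) (tt N16437 D16468))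
theorem Q13371 : ∀ i, i < 13371 → P i := stepQ 13370 Q13370 (allL N13370 (tt N11624 F22769) (tt N16436 (iv F29215)) (tt N16438 D16469) (tt N10510 (iv D13393)) (tt N11622 F22770) (tt N16439 D16470))
theorem Q13372 : ∀ i, i < 13372 → P i := stepQ 13371 Q13371 (allL N13371 (tt N11625 F22771) (tt N16437 (iv F29218)) (tt N10511 F22772) (tt N16439 (iv F29224)) (tt N12819 F22773) (tt N10510 (iv D13394)))
theorem Q13373 : ∀ i, i < 13373 → P i := stepQ 13372 Q13372 (allL N13372 (tt N12824 F22774) (tt N10534 F22775) (tt N12819 F22776) (tt N16440 D16471) (tt N10511 (iv D13395)) (tt N10512 F22777))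
theorem Q13374 : ∀ i, i < 13374 → P i := stepQ 13373 Q13373 (allL N13373 (tt N12823 F22778) (tt N10533 F22779) (tt N16441 D16472) (tt N10512 (iv D13396)) (tt N10513 F22780) (tt N16440 (iv F29227)))
theorem Q13375 : ∀ i, i < 13375 → P i := stepQ 13374 Q13374 (allL N13374 (tt N16371 (iv F29088)) (tt N16442 D16473) (tt N10513 (iv D13397)) (tt N16348 (iv F29028)) (tt N16441 (iv F29229)) (tt N16372 (iv F29092)))
theorem Q13376 : ∀ i, i < 13376 → P i := stepQ 13375 Q13375 (allL N13375 (tt N10514 (iv D13398)) (tt N10520 F22781) (tt N14529 (iv F25048)) (tt N12005 F22782) (tt N14529 (iv F25049)) (tt N12004 F22783))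
theorem Q13377 : ∀ i, i < 13377 → P i := stepQ 13376 Q13376 (allL N13376 (tt N10516 (iv D13399)) (tt N14529 (iv F25047)) (tt N16027 (iv F28337)) (tt N16443 D16474) (tt N10520 F22784) (tt N16444 D16475))
theorem Q13378 : ∀ i, i < 13378 → P i := stepQ 13377 Q13377 (allL N13377 (tt N16443 (iv F29234)) (tt N10517 F22785) (tt N16445 D16476) (tt N10516 (iv D13400)) (tt N16446 D16477) (tt N14534 (iv F25055)))
theorem Q13379 : ∀ i, i < 13379 → P i := stepQ 13378 Q13378 (allL N13378 (tt N16444 (iv F29235)) (tt N10518 F22786) (tt N16025 F28331) (tt N14534 (iv F25054)) (tt N16447 D16478) (tt N10516 (iv D13401)))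
theorem Q13380 : ∀ i, i < 13380 → P i := stepQ 13379 Q13379 (allL N13379 (tt N12010 F22787) (tt N16446 (iv F29238)) (tt N14537 (iv F25058)) (tt N10523 F22788) (tt N10517 (iv D13402)) (tt N16448 D16479))
theorem Q13381 : ∀ i, i < 13381 → P i := stepQ 13380 Q13380 (allL N13380 (tt N12009 F22789) (tt N16447 (iv F29241)) (tt N10519 F22790) (tt N16449 D16480) (tt N10518 (iv D13403)) (tt N10524 F22791))
theorem Q13382 : ∀ i, i < 13382 → P i := stepQ 13381 Q13381 (allL N13381 (tt N10521 F22792) (tt N12005 F22793) (tt N15521 (iv F27245)) (tt N10520 (iv D13404)) (tt N16450 D16481) (tt N11992 (iv F22794)))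
theorem Q13383 : ∀ i, i < 13383 → P i := stepQ 13382 Q13382 (allL N13382 (tt N10522 F22795) (tt N12004 F22796) (tt N16029 (iv F28341)) (tt N11992 F22797) (tt N16451 D16482) (tt N10520 (iv D13405)))
theorem Q13384 : ∀ i, i < 13384 → P i := stepQ 13383 Q13383 (allL N13383 (tt N16450 (iv F29249)) (tt N10523 F22798) (tt N11032 F22799) (tt N16446 (iv F29239)) (tt N10521 (iv D13406)) (tt N11031 F22800))
theorem Q13385 : ∀ i, i < 13385 → P i := stepQ 13384 Q13384 (allL N13384 (tt N16451 (iv F29253)) (tt N10524 F22801) (tt N16032 (iv F28347)) (tt N16452 D16483) (tt N10522 (iv D13407)) (tt N16447 (iv F29243)))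
theorem Q13386 : ∀ i, i < 13386 → P i := stepQ 13385 Q13385 (allL N13385 (tt N12003 F22802) (tt N11031 F22803) (tt N10937 F22804) (tt N16448 (iv F29246)) (tt N10936 F22805) (tt N10523 (iv D13408)))
theorem Q13387 : ∀ i, i < 13387 → P i := stepQ 13386 Q13386 (allL N13386 (tt N12001 F22806) (tt N16452 (iv F29255)) (tt N16453 D16484) (tt N10524 (iv D13409)) (tt N10935 F22807) (tt N16449 (iv F29248)))
theorem Q13388 : ∀ i, i < 13388 → P i := stepQ 13387 Q13387 (allL N13387 (tt N11678 F22808) (tt N10527 F22809) (tt N11677 F22810) (tt N16454 D16485) (tt N10525 (iv D13410)) (tt N16455 D16486))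
theorem Q13389 : ∀ i, i < 13389 → P i := stepQ 13388 Q13388 (allL N13388 (tt N16435 (iv F29211)) (tt N10528 F22811) (tt N16456 D16487) (tt N10526 (iv D13411)) (tt N16454 (iv F29261)) (tt N16457 D16488))
theorem Q13390 : ∀ i, i < 13390 → P i := stepQ 13389 Q13389 (allL N13389 (tt N16349 (iv F29029)) (tt N10529 F22812) (tt N16095 (iv F28481)) (tt N16457 (iv F29267)) (tt N16351 (iv F29037)) (tt N10526 (iv D13412)))
theorem Q13391 : ∀ i, i < 13391 → P i := stepQ 13390 Q13390 (allL N13390 (tt N10533 F22813) (tt N16454 (iv F29260)) (tt N16458 D16489) (tt N10527 (iv D13413)) (tt N10528 F22814) (tt N16459 D16490))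
theorem Q13392 : ∀ i, i < 13392 → P i := stepQ 13391 Q13391 (allL N13391 (tt N10534 F22815) (tt N16455 (iv F29263)) (tt N11882 F22816) (tt N16459 (iv F29271)) (tt N12791 F22817) (tt N10527 (iv D13414)))
theorem Q13393 : ∀ i, i < 13393 → P i := stepQ 13392 Q13392 (allL N13392 (tt N10535 F22818) (tt N16460 D16491) (tt N10528 (iv D13415)) (tt N16051 (iv F28395)) (tt N16458 (iv F29269)) (tt N16050 (iv F28392)))
theorem Q13394 : ∀ i, i < 13394 → P i := stepQ 13393 Q13393 (allL N13393 (tt N10536 F22819) (tt N16457 (iv F29266)) (tt N16050 (iv F28391)) (tt N10529 F22820) (tt N16461 D16492) (tt N10528 (iv D13416)))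
theorem Q13395 : ∀ i, i < 13395 → P i := stepQ 13394 Q13394 (allL N13394 (tt N16190 (iv F28645)) (tt N10530 (iv D13417)) (tt N16098 (iv F28490)) (tt N16462 D16493) (tt N16405 (iv F29163)) (tt N16037 (iv F28358)))
theorem Q13396 : ∀ i, i < 13396 → P i := stepQ 13395 Q13395 (allL N13395 (tt N10537 F22821) (tt N16462 (iv F29275)) (tt N12777 F22822) (tt N10530 (iv D13418)) (tt N16463 D16494) (tt N12799 F22823))
theorem Q13397 : ∀ i, i < 13397 → P i := stepQ 13396 Q13396 (allL N13396 (tt N10908 F22824) (tt N10532 F22825) (tt N11681 F22826) (tt N10913 F22827) (tt N10531 (iv D13419)) (tt N16464 D16495))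
theorem Q13398 : ∀ i, i < 13398 → P i := stepQ 13397 Q13397 (allL N13397 (tt N11882 F22828) (tt N16464 (iv F29280)) (tt N10534 F22829) (tt N15592 F27405) (tt N12785 F22830) (tt N10532 (iv D13420)))
theorem Q13399 : ∀ i, i < 13399 → P i := stepQ 13398 Q13398 (allL N13398 (tt N16458 (iv F29268)) (tt N16465 D16496) (tt N10533 (iv D13421)) (tt N16466 D16497) (tt N10535 F22831) (tt N16467 D16498))
theorem Q13400 : ∀ i, i < 13400 → P i := stepQ 13399 Q13399 (allL N13399 (tt N16459 (iv F29270)) (tt N16440 (iv F29226)) (tt N16467 (iv F29289)) (tt N10534 F22832) (tt N16468 D16499) (tt N10533 (iv D13422)))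
theorem Q13401 : ∀ i, i < 13401 → P i := stepQ 13400 Q13400 (allL N13400 (tt N13117 (iv F28588)) (tt N10535 (iv D13423)) (tt N16442 (iv F29230)) (tt N13105 F28586) (tt N16465 (iv F29284)) (tt N16469 D16500))
theorem Q13402 : ∀ i, i < 13402 → P i := stepQ 13401 Q13401 (allL N13401 (tt N16051 (iv F28393)) (tt N13105 (iv F28585)) (tt N16045 (iv F28381)) (tt N10535 (iv D13424)) (tt N13107 F28587) (tt N16044 F28379))
theorem Q13403 : ∀ i, i < 13403 → P i := stepQ 13402 Q13402 (allL N13402 (tt N16050 (iv F28390)) (tt N16469 (iv F29292)) (tt N10536 F22833) (tt N16044 (iv F28378)) (tt N16470 D16501) (tt N10535 (iv D13425)))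
theorem Q13404 : ∀ i, i < 13404 → P i := stepQ 13403 Q13403 (allL N13403 (tt N16461 (iv F29274)) (tt N16373 (iv F29094)) (tt N16470 (iv F29295)) (tt N16376 (iv F29100)) (tt N10536 (iv D13426)) (tt N16468 (iv F29290)))
theorem Q13405 : ∀ i, i < 13405 → P i := stepQ 13404 Q13404 (allL N13404 (tt N12777 F22834) (tt N16471 D16502) (tt N10537 (iv D13427)) (tt N12764 F22835) (tt N16472 D16503) (tt N12789 F22836))
theorem Q13406 : ∀ i, i < 13406 → P i := stepQ 13405 Q13405 (allL N13405 (tt N16463 (iv F29277)) (tt N16193 (iv F28647)) (tt N16472 (iv F29299)) (tt N16408 (iv F29165)) (tt N10537 (iv D13428)) (tt N16473 D16504))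
theorem Q13407 : ∀ i, i < 13407 → P i := stepQ 13406 Q13406 (allL N13406 (tt N10539 F22837) (tt N10548 F22838) (tt N16474 D16505) (tt N10538 (iv D13429)) (tt N11910 F22839) (tt N16475 D16506))
theorem Q13408 : ∀ i, i < 13408 → P i := stepQ 13407 Q13407 (allL N13407 (tt N10540 F22840) (tt N10549 F22841) (tt N16351 (iv F29036)) (tt N16475 (iv F29304)) (tt N16095 (iv F28482)) (tt N10538 (iv D13430)))
theorem Q13409 : ∀ i, i < 13409 → P i := stepQ 13408 Q13408 (allL N13408 (tt N16474 (iv F29300)) (tt N16476 D16507) (tt N10539 (iv D13431)) (tt N16477 D16508) (tt N12893 F22842) (tt N16478 D16509))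
theorem Q13410 : ∀ i, i < 13410 → P i := stepQ 13409 Q13409 (allL N13409 (tt N16475 (iv F29302)) (tt N10543 F22843) (tt N16478 (iv F29309)) (tt N10540 F22844) (tt N16479 D16510) (tt N10539 (iv D13432)))
theorem Q13411 : ∀ i, i < 13411 → P i := stepQ 13410 Q13410 (allL N13410 (tt N16095 (iv F28479)) (tt N10544 F22845) (tt N16349 (iv F29030)) (tt N16480 D16511) (tt N10540 (iv D13433)) (tt N10541 F22846))
theorem Q13412 : ∀ i, i < 13412 → P i := stepQ 13411 Q13411 (allL N13411 (tt N16094 (iv F28476)) (tt N10545 F22847) (tt N16481 D16512) (tt N10541 (iv D13434)) (tt N11941 F22848) (tt N16480 (iv F29313)))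
theorem Q13413 : ∀ i, i < 13413 → P i := stepQ 13412 Q13412 (allL N13412 (tt N16482 D16513) (tt N10542 (iv D13435)) (tt N16476 (iv F29305)) (tt N10584 F22849) (tt N12895 F22850) (tt N10583 F22851))
theorem Q13414 : ∀ i, i < 13414 → P i := stepQ 13413 Q13413 (allL N13413 (tt N10561 F22852) (tt N16479 (iv F29310)) (tt N10585 F22853) (tt N16483 D16514) (tt N10543 (iv D13436)) (tt N12896 F22854))
theorem Q13415 : ∀ i, i < 13415 → P i := stepQ 13414 Q13414 (allL N13414 (tt N10562 F22855) (tt N16480 (iv F29312)) (tt N16484 D16515) (tt N10544 (iv D13437)) (tt N16483 (iv F29320)) (tt N10545 F22856))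
theorem Q13416 : ∀ i, i < 13416 → P i := stepQ 13415 Q13415 (allL N13415 (tt N10563 F22857) (tt N16485 D16516) (tt N10545 (iv D13438)) (tt N16294 (iv F28891)) (tt N11943 F22858) (tt N16484 (iv F29324)))
theorem Q13417 : ∀ i, i < 13417 → P i := stepQ 13416 Q13416 (allL N13416 (tt N16337 (iv F28984)) (tt N10546 (iv D13439)) (tt N16343 (iv F29010)) (tt N16334 (iv F28973)) (tt N10547 F22859) (tt N16291 (iv F28875)))
theorem Q13418 : ∀ i, i < 13418 → P i := stepQ 13417 Q13417 (allL N13417 (tt N10564 F22860) (tt N16334 (iv F28971)) (tt N16486 D16517) (tt N10546 (iv D13440)) (tt N10564 F22861) (tt N16292 (iv F28879)))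
theorem Q13419 : ∀ i, i < 13419 → P i := stepQ 13418 Q13418 (allL N13418 (tt N10547 (iv D13441)) (tt N10565 F22862) (tt N11876 F22863) (tt N10565 F22864) (tt N16337 (iv F28988)) (tt N10576 F22865))
theorem Q13420 : ∀ i, i < 13420 → P i := stepQ 13419 Q13419 (allL N13419 (tt N10552 F22866) (tt N16487 D16518) (tt N10548 (iv D13442)) (tt N16329 (iv F28964)) (tt N16132 (iv F28553)) (tt N16488 D16519))
theorem Q13421 : ∀ i, i < 13421 → P i := stepQ 13420 Q13420 (allL N13420 (tt N10553 F22867) (tt N16475 (iv F29303)) (tt N16488 (iv F29331)) (tt N10549 F22868) (tt N16489 D16520) (tt N10548 (iv D13443)))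
theorem Q13422 : ∀ i, i < 13422 → P i := stepQ 13421 Q13421 (allL N13421 (tt N16132 (iv F28552)) (tt N16490 D16521) (tt N10550 (iv D13444)) (tt N16491 D16522) (tt N10552 F22869) (tt N16492 D16523))
theorem Q13423 : ∀ i, i < 13423 → P i := stepQ 13422 Q13422 (allL N13422 (tt N16133 (iv F28554)) (tt N10555 F22870) (tt N16492 (iv F29336)) (tt N10551 F22871) (tt N16493 D16524) (tt N10550 (iv D13445)))
theorem Q13424 : ∀ i, i < 13424 → P i := stepQ 13423 Q13423 (allL N13423 (tt N16494 D16525) (tt N10552 (iv D13446)) (tt N10558 F22872) (tt N16495 D16526) (tt N16490 (iv F29335)) (tt N16496 D16527))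
theorem Q13425 : ∀ i, i < 13425 → P i := stepQ 13424 Q13424 (allL N13424 (tt N16329 (iv F28962)) (tt N16495 (iv F29340)) (tt N16328 (iv F28961)) (tt N10552 (iv D13447)) (tt N16497 D16528) (tt N16498 D16529))
theorem Q13426 : ∀ i, i < 13426 → P i := stepQ 13425 Q13425 (allL N13425 (tt N16488 (iv F29330)) (tt N16496 (iv F29341)) (tt N10553 F22873) (tt N16498 (iv F29345)) (tt N16499 D16530) (tt N10552 (iv D13448)))
theorem Q13427 : ∀ i, i < 13427 → P i := stepQ 13426 Q13426 (allL N13426 (tt N16489 (iv F29333)) (tt N10561 F22874) (tt N16499 (iv F29346)) (tt N16104 (iv F28507)) (tt N10553 (iv D13449)) (tt N16493 (iv F29338)))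
theorem Q13428 : ∀ i, i < 13428 → P i := stepQ 13427 Q13427 (allL N13427 (tt N16500 D16531) (tt N10554 (iv D13450)) (tt N16490 (iv F29334)) (tt N16501 D16532) (tt N10558 F22875) (tt N16502 D16533))
theorem Q13429 : ∀ i, i < 13429 → P i := stepQ 13428 Q13428 (allL N13428 (tt N10580 F22876) (tt N16501 (iv F29349)) (tt N10573 F22877) (tt N10554 (iv D13451)) (tt N16503 D16534) (tt N10572 F22878))
theorem Q13430 : ∀ i, i < 13430 → P i := stepQ 13429 Q13429 (allL N13429 (tt N10579 F22879) (tt N16502 (iv F29351)) (tt N10555 F22880) (tt N10572 F22881) (tt N16504 D16535) (tt N10554 (iv D13452)))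
theorem Q13431 : ∀ i, i < 13431 → P i := stepQ 13430 Q13430 (allL N13430 (tt N12896 F22882) (tt N16493 (iv F29337)) (tt N16504 (iv F29358)) (tt N16505 D16536) (tt N10555 (iv D13453)) (tt N10561 F22883))
theorem Q13432 : ∀ i, i < 13432 → P i := stepQ 13431 Q13431 (allL N13431 (tt N11944 F22884) (tt N16100 (iv F28497)) (tt N16506 D16537) (tt N10556 (iv D13454)) (tt N16505 (iv F29362)) (tt N10557 F22885))
theorem Q13433 : ∀ i, i < 13433 → P i := stepQ 13432 Q13432 (allL N13432 (tt N11943 F22886) (tt N16507 D16538) (tt N10557 (iv D13455)) (tt N16508 D16539) (tt N10563 F22887) (tt N16506 (iv F29365)))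
theorem Q13434 : ∀ i, i < 13434 → P i := stepQ 13433 Q13433 (allL N13433 (tt N10558 (iv D13456)) (tt N16482 (iv F29315)) (tt N16494 (iv F29339)) (tt N16509 D16540) (tt N16500 (iv F29348)) (tt N16510 D16541))
theorem Q13435 : ∀ i, i < 13435 → P i := stepQ 13434 Q13434 (allL N13434 (tt N16509 (iv F29371)) (tt N10559 F22888) (tt N16511 D16542) (tt N10558 (iv D13457)) (tt N16512 D16543) (tt N10574 (iv F22889)))
theorem Q13436 : ∀ i, i < 13436 → P i := stepQ 13435 Q13435 (allL N13435 (tt N16510 (iv F29374)) (tt N10560 F22890) (tt N16496 (iv F29342)) (tt N10574 F22891) (tt N16513 D16544) (tt N10558 (iv D13458)))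
theorem Q13437 : ∀ i, i < 13437 → P i := stepQ 13436 Q13436 (allL N13436 (tt N10586 F22892) (tt N16512 (iv F29379)) (tt N10575 F22893) (tt N16503 (iv F29355)) (tt N10559 (iv D13459)) (tt N16503 (iv F29356)))
theorem Q13438 : ∀ i, i < 13438 → P i := stepQ 13437 Q13437 (allL N13437 (tt N10585 F22894) (tt N16513 (iv F29380)) (tt N10561 F22895) (tt N16504 (iv F29359)) (tt N10560 (iv D13460)) (tt N16504 (iv F29360)))
theorem Q13439 : ∀ i, i < 13439 → P i := stepQ 13438 Q13438 (allL N13438 (tt N16483 (iv F29319)) (tt N16104 (iv F28506)) (tt N16514 D16545) (tt N10561 (iv D13461)) (tt N10562 F22896) (tt N16505 (iv F29363)))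
theorem Q13440 : ∀ i, i < 13440 → P i := stepQ 13439 Q13439 (allL N13439 (tt N16484 (iv F29322)) (tt N16515 D16546) (tt N10562 (iv D13462)) (tt N16486 (iv F29327)) (tt N16514 (iv F29381)) (tt N10563 F22897))
theorem Q13441 : ∀ i, i < 13441 → P i := stepQ 13440 Q13440 (allL N13440 (tt N15926 F28884) (tt N10563 (iv D13463)) (tt N16101 (iv F28499)) (tt N15918 (iv F28883)) (tt N16507 (iv F29367)) (tt N16515 (iv F29382)))
theorem Q13442 : ∀ i, i < 13442 → P i := stepQ 13441 Q13441 (allL N13441 (tt N16294 (iv F28889)) (tt N15918 F28881) (tt N16292 (iv F28880)) (tt N10563 (iv D13464)) (tt N15916 F28882) (tt N16486 (iv F29329)))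
theorem Q13443 : ∀ i, i < 13443 → P i := stepQ 13442 Q13442 (allL N13442 (tt N16486 (iv F29326)) (tt N16516 D16547) (tt N10564 (iv D13465)) (tt N16484 (iv F29323)) (tt N16486 (iv F29328)) (tt N16294 (iv F28890)))
theorem Q13444 : ∀ i, i < 13444 → P i := stepQ 13443 Q13443 (allL N13443 (tt N16306 (iv F28915)) (tt N10566 (iv D13466)) (tt N16405 (iv F29162)) (tt N16401 (iv F29159)) (tt N16098 (iv F28492)) (tt N16319 (iv F28941)))
theorem Q13445 : ∀ i, i < 13445 → P i := stepQ 13444 Q13444 (allL N13444 (tt N10567 F22898) (tt N16401 (iv F29158)) (tt N16498 (iv F29344)) (tt N10566 (iv D13467)) (tt N16188 (iv F28643)) (tt N16328 (iv F28960)))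
theorem Q13446 : ∀ i, i < 13446 → P i := stepQ 13445 Q13445 (allL N13445 (tt N16498 (iv F29343)) (tt N16381 (iv F29114)) (tt N10567 (iv D13468)) (tt N16488 (iv F29332)) (tt N16517 D16548) (tt N16329 (iv F28963)))
theorem Q13447 : ∀ i, i < 13447 → P i := stepQ 13446 Q13446 (allL N13446 (tt N16188 (iv F28642)) (tt N16316 (iv F28935)) (tt N16517 (iv F29383)) (tt N16105 (iv F28510)) (tt N10567 (iv D13469)) (tt N16518 D16549))
theorem Q13448 : ∀ i, i < 13448 → P i := stepQ 13447 Q13447 (allL N13447 (tt N11131 F22899) (tt N16519 D16550) (tt N10568 (iv D13470)) (tt N16520 D16551) (tt N10570 F22900) (tt N16521 D16552))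
theorem Q13449 : ∀ i, i < 13449 → P i := stepQ 13448 Q13448 (allL N13448 (tt N11132 F22901) (tt N10573 F22902) (tt N16521 (iv F29388)) (tt N10569 F22903) (tt N16522 D16553) (tt N10568 (iv D13471)))
theorem Q13450 : ∀ i, i < 13450 → P i := stepQ 13449 Q13449 (allL N13449 (tt N16523 D16554) (tt N10570 (iv D13472)) (tt N10574 F22904) (tt N16524 D16555) (tt N16519 (iv F29385)) (tt N16511 (iv F29378)))
theorem Q13451 : ∀ i, i < 13451 → P i := stepQ 13450 Q13450 (allL N13450 (tt N16271 (iv F28800)) (tt N16524 (iv F29394)) (tt N15996 (iv F28256)) (tt N10570 (iv D13473)) (tt N16525 D16556) (tt N16297 (iv F28895)))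
theorem Q13452 : ∀ i, i < 13452 → P i := stepQ 13451 Q13451 (allL N13451 (tt N15987 (iv F28232)) (tt N16511 (iv F29377)) (tt N10571 F22905) (tt N16297 (iv F28896)) (tt N16526 D16557) (tt N10570 (iv D13474)))
theorem Q13453 : ∀ i, i < 13453 → P i := stepQ 13452 Q13452 (allL N13452 (tt N15986 (iv F28228)) (tt N10575 F22906) (tt N16526 (iv F29395)) (tt N15979 (iv F28204)) (tt N10571 (iv D13475)) (tt N16522 (iv F29392)))
theorem Q13454 : ∀ i, i < 13454 → P i := stepQ 13453 Q13453 (allL N13453 (tt N16527 D16558) (tt N10572 (iv D13476)) (tt N16519 (iv F29384)) (tt N16502 (iv F29352)) (tt N10574 F22907) (tt N16501 F29350))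
theorem Q13455 : ∀ i, i < 13455 → P i := stepQ 13454 Q13454 (allL N13454 (tt N10581 F22908) (tt N16522 (iv F29390)) (tt N16503 (iv F29354)) (tt N11965 F22909) (tt N10573 (iv D13477)) (tt N10575 F22910))
theorem Q13456 : ∀ i, i < 13456 → P i := stepQ 13455 Q13455 (allL N13455 (tt N10574 (iv D13478)) (tt N10582 F22911) (tt N16523 (iv F29393)) (tt N16510 (iv F29376)) (tt N16527 (iv F29397)) (tt N16509 F29373))
theorem Q13457 : ∀ i, i < 13457 → P i := stepQ 13456 Q13456 (allL N13456 (tt N10578 (iv D13479)) (tt N16527 (iv F29396)) (tt N16288 (iv F28860)) (tt N16528 D16559) (tt N10582 F22912) (tt N16529 D16560))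
theorem Q13458 : ∀ i, i < 13458 → P i := stepQ 13457 Q13457 (allL N13457 (tt N16528 (iv F29398)) (tt N10579 F22913) (tt N16530 D16561) (tt N10578 (iv D13480)) (tt N16531 D16562) (tt N12895 (iv F22914)))
theorem Q13459 : ∀ i, i < 13459 → P i := stepQ 13458 Q13458 (allL N13458 (tt N16529 (iv F29400)) (tt N10580 F22915) (tt N16287 (iv F28855)) (tt N12895 F22916) (tt N16532 D16563) (tt N10578 (iv D13481)))
theorem Q13460 : ∀ i, i < 13460 → P i := stepQ 13459 Q13459 (allL N13459 (tt N16504 (iv F29357)) (tt N16531 (iv F29404)) (tt N12896 F22917) (tt N10585 F22918) (tt N10579 (iv D13482)) (tt N10585 F22919))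
theorem Q13461 : ∀ i, i < 13461 → P i := stepQ 13460 Q13460 (allL N13460 (tt N16503 (iv F29353)) (tt N16532 (iv F29407)) (tt N10581 F22920) (tt N10586 F22921) (tt N10580 (iv D13483)) (tt N10586 F22922))
theorem Q13462 : ∀ i, i < 13462 → P i := stepQ 13461 Q13461 (allL N13461 (tt N10583 F22923) (tt N16510 (iv F29375)) (tt N16533 D16564) (tt N10582 (iv D13484)) (tt N16534 D16565) (tt N16482 (iv F29318)))
theorem Q13463 : ∀ i, i < 13463 → P i := stepQ 13462 Q13462 (allL N13462 (tt N10584 F22924) (tt N16509 (iv F29372)) (tt N16280 (iv F28837)) (tt N16482 (iv F29316)) (tt N16535 D16566) (tt N10582 (iv D13485)))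
theorem Q13464 : ∀ i, i < 13464 → P i := stepQ 13463 Q13463 (allL N13463 (tt N16533 (iv F29411)) (tt N16478 (iv F29308)) (tt N10583 (iv D13486)) (tt N16533 (iv F29412)) (tt N16536 D16567) (tt N16476 F29307))
theorem Q13465 : ∀ i, i < 13465 → P i := stepQ 13464 Q13464 (allL N13464 (tt N16534 (iv F29413)) (tt N10585 F22925) (tt N16536 (iv F29415)) (tt N16531 (iv F29405)) (tt N10583 (iv D13487)) (tt N16531 (iv F29406)))
theorem Q13466 : ∀ i, i < 13466 → P i := stepQ 13465 Q13465 (allL N13465 (tt N16535 (iv F29414)) (tt N10586 F22926) (tt N16279 (iv F28833)) (tt N16532 (iv F29409)) (tt N10584 (iv D13488)) (tt N16532 (iv F29410)))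
theorem Q13467 : ∀ i, i < 13467 → P i := stepQ 13466 Q13466 (allL N13466 (tt N10588 F22927) (tt N12364 F22928) (tt N16342 (iv F29006)) (tt N10587 (iv D13489)) (tt N16537 D16568) (tt N11743 F22929))
theorem Q13468 : ∀ i, i < 13468 → P i := stepQ 13467 Q13467 (allL N13467 (tt N16342 (iv F29004)) (tt N11877 F22930) (tt N10588 (iv D13490)) (tt N11876 F22931) (tt N16538 D16569) (tt N11744 F22932))
theorem Q13469 : ∀ i, i < 13469 → P i := stepQ 13468 Q13468 (allL N13468 (tt N16537 (iv F29416)) (tt N11737 F22933) (tt N16538 (iv F29421)) (tt N16339 (iv F28997)) (tt N10588 (iv D13491)) (tt N16539 D16570))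
theorem Q13470 : ∀ i, i < 13470 → P i := stepQ 13469 Q13469 (allL N13469 (tt N10589 (iv D13492)) (tt N10593 F22934) (tt N14515 (iv F25016)) (tt N16540 D16571) (tt N14502 (iv F24996)) (tt N15545 (iv F27310)))
theorem Q13471 : ∀ i, i < 13471 → P i := stepQ 13470 Q13470 (allL N13470 (tt N16540 (iv F29427)) (tt N10590 F22935) (tt N16541 D16572) (tt N10589 (iv D13493)) (tt N16542 D16573) (tt N10608 (iv F22936)))
theorem Q13472 : ∀ i, i < 13472 → P i := stepQ 13471 Q13471 (allL N13471 (tt N15545 (iv F27308)) (tt N10591 F22937) (tt N14517 (iv F25020)) (tt N10608 F22938) (tt N16543 D16574) (tt N10589 (iv D13494)))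
theorem Q13473 : ∀ i, i < 13473 → P i := stepQ 13472 Q13472 (allL N13472 (tt N10596 F22939) (tt N16542 (iv F29432)) (tt N10611 F22940) (tt N14505 (iv F25001)) (tt N10590 (iv D13495)) (tt N16544 D16575))
theorem Q13474 : ∀ i, i < 13474 → P i := stepQ 13473 Q13473 (allL N13473 (tt N10598 F22941) (tt N16543 (iv F29433)) (tt N10592 F22942) (tt N16545 D16576) (tt N10591 (iv D13496)) (tt N14506 (iv F25004)))
theorem Q13475 : ∀ i, i < 13475 → P i := stepQ 13474 Q13474 (allL N13474 (tt N10594 F22943) (tt N16540 (iv F29428)) (tt N15528 (iv F27261)) (tt N10593 (iv D13497)) (tt N16546 D16577) (tt N15546 (iv F27314)))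
theorem Q13476 : ∀ i, i < 13476 → P i := stepQ 13475 Q13475 (allL N13475 (tt N15528 (iv F27260)) (tt N16547 D16578) (tt N10594 (iv D13498)) (tt N15523 (iv F27250)) (tt N16548 D16579) (tt N15548 (iv F27319)))
theorem Q13477 : ∀ i, i < 13477 → P i := stepQ 13476 Q13476 (allL N13476 (tt N16546 (iv F29439)) (tt N10596 F22944) (tt N16548 (iv F29442)) (tt N14509 (iv F25007)) (tt N10594 (iv D13499)) (tt N16549 D16580))
theorem Q13478 : ∀ i, i < 13478 → P i := stepQ 13477 Q13477 (allL N13477 (tt N15798 (iv F27849)) (tt N10595 (iv D13500)) (tt N16547 (iv F29440)) (tt N10600 F22945) (tt N16550 D16581) (tt N10599 F22946))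
theorem Q13479 : ∀ i, i < 13479 → P i := stepQ 13478 Q13478 (allL N13478 (tt N10611 F22947) (tt N16550 (iv F29444)) (tt N10596 F22948) (tt N16551 D16582) (tt N10595 (iv D13501)) (tt N16552 D16583))
theorem Q13480 : ∀ i, i < 13480 → P i := stepQ 13479 Q13479 (allL N13479 (tt N16544 (iv F29434)) (tt N16549 (iv F29443)) (tt N16552 (iv F29448)) (tt N14512 (iv F25011)) (tt N16553 D16584) (tt N10596 (iv D13502)))
theorem Q13481 : ∀ i, i < 13481 → P i := stepQ 13480 Q13480 (allL N13480 (tt N10609 F22949) (tt N15549 (iv F27320)) (tt N10601 F22950) (tt N16554 D16585) (tt N10597 (iv D13503)) (tt N16553 (iv F29452)))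
theorem Q13482 : ∀ i, i < 13482 → P i := stepQ 13481 Q13481 (allL N13481 (tt N16545 (iv F29437)) (tt N15550 (iv F27321)) (tt N16555 D16586) (tt N10598 (iv D13504)) (tt N16554 (iv F29454)) (tt N14514 (iv F25014)))
theorem Q13483 : ∀ i, i < 13483 → P i := stepQ 13482 Q13482 (allL N13482 (tt N15797 (iv F27847)) (tt N15548 (iv F27318)) (tt N10599 (iv D13505)) (tt N16556 D16587) (tt N15788 (iv F27823)) (tt N16547 (iv F29441)))
theorem Q13484 : ∀ i, i < 13484 → P i := stepQ 13483 Q13483 (allL N13483 (tt N15799 (iv F27852)) (tt N10602 F22951) (tt N13023 F22952) (tt N16557 D16588) (tt N10600 (iv D13506)) (tt N13021 F22953))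
theorem Q13485 : ∀ i, i < 13485 → P i := stepQ 13484 Q13484 (allL N13484 (tt N10610 F22954) (tt N15789 (iv F27827)) (tt N16553 (iv F29451)) (tt N15787 (iv F27821)) (tt N16552 (iv F29449)) (tt N10601 (iv D13507)))
theorem Q13486 : ∀ i, i < 13486 → P i := stepQ 13485 Q13485 (allL N13485 (tt N10612 F22955) (tt N16557 (iv F29456)) (tt N16060 (iv F28413)) (tt N10602 (iv D13508)) (tt N16551 (iv F29446)) (tt N13201 F22956))
theorem Q13487 : ∀ i, i < 13487 → P i := stepQ 13486 Q13486 (allL N13486 (tt N10605 F22957) (tt N16558 D16589) (tt N10603 (iv D13509)) (tt N11863 F22958) (tt N15795 (iv F27843)) (tt N16559 D16590))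
theorem Q13488 : ∀ i, i < 13488 → P i := stepQ 13487 Q13487 (allL N13487 (tt N10607 F22959) (tt N15798 (iv F27850)) (tt N16559 (iv F29460)) (tt N10604 F22960) (tt N16560 D16591) (tt N10603 (iv D13510)))
theorem Q13489 : ∀ i, i < 13489 → P i := stepQ 13488 Q13488 (allL N13488 (tt N16561 D16592) (tt N10605 (iv D13511)) (tt N10608 F22961) (tt N16562 D16593) (tt N16563 D16594) (tt N16541 (iv F29431)))
theorem Q13490 : ∀ i, i < 13490 → P i := stepQ 13489 Q13489 (allL N13489 (tt N11863 F22962) (tt N16562 (iv F29464)) (tt N11862 F22963) (tt N10605 (iv D13512)) (tt N16564 D16595) (tt N16565 D16596))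
theorem Q13491 : ∀ i, i < 13491 → P i := stepQ 13490 Q13490 (allL N13490 (tt N15795 (iv F27842)) (tt N16563 (iv F29465)) (tt N10606 F22964) (tt N16566 D16597) (tt N10605 (iv D13513)) (tt N16567 D16598))
theorem Q13492 : ∀ i, i < 13492 → P i := stepQ 13491 Q13491 (allL N13491 (tt N16559 (iv F29459)) (tt N16541 (iv F29430)) (tt N10607 F22965) (tt N16565 (iv F29471)) (tt N16568 D16599) (tt N10605 (iv D13514)))
theorem Q13493 : ∀ i, i < 13493 → P i := stepQ 13492 Q13492 (allL N13492 (tt N15796 (iv F27844)) (tt N10610 F22966) (tt N16567 (iv F29473)) (tt N15794 (iv F27840)) (tt N16569 D16600) (tt N10606 (iv D13515)))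
theorem Q13494 : ∀ i, i < 13494 → P i := stepQ 13493 Q13493 (allL N13493 (tt N16560 (iv F29462)) (tt N10611 F22967) (tt N16568 (iv F29474)) (tt N15975 (iv F28186)) (tt N10607 (iv D13516)) (tt N16569 (iv F29476)))
theorem Q13495 : ∀ i, i < 13495 → P i := stepQ 13494 Q13494 (allL N13494 (tt N10608 (iv D13517)) (tt N15546 (iv F27313)) (tt N16561 (iv F29463)) (tt N15545 F27311) (tt N16570 D16601) (tt N16540 (iv F29429)))
theorem Q13496 : ∀ i, i < 13496 → P i := stepQ 13495 Q13495 (allL N13495 (tt N16570 (iv F29477)) (tt N10609 F22968) (tt N16563 (iv F29466)) (tt N16571 D16602) (tt N10608 (iv D13518)) (tt N16572 D16603))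
theorem Q13497 : ∀ i, i < 13497 → P i := stepQ 13496 Q13496 (allL N13496 (tt N16554 (iv F29453)) (tt N16571 (iv F29478)) (tt N16573 D16604) (tt N10609 (iv D13519)) (tt N16545 (iv F29438)) (tt N16574 D16605))
theorem Q13498 : ∀ i, i < 13498 → P i := stepQ 13497 Q13497 (allL N13497 (tt N16553 (iv F29450)) (tt N16572 (iv F29479)) (tt N10610 F22969) (tt N16574 (iv F29480)) (tt N16544 (iv F29436)) (tt N10609 (iv D13520)))
theorem Q13499 : ∀ i, i < 13499 → P i := stepQ 13498 Q13498 (allL N13498 (tt N16552 (iv F29447)) (tt N16569 (iv F29475)) (tt N16544 (iv F29435)) (tt N16575 D16606) (tt N10610 (iv D13521)) (tt N10611 F22970))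
theorem Q13500 : ∀ i, i < 13500 → P i := stepQ 13499 Q13499 (allL N13499 (tt N16551 (iv F29445)) (tt N15975 (iv F28185)) (tt N16576 D16607) (tt N10611 (iv D13522)) (tt N10612 F22971) (tt N16575 (iv F29481)))
theorem Q13501 : ∀ i, i < 13501 → P i := stepQ 13500 Q13500 (allL N13500 (tt N16060 (iv F28412)) (tt N16577 D16608) (tt N10612 (iv D13523)) (tt N16055 (iv F28405)) (tt N16576 (iv F29482)) (tt N15956 (iv F28134)))
theorem Q13502 : ∀ i, i < 13502 → P i := stepQ 13501 Q13501 (allL N13501 (tt N11834 F22972) (tt N10613 (iv D13524)) (tt N12026 F22973) (tt N16578 D16609) (tt N12366 F22974) (tt N11836 F22975))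
theorem Q13503 : ∀ i, i < 13503 → P i := stepQ 13502 Q13502 (allL N13502 (tt N10614 F22976) (tt N16578 (iv F29485)) (tt N16565 (iv F29470)) (tt N10613 (iv D13525)) (tt N16579 D16610) (tt N11862 F22977))
theorem Q13504 : ∀ i, i < 13504 → P i := stepQ 13503 Q13503 (allL N13503 (tt N16565 (iv F29469)) (tt N16580 D16611) (tt N10614 (iv D13526)) (tt N16559 (iv F29461)) (tt N16581 D16612) (tt N11863 F22978))
theorem Q13505 : ∀ i, i < 13505 → P i := stepQ 13504 Q13504 (allL N13504 (tt N16579 (iv F29487)) (tt N11861 F22979) (tt N16581 (iv F29491)) (tt N15976 (iv F28190)) (tt N10614 (iv D13527)) (tt N16582 D16613))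
theorem Q13506 : ∀ i, i < 13506 → P i := stepQ 13505 Q13505 (allL N13505 (tt N10615 (iv D13528)) (tt N10994 F22980) (tt N10617 F22981) (tt N16583 D16614) (tt N11654 F22982) (tt N14398 (iv F24796)))
theorem Q13507 : ∀ i, i < 13507 → P i := stepQ 13506 Q13506 (allL N13506 (tt N16583 (iv F29495)) (tt N10616 F22983) (tt N16584 D16615) (tt N10615 (iv D13529)) (tt N16585 D16616) (tt N14399 (iv F24798)))
theorem Q13508 : ∀ i, i < 13508 → P i := stepQ 13507 Q13507 (allL N13507 (tt N10996 F22984) (tt N16585 (iv F29497)) (tt N14404 (iv F24810)) (tt N11658 F22985) (tt N10616 (iv D13530)) (tt N16586 D16617))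
theorem Q13509 : ∀ i, i < 13509 → P i := stepQ 13508 Q13508 (allL N13508 (tt N10658 F22986) (tt N10620 F22987) (tt N10768 F22988) (tt N12841 F22989) (tt N10619 (iv D13531)) (tt N12866 (iv F22994)))
theorem Q13510 : ∀ i, i < 13510 → P i := stepQ 13509 Q13509 (allL N13509 (tt N10628 F22998) (tt N12866 F22999) (tt N10661 F23000) (tt N15474 (iv F27130)) (tt N10660 F23001) (tt N10620 (iv D13532)))
theorem Q13511 : ∀ i, i < 13511 → P i := stepQ 13510 Q13510 (allL N13510 (tt N10623 F23002) (tt N12857 F23003) (tt N15553 (iv F27328)) (tt N10621 (iv D13533)) (tt N10659 F23004) (tt N15475 (iv F27132)))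
theorem Q13512 : ∀ i, i < 13512 → P i := stepQ 13511 Q13511 (allL N13511 (tt N10659 F23005) (tt N10627 F23006) (tt N15543 (iv F27300)) (tt N10622 (iv D13534)) (tt N10623 F23007) (tt N15544 (iv F27306)))
theorem Q13513 : ∀ i, i < 13513 → P i := stepQ 13512 Q13512 (allL N13512 (tt N10660 F23008) (tt N10628 F23009) (tt N10652 F23010) (tt N15544 (iv F27304)) (tt N10628 F23011) (tt N10622 (iv D13535)))
theorem Q13514 : ∀ i, i < 13514 → P i := stepQ 13513 Q13513 (allL N13513 (tt N15553 (iv F27326)) (tt N15483 (iv F27152)) (tt N10623 (iv D13536)) (tt N15536 F27281) (tt N15543 (iv F27301)) (tt N15480 F27143))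
theorem Q13515 : ∀ i, i < 13515 → P i := stepQ 13514 Q13514 (allL N13514 (tt N10759 F23012) (tt N10626 F23013) (tt N10650 F23014) (tt N16587 D16618) (tt N10625 (iv D13537)) (tt N16588 D16619))
theorem Q13516 : ∀ i, i < 13516 → P i := stepQ 13515 Q13515 (allL N13515 (tt N10662 F23015) (tt N16587 (iv F29505)) (tt N10977 (iv F23017)) (tt N10626 (iv D13538)) (tt N10653 F23016) (tt N15463 (iv F27104)))
theorem Q13517 : ∀ i, i < 13517 → P i := stepQ 13516 Q13516 (allL N13516 (tt N10661 F23018) (tt N16588 (iv F29508)) (tt N10628 F23019) (tt N15463 (iv F27103)) (tt N10652 F23020) (tt N10626 (iv D13539)))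
theorem Q13518 : ∀ i, i < 13518 → P i := stepQ 13517 Q13517 (allL N13517 (tt N15474 (iv F27129)) (tt N15544 F27307) (tt N15489 (iv F27168)) (tt N10628 F23021) (tt N15488 (iv F27167)) (tt N10627 (iv D13540)))
theorem Q13519 : ∀ i, i < 13519 → P i := stepQ 13518 Q13518 (allL N13518 (tt N10629 (iv D13541)) (tt N14400 (iv F24799)) (tt N11029 F23022) (tt N11663 F23023) (tt N10630 F23024) (tt N11664 F23025))
theorem Q13520 : ∀ i, i < 13520 → P i := stepQ 13519 Q13519 (allL N13519 (tt N10631 (iv D13542)) (tt N12310 F23026) (tt N10634 F23027) (tt N12746 F23039) (tt N11607 F23028) (tt N12747 (iv F23040)))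
theorem Q13521 : ∀ i, i < 13521 → P i := stepQ 13520 Q13520 (allL N13520 (tt N12746 (iv F23036)) (tt N10632 F23029) (tt N12735 (iv F23037)) (tt N10631 (iv D13543)) (tt N12733 (iv F23038)) (tt N12734 F23035))
theorem Q13522 : ∀ i, i < 13522 → P i := stepQ 13521 Q13521 (allL N13521 (tt N12747 F23034) (tt N10633 F23030) (tt N10636 F23031) (tt N12734 (iv F23033)) (tt N12869 F23032) (tt N10631 (iv D13544)))
theorem Q13523 : ∀ i, i < 13523 → P i := stepQ 13522 Q13522 (allL N13522 (tt N12313 F23041) (tt N16589 D16620) (tt N10632 (iv D13545)) (tt N12308 F23042) (tt N16590 D16621) (tt N12307 (iv F23043)))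
theorem Q13524 : ∀ i, i < 13524 → P i := stepQ 13523 Q13523 (allL N13523 (tt N12314 F23044) (tt N12733 F23045) (tt N16590 (iv F29518)) (tt N11610 F23046) (tt N10632 (iv D13546)) (tt N12730 (iv F23047)))
theorem Q13525 : ∀ i, i < 13525 → P i := stepQ 13524 Q13524 (allL N13524 (tt N12315 F23048) (tt N12734 F23049) (tt N12307 F23050) (tt N10633 F23051) (tt N12731 F23052) (tt N10632 (iv D13547)))
theorem Q13526 : ∀ i, i < 13526 → P i := stepQ 13525 Q13525 (allL N13525 (tt N10635 F23053) (tt N11664 F23054) (tt N16591 D16622) (tt N10634 (iv D13548)) (tt N11662 F23055) (tt N14400 (iv F24802)))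
theorem Q13527 : ∀ i, i < 13527 → P i := stepQ 13526 Q13526 (allL N13526 (tt N10636 F23056) (tt N11663 F23057) (tt N12747 F23058) (tt N14400 (iv F24800)) (tt N12874 F23059) (tt N10634 (iv D13549)))
theorem Q13528 : ∀ i, i < 13528 → P i := stepQ 13527 Q13527 (allL N13527 (tt N16591 (iv F29521)) (tt N11660 F23060) (tt N10635 (iv D13550)) (tt N12610 F23062) (tt N11656 F23061) (tt N14397 (iv F24793)))
theorem Q13529 : ∀ i, i < 13529 → P i := stepQ 13528 Q13528 (allL N13528 (tt N10637 (iv D13551)) (tt N11662 F23063) (tt N11017 F23064) (tt N11643 F23065) (tt N11664 F23066) (tt N10638 F23067))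
theorem Q13530 : ∀ i, i < 13530 → P i := stepQ 13529 Q13529 (allL N13529 (tt N10639 F23068) (tt N11661 F23069) (tt N16592 D16623) (tt N10638 (iv D13552)) (tt N16431 (iv F29198)) (tt N11643 F23070))
theorem Q13531 : ∀ i, i < 13531 → P i := stepQ 13530 Q13530 (allL N13530 (tt N16592 (iv F29524)) (tt N11642 F23071) (tt N10639 (iv D13553)) (tt N16593 D16624) (tt N16390 (iv F29138)) (tt N11640 F23072))
theorem Q13532 : ∀ i, i < 13532 → P i := stepQ 13531 Q13531 (allL N13531 (tt N10641 F23073) (tt N16594 D16625) (tt N10640 (iv D13554)) (tt N16595 D16626) (tt N16596 D16627) (tt N11263 F23074))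
theorem Q13533 : ∀ i, i < 13533 → P i := stepQ 13532 Q13532 (allL N13532 (tt N10642 F23075) (tt N13674 (iv F23429)) (tt N16596 (iv F29538)) (tt N16431 (iv F29197)) (tt N10640 (iv D13555)) (tt N16432 (iv F29203)))
theorem Q13534 : ∀ i, i < 13534 → P i := stepQ 13533 Q13533 (allL N13533 (tt N16595 (iv F29533)) (tt N11223 F23076) (tt N16597 D16628) (tt N10641 (iv D13556)) (tt N16598 D16629) (tt N11264 F23077))
theorem Q13535 : ∀ i, i < 13535 → P i := stepQ 13534 Q13534 (allL N13534 (tt N16596 (iv F29537)) (tt N11266 F23078) (tt N10642 F23079) (tt N16599 D16630) (tt N10641 (iv D13557)) (tt N16433 (iv F29206)))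
theorem Q13536 : ∀ i, i < 13536 → P i := stepQ 13535 Q13535 (allL N13535 (tt N16600 D16631) (tt N10643 (iv D13558)) (tt N11252 F23080) (tt N13694 (iv F23476)) (tt N16423 (iv F29182)) (tt N13657 (iv F23379)))
theorem Q13537 : ∀ i, i < 13537 → P i := stepQ 13536 Q13536 (allL N13536 (tt N10644 (iv D13559)) (tt N16600 (iv F29545)) (tt N10646 F23081) (tt N16601 D16632) (tt N16426 (iv F29187)) (tt N13671 (iv F23423)))
theorem Q13538 : ∀ i, i < 13538 → P i := stepQ 13537 Q13537 (allL N13537 (tt N16601 (iv F29547)) (tt N10645 F23082) (tt N16602 D16633) (tt N10644 (iv D13560)) (tt N16603 D16634) (tt N13672 (iv F23425)))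
theorem Q13539 : ∀ i, i < 13539 → P i := stepQ 13538 Q13538 (allL N13538 (tt N13695 (iv F23478)) (tt N16603 (iv F29548)) (tt N13684 (iv F23455)) (tt N16429 (iv F29191)) (tt N10645 (iv D13561)) (tt N16604 D16635))
theorem Q13540 : ∀ i, i < 13540 → P i := stepQ 13539 Q13539 (allL N13539 (tt N13332 F23362) (tt N10647 (iv D13562)) (tt N16384 (iv F29120)) (tt N13323 (iv F23361)) (tt N15780 (iv F27810)) (tt N16605 D16636))
theorem Q13541 : ∀ i, i < 13541 → P i := stepQ 13540 Q13540 (allL N13540 (tt N13666 (iv F23406)) (tt N13323 F23360) (tt N13652 (iv F23356)) (tt N10647 (iv D13563)) (tt N13325 (iv F23359)) (tt N13651 F23353))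
theorem Q13542 : ∀ i, i < 13542 → P i := stepQ 13541 Q13541 (allL N13541 (tt N13665 (iv F23403)) (tt N16605 (iv F29554)) (tt N10648 F23083) (tt N13651 (iv F23352)) (tt N16606 D16637) (tt N10647 (iv D13564)))
theorem Q13543 : ∀ i, i < 13543 → P i := stepQ 13542 Q13542 (allL N13542 (tt N15783 (iv F27814)) (tt N16387 (iv F29125)) (tt N16606 (iv F29557)) (tt N16417 (iv F29172)) (tt N10648 (iv D13565)) (tt N15781 (iv F27812)))
theorem Q13544 : ∀ i, i < 13544 → P i := stepQ 13543 Q13543 (allL N13543 (tt N10650 F23084) (tt N10654 F23085) (tt N10759 F23086) (tt N11004 F23087) (tt N10649 (iv D13566)) (tt N16607 D16638))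
theorem Q13545 : ∀ i, i < 13545 → P i := stepQ 13544 Q13544 (allL N13544 (tt N16607 (iv F29558)) (tt N10652 F23088) (tt N16588 (iv F29509)) (tt N11006 F23089) (tt N16588 (iv F29510)) (tt N10650 (iv D13567)))
theorem Q13546 : ∀ i, i < 13546 → P i := stepQ 13545 Q13545 (allL N13545 (tt N10760 F23090) (tt N10653 F23091) (tt N16608 D16639) (tt N10651 (iv D13568)) (tt N16587 (iv F29506)) (tt N10942 F23092))
theorem Q13547 : ∀ i, i < 13547 → P i := stepQ 13546 Q13546 (allL N13546 (tt N10657 F23093) (tt N16607 (iv F29559)) (tt N10750 F23094) (tt N11037 F23095) (tt N10763 F23096) (tt N10654 (iv D13569)))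
theorem Q13548 : ∀ i, i < 13548 → P i := stepQ 13547 Q13547 (allL N13547 (tt N10768 F23097) (tt N10656 F23098) (tt N10658 F23099) (tt N12842 (iv F23101)) (tt N10655 (iv D13570)) (tt N12844 F23100))
theorem Q13549 : ∀ i, i < 13549 → P i := stepQ 13548 Q13548 (allL N13548 (tt N10749 F23102) (tt N12842 F23103) (tt N16609 D16640) (tt N10656 (iv D13571)) (tt N10740 F23104) (tt N12843 (iv F23105)))
theorem Q13550 : ∀ i, i < 13550 → P i := stepQ 13549 Q13549 (allL N13549 (tt N10750 F23106) (tt N12844 F23107) (tt N10657 F23108) (tt N12843 F23109) (tt N10770 F23110) (tt N10656 (iv D13572)))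
theorem Q13551 : ∀ i, i < 13551 → P i := stepQ 13550 Q13550 (allL N13550 (tt N12866 F23111) (tt N10660 F23112) (tt N12844 F23113) (tt N12864 F23114) (tt N12866 F23115) (tt N10658 (iv D13573)))
theorem Q13552 : ∀ i, i < 13552 → P i := stepQ 13551 Q13551 (allL N13551 (tt N15463 (iv F27101)) (tt N10772 F23116) (tt N16610 D16641) (tt N10661 (iv D13574)) (tt N10980 F23117) (tt N10662 F23118))
theorem Q13553 : ∀ i, i < 13553 → P i := stepQ 13552 Q13552 (allL N13552 (tt N10977 F23119) (tt N16611 D16642) (tt N10662 (iv D13575)) (tt N15156 (iv F26448)) (tt N10663 F23120) (tt N16610 (iv F29572)))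
theorem Q13554 : ∀ i, i < 13554 → P i := stepQ 13553 Q13553 (allL N13553 (tt N16612 D16643) (tt N10663 (iv D13576)) (tt N10773 F23121) (tt N10941 F23122) (tt N16611 (iv F29574)) (tt N10978 F23123))
theorem Q13555 : ∀ i, i < 13555 → P i := stepQ 13554 Q13554 (allL N13554 (tt N12633 F23124) (tt N10665 F23125) (tt N16613 D16644) (tt N10664 (iv D13577)) (tt N16614 D16645) (tt N13683 (iv F23453)))
theorem Q13556 : ∀ i, i < 13556 → P i := stepQ 13555 Q13555 (allL N13555 (tt N10667 F23126) (tt N16614 (iv F29581)) (tt N13673 (iv F23427)) (tt N10863 F23127) (tt N10665 (iv D13578)) (tt N16615 D16646))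
theorem Q13557 : ∀ i, i < 13557 → P i := stepQ 13556 Q13556 (allL N13556 (tt N16616 D16647) (tt N10666 (iv D13579)) (tt N12645 F23128) (tt N13657 (iv F23378)) (tt N16617 D16648) (tt N13694 (iv F23477)))
theorem Q13558 : ∀ i, i < 13558 → P i := stepQ 13557 Q13557 (allL N13557 (tt N13673 (iv F23426)) (tt N16617 (iv F29587)) (tt N10667 F23129) (tt N15892 (iv F27998)) (tt N10666 (iv D13580)) (tt N16618 D16649))
theorem Q13559 : ∀ i, i < 13559 → P i := stepQ 13558 Q13558 (allL N13558 (tt N16615 (iv F29583)) (tt N12643 F23130) (tt N16618 (iv F29590)) (tt N10866 F23131) (tt N13696 (iv F23481)) (tt N10667 (iv D13581)))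
theorem Q13560 : ∀ i, i < 13560 → P i := stepQ 13559 Q13559 (allL N13559 (tt N11953 F23132) (tt N16619 D16650) (tt N10668 (iv D13582)) (tt N16620 D16651) (tt N11696 F23133) (tt N16621 D16652))
theorem Q13561 : ∀ i, i < 13561 → P i := stepQ 13560 Q13560 (allL N13560 (tt N11954 F23134) (tt N10671 F23135) (tt N16621 (iv F29597)) (tt N10669 F23136) (tt N12815 F23137) (tt N10668 (iv D13583)))
theorem Q13562 : ∀ i, i < 13562 → P i := stepQ 13561 Q13561 (allL N13561 (tt N16622 D16653) (tt N10670 (iv D13584)) (tt N16619 (iv F29592)) (tt N16623 D16654) (tt N11697 F23138) (tt N16624 D16655))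
theorem Q13563 : ∀ i, i < 13563 → P i := stepQ 13562 Q13562 (allL N13562 (tt N11699 F23139) (tt N16623 (iv F29601)) (tt N14050 (iv F24114)) (tt N10670 (iv D13585)) (tt N12123 F23140) (tt N14051 (iv F24119)))
theorem Q13564 : ∀ i, i < 13564 → P i := stepQ 13563 Q13563 (allL N13563 (tt N11700 F23141) (tt N16624 (iv F29603)) (tt N10671 F23142) (tt N14051 (iv F24117)) (tt N12122 F23143) (tt N10670 (iv D13586)))
theorem Q13565 : ∀ i, i < 13565 → P i := stepQ 13564 Q13564 (allL N13564 (tt N10672 (iv D13587)) (tt N10674 F23144) (tt N10706 F23145) (tt N16625 D16656) (tt N10895 F23146) (tt N11497 F23147))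
theorem Q13566 : ∀ i, i < 13566 → P i := stepQ 13565 Q13565 (allL N13565 (tt N16625 (iv F29605)) (tt N10673 F23148) (tt N16626 D16657) (tt N10672 (iv D13588)) (tt N16627 D16658) (tt N14403 (iv F24808)))
theorem Q13567 : ∀ i, i < 13567 → P i := stepQ 13566 Q13566 (allL N13566 (tt N10677 F23149) (tt N16627 (iv F29608)) (tt N12697 F23150) (tt N10898 F23151) (tt N10673 (iv D13589)) (tt N16628 D16659))
theorem Q13568 : ∀ i, i < 13568 → P i := stepQ 13567 Q13567 (allL N13567 (tt N10675 F23152) (tt N16625 (iv F29606)) (tt N11491 F23154) (tt N10674 (iv D13590)) (tt N16629 D16660) (tt N11498 F23153))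
theorem Q13569 : ∀ i, i < 13569 → P i := stepQ 13568 Q13568 (allL N13568 (tt N11491 F23155) (tt N16630 D16661) (tt N10675 (iv D13591)) (tt N11488 F23157) (tt N16631 D16662) (tt N11499 F23156))
theorem Q13570 : ∀ i, i < 13570 → P i := stepQ 13569 Q13569 (allL N13569 (tt N16629 (iv F29613)) (tt N10677 F23158) (tt N16631 (iv F29620)) (tt N10902 F23159) (tt N10675 (iv D13592)) (tt N16632 D16663))
theorem Q13571 : ∀ i, i < 13571 → P i := stepQ 13570 Q13570 (allL N13570 (tt N16633 D16664) (tt N10676 (iv D13593)) (tt N16630 (iv F29616)) (tt N10968 F23160) (tt N16634 D16665) (tt N10995 F23161))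
theorem Q13572 : ∀ i, i < 13572 → P i := stepQ 13571 Q13571 (allL N13571 (tt N12697 F23162) (tt N16634 (iv F29626)) (tt N10677 F23163) (tt N12694 (iv F23164)) (tt N10676 (iv D13594)) (tt N16635 D16666))
theorem Q13573 : ∀ i, i < 13573 → P i := stepQ 13572 Q13572 (allL N13572 (tt N16628 (iv F29610)) (tt N16632 (iv F29621)) (tt N16635 (iv F29629)) (tt N10905 F23165) (tt N14407 (iv F24815)) (tt N10677 (iv D13595)))
theorem Q13574 : ∀ i, i < 13574 → P i := stepQ 13573 Q13573 (allL N13573 (tt N13732 (iv F23547)) (tt N10681 F23166) (tt N16636 D16667) (tt N10678 (iv D13596)) (tt N10679 F23167) (tt N16637 D16668))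
theorem Q13575 : ∀ i, i < 13575 → P i := stepQ 13574 Q13574 (allL N13574 (tt N13733 (iv F23550)) (tt N10682 F23168) (tt N13733 (iv F23552)) (tt N16637 (iv F29634)) (tt N10793 F23169) (tt N10678 (iv D13597)))
theorem Q13576 : ∀ i, i < 13576 → P i := stepQ 13575 Q13575 (allL N13575 (tt N14417 (iv F24834)) (tt N14265 (iv F24508)) (tt N10679 (iv D13598)) (tt N14348 (iv F24715)) (tt N16636 (iv F29632)) (tt N14264 F24506))
theorem Q13577 : ∀ i, i < 13577 → P i := stepQ 13576 Q13576 (allL N13576 (tt N14416 (iv F24831)) (tt N10684 F23170) (tt N14264 (iv F24504)) (tt N10680 F23171) (tt N14263 F24502) (tt N10679 (iv D13599)))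
theorem Q13578 : ∀ i, i < 13578 → P i := stepQ 13577 Q13577 (allL N13577 (tt N10689 F23172) (tt N14181 (iv F24349)) (tt N10681 (iv D13600)) (tt N16638 D16669) (tt N10683 F23173) (tt N14178 (iv F24344)))
theorem Q13579 : ∀ i, i < 13579 → P i := stepQ 13578 Q13578 (allL N13578 (tt N10690 F23174) (tt N16637 (iv F29633)) (tt N14178 (iv F24342)) (tt N10682 F23175) (tt N14177 F24339) (tt N10681 (iv D13601)))
theorem Q13580 : ∀ i, i < 13580 → P i := stepQ 13579 Q13579 (allL N13579 (tt N14288 (iv F24542)) (tt N10683 (iv D13602)) (tt N14265 (iv F24509)) (tt N10720 F23176) (tt N14181 (iv F24350)) (tt N10719 F23177))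
theorem Q13581 : ∀ i, i < 13581 → P i := stepQ 13580 Q13580 (allL N13580 (tt N10685 (iv D13603)) (tt N10695 F23178) (tt N11497 F23179) (tt N10828 F23180) (tt N14150 (iv F24284)) (tt N10706 F23181))
theorem Q13582 : ∀ i, i < 13582 → P i := stepQ 13581 Q13581 (allL N13581 (tt N13724 (iv F23527)) (tt N10687 F23182) (tt N16639 D16670) (tt N10686 (iv D13604)) (tt N10785 F23183) (tt N16640 D16671))
theorem Q13583 : ∀ i, i < 13583 → P i := stepQ 13582 Q13582 (allL N13582 (tt N13725 (iv F23530)) (tt N10688 F23184) (tt N13725 (iv F23532)) (tt N16640 (iv F29641)) (tt N10781 F23185) (tt N10686 (iv D13605)))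
theorem Q13584 : ∀ i, i < 13584 → P i := stepQ 13583 Q13583 (allL N13583 (tt N10797 F23186) (tt N16641 D16672) (tt N10687 (iv D13606)) (tt N16642 D16673) (tt N10789 F23187) (tt N16643 D16674))
theorem Q13585 : ∀ i, i < 13585 → P i := stepQ 13584 Q13584 (allL N13584 (tt N10796 F23188) (tt N16640 (iv F29640)) (tt N16643 (iv F29647)) (tt N10688 F23189) (tt N16644 D16675) (tt N10687 (iv D13607)))
theorem Q13586 : ∀ i, i < 13586 → P i := stepQ 13585 Q13585 (allL N13585 (tt N16645 D16676) (tt N10689 (iv D13608)) (tt N14441 (iv F24884)) (tt N16646 D16677) (tt N10691 F23190) (tt N16647 D16678))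
theorem Q13587 : ∀ i, i < 13587 → P i := stepQ 13586 Q13586 (allL N13586 (tt N16638 (iv F29635)) (tt N16646 (iv F29652)) (tt N16648 D16679) (tt N10689 (iv D13609)) (tt N16649 D16680) (tt N16650 D16681))
theorem Q13588 : ∀ i, i < 13588 → P i := stepQ 13587 Q13587 (allL N13587 (tt N14178 (iv F24340)) (tt N16647 (iv F29653)) (tt N10690 F23191) (tt N16650 (iv F29661)) (tt N14176 F24335) (tt N10689 (iv D13610)))
theorem Q13589 : ∀ i, i < 13589 → P i := stepQ 13588 Q13588 (allL N13588 (tt N10691 (iv D13611)) (tt N14288 (iv F24543)) (tt N14449 (iv F24898)) (tt N16651 D16682) (tt N16645 (iv F29651)) (tt N14287 F24541))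
theorem Q13590 : ∀ i, i < 13590 → P i := stepQ 13589 Q13589 (allL N13589 (tt N16651 (iv F29663)) (tt N10692 F23192) (tt N16652 D16683) (tt N10691 (iv D13612)) (tt N16653 D16684) (tt N10699 (iv F23193)))
theorem Q13591 : ∀ i, i < 13591 → P i := stepQ 13590 Q13590 (allL N13590 (tt N14287 (iv F24538)) (tt N10693 F23194) (tt N14448 (iv F24896)) (tt N10699 F23195) (tt N14286 F24537) (tt N10691 (iv D13613)))
theorem Q13592 : ∀ i, i < 13592 → P i := stepQ 13591 Q13591 (allL N13591 (tt N10721 F23196) (tt N16653 (iv F29669)) (tt N10700 F23197) (tt N16649 (iv F29657)) (tt N10692 (iv D13614)) (tt N10708 F23198))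
theorem Q13593 : ∀ i, i < 13593 → P i := stepQ 13592 Q13592 (allL N13592 (tt N10696 F23199) (tt N10828 F23200) (tt N16654 D16685) (tt N10695 (iv D13615)) (tt N10718 F23201) (tt N10731 F23202))
theorem Q13594 : ∀ i, i < 13594 → P i := stepQ 13593 Q13593 (allL N13593 (tt N16654 (iv F29671)) (tt N10709 F23203) (tt N10696 (iv D13616)) (tt N16655 D16686) (tt N10711 F23204) (tt N10732 F23205))
theorem Q13595 : ∀ i, i < 13595 → P i := stepQ 13594 Q13594 (allL N13594 (tt N16656 D16687) (tt N10697 (iv D13617)) (tt N10699 F23206) (tt N16657 D16688) (tt N10826 F23207) (tt N16652 (iv F29667)))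
theorem Q13596 : ∀ i, i < 13596 → P i := stepQ 13595 Q13595 (allL N13595 (tt N12207 F23208) (tt N16657 (iv F29683)) (tt N12214 F23209) (tt N10697 (iv D13618)) (tt N16658 D16689) (tt N12212 (iv F23210)))
theorem Q13597 : ∀ i, i < 13597 → P i := stepQ 13596 Q13596 (allL N13596 (tt N12208 F23211) (tt N16652 (iv F29666)) (tt N10698 F23212) (tt N12212 F23213) (tt N16659 D16690) (tt N10697 (iv D13619)))
theorem Q13598 : ∀ i, i < 13598 → P i := stepQ 13597 Q13597 (allL N13597 (tt N12209 F23214) (tt N10700 F23215) (tt N16659 (iv F29689)) (tt N10927 F23216) (tt N10698 (iv D13620)) (tt N10805 F23217))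
theorem Q13599 : ∀ i, i < 13599 → P i := stepQ 13598 Q13598 (allL N13598 (tt N10699 (iv D13621)) (tt N10718 F23218) (tt N16656 (iv F29681)) (tt N14287 (iv F24540)) (tt N10828 F23219) (tt N16651 (iv F29665)))
theorem Q13600 : ∀ i, i < 13600 → P i := stepQ 13599 Q13599 (allL N13599 (tt N10722 F23220) (tt N10927 F23221) (tt N16660 D16691) (tt N10700 (iv D13622)) (tt N10701 F23222) (tt N10802 F23223))
theorem Q13601 : ∀ i, i < 13601 → P i := stepQ 13600 Q13600 (allL N13600 (tt N10723 F23224) (tt N16661 D16692) (tt N10701 (iv D13623)) (tt N10729 F23226) (tt N16660 (iv F29692)) (tt N10702 F23225))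
theorem Q13602 : ∀ i, i < 13602 → P i := stepQ 13601 Q13601 (allL N13601 (tt N16662 D16693) (tt N10702 (iv D13624)) (tt N10924 F23227) (tt N16663 D16694) (tt N10824 F23228) (tt N16661 (iv F29696)))
theorem Q13603 : ∀ i, i < 13603 → P i := stepQ 13602 Q13602 (allL N13602 (tt N10725 F23229) (tt N16663 (iv F29700)) (tt N10726 F23231) (tt N10702 (iv D13625)) (tt N16642 (iv F29644)) (tt N10729 F23230))
theorem Q13604 : ∀ i, i < 13604 → P i := stepQ 13603 Q13603 (allL N13603 (tt N11560 F23232) (tt N10703 (iv D13626)) (tt N10897 F23233) (tt N16664 D16695) (tt N14164 (iv F24313)) (tt N10704 F23234))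
theorem Q13605 : ∀ i, i < 13605 → P i := stepQ 13604 Q13604 (allL N13604 (tt N10726 F23235) (tt N16664 (iv F29704)) (tt N10725 F23236) (tt N10703 (iv D13627)) (tt N16650 (iv F29662)) (tt N10705 F23237))
theorem Q13606 : ∀ i, i < 13606 → P i := stepQ 13605 Q13605 (allL N13605 (tt N10704 (iv D13628)) (tt N10727 F23238) (tt N10895 F23239) (tt N16665 D16696) (tt N10706 F23240) (tt N11560 F23241))
theorem Q13607 : ∀ i, i < 13607 → P i := stepQ 13606 Q13606 (allL N13606 (tt N16665 (iv F29706)) (tt N10705 F23242) (tt N16666 D16697) (tt N10704 (iv D13629)) (tt N16667 D16698) (tt N16664 (iv F29705)))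
theorem Q13608 : ∀ i, i < 13608 → P i := stepQ 13607 Q13607 (allL N13607 (tt N10729 F23243) (tt N16668 D16699) (tt N10705 (iv D13630)) (tt N10723 F23244) (tt N16669 D16700) (tt N10725 F23245))
theorem Q13609 : ∀ i, i < 13609 → P i := stepQ 13608 Q13608 (allL N13608 (tt N10730 F23246) (tt N16667 (iv F29709)) (tt N16669 (iv F29714)) (tt N10708 F23247) (tt N10705 (iv D13631)) (tt N16649 F29658))
theorem Q13610 : ∀ i, i < 13610 → P i := stepQ 13609 Q13609 (allL N13609 (tt N10707 F23248) (tt N10731 F23249) (tt N16670 D16701) (tt N10706 (iv D13632)) (tt N16671 D16702) (tt N10828 F23250))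
theorem Q13611 : ∀ i, i < 13611 → P i := stepQ 13610 Q13610 (allL N13610 (tt N16670 (iv F29715)) (tt N10804 F23251) (tt N10707 (iv D13633)) (tt N16672 D16703) (tt N16673 D16704) (tt N10826 F23252))
theorem Q13612 : ∀ i, i < 13612 → P i := stepQ 13611 Q13611 (allL N13611 (tt N16671 (iv F29717)) (tt N10708 F23253) (tt N16673 (iv F29722)) (tt N16667 (iv F29710)) (tt N10707 (iv D13634)) (tt N16653 (iv F29670)))
theorem Q13613 : ∀ i, i < 13613 → P i := stepQ 13612 Q13612 (allL N13612 (tt N11994 F23254) (tt N16655 (iv F29677)) (tt N12002 F23255) (tt N10709 (iv D13635)) (tt N16674 D16705) (tt N12000 (iv F23256)))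
theorem Q13614 : ∀ i, i < 13614 → P i := stepQ 13613 Q13613 (allL N13613 (tt N11995 F23257) (tt N10732 F23258) (tt N10710 F23259) (tt N12000 F23260) (tt N16675 D16706) (tt N10709 (iv D13636)))
theorem Q13615 : ∀ i, i < 13615 → P i := stepQ 13614 Q13614 (allL N13614 (tt N11996 F23261) (tt N10715 F23262) (tt N16675 (iv F29728)) (tt N10874 F23263) (tt N10710 (iv D13637)) (tt N10714 F23264))
theorem Q13616 : ∀ i, i < 13616 → P i := stepQ 13615 Q13615 (allL N13615 (tt N10711 (iv D13638)) (tt N12646 F23265) (tt N10718 F23266) (tt N16676 D16707) (tt N16654 (iv F29673)) (tt N16677 D16708))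
theorem Q13617 : ∀ i, i < 13617 → P i := stepQ 13616 Q13616 (allL N13616 (tt N16676 (iv F29730)) (tt N10712 F23267) (tt N14355 (iv F24730)) (tt N10711 (iv D13639)) (tt N16678 D16709) (tt N12057 (iv F23268)))
theorem Q13618 : ∀ i, i < 13618 → P i := stepQ 13617 Q13617 (allL N13617 (tt N16677 (iv F29733)) (tt N10713 F23269) (tt N10720 F23270) (tt N12057 F23271) (tt N16679 D16710) (tt N10711 (iv D13640)))
theorem Q13619 : ∀ i, i < 13619 → P i := stepQ 13618 Q13618 (allL N13618 (tt N12649 F23275) (tt N16678 (iv F29737)) (tt N12058 F23276) (tt N16674 (iv F29725)) (tt N10712 (iv D13641)) (tt N16680 D16711))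
theorem Q13620 : ∀ i, i < 13620 → P i := stepQ 13619 Q13619 (allL N13619 (tt N12650 F23277) (tt N16679 (iv F29738)) (tt N10714 F23278) (tt N16681 D16712) (tt N10713 (iv D13642)) (tt N16675 (iv F29729)))
theorem Q13621 : ∀ i, i < 13621 → P i := stepQ 13620 Q13620 (allL N13620 (tt N10802 F23279) (tt N10874 F23280) (tt N16682 D16713) (tt N10715 (iv D13643)) (tt N10716 F23281) (tt N10722 F23282))
theorem Q13622 : ∀ i, i < 13622 → P i := stepQ 13621 Q13621 (allL N13621 (tt N10801 F23283) (tt N16683 D16714) (tt N10716 (iv D13644)) (tt N10799 F23284) (tt N16682 (iv F29747)) (tt N10717 F23285))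
theorem Q13623 : ∀ i, i < 13623 → P i := stepQ 13622 Q13622 (allL N13622 (tt N16684 D16715) (tt N10717 (iv D13645)) (tt N10871 F23286) (tt N10800 F23287) (tt N10724 F23288) (tt N16683 (iv F29751)))
theorem Q13624 : ∀ i, i < 13624 → P i := stepQ 13623 Q13623 (allL N13623 (tt N10720 F23289) (tt N16651 (iv F29664)) (tt N16677 (iv F29735)) (tt N14288 (iv F24545)) (tt N16685 D16716) (tt N10718 (iv D13646)))
theorem Q13625 : ∀ i, i < 13625 → P i := stepQ 13624 Q13624 (allL N13624 (tt N16685 (iv F29756)) (tt N10721 F23290) (tt N16679 (iv F29739)) (tt N16686 D16717) (tt N10720 (iv D13647)) (tt N10733 F23291))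
theorem Q13626 : ∀ i, i < 13626 → P i := stepQ 13625 Q13625 (allL N13625 (tt N16649 (iv F29656)) (tt N16686 (iv F29758)) (tt N16687 D16718) (tt N10721 (iv D13648)) (tt N16638 (iv F29637)) (tt N10730 F23292))
theorem Q13627 : ∀ i, i < 13627 → P i := stepQ 13626 Q13626 (allL N13626 (tt N16660 (iv F29691)) (tt N16688 D16719) (tt N10722 (iv D13649)) (tt N16689 D16720) (tt N10723 F23293) (tt N16682 (iv F29748)))
theorem Q13628 : ∀ i, i < 13628 → P i := stepQ 13627 Q13627 (allL N13627 (tt N16690 D16721) (tt N10723 (iv D13650)) (tt N10877 F23294) (tt N16668 (iv F29711)) (tt N16688 (iv F29763)) (tt N10724 F23295))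
theorem Q13629 : ∀ i, i < 13629 → P i := stepQ 13628 Q13628 (allL N13628 (tt N10724 (iv D13651)) (tt N16662 (iv F29697)) (tt N10875 F23296) (tt N16691 D16722) (tt N16684 (iv F29755)) (tt N16690 (iv F29765)))
theorem Q13630 : ∀ i, i < 13630 → P i := stepQ 13629 Q13629 (allL N13629 (tt N16691 (iv F29766)) (tt N10725 F23297) (tt N16692 D16723) (tt N10724 (iv D13652)) (tt N16693 D16724) (tt N16668 (iv F29712)))
theorem Q13631 : ∀ i, i < 13631 → P i := stepQ 13630 Q13630 (allL N13630 (tt N16642 (iv F29643)) (tt N16693 (iv F29767)) (tt N16650 (iv F29660)) (tt N10797 F23298) (tt N10725 (iv D13653)) (tt N16648 F29655))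
theorem Q13632 : ∀ i, i < 13632 → P i := stepQ 13631 Q13631 (allL N13631 (tt N16650 (iv F29659)) (tt N11563 F23299) (tt N16642 (iv F29645)) (tt N14178 (iv F24343)) (tt N10726 (iv D13654)) (tt N16638 (iv F29638)))
theorem Q13633 : ∀ i, i < 13633 → P i := stepQ 13632 Q13632 (allL N13632 (tt N10728 F23300) (tt N16665 (iv F29707)) (tt N11549 F23302) (tt N10727 (iv D13655)) (tt N16694 D16725) (tt N11561 F23301))
theorem Q13634 : ∀ i, i < 13634 → P i := stepQ 13633 Q13633 (allL N13633 (tt N11549 F23303) (tt N16695 D16726) (tt N10728 (iv D13656)) (tt N11546 F23305) (tt N16696 D16727) (tt N11562 F23304))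
theorem Q13635 : ∀ i, i < 13635 → P i := stepQ 13634 Q13634 (allL N13634 (tt N16694 (iv F29769)) (tt N10730 F23306) (tt N16696 (iv F29776)) (tt N10733 F23307) (tt N10728 (iv D13657)) (tt N16686 (iv F29760)))
theorem Q13636 : ∀ i, i < 13636 → P i := stepQ 13635 Q13635 (allL N13635 (tt N16697 D16728) (tt N10729 (iv D13658)) (tt N16695 (iv F29772)) (tt N16661 (iv F29695)) (tt N16698 D16729) (tt N16663 (iv F29701)))
theorem Q13637 : ∀ i, i < 13637 → P i := stepQ 13636 Q13636 (allL N13636 (tt N16669 (iv F29713)) (tt N16698 (iv F29777)) (tt N10730 F23308) (tt N16699 D16730) (tt N10729 (iv D13659)) (tt N16687 (iv F29761)))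
theorem Q13638 : ∀ i, i < 13638 → P i := stepQ 13637 Q13637 (allL N13637 (tt N10732 F23309) (tt N16700 D16731) (tt N10731 (iv D13660)) (tt N11232 F23310) (tt N16701 D16732) (tt N16654 (iv F29674)))
theorem Q13639 : ∀ i, i < 13639 → P i := stepQ 13638 Q13638 (allL N13638 (tt N10733 F23311) (tt N16671 (iv F29718)) (tt N16701 (iv F29782)) (tt N16694 (iv F29771)) (tt N10731 (iv D13661)) (tt N16685 (iv F29757)))
theorem Q13640 : ∀ i, i < 13640 → P i := stepQ 13639 Q13639 (allL N13639 (tt N11232 F23312) (tt N12000 F23313) (tt N11229 F23314) (tt N10732 (iv D13662)) (tt N14234 (iv F24457)) (tt N16655 (iv F29679)))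
theorem Q13641 : ∀ i, i < 13641 → P i := stepQ 13640 Q13640 (allL N13640 (tt N16701 (iv F29781)) (tt N16675 (iv F29727)) (tt N10733 F23315) (tt N16702 D16733) (tt N10732 (iv D13663)) (tt N16679 (iv F29740)))
theorem Q13642 : ∀ i, i < 13642 → P i := stepQ 13641 Q13641 (allL N13641 (tt N16703 D16734) (tt N10734 (iv D13664)) (tt N11179 F23316) (tt N12648 F23317) (tt N16704 D16735) (tt N12647 F23318))
theorem Q13643 : ∀ i, i < 13643 → P i := stepQ 13642 Q13642 (allL N13642 (tt N12055 F23319) (tt N16704 (iv F29787)) (tt N10735 F23320) (tt N16705 D16736) (tt N10734 (iv D13665)) (tt N16706 D16737))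
theorem Q13644 : ∀ i, i < 13644 → P i := stepQ 13643 Q13643 (allL N13643 (tt N12056 F23321) (tt N11178 F23322) (tt N16706 (iv F29792)) (tt N10880 F23323) (tt N14574 (iv F25124)) (tt N10735 (iv D13666)))
theorem Q13645 : ∀ i, i < 13645 → P i := stepQ 13644 Q13644 (allL N13644 (tt N11219 F23324) (tt N10736 (iv D13667)) (tt N11427 F23325) (tt N16707 D16738) (tt N14145 (iv F24270)) (tt N11216 F23326))
theorem Q13646 : ∀ i, i < 13646 → P i := stepQ 13645 Q13645 (allL N13645 (tt N10737 F23327) (tt N16707 (iv F29795)) (tt N16655 (iv F29678)) (tt N10736 (iv D13668)) (tt N16708 D16739) (tt N11229 F23328))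
theorem Q13647 : ∀ i, i < 13647 → P i := stepQ 13646 Q13646 (allL N13646 (tt N16655 (iv F29676)) (tt N16709 D16740) (tt N10737 (iv D13669)) (tt N16654 (iv F29672)) (tt N16710 D16741) (tt N11232 F23329))
theorem Q13648 : ∀ i, i < 13648 → P i := stepQ 13647 Q13647 (allL N13647 (tt N16708 (iv F29798)) (tt N11243 F23330) (tt N16710 (iv F29803)) (tt N14159 (iv F24302)) (tt N10737 (iv D13670)) (tt N16711 D16742))
theorem Q13649 : ∀ i, i < 13649 → P i := stepQ 13648 Q13648 (allL N13648 (tt N10739 F23331) (tt N10742 F23332) (tt N14318 (iv F24637)) (tt N11330 F23333) (tt N10738 (iv D13671)) (tt N11329 (iv F23334)))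
theorem Q13650 : ∀ i, i < 13650 → P i := stepQ 13649 Q13649 (allL N13649 (tt N11330 F23342) (tt N10740 F23343) (tt N11327 F23345) (tt N10739 (iv D13672)) (tt N12842 F23344) (tt N11326 F23346))
theorem Q13651 : ∀ i, i < 13651 → P i := stepQ 13650 Q13650 (allL N13650 (tt N11329 F23347) (tt N10741 F23348) (tt N14320 (iv F24643)) (tt N11326 F23349) (tt N11329 F23350) (tt N10739 (iv D13673)))
theorem Q13652 : ∀ i, i < 13652 → P i := stepQ 13651 Q13651 (allL N13651 (tt N10751 F23351) (tt N16378 (iv F29103)) (tt N10740 (iv D13674)) (tt N13541 F23352) (tt N16609 (iv F29568)) (tt N13540 (iv F23353)))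
theorem Q13653 : ∀ i, i < 13653 → P i := stepQ 13652 Q13652 (allL N13652 (tt N10752 F23354) (tt N11326 F23355) (tt N13540 F23356) (tt N10741 F23357) (tt N11667 F23358) (tt N10740 (iv D13675)))
theorem Q13654 : ∀ i, i < 13654 → P i := stepQ 13653 Q13653 (allL N13653 (tt N10748 F23363) (tt N11329 F23364) (tt N10743 F23365) (tt N11328 F23366) (tt N10741 (iv D13676)) (tt N10742 F23367))
theorem Q13655 : ∀ i, i < 13655 → P i := stepQ 13654 Q13654 (allL N13654 (tt N10747 F23368) (tt N11330 F23369) (tt N11333 (iv F23372)) (tt N10742 (iv D13677)) (tt N10769 F23370) (tt N11328 F23371))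
theorem Q13656 : ∀ i, i < 13656 → P i := stepQ 13655 Q13655 (allL N13655 (tt N10753 F23373) (tt N14260 (iv F24495)) (tt N16712 D16743) (tt N10743 (iv D13678)) (tt N13356 F23374) (tt N10744 F23375))
theorem Q13657 : ∀ i, i < 13657 → P i := stepQ 13656 Q13656 (allL N13656 (tt N10754 F23376) (tt N16713 D16744) (tt N10744 (iv D13679)) (tt N16714 D16745) (tt N10745 F23377) (tt N16712 (iv F29808)))
theorem Q13658 : ∀ i, i < 13658 → P i := stepQ 13657 Q13657 (allL N13657 (tt N16715 D16746) (tt N10745 (iv D13680)) (tt N14243 F24467) (tt N13556 F23378) (tt N16713 (iv F29809)) (tt N13535 F23379))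
theorem Q13659 : ∀ i, i < 13659 → P i := stepQ 13658 Q13658 (allL N13658 (tt N10769 F23380) (tt N10749 F23381) (tt N11661 (iv F23383)) (tt N10746 (iv D13681)) (tt N10747 F23382) (tt N12865 (iv F23384)))
theorem Q13660 : ∀ i, i < 13660 → P i := stepQ 13659 Q13659 (allL N13659 (tt N10770 F23385) (tt N10750 F23386) (tt N10763 F23387) (tt N12865 F23388) (tt N10750 F23389) (tt N10746 (iv D13682)))
theorem Q13661 : ∀ i, i < 13661 → P i := stepQ 13660 Q13660 (allL N13660 (tt N11333 F23390) (tt N16431 (iv F29195)) (tt N10747 (iv D13683)) (tt N13674 (iv F23430)) (tt N11661 F23391) (tt N11331 (iv F23392)))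
theorem Q13662 : ∀ i, i < 13662 → P i := stepQ 13661 Q13661 (allL N13661 (tt N11328 F23393) (tt N10752 F23394) (tt N11331 F23395) (tt N10748 F23396) (tt N11668 F23397) (tt N10747 (iv D13684)))
theorem Q13663 : ∀ i, i < 13663 → P i := stepQ 13662 Q13662 (allL N13662 (tt N16609 (iv F29566)) (tt N16592 (iv F29525)) (tt N10749 (iv D13685)) (tt N16716 D16747) (tt N10751 F23398) (tt N16717 D16748))
theorem Q13664 : ∀ i, i < 13664 → P i := stepQ 13663 Q13663 (allL N13663 (tt N12843 F23399) (tt N12865 F23400) (tt N16717 (iv F29821)) (tt N10750 F23401) (tt N12845 (iv F23402)) (tt N10749 (iv D13686)))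
theorem Q13665 : ∀ i, i < 13665 → P i := stepQ 13664 Q13664 (allL N13664 (tt N16390 (iv F29135)) (tt N10751 (iv D13687)) (tt N16431 (iv F29196)) (tt N16718 D16749) (tt N16592 (iv F29526)) (tt N16388 F29131))
theorem Q13666 : ∀ i, i < 13666 → P i := stepQ 13665 Q13665 (allL N13665 (tt N13541 F23403) (tt N16718 (iv F29824)) (tt N12753 F23404) (tt N10751 (iv D13688)) (tt N16719 D16750) (tt N12752 F23405))
theorem Q13667 : ∀ i, i < 13667 → P i := stepQ 13666 Q13666 (allL N13666 (tt N13540 F23406) (tt N16388 (iv F29127)) (tt N10752 F23407) (tt N12752 F23408) (tt N16379 (iv F29109)) (tt N10751 (iv D13689)))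
theorem Q13668 : ∀ i, i < 13668 → P i := stepQ 13667 Q13667 (allL N13667 (tt N11667 F23409) (tt N11668 F23410) (tt N16379 (iv F29107)) (tt N11668 F23411) (tt N10752 (iv D13690)) (tt N12845 F23412))
theorem Q13669 : ∀ i, i < 13669 → P i := stepQ 13668 Q13668 (allL N13668 (tt N16712 (iv F29806)) (tt N13670 (iv F23418)) (tt N10753 (iv D13691)) (tt N13669 F23417) (tt N13359 F23413) (tt N10754 F23414))
theorem Q13670 : ∀ i, i < 13670 → P i := stepQ 13669 Q13669 (allL N13669 (tt N16720 D16751) (tt N10754 (iv D13692)) (tt N10757 F23415) (tt N13668 (iv F23417)) (tt N10755 F23416) (tt N13670 (iv F23419)))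
theorem Q13671 : ∀ i, i < 13671 → P i := stepQ 13670 Q13670 (allL N13670 (tt N16714 (iv F29810)) (tt N13668 F23418) (tt N11332 F23420) (tt N10754 (iv D13693)) (tt N12875 (iv F23421)) (tt N13669 F23419))
theorem Q13672 : ∀ i, i < 13672 → P i := stepQ 13671 Q13671 (allL N13671 (tt N10755 (iv D13694)) (tt N16715 (iv F29813)) (tt N10758 F23422) (tt N16721 D16752) (tt N16720 (iv F29831)) (tt N13536 F23423))
theorem Q13673 : ∀ i, i < 13673 → P i := stepQ 13672 Q13672 (allL N13672 (tt N16721 (iv F29833)) (tt N10756 F23424) (tt N16722 D16753) (tt N10755 (iv D13695)) (tt N16430 F29194) (tt N13537 F23425))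
theorem Q13674 : ∀ i, i < 13674 → P i := stepQ 13673 Q13673 (allL N13673 (tt N13557 F23426) (tt N16430 (iv F29192)) (tt N13555 F23427) (tt N12875 F23428) (tt N10756 (iv D13696)) (tt N16427 (iv F29190)))
theorem Q13675 : ∀ i, i < 13675 → P i := stepQ 13674 Q13674 (allL N13674 (tt N10757 (iv D13697)) (tt N13532 F23429) (tt N16720 (iv F29829)) (tt N13660 F23430) (tt N10758 F23431) (tt N14344 (iv F24702)))
theorem Q13676 : ∀ i, i < 13676 → P i := stepQ 13675 Q13675 (allL N13675 (tt N16587 (iv F29504)) (tt N10762 F23432) (tt N15230 (iv F26624)) (tt N10759 (iv D13698)) (tt N10760 F23433) (tt N16723 D16754))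
theorem Q13677 : ∀ i, i < 13677 → P i := stepQ 13676 Q13676 (allL N13676 (tt N16588 (iv F29507)) (tt N10763 F23434) (tt N16607 (iv F29560)) (tt N16723 (iv F29840)) (tt N16607 (iv F29562)) (tt N10759 (iv D13699)))
theorem Q13678 : ∀ i, i < 13678 → P i := stepQ 13677 Q13677 (allL N13677 (tt N16608 (iv F29563)) (tt N15232 (iv F26631)) (tt N10760 (iv D13700)) (tt N16724 D16755) (tt N15230 F26625) (tt N16725 D16756))
theorem Q13679 : ∀ i, i < 13679 → P i := stepQ 13678 Q13678 (allL N13678 (tt N10942 F23435) (tt N10765 F23436) (tt N16725 (iv F29845)) (tt N10761 F23437) (tt N15456 (iv F27088)) (tt N10760 (iv D13701)))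
theorem Q13680 : ∀ i, i < 13680 → P i := stepQ 13679 Q13679 (allL N13679 (tt N10771 F23438) (tt N11659 (iv F23441)) (tt N10762 (iv D13702)) (tt N11656 F23440) (tt N10764 F23439) (tt N11655 (iv F23442)))
theorem Q13681 : ∀ i, i < 13681 → P i := stepQ 13680 Q13680 (allL N13680 (tt N10772 F23443) (tt N16723 (iv F29838)) (tt N11655 F23444) (tt N10763 F23445) (tt N16726 D16757) (tt N10762 (iv D13703)))
theorem Q13682 : ∀ i, i < 13682 → P i := stepQ 13681 Q13681 (allL N13681 (tt N16727 D16758) (tt N10764 (iv D13704)) (tt N15232 (iv F26632)) (tt N12563 F23446) (tt N11659 F23447) (tt N12616 F23448))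
theorem Q13683 : ∀ i, i < 13683 → P i := stepQ 13682 Q13682 (allL N13682 (tt N10776 F23449) (tt N15456 (iv F27087)) (tt N12618 F23450) (tt N10982 F23451) (tt N10765 (iv D13705)) (tt N16726 (iv F29849)))
theorem Q13684 : ∀ i, i < 13684 → P i := stepQ 13683 Q13683 (allL N13683 (tt N13750 (iv F23582)) (tt N10767 F23452) (tt N16728 D16759) (tt N10766 (iv D13706)) (tt N16729 D16760) (tt N13554 F23453))
theorem Q13685 : ∀ i, i < 13685 → P i := stepQ 13684 Q13684 (allL N13684 (tt N10778 F23454) (tt N16729 (iv F29857)) (tt N13538 F23455) (tt N11046 F23456) (tt N10767 (iv D13707)) (tt N16730 D16761))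
theorem Q13686 : ∀ i, i < 13686 → P i := stepQ 13685 Q13685 (allL N13685 (tt N16731 D16762) (tt N10771 (iv D13708)) (tt N16611 (iv F29573)) (tt N16732 D16763) (tt N10773 F23457) (tt N16733 D16764))
theorem Q13687 : ∀ i, i < 13687 → P i := stepQ 13686 Q13686 (allL N13686 (tt N11656 F23458) (tt N16732 (iv F29868)) (tt N11662 F23459) (tt N10771 (iv D13709)) (tt N16591 (iv F29523)) (tt N11654 F23460))
theorem Q13688 : ∀ i, i < 13688 → P i := stepQ 13687 Q13687 (allL N13687 (tt N11655 F23461) (tt N16733 (iv F29872)) (tt N10772 F23462) (tt N11654 F23463) (tt N16734 D16765) (tt N10771 (iv D13710)))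
theorem Q13689 : ∀ i, i < 13689 → P i := stepQ 13688 Q13688 (allL N13688 (tt N16726 (iv F29846)) (tt N10980 F23464) (tt N16734 (iv F29875)) (tt N10985 F23465) (tt N10772 (iv D13711)) (tt N10776 F23466))
theorem Q13690 : ∀ i, i < 13690 → P i := stepQ 13689 Q13689 (allL N13689 (tt N10773 (iv D13712)) (tt N16727 (iv F29850)) (tt N16612 (iv F29576)) (tt N16735 D16766) (tt N16731 (iv F29864)) (tt N16736 D16767))
theorem Q13691 : ∀ i, i < 13691 → P i := stepQ 13690 Q13690 (allL N13690 (tt N16735 (iv F29877)) (tt N10774 F23467) (tt N16737 D16768) (tt N10773 (iv D13713)) (tt N16738 D16769) (tt N12612 (iv F23468)))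
theorem Q13692 : ∀ i, i < 13692 → P i := stepQ 13691 Q13691 (allL N13691 (tt N16736 (iv F29881)) (tt N10775 F23469) (tt N10978 F23470) (tt N12612 F23471) (tt N16739 D16770) (tt N10773 (iv D13714)))
theorem Q13693 : ∀ i, i < 13693 → P i := stepQ 13692 Q13692 (allL N13692 (tt N12610 F23472) (tt N16738 (iv F29888)) (tt N12609 F23473) (tt N16591 (iv F29522)) (tt N10774 (iv D13715)) (tt N16740 D16771))
theorem Q13694 : ∀ i, i < 13694 → P i := stepQ 13693 Q13693 (allL N13693 (tt N12618 F23474) (tt N16739 (iv F29889)) (tt N10776 F23475) (tt N16741 D16772) (tt N10775 (iv D13716)) (tt N16734 (iv F29876)))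
theorem Q13695 : ∀ i, i < 13695 → P i := stepQ 13694 Q13694 (allL N13694 (tt N16742 D16773) (tt N10777 (iv D13717)) (tt N13752 (iv F23587)) (tt N13535 F23476) (tt N16743 D16774) (tt N13556 F23477))
theorem Q13696 : ∀ i, i < 13696 → P i := stepQ 13695 Q13695 (allL N13695 (tt N13538 F23478) (tt N16743 (iv F29899)) (tt N10778 F23479) (tt N16744 D16775) (tt N10777 (iv D13718)) (tt N16745 D16776))
theorem Q13697 : ∀ i, i < 13697 → P i := stepQ 13696 Q13696 (allL N13696 (tt N16730 (iv F29859)) (tt N13754 (iv F23590)) (tt N16745 (iv F29903)) (tt N11049 F23480) (tt N13558 F23481) (tt N10778 (iv D13719)))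
theorem Q13698 : ∀ i, i < 13698 → P i := stepQ 13697 Q13697 (allL N13697 (tt N10782 F23482) (tt N14960 (iv F25951)) (tt N10779 (iv D13720)) (tt N14959 F25949) (tt N14431 (iv F24865)) (tt N15372 (iv F26924)))
theorem Q13699 : ∀ i, i < 13699 → P i := stepQ 13698 Q13698 (allL N13698 (tt N14431 (iv F24864)) (tt N10790 F23483) (tt N10780 (iv D13721)) (tt N16746 D16777) (tt N10782 F23484) (tt N16747 D16778))
theorem Q13700 : ∀ i, i < 13700 → P i := stepQ 13699 Q13699 (allL N13699 (tt N14432 (iv F24866)) (tt N10786 F23485) (tt N16747 (iv F29907)) (tt N10781 F23486) (tt N16748 D16779) (tt N10780 (iv D13722)))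
theorem Q13701 : ∀ i, i < 13701 → P i := stepQ 13700 Q13700 (allL N13700 (tt N15373 (iv F26925)) (tt N10787 F23487) (tt N15374 (iv F26928)) (tt N16749 D16780) (tt N10783 (iv D13723)) (tt N16748 (iv F29909)))
theorem Q13702 : ∀ i, i < 13702 → P i := stepQ 13701 Q13701 (allL N13701 (tt N13727 (iv F23535)) (tt N10788 F23488) (tt N16750 D16781) (tt N10784 (iv D13724)) (tt N16749 (iv F29911)) (tt N10785 F23489))
theorem Q13703 : ∀ i, i < 13703 → P i := stepQ 13702 Q13702 (allL N13702 (tt N13726 (iv F23534)) (tt N16751 D16782) (tt N10785 (iv D13725)) (tt N16752 D16783) (tt N16639 (iv F29639)) (tt N16750 (iv F29912)))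
theorem Q13704 : ∀ i, i < 13704 → P i := stepQ 13703 Q13703 (allL N13703 (tt N10795 F23490) (tt N16748 (iv F29908)) (tt N10795 F23491) (tt N16644 (iv F29649)) (tt N10786 (iv D13726)) (tt N10787 F23492))
theorem Q13705 : ∀ i, i < 13705 → P i := stepQ 13704 Q13704 (allL N13704 (tt N10798 F23493) (tt N16749 (iv F29910)) (tt N16753 D16784) (tt N10787 (iv D13727)) (tt N10788 F23494) (tt N16644 (iv F29650)))
theorem Q13706 : ∀ i, i < 13706 → P i := stepQ 13705 Q13705 (allL N13705 (tt N10799 F23495) (tt N16754 D16785) (tt N10788 (iv D13728)) (tt N10801 F23496) (tt N16753 (iv F29915)) (tt N10789 F23497))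
theorem Q13707 : ∀ i, i < 13707 → P i := stepQ 13706 Q13706 (allL N13706 (tt N16755 D16786) (tt N10789 (iv D13729)) (tt N16751 (iv F29913)) (tt N10824 F23498) (tt N16641 (iv F29642)) (tt N16754 (iv F29917)))
theorem Q13708 : ∀ i, i < 13708 → P i := stepQ 13707 Q13707 (allL N13707 (tt N14434 (iv F24870)) (tt N16746 (iv F29905)) (tt N14437 (iv F24878)) (tt N10790 (iv D13730)) (tt N15366 (iv F26913)) (tt N14438 (iv F24879)))
theorem Q13709 : ∀ i, i < 13709 → P i := stepQ 13708 Q13708 (allL N13708 (tt N14435 (iv F24872)) (tt N16747 (iv F29906)) (tt N10791 F23499) (tt N14438 (iv F24880)) (tt N15376 (iv F26930)) (tt N10790 (iv D13731)))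
theorem Q13710 : ∀ i, i < 13710 → P i := stepQ 13709 Q13709 (allL N13709 (tt N14410 (iv F24821)) (tt N16756 D16787) (tt N10792 (iv D13732)) (tt N16757 D16788) (tt N14408 (iv F24817)) (tt N16756 F29921))
theorem Q13711 : ∀ i, i < 13711 → P i := stepQ 13710 Q13710 (allL N13710 (tt N14411 (iv F24823)) (tt N10794 F23500) (tt N16756 (iv F29920)) (tt N10793 F23501) (tt N14428 (iv F24856)) (tt N10792 (iv D13733)))
theorem Q13712 : ∀ i, i < 13712 → P i := stepQ 13711 Q13711 (allL N13711 (tt N16644 (iv F29648)) (tt N13739 (iv F23561)) (tt N16758 D16789) (tt N10795 (iv D13734)) (tt N10796 F23502) (tt N10798 F23503))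
theorem Q13713 : ∀ i, i < 13713 → P i := stepQ 13712 Q13712 (allL N13712 (tt N16643 (iv F29646)) (tt N16759 D16790) (tt N10796 (iv D13735)) (tt N16648 (iv F29654)) (tt N16758 (iv F29922)) (tt N10797 F23504))
theorem Q13714 : ∀ i, i < 13714 → P i := stepQ 13713 Q13713 (allL N13713 (tt N16760 D16791) (tt N10797 (iv D13736)) (tt N13736 (iv F23558)) (tt N16693 (iv F29768)) (tt N10800 F23505) (tt N16759 (iv F29924)))
theorem Q13715 : ∀ i, i < 13715 → P i := stepQ 13714 Q13714 (allL N13714 (tt N16753 (iv F29914)) (tt N16761 D16792) (tt N10798 (iv D13737)) (tt N16762 D16793) (tt N10799 F23506) (tt N16758 (iv F29923)))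
theorem Q13716 : ∀ i, i < 13716 → P i := stepQ 13715 Q13715 (allL N13715 (tt N16763 D16794) (tt N10799 (iv D13738)) (tt N13742 (iv F23568)) (tt N16683 (iv F29750)) (tt N16761 (iv F29926)) (tt N10800 F23507))
theorem Q13717 : ∀ i, i < 13717 → P i := stepQ 13716 Q13716 (allL N13716 (tt N10800 (iv D13739)) (tt N16755 (iv F29918)) (tt N13740 (iv F23564)) (tt N16684 (iv F29754)) (tt N16760 (iv F29925)) (tt N16763 (iv F29927)))
theorem Q13718 : ∀ i, i < 13718 → P i := stepQ 13717 Q13717 (allL N13717 (tt N16764 D16795) (tt N10801 (iv D13740)) (tt N10930 F23508) (tt N16754 (iv F29916)) (tt N16765 D16796) (tt N10824 F23509))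
theorem Q13719 : ∀ i, i < 13719 → P i := stepQ 13718 Q13718 (allL N13718 (tt N16682 (iv F29746)) (tt N16765 (iv F29930)) (tt N10802 F23510) (tt N16766 D16797) (tt N10801 (iv D13741)) (tt N16660 (iv F29693)))
theorem Q13720 : ∀ i, i < 13720 → P i := stepQ 13719 Q13719 (allL N13719 (tt N10804 F23511) (tt N16767 D16798) (tt N10803 (iv D13742)) (tt N10831 F23512) (tt N16768 D16799) (tt N10825 F23513))
theorem Q13721 : ∀ i, i < 13721 → P i := stepQ 13720 Q13720 (allL N13720 (tt N10805 F23514) (tt N11996 F23515) (tt N16768 (iv F29936)) (tt N10921 F23516) (tt N10803 (iv D13743)) (tt N12209 F23517))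
theorem Q13722 : ∀ i, i < 13722 → P i := stepQ 13721 Q13721 (allL N13721 (tt N10831 F23518) (tt N16672 (iv F29719)) (tt N10830 F23519) (tt N10804 (iv D13744)) (tt N16769 D16800) (tt N10827 F23520))
theorem Q13723 : ∀ i, i < 13723 → P i := stepQ 13722 Q13722 (allL N13722 (tt N16768 (iv F29935)) (tt N16673 (iv F29721)) (tt N10805 F23521) (tt N16770 D16801) (tt N10804 (iv D13745)) (tt N16659 (iv F29690)))
theorem Q13724 : ∀ i, i < 13724 → P i := stepQ 13723 Q13723 (allL N13723 (tt N11496 F23522) (tt N10989 F23523) (tt N11471 F23524) (tt N11952 F23525) (tt N10841 F23526) (tt N10807 (iv D13746)))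
theorem Q13725 : ∀ i, i < 13725 → P i := stepQ 13724 Q13724 (allL N13724 (tt N13581 F23527) (tt N10811 F23528) (tt N16771 D16802) (tt N10808 (iv D13747)) (tt N10809 F23529) (tt N16772 D16803))
theorem Q13726 : ∀ i, i < 13726 → P i := stepQ 13725 Q13725 (allL N13725 (tt N13582 F23530) (tt N10812 F23531) (tt N13582 F23532) (tt N16772 (iv F29944)) (tt N11435 F23533) (tt N10808 (iv D13748)))
theorem Q13727 : ∀ i, i < 13727 → P i := stepQ 13726 Q13726 (allL N13726 (tt N13702 F23534) (tt N16773 D16804) (tt N10809 (iv D13749)) (tt N16774 D16805) (tt N16771 (iv F29941)) (tt N16775 D16806))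
theorem Q13728 : ∀ i, i < 13728 → P i := stepQ 13727 Q13727 (allL N13727 (tt N13701 F23535) (tt N10814 F23536) (tt N16775 (iv F29950)) (tt N10810 F23537) (tt N16776 D16807) (tt N10809 (iv D13750)))
theorem Q13729 : ∀ i, i < 13729 → P i := stepQ 13728 Q13728 (allL N13728 (tt N10818 F23538) (tt N16777 D16808) (tt N10811 (iv D13751)) (tt N16778 D16809) (tt N10813 F23539) (tt N16779 D16810))
theorem Q13730 : ∀ i, i < 13730 → P i := stepQ 13729 Q13729 (allL N13729 (tt N10819 F23540) (tt N16772 (iv F29943)) (tt N16779 (iv F29958)) (tt N10812 F23541) (tt N16780 D16811) (tt N10811 (iv D13752)))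
theorem Q13731 : ∀ i, i < 13731 → P i := stepQ 13730 Q13730 (allL N13730 (tt N16781 D16812) (tt N10813 (iv D13753)) (tt N16773 (iv F29945)) (tt N10859 F23542) (tt N16777 (iv F29954)) (tt N10858 F23543))
theorem Q13732 : ∀ i, i < 13732 → P i := stepQ 13731 Q13731 (allL N13731 (tt N10823 F23544) (tt N16776 (iv F29952)) (tt N10860 F23545) (tt N12302 F23546) (tt N10814 (iv D13754)) (tt N16780 (iv F29963)))
theorem Q13733 : ∀ i, i < 13733 → P i := stepQ 13732 Q13732 (allL N13732 (tt N13573 F23547) (tt N10816 F23548) (tt N16782 D16813) (tt N10815 (iv D13755)) (tt N11418 F23549) (tt N16783 D16814))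
theorem Q13734 : ∀ i, i < 13734 → P i := stepQ 13733 Q13733 (allL N13733 (tt N13574 F23550) (tt N10817 F23551) (tt N13574 F23552) (tt N16783 (iv F29971)) (tt N11414 F23553) (tt N10815 (iv D13756)))
theorem Q13735 : ∀ i, i < 13735 → P i := stepQ 13734 Q13734 (allL N13734 (tt N11441 F23554) (tt N16784 D16815) (tt N10816 (iv D13757)) (tt N16785 D16816) (tt N11424 F23555) (tt N16786 D16817))
theorem Q13736 : ∀ i, i < 13736 → P i := stepQ 13735 Q13735 (allL N13735 (tt N11440 F23556) (tt N16783 (iv F29970)) (tt N16786 (iv F29975)) (tt N10817 F23557) (tt N16787 D16818) (tt N10816 (iv D13758)))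
theorem Q13737 : ∀ i, i < 13737 → P i := stepQ 13736 Q13736 (allL N13736 (tt N16788 D16819) (tt N10818 (iv D13759)) (tt N13713 F23558) (tt N16789 D16820) (tt N10820 F23559) (tt N16790 D16821))
theorem Q13738 : ∀ i, i < 13738 → P i := stepQ 13737 Q13737 (allL N13737 (tt N16778 (iv F29955)) (tt N16789 (iv F29981)) (tt N16791 D16822) (tt N10818 (iv D13760)) (tt N16792 D16823) (tt N16793 D16824))
theorem Q13739 : ∀ i, i < 13739 → P i := stepQ 13738 Q13738 (allL N13738 (tt N16779 (iv F29957)) (tt N16790 (iv F29982)) (tt N10819 F23560) (tt N16793 (iv F29989)) (tt N16794 D16825) (tt N10818 (iv D13761)))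
theorem Q13740 : ∀ i, i < 13740 → P i := stepQ 13739 Q13739 (allL N13739 (tt N16780 (iv F29960)) (tt N13711 F23561) (tt N16794 (iv F29991)) (tt N12305 F23562) (tt N10819 (iv D13762)) (tt N10823 F23563))
theorem Q13741 : ∀ i, i < 13741 → P i := stepQ 13740 Q13740 (allL N13740 (tt N10820 (iv D13763)) (tt N16781 (iv F29964)) (tt N13716 F23564) (tt N16795 D16826) (tt N16788 (iv F29980)) (tt N16796 D16827))
theorem Q13742 : ∀ i, i < 13742 → P i := stepQ 13741 Q13741 (allL N13741 (tt N16795 (iv F29993)) (tt N10821 F23565) (tt N16797 D16828) (tt N10820 (iv D13764)) (tt N16798 D16829) (tt N10848 (iv F23566)))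
theorem Q13743 : ∀ i, i < 13743 → P i := stepQ 13742 Q13742 (allL N13742 (tt N16796 (iv F29996)) (tt N10822 F23567) (tt N13715 F23568) (tt N10848 F23569) (tt N16799 D16830) (tt N10820 (iv D13765)))
theorem Q13744 : ∀ i, i < 13744 → P i := stepQ 13743 Q13743 (allL N13743 (tt N10861 F23570) (tt N16798 (iv F30002)) (tt N10849 F23571) (tt N16792 (iv F29987)) (tt N10821 (iv D13766)) (tt N16800 D16831))
theorem Q13745 : ∀ i, i < 13745 → P i := stepQ 13744 Q13744 (allL N13744 (tt N10860 F23572) (tt N16799 (iv F30003)) (tt N10823 F23573) (tt N16801 D16832) (tt N10822 (iv D13767)) (tt N16794 (iv F29992)))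
theorem Q13746 : ∀ i, i < 13746 → P i := stepQ 13745 Q13745 (allL N13745 (tt N10824 (iv D13768)) (tt N16684 (iv F29752)) (tt N10928 F23574) (tt N16755 (iv F29919)) (tt N16662 (iv F29699)) (tt N16764 (iv F29929)))
theorem Q13747 : ∀ i, i < 13747 → P i := stepQ 13746 Q13746 (allL N13746 (tt N16802 D16833) (tt N10825 (iv D13769)) (tt N11993 F23575) (tt N12645 F23576) (tt N12206 F23577) (tt N16767 (iv F29934)))
theorem Q13748 : ∀ i, i < 13748 → P i := stepQ 13747 Q13747 (allL N13747 (tt N10826 (iv D13770)) (tt N16802 (iv F30010)) (tt N10828 F23578) (tt N16803 D16834) (tt N16656 (iv F29682)) (tt N16670 (iv F29716)))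
theorem Q13749 : ∀ i, i < 13749 → P i := stepQ 13748 Q13748 (allL N13748 (tt N16803 (iv F30014)) (tt N10827 F23579) (tt N16804 D16835) (tt N10826 (iv D13771)) (tt N16805 D16836) (tt N16672 (iv F29720)))
theorem Q13750 : ∀ i, i < 13750 → P i := stepQ 13749 Q13749 (allL N13749 (tt N12644 F23580) (tt N16805 (iv F30017)) (tt N12599 F23581) (tt N16658 (iv F29687)) (tt N10827 (iv D13772)) (tt N16806 D16837))
theorem Q13751 : ∀ i, i < 13751 → P i := stepQ 13750 Q13750 (allL N13750 (tt N13683 F23582) (tt N10830 F23583) (tt N16807 D16838) (tt N10829 (iv D13773)) (tt N16808 D16839) (tt N12633 F23584))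
theorem Q13752 : ∀ i, i < 13752 → P i := stepQ 13751 Q13751 (allL N13751 (tt N10832 F23585) (tt N16808 (iv F30023)) (tt N16769 (iv F29939)) (tt N10923 F23586) (tt N10830 (iv D13774)) (tt N16809 D16840))
theorem Q13753 : ∀ i, i < 13753 → P i := stepQ 13752 Q13752 (allL N13752 (tt N16810 D16841) (tt N10831 (iv D13775)) (tt N13694 F23587) (tt N16767 (iv F29933)) (tt N16811 D16842) (tt N12645 F23588))
theorem Q13754 : ∀ i, i < 13754 → P i := stepQ 13753 Q13753 (allL N13753 (tt N16769 (iv F29938)) (tt N16811 (iv F30030)) (tt N10832 F23589) (tt N16812 D16843) (tt N10831 (iv D13776)) (tt N16813 D16844))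
theorem Q13755 : ∀ i, i < 13755 → P i := stepQ 13754 Q13754 (allL N13754 (tt N16809 (iv F30025)) (tt N13696 F23590) (tt N16813 (iv F30032)) (tt N10933 F23591) (tt N12643 F23592) (tt N10832 (iv D13777)))
theorem Q13756 : ∀ i, i < 13756 → P i := stepQ 13755 Q13755 (allL N13755 (tt N10834 F23593) (tt N10836 F23594) (tt N16814 D16845) (tt N10833 (iv D13778)) (tt N16815 D16846) (tt N10986 F23595))
theorem Q13757 : ∀ i, i < 13757 → P i := stepQ 13756 Q13756 (allL N13756 (tt N16814 (iv F30034)) (tt N11453 F23596) (tt N10834 (iv D13779)) (tt N16816 D16847) (tt N16817 D16848) (tt N11490 F23597))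
theorem Q13758 : ∀ i, i < 13758 → P i := stepQ 13757 Q13757 (allL N13757 (tt N16815 (iv F30037)) (tt N10835 F23598) (tt N16817 (iv F30044)) (tt N14092 (iv F24175)) (tt N10834 (iv D13780)) (tt N16818 D16849))
theorem Q13759 : ∀ i, i < 13759 → P i := stepQ 13758 Q13758 (allL N13758 (tt N10841 F23599) (tt N16818 (iv F30046)) (tt N11455 F23600) (tt N14093 (iv F24177)) (tt N11496 F23601) (tt N10835 (iv D13781)))
theorem Q13760 : ∀ i, i < 13760 → P i := stepQ 13759 Q13759 (allL N13759 (tt N10838 F23602) (tt N16815 (iv F30038)) (tt N10954 F23603) (tt N12246 F23604) (tt N10836 (iv D13782)) (tt N12388 F23605))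
theorem Q13761 : ∀ i, i < 13761 → P i := stepQ 13760 Q13760 (allL N13760 (tt N16819 D16850) (tt N10837 (iv D13783)) (tt N10839 F23606) (tt N10944 F23607) (tt N16820 D16851) (tt N10987 F23608))
theorem Q13762 : ∀ i, i < 13762 → P i := stepQ 13761 Q13761 (allL N13761 (tt N10954 F23609) (tt N16820 (iv F30052)) (tt N10838 F23610) (tt N11860 F23611) (tt N10837 (iv D13784)) (tt N16821 D16852))
theorem Q13763 : ∀ i, i < 13763 → P i := stepQ 13762 Q13762 (allL N13762 (tt N12388 F23612) (tt N10841 F23613) (tt N16821 (iv F30056)) (tt N12286 F23614) (tt N10989 F23615) (tt N10838 (iv D13785)))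
theorem Q13764 : ∀ i, i < 13764 → P i := stepQ 13763 Q13763 (allL N13763 (tt N10839 (iv D13786)) (tt N11452 F23616) (tt N16819 (iv F30049)) (tt N11427 F23617) (tt N16822 D16853) (tt N11469 F23618))
theorem Q13765 : ∀ i, i < 13765 → P i := stepQ 13764 Q13764 (allL N13764 (tt N16822 (iv F30059)) (tt N10840 F23619) (tt N16820 (iv F30053)) (tt N16823 D16854) (tt N10839 (iv D13787)) (tt N16824 D16855))
theorem Q13766 : ∀ i, i < 13766 → P i := stepQ 13765 Q13765 (allL N13765 (tt N11451 F23620) (tt N16823 (iv F30061)) (tt N16825 D16856) (tt N10840 (iv D13788)) (tt N11426 F23621) (tt N16826 D16857))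
theorem Q13767 : ∀ i, i < 13767 → P i := stepQ 13766 Q13766 (allL N13766 (tt N11455 F23622) (tt N16824 (iv F30063)) (tt N10841 F23623) (tt N16826 (iv F30068)) (tt N11471 F23624) (tt N10840 (iv D13789)))
theorem Q13768 : ∀ i, i < 13768 → P i := stepQ 13767 Q13767 (allL N13767 (tt N11704 F23625) (tt N16827 D16858) (tt N10842 (iv D13790)) (tt N16828 D16859) (tt N10844 F23626) (tt N16829 D16860))
theorem Q13769 : ∀ i, i < 13769 → P i := stepQ 13768 Q13768 (allL N13768 (tt N11705 F23627) (tt N10847 F23628) (tt N16829 (iv F30073)) (tt N10843 F23629) (tt N16830 D16861) (tt N10842 (iv D13791)))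
theorem Q13770 : ∀ i, i < 13770 → P i := stepQ 13769 Q13769 (allL N13769 (tt N16831 D16862) (tt N10844 (iv D13792)) (tt N10848 F23630) (tt N16832 D16863) (tt N16827 (iv F30070)) (tt N16797 (iv F30001)))
theorem Q13771 : ∀ i, i < 13771 → P i := stepQ 13770 Q13770 (allL N13770 (tt N15370 (iv F26917)) (tt N16832 (iv F30079)) (tt N15616 (iv F27464)) (tt N10844 (iv D13793)) (tt N16833 D16864) (tt N15622 (iv F27476)))
theorem Q13772 : ∀ i, i < 13772 → P i := stepQ 13771 Q13771 (allL N13771 (tt N14068 (iv F24141)) (tt N16797 (iv F30000)) (tt N10845 F23631) (tt N15622 (iv F27477)) (tt N16834 D16865) (tt N10844 (iv D13794)))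
theorem Q13773 : ∀ i, i < 13773 → P i := stepQ 13772 Q13772 (allL N13772 (tt N14048 (iv F24108)) (tt N10849 F23632) (tt N16834 (iv F30080)) (tt N14047 (iv F24107)) (tt N10845 (iv D13795)) (tt N16830 (iv F30077)))
theorem Q13774 : ∀ i, i < 13774 → P i := stepQ 13773 Q13773 (allL N13773 (tt N16835 D16866) (tt N10846 (iv D13796)) (tt N16827 (iv F30069)) (tt N16836 D16867) (tt N10848 F23633) (tt N16837 D16868))
theorem Q13775 : ∀ i, i < 13775 → P i := stepQ 13774 Q13774 (allL N13774 (tt N10854 F23634) (tt N16836 (iv F30083)) (tt N16838 D16869) (tt N10846 (iv D13797)) (tt N16801 (iv F30009)) (tt N16839 D16870))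
theorem Q13776 : ∀ i, i < 13776 → P i := stepQ 13775 Q13775 (allL N13775 (tt N10855 F23635) (tt N16837 (iv F30084)) (tt N10847 F23636) (tt N16839 (iv F30090)) (tt N16800 (iv F30007)) (tt N10846 (iv D13798)))
theorem Q13777 : ∀ i, i < 13777 → P i := stepQ 13776 Q13776 (allL N13776 (tt N10856 F23637) (tt N16830 (iv F30075)) (tt N16800 (iv F30006)) (tt N11477 F23638) (tt N10847 (iv D13799)) (tt N10849 F23639))
theorem Q13778 : ∀ i, i < 13778 → P i := stepQ 13777 Q13777 (allL N13777 (tt N10848 (iv D13800)) (tt N10857 F23640) (tt N16831 (iv F30078)) (tt N16796 (iv F29999)) (tt N16835 (iv F30082)) (tt N16795 F29995))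
theorem Q13779 : ∀ i, i < 13779 → P i := stepQ 13778 Q13778 (allL N13778 (tt N16840 D16871) (tt N10851 (iv D13801)) (tt N14183 (iv F24356)) (tt N16841 D16872) (tt N11117 F23641) (tt N16842 D16873))
theorem Q13780 : ∀ i, i < 13780 → P i := stepQ 13779 Q13779 (allL N13779 (tt N11125 F23642) (tt N16841 (iv F30093)) (tt N16839 (iv F30089)) (tt N10851 (iv D13802)) (tt N16843 D16874) (tt N16838 F30087))
theorem Q13781 : ∀ i, i < 13781 → P i := stepQ 13780 Q13780 (allL N13780 (tt N11126 F23643) (tt N16842 (iv F30094)) (tt N10852 F23644) (tt N16838 (iv F30086)) (tt N16844 D16875) (tt N10851 (iv D13803)))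
theorem Q13782 : ∀ i, i < 13782 → P i := stepQ 13781 Q13781 (allL N13781 (tt N11127 F23645) (tt N14187 (iv F24363)) (tt N16844 (iv F30098)) (tt N11467 F23646) (tt N10852 (iv D13804)) (tt N11120 F23647))
theorem Q13783 : ∀ i, i < 13783 → P i := stepQ 13782 Q13782 (allL N13782 (tt N10853 (iv D13805)) (tt N16835 (iv F30081)) (tt N15371 (iv F26920)) (tt N16845 D16876) (tt N10857 F23648) (tt N16846 D16877))
theorem Q13784 : ∀ i, i < 13784 → P i := stepQ 13783 Q13783 (allL N13783 (tt N16845 (iv F30100)) (tt N10854 F23649) (tt N16847 D16878) (tt N10853 (iv D13806)) (tt N16848 D16879) (tt N16849 D16880))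
theorem Q13785 : ∀ i, i < 13785 → P i := stepQ 13784 Q13784 (allL N13784 (tt N16846 (iv F30101)) (tt N10855 F23650) (tt N12901 F23651) (tt N16849 (iv F30106)) (tt N16850 D16881) (tt N10853 (iv D13807)))
theorem Q13786 : ∀ i, i < 13786 → P i := stepQ 13785 Q13785 (allL N13785 (tt N16838 (iv F30085)) (tt N16851 D16882) (tt N10854 (iv D13808)) (tt N11126 F23652) (tt N16852 D16883) (tt N11125 (iv F23653)))
theorem Q13787 : ∀ i, i < 13787 → P i := stepQ 13786 Q13786 (allL N13786 (tt N16801 (iv F30008)) (tt N16848 (iv F30103)) (tt N16852 (iv F30112)) (tt N10860 F23654) (tt N10854 (iv D13809)) (tt N16853 D16884))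
theorem Q13788 : ∀ i, i < 13788 → P i := stepQ 13787 Q13787 (allL N13787 (tt N16839 (iv F30088)) (tt N16849 (iv F30105)) (tt N11125 F23655) (tt N10855 F23656) (tt N16854 D16885) (tt N10854 (iv D13810)))
theorem Q13789 : ∀ i, i < 13789 → P i := stepQ 13788 Q13788 (allL N13788 (tt N16800 (iv F30005)) (tt N16850 (iv F30107)) (tt N10856 F23657) (tt N16855 D16886) (tt N10855 (iv D13811)) (tt N10861 F23658))
theorem Q13790 : ∀ i, i < 13790 → P i := stepQ 13789 Q13789 (allL N13789 (tt N10858 F23659) (tt N16796 (iv F29997)) (tt N16856 D16887) (tt N10857 (iv D13812)) (tt N16857 D16888) (tt N16781 (iv F29966)))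
theorem Q13791 : ∀ i, i < 13791 → P i := stepQ 13790 Q13790 (allL N13790 (tt N10859 F23660) (tt N16795 (iv F29994)) (tt N14090 (iv F24171)) (tt N16781 (iv F29965)) (tt N16858 D16889) (tt N10857 (iv D13813)))
theorem Q13792 : ∀ i, i < 13792 → P i := stepQ 13791 Q13791 (allL N13791 (tt N16856 (iv F30116)) (tt N16775 (iv F29949)) (tt N10858 (iv D13814)) (tt N16859 D16890) (tt N16860 D16891) (tt N16773 F29946))
theorem Q13793 : ∀ i, i < 13793 → P i := stepQ 13792 Q13792 (allL N13792 (tt N16857 (iv F30117)) (tt N10860 F23661) (tt N16860 (iv F30119)) (tt N16848 (iv F30104)) (tt N10858 (iv D13815)) (tt N16861 D16892))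
theorem Q13794 : ∀ i, i < 13794 → P i := stepQ 13793 Q13793 (allL N13793 (tt N16858 (iv F30118)) (tt N10861 F23662) (tt N14089 (iv F24168)) (tt N16862 D16893) (tt N10859 (iv D13816)) (tt N16850 (iv F30109)))
theorem Q13795 : ∀ i, i < 13795 → P i := stepQ 13794 Q13794 (allL N13794 (tt N16794 (iv F29990)) (tt N16861 (iv F30120)) (tt N16780 (iv F29961)) (tt N16853 (iv F30113)) (tt N16779 (iv F29959)) (tt N10860 (iv D13817)))
theorem Q13796 : ∀ i, i < 13796 → P i := stepQ 13795 Q13795 (allL N13795 (tt N16792 (iv F29986)) (tt N16862 (iv F30121)) (tt N16863 D16894) (tt N10861 (iv D13818)) (tt N16778 (iv F29956)) (tt N16855 (iv F30115)))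
theorem Q13797 : ∀ i, i < 13797 → P i := stepQ 13796 Q13796 (allL N13796 (tt N12595 F23663) (tt N15042 (iv F26180)) (tt N10862 (iv D13819)) (tt N15837 (iv F27905)) (tt N16864 D16895) (tt N12628 F23664))
theorem Q13798 : ∀ i, i < 13798 → P i := stepQ 13797 Q13797 (allL N13797 (tt N12598 F23665) (tt N10863 F23666) (tt N16864 (iv F30123)) (tt N16614 (iv F29582)) (tt N10862 (iv D13820)) (tt N16865 D16896))
theorem Q13799 : ∀ i, i < 13799 → P i := stepQ 13798 Q13798 (allL N13798 (tt N10866 F23667) (tt N16865 (iv F30125)) (tt N15773 (iv F27792)) (tt N16615 (iv F29585)) (tt N12634 F23668) (tt N10863 (iv D13821)))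
theorem Q13800 : ∀ i, i < 13800 → P i := stepQ 13799 Q13799 (allL N13799 (tt N10864 (iv D13822)) (tt N15041 (iv F26176)) (tt N12579 F23669) (tt N15040 F26174) (tt N15385 (iv F26957)) (tt N12635 F23670))
theorem Q13801 : ∀ i, i < 13801 → P i := stepQ 13800 Q13800 (allL N13800 (tt N16866 D16897) (tt N10867 (iv D13823)) (tt N10920 F23671) (tt N16867 D16898) (tt N10869 F23672) (tt N12218 (iv F23673)))
theorem Q13802 : ∀ i, i < 13802 → P i := stepQ 13801 Q13801 (allL N13801 (tt N10872 F23674) (tt N16867 (iv F30133)) (tt N15716 (iv F27659)) (tt N10867 (iv D13824)) (tt N11378 F23675) (tt N15714 F27655))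
theorem Q13803 : ∀ i, i < 13803 → P i := stepQ 13802 Q13802 (allL N13802 (tt N10873 F23676) (tt N12218 F23677) (tt N10868 F23678) (tt N15714 (iv F27653)) (tt N11377 F23679) (tt N10867 (iv D13825)))
theorem Q13804 : ∀ i, i < 13804 → P i := stepQ 13803 Q13803 (allL N13803 (tt N10874 F23680) (tt N10921 F23681) (tt N11377 F23682) (tt N11996 F23683) (tt N10868 (iv D13826)) (tt N10870 F23684))
theorem Q13805 : ∀ i, i < 13805 → P i := stepQ 13804 Q13804 (allL N13804 (tt N10869 (iv D13827)) (tt N10875 F23685) (tt N12584 F23686) (tt N11373 F23687) (tt N16866 (iv F30129)) (tt N11372 F23688))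
theorem Q13806 : ∀ i, i < 13806 → P i := stepQ 13805 Q13805 (allL N13805 (tt N10871 (iv D13828)) (tt N16866 (iv F30127)) (tt N16684 (iv F29753)) (tt N16868 D16899) (tt N10875 F23689) (tt N16869 D16900))
theorem Q13807 : ∀ i, i < 13807 → P i := stepQ 13806 Q13806 (allL N13806 (tt N16868 (iv F30137)) (tt N10872 F23690) (tt N16870 D16901) (tt N10871 (iv D13829)) (tt N16871 D16902) (tt N16872 D16903))
theorem Q13808 : ∀ i, i < 13808 → P i := stepQ 13807 Q13807 (allL N13807 (tt N16869 (iv F30140)) (tt N10873 F23691) (tt N16683 (iv F29749)) (tt N16872 (iv F30148)) (tt N16873 D16904) (tt N10871 (iv D13830)))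
theorem Q13809 : ∀ i, i < 13809 → P i := stepQ 13808 Q13808 (allL N13808 (tt N15716 (iv F27658)) (tt N12277 (iv F23693)) (tt N10872 (iv D13831)) (tt N11841 F23692) (tt N16874 D16905) (tt N11840 (iv F23694)))
theorem Q13810 : ∀ i, i < 13810 → P i := stepQ 13809 Q13809 (allL N13809 (tt N11378 F23695) (tt N16871 (iv F30145)) (tt N16874 (iv F30153)) (tt N10878 F23696) (tt N10872 (iv D13832)) (tt N16875 D16906))
theorem Q13811 : ∀ i, i < 13811 → P i := stepQ 13810 Q13810 (allL N13810 (tt N15714 (iv F27652)) (tt N16872 (iv F30147)) (tt N11840 F23697) (tt N10873 F23698) (tt N16876 D16907) (tt N10872 (iv D13833)))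
theorem Q13812 : ∀ i, i < 13812 → P i := stepQ 13811 Q13811 (allL N13811 (tt N11377 F23699) (tt N16873 (iv F30149)) (tt N10874 F23700) (tt N16877 D16908) (tt N10873 (iv D13834)) (tt N10879 F23701))
theorem Q13813 : ∀ i, i < 13813 → P i := stepQ 13812 Q13812 (allL N13812 (tt N10876 F23702) (tt N11373 F23703) (tt N16878 D16909) (tt N10875 (iv D13835)) (tt N16879 D16910) (tt N11360 (iv F23704)))
theorem Q13814 : ∀ i, i < 13814 → P i := stepQ 13813 Q13813 (allL N13813 (tt N10877 F23705) (tt N11372 F23706) (tt N16690 (iv F29764)) (tt N11360 F23707) (tt N16880 D16911) (tt N10875 (iv D13836)))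
theorem Q13815 : ∀ i, i < 13815 → P i := stepQ 13814 Q13814 (allL N13814 (tt N16878 (iv F30159)) (tt N11354 F23708) (tt N10876 (iv D13837)) (tt N16881 D16912) (tt N16882 D16913) (tt N11352 F23709))
theorem Q13816 : ∀ i, i < 13816 → P i := stepQ 13815 Q13815 (allL N13815 (tt N16879 (iv F30161)) (tt N10878 F23710) (tt N16882 (iv F30168)) (tt N16871 (iv F30146)) (tt N10876 (iv D13838)) (tt N16883 D16914))
theorem Q13817 : ∀ i, i < 13817 → P i := stepQ 13816 Q13816 (allL N13816 (tt N16880 (iv F30163)) (tt N10879 F23711) (tt N16688 (iv F29762)) (tt N16884 D16915) (tt N10877 (iv D13839)) (tt N16873 (iv F30150)))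
theorem Q13818 : ∀ i, i < 13818 → P i := stepQ 13817 Q13817 (allL N13817 (tt N11371 F23712) (tt N16883 (iv F30169)) (tt N11359 F23713) (tt N16875 (iv F30155)) (tt N11358 F23714) (tt N10878 (iv D13840)))
theorem Q13819 : ∀ i, i < 13819 → P i := stepQ 13818 Q13818 (allL N13818 (tt N11369 F23715) (tt N16884 (iv F30171)) (tt N16885 D16916) (tt N10879 (iv D13841)) (tt N11357 F23716) (tt N16877 (iv F30158)))
theorem Q13820 : ∀ i, i < 13820 → P i := stepQ 13819 Q13819 (allL N13819 (tt N10881 (iv D13842)) (tt N10885 F23717) (tt N12572 F23718) (tt N14765 (iv F25583)) (tt N12542 F23719) (tt N14764 (iv F25578)))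
theorem Q13821 : ∀ i, i < 13821 → P i := stepQ 13820 Q13820 (allL N13820 (tt N14765 (iv F25580)) (tt N10882 F23720) (tt N14304 (iv F24595)) (tt N10881 (iv D13843)) (tt N12692 (iv F23722)) (tt N10903 F23721))
theorem Q13822 : ∀ i, i < 13822 → P i := stepQ 13821 Q13821 (allL N13821 (tt N14764 (iv F25576)) (tt N10883 F23723) (tt N12574 F23724) (tt N10903 F23725) (tt N12693 (iv F23726)) (tt N10881 (iv D13844)))
theorem Q13823 : ∀ i, i < 13823 → P i := stepQ 13822 Q13822 (allL N13822 (tt N10889 F23727) (tt N12692 F23728) (tt N10906 F23729) (tt N12545 F23730) (tt N10882 (iv D13845)) (tt N12688 F23731))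
theorem Q13824 : ∀ i, i < 13824 → P i := stepQ 13823 Q13823 (allL N13823 (tt N10891 F23732) (tt N12693 F23733) (tt N10884 F23734) (tt N12689 F23735) (tt N10883 (iv D13846)) (tt N12546 F23736))
theorem Q13825 : ∀ i, i < 13825 → P i := stepQ 13824 Q13824 (allL N13824 (tt N10886 F23737) (tt N14765 (iv F25581)) (tt N16886 D16917) (tt N10885 (iv D13847)) (tt N16887 D16918) (tt N14763 F25575))
theorem Q13826 : ∀ i, i < 13826 → P i := stepQ 13825 Q13825 (allL N13825 (tt N10887 F23738) (tt N14764 (iv F25577)) (tt N10893 F23739) (tt N14763 F25574) (tt N14055 (iv F24126)) (tt N10885 (iv D13848)))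
theorem Q13827 : ∀ i, i < 13827 → P i := stepQ 13826 Q13826 (allL N13826 (tt N16886 (iv F30175)) (tt N16888 D16919) (tt N10886 (iv D13849)) (tt N16889 D16920) (tt N16890 D16921) (tt N16891 D16922))
theorem Q13828 : ∀ i, i < 13828 → P i := stepQ 13827 Q13827 (allL N13827 (tt N16887 (iv F30177)) (tt N10889 F23740) (tt N16890 (iv F30185)) (tt N12549 F23741) (tt N10886 (iv D13850)) (tt N16892 D16923))
theorem Q13829 : ∀ i, i < 13829 → P i := stepQ 13828 Q13828 (allL N13828 (tt N14763 (iv F25572)) (tt N10890 F23742) (tt N16891 (iv F30187)) (tt N10887 F23743) (tt N14769 (iv F25590)) (tt N10886 (iv D13851)))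
theorem Q13830 : ∀ i, i < 13830 → P i := stepQ 13829 Q13829 (allL N13829 (tt N14302 (iv F24591)) (tt N10888 (iv D13852)) (tt N16888 (iv F30181)) (tt N10897 F23744) (tt N16893 D16924) (tt N10896 F23745))
theorem Q13831 : ∀ i, i < 13831 → P i := stepQ 13830 Q13830 (allL N13830 (tt N10906 F23746) (tt N16893 (iv F30192)) (tt N10889 F23747) (tt N16894 D16925) (tt N10888 (iv D13853)) (tt N16895 D16926))
theorem Q13832 : ∀ i, i < 13832 → P i := stepQ 13831 Q13831 (allL N13831 (tt N12688 F23748) (tt N16892 (iv F30189)) (tt N16895 (iv F30196)) (tt N12552 F23749) (tt N12686 (iv F23750)) (tt N10889 (iv D13854)))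
theorem Q13833 : ∀ i, i < 13833 → P i := stepQ 13832 Q13832 (allL N13832 (tt N10904 F23751) (tt N14769 (iv F25589)) (tt N10898 F23752) (tt N12687 (iv F23754)) (tt N10890 (iv D13855)) (tt N12686 F23753))
theorem Q13834 : ∀ i, i < 13834 → P i := stepQ 13833 Q13833 (allL N13833 (tt N12689 F23755) (tt N14060 (iv F24131)) (tt N12696 (iv F23758)) (tt N10891 (iv D13856)) (tt N12687 F23756) (tt N12554 F23757))
theorem Q13835 : ∀ i, i < 13835 → P i := stepQ 13834 Q13834 (allL N13834 (tt N10894 F23759) (tt N16896 D16927) (tt N10892 (iv D13857)) (tt N16897 D16928) (tt N14056 (iv F24128)) (tt N11505 F23760))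
theorem Q13836 : ∀ i, i < 13836 → P i := stepQ 13835 Q13835 (allL N13835 (tt N16897 (iv F30201)) (tt N11509 F23761) (tt N16898 D16929) (tt N10894 (iv D13858)) (tt N16899 D16930) (tt N11506 F23762))
theorem Q13837 : ∀ i, i < 13837 → P i := stepQ 13836 Q13836 (allL N13836 (tt N10896 F23763) (tt N10900 F23764) (tt N16900 D16931) (tt N10895 (iv D13859)) (tt N16901 D16932) (tt N14302 (iv F24593)))
theorem Q13838 : ∀ i, i < 13838 → P i := stepQ 13837 Q13837 (allL N13837 (tt N16900 (iv F30205)) (tt N16891 (iv F30186)) (tt N10896 (iv D13860)) (tt N16902 D16933) (tt N16903 D16934) (tt N16888 F30182))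
theorem Q13839 : ∀ i, i < 13839 → P i := stepQ 13838 Q13838 (allL N13838 (tt N16901 (iv F30206)) (tt N10898 F23765) (tt N16903 (iv F30208)) (tt N16627 (iv F29609)) (tt N10896 (iv D13861)) (tt N16904 D16935))
theorem Q13840 : ∀ i, i < 13840 → P i := stepQ 13839 Q13839 (allL N13839 (tt N14139 (iv F24259)) (tt N10899 F23766) (tt N14164 (iv F24312)) (tt N16905 D16936) (tt N10897 (iv D13862)) (tt N14289 (iv F24549)))
theorem Q13841 : ∀ i, i < 13841 → P i := stepQ 13840 Q13840 (allL N13840 (tt N10905 F23767) (tt N16904 (iv F30209)) (tt N12686 F23768) (tt N16628 (iv F29612)) (tt N16895 (iv F30197)) (tt N10898 (iv D13863)))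
theorem Q13842 : ∀ i, i < 13842 → P i := stepQ 13841 Q13841 (allL N13841 (tt N10907 F23769) (tt N16905 (iv F30210)) (tt N14283 (iv F24531)) (tt N10899 (iv D13864)) (tt N16894 (iv F30194)) (tt N14290 (iv F24551)))
theorem Q13843 : ∀ i, i < 13843 → P i := stepQ 13842 Q13842 (allL N13842 (tt N10902 F23770) (tt N16901 (iv F30207)) (tt N14296 (iv F24569)) (tt N16629 (iv F29615)) (tt N10900 (iv D13865)) (tt N16906 D16937))
theorem Q13844 : ∀ i, i < 13844 → P i := stepQ 13843 Q13843 (allL N13843 (tt N16906 (iv F30211)) (tt N10905 F23771) (tt N12690 F23772) (tt N16632 (iv F29622)) (tt N14306 (iv F24601)) (tt N10902 (iv D13866)))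
theorem Q13845 : ∀ i, i < 13845 → P i := stepQ 13844 Q13844 (allL N13844 (tt N16895 (iv F30195)) (tt N14306 (iv F24600)) (tt N12688 F23773) (tt N16907 D16938) (tt N10905 (iv D13867)) (tt N10906 F23774))
theorem Q13846 : ∀ i, i < 13846 → P i := stepQ 13845 Q13845 (allL N13845 (tt N16894 (iv F30193)) (tt N14142 (iv F24265)) (tt N16908 D16939) (tt N10906 (iv D13868)) (tt N10907 F23775) (tt N16907 (iv F30213)))
theorem Q13847 : ∀ i, i < 13847 → P i := stepQ 13846 Q13846 (allL N13846 (tt N14283 (iv F24530)) (tt N16909 D16940) (tt N10907 (iv D13869)) (tt N14280 (iv F24526)) (tt N16908 (iv F30214)) (tt N14291 (iv F24552)))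
theorem Q13848 : ∀ i, i < 13848 → P i := stepQ 13847 Q13847 (allL N13847 (tt N16464 (iv F29279)) (tt N10910 F23776) (tt N11683 F23777) (tt N10917 F23778) (tt N11905 F23779) (tt N10908 (iv D13870)))
theorem Q13849 : ∀ i, i < 13849 → P i := stepQ 13848 Q13848 (allL N13848 (tt N12783 F23780) (tt N10911 F23781) (tt N16910 D16941) (tt N10909 (iv D13871)) (tt N11904 F23782) (tt N10918 F23783))
theorem Q13850 : ∀ i, i < 13850 → P i := stepQ 13849 Q13849 (allL N13849 (tt N11885 F23784) (tt N16911 D16942) (tt N10911 (iv D13872)) (tt N14029 (iv F24073)) (tt N11906 F23785) (tt N10919 F23786))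
theorem Q13851 : ∀ i, i < 13851 → P i := stepQ 13850 Q13850 (allL N13850 (tt N15311 (iv F26784)) (tt N10912 (iv D13873)) (tt N15316 (iv F26803)) (tt N15603 (iv F27428)) (tt N16912 D16943) (tt N15312 (iv F26791)))
theorem Q13852 : ∀ i, i < 13852 → P i := stepQ 13851 Q13851 (allL N13851 (tt N10915 F23787) (tt N15603 (iv F27427)) (tt N12714 F23788) (tt N10912 (iv D13874)) (tt N16913 D16944) (tt N12724 F23789))
theorem Q13853 : ∀ i, i < 13853 → P i := stepQ 13852 Q13852 (allL N13852 (tt N10916 F23790) (tt N16912 (iv F30220)) (tt N10913 F23791) (tt N16914 D16945) (tt N10912 (iv D13875)) (tt N16915 D16946))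
theorem Q13854 : ∀ i, i < 13854 → P i := stepQ 13853 Q13853 (allL N13853 (tt N10917 F23792) (tt N15592 (iv F27403)) (tt N16915 (iv F30225)) (tt N16464 (iv F29282)) (tt N15581 (iv F27379)) (tt N10913 (iv D13876)))
theorem Q13855 : ∀ i, i < 13855 → P i := stepQ 13854 Q13854 (allL N13854 (tt N10918 F23793) (tt N12787 F23794) (tt N16916 D16947) (tt N10914 (iv D13877)) (tt N15580 (iv F27376)) (tt N12783 F23795))
theorem Q13856 : ∀ i, i < 13856 → P i := stepQ 13855 Q13855 (allL N13855 (tt N12714 F23796) (tt N15468 (iv F27120)) (tt N10915 (iv D13878)) (tt N12713 F23797) (tt N16917 D16948) (tt N12720 F23798))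
theorem Q13857 : ∀ i, i < 13857 → P i := stepQ 13856 Q13856 (allL N13856 (tt N16913 (iv F30221)) (tt N15578 (iv F27371)) (tt N16917 (iv F30229)) (tt N16918 D16949) (tt N10915 (iv D13879)) (tt N16919 D16950))
theorem Q13858 : ∀ i, i < 13858 → P i := stepQ 13857 Q13857 (allL N13857 (tt N16914 (iv F30223)) (tt N15579 (iv F27373)) (tt N16920 D16951) (tt N10916 (iv D13880)) (tt N16918 (iv F30230)) (tt N16921 D16952))
theorem Q13859 : ∀ i, i < 13859 → P i := stepQ 13858 Q13858 (allL N13858 (tt N16915 (iv F30224)) (tt N15402 (iv F26999)) (tt N10917 F23799) (tt N16921 (iv F30231)) (tt N15400 (iv F26993)) (tt N10916 (iv D13881)))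
theorem Q13860 : ∀ i, i < 13860 → P i := stepQ 13859 Q13859 (allL N13859 (tt N16916 (iv F30226)) (tt N16922 D16953) (tt N10918 (iv D13882)) (tt N15654 (iv F27536)) (tt N15582 (iv F27380)) (tt N16910 (iv F30217)))
theorem Q13861 : ∀ i, i < 13861 → P i := stepQ 13860 Q13860 (allL N13860 (tt N16923 D16954) (tt N10919 (iv D13883)) (tt N16922 (iv F30232)) (tt N16924 D16955) (tt N15584 (iv F27386)) (tt N16911 (iv F30219)))
theorem Q13862 : ∀ i, i < 13862 → P i := stepQ 13861 Q13861 (allL N13861 (tt N12499 F23800) (tt N16924 (iv F30233)) (tt N11887 F23801) (tt N10919 (iv D13884)) (tt N15589 (iv F27397)) (tt N14029 (iv F24075)))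
theorem Q13863 : ∀ i, i < 13863 → P i := stepQ 13862 Q13862 (allL N13862 (tt N10920 (iv D13885)) (tt N10928 F23802) (tt N16866 (iv F30128)) (tt N12217 F23803) (tt N12584 F23804) (tt N12216 F23805))
theorem Q13864 : ∀ i, i < 13864 → P i := stepQ 13863 Q13863 (allL N13863 (tt N14017 (iv F24051)) (tt N10923 F23806) (tt N14019 (iv F24055)) (tt N16808 (iv F30024)) (tt N10922 (iv D13886)) (tt N16925 D16956))
theorem Q13865 : ∀ i, i < 13865 → P i := stepQ 13864 Q13864 (allL N13864 (tt N10933 F23807) (tt N16925 (iv F30234)) (tt N10933 F23808) (tt N16809 (iv F30026)) (tt N12205 F23809) (tt N10923 (iv D13887)))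
theorem Q13866 : ∀ i, i < 13866 → P i := stepQ 13865 Q13865 (allL N13865 (tt N10924 (iv D13888)) (tt N12584 F23810) (tt N16662 (iv F29698)) (tt N16926 D16957) (tt N10928 F23811) (tt N16927 D16958))
theorem Q13867 : ∀ i, i < 13867 → P i := stepQ 13866 Q13866 (allL N13866 (tt N16926 (iv F30236)) (tt N10925 F23812) (tt N16928 D16959) (tt N10924 (iv D13889)) (tt N16929 D16960) (tt N12589 (iv F23813)))
theorem Q13868 : ∀ i, i < 13868 → P i := stepQ 13867 Q13867 (allL N13867 (tt N16927 (iv F30239)) (tt N10926 F23814) (tt N16661 (iv F29694)) (tt N12589 F23815) (tt N16930 D16961) (tt N10924 (iv D13890)))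
theorem Q13869 : ∀ i, i < 13869 → P i := stepQ 13868 Q13868 (allL N13868 (tt N12222 F23816) (tt N16929 (iv F30244)) (tt N12592 F23817) (tt N10931 F23818) (tt N10925 (iv D13891)) (tt N16931 D16962))
theorem Q13870 : ∀ i, i < 13870 → P i := stepQ 13869 Q13869 (allL N13869 (tt N12221 F23819) (tt N16930 (iv F30246)) (tt N10927 F23820) (tt N16932 D16963) (tt N10926 (iv D13892)) (tt N10932 F23821))
theorem Q13871 : ∀ i, i < 13871 → P i := stepQ 13870 Q13870 (allL N13870 (tt N10929 F23822) (tt N12217 F23823) (tt N16933 D16964) (tt N10928 (iv D13893)) (tt N16934 D16965) (tt N12201 (iv F23824)))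
theorem Q13872 : ∀ i, i < 13872 → P i := stepQ 13871 Q13871 (allL N13871 (tt N10930 F23825) (tt N12216 F23826) (tt N16764 (iv F29928)) (tt N12201 F23827) (tt N16935 D16966) (tt N10928 (iv D13894)))
theorem Q13873 : ∀ i, i < 13873 → P i := stepQ 13872 Q13872 (allL N13872 (tt N16933 (iv F30255)) (tt N12195 F23828) (tt N10929 (iv D13895)) (tt N16936 D16967) (tt N16937 D16968) (tt N12193 F23829))
theorem Q13874 : ∀ i, i < 13874 → P i := stepQ 13873 Q13873 (allL N13873 (tt N16934 (iv F30258)) (tt N10931 F23830) (tt N16937 (iv F30265)) (tt N16929 (iv F30245)) (tt N10929 (iv D13896)) (tt N16938 D16969))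
theorem Q13875 : ∀ i, i < 13875 → P i := stepQ 13874 Q13874 (allL N13874 (tt N16935 (iv F30260)) (tt N10932 F23831) (tt N16765 (iv F29931)) (tt N16939 D16970) (tt N10930 (iv D13897)) (tt N16930 (iv F30247)))
theorem Q13876 : ∀ i, i < 13876 → P i := stepQ 13875 Q13875 (allL N13875 (tt N12215 F23832) (tt N16938 (iv F30267)) (tt N12200 F23833) (tt N16931 (iv F30250)) (tt N12199 F23834) (tt N10931 (iv D13898)))
theorem Q13877 : ∀ i, i < 13877 → P i := stepQ 13876 Q13876 (allL N13876 (tt N12213 F23835) (tt N16939 (iv F30270)) (tt N16940 D16971) (tt N10932 (iv D13899)) (tt N12198 F23836) (tt N16932 (iv F30254)))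
theorem Q13878 : ∀ i, i < 13878 → P i := stepQ 13877 Q13877 (allL N13877 (tt N10934 (iv D13900)) (tt N11997 F23837) (tt N10938 F23838) (tt N16597 (iv F29541)) (tt N11992 F23839) (tt N11027 F23840))
theorem Q13879 : ∀ i, i < 13879 → P i := stepQ 13878 Q13878 (allL N13878 (tt N16597 (iv F29539)) (tt N10935 F23841) (tt N16595 (iv F29535)) (tt N10934 (iv D13901)) (tt N16452 (iv F29256)) (tt N11030 F23842))
theorem Q13880 : ∀ i, i < 13880 → P i := stepQ 13879 Q13879 (allL N13879 (tt N12000 F23843) (tt N16941 D16972) (tt N10935 (iv D13902)) (tt N11995 F23844) (tt N16453 (iv F29258)) (tt N11994 (iv F23845)))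
theorem Q13881 : ∀ i, i < 13881 → P i := stepQ 13880 Q13880 (allL N13880 (tt N12002 F23846) (tt N11030 F23847) (tt N11994 F23848) (tt N10936 F23849) (tt N16942 D16973) (tt N10935 (iv D13903)))
theorem Q13882 : ∀ i, i < 13882 → P i := stepQ 13881 Q13881 (allL N13881 (tt N10973 F23850) (tt N16943 D16974) (tt N10939 (iv D13904)) (tt N16944 D16975) (tt N10940 F23851) (tt N15157 (iv F26451)))
theorem Q13883 : ∀ i, i < 13883 → P i := stepQ 13882 Q13882 (allL N13882 (tt N16945 D16976) (tt N10940 (iv D13905)) (tt N15713 (iv F27651)) (tt N10978 F23852) (tt N16943 (iv F30281)) (tt N10941 F23853))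
theorem Q13884 : ∀ i, i < 13884 → P i := stepQ 13883 Q13883 (allL N13883 (tt N10941 (iv D13906)) (tt N10975 F23854) (tt N15711 (iv F27645)) (tt N16612 (iv F29577)) (tt N15153 (iv F26443)) (tt N16945 (iv F30287)))
theorem Q13885 : ∀ i, i < 13885 → P i := stepQ 13884 Q13884 (allL N13884 (tt N16725 (iv F29843)) (tt N16946 D16977) (tt N10942 (iv D13907)) (tt N16947 D16978) (tt N15458 (iv F27092)) (tt N16608 (iv F29565)))
theorem Q13886 : ∀ i, i < 13886 → P i := stepQ 13885 Q13885 (allL N13885 (tt N16948 D16979) (tt N10943 (iv D13908)) (tt N16946 (iv F30288)) (tt N10974 F23855) (tt N15460 (iv F27095)) (tt N10976 F23856))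
theorem Q13887 : ∀ i, i < 13887 → P i := stepQ 13886 Q13886 (allL N13886 (tt N10944 (iv D13909)) (tt N10951 F23857) (tt N11997 F23858) (tt N16819 (iv F30050)) (tt N11858 F23859) (tt N16949 D16980))
theorem Q13888 : ∀ i, i < 13888 → P i := stepQ 13887 Q13887 (allL N13887 (tt N16949 (iv F30294)) (tt N10945 F23860) (tt N11999 F23861) (tt N10987 F23862) (tt N16950 D16981) (tt N10944 (iv D13910)))
theorem Q13889 : ∀ i, i < 13889 → P i := stepQ 13888 Q13888 (allL N13888 (tt N10956 F23863) (tt N16950 (iv F30298)) (tt N10946 F23864) (tt N16951 D16982) (tt N10945 (iv D13911)) (tt N11856 F23865))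
theorem Q13890 : ∀ i, i < 13890 → P i := stepQ 13889 Q13889 (allL N13889 (tt N10947 (iv D13912)) (tt N11858 F23866) (tt N10957 F23867) (tt N16952 D16983) (tt N10951 F23868) (tt N16953 D16984))
theorem Q13891 : ∀ i, i < 13891 → P i := stepQ 13890 Q13890 (allL N13890 (tt N16952 (iv F30305)) (tt N10948 F23869) (tt N16580 (iv F29489)) (tt N10947 (iv D13913)) (tt N16954 D16985) (tt N11865 (iv F23870)))
theorem Q13892 : ∀ i, i < 13892 → P i := stepQ 13891 Q13891 (allL N13891 (tt N16953 (iv F30308)) (tt N10949 F23871) (tt N10959 F23872) (tt N11865 F23873) (tt N16955 D16986) (tt N10947 (iv D13914)))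
theorem Q13893 : ∀ i, i < 13893 → P i := stepQ 13892 Q13892 (allL N13892 (tt N11860 F23874) (tt N16954 (iv F30312)) (tt N11861 F23875) (tt N10954 F23876) (tt N10948 (iv D13915)) (tt N16956 D16987))
theorem Q13894 : ∀ i, i < 13894 → P i := stepQ 13893 Q13893 (allL N13893 (tt N11856 F23877) (tt N16955 (iv F30314)) (tt N10950 F23878) (tt N16957 D16988) (tt N10949 (iv D13916)) (tt N10956 F23879))
theorem Q13895 : ∀ i, i < 13895 → P i := stepQ 13894 Q13894 (allL N13894 (tt N10952 F23880) (tt N16819 (iv F30048)) (tt N16958 D16989) (tt N10951 (iv D13917)) (tt N16959 D16990) (tt N16960 D16991))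
theorem Q13896 : ∀ i, i < 13896 → P i := stepQ 13895 Q13895 (allL N13895 (tt N10953 F23881) (tt N16949 (iv F30295)) (tt N10967 F23882) (tt N16960 (iv F30333)) (tt N16961 D16992) (tt N10951 (iv D13918)))
theorem Q13897 : ∀ i, i < 13897 → P i := stepQ 13896 Q13896 (allL N13896 (tt N16958 (iv F30325)) (tt N16814 (iv F30035)) (tt N10952 (iv D13919)) (tt N16962 D16993) (tt N16963 D16994) (tt N16964 D16995))
theorem Q13898 : ∀ i, i < 13898 → P i := stepQ 13897 Q13897 (allL N13897 (tt N16959 (iv F30329)) (tt N10954 F23883) (tt N16963 (iv F30339)) (tt N16954 (iv F30313)) (tt N10952 (iv D13920)) (tt N16965 D16996))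
theorem Q13899 : ∀ i, i < 13899 → P i := stepQ 13898 Q13898 (allL N13898 (tt N16960 (iv F30330)) (tt N10955 F23884) (tt N16964 (iv F30342)) (tt N10953 F23885) (tt N12385 (iv F23886)) (tt N10952 (iv D13921)))
theorem Q13900 : ∀ i, i < 13900 → P i := stepQ 13899 Q13899 (allL N13899 (tt N16961 (iv F30335)) (tt N10956 F23887) (tt N10970 F23888) (tt N16966 D16997) (tt N10953 (iv D13922)) (tt N16955 (iv F30316)))
theorem Q13901 : ∀ i, i < 13901 → P i := stepQ 13900 Q13900 (allL N13900 (tt N16821 (iv F30055)) (tt N16965 (iv F30344)) (tt N12388 F23889) (tt N16956 (iv F30319)) (tt N12387 F23890) (tt N10954 (iv D13923)))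
theorem Q13902 : ∀ i, i < 13902 → P i := stepQ 13901 Q13901 (allL N13901 (tt N16951 (iv F30301)) (tt N16966 (iv F30346)) (tt N16967 D16998) (tt N10956 (iv D13924)) (tt N12386 F23891) (tt N16957 (iv F30323)))
theorem Q13903 : ∀ i, i < 13903 → P i := stepQ 13902 Q13902 (allL N13902 (tt N10958 F23892) (tt N15520 (iv F27240)) (tt N16968 D16999) (tt N10957 (iv D13925)) (tt N16969 D17000) (tt N15532 (iv F27268)))
theorem Q13904 : ∀ i, i < 13904 → P i := stepQ 13903 Q13903 (allL N13903 (tt N10959 F23893) (tt N15521 (iv F27244)) (tt N16953 (iv F30310)) (tt N15532 (iv F27267)) (tt N16970 D17001) (tt N10957 (iv D13926)))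
theorem Q13905 : ∀ i, i < 13905 → P i := stepQ 13904 Q13904 (allL N13904 (tt N16968 (iv F30353)) (tt N15530 (iv F27263)) (tt N10958 (iv D13927)) (tt N16971 D17002) (tt N16972 D17003) (tt N15527 F27259))
theorem Q13906 : ∀ i, i < 13906 → P i := stepQ 13905 Q13905 (allL N13905 (tt N16969 (iv F30354)) (tt N10960 F23894) (tt N16972 (iv F30360)) (tt N10969 F23895) (tt N10958 (iv D13928)) (tt N16973 D17004))
theorem Q13907 : ∀ i, i < 13907 → P i := stepQ 13906 Q13906 (allL N13906 (tt N16970 (iv F30357)) (tt N10961 F23896) (tt N16955 (iv F30315)) (tt N16974 D17005) (tt N10959 (iv D13929)) (tt N10970 F23897))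
theorem Q13908 : ∀ i, i < 13908 → P i := stepQ 13907 Q13907 (allL N13907 (tt N11026 F23898) (tt N16973 (iv F30361)) (tt N15536 (iv F27279)) (tt N10971 F23899) (tt N15535 (iv F27277)) (tt N10960 (iv D13930)))
theorem Q13909 : ∀ i, i < 13909 → P i := stepQ 13908 Q13908 (allL N13908 (tt N11024 F23900) (tt N16974 (iv F30363)) (tt N16975 D17006) (tt N10961 (iv D13931)) (tt N15534 (iv F27272)) (tt N10972 F23901))
theorem Q13910 : ∀ i, i < 13910 → P i := stepQ 13909 Q13909 (allL N13909 (tt N15157 (iv F26449)) (tt N16976 D17007) (tt N10962 (iv D13932)) (tt N16977 D17008) (tt N10963 F23902) (tt N10973 F23903))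
theorem Q13911 : ∀ i, i < 13911 → P i := stepQ 13910 Q13910 (allL N13910 (tt N16978 D17009) (tt N10963 (iv D13933)) (tt N11815 F23904) (tt N15164 (iv F26462)) (tt N16976 (iv F30369)) (tt N10964 F23905))
theorem Q13912 : ∀ i, i < 13912 → P i := stepQ 13911 Q13911 (allL N13911 (tt N10964 (iv D13934)) (tt N15153 (iv F26441)) (tt N11833 F23906) (tt N16979 D17010) (tt N10975 F23907) (tt N16978 (iv F30374)))
theorem Q13913 : ∀ i, i < 13913 → P i := stepQ 13912 Q13912 (allL N13912 (tt N16979 (iv F30375)) (tt N10965 F23908) (tt N16980 D17011) (tt N10964 (iv D13935)) (tt N16981 D17012) (tt N15164 (iv F26463)))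
theorem Q13914 : ∀ i, i < 13914 → P i := stepQ 13913 Q13913 (allL N13913 (tt N15156 (iv F26447)) (tt N16981 (iv F30376)) (tt N15167 (iv F26468)) (tt N10977 F23909) (tt N10965 (iv D13936)) (tt N16982 D17013))
theorem Q13915 : ∀ i, i < 13915 → P i := stepQ 13914 Q13914 (allL N13914 (tt N10968 F23910) (tt N14398 (iv F24794)) (tt N10966 (iv D13937)) (tt N16633 (iv F29624)) (tt N16983 D17014) (tt N10994 F23911))
theorem Q13916 : ∀ i, i < 13916 → P i := stepQ 13915 Q13915 (allL N13915 (tt N10969 F23912) (tt N11029 F23913) (tt N16983 (iv F30380)) (tt N16969 (iv F30356)) (tt N10966 (iv D13938)) (tt N16984 D17015))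
theorem Q13917 : ∀ i, i < 13917 → P i := stepQ 13916 Q13916 (allL N13916 (tt N10970 F23914) (tt N11028 F23915) (tt N16961 (iv F30336)) (tt N16985 D17016) (tt N10967 (iv D13939)) (tt N16970 (iv F30359)))
theorem Q13918 : ∀ i, i < 13918 → P i := stepQ 13917 Q13917 (allL N13917 (tt N16983 (iv F30379)) (tt N10997 F23916) (tt N10969 F23917) (tt N16986 D17017) (tt N10968 (iv D13940)) (tt N16987 D17018))
theorem Q13919 : ∀ i, i < 13919 → P i := stepQ 13918 Q13918 (allL N13918 (tt N16984 (iv F30381)) (tt N10971 F23918) (tt N16987 (iv F30390)) (tt N16973 (iv F30362)) (tt N11000 F23919) (tt N10969 (iv D13941)))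
theorem Q13920 : ∀ i, i < 13920 → P i := stepQ 13919 Q13919 (allL N13919 (tt N16985 (iv F30384)) (tt N10972 F23920) (tt N16988 D17019) (tt N10970 (iv D13942)) (tt N10999 F23921) (tt N16974 (iv F30364)))
theorem Q13921 : ∀ i, i < 13921 → P i := stepQ 13920 Q13920 (allL N13920 (tt N11023 F23922) (tt N16989 D17020) (tt N10972 (iv D13943)) (tt N16990 D17021) (tt N11001 F23923) (tt N16975 (iv F30367)))
theorem Q13922 : ∀ i, i < 13922 → P i := stepQ 13921 Q13921 (allL N13921 (tt N16991 D17022) (tt N10973 (iv D13944)) (tt N12079 F23924) (tt N16992 D17023) (tt N10974 F23925) (tt N16976 (iv F30370)))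
theorem Q13923 : ∀ i, i < 13923 → P i := stepQ 13922 Q13922 (allL N13922 (tt N16944 (iv F30282)) (tt N16992 (iv F30398)) (tt N16993 D17024) (tt N10973 (iv D13945)) (tt N15461 (iv F27097)) (tt N16977 (iv F30371)))
theorem Q13924 : ∀ i, i < 13924 → P i := stepQ 13923 Q13923 (allL N13923 (tt N10974 (iv D13946)) (tt N16945 (iv F30284)) (tt N12076 F23926) (tt N16948 (iv F30292)) (tt N16991 (iv F30397)) (tt N10975 F23927))
theorem Q13925 : ∀ i, i < 13925 → P i := stepQ 13924 Q13924 (allL N13924 (tt N10976 F23928) (tt N16612 (iv F29575)) (tt N16994 D17025) (tt N10975 (iv D13947)) (tt N16995 D17026) (tt N16948 (iv F30293)))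
theorem Q13926 : ∀ i, i < 13926 → P i := stepQ 13925 Q13925 (allL N13925 (tt N16994 (iv F30401)) (tt N16608 (iv F29564)) (tt N10976 (iv D13948)) (tt N16996 D17027) (tt N16997 D17028) (tt N16946 (iv F30289)))
theorem Q13927 : ∀ i, i < 13927 → P i := stepQ 13926 Q13926 (allL N13926 (tt N16995 (iv F30405)) (tt N10977 F23929) (tt N16997 (iv F30411)) (tt N16981 (iv F30377)) (tt N10976 (iv D13949)) (tt N16998 D17029))
theorem Q13928 : ∀ i, i < 13928 → P i := stepQ 13927 Q13927 (allL N13927 (tt N16610 (iv F29570)) (tt N16998 (iv F30413)) (tt N15463 (iv F27102)) (tt N16982 (iv F30378)) (tt N15462 (iv F27100)) (tt N10977 (iv D13950)))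
theorem Q13929 : ∀ i, i < 13929 → P i := stepQ 13928 Q13928 (allL N13928 (tt N10978 (iv D13951)) (tt N16948 (iv F30291)) (tt N16736 (iv F29883)) (tt N16945 (iv F30286)) (tt N16999 D17030) (tt N16612 (iv F29578)))
theorem Q13930 : ∀ i, i < 13930 → P i := stepQ 13929 Q13929 (allL N13929 (tt N16999 (iv F30414)) (tt N10979 F23930) (tt N16739 (iv F29890)) (tt N17000 D17031) (tt N10978 (iv D13952)) (tt N17001 D17032))
theorem Q13931 : ∀ i, i < 13931 → P i := stepQ 13930 Q13930 (allL N13930 (tt N15461 (iv F27096)) (tt N17000 (iv F30415)) (tt N15252 (iv F26674)) (tt N10979 (iv D13953)) (tt N16944 (iv F30283)) (tt N15251 F26673))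
theorem Q13932 : ∀ i, i < 13932 → P i := stepQ 13931 Q13931 (allL N13931 (tt N15462 (iv F27098)) (tt N17001 (iv F30416)) (tt N10980 F23931) (tt N15251 (iv F26672)) (tt N16610 (iv F29571)) (tt N10979 (iv D13954)))
theorem Q13933 : ∀ i, i < 13933 → P i := stepQ 13932 Q13932 (allL N13932 (tt N14968 (iv F25975)) (tt N10981 (iv D13955)) (tt N14967 (iv F25974)) (tt N11047 F23932) (tt N17002 D17033) (tt N11035 F23933))

end Cfsg.Agent.Helper17.ONS1TC
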