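import Cfsg.Agent.Helper17.ONS1TC.Fin4

set_option autoImplicit false
set_option linter.all false
set_option maxRecDepth 100000

noncomputable section

namespace Cfsg.Agent.Helper17.ONS1TC

theorem Q13934 : ∀ i, i < 13934 → P i := stepQ 13933 Q13933 (allL N13933 (tt N10984 F23934) (tt N17002 (iv F30417)) (tt N10982 F23935) (tt N17003 D17034) (tt N10981 (iv D13956)) (tt N17004 D17035))
theorem Q13935 : ∀ i, i < 13935 → P i := stepQ 13934 Q13934 (allL N13934 (tt N10985 F23936) (tt N15457 (iv F27090)) (tt N17004 (iv F30421)) (tt N16726 (iv F29848)) (tt N11037 F23937) (tt N10982 (iv D13957)))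
theorem Q13936 : ∀ i, i < 13936 → P i := stepQ 13935 Q13935 (allL N13935 (tt N11048 F23938) (tt N15453 (iv F27081)) (tt N11046 F23939) (tt N17005 D17036) (tt N10983 (iv D13958)) (tt N17006 D17037))
theorem Q13937 : ∀ i, i < 13937 → P i := stepQ 13936 Q13936 (allL N13936 (tt N17003 (iv F30418)) (tt N15454 (iv F27082)) (tt N17007 D17038) (tt N10984 (iv D13959)) (tt N17005 (iv F30424)) (tt N17008 D17039))
theorem Q13938 : ∀ i, i < 13938 → P i := stepQ 13937 Q13937 (allL N13937 (tt N17004 (iv F30420)) (tt N15455 (iv F27083)) (tt N10985 F23940) (tt N17008 (iv F30428)) (tt N11043 F23941) (tt N10984 (iv D13960)))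
theorem Q13939 : ∀ i, i < 13939 → P i := stepQ 13938 Q13938 (allL N13938 (tt N11490 F23942) (tt N16964 (iv F30341)) (tt N10986 (iv D13961)) (tt N17009 D17040) (tt N12383 F23943) (tt N16814 (iv F30036)))
theorem Q13940 : ∀ i, i < 13940 → P i := stepQ 13939 Q13939 (allL N13939 (tt N10987 (iv D13962)) (tt N16960 (iv F30331)) (tt N11469 F23944) (tt N16949 (iv F30297)) (tt N17010 D17041) (tt N16819 (iv F30051)))
theorem Q13941 : ∀ i, i < 13941 → P i := stepQ 13940 Q13940 (allL N13940 (tt N17010 (iv F30430)) (tt N10988 F23945) (tt N11470 F23946) (tt N17011 D17042) (tt N10987 (iv D13963)) (tt N17012 D17043))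
theorem Q13942 : ∀ i, i < 13942 → P i := stepQ 13941 Q13941 (allL N13941 (tt N12386 F23947) (tt N17011 (iv F30433)) (tt N11685 F23948) (tt N10988 (iv D13964)) (tt N16951 (iv F30302)) (tt N11684 (iv F23949)))
theorem Q13943 : ∀ i, i < 13943 → P i := stepQ 13942 Q13942 (allL N13942 (tt N12387 F23950) (tt N17012 (iv F30435)) (tt N10989 F23951) (tt N11684 F23952) (tt N16821 (iv F30058)) (tt N10988 (iv D13965)))
theorem Q13944 : ∀ i, i < 13944 → P i := stepQ 13943 Q13943 (allL N13943 (tt N10990 (iv D13966)) (tt N11654 F23953) (tt N10998 F23954) (tt N16733 (iv F29873)) (tt N10994 F23955) (tt N16732 F29870))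
theorem Q13945 : ∀ i, i < 13945 → P i := stepQ 13944 Q13944 (allL N13944 (tt N16733 (iv F29871)) (tt N10991 F23956) (tt N17013 D17044) (tt N10990 (iv D13967)) (tt N17014 D17045) (tt N16731 F29866))
theorem Q13946 : ∀ i, i < 13946 → P i := stepQ 13945 Q13945 (allL N13945 (tt N16732 (iv F29867)) (tt N10992 F23957) (tt N11000 F23958) (tt N16731 F29865) (tt N16987 (iv F30391)) (tt N10990 (iv D13968)))
theorem Q13947 : ∀ i, i < 13947 → P i := stepQ 13946 Q13946 (allL N13946 (tt N11657 F23959) (tt N17015 D17046) (tt N10991 (iv D13969)) (tt N11647 F23960) (tt N17016 D17047) (tt N11646 (iv F23961)))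
theorem Q13948 : ∀ i, i < 13948 → P i := stepQ 13947 Q13947 (allL N13947 (tt N11658 F23962) (tt N17014 (iv F30438)) (tt N17016 (iv F30443)) (tt N10996 F23963) (tt N10991 (iv D13970)) (tt N17017 D17048))
theorem Q13949 : ∀ i, i < 13949 → P i := stepQ 13948 Q13948 (allL N13948 (tt N11659 F23964) (tt N16731 (iv F29863)) (tt N11646 F23965) (tt N10992 F23966) (tt N16727 (iv F29853)) (tt N10991 (iv D13971)))
theorem Q13950 : ∀ i, i < 13950 → P i := stepQ 13949 Q13949 (allL N13949 (tt N11660 F23967) (tt N16987 (iv F30389)) (tt N10993 F23968) (tt N17018 D17049) (tt N10992 (iv D13972)) (tt N10997 F23969))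
theorem Q13951 : ∀ i, i < 13951 → P i := stepQ 13950 Q13950 (allL N13950 (tt N10995 F23970) (tt N16583 (iv F29496)) (tt N16962 (iv F30338)) (tt N10994 (iv D13973)) (tt N17019 D17050) (tt N16633 (iv F29625)))
theorem Q13952 : ∀ i, i < 13952 → P i := stepQ 13951 Q13951 (allL N13951 (tt N16962 (iv F30337)) (tt N11499 F23971) (tt N10995 (iv D13974)) (tt N16958 (iv F30327)) (tt N17020 D17051) (tt N16630 (iv F29618)))
theorem Q13953 : ∀ i, i < 13953 → P i := stepQ 13952 Q13952 (allL N13952 (tt N17019 (iv F30451)) (tt N10996 F23972) (tt N17020 (iv F30453)) (tt N17014 (iv F30439)) (tt N10995 (iv D13975)) (tt N17021 D17052))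
theorem Q13954 : ∀ i, i < 13954 → P i := stepQ 13953 Q13953 (allL N13953 (tt N16586 (iv F29500)) (tt N17021 (iv F30454)) (tt N14407 (iv F24814)) (tt N17017 (iv F30445)) (tt N16635 (iv F29631)) (tt N10996 (iv D13976)))
theorem Q13955 : ∀ i, i < 13955 → P i := stepQ 13954 Q13954 (allL N13954 (tt N12698 F23973) (tt N16986 (iv F30387)) (tt N12695 (iv F23975)) (tt N10997 (iv D13977)) (tt N12694 F23974) (tt N17018 (iv F30450)))
theorem Q13956 : ∀ i, i < 13956 → P i := stepQ 13955 Q13955 (allL N13955 (tt N10999 F23976) (tt N11016 F23977) (tt N17022 D17053) (tt N10998 (iv D13978)) (tt N16985 (iv F30386)) (tt N17023 D17054))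
theorem Q13957 : ∀ i, i < 13957 → P i := stepQ 13956 Q13956 (allL N13956 (tt N11000 F23978) (tt N11017 F23979) (tt N16732 F29869) (tt N17023 (iv F30458)) (tt N16984 (iv F30383)) (tt N10998 (iv D13979)))
theorem Q13958 : ∀ i, i < 13958 → P i := stepQ 13957 Q13957 (allL N13957 (tt N17022 (iv F30455)) (tt N17024 D17055) (tt N10999 (iv D13980)) (tt N17025 D17056) (tt N16988 (iv F30392)) (tt N17026 D17057))
theorem Q13959 : ∀ i, i < 13959 → P i := stepQ 13958 Q13958 (allL N13958 (tt N17023 (iv F30456)) (tt N11002 F23980) (tt N17026 (iv F30462)) (tt N11000 F23981) (tt N17027 D17058) (tt N10999 (iv D13981)))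
theorem Q13960 : ∀ i, i < 13960 → P i := stepQ 13959 Q13959 (allL N13959 (tt N17028 D17059) (tt N11001 (iv D13982)) (tt N17024 (iv F30459)) (tt N11013 F23982) (tt N16989 (iv F30393)) (tt N11012 F23983))
theorem Q13961 : ∀ i, i < 13961 → P i := stepQ 13960 Q13960 (allL N13960 (tt N11025 F23984) (tt N17027 (iv F30463)) (tt N11014 F23985) (tt N15535 (iv F27276)) (tt N11002 (iv D13983)) (tt N15534 (iv F27273)))
theorem Q13962 : ∀ i, i < 13962 → P i := stepQ 13961 Q13961 (allL N13961 (tt N11005 F23986) (tt N15244 (iv F26660)) (tt N11004 F23987) (tt N15235 (iv F26639)) (tt N11003 (iv D13984)) (tt N15234 F26637))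
theorem Q13963 : ∀ i, i < 13963 → P i := stepQ 13962 Q13962 (allL N13962 (tt N11006 F23988) (tt N11037 F23989) (tt N15234 F26636) (tt N16607 (iv F29561)) (tt N15457 (iv F27091)) (tt N11004 (iv D13985)))
theorem Q13964 : ∀ i, i < 13964 → P i := stepQ 13963 Q13963 (allL N13963 (tt N15542 (iv F27296)) (tt N11008 F23990) (tt N17029 D17060) (tt N11007 (iv D13986)) (tt N15538 (iv F27288)) (tt N17030 D17061))
theorem Q13965 : ∀ i, i < 13965 → P i := stepQ 13964 Q13964 (allL N13964 (tt N15541 (iv F27292)) (tt N11009 F23991) (tt N11013 F23992) (tt N17030 (iv F30468)) (tt N15537 (iv F27285)) (tt N11007 (iv D13987)))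
theorem Q13966 : ∀ i, i < 13966 → P i := stepQ 13965 Q13965 (allL N13965 (tt N11603 F23993) (tt N17031 D17062) (tt N11008 (iv D13988)) (tt N11598 F23994) (tt N17032 D17063) (tt N11597 (iv F23995)))
theorem Q13967 : ∀ i, i < 13967 → P i := stepQ 13966 Q13966 (allL N13966 (tt N15197 (iv F26533)) (tt N15538 (iv F27287)) (tt N17032 (iv F30473)) (tt N15195 (iv F26528)) (tt N11008 (iv D13989)) (tt N17033 D17064))
theorem Q13968 : ∀ i, i < 13968 → P i := stepQ 13967 Q13967 (allL N13967 (tt N11602 F23996) (tt N17030 (iv F30467)) (tt N11597 F23997) (tt N11009 F23998) (tt N17034 D17065) (tt N11008 (iv D13990)))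
theorem Q13969 : ∀ i, i < 13969 → P i := stepQ 13968 Q13968 (allL N13968 (tt N15198 (iv F26537)) (tt N15537 (iv F27283)) (tt N11010 F23999) (tt N17035 D17066) (tt N11009 (iv D13991)) (tt N15196 (iv F26532)))
theorem Q13970 : ∀ i, i < 13970 → P i := stepQ 13969 Q13969 (allL N13969 (tt N11012 F24000) (tt N15207 (iv F26569)) (tt N17036 D17067) (tt N11011 (iv D13992)) (tt N17037 D17068) (tt N17028 (iv F30466)))
theorem Q13971 : ∀ i, i < 13971 → P i := stepQ 13970 Q13970 (allL N13970 (tt N11013 F24001) (tt N15208 (iv F26572)) (tt N15541 (iv F27294)) (tt N17028 (iv F30465)) (tt N15540 (iv F27291)) (tt N11011 (iv D13993)))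
theorem Q13972 : ∀ i, i < 13972 → P i := stepQ 13971 Q13971 (allL N13971 (tt N17036 (iv F30477)) (tt N17026 (iv F30461)) (tt N11012 (iv D13994)) (tt N17038 D17069) (tt N17039 D17070) (tt N17024 F30460))
theorem Q13973 : ∀ i, i < 13973 → P i := stepQ 13972 Q13972 (allL N13972 (tt N17037 (iv F30478)) (tt N11014 F24002) (tt N17039 (iv F30479)) (tt N15203 (iv F26556)) (tt N11012 (iv D13995)) (tt N17040 D17071))
theorem Q13974 : ∀ i, i < 13974 → P i := stepQ 13973 Q13973 (allL N13973 (tt N15540 (iv F27289)) (tt N11015 F24003) (tt N15537 (iv F27284)) (tt N17041 D17072) (tt N11013 (iv D13996)) (tt N15204 (iv F26560)))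
theorem Q13975 : ∀ i, i < 13975 → P i := stepQ 13974 Q13974 (allL N13974 (tt N15212 (iv F26582)) (tt N17040 (iv F30480)) (tt N15534 (iv F27271)) (tt N15205 (iv F26563)) (tt N16975 (iv F30366)) (tt N11014 (iv D13997)))
theorem Q13976 : ∀ i, i < 13976 → P i := stepQ 13975 Q13975 (allL N13975 (tt N15213 (iv F26586)) (tt N17041 (iv F30481)) (tt N15498 (iv F27183)) (tt N11015 (iv D13998)) (tt N16990 (iv F30395)) (tt N15206 (iv F26567)))
theorem Q13977 : ∀ i, i < 13977 → P i := stepQ 13976 Q13976 (allL N13976 (tt N11018 F24004) (tt N17042 D17073) (tt N11016 (iv D13999)) (tt N17043 D17074) (tt N17044 D17075) (tt N17045 D17076))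
theorem Q13978 : ∀ i, i < 13978 → P i := stepQ 13977 Q13977 (allL N13977 (tt N11019 F24005) (tt N16985 (iv F30385)) (tt N17044 (iv F30485)) (tt N11028 F24006) (tt N11016 (iv D14000)) (tt N17046 D17077))
theorem Q13979 : ∀ i, i < 13979 → P i := stepQ 13978 Q13978 (allL N13978 (tt N11020 F24007) (tt N17023 (iv F30457)) (tt N17045 (iv F30487)) (tt N11017 F24008) (tt N17047 D17078) (tt N11016 (iv D14001)))
theorem Q13980 : ∀ i, i < 13980 → P i := stepQ 13979 Q13979 (allL N13979 (tt N11021 F24009) (tt N16984 (iv F30382)) (tt N11664 F24010) (tt N17048 D17079) (tt N11017 (iv D14002)) (tt N11029 F24011))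
theorem Q13981 : ∀ i, i < 13981 → P i := stepQ 13980 Q13980 (allL N13980 (tt N17049 D17080) (tt N11018 (iv D14003)) (tt N11022 F24012) (tt N17050 D17081) (tt N17051 D17082) (tt N15209 (iv F26576)))
theorem Q13982 : ∀ i, i < 13982 → P i := stepQ 13981 Q13981 (allL N13981 (tt N17043 (iv F30482)) (tt N17050 (iv F30495)) (tt N17052 D17083) (tt N11018 (iv D14004)) (tt N17053 D17084) (tt N17054 D17085))
theorem Q13983 : ∀ i, i < 13983 → P i := stepQ 13982 Q13982 (allL N13982 (tt N17044 (iv F30484)) (tt N17051 (iv F30497)) (tt N11019 F24013) (tt N17055 D17086) (tt N11018 (iv D14005)) (tt N17056 D17087))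
theorem Q13984 : ∀ i, i < 13984 → P i := stepQ 13983 Q13983 (allL N13983 (tt N17045 (iv F30486)) (tt N15209 (iv F26575)) (tt N11020 F24014) (tt N17054 (iv F30502)) (tt N17057 D17088) (tt N11018 (iv D14006)))
theorem Q13985 : ∀ i, i < 13985 → P i := stepQ 13984 Q13984 (allL N13984 (tt N17046 (iv F30488)) (tt N11024 F24015) (tt N17056 (iv F30503)) (tt N11032 F24016) (tt N17058 D17089) (tt N11019 (iv D14007)))
theorem Q13986 : ∀ i, i < 13986 → P i := stepQ 13985 Q13985 (allL N13985 (tt N17047 (iv F30490)) (tt N11025 F24017) (tt N17057 (iv F30504)) (tt N17059 D17090) (tt N11020 (iv D14008)) (tt N17058 (iv F30506)))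
theorem Q13987 : ∀ i, i < 13987 → P i := stepQ 13986 Q13986 (allL N13986 (tt N17048 (iv F30491)) (tt N11026 F24018) (tt N17060 D17091) (tt N11021 (iv D14009)) (tt N17059 (iv F30508)) (tt N11033 F24019))
theorem Q13988 : ∀ i, i < 13988 → P i := stepQ 13987 Q13987 (allL N13987 (tt N11022 (iv D14010)) (tt N17028 (iv F30464)) (tt N17049 (iv F30494)) (tt N15208 (iv F26574)) (tt N17061 D17092) (tt N15207 F26570))
theorem Q13989 : ∀ i, i < 13989 → P i := stepQ 13988 Q13988 (allL N13988 (tt N17061 (iv F30512)) (tt N11023 F24020) (tt N17051 (iv F30498)) (tt N17062 D17093) (tt N11022 (iv D14011)) (tt N17063 D17094))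
theorem Q13990 : ∀ i, i < 13990 → P i := stepQ 13989 Q13989 (allL N13989 (tt N16990 (iv F30394)) (tt N17062 (iv F30513)) (tt N16977 (iv F30372)) (tt N11023 (iv D14012)) (tt N15213 (iv F26587)) (tt N16993 (iv F30399)))
theorem Q13991 : ∀ i, i < 13991 → P i := stepQ 13990 Q13990 (allL N13990 (tt N16975 (iv F30365)) (tt N17063 (iv F30514)) (tt N11024 F24021) (tt N16993 (iv F30400)) (tt N15212 (iv F26585)) (tt N11023 (iv D14013)))
theorem Q13992 : ∀ i, i < 13992 → P i := stepQ 13991 Q13991 (allL N13991 (tt N15534 (iv F27270)) (tt N17058 (iv F30505)) (tt N15212 (iv F26583)) (tt N15260 (iv F26691)) (tt N11024 (iv D14014)) (tt N11025 F24022))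
theorem Q13993 : ∀ i, i < 13993 → P i := stepQ 13992 Q13992 (allL N13992 (tt N15535 (iv F27274)) (tt N17059 (iv F30507)) (tt N15261 (iv F26694)) (tt N11025 (iv D14015)) (tt N11026 F24023) (tt N15260 F26692))
theorem Q13994 : ∀ i, i < 13994 → P i := stepQ 13993 Q13993 (allL N13993 (tt N15536 (iv F27278)) (tt N17064 D17095) (tt N11026 (iv D14016)) (tt N15553 (iv F27329)) (tt N15261 (iv F26696)) (tt N11034 F24024))
theorem Q13995 : ∀ i, i < 13995 → P i := stepQ 13994 Q13994 (allL N13994 (tt N11999 F24025) (tt N11027 (iv D14017)) (tt N16949 (iv F30296)) (tt N17065 D17096) (tt N17066 D17097) (tt N11997 F24026))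
theorem Q13996 : ∀ i, i < 13996 → P i := stepQ 13995 Q13995 (allL N13995 (tt N11030 F24027) (tt N17065 (iv F30518)) (tt N11264 F24028) (tt N11027 (iv D14018)) (tt N17067 D17098) (tt N16597 (iv F29542)))
theorem Q13997 : ∀ i, i < 13997 → P i := stepQ 13996 Q13996 (allL N13996 (tt N11031 F24029) (tt N17066 (iv F30522)) (tt N11028 F24030) (tt N17068 D17099) (tt N11027 (iv D14019)) (tt N16450 (iv F29252)))
theorem Q13998 : ∀ i, i < 13998 → P i := stepQ 13997 Q13997 (allL N13997 (tt N11032 F24031) (tt N16970 (iv F30358)) (tt N16450 (iv F29251)) (tt N17046 (iv F30489)) (tt N15521 (iv F27246)) (tt N11028 (iv D14020)))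
theorem Q13999 : ∀ i, i < 13999 → P i := stepQ 13998 Q13998 (allL N13998 (tt N11033 F24032) (tt N16969 (iv F30355)) (tt N12353 F24033) (tt N11029 (iv D14021)) (tt N15520 (iv F27241)) (tt N17048 (iv F30493)))
theorem Q14000 : ∀ i, i < 14000 → P i := stepQ 13999 Q13999 (allL N13999 (tt N11264 F24034) (tt N17069 D17100) (tt N11030 (iv D14022)) (tt N11263 F24035) (tt N17070 D17101) (tt N16595 (iv F29536)))
theorem Q14001 : ∀ i, i < 14001 → P i := stepQ 14000 Q14000 (allL N14000 (tt N17067 (iv F30524)) (tt N16942 (iv F30279)) (tt N17070 (iv F30532)) (tt N17071 D17102) (tt N11030 (iv D14023)) (tt N17072 D17103))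
theorem Q14002 : ∀ i, i < 14002 → P i := stepQ 14001 Q14001 (allL N14001 (tt N17068 (iv F30526)) (tt N16448 (iv F29245)) (tt N17073 D17104) (tt N11031 (iv D14024)) (tt N17071 (iv F30533)) (tt N16446 F29240))
theorem Q14003 : ∀ i, i < 14003 → P i := stepQ 14002 Q14002 (allL N14002 (tt N12353 F24036) (tt N17074 D17105) (tt N11033 (iv D14025)) (tt N12349 F24037) (tt N15522 (iv F27248)) (tt N17060 (iv F30511)))
theorem Q14004 : ∀ i, i < 14004 → P i := stepQ 14003 Q14003 (allL N14003 (tt N17075 D17106) (tt N11034 (iv D14026)) (tt N17074 (iv F30534)) (tt N17076 D17107) (tt N15516 F27231) (tt N17064 (iv F30516)))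
theorem Q14005 : ∀ i, i < 14005 → P i := stepQ 14004 Q14004 (allL N14004 (tt N15480 F27142) (tt N17076 (iv F30536)) (tt N15475 (iv F27133)) (tt N11034 (iv D14027)) (tt N15518 (iv F27235)) (tt N15553 (iv F27330)))
theorem Q14006 : ∀ i, i < 14006 → P i := stepQ 14005 Q14005 (allL N14005 (tt N15239 (iv F26649)) (tt N11036 F24038) (tt N15244 (iv F26661)) (tt N17077 D17108) (tt N11035 (iv D14028)) (tt N17078 D17109))
theorem Q14007 : ∀ i, i < 14007 → P i := stepQ 14006 Q14006 (allL N14006 (tt N11042 F24039) (tt N17077 (iv F30539)) (tt N17079 D17110) (tt N11036 (iv D14029)) (tt N15297 (iv F26760)) (tt N17080 D17111))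
theorem Q14008 : ∀ i, i < 14008 → P i := stepQ 14007 Q14007 (allL N14007 (tt N11043 F24040) (tt N17078 (iv F30542)) (tt N11037 F24041) (tt N17080 (iv F30548)) (tt N17004 (iv F30422)) (tt N11036 (iv D14030)))
theorem Q14009 : ∀ i, i < 14009 → P i := stepQ 14008 Q14008 (allL N14008 (tt N11039 F24042) (tt N15273 (iv F26725)) (tt N11039 F24043) (tt N11038 (iv D14031)) (tt N17081 D17112) (tt N15449 (iv F27073)))
theorem Q14010 : ∀ i, i < 14010 → P i := stepQ 14009 Q14009 (allL N14009 (tt N17081 (iv F30549)) (tt N11041 F24044) (tt N17081 (iv F30550)) (tt N17082 D17113) (tt N11039 (iv D14032)) (tt N17083 D17114))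
theorem Q14011 : ∀ i, i < 14011 → P i := stepQ 14010 Q14010 (allL N14010 (tt N15240 (iv F26652)) (tt N11042 F24045) (tt N17050 (iv F30496)) (tt N11040 (iv D14033)) (tt N17082 (iv F30552)) (tt N17084 D17115))
theorem Q14012 : ∀ i, i < 14012 → P i := stepQ 14011 Q14011 (allL N14011 (tt N15241 (iv F26653)) (tt N11043 F24046) (tt N11044 F24047) (tt N17084 (iv F30555)) (tt N15455 (iv F27085)) (tt N11040 (iv D14034)))
theorem Q14013 : ∀ i, i < 14013 → P i := stepQ 14012 Q14012 (allL N14012 (tt N15297 (iv F26759)) (tt N17082 (iv F30551)) (tt N17085 D17116) (tt N11041 (iv D14035)) (tt N11042 F24048) (tt N17086 D17117))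
theorem Q14014 : ∀ i, i < 14014 → P i := stepQ 14013 Q14013 (allL N14013 (tt N15298 (iv F26761)) (tt N17083 (iv F30553)) (tt N15296 (iv F26756)) (tt N17086 (iv F30557)) (tt N17006 (iv F30427)) (tt N11041 (iv D14036)))
theorem Q14015 : ∀ i, i < 14015 → P i := stepQ 14014 Q14014 (allL N14014 (tt N17079 (iv F30544)) (tt N17052 (iv F30500)) (tt N11042 (iv D14037)) (tt N16717 (iv F29822)) (tt N17085 (iv F30556)) (tt N16716 F29818))
theorem Q14016 : ∀ i, i < 14016 → P i := stepQ 14015 Q14015 (allL N14015 (tt N17080 (iv F30547)) (tt N17084 (iv F30554)) (tt N16716 (iv F29817)) (tt N11043 F24049) (tt N17087 D17118) (tt N11042 (iv D14038)))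
theorem Q14017 : ∀ i, i < 14017 → P i := stepQ 14016 Q14016 (allL N14016 (tt N11047 F24050) (tt N15449 (iv F27071)) (tt N11045 (iv D14039)) (tt N14968 (iv F25977)) (tt N17088 D17119) (tt N15273 (iv F26727)))
theorem Q14018 : ∀ i, i < 14018 → P i := stepQ 14017 Q14017 (allL N14017 (tt N13863 F24051) (tt N11046 F24052) (tt N17088 (iv F30559)) (tt N16729 (iv F29858)) (tt N11045 (iv D14040)) (tt N17089 D17120))
theorem Q14019 : ∀ i, i < 14019 → P i := stepQ 14018 Q14018 (allL N14018 (tt N11049 F24053) (tt N17089 (iv F30561)) (tt N17006 (iv F30426)) (tt N16730 (iv F29861)) (tt N15296 (iv F26758)) (tt N11046 (iv D14041)))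
theorem Q14020 : ∀ i, i < 14020 → P i := stepQ 14019 Q14019 (allL N14019 (tt N17088 (iv F30558)) (tt N11048 F24054) (tt N13863 F24055) (tt N17090 D17121) (tt N11047 (iv D14042)) (tt N17091 D17122))
theorem Q14021 : ∀ i, i < 14021 → P i := stepQ 14020 Q14020 (allL N14020 (tt N17005 (iv F30423)) (tt N17090 (iv F30562)) (tt N17092 D17123) (tt N11048 (iv D14043)) (tt N17003 (iv F30419)) (tt N17093 D17124))
theorem Q14022 : ∀ i, i < 14022 → P i := stepQ 14021 Q14021 (allL N14021 (tt N17006 (iv F30425)) (tt N17091 (iv F30563)) (tt N11049 F24056) (tt N17093 (iv F30565)) (tt N15298 (iv F26763)) (tt N11048 (iv D14044)))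
theorem Q14023 : ∀ i, i < 14023 → P i := stepQ 14022 Q14022 (allL N14022 (tt N11052 F24057) (tt N17094 D17125) (tt N11050 (iv D14045)) (tt N17095 D17126) (tt N17096 D17127) (tt N11093 F24058))
theorem Q14024 : ∀ i, i < 14024 → P i := stepQ 14023 Q14023 (allL N14023 (tt N11053 F24059) (tt N11058 F24060) (tt N17096 (iv F30575)) (tt N15254 (iv F26680)) (tt N11050 (iv D14046)) (tt N17097 D17128))
theorem Q14025 : ∀ i, i < 14025 → P i := stepQ 14024 Q14024 (allL N14024 (tt N11054 F24061) (tt N11060 F24062) (tt N12811 F24063) (tt N17098 D17129) (tt N11051 (iv D14047)) (tt N14934 (iv F25888)))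
theorem Q14026 : ∀ i, i < 14026 → P i := stepQ 14025 Q14025 (allL N14025 (tt N17095 (iv F30570)) (tt N11097 F24064) (tt N17099 D17130) (tt N11052 (iv D14048)) (tt N17100 D17131) (tt N11094 F24065))
theorem Q14027 : ∀ i, i < 14027 → P i := stepQ 14026 Q14026 (allL N14026 (tt N17096 (iv F30574)) (tt N11100 F24066) (tt N11053 F24067) (tt N17101 D17132) (tt N11052 (iv D14049)) (tt N17102 D17133))
theorem Q14028 : ∀ i, i < 14028 → P i := stepQ 14027 Q14027 (allL N14027 (tt N17097 (iv F30576)) (tt N11055 F24068) (tt N17102 (iv F30589)) (tt N15256 (iv F26683)) (tt N11104 F24069) (tt N11053 (iv D14050)))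
theorem Q14029 : ∀ i, i < 14029 → P i := stepQ 14028 Q14028 (allL N14028 (tt N17098 (iv F30579)) (tt N11056 F24070) (tt N17103 D17134) (tt N11054 (iv D14051)) (tt N11103 F24071) (tt N14935 (iv F25890)))
theorem Q14030 : ∀ i, i < 14030 → P i := stepQ 14029 Q14029 (allL N14029 (tt N11074 F24072) (tt N17104 D17135) (tt N11056 (iv D14052)) (tt N13849 F24073) (tt N11105 F24074) (tt N13861 F24075))
theorem Q14031 : ∀ i, i < 14031 → P i := stepQ 14030 Q14030 (allL N14030 (tt N17105 D17136) (tt N11057 (iv D14053)) (tt N17094 (iv F30567)) (tt N15600 (iv F27421)) (tt N17106 D17137) (tt N17107 D17138))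
theorem Q14032 : ∀ i, i < 14032 → P i := stepQ 14031 Q14031 (allL N14031 (tt N11063 F24076) (tt N17106 (iv F30599)) (tt N11058 F24077) (tt N17108 D17139) (tt N11057 (iv D14054)) (tt N17109 D17140))
theorem Q14033 : ∀ i, i < 14033 → P i := stepQ 14032 Q14032 (allL N14032 (tt N11064 F24078) (tt N17107 (iv F30601)) (tt N11059 F24079) (tt N11080 F24080) (tt N17110 D17141) (tt N11057 (iv D14055)))
theorem Q14034 : ∀ i, i < 14034 → P i := stepQ 14033 Q14033 (allL N14033 (tt N11065 F24081) (tt N17097 (iv F30577)) (tt N17109 (iv F30607)) (tt N15554 (iv F27332)) (tt N17111 D17142) (tt N11058 (iv D14056)))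
theorem Q14035 : ∀ i, i < 14035 → P i := stepQ 14034 Q14034 (allL N14034 (tt N11066 F24082) (tt N11102 F24083) (tt N17110 (iv F30610)) (tt N17112 D17143) (tt N11059 (iv D14057)) (tt N17111 (iv F30614)))
theorem Q14036 : ∀ i, i < 14036 → P i := stepQ 14035 Q14035 (allL N14035 (tt N11067 F24084) (tt N17098 (iv F30580)) (tt N17113 D17144) (tt N11060 (iv D14058)) (tt N17112 (iv F30617)) (tt N15551 (iv F27324)))
theorem Q14037 : ∀ i, i < 14037 → P i := stepQ 14036 Q14036 (allL N14036 (tt N11061 (iv D14059)) (tt N17105 (iv F30595)) (tt N11068 F24085) (tt N12715 (iv F24087)) (tt N17114 D17145) (tt N11085 F24086))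
theorem Q14038 : ∀ i, i < 14038 → P i := stepQ 14037 Q14037 (allL N14037 (tt N12715 F24088) (tt N11062 F24089) (tt N12710 F24091) (tt N11061 (iv D14060)) (tt N17115 D17146) (tt N11086 F24090))
theorem Q14039 : ∀ i, i < 14039 → P i := stepQ 14038 Q14038 (allL N14038 (tt N17114 (iv F30619)) (tt N11063 F24092) (tt N11069 F24093) (tt N17116 D17147) (tt N11061 (iv D14061)) (tt N17117 D17148))
theorem Q14040 : ∀ i, i < 14040 → P i := stepQ 14039 Q14039 (allL N14039 (tt N15601 (iv F27423)) (tt N17115 (iv F30622)) (tt N15599 (iv F27419)) (tt N17118 D17149) (tt N11062 (iv D14062)) (tt N17119 D17150))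
theorem Q14041 : ∀ i, i < 14041 → P i := stepQ 14040 Q14040 (allL N14040 (tt N11080 F24094) (tt N11086 F24095) (tt N11076 F24096) (tt N11064 F24097) (tt N15494 (iv F27177)) (tt N11062 (iv D14063)))
theorem Q14042 : ∀ i, i < 14042 → P i := stepQ 14041 Q14041 (allL N14041 (tt N17108 (iv F30605)) (tt N17116 (iv F30624)) (tt N17120 D17151) (tt N11063 (iv D14064)) (tt N17118 (iv F30628)) (tt N17121 D17152))
theorem Q14043 : ∀ i, i < 14043 → P i := stepQ 14042 Q14042 (allL N14042 (tt N17109 (iv F30606)) (tt N17117 (iv F30625)) (tt N11065 F24098) (tt N17121 (iv F30629)) (tt N17122 D17153) (tt N11063 (iv D14065)))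
theorem Q14044 : ∀ i, i < 14044 → P i := stepQ 14043 Q14043 (allL N14043 (tt N17110 (iv F30608)) (tt N11087 F24099) (tt N11066 F24100) (tt N17123 D17154) (tt N11064 (iv D14066)) (tt N17122 (iv F30632)))
theorem Q14045 : ∀ i, i < 14045 → P i := stepQ 14044 Q14044 (allL N14044 (tt N17111 (iv F30612)) (tt N11072 F24101) (tt N17122 (iv F30631)) (tt N17124 D17155) (tt N11065 (iv D14067)) (tt N11066 F24102))
theorem Q14046 : ∀ i, i < 14046 → P i := stepQ 14045 Q14045 (allL N14045 (tt N17112 (iv F30615)) (tt N11073 F24103) (tt N17125 D17156) (tt N11066 (iv D14068)) (tt N11067 F24104) (tt N17124 (iv F30637)))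
theorem Q14047 : ∀ i, i < 14047 → P i := stepQ 14046 Q14046 (allL N14046 (tt N17113 (iv F30618)) (tt N17126 D17157) (tt N11067 (iv D14069)) (tt N17127 D17158) (tt N17125 (iv F30638)) (tt N15552 (iv F27325)))
theorem Q14048 : ∀ i, i < 14048 → P i := stepQ 14047 Q14047 (allL N14047 (tt N11069 F24105) (tt N11092 F24106) (tt N17114 (iv F30620)) (tt N13772 F24107) (tt N11068 (iv D14070)) (tt N14474 (iv F24950)))
theorem Q14049 : ∀ i, i < 14049 → P i := stepQ 14048 Q14048 (allL N14048 (tt N13772 F24108) (tt N11070 F24109) (tt N17128 D17159) (tt N11069 (iv D14071)) (tt N11089 F24110) (tt N14743 (iv F25531)))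
theorem Q14050 : ∀ i, i < 14050 → P i := stepQ 14049 Q14049 (allL N14049 (tt N14474 (iv F24948)) (tt N11071 F24111) (tt N17117 (iv F30626)) (tt N14743 (iv F25530)) (tt N11088 F24112) (tt N11069 (iv D14072)))
theorem Q14051 : ∀ i, i < 14051 → P i := stepQ 14050 Q14050 (allL N14050 (tt N11106 F24113) (tt N17124 (iv F30636)) (tt N13562 F24114) (tt N11072 (iv D14073)) (tt N15194 (iv F26522)) (tt N11073 F24115))
theorem Q14052 : ∀ i, i < 14052 → P i := stepQ 14051 Q14051 (allL N14051 (tt N11105 F24116) (tt N17129 D17160) (tt N11073 (iv D14074)) (tt N13563 F24117) (tt N11074 F24118) (tt N13562 F24119))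
theorem Q14053 : ∀ i, i < 14053 → P i := stepQ 14052 Q14052 (allL N14052 (tt N17130 D17161) (tt N11074 (iv D14075)) (tt N17126 (iv F30639)) (tt N14933 (iv F25884)) (tt N17129 (iv F30644)) (tt N15555 (iv F27333)))
theorem Q14054 : ∀ i, i < 14054 → P i := stepQ 14053 Q14053 (allL N14053 (tt N15467 (iv F27115)) (tt N11076 F24120) (tt N15179 (iv F26495)) (tt N11075 (iv D14076)) (tt N15146 F26420) (tt N15598 (iv F27417)))
theorem Q14055 : ∀ i, i < 14055 → P i := stepQ 14054 Q14054 (allL N14054 (tt N15503 (iv F27196)) (tt N11077 F24121) (tt N15562 (iv F27348)) (tt N15147 (iv F26424)) (tt N11075 (iv D14077)) (tt N15735 (iv F27708)))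
theorem Q14056 : ∀ i, i < 14056 → P i := stepQ 14055 Q14055 (allL N14055 (tt N11083 F24124) (tt N15735 (iv F27706)) (tt N11078 F24125) (tt N15495 (iv F27181)) (tt N13825 F24126) (tt N11077 (iv D14080)))
theorem Q14057 : ∀ i, i < 14057 → P i := stepQ 14056 Q14056 (allL N14056 (tt N11084 F24127) (tt N17131 D17162) (tt N11079 (iv D14081)) (tt N17132 D17163) (tt N13834 F24128) (tt N15547 (iv F27317)))
theorem Q14058 : ∀ i, i < 14058 → P i := stepQ 14057 Q14057 (allL N14057 (tt N15012 F26073) (tt N11080 (iv D14082)) (tt N15313 F26795) (tt N17107 (iv F30603)) (tt N14731 (iv F26074)) (tt N15600 (iv F27422)))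
theorem Q14059 : ∀ i, i < 14059 → P i := stepQ 14058 Q14058 (allL N14058 (tt N15494 (iv F27175)) (tt N14731 F26075) (tt N11081 F24129) (tt N14730 (iv F26076)) (tt N11080 (iv D14083)) (tt N15190 (iv F26515)))
theorem Q14060 : ∀ i, i < 14060 → P i := stepQ 14059 Q14059 (allL N14059 (tt N15143 (iv F26408)) (tt N15499 (iv F27185)) (tt N15190 (iv F26516)) (tt N15142 F26407) (tt N15602 (iv F27426)) (tt N11081 (iv D14085)))
theorem Q14061 : ∀ i, i < 14061 → P i := stepQ 14060 Q14060 (allL N14060 (tt N15495 (iv F27178)) (tt N13833 F24131) (tt N15492 (iv F27173)) (tt N11083 F24132) (tt N15731 (iv F27698)) (tt N11082 (iv D14087)))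
theorem Q14062 : ∀ i, i < 14062 → P i := stepQ 14061 Q14061 (allL N14061 (tt N17132 (iv F30647)) (tt N14514 (iv F25013)) (tt N17133 D17164) (tt N11084 (iv D14088)) (tt N17134 D17165) (tt N15550 (iv F27322)))
theorem Q14063 : ∀ i, i < 14063 → P i := stepQ 14062 Q14062 (allL N14062 (tt N17107 (iv F30600)) (tt N11085 (iv D14089)) (tt N11090 F24133) (tt N15012 (iv F26072)) (tt N14471 (iv F24940)) (tt N17105 F30598))
theorem Q14064 : ∀ i, i < 14064 → P i := stepQ 14063 Q14063 (allL N14063 (tt N11086 F24134) (tt N15012 (iv F26071)) (tt N12717 F24135) (tt N11085 (iv D14090)) (tt N15010 (iv F26066)) (tt N12715 F24136))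
theorem Q14065 : ∀ i, i < 14065 → P i := stepQ 14064 Q14064 (allL N14064 (tt N12717 F24137) (tt N15179 (iv F26494)) (tt N11086 (iv D14091)) (tt N12711 F24138) (tt N15178 F26492) (tt N12710 F24139))
theorem Q14066 : ∀ i, i < 14066 → P i := stepQ 14065 Q14065 (allL N14065 (tt N15010 (iv F26064)) (tt N15494 (iv F27176)) (tt N15178 (iv F26491)) (tt N15009 F26063) (tt N11086 (iv D14092)) (tt N17135 D17166))
theorem Q14067 : ∀ i, i < 14067 → P i := stepQ 14066 Q14066 (allL N14066 (tt N14472 (iv F24942)) (tt N17123 (iv F30634)) (tt N15013 (iv F26085)) (tt N11087 (iv D14093)) (tt N15009 (iv F26062)) (tt N17136 D17167))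
theorem Q14068 : ∀ i, i < 14068 → P i := stepQ 14067 Q14067 (allL N14067 (tt N14473 (iv F24946)) (tt N17122 (iv F30630)) (tt N11088 F24140) (tt N17136 (iv F30650)) (tt N17117 (iv F30627)) (tt N11087 (iv D14094)))
theorem Q14069 : ∀ i, i < 14069 → P i := stepQ 14068 Q14068 (allL N14068 (tt N13771 F24141) (tt N12259 F24142) (tt N11089 (iv D14095)) (tt N17137 D17168) (tt N17128 (iv F30642)) (tt N12298 F24143))
theorem Q14070 : ∀ i, i < 14070 → P i := stepQ 14069 Q14069 (allL N14069 (tt N11090 (iv D14096)) (tt N11093 F24144) (tt N17107 (iv F30602)) (tt N15361 (iv F26901)) (tt N14475 (iv F24952)) (tt N17094 (iv F30568)))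
theorem Q14071 : ∀ i, i < 14071 → P i := stepQ 14070 Q14070 (allL N14070 (tt N17094 (iv F30566)) (tt N11091 F24145) (tt N17105 (iv F30596)) (tt N11112 F24146) (tt N17138 D17169) (tt N11090 (iv D14097)))
theorem Q14072 : ∀ i, i < 14072 → P i := stepQ 14071 Q14071 (allL N14071 (tt N11100 F24147) (tt N17138 (iv F30655)) (tt N11092 F24148) (tt N17139 D17170) (tt N11091 (iv D14098)) (tt N14477 (iv F24957)))
theorem Q14073 : ∀ i, i < 14073 → P i := stepQ 14072 Q14072 (allL N14072 (tt N11094 F24149) (tt N15361 (iv F26899)) (tt N12812 F24150) (tt N11093 (iv D14099)) (tt N17140 D17171) (tt N17095 (iv F30573)))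
theorem Q14074 : ∀ i, i < 14074 → P i := stepQ 14073 Q14073 (allL N14073 (tt N11095 F24151) (tt N14475 (iv F24951)) (tt N11102 F24152) (tt N17141 D17172) (tt N11093 (iv D14100)) (tt N17142 D17173))
theorem Q14075 : ∀ i, i < 14075 → P i := stepQ 14074 Q14074 (allL N14074 (tt N12812 F24153) (tt N15321 (iv F26820)) (tt N11094 (iv D14101)) (tt N12809 F24154) (tt N17143 D17174) (tt N17099 (iv F30585)))
theorem Q14076 : ∀ i, i < 14076 → P i := stepQ 14075 Q14075 (allL N14075 (tt N17140 (iv F30658)) (tt N11096 F24155) (tt N17143 (iv F30669)) (tt N17144 D17175) (tt N11094 (iv D14102)) (tt N17145 D17176))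
theorem Q14077 : ∀ i, i < 14077 → P i := stepQ 14076 Q14076 (allL N14076 (tt N17141 (iv F30660)) (tt N11098 F24156) (tt N17146 D17177) (tt N11095 (iv D14103)) (tt N17144 (iv F30671)) (tt N14480 (iv F24964)))
theorem Q14078 : ∀ i, i < 14078 → P i := stepQ 14077 Q14077 (allL N14077 (tt N17142 (iv F30664)) (tt N11099 F24157) (tt N11104 F24158) (tt N14480 (iv F24963)) (tt N17102 (iv F30590)) (tt N11095 (iv D14104)))
theorem Q14079 : ∀ i, i < 14079 → P i := stepQ 14078 Q14078 (allL N14078 (tt N14476 (iv F24953)) (tt N17144 (iv F30670)) (tt N14481 (iv F24965)) (tt N11096 (iv D14105)) (tt N11098 F24159) (tt N17147 D17178))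
theorem Q14080 : ∀ i, i < 14080 → P i := stepQ 14079 Q14079 (allL N14079 (tt N15363 (iv F26905)) (tt N17145 (iv F30672)) (tt N15360 (iv F26896)) (tt N17147 (iv F30675)) (tt N17148 D17179) (tt N11096 (iv D14106)))
theorem Q14081 : ∀ i, i < 14081 → P i := stepQ 14080 Q14080 (allL N14080 (tt N11113 F24160) (tt N17100 (iv F30586)) (tt N11111 F24161) (tt N17149 D17180) (tt N11097 (iv D14107)) (tt N17148 (iv F30678)))
theorem Q14082 : ∀ i, i < 14082 → P i := stepQ 14081 Q14081 (allL N14081 (tt N14477 (iv F24955)) (tt N17102 (iv F30588)) (tt N11101 F24162) (tt N17150 D17181) (tt N11099 (iv D14108)) (tt N11100 F24163))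
theorem Q14083 : ∀ i, i < 14083 → P i := stepQ 14082 Q14082 (allL N14082 (tt N17139 (iv F30656)) (tt N17101 (iv F30587)) (tt N17151 D17182) (tt N11100 (iv D14109)) (tt N17149 (iv F30680)) (tt N17150 (iv F30681)))
theorem Q14084 : ∀ i, i < 14084 → P i := stepQ 14083 Q14083 (allL N14083 (tt N11103 F24164) (tt N17112 (iv F30616)) (tt N17152 D17183) (tt N11102 (iv D14110)) (tt N17098 (iv F30581)) (tt N17153 D17184))
theorem Q14085 : ∀ i, i < 14085 → P i := stepQ 14084 Q14084 (allL N14084 (tt N11104 F24165) (tt N17111 (iv F30613)) (tt N17142 (iv F30666)) (tt N17153 (iv F30684)) (tt N17097 (iv F30578)) (tt N11102 (iv D14111)))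
theorem Q14086 : ∀ i, i < 14086 → P i := stepQ 14085 Q14085 (allL N14085 (tt N17152 (iv F30682)) (tt N17154 D17185) (tt N11103 (iv D14112)) (tt N17155 D17186) (tt N17103 (iv F30591)) (tt N17156 D17187))
theorem Q14087 : ∀ i, i < 14087 → P i := stepQ 14086 Q14086 (allL N14086 (tt N17153 (iv F30683)) (tt N11106 F24166) (tt N17156 (iv F30687)) (tt N11104 F24167) (tt N17157 D17188) (tt N11103 (iv D14113)))
theorem Q14088 : ∀ i, i < 14088 → P i := stepQ 14087 Q14087 (allL N14087 (tt N17158 D17189) (tt N11105 (iv D14114)) (tt N17154 (iv F30685)) (tt N14735 (iv F25516)) (tt N17104 (iv F30593)) (tt N14734 F25513))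
theorem Q14089 : ∀ i, i < 14089 → P i := stepQ 14088 Q14088 (allL N14088 (tt N15194 (iv F26521)) (tt N17157 (iv F30688)) (tt N14736 (iv F25519)) (tt N14940 (iv F25902)) (tt N11106 (iv D14115)) (tt N14936 (iv F25893)))
theorem Q14090 : ∀ i, i < 14090 → P i := stepQ 14089 Q14089 (allL N14089 (tt N17159 D17190) (tt N11108 (iv D14116)) (tt N13793 F24168) (tt N15236 (iv F26642)) (tt N11109 F24169) (tt N15452 (iv F27080)))
theorem Q14091 : ∀ i, i < 14091 → P i := stepQ 14090 Q14090 (allL N14090 (tt N11109 (iv D14117)) (tt N12257 F24170) (tt N13790 F24171) (tt N12250 F24172) (tt N17159 (iv F30691)) (tt N12299 F24173))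
theorem Q14092 : ∀ i, i < 14092 → P i := stepQ 14091 Q14091 (allL N14091 (tt N15319 (iv F26813)) (tt N17099 (iv F30583)) (tt N11110 (iv D14118)) (tt N15678 (iv F27584)) (tt N17160 D17191) (tt N15321 (iv F26821)))
theorem Q14093 : ∀ i, i < 14093 → P i := stepQ 14092 Q14092 (allL N14092 (tt N15320 (iv F26817)) (tt N11111 F24174) (tt N17160 (iv F30692)) (tt N13757 F24175) (tt N11110 (iv D14119)) (tt N17161 D17192))
theorem Q14094 : ∀ i, i < 14094 → P i := stepQ 14093 Q14093 (allL N14093 (tt N11114 F24176) (tt N17161 (iv F30693)) (tt N17148 (iv F30677)) (tt N13758 F24177) (tt N15360 (iv F26898)) (tt N11111 (iv D14120)))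
theorem Q14095 : ∀ i, i < 14095 → P i := stepQ 14094 Q14094 (allL N14094 (tt N11112 (iv D14121)) (tt N17095 (iv F30571)) (tt N15317 F26809) (tt N17094 F30569) (tt N17162 D17193) (tt N15361 (iv F26902)))
theorem Q14096 : ∀ i, i < 14096 → P i := stepQ 14095 Q14095 (allL N14095 (tt N17162 (iv F30695)) (tt N11113 F24178) (tt N15318 (iv F26811)) (tt N17163 D17194) (tt N11112 (iv D14122)) (tt N17164 D17195))
theorem Q14097 : ∀ i, i < 14097 → P i := stepQ 14096 Q14096 (allL N14096 (tt N17149 (iv F30679)) (tt N17163 (iv F30696)) (tt N17165 D17196) (tt N11113 (iv D14123)) (tt N17139 (iv F30657)) (tt N17166 D17197))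
theorem Q14098 : ∀ i, i < 14098 → P i := stepQ 14097 Q14097 (allL N14097 (tt N17148 (iv F30676)) (tt N17164 (iv F30697)) (tt N11114 F24179) (tt N17166 (iv F30698)) (tt N15363 (iv F26907)) (tt N11113 (iv D14124)))
theorem Q14099 : ∀ i, i < 14099 → P i := stepQ 14098 Q14098 (allL N14098 (tt N17167 D17198) (tt N11115 (iv D14125)) (tt N11116 F24180) (tt N17168 D17199) (tt N16281 (iv F28842)) (tt N14195 (iv F24378)))
theorem Q14100 : ∀ i, i < 14100 → P i := stepQ 14099 Q14099 (allL N14099 (tt N11462 F24181) (tt N17168 (iv F30702)) (tt N14205 (iv F24401)) (tt N11115 (iv D14126)) (tt N17169 D17200) (tt N14196 (iv F24381)))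
theorem Q14101 : ∀ i, i < 14101 → P i := stepQ 14100 Q14100 (allL N14100 (tt N11116 (iv D14127)) (tt N11140 F24182) (tt N17167 (iv F30700)) (tt N14198 (iv F24386)) (tt N16284 (iv F28850)) (tt N14198 (iv F24387)))
theorem Q14102 : ∀ i, i < 14102 → P i := stepQ 14101 Q14101 (allL N14101 (tt N11117 (iv D14128)) (tt N11119 F24183) (tt N14182 (iv F24352)) (tt N11149 (iv F24184)) (tt N16840 (iv F30092)) (tt N11117 (iv F24185)))
theorem Q14103 : ∀ i, i < 14103 → P i := stepQ 14102 Q14102 (allL N14102 (tt N11149 F24186) (tt N11118 F24187) (tt N11209 (iv F24189)) (tt N11117 (iv D14129)) (tt N17170 D17201) (tt N11149 F24188))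
theorem Q14104 : ∀ i, i < 14104 → P i := stepQ 14103 Q14103 (allL N14103 (tt N11124 F24190) (tt N17170 (iv F30705)) (tt N11152 F24191) (tt N16843 (iv F30096)) (tt N11118 (iv D14130)) (tt N17171 D17202))
theorem Q14105 : ∀ i, i < 14105 → P i := stepQ 14104 Q14104 (allL N14104 (tt N11122 F24192) (tt N16840 (iv F30091)) (tt N11120 F24193) (tt N17172 D17203) (tt N11119 (iv D14131)) (tt N16844 (iv F30099)))
theorem Q14106 : ∀ i, i < 14106 → P i := stepQ 14105 Q14105 (allL N14105 (tt N11150 F24194) (tt N11124 F24195) (tt N11144 F24196) (tt N17173 D17204) (tt N11121 (iv D14132)) (tt N17174 D17205))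
theorem Q14107 : ∀ i, i < 14107 → P i := stepQ 14106 Q14106 (allL N14106 (tt N17172 (iv F30710)) (tt N11125 F24197) (tt N17175 D17206) (tt N11122 (iv D14133)) (tt N17173 (iv F30714)) (tt N16851 (iv F30111)))
theorem Q14108 : ∀ i, i < 14108 → P i := stepQ 14107 Q14107 (allL N14107 (tt N16844 (iv F30097)) (tt N11126 F24198) (tt N11127 F24199) (tt N16851 (iv F30110)) (tt N11126 F24200) (tt N11122 (iv D14134)))
theorem Q14109 : ∀ i, i < 14109 → P i := stepQ 14108 Q14108 (allL N14108 (tt N11203 F24201) (tt N11123 (iv D14135)) (tt N11142 F24202) (tt N11143 F24203) (tt N17176 D17207) (tt N11142 F24204))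
theorem Q14110 : ∀ i, i < 14110 → P i := stepQ 14109 Q14109 (allL N14109 (tt N11152 F24205) (tt N17176 (iv F30720)) (tt N11124 F24206) (tt N17177 D17208) (tt N11123 (iv D14136)) (tt N17178 D17209))
theorem Q14111 : ∀ i, i < 14111 → P i := stepQ 14110 Q14110 (allL N14110 (tt N16843 (iv F30095)) (tt N17173 (iv F30713)) (tt N16854 (iv F30114)) (tt N11124 (iv D14137)) (tt N11125 F24207) (tt N17179 D17210))
theorem Q14112 : ∀ i, i < 14112 → P i := stepQ 14111 Q14111 (allL N14111 (tt N17171 (iv F30707)) (tt N17174 (iv F30716)) (tt N17178 (iv F30726)) (tt N17179 (iv F30728)) (tt N17174 (iv F30718)) (tt N11124 (iv D14138)))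
theorem Q14113 : ∀ i, i < 14113 → P i := stepQ 14112 Q14112 (allL N14112 (tt N17180 D17211) (tt N11128 (iv D14139)) (tt N11486 F24208) (tt N16287 (iv F28856)) (tt N11130 F24209) (tt N16289 (iv F28864)))
theorem Q14114 : ∀ i, i < 14114 → P i := stepQ 14113 Q14113 (allL N14113 (tt N11130 (iv D14140)) (tt N14198 (iv F24385)) (tt N11484 F24210) (tt N11140 F24211) (tt N17180 (iv F30730)) (tt N11140 F24212))
theorem Q14115 : ∀ i, i < 14115 → P i := stepQ 14114 Q14114 (allL N14114 (tt N17181 D17212) (tt N11131 (iv D14141)) (tt N11133 F24213) (tt N17182 D17213) (tt N16270 (iv F28799)) (tt N17183 D17214))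
theorem Q14116 : ∀ i, i < 14116 → P i := stepQ 14115 Q14115 (allL N14115 (tt N16520 (iv F29386)) (tt N17182 (iv F30732)) (tt N17184 D17215) (tt N11131 (iv D14142)) (tt N17185 D17216) (tt N17186 D17217))
theorem Q14117 : ∀ i, i < 14117 → P i := stepQ 14116 Q14116 (allL N14116 (tt N16521 (iv F29387)) (tt N17183 (iv F30733)) (tt N11132 F24214) (tt N17186 (iv F30739)) (tt N17187 D17218) (tt N11131 (iv D14143)))
theorem Q14118 : ∀ i, i < 14118 → P i := stepQ 14117 Q14117 (allL N14117 (tt N16522 (iv F29389)) (tt N11136 F24215) (tt N17187 (iv F30741)) (tt N15985 (iv F28226)) (tt N11132 (iv D14144)) (tt N15986 (iv F28231)))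
theorem Q14119 : ∀ i, i < 14119 → P i := stepQ 14118 Q14118 (allL N14118 (tt N11133 (iv D14145)) (tt N16288 (iv F28859)) (tt N17181 (iv F30731)) (tt N17188 D17219) (tt N16272 (iv F28802)) (tt N17189 D17220))
theorem Q14120 : ∀ i, i < 14120 → P i := stepQ 14119 Q14119 (allL N14119 (tt N17188 (iv F30743)) (tt N11134 F24216) (tt N17190 D17221) (tt N11133 (iv D14146)) (tt N16286 (iv F28854)) (tt N14197 (iv F24384)))
theorem Q14121 : ∀ i, i < 14121 → P i := stepQ 14120 Q14120 (allL N14120 (tt N17189 (iv F30746)) (tt N11135 F24217) (tt N17183 (iv F30734)) (tt N14197 (iv F24382)) (tt N16285 (iv F28852)) (tt N11133 (iv D14147)))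
theorem Q14122 : ∀ i, i < 14122 → P i := stepQ 14121 Q14121 (allL N14121 (tt N17191 D17222) (tt N11137 (iv D14148)) (tt N11479 F24218) (tt N16279 (iv F28834)) (tt N16289 (iv F28863)) (tt N11138 F24219))
theorem Q14123 : ∀ i, i < 14123 → P i := stepQ 14122 Q14122 (allL N14122 (tt N11138 (iv D14149)) (tt N16284 (iv F28848)) (tt N11478 F24220) (tt N17192 D17223) (tt N11140 F24221) (tt N17191 (iv F30752)))
theorem Q14124 : ∀ i, i < 14124 → P i := stepQ 14123 Q14123 (allL N14123 (tt N17192 (iv F30753)) (tt N11139 F24222) (tt N16532 (iv F29408)) (tt N11138 (iv D14150)) (tt N16287 (iv F28857)) (tt N16279 (iv F28836)))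
theorem Q14125 : ∀ i, i < 14125 → P i := stepQ 14124 Q14124 (allL N14124 (tt N11142 F24223) (tt N11146 F24224) (tt N11203 F24225) (tt N11141 (iv D14151)) (tt N17193 D17224) (tt N11203 F24226))
theorem Q14126 : ∀ i, i < 14126 → P i := stepQ 14125 Q14125 (allL N14125 (tt N17193 (iv F30754)) (tt N11144 F24227) (tt N17176 (iv F30721)) (tt N11470 F24228) (tt N11142 (iv D14152)) (tt N17194 D17225))
theorem Q14127 : ∀ i, i < 14127 → P i := stepQ 14126 Q14126 (allL N14126 (tt N11204 F24229) (tt N11145 F24230) (tt N11220 F24231) (tt N17195 D17226) (tt N11143 (iv D14153)) (tt N11425 F24232))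
theorem Q14128 : ∀ i, i < 14128 → P i := stepQ 14127 Q14127 (allL N14127 (tt N11151 F24233) (tt N17194 (iv F30758)) (tt N17174 (iv F30717)) (tt N11471 F24234) (tt N17178 (iv F30727)) (tt N11144 (iv D14154)))
theorem Q14129 : ∀ i, i < 14129 → P i := stepQ 14128 Q14128 (allL N14128 (tt N11153 F24235) (tt N17195 (iv F30761)) (tt N11449 F24237) (tt N11145 (iv D14155)) (tt N17177 (iv F30723)) (tt N11426 F24236))
theorem Q14130 : ∀ i, i < 14130 → P i := stepQ 14129 Q14129 (allL N14129 (tt N11148 F24238) (tt N17193 (iv F30755)) (tt N11194 F24239) (tt N11489 F24240) (tt N11146 (iv D14156)) (tt N17196 D17227))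
theorem Q14131 : ∀ i, i < 14131 → P i := stepQ 14130 Q14130 (allL N14130 (tt N11209 F24241) (tt N11147 (iv D14157)) (tt N11149 F24242) (tt N11187 F24243) (tt N17197 D17228) (tt N11209 F24244))
theorem Q14132 : ∀ i, i < 14132 → P i := stepQ 14131 Q14131 (allL N14131 (tt N11194 F24245) (tt N17197 (iv F30768)) (tt N11148 F24246) (tt N17198 D17229) (tt N11147 (iv D14158)) (tt N17199 D17230))
theorem Q14133 : ∀ i, i < 14133 → P i := stepQ 14132 Q14132 (allL N14132 (tt N17196 (iv F30763)) (tt N11151 F24247) (tt N17199 (iv F30773)) (tt N11493 F24248) (tt N11212 F24249) (tt N11148 (iv D14159)))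
theorem Q14134 : ∀ i, i < 14134 → P i := stepQ 14133 Q14133 (allL N14133 (tt N17170 (iv F30704)) (tt N11150 F24250) (tt N17197 (iv F30769)) (tt N17200 D17231) (tt N11149 (iv D14160)) (tt N17201 D17232))
theorem Q14135 : ∀ i, i < 14135 → P i := stepQ 14134 Q14134 (allL N14134 (tt N17173 (iv F30712)) (tt N17200 (iv F30775)) (tt N17202 D17233) (tt N11150 (iv D14161)) (tt N17172 (iv F30711)) (tt N17203 D17234))
theorem Q14136 : ∀ i, i < 14136 → P i := stepQ 14135 Q14135 (allL N14135 (tt N17174 (iv F30715)) (tt N17201 (iv F30776)) (tt N11151 F24251) (tt N17203 (iv F30781)) (tt N17171 (iv F30709)) (tt N11150 (iv D14162)))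
theorem Q14137 : ∀ i, i < 14137 → P i := stepQ 14136 Q14136 (allL N14136 (tt N17178 (iv F30725)) (tt N11212 F24252) (tt N17171 (iv F30708)) (tt N17204 D17235) (tt N11151 (iv D14163)) (tt N11152 F24253))
theorem Q14138 : ∀ i, i < 14138 → P i := stepQ 14137 Q14137 (allL N14137 (tt N17177 (iv F30722)) (tt N11211 F24254) (tt N17205 D17236) (tt N11152 (iv D14164)) (tt N11153 F24255) (tt N17204 (iv F30784)))
theorem Q14139 : ∀ i, i < 14139 → P i := stepQ 14138 Q14138 (allL N14138 (tt N11449 F24256) (tt N17206 D17237) (tt N11153 (iv D14165)) (tt N11424 F24258) (tt N17205 (iv F30786)) (tt N11450 F24257))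
theorem Q14140 : ∀ i, i < 14140 → P i := stepQ 14139 Q14139 (allL N14139 (tt N13839 F24259) (tt N11154 (iv D14166)) (tt N11175 F24260) (tt N17207 D17238) (tt N11284 F24261) (tt N14204 (iv F24399)))
theorem Q14141 : ∀ i, i < 14141 → P i := stepQ 14140 Q14140 (allL N14140 (tt N11155 F24262) (tt N17207 (iv F30791)) (tt N14196 (iv F24380)) (tt N11154 (iv D14167)) (tt N17208 D17239) (tt N14205 (iv F24402)))
theorem Q14142 : ∀ i, i < 14142 → P i := stepQ 14141 Q14141 (allL N14141 (tt N14196 (iv F24379)) (tt N17209 D17240) (tt N11155 (iv D14168)) (tt N11463 F24264) (tt N17210 D17241) (tt N11462 F24263))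
theorem Q14143 : ∀ i, i < 14143 → P i := stepQ 14142 Q14142 (allL N14142 (tt N17208 (iv F30792)) (tt N13845 F24265) (tt N17210 (iv F30797)) (tt N11287 F24266) (tt N11155 (iv D14169)) (tt N17211 D17242))
theorem Q14144 : ∀ i, i < 14144 → P i := stepQ 14143 Q14143 (allL N14143 (tt N14151 (iv F24286)) (tt N11160 F24267) (tt N14151 (iv F24288)) (tt N17212 D17243) (tt N11158 (iv D14170)) (tt N17213 D17244))
theorem Q14145 : ∀ i, i < 14145 → P i := stepQ 14144 Q14144 (allL N14144 (tt N14220 (iv F24424)) (tt N11161 F24268) (tt N17214 D17245) (tt N11159 (iv D14171)) (tt N17212 (iv F30801)) (tt N17215 D17246))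
theorem Q14146 : ∀ i, i < 14146 → P i := stepQ 14145 Q14145 (allL N14145 (tt N14219 (iv F24420)) (tt N11162 F24269) (tt N14201 (iv F24392)) (tt N17215 (iv F30805)) (tt N13644 F24270) (tt N11159 (iv D14172)))
theorem Q14147 : ∀ i, i < 14147 → P i := stepQ 14146 Q14146 (allL N14146 (tt N11166 F24271) (tt N17212 (iv F30800)) (tt N17216 D17247) (tt N11160 (iv D14173)) (tt N11161 F24272) (tt N17217 D17248))
theorem Q14148 : ∀ i, i < 14148 → P i := stepQ 14147 Q14147 (allL N14147 (tt N11167 F24273) (tt N17213 (iv F30802)) (tt N11238 F24274) (tt N17217 (iv F30809)) (tt N11235 F24275) (tt N11160 (iv D14174)))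
theorem Q14149 : ∀ i, i < 14149 → P i := stepQ 14148 Q14148 (allL N14148 (tt N11168 F24276) (tt N17218 D17249) (tt N11161 (iv D14175)) (tt N11181 F24277) (tt N17216 (iv F30807)) (tt N11180 (iv F24278)))
theorem Q14150 : ∀ i, i < 14150 → P i := stepQ 14149 Q14149 (allL N14149 (tt N11169 F24279) (tt N17215 (iv F30804)) (tt N11180 F24280) (tt N11162 F24281) (tt N17219 D17250) (tt N11161 (iv D14176)))
theorem Q14151 : ∀ i, i < 14151 → P i := stepQ 14150 Q14150 (allL N14150 (tt N11456 F24282) (tt N11163 (iv D14177)) (tt N14204 (iv F24397)) (tt N11270 F24283) (tt N13580 F24284) (tt N11175 F24285))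
theorem Q14152 : ∀ i, i < 14152 → P i := stepQ 14151 Q14151 (allL N14151 (tt N14143 F24286) (tt N11165 F24287) (tt N14143 F24288) (tt N17220 D17251) (tt N11164 (iv D14178)) (tt N17221 D17252))
theorem Q14153 : ∀ i, i < 14153 → P i := stepQ 14152 Q14152 (allL N14152 (tt N11239 F24289) (tt N17220 (iv F30816)) (tt N17222 D17253) (tt N11165 (iv D14179)) (tt N11226 F24290) (tt N17223 D17254))
theorem Q14154 : ∀ i, i < 14154 → P i := stepQ 14153 Q14153 (allL N14153 (tt N11238 F24291) (tt N17221 (iv F30819)) (tt N11167 F24292) (tt N17223 (iv F30825)) (tt N11222 F24293) (tt N11165 (iv D14180)))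
theorem Q14155 : ∀ i, i < 14155 → P i := stepQ 14154 Q14154 (allL N14154 (tt N17216 (iv F30806)) (tt N17224 D17255) (tt N11166 (iv D14181)) (tt N17225 D17256) (tt N11168 F24294) (tt N17226 D17257))
theorem Q14156 : ∀ i, i < 14156 → P i := stepQ 14155 Q14155 (allL N14155 (tt N17217 (iv F30808)) (tt N14240 (iv F24463)) (tt N17226 (iv F30827)) (tt N11167 F24295) (tt N17227 D17258) (tt N11166 (iv D14182)))
theorem Q14157 : ∀ i, i < 14157 → P i := stepQ 14156 Q14156 (allL N14156 (tt N17228 D17259) (tt N11168 (iv D14183)) (tt N14249 (iv F24478)) (tt N17229 D17260) (tt N17224 (iv F30826)) (tt N17230 D17261))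
theorem Q14158 : ∀ i, i < 14158 → P i := stepQ 14157 Q14157 (allL N14157 (tt N11181 F24296) (tt N17229 (iv F30830)) (tt N11174 F24297) (tt N11168 (iv D14184)) (tt N17231 D17262) (tt N11173 F24298))
theorem Q14159 : ∀ i, i < 14159 → P i := stepQ 14158 Q14158 (allL N14158 (tt N11180 F24299) (tt N17230 (iv F30832)) (tt N11169 F24300) (tt N11173 F24301) (tt N17232 D17263) (tt N11168 (iv D14185)))
theorem Q14160 : ∀ i, i < 14160 → P i := stepQ 14159 Q14159 (allL N14159 (tt N17219 (iv F30812)) (tt N14247 (iv F24475)) (tt N17232 (iv F30838)) (tt N13647 F24302) (tt N11169 (iv D14186)) (tt N17227 (iv F30829)))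
theorem Q14161 : ∀ i, i < 14161 → P i := stepQ 14160 Q14160 (allL N14160 (tt N11690 F24303) (tt N14321 (iv F24645)) (tt N11171 (iv D14187)) (tt N14319 (iv F24641)) (tt N11320 F24304) (tt N17233 D17264))
theorem Q14162 : ∀ i, i < 14162 → P i := stepQ 14161 Q14161 (allL N14161 (tt N11691 F24305) (tt N11174 F24306) (tt N17233 (iv F30841)) (tt N11172 F24307) (tt N17234 D17265) (tt N11171 (iv D14188)))
theorem Q14163 : ∀ i, i < 14163 → P i := stepQ 14162 Q14162 (allL N14162 (tt N14333 (iv F24676)) (tt N11173 (iv D14189)) (tt N14321 F24647) (tt N17230 (iv F30833)) (tt N11322 F24308) (tt N17229 F30831))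
theorem Q14164 : ∀ i, i < 14164 → P i := stepQ 14163 Q14163 (allL N14163 (tt N11182 F24309) (tt N17234 (iv F30844)) (tt N17231 (iv F30835)) (tt N14559 (iv F25099)) (tt N11174 (iv D14190)) (tt N11325 F24310))
theorem Q14165 : ∀ i, i < 14165 → P i := stepQ 14164 Q14164 (allL N14164 (tt N11175 (iv D14191)) (tt N11183 F24311) (tt N13839 F24312) (tt N17235 D17266) (tt N13603 F24313) (tt N11456 F24314))
theorem Q14166 : ∀ i, i < 14166 → P i := stepQ 14165 Q14165 (allL N14165 (tt N17235 (iv F30847)) (tt N11176 F24315) (tt N17236 D17267) (tt N11175 (iv D14192)) (tt N17237 D17268) (tt N11270 F24316))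
theorem Q14167 : ∀ i, i < 14167 → P i := stepQ 14166 Q14166 (allL N14166 (tt N11186 F24317) (tt N17237 (iv F30854)) (tt N11249 F24318) (tt N14576 (iv F25128)) (tt N11176 (iv D14193)) (tt N17238 D17269))
theorem Q14168 : ∀ i, i < 14168 → P i := stepQ 14167 Q14167 (allL N14167 (tt N14335 (iv F24680)) (tt N11177 (iv D14194)) (tt N16704 (iv F29788)) (tt N17239 D17270) (tt N11179 F24319) (tt N17240 D17271))
theorem Q14169 : ∀ i, i < 14169 → P i := stepQ 14168 Q14168 (allL N14168 (tt N11323 F24320) (tt N17239 (iv F30860)) (tt N11317 F24321) (tt N11177 (iv D14195)) (tt N17241 D17272) (tt N11316 F24322))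
theorem Q14170 : ∀ i, i < 14170 → P i := stepQ 14169 Q14169 (allL N14169 (tt N11324 F24323) (tt N17240 (iv F30863)) (tt N11178 F24324) (tt N11316 F24325) (tt N17242 D17273) (tt N11177 (iv D14196)))
theorem Q14171 : ∀ i, i < 14171 → P i := stepQ 14170 Q14170 (allL N14170 (tt N11325 F24326) (tt N14574 (iv F25123)) (tt N17242 (iv F30869)) (tt N14568 (iv F25117)) (tt N11178 (iv D14197)) (tt N11182 F24327))
theorem Q14172 : ∀ i, i < 14172 → P i := stepQ 14171 Q14171 (allL N14171 (tt N11179 (iv D14198)) (tt N14333 F24678) (tt N16703 (iv F29784)) (tt N17243 D17274) (tt N14335 (iv F24681)) (tt N17244 D17275))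
theorem Q14173 : ∀ i, i < 14173 → P i := stepQ 14172 Q14172 (allL N14172 (tt N17243 (iv F30871)) (tt N11180 F24328) (tt N17245 D17276) (tt N11179 (iv D14199)) (tt N17246 D17277) (tt N17218 (iv F30811)))
theorem Q14174 : ∀ i, i < 14174 → P i := stepQ 14173 Q14173 (allL N14173 (tt N17244 (iv F30872)) (tt N11181 F24329) (tt N12647 F24330) (tt N17218 (iv F30810)) (tt N17247 D17278) (tt N11179 (iv D14200)))
theorem Q14175 : ∀ i, i < 14175 → P i := stepQ 14174 Q14174 (allL N14174 (tt N17232 (iv F30837)) (tt N17246 (iv F30874)) (tt N17219 (iv F30813)) (tt N17241 (iv F30867)) (tt N11180 (iv D14201)) (tt N17248 D17279))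
theorem Q14176 : ∀ i, i < 14176 → P i := stepQ 14175 Q14175 (allL N14175 (tt N17231 (iv F30834)) (tt N17247 (iv F30875)) (tt N11182 F24331) (tt N17249 D17280) (tt N11181 (iv D14202)) (tt N17242 (iv F30870)))
theorem Q14177 : ∀ i, i < 14177 → P i := stepQ 14176 Q14176 (allL N14176 (tt N11184 F24332) (tt N17235 (iv F30848)) (tt N11432 F24334) (tt N11183 (iv D14203)) (tt N13587 (iv F24335)) (tt N11457 F24333))
theorem Q14178 : ∀ i, i < 14178 → P i := stepQ 14177 Q14177 (allL N14177 (tt N11432 F24336) (tt N17250 D17281) (tt N11184 (iv D14204)) (tt N11428 F24337) (tt N13578 (iv F24339)) (tt N11458 F24338))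
theorem Q14179 : ∀ i, i < 14179 → P i := stepQ 14178 Q14178 (allL N14178 (tt N13587 F24340) (tt N11186 F24341) (tt N13578 F24342) (tt N13631 F24343) (tt N11184 (iv D14205)) (tt N13577 F24344))
theorem Q14180 : ∀ i, i < 14180 → P i := stepQ 14179 Q14179 (allL N14179 (tt N17251 D17282) (tt N11185 (iv D14206)) (tt N17250 (iv F30877)) (tt N11228 F24345) (tt N17252 D17283) (tt N11255 F24346))
theorem Q14181 : ∀ i, i < 14181 → P i := stepQ 14180 Q14180 (allL N14180 (tt N11249 F24347) (tt N17252 (iv F30884)) (tt N11186 F24348) (tt N17253 D17284) (tt N11185 (iv D14207)) (tt N17254 D17285))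
theorem Q14182 : ∀ i, i < 14182 → P i := stepQ 14181 Q14181 (allL N14181 (tt N17238 (iv F30856)) (tt N13577 F24349) (tt N17254 (iv F30891)) (tt N14579 (iv F25130)) (tt N13579 F24350) (tt N11186 (iv D14208)))
theorem Q14183 : ∀ i, i < 14183 → P i := stepQ 14182 Q14182 (allL N14182 (tt N11187 (iv D14209)) (tt N11189 F24351) (tt N14101 F24352) (tt N11209 F24353) (tt N17255 D17286) (tt N11187 F24354))
theorem Q14184 : ∀ i, i < 14184 → P i := stepQ 14183 Q14183 (allL N14183 (tt N17255 (iv F30893)) (tt N11188 F24355) (tt N13778 F24356) (tt N17256 D17287) (tt N11187 (iv D14210)) (tt N17257 D17288))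
theorem Q14185 : ∀ i, i < 14185 → P i := stepQ 14184 Q14184 (allL N14184 (tt N11195 F24357) (tt N17256 (iv F30896)) (tt N14971 (iv F25984)) (tt N11188 (iv D14211)) (tt N17198 (iv F30771)) (tt N14970 F25982))
theorem Q14186 : ∀ i, i < 14186 → P i := stepQ 14185 Q14185 (allL N14185 (tt N11196 F24358) (tt N17257 (iv F30897)) (tt N11190 F24359) (tt N14970 (iv F25981)) (tt N17258 D17289) (tt N11188 (iv D14212)))
theorem Q14187 : ∀ i, i < 14187 → P i := stepQ 14186 Q14186 (allL N14186 (tt N11193 F24360) (tt N17255 (iv F30894)) (tt N11191 F24361) (tt N17259 D17290) (tt N11189 (iv D14213)) (tt N17258 (iv F30901)))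
theorem Q14188 : ∀ i, i < 14188 → P i := stepQ 14187 Q14187 (allL N14187 (tt N11197 F24362) (tt N13781 F24363) (tt N17258 (iv F30900)) (tt N14463 (iv F24924)) (tt N11190 (iv D14214)) (tt N11191 F24364))
theorem Q14189 : ∀ i, i < 14189 → P i := stepQ 14188 Q14188 (allL N14188 (tt N11210 F24365) (tt N11194 F24366) (tt N11205 F24367) (tt N17260 D17291) (tt N11192 (iv D14215)) (tt N17261 D17292))
theorem Q14190 : ∀ i, i < 14190 → P i := stepQ 14189 Q14189 (allL N14189 (tt N17259 (iv F30902)) (tt N11195 F24368) (tt N14976 (iv F25994)) (tt N11193 (iv D14216)) (tt N17260 (iv F30906)) (tt N14972 (iv F25988)))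
theorem Q14191 : ∀ i, i < 14191 → P i := stepQ 14190 Q14190 (allL N14190 (tt N17258 (iv F30899)) (tt N11196 F24369) (tt N11197 F24370) (tt N14972 (iv F25987)) (tt N11196 F24371) (tt N11193 (iv D14217)))
theorem Q14192 : ∀ i, i < 14192 → P i := stepQ 14191 Q14191 (allL N14191 (tt N17198 (iv F30770)) (tt N17260 (iv F30905)) (tt N14973 (iv F25990)) (tt N11194 (iv D14218)) (tt N11195 F24372) (tt N17262 D17293))
theorem Q14193 : ∀ i, i < 14193 → P i := stepQ 14192 Q14192 (allL N14192 (tt N17199 (iv F30772)) (tt N17261 (iv F30908)) (tt N17196 (iv F30764)) (tt N17262 (iv F30911)) (tt N17261 (iv F30910)) (tt N11194 (iv D14219)))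
theorem Q14194 : ∀ i, i < 14194 → P i := stepQ 14193 Q14193 (allL N14193 (tt N14463 (iv F24922)) (tt N11201 F24373) (tt N17263 D17294) (tt N11197 (iv D14220)) (tt N13225 F24374) (tt N11198 F24375))
theorem Q14195 : ∀ i, i < 14195 → P i := stepQ 14194 Q14194 (allL N14194 (tt N14467 (iv F24930)) (tt N17264 D17295) (tt N11198 (iv D14221)) (tt N17265 D17296) (tt N11199 F24376) (tt N17263 (iv F30914)))
theorem Q14196 : ∀ i, i < 14196 → P i := stepQ 14195 Q14195 (allL N14195 (tt N17266 D17297) (tt N11199 (iv D14222)) (tt N11202 F24377) (tt N17267 D17298) (tt N17264 (iv F30916)) (tt N14098 F24378))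
theorem Q14197 : ∀ i, i < 14197 → P i := stepQ 14196 Q14196 (allL N14196 (tt N14141 F24379) (tt N17267 (iv F30920)) (tt N14140 F24380) (tt N11199 (iv D14223)) (tt N17268 D17299) (tt N14099 F24381))
theorem Q14198 : ∀ i, i < 14198 → P i := stepQ 14197 Q14197 (allL N14197 (tt N17269 D17300) (tt N11200 (iv D14224)) (tt N17264 (iv F30915)) (tt N14120 F24382) (tt N11202 F24383) (tt N14119 F24384))
theorem Q14199 : ∀ i, i < 14199 → P i := stepQ 14198 Q14198 (allL N14198 (tt N11202 (iv D14225)) (tt N14113 F24385) (tt N17266 (iv F30918)) (tt N14100 F24386) (tt N17269 (iv F30926)) (tt N14100 F24387))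
theorem Q14200 : ∀ i, i < 14200 → P i := stepQ 14199 Q14199 (allL N14199 (tt N17176 (iv F30719)) (tt N11205 F24388) (tt N17193 (iv F30756)) (tt N17270 D17301) (tt N11203 (iv D14226)) (tt N17271 D17302))
theorem Q14201 : ∀ i, i < 14201 → P i := stepQ 14200 Q14200 (allL N14200 (tt N17195 (iv F30760)) (tt N11206 F24389) (tt N17272 D17303) (tt N11204 (iv D14227)) (tt N17270 (iv F30929)) (tt N15127 (iv F26368)))
theorem Q14202 : ∀ i, i < 14202 → P i := stepQ 14201 Q14201 (allL N14201 (tt N11425 F24390) (tt N11207 F24391) (tt N14145 F24392) (tt N15127 (iv F26367)) (tt N11427 F24393) (tt N11204 (iv D14228)))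
theorem Q14203 : ∀ i, i < 14203 → P i := stepQ 14202 Q14202 (allL N14202 (tt N11211 F24394) (tt N17270 (iv F30928)) (tt N15130 (iv F26373)) (tt N11205 (iv D14229)) (tt N11206 F24395) (tt N17273 D17304))
theorem Q14204 : ∀ i, i < 14204 → P i := stepQ 14203 Q14203 (allL N14203 (tt N11212 F24396) (tt N17271 (iv F30930)) (tt N17261 (iv F30909)) (tt N17273 (iv F30932)) (tt N17196 (iv F30766)) (tt N11205 (iv D14230)))
theorem Q14205 : ∀ i, i < 14205 → P i := stepQ 14204 Q14204 (allL N14204 (tt N14289 (iv F24546)) (tt N11208 (iv D14231)) (tt N14150 F24397) (tt N17274 D17305) (tt N11497 F24398) (tt N14139 F24399))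
theorem Q14206 : ∀ i, i < 14206 → P i := stepQ 14205 Q14205 (allL N14205 (tt N11215 F24400) (tt N17274 (iv F30933)) (tt N14099 F24401) (tt N11208 (iv D14232)) (tt N17275 D17306) (tt N14140 F24402))
theorem Q14207 : ∀ i, i < 14207 → P i := stepQ 14206 Q14206 (allL N14206 (tt N17197 (iv F30767)) (tt N11210 F24403) (tt N17170 (iv F30706)) (tt N17276 D17307) (tt N11209 (iv D14233)) (tt N17277 D17308))
theorem Q14208 : ∀ i, i < 14208 → P i := stepQ 14207 Q14207 (allL N14207 (tt N17260 (iv F30904)) (tt N17276 (iv F30938)) (tt N17278 D17309) (tt N11210 (iv D14234)) (tt N17259 (iv F30903)) (tt N17279 D17310))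
theorem Q14209 : ∀ i, i < 14209 → P i := stepQ 14208 Q14208 (allL N14208 (tt N17261 (iv F30907)) (tt N17277 (iv F30939)) (tt N11212 F24404) (tt N17279 (iv F30940)) (tt N17199 (iv F30774)) (tt N11210 (iv D14235)))
theorem Q14210 : ∀ i, i < 14210 → P i := stepQ 14209 Q14209 (allL N14209 (tt N15130 (iv F26372)) (tt N15404 (iv F27005)) (tt N11211 (iv D14236)) (tt N15403 (iv F27004)) (tt N11213 F24405) (tt N17280 D17311))
theorem Q14211 : ∀ i, i < 14211 → P i := stepQ 14210 Q14210 (allL N14210 (tt N17273 (iv F30931)) (tt N17204 (iv F30782)) (tt N17280 (iv F30941)) (tt N11212 F24406) (tt N17281 D17312) (tt N11211 (iv D14237)))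
theorem Q14212 : ∀ i, i < 14212 → P i := stepQ 14211 Q14211 (allL N14211 (tt N17282 D17313) (tt N11213 (iv D14238)) (tt N17206 (iv F30787)) (tt N15118 (iv F26345)) (tt N15404 (iv F27006)) (tt N15117 F26341))
theorem Q14213 : ∀ i, i < 14213 → P i := stepQ 14212 Q14212 (allL N14212 (tt N15128 (iv F26369)) (tt N11451 F24407) (tt N15119 (iv F26348)) (tt N11454 F24408) (tt N11214 (iv D14239)) (tt N17281 (iv F30944)))
theorem Q14214 : ∀ i, i < 14214 → P i := stepQ 14213 Q14213 (allL N14213 (tt N17275 (iv F30935)) (tt N14292 (iv F24553)) (tt N14466 (iv F24929)) (tt N11500 F24409) (tt N11215 (iv D14240)) (tt N17283 D17314))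
theorem Q14215 : ∀ i, i < 14215 → P i := stepQ 14214 Q14214 (allL N14214 (tt N11218 F24410) (tt N11229 F24411) (tt N11998 F24412) (tt N11216 (iv D14241)) (tt N14232 (iv F24452)) (tt N16707 (iv F29796)))
theorem Q14216 : ∀ i, i < 14216 → P i := stepQ 14215 Q14215 (allL N14215 (tt N14232 (iv F24450)) (tt N11221 F24413) (tt N17284 D17315) (tt N11217 (iv D14242)) (tt N11218 F24414) (tt N17285 D17316))
theorem Q14217 : ∀ i, i < 14217 → P i := stepQ 14216 Q14216 (allL N14216 (tt N14233 (iv F24453)) (tt N11222 F24415) (tt N14233 (iv F24455)) (tt N17285 (iv F30952)) (tt N17221 (iv F30821)) (tt N11217 (iv D14243)))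
theorem Q14218 : ∀ i, i < 14218 → P i := stepQ 14217 Q14217 (allL N14217 (tt N11998 F24416) (tt N16597 (iv F29540)) (tt N11218 (iv D14244)) (tt N11997 F24417) (tt N17284 (iv F30949)) (tt N17065 (iv F30520)))
theorem Q14219 : ∀ i, i < 14219 → P i := stepQ 14218 Q14218 (allL N14218 (tt N16707 (iv F29794)) (tt N11224 F24418) (tt N17065 (iv F30519)) (tt N11219 F24419) (tt N17286 D17317) (tt N11218 (iv D14245)))
theorem Q14220 : ∀ i, i < 14220 → P i := stepQ 14219 Q14219 (allL N14219 (tt N14145 F24420) (tt N11225 F24421) (tt N11425 F24422) (tt N17287 D17318) (tt N11219 (iv D14246)) (tt N11220 F24423))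
theorem Q14221 : ∀ i, i < 14221 → P i := stepQ 14220 Q14220 (allL N14220 (tt N14144 F24424) (tt N11226 F24425) (tt N17288 D17319) (tt N11220 (iv D14247)) (tt N17220 (iv F30817)) (tt N17287 (iv F30956)))
theorem Q14222 : ∀ i, i < 14222 → P i := stepQ 14221 Q14221 (allL N14221 (tt N11236 F24426) (tt N16598 (iv F29543)) (tt N11221 (iv D14248)) (tt N17289 D17320) (tt N11223 F24427) (tt N17290 D17321))
theorem Q14223 : ∀ i, i < 14223 → P i := stepQ 14222 Q14222 (allL N14222 (tt N11237 F24428) (tt N17285 (iv F30951)) (tt N17290 (iv F30961)) (tt N11222 F24429) (tt N17291 D17322) (tt N11221 (iv D14249)))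
theorem Q14224 : ∀ i, i < 14224 → P i := stepQ 14223 Q14223 (allL N14223 (tt N11243 F24430) (tt N17286 (iv F30953)) (tt N11265 F24431) (tt N17292 D17323) (tt N11224 (iv D14250)) (tt N17291 (iv F30965)))
theorem Q14225 : ∀ i, i < 14225 → P i := stepQ 14224 Q14224 (allL N14224 (tt N11244 F24432) (tt N17287 (iv F30955)) (tt N17293 D17324) (tt N11225 (iv D14251)) (tt N17292 (iv F30967)) (tt N11226 F24433))
theorem Q14226 : ∀ i, i < 14226 → P i := stepQ 14225 Q14225 (allL N14225 (tt N11245 F24434) (tt N17294 D17325) (tt N11226 (iv D14252)) (tt N11351 F24435) (tt N17222 (iv F30823)) (tt N17293 (iv F30970)))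
theorem Q14227 : ∀ i, i < 14227 → P i := stepQ 14226 Q14226 (allL N14226 (tt N11399 F24436) (tt N11227 (iv D14253)) (tt N11417 F24437) (tt N15708 (iv F27639)) (tt N11228 F24438) (tt N11339 F24439))
theorem Q14228 : ∀ i, i < 14228 → P i := stepQ 14227 Q14227 (allL N14227 (tt N11246 F24440) (tt N15708 (iv F27638)) (tt N17295 D17326) (tt N11227 (iv D14254)) (tt N17253 (iv F30888)) (tt N11341 F24441))
theorem Q14229 : ∀ i, i < 14229 → P i := stepQ 14228 Q14228 (allL N14228 (tt N11228 (iv D14255)) (tt N11247 F24442) (tt N11412 F24443) (tt N17251 (iv F30882)) (tt N11399 F24444) (tt N11254 F24445))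
theorem Q14230 : ∀ i, i < 14230 → P i := stepQ 14229 Q14229 (allL N14229 (tt N14234 (iv F24456)) (tt N17296 D17327) (tt N11230 (iv D14256)) (tt N17297 D17328) (tt N11232 F24446) (tt N17298 D17329))
theorem Q14231 : ∀ i, i < 14231 → P i := stepQ 14230 Q14230 (allL N14230 (tt N14235 (iv F24458)) (tt N11237 F24447) (tt N17298 (iv F30977)) (tt N11231 F24448) (tt N16711 (iv F29805)) (tt N11230 (iv D14257)))
theorem Q14232 : ∀ i, i < 14232 → P i := stepQ 14231 Q14231 (allL N14231 (tt N16941 (iv F30274)) (tt N11232 (iv D14258)) (tt N11240 F24449) (tt N16700 (iv F29779)) (tt N17296 (iv F30976)) (tt N16709 (iv F29802)))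
theorem Q14233 : ∀ i, i < 14233 → P i := stepQ 14232 Q14232 (allL N14232 (tt N14215 F24450) (tt N11234 F24451) (tt N15050 (iv F26195)) (tt N11233 (iv D14259)) (tt N14214 F24452) (tt N17299 D17330))
theorem Q14234 : ∀ i, i < 14234 → P i := stepQ 14233 Q14233 (allL N14233 (tt N14216 F24453) (tt N11235 F24454) (tt N14216 F24455) (tt N17299 (iv F30980)) (tt N17213 (iv F30803)) (tt N11233 (iv D14260)))
theorem Q14235 : ∀ i, i < 14235 → P i := stepQ 14234 Q14234 (allL N14234 (tt N14229 F24456) (tt N15053 (iv F26201)) (tt N11234 (iv D14261)) (tt N17300 D17331) (tt N13639 F24457) (tt N17301 D17332))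
theorem Q14236 : ∀ i, i < 14236 → P i := stepQ 14235 Q14235 (allL N14235 (tt N14230 F24458) (tt N17299 (iv F30979)) (tt N17301 (iv F30984)) (tt N11235 F24459) (tt N17302 D17333) (tt N11234 (iv D14262)))
theorem Q14237 : ∀ i, i < 14237 → P i := stepQ 14236 Q14236 (allL N14236 (tt N17303 D17334) (tt N11236 (iv D14263)) (tt N17296 (iv F30975)) (tt N17304 D17335) (tt N11240 F24460) (tt N17305 D17336))
theorem Q14238 : ∀ i, i < 14238 → P i := stepQ 14237 Q14237 (allL N14237 (tt N17289 (iv F30958)) (tt N17304 (iv F30988)) (tt N17306 D17337) (tt N11236 (iv D14264)) (tt N17307 D17338) (tt N17308 D17339))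
theorem Q14239 : ∀ i, i < 14239 → P i := stepQ 14238 Q14238 (allL N14238 (tt N17290 (iv F30960)) (tt N17305 (iv F30989)) (tt N11237 F24461) (tt N17308 (iv F30995)) (tt N17309 D17340) (tt N11236 (iv D14265)))
theorem Q14240 : ∀ i, i < 14240 → P i := stepQ 14239 Q14239 (allL N14239 (tt N17291 (iv F30963)) (tt N16711 (iv F29804)) (tt N17309 (iv F30997)) (tt N17310 D17341) (tt N11237 (iv D14266)) (tt N11243 F24462))
theorem Q14241 : ∀ i, i < 14241 → P i := stepQ 14240 Q14240 (allL N14240 (tt N17223 (iv F30824)) (tt N14155 F24463) (tt N17311 D17342) (tt N11238 (iv D14267)) (tt N17310 (iv F31000)) (tt N11239 F24464))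
theorem Q14242 : ∀ i, i < 14242 → P i := stepQ 14241 Q14241 (allL N14241 (tt N17222 (iv F30822)) (tt N17312 D17343) (tt N11239 (iv D14268)) (tt N17312 (iv F31022)) (tt N11245 F24465) (tt N17311 (iv F31002)))
theorem Q14243 : ∀ i, i < 14243 → P i := stepQ 14242 Q14242 (allL N14242 (tt N11240 (iv D14269)) (tt N16595 (iv F29534)) (tt N16941 (iv F30275)) (tt N16594 F29532) (tt N17303 (iv F30987)) (tt N17069 (iv F30530)))
theorem Q14244 : ∀ i, i < 14244 → P i := stepQ 14243 Q14243 (allL N14243 (tt N16594 (iv F29530)) (tt N11241 F24466) (tt N13657 (iv F24467)) (tt N11240 (iv D14270)) (tt N17313 D17345) (tt N11252 (iv F24468)))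
theorem Q14245 : ∀ i, i < 14245 → P i := stepQ 14244 Q14244 (allL N14244 (tt N17069 (iv F30527)) (tt N11242 F24469) (tt N16709 (iv F29800)) (tt N11252 F24470) (tt N17314 D17346) (tt N11240 (iv D14271)))
theorem Q14246 : ∀ i, i < 14246 → P i := stepQ 14245 Q14245 (allL N14245 (tt N11266 F24471) (tt N17313 (iv F31005)) (tt N11253 F24472) (tt N17307 (iv F30993)) (tt N11241 (iv D14272)) (tt N17315 D17347))
theorem Q14247 : ∀ i, i < 14247 → P i := stepQ 14246 Q14246 (allL N14246 (tt N11265 F24473) (tt N17314 (iv F31007)) (tt N11243 F24474) (tt N17316 D17348) (tt N11242 (iv D14273)) (tt N17309 (iv F30998)))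
theorem Q14248 : ∀ i, i < 14248 → P i := stepQ 14247 Q14247 (allL N14247 (tt N17292 (iv F30966)) (tt N14159 F24475) (tt N17317 D17349) (tt N11243 (iv D14274)) (tt N11244 F24476) (tt N17310 (iv F31001)))
theorem Q14249 : ∀ i, i < 14249 → P i := stepQ 14248 Q14248 (allL N14248 (tt N17293 (iv F30968)) (tt N17318 D17350) (tt N11244 (iv D14275)) (tt N17295 (iv F30973)) (tt N17317 (iv F31013)) (tt N11245 F24477))
theorem Q14250 : ∀ i, i < 14250 → P i := stepQ 14249 Q14249 (allL N14249 (tt N17319 D17351) (tt N11245 (iv D14276)) (tt N14156 F24478) (tt N17320 D17352) (tt N17312 (iv F31004)) (tt N17318 (iv F31015)))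
theorem Q14251 : ∀ i, i < 14251 → P i := stepQ 14250 Q14250 (allL N14250 (tt N11351 F24479) (tt N17320 (iv F31019)) (tt N11341 F24480) (tt N11245 (iv D14277)) (tt N17320 (iv F31021)) (tt N17295 (iv F30974)))
theorem Q14252 : ∀ i, i < 14252 → P i := stepQ 14251 Q14251 (allL N14251 (tt N17295 (iv F30972)) (tt N15701 (iv F27622)) (tt N11246 (iv D14278)) (tt N17293 (iv F30969)) (tt N17321 D17353) (tt N11351 F24481))
theorem Q14253 : ∀ i, i < 14253 → P i := stepQ 14252 Q14252 (allL N14252 (tt N17253 (iv F30887)) (tt N11409 F24482) (tt N17321 (iv F31026)) (tt N11249 F24483) (tt N11246 (iv D14279)) (tt N17322 D17354))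
theorem Q14254 : ∀ i, i < 14254 → P i := stepQ 14253 Q14253 (allL N14253 (tt N11248 F24484) (tt N17251 (iv F30881)) (tt N17323 D17355) (tt N11247 (iv D14280)) (tt N15710 (iv F27643)) (tt N11267 F24485))
theorem Q14255 : ∀ i, i < 14255 → P i := stepQ 14254 Q14254 (allL N14254 (tt N17323 (iv F31030)) (tt N17236 (iv F30851)) (tt N11248 (iv D14281)) (tt N17324 D17356) (tt N17325 D17357) (tt N11268 F24486))
theorem Q14256 : ∀ i, i < 14256 → P i := stepQ 14255 Q14255 (allL N14255 (tt N15710 (iv F27642)) (tt N11249 F24487) (tt N17325 (iv F31036)) (tt N11409 F24488) (tt N11248 (iv D14282)) (tt N17326 D17358))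
theorem Q14257 : ∀ i, i < 14257 → P i := stepQ 14256 Q14256 (allL N14256 (tt N17254 (iv F30889)) (tt N17326 (iv F31037)) (tt N17238 (iv F30858)) (tt N17322 (iv F31028)) (tt N11272 F24489) (tt N11249 (iv D14283)))
theorem Q14258 : ∀ i, i < 14258 → P i := stepQ 14257 Q14257 (allL N14257 (tt N17327 D17359) (tt N11250 (iv D14284)) (tt N16423 (iv F29181)) (tt N17328 D17360) (tt N11252 F24490) (tt N17329 D17361))
theorem Q14259 : ∀ i, i < 14259 → P i := stepQ 14258 Q14258 (allL N14258 (tt N11260 F24491) (tt N17328 (iv F31042)) (tt N17330 D17362) (tt N11250 (iv D14285)) (tt N17316 (iv F31012)) (tt N17331 D17363))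
theorem Q14260 : ∀ i, i < 14260 → P i := stepQ 14259 Q14259 (allL N14259 (tt N11261 F24492) (tt N17329 (iv F31043)) (tt N11251 F24493) (tt N17331 (iv F31049)) (tt N17315 (iv F31010)) (tt N11250 (iv D14286)))
theorem Q14261 : ∀ i, i < 14261 → P i := stepQ 14260 Q14260 (allL N14260 (tt N11262 F24494) (tt N13655 F24495) (tt N17315 (iv F31009)) (tt N11308 F24496) (tt N11251 (iv D14287)) (tt N11253 F24497))
theorem Q14262 : ∀ i, i < 14262 → P i := stepQ 14261 Q14261 (allL N14261 (tt N11252 (iv D14288)) (tt N11263 F24498) (tt N16600 (iv F29546)) (tt N17069 (iv F30529)) (tt N17327 (iv F31041)) (tt N16594 (iv F29531)))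
theorem Q14263 : ∀ i, i < 14263 → P i := stepQ 14262 Q14262 (allL N14262 (tt N11255 F24499) (tt N11267 F24500) (tt N17332 D17364) (tt N11254 (iv D14289)) (tt N17333 D17365) (tt N17251 (iv F30883)))
theorem Q14264 : ∀ i, i < 14264 → P i := stepQ 14263 Q14263 (allL N14263 (tt N17332 (iv F31050)) (tt N11458 F24501) (tt N11255 (iv D14290)) (tt N17334 D17366) (tt N13576 (iv F24502)) (tt N17250 (iv F30880)))
theorem Q14265 : ∀ i, i < 14265 → P i := stepQ 14264 Q14264 (allL N14264 (tt N17333 (iv F31054)) (tt N11256 F24503) (tt N13576 F24504) (tt N11338 F24505) (tt N11255 (iv D14291)) (tt N13575 (iv F24506)))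
theorem Q14266 : ∀ i, i < 14266 → P i := stepQ 14265 Q14265 (allL N14265 (tt N11272 F24507) (tt N13575 F24508) (tt N13579 F24509) (tt N11340 F24510) (tt N17254 (iv F30892)) (tt N11256 (iv D14292)))
theorem Q14267 : ∀ i, i < 14267 → P i := stepQ 14266 Q14266 (allL N14266 (tt N17335 D17367) (tt N11257 (iv D14293)) (tt N11673 F24511) (tt N17336 D17368) (tt N14557 (iv F25094)) (tt N17337 D17369))
theorem Q14268 : ∀ i, i < 14268 → P i := stepQ 14267 Q14267 (allL N14267 (tt N14565 (iv F25108)) (tt N17336 (iv F31064)) (tt N17331 (iv F31048)) (tt N11257 (iv D14294)) (tt N17338 D17370) (tt N17330 F31046))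
theorem Q14269 : ∀ i, i < 14269 → P i := stepQ 14268 Q14268 (allL N14268 (tt N14566 (iv F25111)) (tt N17337 (iv F31065)) (tt N11258 F24512) (tt N17330 (iv F31045)) (tt N17339 D17371) (tt N11257 (iv D14295)))
theorem Q14270 : ∀ i, i < 14270 → P i := stepQ 14269 Q14269 (allL N14269 (tt N14568 (iv F25115)) (tt N11676 F24513) (tt N17339 (iv F31068)) (tt N11325 F24514) (tt N11258 (iv D14296)) (tt N14559 (iv F25100)))
theorem Q14271 : ∀ i, i < 14271 → P i := stepQ 14270 Q14270 (allL N14270 (tt N11259 (iv D14297)) (tt N17327 (iv F31040)) (tt N11335 F24515) (tt N17340 D17372) (tt N11263 F24516) (tt N17341 D17373))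
theorem Q14272 : ∀ i, i < 14272 → P i := stepQ 14271 Q14271 (allL N14271 (tt N17340 (iv F31069)) (tt N11260 F24517) (tt N17342 D17374) (tt N11259 (iv D14298)) (tt N17343 D17375) (tt N17344 D17376))
theorem Q14273 : ∀ i, i < 14273 → P i := stepQ 14272 Q14272 (allL N14272 (tt N17341 (iv F31071)) (tt N11261 F24518) (tt N11334 F24519) (tt N17344 (iv F31078)) (tt N16433 (iv F29205)) (tt N11259 (iv D14299)))
theorem Q14274 : ∀ i, i < 14274 → P i := stepQ 14273 Q14273 (allL N14273 (tt N17330 (iv F31044)) (tt N17345 D17377) (tt N11260 (iv D14300)) (tt N14566 (iv F25113)) (tt N17346 D17378) (tt N14565 F25110))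
theorem Q14275 : ∀ i, i < 14275 → P i := stepQ 14274 Q14274 (allL N14274 (tt N17316 (iv F31011)) (tt N17343 (iv F31075)) (tt N17346 (iv F31079)) (tt N11265 F24520) (tt N11260 (iv D14301)) (tt N17347 D17379))
theorem Q14276 : ∀ i, i < 14276 → P i := stepQ 14275 Q14275 (allL N14275 (tt N17331 (iv F31047)) (tt N17344 (iv F31077)) (tt N14565 (iv F25109)) (tt N11261 F24521) (tt N17348 D17380) (tt N11260 (iv D14302)))
theorem Q14277 : ∀ i, i < 14277 → P i := stepQ 14276 Q14276 (allL N14276 (tt N17315 (iv F31008)) (tt N16433 (iv F29204)) (tt N11262 F24522) (tt N17349 D17381) (tt N11261 (iv D14303)) (tt N11266 F24523))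
theorem Q14278 : ∀ i, i < 14278 → P i := stepQ 14277 Q14277 (allL N14277 (tt N17070 (iv F30531)) (tt N11265 F24524) (tt N17067 (iv F30525)) (tt N17343 (iv F31076)) (tt N11264 (iv D14304)) (tt N17350 D17382))
theorem Q14279 : ∀ i, i < 14279 → P i := stepQ 14278 Q14278 (allL N14278 (tt N17309 (iv F30996)) (tt N17350 (iv F31082)) (tt N17291 (iv F30964)) (tt N17347 (iv F31080)) (tt N17290 (iv F30962)) (tt N11265 (iv D14305)))
theorem Q14280 : ∀ i, i < 14280 → P i := stepQ 14279 Q14279 (allL N14279 (tt N17307 (iv F30992)) (tt N16599 (iv F29544)) (tt N17351 D17383) (tt N11266 (iv D14306)) (tt N17289 (iv F30959)) (tt N17349 (iv F31081)))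
theorem Q14281 : ∀ i, i < 14281 → P i := stepQ 14280 Q14280 (allL N14280 (tt N11268 F24525) (tt N17352 D17384) (tt N11267 (iv D14307)) (tt N13846 F24526) (tt N17353 D17385) (tt N17323 (iv F31032)))
theorem Q14282 : ∀ i, i < 14282 → P i := stepQ 14281 Q14281 (allL N14281 (tt N11269 F24527) (tt N17333 (iv F31055)) (tt N17353 (iv F31089)) (tt N11342 F24528) (tt N11267 (iv D14308)) (tt N17354 D17386))
theorem Q14283 : ∀ i, i < 14283 → P i := stepQ 14282 Q14282 (allL N14282 (tt N17355 D17387) (tt N11268 (iv D14309)) (tt N11270 F24529) (tt N17356 D17388) (tt N17357 D17389) (tt N17236 (iv F30852)))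
theorem Q14284 : ∀ i, i < 14284 → P i := stepQ 14283 Q14283 (allL N14283 (tt N13846 F24530) (tt N17356 (iv F31099)) (tt N13841 F24531) (tt N11268 (iv D14310)) (tt N17358 D17390) (tt N17324 (iv F31035)))
theorem Q14285 : ∀ i, i < 14285 → P i := stepQ 14284 Q14284 (allL N14284 (tt N17353 (iv F31087)) (tt N17357 (iv F31101)) (tt N11269 F24532) (tt N17359 D17391) (tt N11268 (iv D14311)) (tt N17360 D17392))
theorem Q14286 : ∀ i, i < 14286 → P i := stepQ 14285 Q14285 (allL N14285 (tt N17354 (iv F31092)) (tt N11272 F24533) (tt N17360 (iv F31109)) (tt N11345 F24534) (tt N17326 (iv F31039)) (tt N11269 (iv D14312)))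
theorem Q14287 : ∀ i, i < 14287 → P i := stepQ 14286 Q14286 (allL N14286 (tt N11270 (iv D14313)) (tt N11457 F24535) (tt N17355 (iv F31097)) (tt N11456 F24536) (tt N13590 (iv F24537)) (tt N17235 (iv F30849)))
theorem Q14288 : ∀ i, i < 14288 → P i := stepQ 14287 Q14287 (allL N14287 (tt N13590 F24538) (tt N11271 F24539) (tt N17357 (iv F31102)) (tt N13598 F24540) (tt N11270 (iv D14314)) (tt N13588 (iv F24541)))
theorem Q14289 : ∀ i, i < 14289 → P i := stepQ 14288 Q14288 (allL N14288 (tt N13579 F24542) (tt N13588 F24543) (tt N11272 F24544) (tt N13623 F24545) (tt N17238 (iv F30859)) (tt N11271 (iv D14315)))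
theorem Q14290 : ∀ i, i < 14290 → P i := stepQ 14289 Q14289 (allL N14289 (tt N14204 F24546) (tt N11273 (iv D14316)) (tt N11456 F24547) (tt N17361 D17393) (tt N11402 F24548) (tt N13839 F24549))
theorem Q14291 : ∀ i, i < 14291 → P i := stepQ 14290 Q14290 (allL N14290 (tt N11274 F24550) (tt N17361 (iv F31111)) (tt N17324 (iv F31034)) (tt N11273 (iv D14317)) (tt N17362 D17394) (tt N13841 F24551))
theorem Q14292 : ∀ i, i < 14292 → P i := stepQ 14291 Q14291 (allL N14291 (tt N17324 (iv F31033)) (tt N17363 D17395) (tt N11274 (iv D14318)) (tt N17323 (iv F31031)) (tt N17364 D17396) (tt N13846 F24552))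
theorem Q14293 : ∀ i, i < 14293 → P i := stepQ 14292 Q14292 (allL N14292 (tt N17362 (iv F31113)) (tt N14213 F24553) (tt N17364 (iv F31117)) (tt N11410 F24554) (tt N11274 (iv D14319)) (tt N17365 D17397))
theorem Q14294 : ∀ i, i < 14294 → P i := stepQ 14293 Q14293 (allL N14293 (tt N11279 F24555) (tt N11715 F24556) (tt N11276 F24557) (tt N11286 F24558) (tt N12877 F24559) (tt N11275 (iv D14320)))
theorem Q14295 : ∀ i, i < 14295 → P i := stepQ 14294 Q14294 (allL N14294 (tt N11721 F24560) (tt N11278 F24561) (tt N17366 D17398) (tt N11277 (iv D14321)) (tt N11719 F24562) (tt N17367 D17399))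
theorem Q14296 : ∀ i, i < 14296 → P i := stepQ 14295 Q14295 (allL N14295 (tt N11722 F24563) (tt N11279 F24564) (tt N11283 F24565) (tt N17367 (iv F31126)) (tt N11761 F24566) (tt N11277 (iv D14322)))
theorem Q14297 : ∀ i, i < 14297 → P i := stepQ 14296 Q14296 (allL N14296 (tt N11711 F24567) (tt N11719 F24568) (tt N13842 F24569) (tt N11710 F24570) (tt N11278 (iv D14323)) (tt N15736 (iv F27711)))
theorem Q14298 : ∀ i, i < 14298 → P i := stepQ 14297 Q14297 (allL N14297 (tt N11286 F24571) (tt N17367 (iv F31125)) (tt N11285 F24572) (tt N11279 F24573) (tt N17368 D17400) (tt N11278 (iv D14324)))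
theorem Q14299 : ∀ i, i < 14299 → P i := stepQ 14298 Q14298 (allL N14298 (tt N12877 F24574) (tt N11761 F24575) (tt N11280 F24576) (tt N12344 (iv F24578)) (tt N11279 (iv D14325)) (tt N11757 F24577))
theorem Q14300 : ∀ i, i < 14300 → P i := stepQ 14299 Q14299 (allL N14299 (tt N11282 F24579) (tt N11297 F24580) (tt N17369 D17401) (tt N11281 (iv D14326)) (tt N11750 F24581) (tt N11292 (iv F24582)))
theorem Q14301 : ∀ i, i < 14301 → P i := stepQ 14300 Q14300 (allL N14300 (tt N11283 F24583) (tt N11296 F24584) (tt N11722 F24585) (tt N11292 F24586) (tt N11768 F24587) (tt N11281 (iv D14327)))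
theorem Q14302 : ∀ i, i < 14302 → P i := stepQ 14301 Q14301 (allL N14301 (tt N17369 (iv F31135)) (tt N11290 F24588) (tt N11282 (iv D14328)) (tt N14510 (iv F25008)) (tt N11753 F24589) (tt N11288 F24590))
theorem Q14303 : ∀ i, i < 14303 → P i := stepQ 14302 Q14302 (allL N14302 (tt N13829 F24591) (tt N11285 F24592) (tt N17370 D17402) (tt N11284 (iv D14329)) (tt N17371 D17403) (tt N13836 F24593))
theorem Q14304 : ∀ i, i < 14304 → P i := stepQ 14303 Q14303 (allL N14303 (tt N11287 F24594) (tt N17371 (iv F31142)) (tt N17368 (iv F31128)) (tt N17208 (iv F30793)) (tt N11285 (iv D14330)) (tt N17372 D17404))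
theorem Q14305 : ∀ i, i < 14305 → P i := stepQ 14304 Q14304 (allL N14304 (tt N11729 (iv F24598)) (tt N11286 (iv D14331)) (tt N13820 F24595) (tt N11715 F24596) (tt N15739 (iv F27720)) (tt N11714 F24597))
theorem Q14306 : ∀ i, i < 14306 → P i := stepQ 14305 Q14305 (allL N14305 (tt N17368 (iv F31127)) (tt N15739 (iv F27718)) (tt N11287 F24599) (tt N17373 D17405) (tt N11286 (iv D14332)) (tt N15737 (iv F27714)))
theorem Q14307 : ∀ i, i < 14307 → P i := stepQ 14306 Q14306 (allL N14306 (tt N17372 (iv F31143)) (tt N13844 F24600) (tt N15737 (iv F27713)) (tt N17211 (iv F30799)) (tt N13843 F24601) (tt N11287 (iv D14333)))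
theorem Q14308 : ∀ i, i < 14308 → P i := stepQ 14307 Q14307 (allL N14307 (tt N11288 (iv D14334)) (tt N14359 (iv F24736)) (tt N11292 F24602) (tt N17374 D17406) (tt N11576 F24603) (tt N17369 (iv F31138)))
theorem Q14309 : ∀ i, i < 14309 → P i := stepQ 14308 Q14308 (allL N14308 (tt N17374 (iv F31148)) (tt N11289 F24604) (tt N17375 D17407) (tt N11288 (iv D14335)) (tt N17376 D17408) (tt N14510 (iv F25009)))
theorem Q14310 : ∀ i, i < 14310 → P i := stepQ 14309 Q14309 (allL N14309 (tt N14362 (iv F24742)) (tt N17376 (iv F31151)) (tt N14513 (iv F25012)) (tt N11580 F24605) (tt N11289 (iv D14336)) (tt N17377 D17409))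
theorem Q14311 : ∀ i, i < 14311 → P i := stepQ 14310 Q14310 (allL N14310 (tt N14364 (iv F24746)) (tt N11753 F24606) (tt N11291 F24607) (tt N17378 D17410) (tt N11290 (iv D14337)) (tt N11582 F24608))
theorem Q14312 : ∀ i, i < 14312 → P i := stepQ 14311 Q14311 (allL N14311 (tt N11294 F24609) (tt N11583 F24610) (tt N17379 D17411) (tt N11293 (iv D14338)) (tt N12722 F24612) (tt N11594 (iv F24611)))
theorem Q14313 : ∀ i, i < 14313 → P i := stepQ 14312 Q14312 (allL N14312 (tt N11295 F24613) (tt N11584 F24614) (tt N14376 (iv F24763)) (tt N11594 F24615) (tt N12723 (iv F24616)) (tt N11293 (iv D14339)))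
theorem Q14314 : ∀ i, i < 14314 → P i := stepQ 14313 Q14313 (allL N14313 (tt N17379 (iv F31156)) (tt N11592 F24617) (tt N11294 (iv D14340)) (tt N17380 D17412) (tt N12727 F24618) (tt N11590 F24619))
theorem Q14315 : ∀ i, i < 14315 → P i := stepQ 14314 Q14314 (allL N14314 (tt N11298 F24620) (tt N11727 F24621) (tt N11296 (iv D14341)) (tt N15632 (iv F27503)) (tt N12883 (iv F24623)) (tt N11725 F24622))
theorem Q14316 : ∀ i, i < 14316 → P i := stepQ 14315 Q14315 (allL N14315 (tt N11299 F24624) (tt N11768 F24625) (tt N12883 F24626) (tt N12722 F24627) (tt N11296 (iv D14342)) (tt N11766 F24628))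
theorem Q14317 : ∀ i, i < 14317 → P i := stepQ 14316 Q14316 (allL N14316 (tt N11300 F24629) (tt N11750 F24630) (tt N14387 (iv F24775)) (tt N11749 F24631) (tt N11297 (iv D14343)) (tt N12723 F24632))
theorem Q14318 : ∀ i, i < 14318 → P i := stepQ 14317 Q14317 (allL N14317 (tt N15632 (iv F27501)) (tt N11988 F24633) (tt N15631 (iv F27499)) (tt N11298 (iv D14344)) (tt N17381 D17413) (tt N11986 F24634))
theorem Q14319 : ∀ i, i < 14319 → P i := stepQ 14318 Q14318 (allL N14318 (tt N11303 F24635) (tt N11307 F24636) (tt N13648 F24637) (tt N14337 (iv F24684)) (tt N11301 (iv D14345)) (tt N14343 (iv F24699)))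
theorem Q14320 : ∀ i, i < 14320 → P i := stepQ 14319 Q14319 (allL N14319 (tt N11346 F24638) (tt N11304 F24639) (tt N11404 F24640) (tt N14160 F24641) (tt N11302 (iv D14346)) (tt N14729 (iv F25501)))
theorem Q14321 : ∀ i, i < 14321 → P i := stepQ 14320 Q14320 (allL N14320 (tt N14343 (iv F24696)) (tt N11306 F24642) (tt N13650 F24643) (tt N14339 (iv F24691)) (tt N14343 (iv F24698)) (tt N11303 (iv D14347)))
theorem Q14322 : ∀ i, i < 14322 → P i := stepQ 14321 Q14321 (allL N14321 (tt N11314 F24644) (tt N14160 F24645) (tt N14162 (iv F24647)) (tt N11304 (iv D14348)) (tt N11305 F24646) (tt N17382 D17414))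
theorem Q14323 : ∀ i, i < 14323 → P i := stepQ 14322 Q14322 (allL N14322 (tt N11315 F24648) (tt N14729 (iv F25499)) (tt N11349 F24649) (tt N17382 (iv F31168)) (tt N11348 F24650) (tt N11304 (iv D14349)))
theorem Q14324 : ∀ i, i < 14324 → P i := stepQ 14323 Q14323 (allL N14323 (tt N11317 F24651) (tt N14339 (iv F24689)) (tt N11323 F24652) (tt N11306 F24653) (tt N17383 D17415) (tt N11305 (iv D14350)))
theorem Q14325 : ∀ i, i < 14325 → P i := stepQ 14324 Q14324 (allL N14324 (tt N11311 F24654) (tt N14343 (iv F24697)) (tt N11308 F24655) (tt N17384 D17416) (tt N11306 (iv D14351)) (tt N11307 F24656))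
theorem Q14326 : ∀ i, i < 14326 → P i := stepQ 14325 Q14325 (allL N14325 (tt N11310 F24657) (tt N14337 F24685) (tt N15111 (iv F26327)) (tt N11307 (iv D14352)) (tt N11347 F24658) (tt N17384 (iv F31172)))
theorem Q14327 : ∀ i, i < 14327 → P i := stepQ 14326 Q14326 (allL N14326 (tt N11347 F24659) (tt N11314 F24660) (tt N15115 (iv F26334)) (tt N11309 (iv D14353)) (tt N11310 F24661) (tt N17385 D17417))
theorem Q14328 : ∀ i, i < 14328 → P i := stepQ 14327 Q14327 (allL N14327 (tt N11348 F24662) (tt N11315 F24663) (tt N11340 F24664) (tt N17385 (iv F31176)) (tt N11315 F24665) (tt N11309 (iv D14354)))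
theorem Q14329 : ∀ i, i < 14329 → P i := stepQ 14328 Q14328 (allL N14328 (tt N15111 F26329) (tt N17386 D17418) (tt N11310 (iv D14355)) (tt N17387 D17419) (tt N15115 (iv F26335)) (tt N17388 D17420))
theorem Q14330 : ∀ i, i < 14330 → P i := stepQ 14329 Q14329 (allL N14329 (tt N17384 (iv F31171)) (tt N11317 F24666) (tt N17388 (iv F31180)) (tt N11311 F24667) (tt N17389 D17421) (tt N11310 (iv D14356)))
theorem Q14331 : ∀ i, i < 14331 → P i := stepQ 14330 Q14330 (allL N14330 (tt N11397 F24668) (tt N11313 F24669) (tt N11338 F24670) (tt N17390 D17422) (tt N11312 (iv D14357)) (tt N17391 D17423))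
theorem Q14332 : ∀ i, i < 14332 → P i := stepQ 14331 Q14331 (allL N14331 (tt N11350 F24671) (tt N17390 (iv F31184)) (tt N17320 F31020) (tt N11313 (iv D14358)) (tt N11341 F24672) (tt N17392 D17424))
theorem Q14333 : ∀ i, i < 14333 → P i := stepQ 14332 Q14332 (allL N14332 (tt N11349 F24673) (tt N17391 (iv F31188)) (tt N11315 F24674) (tt N17392 (iv F31192)) (tt N11340 F24675) (tt N11313 (iv D14359)))
theorem Q14334 : ∀ i, i < 14334 → P i := stepQ 14333 Q14333 (allL N14333 (tt N14162 F24676) (tt N14171 (iv F24678)) (tt N11314 (iv D14360)) (tt N17393 D17425) (tt N11316 F24677) (tt N17394 D17426))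
theorem Q14335 : ∀ i, i < 14335 → P i := stepQ 14334 Q14334 (allL N14334 (tt N17382 (iv F31165)) (tt N17385 (iv F31174)) (tt N17394 (iv F31198)) (tt N11315 F24679) (tt N17395 D17427) (tt N11314 (iv D14361)))
theorem Q14336 : ∀ i, i < 14336 → P i := stepQ 14335 Q14335 (allL N14335 (tt N14167 F24680) (tt N11316 (iv D14362)) (tt N17386 (iv F31178)) (tt N17240 (iv F30864)) (tt N14171 F24681) (tt N17239 F30861))
theorem Q14337 : ∀ i, i < 14337 → P i := stepQ 14336 Q14336 (allL N14336 (tt N17383 (iv F31169)) (tt N17389 (iv F31181)) (tt N17241 (iv F30866)) (tt N17389 (iv F31182)) (tt N11317 (iv D14363)) (tt N17395 (iv F31200)))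
theorem Q14338 : ∀ i, i < 14338 → P i := stepQ 14337 Q14337 (allL N14337 (tt N11320 F24682) (tt N14325 (iv F24685)) (tt N11318 (iv D14364)) (tt N14318 F24684) (tt N11690 F24683) (tt N17396 D17428))
theorem Q14339 : ∀ i, i < 14339 → P i := stepQ 14338 Q14338 (allL N14338 (tt N11321 F24686) (tt N12056 F24687) (tt N17396 (iv F31203)) (tt N11319 F24688) (tt N17397 D17429) (tt N11318 (iv D14365)))
theorem Q14340 : ∀ i, i < 14340 → P i := stepQ 14339 Q14339 (allL N14339 (tt N17396 (iv F31201)) (tt N14323 F24689) (tt N11321 F24690) (tt N14320 F24691) (tt N17398 D17430) (tt N11320 (iv D14366)))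
theorem Q14341 : ∀ i, i < 14341 → P i := stepQ 14340 Q14340 (allL N14340 (tt N17397 (iv F31205)) (tt N11325 F24692) (tt N17398 (iv F31210)) (tt N11676 F24693) (tt N11321 (iv D14367)) (tt N17234 (iv F30846)))
theorem Q14342 : ∀ i, i < 14342 → P i := stepQ 14341 Q14341 (allL N14341 (tt N17241 (iv F30865)) (tt N14342 (iv F24694)) (tt N17383 (iv F31170)) (tt N17232 (iv F30839)) (tt N11323 (iv D14368)) (tt N17399 D17431))
theorem Q14343 : ∀ i, i < 14343 → P i := stepQ 14342 Q14342 (allL N14342 (tt N17242 (iv F30868)) (tt N14341 F24694) (tt N11325 F24695) (tt N17400 D17432) (tt N11324 (iv D14369)) (tt N17231 (iv F30836)))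
theorem Q14344 : ∀ i, i < 14344 → P i := stepQ 14343 Q14343 (allL N14343 (tt N14320 F24696) (tt N14324 F24697) (tt N11329 (iv D14370)) (tt N17396 (iv F31204)) (tt N14320 F24698) (tt N14318 F24699))
theorem Q14345 : ∀ i, i < 14345 → P i := stepQ 14344 Q14344 (allL N14344 (tt N11332 F24700) (tt N16432 (iv F29201)) (tt N16714 (iv F29811)) (tt N11331 (iv D14371)) (tt N12873 F24701) (tt N13674 F24702))
theorem Q14346 : ∀ i, i < 14346 → P i := stepQ 14345 Q14345 (allL N14345 (tt N11334 (iv D14372)) (tt N12873 F24703) (tt N17341 (iv F31072)) (tt N11644 F24704) (tt N16432 (iv F29202)) (tt N11335 F24705))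
theorem Q14347 : ∀ i, i < 14347 → P i := stepQ 14346 Q14346 (allL N14346 (tt N11336 F24706) (tt N12874 F24707) (tt N12351 (iv F24710)) (tt N11335 (iv D14373)) (tt N11663 F24708) (tt N11644 F24709))
theorem Q14348 : ∀ i, i < 14348 → P i := stepQ 14347 Q14347 (allL N14347 (tt N11338 F24711) (tt N11342 F24712) (tt N11397 F24713) (tt N17333 (iv F31057)) (tt N11337 (iv D14374)) (tt N17401 D17433))
theorem Q14349 : ∀ i, i < 14349 → P i := stepQ 14348 Q14348 (allL N14348 (tt N17401 (iv F31215)) (tt N11340 F24714) (tt N17391 (iv F31189)) (tt N13575 F24715) (tt N17391 (iv F31190)) (tt N11338 (iv D14375)))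
theorem Q14350 : ∀ i, i < 14350 → P i := stepQ 14349 Q14349 (allL N14349 (tt N11398 F24716) (tt N11341 F24717) (tt N17390 (iv F31186)) (tt N11339 (iv D14376)) (tt N17390 (iv F31185)) (tt N15708 (iv F27640)))
theorem Q14351 : ∀ i, i < 14351 → P i := stepQ 14350 Q14350 (allL N14350 (tt N11345 F24718) (tt N17401 (iv F31216)) (tt N11389 F24719) (tt N17354 (iv F31095)) (tt N11401 F24720) (tt N11342 (iv D14377)))
theorem Q14352 : ∀ i, i < 14352 → P i := stepQ 14351 Q14351 (allL N14351 (tt N11404 F24721) (tt N11344 F24722) (tt N11346 F24723) (tt N14724 (iv F25482)) (tt N11343 (iv D14378)) (tt N14723 (iv F25477)))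
theorem Q14353 : ∀ i, i < 14353 → P i := stepQ 14352 Q14352 (allL N14352 (tt N11388 F24724) (tt N14724 (iv F25480)) (tt N15118 (iv F26344)) (tt N11344 (iv D14379)) (tt N11381 F24725) (tt N14722 F25472))
theorem Q14354 : ∀ i, i < 14354 → P i := stepQ 14353 Q14353 (allL N14353 (tt N11389 F24726) (tt N14723 (iv F25475)) (tt N11345 F24727) (tt N14722 F25471) (tt N11405 F24728) (tt N11344 (iv D14380)))
theorem Q14355 : ∀ i, i < 14355 → P i := stepQ 14354 Q14354 (allL N14354 (tt N14729 (iv F25498)) (tt N11348 F24729) (tt N14723 F25478) (tt N14726 (iv F25490)) (tt N14729 (iv F25500)) (tt N11346 (iv D14381)))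
theorem Q14356 : ∀ i, i < 14356 → P i := stepQ 14355 Q14355 (allL N14355 (tt N17385 (iv F31173)) (tt N14726 (iv F25488)) (tt N13616 F24730) (tt N11348 F24731) (tt N17402 D17434) (tt N11347 (iv D14382)))
theorem Q14357 : ∀ i, i < 14357 → P i := stepQ 14356 Q14356 (allL N14356 (tt N17392 (iv F31191)) (tt N11407 F24732) (tt N17403 D17435) (tt N11349 (iv D14383)) (tt N17322 (iv F31029)) (tt N11350 F24733))
theorem Q14358 : ∀ i, i < 14358 → P i := stepQ 14357 Q14357 (allL N14357 (tt N17320 (iv F31018)) (tt N17404 D17436) (tt N11350 (iv D14384)) (tt N17319 (iv F31017)) (tt N11351 F24734) (tt N17403 (iv F31221)))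
theorem Q14359 : ∀ i, i < 14359 → P i := stepQ 14358 Q14358 (allL N14358 (tt N17404 (iv F31222)) (tt N11351 (iv D14385)) (tt N11408 F24735) (tt N17294 (iv F30971)) (tt N17404 (iv F31224)) (tt N15701 (iv F27623)))
theorem Q14360 : ∀ i, i < 14360 → P i := stepQ 14359 Q14359 (allL N14359 (tt N11352 (iv D14386)) (tt N14307 F24736) (tt N11360 F24737) (tt N17405 D17437) (tt N14589 (iv F25159)) (tt N16878 (iv F30160)))
theorem Q14361 : ∀ i, i < 14361 → P i := stepQ 14360 Q14360 (allL N14360 (tt N17405 (iv F31225)) (tt N11353 F24738) (tt N17406 D17438) (tt N11352 (iv D14387)) (tt N17407 D17439) (tt N16881 (iv F30166)))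
theorem Q14362 : ∀ i, i < 14362 → P i := stepQ 14361 Q14361 (allL N14361 (tt N11509 F24739) (tt N17408 D17440) (tt N11353 (iv D14388)) (tt N11503 F24740) (tt N17409 D17441) (tt N11502 (iv F24741)))
theorem Q14363 : ∀ i, i < 14363 → P i := stepQ 14362 Q14362 (allL N14362 (tt N14309 F24742) (tt N17407 (iv F31227)) (tt N17409 (iv F31231)) (tt N14592 (iv F25167)) (tt N11353 (iv D14389)) (tt N17410 D17442))
theorem Q14364 : ∀ i, i < 14364 → P i := stepQ 14363 Q14363 (allL N14363 (tt N11507 F24743) (tt N16881 (iv F30165)) (tt N11502 F24744) (tt N11354 F24745) (tt N17411 D17443) (tt N11353 (iv D14390)))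
theorem Q14365 : ∀ i, i < 14365 → P i := stepQ 14364 Q14364 (allL N14364 (tt N14310 F24746) (tt N16882 (iv F30167)) (tt N11355 F24747) (tt N17412 D17444) (tt N11354 (iv D14391)) (tt N14593 (iv F25170)))
theorem Q14366 : ∀ i, i < 14366 → P i := stepQ 14365 Q14365 (allL N14365 (tt N11356 (iv D14392)) (tt N11365 F24748) (tt N14589 (iv F25158)) (tt N17413 D17445) (tt N11360 F24749) (tt N17414 D17446))
theorem Q14367 : ∀ i, i < 14367 → P i := stepQ 14366 Q14366 (allL N14366 (tt N17413 (iv F31236)) (tt N11357 F24750) (tt N17415 D17447) (tt N11356 (iv D14393)) (tt N16884 (iv F30172)) (tt N17416 D17448))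
theorem Q14368 : ∀ i, i < 14368 → P i := stepQ 14367 Q14367 (allL N14367 (tt N17414 (iv F31238)) (tt N11358 F24751) (tt N14591 (iv F25163)) (tt N17416 (iv F31241)) (tt N16883 (iv F30170)) (tt N11356 (iv D14394)))
theorem Q14369 : ∀ i, i < 14369 → P i := stepQ 14368 Q14368 (allL N14368 (tt N11368 F24752) (tt N17417 D17449) (tt N11357 (iv D14395)) (tt N11363 F24753) (tt N16885 (iv F30174)) (tt N11362 (iv F24754)))
theorem Q14370 : ∀ i, i < 14370 → P i := stepQ 14369 Q14369 (allL N14369 (tt N11370 F24755) (tt N17416 (iv F31240)) (tt N11362 F24756) (tt N11358 F24757) (tt N17418 D17450) (tt N11357 (iv D14396)))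
theorem Q14371 : ∀ i, i < 14371 → P i := stepQ 14370 Q14370 (allL N14370 (tt N11361 (iv D14397)) (tt N16240 (iv F28750)) (tt N14580 (iv F25132)) (tt N17419 D17451) (tt N14580 (iv F25133)) (tt N17420 D17452))
theorem Q14372 : ∀ i, i < 14372 → P i := stepQ 14371 Q14371 (allL N14371 (tt N17419 (iv F31246)) (tt N11362 F24758) (tt N17421 D17453) (tt N11361 (iv D14398)) (tt N17422 D17454) (tt N17417 (iv F31243)))
theorem Q14373 : ∀ i, i < 14373 → P i := stepQ 14372 Q14372 (allL N14372 (tt N17420 (iv F31247)) (tt N11363 F24759) (tt N14582 (iv F25137)) (tt N17417 (iv F31242)) (tt N17423 D17455) (tt N11361 (iv D14399)))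
theorem Q14374 : ∀ i, i < 14374 → P i := stepQ 14373 Q14373 (allL N14373 (tt N16242 (iv F28755)) (tt N17422 (iv F31248)) (tt N17418 (iv F31245)) (tt N14583 (iv F25141)) (tt N11362 (iv D14400)) (tt N17424 D17456))
theorem Q14375 : ∀ i, i < 14375 → P i := stepQ 14374 Q14374 (allL N14374 (tt N16243 (iv F28758)) (tt N17423 (iv F31249)) (tt N11364 F24760) (tt N17425 D17457) (tt N11363 (iv D14401)) (tt N14584 (iv F25144)))
theorem Q14376 : ∀ i, i < 14376 → P i := stepQ 14375 Q14375 (allL N14375 (tt N11366 F24761) (tt N17413 (iv F31237)) (tt N17426 D17458) (tt N11365 (iv D14402)) (tt N17427 D17459) (tt N17428 D17460))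
theorem Q14377 : ∀ i, i < 14377 → P i := stepQ 14376 Q14376 (allL N14376 (tt N11367 F24762) (tt N17414 (iv F31239)) (tt N14312 F24763) (tt N17428 (iv F31254)) (tt N15761 (iv F27759)) (tt N11365 (iv D14403)))
theorem Q14378 : ∀ i, i < 14378 → P i := stepQ 14377 Q14377 (allL N14377 (tt N17426 (iv F31250)) (tt N17429 D17461) (tt N11366 (iv D14404)) (tt N17430 D17462) (tt N17431 D17463) (tt N17432 D17464))
theorem Q14379 : ∀ i, i < 14379 → P i := stepQ 14378 Q14378 (allL N14378 (tt N17427 (iv F31251)) (tt N11369 F24764) (tt N17431 (iv F31256)) (tt N11375 F24765) (tt N11366 (iv D14405)) (tt N17433 D17465))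
theorem Q14380 : ∀ i, i < 14380 → P i := stepQ 14379 Q14379 (allL N14379 (tt N17428 (iv F31253)) (tt N11370 F24766) (tt N17432 (iv F31257)) (tt N11367 F24767) (tt N17434 D17466) (tt N11366 (iv D14406)))
theorem Q14381 : ∀ i, i < 14381 → P i := stepQ 14380 Q14380 (allL N14380 (tt N17435 D17467) (tt N11368 (iv D14407)) (tt N17429 (iv F31255)) (tt N16226 F28728) (tt N17436 D17468) (tt N16241 (iv F28754)))
theorem Q14382 : ∀ i, i < 14382 → P i := stepQ 14381 Q14381 (allL N14381 (tt N16885 (iv F30173)) (tt N17436 (iv F31261)) (tt N11369 F24768) (tt N17437 D17469) (tt N11368 (iv D14408)) (tt N17438 D17470))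
theorem Q14383 : ∀ i, i < 14383 → P i := stepQ 14382 Q14382 (allL N14382 (tt N16877 (iv F30157)) (tt N17433 (iv F31258)) (tt N17438 (iv F31262)) (tt N11377 F24769) (tt N17439 D17471) (tt N11369 (iv D14409)))
theorem Q14384 : ∀ i, i < 14384 → P i := stepQ 14383 Q14383 (allL N14383 (tt N17418 (iv F31244)) (tt N17434 (iv F31260)) (tt N16242 (iv F28756)) (tt N17440 D17472) (tt N11370 (iv D14410)) (tt N17439 (iv F31263)))
theorem Q14385 : ∀ i, i < 14385 → P i := stepQ 14384 Q14384 (allL N14384 (tt N16875 (iv F30154)) (tt N15765 (iv F27772)) (tt N17441 D17473) (tt N11371 (iv D14411)) (tt N17440 (iv F31264)) (tt N11378 F24770))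
theorem Q14386 : ∀ i, i < 14386 → P i := stepQ 14385 Q14385 (allL N14385 (tt N11374 F24771) (tt N16927 (iv F30240)) (tt N11372 (iv D14412)) (tt N15037 (iv F26165)) (tt N17442 D17474) (tt N12584 F24772))
theorem Q14387 : ∀ i, i < 14387 → P i := stepQ 14386 Q14386 (allL N14386 (tt N11375 F24773) (tt N16880 (iv F30164)) (tt N17442 (iv F31267)) (tt N17427 (iv F31252)) (tt N11372 (iv D14413)) (tt N17443 D17475))
theorem Q14388 : ∀ i, i < 14388 → P i := stepQ 14387 Q14387 (allL N14387 (tt N11376 F24774) (tt N16879 (iv F30162)) (tt N14316 F24775) (tt N17444 D17476) (tt N11373 (iv D14414)) (tt N15761 (iv F27760)))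
theorem Q14389 : ∀ i, i < 14389 → P i := stepQ 14388 Q14388 (allL N14388 (tt N15037 (iv F26163)) (tt N12575 F24776) (tt N14761 (iv F25569)) (tt N11374 (iv D14415)) (tt N15867 (iv F27938)) (tt N12585 F24777))
theorem Q14390 : ∀ i, i < 14390 → P i := stepQ 14389 Q14389 (allL N14389 (tt N17442 (iv F31266)) (tt N12221 F24778) (tt N11375 F24779) (tt N17445 D17477) (tt N11374 (iv D14416)) (tt N12219 F24780))
theorem Q14391 : ∀ i, i < 14391 → P i := stepQ 14390 Q14390 (allL N14390 (tt N17443 (iv F31269)) (tt N11377 F24781) (tt N12219 F24782) (tt N17433 (iv F31259)) (tt N12218 F24783) (tt N11375 (iv D14417)))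
theorem Q14392 : ∀ i, i < 14392 → P i := stepQ 14391 Q14391 (allL N14391 (tt N17444 (iv F31272)) (tt N11378 F24784) (tt N17446 D17478) (tt N11376 (iv D14418)) (tt N16867 (iv F30134)) (tt N15765 (iv F27773)))
theorem Q14393 : ∀ i, i < 14393 → P i := stepQ 14392 Q14392 (allL N14392 (tt N16874 (iv F30151)) (tt N17447 D17479) (tt N11378 (iv D14419)) (tt N17448 D17480) (tt N15716 F27661) (tt N17441 (iv F31265)))
theorem Q14394 : ∀ i, i < 14394 → P i := stepQ 14393 Q14393 (allL N14393 (tt N11405 F24785) (tt N11389 F24786) (tt N11401 F24787) (tt N14728 (iv F25495)) (tt N11389 F24788) (tt N11385 (iv D14420)))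
theorem Q14395 : ∀ i, i < 14395 → P i := stepQ 14394 Q14394 (allL N14394 (tt N15118 (iv F26342)) (tt N15122 (iv F26356)) (tt N11388 (iv D14421)) (tt N17282 (iv F30945)) (tt N11390 F24789) (tt N15116 F26338))
theorem Q14396 : ∀ i, i < 14396 → P i := stepQ 14395 Q14395 (allL N14395 (tt N14722 (iv F25473)) (tt N14728 (iv F25493)) (tt N15116 (iv F26337)) (tt N11389 F24790) (tt N14725 (iv F25486)) (tt N11388 (iv D14422)))
theorem Q14397 : ∀ i, i < 14397 → P i := stepQ 14396 Q14396 (allL N14396 (tt N15126 (iv F26362)) (tt N11390 (iv D14423)) (tt N15134 (iv F26385)) (tt N15400 (iv F26992)) (tt N15122 F26358) (tt N15399 F26988))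
theorem Q14398 : ∀ i, i < 14398 → P i := stepQ 14397 Q14397 (allL N14397 (tt N17449 D17481) (tt N11392 (iv D14424)) (tt N11395 F24791) (tt N15656 (iv F27543)) (tt N11393 F24792) (tt N13527 F24793))
theorem Q14399 : ∀ i, i < 14399 → P i := stepQ 14398 Q14398 (allL N14398 (tt N11393 (iv D14425)) (tt N13914 F24794) (tt N11396 F24795) (tt N17450 D17482) (tt N17449 (iv F31283)) (tt N13505 F24796))
theorem Q14400 : ∀ i, i < 14400 → P i := stepQ 14399 Q14399 (allL N14399 (tt N17450 (iv F31285)) (tt N11394 F24797) (tt N17451 D17483) (tt N11393 (iv D14426)) (tt N15667 F27561) (tt N13506 F24798))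
theorem Q14401 : ∀ i, i < 14401 → P i := stepQ 14400 Q14400 (allL N14400 (tt N11395 (iv D14427)) (tt N13518 F24799) (tt N17449 (iv F31281)) (tt N13526 F24800) (tt N11396 F24801) (tt N13525 F24802))
theorem Q14402 : ∀ i, i < 14402 → P i := stepQ 14401 Q14401 (allL N14401 (tt N17390 (iv F31183)) (tt N11400 F24803) (tt N11398 F24805) (tt N11397 (iv D14428)) (tt N11398 F24804) (tt N15706 (iv F27634)))
theorem Q14403 : ∀ i, i < 14403 → P i := stepQ 14402 Q14402 (allL N14402 (tt N17391 (iv F31187)) (tt N11401 F24806) (tt N17401 (iv F31217)) (tt N15706 (iv F27633)) (tt N17401 (iv F31219)) (tt N11397 (iv D14429)))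
theorem Q14404 : ∀ i, i < 14404 → P i := stepQ 14403 Q14403 (allL N14403 (tt N14498 (iv F24989)) (tt N11403 F24807) (tt N17452 D17484) (tt N11402 (iv D14430)) (tt N17453 D17485) (tt N13565 F24808))
theorem Q14405 : ∀ i, i < 14405 → P i := stepQ 14404 Q14404 (allL N14404 (tt N11410 F24809) (tt N17453 (iv F31292)) (tt N13507 F24810) (tt N17362 (iv F31114)) (tt N11403 (iv D14431)) (tt N17454 D17486))
theorem Q14406 : ∀ i, i < 14406 → P i := stepQ 14405 Q14405 (allL N14405 (tt N11408 F24811) (tt N11406 (iv D14432)) (tt N17404 (iv F31223)) (tt N15700 (iv F27621)) (tt N11408 F24812) (tt N15699 F27618))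
theorem Q14407 : ∀ i, i < 14407 → P i := stepQ 14406 Q14406 (allL N14406 (tt N15707 (iv F27635)) (tt N17322 (iv F31027)) (tt N15704 (iv F27627)) (tt N17326 (iv F31038)) (tt N11407 (iv D14433)) (tt N11409 F24813))
theorem Q14408 : ∀ i, i < 14408 → P i := stepQ 14407 Q14407 (allL N14407 (tt N17454 (iv F31293)) (tt N14501 (iv F24993)) (tt N13953 F24814) (tt N17365 (iv F31119)) (tt N13572 F24815) (tt N11410 (iv D14434)))
theorem Q14409 : ∀ i, i < 14409 → P i := stepQ 14408 Q14408 (allL N14408 (tt N11415 F24816) (tt N17455 D17487) (tt N11411 (iv D14435)) (tt N17455 F31298) (tt N13709 F24817) (tt N17456 D17488))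
theorem Q14410 : ∀ i, i < 14410 → P i := stepQ 14409 Q14409 (allL N14409 (tt N11416 F24818) (tt N11429 F24819) (tt N17456 (iv F31301)) (tt N11412 F24820) (tt N17334 (iv F31061)) (tt N11411 (iv D14436)))
theorem Q14411 : ∀ i, i < 14411 → P i := stepQ 14410 Q14410 (allL N14410 (tt N13709 F24821) (tt N17457 D17489) (tt N11413 (iv D14437)) (tt N17458 D17490) (tt N11415 F24822) (tt N17459 D17491))
theorem Q14412 : ∀ i, i < 14412 → P i := stepQ 14411 Q14411 (allL N14411 (tt N13710 F24823) (tt N11420 F24824) (tt N17459 (iv F31306)) (tt N11414 F24825) (tt N17460 D17492) (tt N11413 (iv D14438)))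
theorem Q14413 : ∀ i, i < 14413 → P i := stepQ 14412 Q14412 (allL N14412 (tt N17461 D17493) (tt N11415 (iv D14439)) (tt N11421 F24826) (tt N17461 F31315) (tt N17457 (iv F31303)) (tt N11485 (iv F24827)))
theorem Q14414 : ∀ i, i < 14414 → P i := stepQ 14413 Q14413 (allL N14413 (tt N17455 (iv F31299)) (tt N17461 (iv F31312)) (tt N17460 (iv F31310)) (tt N11415 (iv D14440)) (tt N17459 F31307) (tt N17462 D17494))
theorem Q14415 : ∀ i, i < 14415 → P i := stepQ 14414 Q14414 (allL N14414 (tt N17456 (iv F31300)) (tt N11485 F24828) (tt N11416 F24829) (tt N17462 (iv F31318)) (tt N17462 (iv F31319)) (tt N11415 (iv D14441)))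
theorem Q14416 : ∀ i, i < 14416 → P i := stepQ 14415 Q14415 (allL N14415 (tt N17334 (iv F31059)) (tt N11422 F24830) (tt N17462 (iv F31317)) (tt N17332 (iv F31053)) (tt N11416 (iv D14442)) (tt N17460 (iv F31311)))
theorem Q14417 : ∀ i, i < 14417 → P i := stepQ 14416 Q14416 (allL N14416 (tt N13576 F24831) (tt N11423 F24832) (tt N17333 (iv F31056)) (tt N11417 (iv D14443)) (tt N17332 F31052) (tt N11418 F24833))
theorem Q14418 : ∀ i, i < 14418 → P i := stepQ 14417 Q14417 (allL N14417 (tt N13575 F24834) (tt N17354 (iv F31093)) (tt N11418 (iv D14444)) (tt N17401 (iv F31218)) (tt N16782 (iv F29968)) (tt N17333 (iv F31058)))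
theorem Q14419 : ∀ i, i < 14419 → P i := stepQ 14418 Q14418 (allL N14418 (tt N17463 D17495) (tt N11419 (iv D14445)) (tt N17457 (iv F31302)) (tt N17464 D17496) (tt N11421 F24835) (tt N17463 F31322))
theorem Q14420 : ∀ i, i < 14420 → P i := stepQ 14419 Q14419 (allL N14419 (tt N11439 F24836) (tt N17464 (iv F31323)) (tt N17465 D17497) (tt N11419 (iv D14446)) (tt N11487 F24837) (tt N17466 D17498))
theorem Q14421 : ∀ i, i < 14421 → P i := stepQ 14420 Q14420 (allL N14420 (tt N11438 F24838) (tt N17463 (iv F31320)) (tt N11420 F24839) (tt N17466 (iv F31331)) (tt N11442 F24840) (tt N11419 (iv D14447)))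
theorem Q14422 : ∀ i, i < 14422 → P i := stepQ 14421 Q14421 (allL N14421 (tt N11431 F24841) (tt N17460 (iv F31309)) (tt N11442 F24842) (tt N16787 (iv F29977)) (tt N11420 (iv D14448)) (tt N11422 F24843))
theorem Q14423 : ∀ i, i < 14423 → P i := stepQ 14422 Q14422 (allL N14422 (tt N11421 (iv D14449)) (tt N11442 F24844) (tt N17461 (iv F31313)) (tt N11484 F24845) (tt N17463 (iv F31321)) (tt N11483 F24846))
theorem Q14424 : ∀ i, i < 14424 → P i := stepQ 14423 Q14423 (allL N14423 (tt N11446 F24847) (tt N17332 F31051) (tt N17352 (iv F31083)) (tt N11422 (iv D14450)) (tt N11423 F24848) (tt N16787 (iv F29978)))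
theorem Q14425 : ∀ i, i < 14425 → P i := stepQ 14424 Q14424 (allL N14424 (tt N11447 F24849) (tt N17353 (iv F31088)) (tt N11423 (iv D14451)) (tt N11450 F24850) (tt N17352 F31086) (tt N11424 F24851))
theorem Q14426 : ∀ i, i < 14426 → P i := stepQ 14425 Q14425 (allL N14425 (tt N17360 (iv F31107)) (tt N11424 (iv D14452)) (tt N17354 (iv F31094)) (tt N17206 (iv F30788)) (tt N16784 (iv F29972)) (tt N17353 (iv F31091)))
theorem Q14427 : ∀ i, i < 14427 → P i := stepQ 14426 Q14426 (allL N14426 (tt N15127 (iv F26366)) (tt N11426 F24852) (tt N17467 D17499) (tt N11425 (iv D14453)) (tt N16823 (iv F30062)) (tt N17195 (iv F30762)))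
theorem Q14428 : ∀ i, i < 14428 → P i := stepQ 14427 Q14427 (allL N14427 (tt N11450 F24853) (tt N17468 D17500) (tt N11426 (iv D14454)) (tt N11447 F24854) (tt N16825 (iv F30066)) (tt N11449 F24855))
theorem Q14429 : ∀ i, i < 14429 → P i := stepQ 14428 Q14428 (allL N14428 (tt N17460 (iv F31308)) (tt N11428 (iv D14455)) (tt N17455 (iv F31296)) (tt N17250 (iv F30878)) (tt N13710 F24856) (tt N17334 (iv F31062)))
theorem Q14430 : ∀ i, i < 14430 → P i := stepQ 14429 Q14429 (allL N14429 (tt N11433 F24857) (tt N17334 (iv F31060)) (tt N11429 F24858) (tt N11458 F24859) (tt N11429 F24860) (tt N11428 (iv D14456)))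
theorem Q14431 : ∀ i, i < 14431 → P i := stepQ 14430 Q14430 (allL N14430 (tt N16787 (iv F29976)) (tt N11432 F24861) (tt N17469 D17501) (tt N11431 (iv D14457)) (tt N11440 F24862) (tt N11446 F24863))
theorem Q14432 : ∀ i, i < 14432 → P i := stepQ 14431 Q14431 (allL N14431 (tt N13698 F24864) (tt N17470 D17502) (tt N11434 (iv D14458)) (tt N17471 D17503) (tt N13697 F24865) (tt N17472 D17504))
theorem Q14433 : ∀ i, i < 14433 → P i := stepQ 14432 Q14432 (allL N14432 (tt N13699 F24866) (tt N11437 F24867) (tt N17472 (iv F31345)) (tt N11435 F24868) (tt N17473 D17505) (tt N11434 (iv D14459)))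
theorem Q14434 : ∀ i, i < 14434 → P i := stepQ 14433 Q14433 (allL N14433 (tt N17470 (iv F31337)) (tt N11436 (iv D14460)) (tt N17470 (iv F31338)) (tt N17474 D17506) (tt N11914 F24869) (tt N17475 D17507))
theorem Q14435 : ∀ i, i < 14435 → P i := stepQ 14434 Q14434 (allL N14434 (tt N13707 F24870) (tt N17474 (iv F31350)) (tt N17466 (iv F31330)) (tt N11436 (iv D14461)) (tt N12296 F24871) (tt N17465 F31328))
theorem Q14436 : ∀ i, i < 14436 → P i := stepQ 14435 Q14435 (allL N14435 (tt N13708 F24872) (tt N17475 (iv F31352)) (tt N11437 F24873) (tt N17465 (iv F31326)) (tt N17476 D17508) (tt N11436 (iv D14462)))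
theorem Q14437 : ∀ i, i < 14437 → P i := stepQ 14436 Q14436 (allL N14436 (tt N12305 F24874) (tt N17473 (iv F31347)) (tt N17476 (iv F31356)) (tt N16780 (iv F29962)) (tt N11437 (iv D14463)) (tt N12302 F24875))
theorem Q14438 : ∀ i, i < 14438 → P i := stepQ 14437 Q14437 (allL N14437 (tt N17466 (iv F31329)) (tt N11439 F24876) (tt N13707 F24878) (tt N11438 (iv D14464)) (tt N17477 D17509) (tt N11439 F24877))
theorem Q14439 : ∀ i, i < 14439 → P i := stepQ 14438 Q14438 (allL N14438 (tt N17465 (iv F31325)) (tt N17478 D17510) (tt N11439 (iv D14465)) (tt N13708 F24880) (tt N17479 D17511) (tt N13707 F24879))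
theorem Q14440 : ∀ i, i < 14440 → P i := stepQ 14439 Q14439 (allL N14439 (tt N11487 F24881) (tt N17477 (iv F31359)) (tt N17479 (iv F31366)) (tt N11445 F24882) (tt N11439 (iv D14466)) (tt N17480 D17512))
theorem Q14441 : ∀ i, i < 14441 → P i := stepQ 14440 Q14440 (allL N14440 (tt N16786 (iv F29974)) (tt N17481 D17513) (tt N11440 (iv D14467)) (tt N16791 (iv F29984)) (tt N17469 (iv F31335)) (tt N11441 F24883))
theorem Q14442 : ∀ i, i < 14442 → P i := stepQ 14441 Q14441 (allL N14441 (tt N17482 D17514) (tt N11441 (iv D14468)) (tt N13585 F24884) (tt N17483 D17515) (tt N11448 F24885) (tt N17481 (iv F31370)))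
theorem Q14443 : ∀ i, i < 14443 → P i := stepQ 14442 Q14442 (allL N14442 (tt N16785 (iv F29973)) (tt N17483 (iv F31373)) (tt N16793 (iv F29988)) (tt N11441 (iv D14469)) (tt N17484 D17516) (tt N16791 F29985))
theorem Q14444 : ∀ i, i < 14444 → P i := stepQ 14443 Q14443 (allL N14443 (tt N11443 F24886) (tt N11484 F24887) (tt N17485 D17517) (tt N11442 (iv D14470)) (tt N17486 D17518) (tt N11468 F24888))
theorem Q14445 : ∀ i, i < 14445 → P i := stepQ 14444 Q14444 (allL N14444 (tt N17485 (iv F31375)) (tt N11463 F24889) (tt N11443 (iv D14471)) (tt N17209 (iv F30795)) (tt N17487 D17519) (tt N11461 F24890))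
theorem Q14446 : ∀ i, i < 14446 → P i := stepQ 14445 Q14445 (allL N14445 (tt N17486 (iv F31379)) (tt N11445 F24891) (tt N17487 (iv F31386)) (tt N17477 (iv F31361)) (tt N11443 (iv D14472)) (tt N17488 D17520))
theorem Q14447 : ∀ i, i < 14447 → P i := stepQ 14446 Q14446 (allL N14446 (tt N11482 F24892) (tt N17488 (iv F31390)) (tt N11467 F24893) (tt N17480 (iv F31368)) (tt N11466 F24894) (tt N11445 (iv D14473)))
theorem Q14448 : ∀ i, i < 14448 → P i := stepQ 14447 Q14447 (allL N14447 (tt N17352 F31085) (tt N17355 (iv F31096)) (tt N11446 (iv D14474)) (tt N17489 D17521) (tt N11447 F24895) (tt N17469 (iv F31336)))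
theorem Q14449 : ∀ i, i < 14449 → P i := stepQ 14448 Q14448 (allL N14448 (tt N17357 (iv F31100)) (tt N11447 (iv D14475)) (tt N13590 F24896) (tt N17468 (iv F31333)) (tt N17355 F31098) (tt N11448 F24897))
theorem Q14450 : ∀ i, i < 14450 → P i := stepQ 14449 Q14449 (allL N14449 (tt N11448 (iv D14476)) (tt N17360 (iv F31108)) (tt N13588 F24898) (tt N17490 D17522) (tt N17482 (iv F31372)) (tt N17357 F31103))
theorem Q14451 : ∀ i, i < 14451 → P i := stepQ 14450 Q14450 (allL N14450 (tt N17490 (iv F31394)) (tt N11449 F24899) (tt N17491 D17523) (tt N11448 (iv D14477)) (tt N17492 D17524) (tt N17468 (iv F31334)))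
theorem Q14452 : ∀ i, i < 14452 → P i := stepQ 14451 Q14451 (allL N14451 (tt N17205 (iv F30785)) (tt N17492 (iv F31395)) (tt N17177 F30724) (tt N17484 (iv F31374)) (tt N11449 (iv D14478)) (tt N17493 D17525))
theorem Q14453 : ∀ i, i < 14453 → P i := stepQ 14452 Q14452 (allL N14452 (tt N17359 (iv F31106)) (tt N11450 (iv D14479)) (tt N15117 F26340) (tt N17353 F31090) (tt N17494 D17526) (tt N17206 (iv F30789)))
theorem Q14454 : ∀ i, i < 14454 → P i := stepQ 14453 Q14453 (allL N14453 (tt N16825 (iv F30065)) (tt N17494 (iv F31396)) (tt N11451 F24900) (tt N17495 D17527) (tt N11450 (iv D14480)) (tt N17496 D17528))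
theorem Q14455 : ∀ i, i < 14455 → P i := stepQ 14454 Q14454 (allL N14454 (tt N16826 (iv F30067)) (tt N17281 (iv F30942)) (tt N17496 (iv F31402)) (tt N11455 F24901) (tt N17204 (iv F30783)) (tt N11451 (iv D14481)))
theorem Q14456 : ∀ i, i < 14456 → P i := stepQ 14455 Q14455 (allL N14455 (tt N11453 F24902) (tt N16958 (iv F30326)) (tt N11452 (iv D14482)) (tt N11499 F24903) (tt N17497 D17529) (tt N11488 F24904))
theorem Q14457 : ∀ i, i < 14457 → P i := stepQ 14456 Q14456 (allL N14456 (tt N11454 F24905) (tt N16822 (iv F30060)) (tt N17497 (iv F31405)) (tt N15128 (iv F26371)) (tt N11452 (iv D14483)) (tt N17498 D17530))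
theorem Q14458 : ∀ i, i < 14458 → P i := stepQ 14457 Q14457 (allL N14457 (tt N11499 F24906) (tt N16816 (iv F30041)) (tt N11498 F24907) (tt N11453 (iv D14484)) (tt N17499 D17531) (tt N11491 F24908))
theorem Q14459 : ∀ i, i < 14459 → P i := stepQ 14458 Q14458 (allL N14458 (tt N17497 (iv F31404)) (tt N16817 (iv F30043)) (tt N11454 F24909) (tt N17500 D17532) (tt N11453 (iv D14485)) (tt N17501 D17533))
theorem Q14460 : ∀ i, i < 14460 → P i := stepQ 14459 Q14459 (allL N14459 (tt N17498 (iv F31406)) (tt N11455 F24910) (tt N17501 (iv F31410)) (tt N17281 (iv F30943)) (tt N11493 F24911) (tt N11454 (iv D14486)))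
theorem Q14461 : ∀ i, i < 14461 → P i := stepQ 14460 Q14460 (allL N14460 (tt N11480 (iv F24914)) (tt N11459 (iv D14487)) (tt N11465 F24912) (tt N11476 (iv F24915)) (tt N11461 F24913) (tt N11475 F24916))
theorem Q14462 : ∀ i, i < 14462 → P i := stepQ 14461 Q14461 (allL N14461 (tt N16282 (iv F28843)) (tt N11476 F24917) (tt N17502 D17534) (tt N11459 (iv D14488)) (tt N17503 D17535) (tt N11474 (iv F24918)))
theorem Q14463 : ∀ i, i < 14463 → P i := stepQ 14462 Q14462 (allL N14462 (tt N16283 (iv F28845)) (tt N11475 F24919) (tt N11460 F24920) (tt N11474 F24921) (tt N17504 D17536) (tt N11459 (iv D14489)))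
theorem Q14464 : ∀ i, i < 14464 → P i := stepQ 14463 Q14463 (allL N14463 (tt N14193 F24922) (tt N11467 F24923) (tt N17504 (iv F31420)) (tt N14187 F24924) (tt N11460 (iv D14490)) (tt N11464 F24925))
theorem Q14465 : ∀ i, i < 14465 → P i := stepQ 14464 Q14464 (allL N14464 (tt N11461 (iv D14491)) (tt N17167 (iv F30699)) (tt N11468 F24926) (tt N17505 D17537) (tt N11480 F24927) (tt N17485 (iv F31377)))
theorem Q14466 : ∀ i, i < 14466 → P i := stepQ 14465 Q14465 (allL N14465 (tt N17505 (iv F31423)) (tt N11462 F24928) (tt N17363 (iv F31115)) (tt N11461 (iv D14492)) (tt N17506 D17538) (tt N17209 (iv F30796)))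
theorem Q14467 : ∀ i, i < 14467 → P i := stepQ 14466 Q14466 (allL N14466 (tt N17169 (iv F30703)) (tt N17506 (iv F31426)) (tt N14213 F24929) (tt N17503 (iv F31416)) (tt N11462 (iv D14493)) (tt N17507 D17539))
theorem Q14468 : ∀ i, i < 14468 → P i := stepQ 14467 Q14467 (allL N14467 (tt N14194 F24930) (tt N17487 (iv F31385)) (tt N11464 F24931) (tt N17508 D17540) (tt N11463 (iv D14494)) (tt N17504 (iv F31422)))
theorem Q14469 : ∀ i, i < 14469 → P i := stepQ 14468 Q14468 (allL N14468 (tt N11481 F24932) (tt N11466 F24933) (tt N11475 F24934) (tt N11466 F24935) (tt N17488 (iv F31392)) (tt N11465 (iv D14495)))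
theorem Q14470 : ∀ i, i < 14470 → P i := stepQ 14469 Q14469 (allL N14469 (tt N11470 F24936) (tt N11489 F24937) (tt N17010 (iv F30432)) (tt N17193 (iv F30757)) (tt N11469 (iv D14496)) (tt N17509 D17541))
theorem Q14471 : ∀ i, i < 14471 → P i := stepQ 14470 Q14470 (allL N14470 (tt N17509 (iv F31438)) (tt N11471 F24938) (tt N17012 (iv F30436)) (tt N17194 (iv F30759)) (tt N16824 (iv F30064)) (tt N11470 (iv D14497)))
theorem Q14472 : ∀ i, i < 14472 → P i := stepQ 14471 Q14471 (allL N14471 (tt N16620 (iv F29594)) (tt N11472 (iv D14498)) (tt N11474 F24939) (tt N11953 (iv F24941)) (tt N14062 F24940) (tt N17502 (iv F31414)))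
theorem Q14473 : ∀ i, i < 14473 → P i := stepQ 14472 Q14472 (allL N14472 (tt N14066 F24942) (tt N11953 F24943) (tt N11957 (iv F24944)) (tt N11472 (iv D14499)) (tt N11955 (iv F24945)) (tt N17510 D17542))
theorem Q14474 : ∀ i, i < 14474 → P i := stepQ 14473 Q14473 (allL N14473 (tt N14067 F24946) (tt N17502 (iv F31412)) (tt N11473 F24947) (tt N17510 (iv F31443)) (tt N17511 D17543) (tt N11472 (iv D14500)))
theorem Q14475 : ∀ i, i < 14475 → P i := stepQ 14474 Q14474 (allL N14474 (tt N14049 F24948) (tt N11477 F24949) (tt N17511 (iv F31445)) (tt N16830 (iv F30076)) (tt N11473 (iv D14501)) (tt N14047 F24950))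
theorem Q14476 : ∀ i, i < 14476 → P i := stepQ 14475 Q14475 (allL N14475 (tt N11474 (iv D14502)) (tt N14073 F24951) (tt N16620 (iv F29595)) (tt N16283 (iv F28847)) (tt N14069 F24952) (tt N16282 (iv F28844)))
theorem Q14477 : ∀ i, i < 14477 → P i := stepQ 14476 Q14476 (allL N14476 (tt N14078 F24953) (tt N17504 (iv F31419)) (tt N17488 (iv F31391)) (tt N12289 F24954) (tt N11475 (iv D14503)) (tt N17487 (iv F31388)))
theorem Q14478 : ∀ i, i < 14478 → P i := stepQ 14477 Q14477 (allL N14477 (tt N14081 F24955) (tt N17503 (iv F31415)) (tt N11477 F24956) (tt N17506 (iv F31427)) (tt N11476 (iv D14504)) (tt N14071 F24957))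
theorem Q14479 : ∀ i, i < 14479 → P i := stepQ 14478 Q14478 (allL N14478 (tt N11479 F24958) (tt N11481 F24959) (tt N17191 (iv F30751)) (tt N11479 F24960) (tt N17512 D17544) (tt N11478 (iv D14505)))
theorem Q14480 : ∀ i, i < 14480 → P i := stepQ 14479 Q14479 (allL N14479 (tt N17512 (iv F31447)) (tt N11482 F24961) (tt N16289 F28865) (tt N17513 D17545) (tt N11479 (iv D14506)) (tt N11486 F24962))
theorem Q14481 : ∀ i, i < 14481 → P i := stepQ 14480 Q14480 (allL N14480 (tt N16281 (iv F28840)) (tt N11480 (iv D14507)) (tt N16284 (iv F28849)) (tt N14077 F24963) (tt N17167 (iv F30701)) (tt N14076 F24964))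
theorem Q14482 : ∀ i, i < 14482 → P i := stepQ 14481 Q14481 (allL N14481 (tt N17488 (iv F31389)) (tt N17512 (iv F31448)) (tt N14078 F24965) (tt N17514 D17546) (tt N11481 (iv D14508)) (tt N17486 (iv F31383)))
theorem Q14483 : ∀ i, i < 14483 → P i := stepQ 14482 Q14482 (allL N14482 (tt N17480 (iv F31367)) (tt N17513 (iv F31450)) (tt N17515 D17547) (tt N11482 (iv D14509)) (tt N17514 (iv F31453)) (tt N11487 F24966))
theorem Q14484 : ∀ i, i < 14484 → P i := stepQ 14483 Q14483 (allL N14483 (tt N11485 F24967) (tt N17462 (iv F31316)) (tt N11483 (iv D14510)) (tt N11485 F24969) (tt N11485 F24968) (tt N17461 (iv F31314)))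
theorem Q14485 : ∀ i, i < 14485 → P i := stepQ 14484 Q14484 (allL N14484 (tt N11486 F24970) (tt N17486 (iv F31380)) (tt N17180 (iv F30729)) (tt N17516 D17548) (tt N11484 (iv D14511)) (tt N17512 (iv F31449)))
theorem Q14486 : ∀ i, i < 14486 → P i := stepQ 14485 Q14485 (allL N14485 (tt N17516 (iv F31457)) (tt N11487 F24971) (tt N17517 D17549) (tt N11486 (iv D14512)) (tt N17464 (iv F31324)) (tt N17513 (iv F31451)))
theorem Q14487 : ∀ i, i < 14487 → P i := stepQ 14486 Q14486 (allL N14486 (tt N17479 (iv F31365)) (tt N17518 D17550) (tt N11487 (iv D14513)) (tt N17519 D17551) (tt N17465 (iv F31327)) (tt N17515 (iv F31456)))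
theorem Q14488 : ∀ i, i < 14488 → P i := stepQ 14487 Q14487 (allL N14487 (tt N16964 (iv F30340)) (tt N11488 (iv D14514)) (tt N16960 (iv F30332)) (tt N16630 (iv F29617)) (tt N17520 D17552) (tt N16958 F30328))
theorem Q14489 : ∀ i, i < 14489 → P i := stepQ 14488 Q14488 (allL N14488 (tt N11492 F24972) (tt N17520 (iv F31460)) (tt N11489 F24973) (tt N17521 D17553) (tt N11488 (iv D14515)) (tt N17522 D17554))
theorem Q14490 : ∀ i, i < 14490 → P i := stepQ 14489 Q14489 (allL N14489 (tt N11493 F24974) (tt N17509 (iv F31439)) (tt N17522 (iv F31464)) (tt N17196 (iv F30765)) (tt N17498 (iv F31407)) (tt N11489 (iv D14516)))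
theorem Q14491 : ∀ i, i < 14491 → P i := stepQ 14490 Q14490 (allL N14490 (tt N17009 (iv F30429)) (tt N11491 F24975) (tt N17523 D17555) (tt N11490 (iv D14517)) (tt N14899 (iv F25827)) (tt N16816 (iv F30042)))
theorem Q14492 : ∀ i, i < 14492 → P i := stepQ 14491 Q14491 (allL N14491 (tt N12383 F24976) (tt N11492 F24977) (tt N11494 F24978) (tt N14900 F25825) (tt N11490 (iv D14518)) (tt N17524 D17556))
theorem Q14493 : ∀ i, i < 14493 → P i := stepQ 14492 Q14492 (allL N14492 (tt N16631 (iv F29619)) (tt N14899 F25828) (tt N16629 (iv F29614)) (tt N14822 (iv F25829)) (tt N11491 (iv D14519)) (tt N14821 F25831))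
theorem Q14494 : ∀ i, i < 14494 → P i := stepQ 14493 Q14493 (allL N14493 (tt N17521 (iv F31462)) (tt N14900 (iv F25826)) (tt N14823 (iv F25832)) (tt N11492 (iv D14520)) (tt N14822 F25830) (tt N17525 D17557))
theorem Q14495 : ∀ i, i < 14495 → P i := stepQ 14494 Q14494 (allL N14494 (tt N17522 (iv F31463)) (tt N17524 (iv F31467)) (tt N11493 F24979) (tt N17525 (iv F31469)) (tt N17501 (iv F31411)) (tt N11492 (iv D14521)))
theorem Q14496 : ∀ i, i < 14496 → P i := stepQ 14495 Q14495 (allL N14495 (tt N12384 F24980) (tt N11496 F24981) (tt N17524 (iv F31468)) (tt N12382 F24982) (tt N16818 (iv F30047)) (tt N11494 (iv D14522)))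
theorem Q14497 : ∀ i, i < 14497 → P i := stepQ 14496 Q14496 (allL N14496 (tt N11951 F24983) (tt N17526 D17558) (tt N11495 (iv D14523)) (tt N17527 D17559) (tt N11949 F24984) (tt N17528 D17560))
theorem Q14498 : ∀ i, i < 14498 → P i := stepQ 14497 Q14497 (allL N14497 (tt N11952 F24985) (tt N12382 F24986) (tt N17528 (iv F31476)) (tt N11496 F24987) (tt N12295 F24988) (tt N11495 (iv D14524)))
theorem Q14499 : ∀ i, i < 14499 → P i := stepQ 14498 Q14498 (allL N14498 (tt N14403 F24989) (tt N11498 F24990) (tt N17529 D17561) (tt N11497 (iv D14525)) (tt N17530 D17562) (tt N16625 (iv F29607)))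
theorem Q14500 : ∀ i, i < 14500 → P i := stepQ 14499 Q14499 (allL N14499 (tt N11500 F24991) (tt N17530 (iv F31480)) (tt N17499 (iv F31409)) (tt N17275 (iv F30937)) (tt N11498 (iv D14526)) (tt N17531 D17563))
theorem Q14501 : ∀ i, i < 14501 → P i := stepQ 14500 Q14500 (allL N14500 (tt N17499 (iv F31408)) (tt N17020 (iv F30452)) (tt N11500 F24992) (tt N17532 D17564) (tt N11499 (iv D14527)) (tt N17533 D17565))
theorem Q14502 : ∀ i, i < 14502 → P i := stepQ 14501 Q14501 (allL N14501 (tt N17531 (iv F31481)) (tt N14407 F24993) (tt N17533 (iv F31482)) (tt N17283 (iv F30946)) (tt N16632 (iv F29623)) (tt N11500 (iv D14528)))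
theorem Q14503 : ∀ i, i < 14503 → P i := stepQ 14502 Q14502 (allL N14502 (tt N11501 (iv D14529)) (tt N11505 F24994) (tt N11515 F24995) (tt N17534 D17566) (tt N13469 F24996) (tt N16896 (iv F30200)))
theorem Q14504 : ∀ i, i < 14504 → P i := stepQ 14503 Q14503 (allL N14503 (tt N17534 (iv F31483)) (tt N11502 F24997) (tt N17535 D17567) (tt N11501 (iv D14530)) (tt N17536 D17568) (tt N17408 (iv F31229)))
theorem Q14505 : ∀ i, i < 14505 → P i := stepQ 14504 Q14504 (allL N14504 (tt N16896 (iv F30198)) (tt N11503 F24998) (tt N11517 F24999) (tt N17408 (iv F31228)) (tt N17537 D17569) (tt N11501 (iv D14531)))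
theorem Q14506 : ∀ i, i < 14506 → P i := stepQ 14505 Q14505 (allL N14505 (tt N11508 F25000) (tt N17536 (iv F31485)) (tt N17411 (iv F31234)) (tt N13472 F25001) (tt N11502 (iv D14532)) (tt N17538 D17570))
theorem Q14507 : ∀ i, i < 14507 → P i := stepQ 14506 Q14506 (allL N14506 (tt N11510 F25002) (tt N17537 (iv F31488)) (tt N11504 F25003) (tt N17539 D17571) (tt N11503 (iv D14533)) (tt N13473 F25004))
theorem Q14508 : ∀ i, i < 14508 → P i := stepQ 14507 Q14507 (allL N14507 (tt N11506 F25005) (tt N17534 (iv F31484)) (tt N16889 (iv F30184)) (tt N11505 (iv D14534)) (tt N17540 D17572) (tt N16897 (iv F30202)))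
theorem Q14509 : ∀ i, i < 14509 → P i := stepQ 14508 Q14508 (allL N14508 (tt N16889 (iv F30183)) (tt N17541 D17573) (tt N11506 (iv D14535)) (tt N16886 (iv F30176)) (tt N17542 D17574) (tt N16898 (iv F30203)))
theorem Q14510 : ∀ i, i < 14510 → P i := stepQ 14509 Q14509 (allL N14509 (tt N17540 (iv F31495)) (tt N11508 F25006) (tt N17542 (iv F31499)) (tt N13476 F25007) (tt N11506 (iv D14536)) (tt N17543 D17575))
theorem Q14511 : ∀ i, i < 14511 → P i := stepQ 14510 Q14510 (allL N14510 (tt N17544 D17576) (tt N11507 (iv D14537)) (tt N17541 (iv F31497)) (tt N14301 F25008) (tt N17545 D17577) (tt N14308 F25009))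
theorem Q14512 : ∀ i, i < 14512 → P i := stepQ 14511 Q14511 (allL N14511 (tt N17411 (iv F31233)) (tt N17545 (iv F31504)) (tt N11508 F25010) (tt N17546 D17578) (tt N11507 (iv D14538)) (tt N17547 D17579))
theorem Q14513 : ∀ i, i < 14513 → P i := stepQ 14512 Q14512 (allL N14512 (tt N17538 (iv F31491)) (tt N17543 (iv F31500)) (tt N17547 (iv F31506)) (tt N13479 F25011) (tt N17548 D17580) (tt N11508 (iv D14539)))
theorem Q14514 : ∀ i, i < 14514 → P i := stepQ 14513 Q14513 (allL N14513 (tt N17409 (iv F31230)) (tt N16899 (iv F30204)) (tt N14309 F25012) (tt N17549 D17581) (tt N11509 (iv D14540)) (tt N17548 (iv F31509)))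
theorem Q14515 : ∀ i, i < 14515 → P i := stepQ 14514 Q14514 (allL N14514 (tt N17539 (iv F31493)) (tt N14061 F25013) (tt N17550 D17582) (tt N11510 (iv D14541)) (tt N17549 (iv F31511)) (tt N13481 F25014))
theorem Q14516 : ∀ i, i < 14516 → P i := stepQ 14515 Q14515 (allL N14515 (tt N11511 (iv D14542)) (tt N11524 F25015) (tt N13469 F25016) (tt N17551 D17583) (tt N11515 F25017) (tt N15079 (iv F26249)))
theorem Q14517 : ∀ i, i < 14517 → P i := stepQ 14516 Q14516 (allL N14516 (tt N17551 (iv F31513)) (tt N11512 F25018) (tt N17552 D17584) (tt N11511 (iv D14543)) (tt N17553 D17585) (tt N17554 D17586))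
theorem Q14518 : ∀ i, i < 14518 → P i := stepQ 14517 Q14517 (allL N14517 (tt N15079 (iv F26248)) (tt N11513 F25019) (tt N13471 F25020) (tt N17554 (iv F31518)) (tt N17555 D17587) (tt N11511 (iv D14544)))
theorem Q14519 : ∀ i, i < 14519 → P i := stepQ 14518 Q14518 (allL N14518 (tt N11526 F25021) (tt N15060 (iv F26209)) (tt N11512 (iv D14545)) (tt N11522 F25022) (tt N17556 D17588) (tt N11521 (iv F25023)))
theorem Q14520 : ∀ i, i < 14520 → P i := stepQ 14519 Q14519 (allL N14519 (tt N11527 F25024) (tt N17553 (iv F31515)) (tt N17556 (iv F31524)) (tt N11518 F25025) (tt N11512 (iv D14546)) (tt N17557 D17589))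
theorem Q14521 : ∀ i, i < 14521 → P i := stepQ 14520 Q14520 (allL N14520 (tt N11528 F25026) (tt N17554 (iv F31517)) (tt N11521 F25027) (tt N11513 F25028) (tt N15063 (iv F26217)) (tt N11512 (iv D14547)))
theorem Q14522 : ∀ i, i < 14522 → P i := stepQ 14521 Q14521 (allL N14521 (tt N11529 F25029) (tt N17555 (iv F31520)) (tt N11514 F25030) (tt N17558 D17590) (tt N11513 (iv D14548)) (tt N11519 F25031))
theorem Q14523 : ∀ i, i < 14523 → P i := stepQ 14522 Q14522 (allL N14522 (tt N11516 F25032) (tt N11530 F25033) (tt N17559 D17591) (tt N11515 (iv D14549)) (tt N17560 D17592) (tt N11554 (iv F25034)))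
theorem Q14524 : ∀ i, i < 14524 → P i := stepQ 14523 Q14523 (allL N14523 (tt N11517 F25035) (tt N11531 F25036) (tt N16896 (iv F30199)) (tt N11554 F25037) (tt N17561 D17593) (tt N11515 (iv D14550)))
theorem Q14525 : ∀ i, i < 14525 → P i := stepQ 14524 Q14524 (allL N14524 (tt N17559 (iv F31530)) (tt N11551 F25038) (tt N11516 (iv D14551)) (tt N17562 D17594) (tt N17563 D17595) (tt N11548 F25039))
theorem Q14526 : ∀ i, i < 14526 → P i := stepQ 14525 Q14525 (allL N14525 (tt N17560 (iv F31532)) (tt N11518 F25040) (tt N17563 (iv F31541)) (tt N17553 (iv F31516)) (tt N11516 (iv D14552)) (tt N17564 D17596))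
theorem Q14527 : ∀ i, i < 14527 → P i := stepQ 14526 Q14526 (allL N14526 (tt N17561 (iv F31534)) (tt N11519 F25041) (tt N17537 (iv F31489)) (tt N17565 D17597) (tt N11517 (iv D14553)) (tt N17555 (iv F31522)))
theorem Q14528 : ∀ i, i < 14528 → P i := stepQ 14527 Q14527 (allL N14527 (tt N11537 F25042) (tt N17564 (iv F31542)) (tt N11558 F25043) (tt N17557 (iv F31526)) (tt N11557 F25044) (tt N11518 (iv D14554)))
theorem Q14529 : ∀ i, i < 14529 → P i := stepQ 14528 Q14528 (allL N14528 (tt N11539 F25045) (tt N17565 (iv F31544)) (tt N17566 D17598) (tt N11519 (iv D14555)) (tt N11556 F25046) (tt N17558 (iv F31528)))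
theorem Q14530 : ∀ i, i < 14530 → P i := stepQ 14529 Q14529 (allL N14529 (tt N11520 (iv D14556)) (tt N13376 F25047) (tt N13375 F25048) (tt N17567 D17599) (tt N13375 F25049) (tt N15057 (iv F26206)))
theorem Q14531 : ∀ i, i < 14531 → P i := stepQ 14530 Q14530 (allL N14530 (tt N17567 (iv F31550)) (tt N11521 F25050) (tt N17568 D17600) (tt N11520 (iv D14557)) (tt N15062 (iv F26215)) (tt N15060 (iv F26210)))
theorem Q14532 : ∀ i, i < 14532 → P i := stepQ 14531 Q14531 (allL N14531 (tt N11525 F25051) (tt N17551 (iv F31514)) (tt N15069 (iv F26230)) (tt N11524 (iv D14558)) (tt N17569 D17601) (tt N15080 (iv F26251)))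
theorem Q14533 : ∀ i, i < 14533 → P i := stepQ 14532 Q14532 (allL N14532 (tt N15069 (iv F26229)) (tt N17570 D17602) (tt N11525 (iv D14559)) (tt N15066 (iv F26223)) (tt N17571 D17603) (tt N15081 (iv F26252)))
theorem Q14534 : ∀ i, i < 14534 → P i := stepQ 14533 Q14533 (allL N14533 (tt N17569 (iv F31552)) (tt N11527 F25052) (tt N17571 (iv F31556)) (tt N11533 F25053) (tt N11525 (iv D14560)) (tt N17572 D17604))
theorem Q14535 : ∀ i, i < 14535 → P i := stepQ 14534 Q14534 (allL N14534 (tt N17573 D17605) (tt N11526 (iv D14561)) (tt N17570 (iv F31554)) (tt N13378 F25054) (tt N17574 D17606) (tt N13377 F25055))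
theorem Q14536 : ∀ i, i < 14536 → P i := stepQ 14535 Q14535 (allL N14535 (tt N17556 (iv F31523)) (tt N17574 (iv F31561)) (tt N11527 F25056) (tt N17575 D17607) (tt N11526 (iv D14562)) (tt N17576 D17608))
theorem Q14537 : ∀ i, i < 14537 → P i := stepQ 14536 Q14536 (allL N14536 (tt N17557 (iv F31525)) (tt N17572 (iv F31557)) (tt N17576 (iv F31568)) (tt N11537 F25057) (tt N17577 D17609) (tt N11527 (iv D14563)))
theorem Q14538 : ∀ i, i < 14538 → P i := stepQ 14537 Q14537 (allL N14537 (tt N15063 (iv F26216)) (tt N15082 (iv F26253)) (tt N13379 F25058) (tt N17578 D17610) (tt N11528 (iv D14564)) (tt N17577 (iv F31572)))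
theorem Q14539 : ∀ i, i < 14539 → P i := stepQ 14538 Q14538 (allL N14538 (tt N17558 (iv F31527)) (tt N12517 F25059) (tt N17579 D17611) (tt N11529 (iv D14565)) (tt N17578 (iv F31574)) (tt N11539 F25060))
theorem Q14540 : ∀ i, i < 14540 → P i := stepQ 14539 Q14539 (allL N14539 (tt N11532 F25061) (tt N17580 D17612) (tt N11530 (iv D14566)) (tt N12587 F25062) (tt N17581 D17613) (tt N15033 (iv F26150)))
theorem Q14541 : ∀ i, i < 14541 → P i := stepQ 14540 Q14540 (allL N14540 (tt N11533 F25063) (tt N17560 (iv F31533)) (tt N17581 (iv F31580)) (tt N17569 (iv F31553)) (tt N11530 (iv D14567)) (tt N17582 D17614))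
theorem Q14542 : ∀ i, i < 14542 → P i := stepQ 14541 Q14541 (allL N14541 (tt N11534 F25064) (tt N11554 F25065) (tt N15033 (iv F26149)) (tt N11531 F25066) (tt N17583 D17615) (tt N11530 (iv D14568)))
theorem Q14543 : ∀ i, i < 14543 → P i := stepQ 14542 Q14542 (allL N14542 (tt N11535 F25067) (tt N17561 (iv F31535)) (tt N11542 F25068) (tt N17584 D17616) (tt N11531 (iv D14569)) (tt N12514 F25069))
theorem Q14544 : ∀ i, i < 14544 → P i := stepQ 14543 Q14543 (allL N14543 (tt N17581 (iv F31579)) (tt N15036 (iv F26159)) (tt N11533 F25070) (tt N15889 (iv F27992)) (tt N11532 (iv D14570)) (tt N15889 (iv F27993)))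
theorem Q14545 : ∀ i, i < 14545 → P i := stepQ 14544 Q14544 (allL N14544 (tt N17582 (iv F31581)) (tt N11537 F25071) (tt N15889 (iv F27991)) (tt N17572 (iv F31558)) (tt N15888 F27989) (tt N11533 (iv D14571)))
theorem Q14546 : ∀ i, i < 14546 → P i := stepQ 14545 Q14545 (allL N14545 (tt N17583 (iv F31582)) (tt N11538 F25072) (tt N14700 (iv F25422)) (tt N17585 D17617) (tt N11534 (iv D14572)) (tt N15888 (iv F27988)))
theorem Q14547 : ∀ i, i < 14547 → P i := stepQ 14546 Q14546 (allL N14546 (tt N17584 (iv F31584)) (tt N11539 F25073) (tt N17586 D17618) (tt N11535 (iv D14573)) (tt N17585 (iv F31588)) (tt N12517 F25074))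
theorem Q14548 : ∀ i, i < 14548 → P i := stepQ 14547 Q14547 (allL N14547 (tt N11558 F25075) (tt N14701 (iv F25427)) (tt N11537 F25076) (tt N15114 (iv F26332)) (tt N11545 F25077) (tt N11536 (iv D14574)))
theorem Q14549 : ∀ i, i < 14549 → P i := stepQ 14548 Q14548 (allL N14548 (tt N11557 F25078) (tt N15888 (iv F27987)) (tt N11545 F25079) (tt N17587 D17619) (tt N11537 (iv D14575)) (tt N11538 F25080))
theorem Q14550 : ∀ i, i < 14550 → P i := stepQ 14549 Q14549 (allL N14549 (tt N11556 F25081) (tt N17585 (iv F31587)) (tt N17588 D17620) (tt N11538 (iv D14576)) (tt N11539 F25082) (tt N17587 (iv F31596)))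
theorem Q14551 : ∀ i, i < 14551 → P i := stepQ 14550 Q14550 (allL N14550 (tt N17566 (iv F31546)) (tt N17589 D17621) (tt N11539 (iv D14577)) (tt N17590 D17622) (tt N17588 (iv F31599)) (tt N17579 (iv F31577)))
theorem Q14552 : ∀ i, i < 14552 → P i := stepQ 14551 Q14551 (allL N14551 (tt N12574 F25083) (tt N11540 (iv D14578)) (tt N14764 F25579) (tt N15880 (iv F27969)) (tt N17591 D17623) (tt N12572 F25084))
theorem Q14553 : ∀ i, i < 14553 → P i := stepQ 14552 Q14552 (allL N14552 (tt N11543 F25085) (tt N15880 (iv F27967)) (tt N15034 (iv F26154)) (tt N11540 (iv D14579)) (tt N17592 D17624) (tt N12586 F25086))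
theorem Q14554 : ∀ i, i < 14554 → P i := stepQ 14553 Q14553 (allL N14553 (tt N11544 F25087) (tt N17591 (iv F31605)) (tt N11541 F25088) (tt N17593 D17625) (tt N11540 (iv D14580)) (tt N12508 F25089))
theorem Q14555 : ∀ i, i < 14555 → P i := stepQ 14554 Q14554 (allL N14554 (tt N15034 (iv F26152)) (tt N16928 (iv F30242)) (tt N11543 (iv D14581)) (tt N15033 F26151) (tt N17594 D17626) (tt N12587 F25090))
theorem Q14556 : ∀ i, i < 14556 → P i := stepQ 14555 Q14555 (allL N14555 (tt N17592 (iv F31609)) (tt N12592 F25091) (tt N17594 (iv F31616)) (tt N17595 D17627) (tt N11543 (iv D14582)) (tt N17596 D17628))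
theorem Q14557 : ∀ i, i < 14557 → P i := stepQ 14556 Q14556 (allL N14556 (tt N17593 (iv F31610)) (tt N12593 F25092) (tt N17597 D17629) (tt N11544 (iv D14583)) (tt N17595 (iv F31618)) (tt N12511 F25093))
theorem Q14558 : ∀ i, i < 14558 → P i := stepQ 14557 Q14557 (allL N14557 (tt N17598 D17630) (tt N11546 (iv D14584)) (tt N14702 (iv F25430)) (tt N16695 (iv F29773)) (tt N14266 F25094) (tt N17599 D17631))
theorem Q14559 : ∀ i, i < 14559 → P i := stepQ 14558 Q14558 (allL N14558 (tt N11551 F25095) (tt N17599 (iv F31628)) (tt N11547 F25096) (tt N11562 F25097) (tt N17600 D17632) (tt N11546 (iv D14585)))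
theorem Q14560 : ∀ i, i < 14560 → P i := stepQ 14559 Q14559 (allL N14559 (tt N11553 F25098) (tt N14705 (iv F25439)) (tt N17600 (iv F31631)) (tt N14163 F25099) (tt N11547 (iv D14586)) (tt N14269 F25100))
theorem Q14561 : ∀ i, i < 14561 → P i := stepQ 14560 Q14560 (allL N14560 (tt N11548 (iv D14587)) (tt N17598 (iv F31626)) (tt N11554 F25101) (tt N17601 D17633) (tt N17602 D17634) (tt N17559 (iv F31531)))
theorem Q14562 : ∀ i, i < 14562 → P i := stepQ 14561 Q14561 (allL N14561 (tt N17601 (iv F31633)) (tt N11549 F25102) (tt N17603 D17635) (tt N11548 (iv D14588)) (tt N17604 D17636) (tt N17562 (iv F31539)))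
theorem Q14563 : ∀ i, i < 14563 → P i := stepQ 14562 Q14562 (allL N14562 (tt N17602 (iv F31634)) (tt N11550 F25103) (tt N11555 F25104) (tt N17605 D17637) (tt N11548 (iv D14589)) (tt N17606 D17638))
theorem Q14564 : ∀ i, i < 14564 → P i := stepQ 14563 Q14563 (allL N14563 (tt N16696 (iv F29775)) (tt N17604 (iv F31637)) (tt N16694 (iv F29770)) (tt N17607 D17639) (tt N11549 (iv D14590)) (tt N17608 D17640))
theorem Q14565 : ∀ i, i < 14565 → P i := stepQ 14564 Q14564 (allL N14564 (tt N11562 F25105) (tt N17562 (iv F31538)) (tt N11561 F25106) (tt N11551 F25107) (tt N17609 D17641) (tt N11549 (iv D14591)))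
theorem Q14566 : ∀ i, i < 14566 → P i := stepQ 14565 Q14565 (allL N14565 (tt N14267 F25108) (tt N17605 (iv F31638)) (tt N14275 F25109) (tt N11550 (iv D14592)) (tt N17607 (iv F31644)) (tt N14273 (iv F25110)))
theorem Q14567 : ∀ i, i < 14567 → P i := stepQ 14566 Q14566 (allL N14566 (tt N14268 F25111) (tt N17606 (iv F31640)) (tt N11552 F25112) (tt N14273 F25113) (tt N17610 D17642) (tt N11550 (iv D14593)))
theorem Q14568 : ∀ i, i < 14568 → P i := stepQ 14567 Q14567 (allL N14567 (tt N17600 (iv F31630)) (tt N17563 (iv F31540)) (tt N11553 F25114) (tt N17611 D17643) (tt N11551 (iv D14594)) (tt N17610 (iv F31650)))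
theorem Q14569 : ∀ i, i < 14569 → P i := stepQ 14568 Q14568 (allL N14568 (tt N14269 F25115) (tt N11558 F25116) (tt N17610 (iv F31649)) (tt N14170 F25117) (tt N11552 (iv D14595)) (tt N11553 F25118))
theorem Q14570 : ∀ i, i < 14570 → P i := stepQ 14569 Q14569 (allL N14569 (tt N11555 F25119) (tt N17583 (iv F31583)) (tt N17602 (iv F31636)) (tt N17612 D17644) (tt N11554 (iv D14596)) (tt N17613 D17645))
theorem Q14571 : ∀ i, i < 14571 → P i := stepQ 14570 Q14570 (allL N14570 (tt N17612 (iv F31651)) (tt N11556 F25120) (tt N17614 D17646) (tt N11555 (iv D14597)) (tt N17565 (iv F31545)) (tt N17615 D17647))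
theorem Q14572 : ∀ i, i < 14572 → P i := stepQ 14571 Q14571 (allL N14571 (tt N17613 (iv F31652)) (tt N11557 F25121) (tt N17606 (iv F31641)) (tt N17615 (iv F31654)) (tt N17564 (iv F31543)) (tt N11555 (iv D14598)))
theorem Q14573 : ∀ i, i < 14573 → P i := stepQ 14572 Q14572 (allL N14572 (tt N17588 (iv F31597)) (tt N17616 D17648) (tt N11556 (iv D14599)) (tt N14924 (iv F25871)) (tt N17566 (iv F31547)) (tt N14923 F25869))
theorem Q14574 : ∀ i, i < 14574 → P i := stepQ 14573 Q14573 (allL N14573 (tt N17587 (iv F31594)) (tt N17615 (iv F31653)) (tt N14923 (iv F25868)) (tt N11557 F25122) (tt N17617 D17649) (tt N11556 (iv D14600)))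
theorem Q14575 : ∀ i, i < 14575 → P i := stepQ 14574 Q14574 (allL N14574 (tt N15114 (iv F26331)) (tt N14170 F25123) (tt N15697 (iv F27615)) (tt N11558 (iv D14601)) (tt N13643 F25124) (tt N11559 F25125))
theorem Q14576 : ∀ i, i < 14576 → P i := stepQ 14575 Q14575 (allL N14575 (tt N16664 (iv F29703)) (tt N11561 F25126) (tt N17618 D17650) (tt N11560 (iv D14602)) (tt N17619 D17651) (tt N16665 (iv F29708)))
theorem Q14577 : ∀ i, i < 14577 → P i := stepQ 14576 Q14576 (allL N14576 (tt N11563 F25127) (tt N17619 (iv F31656)) (tt N17609 (iv F31647)) (tt N14166 F25128) (tt N11561 (iv D14603)) (tt N17620 D17652))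
theorem Q14578 : ∀ i, i < 14578 → P i := stepQ 14577 Q14577 (allL N14577 (tt N17621 D17653) (tt N11562 (iv D14604)) (tt N16663 F29702) (tt N17599 (iv F31629)) (tt N17622 D17654) (tt N16695 (iv F29774)))
theorem Q14579 : ∀ i, i < 14579 → P i := stepQ 14578 Q14578 (allL N14578 (tt N17609 (iv F31646)) (tt N17622 (iv F31660)) (tt N11563 F25129) (tt N17623 D17655) (tt N11562 (iv D14605)) (tt N17624 D17656))
theorem Q14580 : ∀ i, i < 14580 → P i := stepQ 14579 Q14579 (allL N14579 (tt N17620 (iv F31658)) (tt N16638 (iv F29636)) (tt N17624 (iv F31661)) (tt N14181 F25130) (tt N16686 (iv F29759)) (tt N11563 (iv D14606)))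
theorem Q14581 : ∀ i, i < 14581 → P i := stepQ 14580 Q14580 (allL N14580 (tt N11564 (iv D14607)) (tt N13180 F25131) (tt N14370 F25132) (tt N17625 D17657) (tt N14370 F25133) (tt N17626 D17658))
theorem Q14582 : ∀ i, i < 14582 → P i := stepQ 14581 Q14581 (allL N14581 (tt N17625 (iv F31662)) (tt N11565 F25134) (tt N17627 D17659) (tt N11564 (iv D14608)) (tt N17628 D17660) (tt N13195 (iv F25135)))
theorem Q14583 : ∀ i, i < 14583 → P i := stepQ 14582 Q14582 (allL N14582 (tt N17626 (iv F31665)) (tt N11566 F25136) (tt N14372 F25137) (tt N13195 F25138) (tt N17629 D17661) (tt N11564 (iv D14609)))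
theorem Q14584 : ∀ i, i < 14584 → P i := stepQ 14583 Q14583 (allL N14583 (tt N13183 F25139) (tt N17628 (iv F31671)) (tt N13198 F25140) (tt N14373 F25141) (tt N11565 (iv D14610)) (tt N17630 D17662))
theorem Q14585 : ∀ i, i < 14585 → P i := stepQ 14584 Q14584 (allL N14584 (tt N13184 F25142) (tt N17629 (iv F31673)) (tt N11567 F25143) (tt N17631 D17663) (tt N11566 (iv D14611)) (tt N14374 F25144))
theorem Q14586 : ∀ i, i < 14586 → P i := stepQ 14585 Q14585 (allL N14585 (tt N17632 D17664) (tt N11568 (iv D14612)) (tt N12754 F25145) (tt N13182 F25146) (tt N17633 D17665) (tt N13181 F25147))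
theorem Q14587 : ∀ i, i < 14587 → P i := stepQ 14586 Q14586 (allL N14586 (tt N13196 F25148) (tt N17633 (iv F31687)) (tt N11569 F25149) (tt N17634 D17666) (tt N11568 (iv D14613)) (tt N17635 D17667))
theorem Q14588 : ∀ i, i < 14588 → P i := stepQ 14587 Q14587 (allL N14587 (tt N13197 F25150) (tt N12753 F25151) (tt N17635 (iv F31692)) (tt N11571 F25152) (tt N17636 D17668) (tt N11569 (iv D14614)))
theorem Q14589 : ∀ i, i < 14589 → P i := stepQ 14588 Q14588 (allL N14588 (tt N13198 F25153) (tt N12757 F25154) (tt N13183 F25155) (tt N12680 F25156) (tt N11570 (iv D14615)) (tt N17636 (iv F31698)))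
theorem Q14590 : ∀ i, i < 14590 → P i := stepQ 14589 Q14589 (allL N14589 (tt N11572 (iv D14616)) (tt N11576 F25157) (tt N14365 F25158) (tt N17637 D17669) (tt N14359 F25159) (tt N17638 D17670))
theorem Q14591 : ∀ i, i < 14591 → P i := stepQ 14590 Q14590 (allL N14590 (tt N17637 (iv F31699)) (tt N11573 F25160) (tt N17639 D17671) (tt N11572 (iv D14617)) (tt N17640 D17672) (tt N13050 (iv F25161)))
theorem Q14592 : ∀ i, i < 14592 → P i := stepQ 14591 Q14591 (allL N14591 (tt N17638 (iv F31702)) (tt N11574 F25162) (tt N14367 F25163) (tt N13050 F25164) (tt N17641 D17673) (tt N11572 (iv D14618)))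
theorem Q14593 : ∀ i, i < 14593 → P i := stepQ 14592 Q14592 (allL N14592 (tt N11580 F25165) (tt N17640 (iv F31708)) (tt N13051 F25166) (tt N14362 F25167) (tt N11573 (iv D14619)) (tt N17642 D17674))
theorem Q14594 : ∀ i, i < 14594 → P i := stepQ 14593 Q14593 (allL N14593 (tt N11582 F25168) (tt N17641 (iv F31710)) (tt N11575 F25169) (tt N17643 D17675) (tt N11574 (iv D14620)) (tt N14364 F25170))
theorem Q14595 : ∀ i, i < 14595 → P i := stepQ 14594 Q14594 (allL N14594 (tt N11577 F25171) (tt N17637 (iv F31700)) (tt N17644 D17676) (tt N11576 (iv D14621)) (tt N17645 D17677) (tt N17646 D17678))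
theorem Q14596 : ∀ i, i < 14596 → P i := stepQ 14595 Q14595 (allL N14595 (tt N11578 F25172) (tt N17638 (iv F31703)) (tt N11584 F25173) (tt N17646 (iv F31727)) (tt N16034 F28351) (tt N11576 (iv D14622)))
theorem Q14597 : ∀ i, i < 14597 → P i := stepQ 14596 Q14596 (allL N14596 (tt N17644 (iv F31720)) (tt N17647 D17679) (tt N11577 (iv D14623)) (tt N17648 D17680) (tt N17649 D17681) (tt N17650 D17682))
theorem Q14598 : ∀ i, i < 14598 → P i := stepQ 14597 Q14597 (allL N14597 (tt N17645 (iv F31723)) (tt N11580 F25174) (tt N17649 (iv F31734)) (tt N17376 (iv F31152)) (tt N11577 (iv D14624)) (tt N17651 D17683))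
theorem Q14599 : ∀ i, i < 14599 → P i := stepQ 14598 Q14598 (allL N14598 (tt N17646 (iv F31724)) (tt N11581 F25175) (tt N17650 (iv F31737)) (tt N11578 F25176) (tt N15973 (iv F28182)) (tt N11577 (iv D14625)))
theorem Q14600 : ∀ i, i < 14600 → P i := stepQ 14599 Q14599 (allL N14599 (tt N16034 (iv F28348)) (tt N11582 F25177) (tt N11587 F25178) (tt N15970 (iv F28172)) (tt N11578 (iv D14626)) (tt N11753 F25179))
theorem Q14601 : ∀ i, i < 14601 → P i := stepQ 14600 Q14600 (allL N14600 (tt N17652 D17684) (tt N11579 (iv D14627)) (tt N17647 (iv F31729)) (tt N13036 F25180) (tt N17653 D17685) (tt N13035 F25181))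
theorem Q14602 : ∀ i, i < 14602 → P i := stepQ 14601 Q14601 (allL N14601 (tt N13051 F25182) (tt N17653 (iv F31744)) (tt N11580 F25183) (tt N17654 D17686) (tt N11579 (iv D14628)) (tt N17655 D17687))
theorem Q14603 : ∀ i, i < 14603 → P i := stepQ 14602 Q14602 (allL N14602 (tt N17642 (iv F31713)) (tt N17651 (iv F31740)) (tt N17655 (iv F31748)) (tt N17377 (iv F31153)) (tt N17656 D17688) (tt N11580 (iv D14629)))
theorem Q14604 : ∀ i, i < 14604 → P i := stepQ 14603 Q14603 (allL N14603 (tt N13048 F25184) (tt N15973 (iv F28181)) (tt N13037 F25185) (tt N15972 F28179) (tt N11581 (iv D14630)) (tt N17656 (iv F31752)))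
theorem Q14605 : ∀ i, i < 14605 → P i := stepQ 14604 Q14604 (allL N14604 (tt N17643 (iv F31717)) (tt N15970 F28173) (tt N17657 D17689) (tt N11582 (iv D14631)) (tt N15972 (iv F28178)) (tt N17378 (iv F31155)))
theorem Q14606 : ∀ i, i < 14606 → P i := stepQ 14605 Q14605 (allL N14605 (tt N11585 F25186) (tt N12314 (iv F25188)) (tt N11583 (iv D14632)) (tt N12317 F25189) (tt N12311 F25190) (tt N12737 F25187))
theorem Q14607 : ∀ i, i < 14607 → P i := stepQ 14606 Q14606 (allL N14606 (tt N11586 F25191) (tt N12722 F25192) (tt N12311 F25193) (tt N11768 F25194) (tt N11583 (iv D14633)) (tt N11767 F25195))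
theorem Q14608 : ∀ i, i < 14608 → P i := stepQ 14607 Q14607 (allL N14607 (tt N11587 F25196) (tt N12723 F25197) (tt N16034 (iv F28349)) (tt N11751 F25198) (tt N11584 (iv D14634)) (tt N11750 F25199))
theorem Q14609 : ∀ i, i < 14609 → P i := stepQ 14608 Q14608 (allL N14608 (tt N12317 F25200) (tt N12745 F25201) (tt N11880 F25204) (tt N11585 (iv D14635)) (tt N11879 (iv F25203)) (tt N12740 F25202))
theorem Q14610 : ∀ i, i < 14610 → P i := stepQ 14609 Q14609 (allL N14609 (tt N12311 F25205) (tt N12746 F25206) (tt N11586 F25207) (tt N12310 F25208) (tt N11585 (iv D14636)) (tt N11991 F25209))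
theorem Q14611 : ∀ i, i < 14611 → P i := stepQ 14610 Q14610 (allL N14610 (tt N17658 D17690) (tt N11588 (iv D14637)) (tt N12730 F25210) (tt N17659 D17691) (tt N12709 F25211) (tt N16590 (iv F29519)))
theorem Q14612 : ∀ i, i < 14612 → P i := stepQ 14611 Q14611 (allL N14611 (tt N11591 F25212) (tt N17659 (iv F31757)) (tt N13170 F25213) (tt N11588 (iv D14638)) (tt N17660 D17692) (tt N13347 (iv F25214)))
theorem Q14613 : ∀ i, i < 14613 → P i := stepQ 14612 Q14612 (allL N14612 (tt N11592 F25215) (tt N16590 (iv F29517)) (tt N11589 F25216) (tt N13347 F25217) (tt N16589 F29515) (tt N11588 (iv D14639)))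
theorem Q14614 : ∀ i, i < 14614 → P i := stepQ 14613 Q14613 (allL N14613 (tt N11593 F25218) (tt N12735 F25219) (tt N16589 (iv F29512)) (tt N12702 F25220) (tt N11589 (iv D14640)) (tt N12712 F25221))
theorem Q14615 : ∀ i, i < 14615 → P i := stepQ 14614 Q14614 (allL N14614 (tt N11590 (iv D14641)) (tt N17658 (iv F31753)) (tt N11594 F25222) (tt N17661 D17693) (tt N12713 F25223) (tt N17379 (iv F31159)))
theorem Q14616 : ∀ i, i < 14616 → P i := stepQ 14615 Q14615 (allL N14615 (tt N17661 (iv F31763)) (tt N11591 F25224) (tt N17662 D17694) (tt N11590 (iv D14642)) (tt N17663 D17695) (tt N17380 (iv F31161)))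
theorem Q14617 : ∀ i, i < 14617 → P i := stepQ 14616 Q14616 (allL N14616 (tt N13170 F25225) (tt N17664 D17696) (tt N11591 (iv D14643)) (tt N13169 F25226) (tt N17665 D17697) (tt N13346 (iv F25227)))
theorem Q14618 : ∀ i, i < 14618 → P i := stepQ 14617 Q14617 (allL N14617 (tt N17660 (iv F31760)) (tt N17663 (iv F31767)) (tt N17665 (iv F31773)) (tt N12716 F25228) (tt N11591 (iv D14644)) (tt N17666 D17698))
theorem Q14619 : ∀ i, i < 14619 → P i := stepQ 14618 Q14618 (allL N14618 (tt N13347 F25229) (tt N17380 (iv F31160)) (tt N13346 F25230) (tt N11592 F25231) (tt N17667 D17699) (tt N11591 (iv D14645)))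
theorem Q14620 : ∀ i, i < 14620 → P i := stepQ 14619 Q14619 (allL N14619 (tt N16589 (iv F29511)) (tt N12727 F25232) (tt N11593 F25233) (tt N17668 D17700) (tt N11592 (iv D14646)) (tt N12718 F25234))
theorem Q14621 : ∀ i, i < 14621 → P i := stepQ 14620 Q14620 (allL N14620 (tt N12837 F25235) (tt N11597 F25236) (tt N17669 D17701) (tt N11595 (iv D14647)) (tt N12882 F25237) (tt N17031 (iv F30471)))
theorem Q14622 : ∀ i, i < 14622 → P i := stepQ 14621 Q14621 (allL N14621 (tt N12836 F25238) (tt N11598 F25239) (tt N11614 F25240) (tt N17031 (iv F30470)) (tt N12833 F25241) (tt N11595 (iv D14648)))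
theorem Q14623 : ∀ i, i < 14623 → P i := stepQ 14622 Q14622 (allL N14622 (tt N11600 F25242) (tt N12882 F25243) (tt N17034 (iv F30476)) (tt N11596 (iv D14649)) (tt N11597 F25244) (tt N17670 D17702))
theorem Q14624 : ∀ i, i < 14624 → P i := stepQ 14623 Q14623 (allL N14623 (tt N11601 F25245) (tt N12883 F25246) (tt N11730 F25247) (tt N17670 (iv F31785)) (tt N11727 F25248) (tt N11596 (iv D14650)))
theorem Q14625 : ∀ i, i < 14625 → P i := stepQ 14624 Q14624 (allL N14624 (tt N11731 F25249) (tt N12876 F25250) (tt N17671 D17703) (tt N11599 (iv D14651)) (tt N11717 F25251) (tt N17672 D17704))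
theorem Q14626 : ∀ i, i < 14626 → P i := stepQ 14625 Q14625 (allL N14625 (tt N11730 F25252) (tt N12877 F25253) (tt N11601 F25254) (tt N17672 (iv F31791)) (tt N11715 F25255) (tt N11599 (iv D14652)))
theorem Q14627 : ∀ i, i < 14627 → P i := stepQ 14626 Q14626 (allL N14626 (tt N17034 (iv F30475)) (tt N15553 (iv F27327)) (tt N11600 (iv D14653)) (tt N17064 (iv F30515)) (tt N11602 F25256) (tt N17076 (iv F30537)))
theorem Q14628 : ∀ i, i < 14628 → P i := stepQ 14627 Q14627 (allL N14627 (tt N17670 (iv F31783)) (tt N12856 F25257) (tt N17076 (iv F30538)) (tt N11601 F25258) (tt N17673 D17705) (tt N11600 (iv D14654)))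
theorem Q14629 : ∀ i, i < 14629 → P i := stepQ 14628 Q14628 (allL N14628 (tt N17032 (iv F30472)) (tt N12863 F25259) (tt N15197 (iv F26535)) (tt N12853 F25260) (tt N11603 (iv D14655)) (tt N17673 (iv F31794)))
theorem Q14630 : ∀ i, i < 14630 → P i := stepQ 14629 Q14629 (allL N14629 (tt N11604 (iv D14656)) (tt N11868 F25261) (tt N11606 F25262) (tt N16354 (iv F29050)) (tt N12867 F25263) (tt N11607 F25264))
theorem Q14631 : ∀ i, i < 14631 → P i := stepQ 14630 Q14630 (allL N14630 (tt N16354 (iv F29048)) (tt N11605 F25265) (tt N16365 (iv F29071)) (tt N11604 (iv D14657)) (tt N15686 (iv F27599)) (tt N11608 F25266))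
theorem Q14632 : ∀ i, i < 14632 → P i := stepQ 14631 Q14631 (allL N14631 (tt N11747 F25267) (tt N15686 (iv F27597)) (tt N11742 F25268) (tt N12871 F25269) (tt N11605 (iv D14658)) (tt N15684 (iv F27595)))
theorem Q14633 : ∀ i, i < 14633 → P i := stepQ 14632 Q14632 (allL N14632 (tt N11608 F25270) (tt N11879 F25271) (tt N16366 (iv F29076)) (tt N11607 (iv D14659)) (tt N12745 F25272) (tt N16354 (iv F29052)))
theorem Q14634 : ∀ i, i < 14634 → P i := stepQ 14633 Q14633 (allL N14633 (tt N16366 (iv F29074)) (tt N12368 F25273) (tt N11608 (iv D14660)) (tt N16379 (iv F29108)) (tt N12755 F25279) (tt N16365 F29073))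
theorem Q14635 : ∀ i, i < 14635 → P i := stepQ 14634 Q14634 (allL N14634 (tt N12745 F25274) (tt N11610 F25275) (tt N12755 (iv F25278)) (tt N12733 F25276) (tt N11608 (iv D14661)) (tt N12732 (iv F25277)))
theorem Q14636 : ∀ i, i < 14636 → P i := stepQ 14635 Q14635 (allL N14635 (tt N11737 F25280) (tt N12369 F25281) (tt N11610 F25282) (tt N17674 D17706) (tt N11609 (iv D14662)) (tt N17675 D17707))
theorem Q14637 : ∀ i, i < 14637 → P i := stepQ 14636 Q14636 (allL N14636 (tt N12318 F25283) (tt N12732 F25284) (tt N17675 (iv F31800)) (tt N12730 F25285) (tt N15684 (iv F27594)) (tt N11610 (iv D14663)))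
theorem Q14638 : ∀ i, i < 14638 → P i := stepQ 14637 Q14637 (allL N14637 (tt N11613 F25286) (tt N11622 F25287) (tt N17676 D17708) (tt N11611 (iv D14664)) (tt N16436 (iv F29216)) (tt N17677 D17709))
theorem Q14639 : ∀ i, i < 14639 → P i := stepQ 14638 Q14638 (allL N14638 (tt N11614 F25288) (tt N11623 F25289) (tt N12836 F25290) (tt N17677 (iv F31805)) (tt N12817 F25291) (tt N11611 (iv D14665)))
theorem Q14640 : ∀ i, i < 14640 → P i := stepQ 14639 Q14639 (allL N14639 (tt N16436 (iv F29214)) (tt N11616 F25292) (tt N17678 D17710) (tt N11612 (iv D14666)) (tt N11613 F25293) (tt N17679 D17711))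
theorem Q14641 : ∀ i, i < 14641 → P i := stepQ 14640 Q14640 (allL N14640 (tt N16437 (iv F29217)) (tt N11617 F25294) (tt N11905 F25295) (tt N17679 (iv F31808)) (tt N11683 F25296) (tt N11612 (iv D14667)))
theorem Q14642 : ∀ i, i < 14642 → P i := stepQ 14641 Q14641 (allL N14641 (tt N17676 (iv F31802)) (tt N17680 D17712) (tt N11613 (iv D14668)) (tt N17681 D17713) (tt N17678 (iv F31806)) (tt N17682 D17714))
theorem Q14643 : ∀ i, i < 14643 → P i := stepQ 14642 Q14642 (allL N14642 (tt N17677 (iv F31803)) (tt N11619 F25297) (tt N17682 (iv F31812)) (tt N11614 F25298) (tt N17683 D17715) (tt N11613 (iv D14669)))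
theorem Q14644 : ∀ i, i < 14644 → P i := stepQ 14643 Q14643 (allL N14643 (tt N12817 F25299) (tt N11620 F25300) (tt N12833 F25301) (tt N17684 D17716) (tt N11614 (iv D14670)) (tt N11615 F25302))
theorem Q14645 : ∀ i, i < 14645 → P i := stepQ 14644 Q14644 (allL N14644 (tt N12816 F25303) (tt N11621 F25304) (tt N17685 D17717) (tt N11615 (iv D14671)) (tt N11682 F25305) (tt N17684 (iv F31816)))
theorem Q14646 : ∀ i, i < 14646 → P i := stepQ 14645 Q14645 (allL N14645 (tt N11630 F25306) (tt N17686 D17718) (tt N11616 (iv D14672)) (tt N11810 F25308) (tt N11618 F25307) (tt N11809 (iv F25309)))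
theorem Q14647 : ∀ i, i < 14647 → P i := stepQ 14646 Q14646 (allL N14646 (tt N11631 F25310) (tt N17679 (iv F31807)) (tt N11809 F25311) (tt N11617 F25312) (tt N17687 D17719) (tt N11616 (iv D14673)))
theorem Q14648 : ∀ i, i < 14648 → P i := stepQ 14647 Q14647 (allL N14647 (tt N17688 D17720) (tt N11618 (iv D14674)) (tt N17680 (iv F31809)) (tt N11651 F25313) (tt N17686 (iv F31820)) (tt N11650 F25314))
theorem Q14649 : ∀ i, i < 14649 → P i := stepQ 14648 Q14648 (allL N14648 (tt N11635 F25315) (tt N17683 (iv F31813)) (tt N11652 F25316) (tt N17689 D17721) (tt N11619 (iv D14675)) (tt N17687 (iv F31825)))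
theorem Q14650 : ∀ i, i < 14650 → P i := stepQ 14649 Q14649 (allL N14649 (tt N11636 F25317) (tt N17684 (iv F31815)) (tt N12373 F25319) (tt N11620 (iv D14676)) (tt N17689 (iv F31831)) (tt N11621 F25318))
theorem Q14651 : ∀ i, i < 14651 → P i := stepQ 14650 Q14650 (allL N14650 (tt N11637 F25320) (tt N17690 D17722) (tt N11621 (iv D14677)) (tt N12363 F25323) (tt N11684 F25321) (tt N12373 F25322))
theorem Q14652 : ∀ i, i < 14652 → P i := stepQ 14651 Q14651 (allL N14651 (tt N11626 F25324) (tt N17691 D17723) (tt N11622 (iv D14678)) (tt N17692 D17724) (tt N16438 (iv F29222)) (tt N17693 D17725))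
theorem Q14653 : ∀ i, i < 14653 → P i := stepQ 14652 Q14652 (allL N14652 (tt N11627 F25325) (tt N17677 (iv F31804)) (tt N17693 (iv F31840)) (tt N11623 F25326) (tt N17694 D17726) (tt N11622 (iv D14679)))
theorem Q14654 : ∀ i, i < 14654 → P i := stepQ 14653 Q14653 (allL N14653 (tt N16438 (iv F29221)) (tt N17695 D17727) (tt N11624 (iv D14680)) (tt N17696 D17728) (tt N11626 F25327) (tt N17697 D17729))
theorem Q14655 : ∀ i, i < 14655 → P i := stepQ 14654 Q14654 (allL N14654 (tt N16439 (iv F29223)) (tt N11631 F25328) (tt N17697 (iv F31846)) (tt N11625 F25329) (tt N17698 D17730) (tt N11624 (iv D14681)))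
theorem Q14656 : ∀ i, i < 14656 → P i := stepQ 14655 Q14655 (allL N14655 (tt N17699 D17731) (tt N11626 (iv D14682)) (tt N11634 F25330) (tt N17700 D17732) (tt N17695 (iv F31845)) (tt N12266 (iv F25331)))
theorem Q14657 : ∀ i, i < 14657 → P i := stepQ 14656 Q14656 (allL N14656 (tt N17692 (iv F31836)) (tt N17700 (iv F31852)) (tt N17701 D17733) (tt N11626 (iv D14683)) (tt N17702 D17734) (tt N17703 D17735))
theorem Q14658 : ∀ i, i < 14658 → P i := stepQ 14657 Q14657 (allL N14657 (tt N17693 (iv F31839)) (tt N12266 F25332) (tt N11627 F25333) (tt N17703 (iv F31860)) (tt N17704 D17736) (tt N11626 (iv D14684)))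
theorem Q14659 : ∀ i, i < 14659 → P i := stepQ 14658 Q14658 (allL N14658 (tt N17694 (iv F31842)) (tt N11635 F25334) (tt N17704 (iv F31862)) (tt N12830 F25335) (tt N11627 (iv D14685)) (tt N17698 (iv F31849)))
theorem Q14660 : ∀ i, i < 14660 → P i := stepQ 14659 Q14659 (allL N14659 (tt N11900 F25336) (tt N11629 F25337) (tt N16434 (iv F29209)) (tt N11807 F25338) (tt N11679 F25339) (tt N11628 (iv D14686)))
theorem Q14661 : ∀ i, i < 14661 → P i := stepQ 14660 Q14660 (allL N14660 (tt N17705 D17737) (tt N11630 (iv D14687)) (tt N17695 (iv F31844)) (tt N17706 D17738) (tt N11634 F25340) (tt N17707 D17739))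
theorem Q14662 : ∀ i, i < 14662 → P i := stepQ 14661 Q14661 (allL N14661 (tt N11810 F25341) (tt N17706 (iv F31864)) (tt N11789 F25342) (tt N11630 (iv D14688)) (tt N11854 F25343) (tt N11788 F25344))
theorem Q14663 : ∀ i, i < 14663 → P i := stepQ 14662 Q14662 (allL N14662 (tt N11809 F25345) (tt N17707 (iv F31867)) (tt N11631 F25346) (tt N11788 F25347) (tt N11855 F25348) (tt N11630 (iv D14689)))
theorem Q14664 : ∀ i, i < 14664 → P i := stepQ 14663 Q14663 (allL N14663 (tt N17687 (iv F31822)) (tt N17698 (iv F31847)) (tt N11855 F25349) (tt N16967 (iv F30351)) (tt N11631 (iv D14690)) (tt N11635 F25350))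
theorem Q14665 : ∀ i, i < 14665 → P i := stepQ 14664 Q14664 (allL N14664 (tt N11685 F25351) (tt N12826 F25352) (tt N12386 F25353) (tt N11632 (iv D14691)) (tt N16967 (iv F30349)) (tt N11633 F25354))
theorem Q14666 : ∀ i, i < 14666 → P i := stepQ 14665 Q14665 (allL N14665 (tt N11684 F25355) (tt N17708 D17740) (tt N11633 (iv D14692)) (tt N12387 F25356) (tt N11637 F25357) (tt N12386 F25358))
theorem Q14667 : ∀ i, i < 14667 → P i := stepQ 14666 Q14666 (allL N14666 (tt N11634 (iv D14693)) (tt N17688 (iv F31826)) (tt N17699 (iv F31850)) (tt N12265 F25359) (tt N17705 (iv F31863)) (tt N12264 F25360))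
theorem Q14668 : ∀ i, i < 14668 → P i := stepQ 14667 Q14667 (allL N14667 (tt N17689 (iv F31829)) (tt N12830 F25361) (tt N16957 (iv F30324)) (tt N11635 (iv D14694)) (tt N11636 F25362) (tt N16967 (iv F30350)))
theorem Q14669 : ∀ i, i < 14669 → P i := stepQ 14668 Q14668 (allL N14668 (tt N12373 F25363) (tt N17709 D17741) (tt N11636 (iv D14695)) (tt N11866 F25364) (tt N16957 (iv F30322)) (tt N11637 F25365))
theorem Q14670 : ∀ i, i < 14670 → P i := stepQ 14669 Q14669 (allL N14669 (tt N17710 D17742) (tt N11637 (iv D14696)) (tt N12827 F25366) (tt N17711 D17743) (tt N17708 (iv F31872)) (tt N17709 (iv F31876)))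
theorem Q14671 : ∀ i, i < 14671 → P i := stepQ 14670 Q14670 (allL N14670 (tt N12363 F25367) (tt N17711 (iv F31878)) (tt N11867 F25368) (tt N11637 (iv D14697)) (tt N16956 (iv F30320)) (tt N11866 F25369))
theorem Q14672 : ∀ i, i < 14672 → P i := stepQ 14671 Q14671 (allL N14671 (tt N16717 (iv F29819)) (tt N11638 (iv D14698)) (tt N12843 F25370) (tt N17079 (iv F30545)) (tt N12822 F25371) (tt N16609 (iv F29569)))
theorem Q14673 : ∀ i, i < 14673 → P i := stepQ 14672 Q14672 (allL N14672 (tt N11641 F25372) (tt N17079 F30546) (tt N17703 (iv F31859)) (tt N11638 (iv D14699)) (tt N16360 (iv F29060)) (tt N17701 F31856))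
theorem Q14674 : ∀ i, i < 14674 → P i := stepQ 14673 Q14673 (allL N14673 (tt N11642 F25373) (tt N16609 (iv F29567)) (tt N11639 F25374) (tt N17701 (iv F31855)) (tt N16378 (iv F29105)) (tt N11638 (iv D14700)))
theorem Q14675 : ∀ i, i < 14675 → P i := stepQ 14674 Q14674 (allL N14674 (tt N11640 (iv D14701)) (tt N16717 (iv F29820)) (tt N11643 F25375) (tt N17052 (iv F30501)) (tt N11665 F25376) (tt N16592 (iv F29527)))
theorem Q14676 : ∀ i, i < 14676 → P i := stepQ 14675 Q14675 (allL N14675 (tt N17052 (iv F30499)) (tt N11641 F25377) (tt N17043 (iv F30483)) (tt N11640 (iv D14702)) (tt N17712 D17744) (tt N16593 (iv F29529)))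
theorem Q14677 : ∀ i, i < 14677 → P i := stepQ 14676 Q14676 (allL N14676 (tt N17703 (iv F31857)) (tt N17713 D17745) (tt N11641 (iv D14703)) (tt N17693 (iv F31841)) (tt N17714 D17746) (tt N17692 F31838))
theorem Q14678 : ∀ i, i < 14678 → P i := stepQ 14677 Q14677 (allL N14677 (tt N16360 (iv F29059)) (tt N17712 (iv F31880)) (tt N17714 (iv F31882)) (tt N12831 F25378) (tt N11641 (iv D14704)) (tt N17715 D17747))
theorem Q14679 : ∀ i, i < 14679 → P i := stepQ 14678 Q14678 (allL N14678 (tt N17701 (iv F31854)) (tt N16593 (iv F29528)) (tt N17692 (iv F31837)) (tt N11642 F25379) (tt N17716 D17748) (tt N11641 (iv D14705)))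
theorem Q14680 : ∀ i, i < 14680 → P i := stepQ 14679 Q14679 (allL N14679 (tt N11645 (iv D14706)) (tt N15229 (iv F26621)) (tt N11649 F25380) (tt N16997 (iv F30412)) (tt N12230 F25381) (tt N17717 D17749))
theorem Q14681 : ∀ i, i < 14681 → P i := stepQ 14680 Q14680 (allL N14680 (tt N16997 (iv F30410)) (tt N11646 F25382) (tt N16995 (iv F30406)) (tt N11645 (iv D14707)) (tt N16994 F30404) (tt N17015 (iv F30441)))
theorem Q14682 : ∀ i, i < 14682 → P i := stepQ 14681 Q14681 (allL N14681 (tt N17717 (iv F31884)) (tt N11647 F25383) (tt N11651 F25384) (tt N17015 (iv F30440)) (tt N17718 D17750) (tt N11645 (iv D14708)))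
theorem Q14683 : ∀ i, i < 14683 → P i := stepQ 14682 Q14682 (allL N14682 (tt N15232 (iv F26630)) (tt N16994 (iv F30402)) (tt N16727 (iv F29851)) (tt N12233 F25385) (tt N11646 (iv D14709)) (tt N17719 D17751))
theorem Q14684 : ∀ i, i < 14684 → P i := stepQ 14683 Q14683 (allL N14683 (tt N15233 (iv F26633)) (tt N17718 (iv F31886)) (tt N11648 F25386) (tt N17720 D17752) (tt N11647 (iv D14710)) (tt N12235 F25387))
theorem Q14685 : ∀ i, i < 14685 → P i := stepQ 14684 Q14684 (allL N14684 (tt N11650 F25388) (tt N12264 F25389) (tt N17721 D17753) (tt N11649 (iv D14711)) (tt N17722 D17754) (tt N17688 (iv F31828)))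
theorem Q14686 : ∀ i, i < 14686 → P i := stepQ 14685 Q14685 (allL N14685 (tt N11651 F25390) (tt N12265 F25391) (tt N17717 (iv F31885)) (tt N17688 (iv F31827)) (tt N17723 D17755) (tt N11649 (iv D14712)))
theorem Q14687 : ∀ i, i < 14687 → P i := stepQ 14686 Q14686 (allL N14686 (tt N17721 (iv F31893)) (tt N17682 (iv F31811)) (tt N11650 (iv D14713)) (tt N17724 D17756) (tt N17725 D17757) (tt N17680 F31810))
theorem Q14688 : ∀ i, i < 14688 → P i := stepQ 14687 Q14687 (allL N14687 (tt N17722 (iv F31894)) (tt N11652 F25392) (tt N17725 (iv F31900)) (tt N12079 F25393) (tt N11650 (iv D14714)) (tt N17726 D17758))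
theorem Q14689 : ∀ i, i < 14689 → P i := stepQ 14688 Q14688 (allL N14688 (tt N17723 (iv F31897)) (tt N11653 F25394) (tt N17718 (iv F31887)) (tt N17727 D17759) (tt N11651 (iv D14715)) (tt N12078 F25395))
theorem Q14690 : ∀ i, i < 14690 → P i := stepQ 14689 Q14689 (allL N14689 (tt N11855 F25396) (tt N17726 (iv F31901)) (tt N17687 (iv F31823)) (tt N11817 F25397) (tt N11809 F25398) (tt N11652 (iv D14716)))
theorem Q14691 : ∀ i, i < 14691 → P i := stepQ 14690 Q14690 (allL N14690 (tt N11854 F25399) (tt N17727 (iv F31904)) (tt N11811 (iv F25402)) (tt N11653 (iv D14717)) (tt N11810 F25400) (tt N11818 F25401))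
theorem Q14692 : ∀ i, i < 14692 → P i := stepQ 14691 Q14691 (allL N14691 (tt N16734 (iv F29874)) (tt N11658 F25403) (tt N16726 (iv F29847)) (tt N16585 (iv F29498)) (tt N11655 (iv D14718)) (tt N12618 F25404))
theorem Q14693 : ∀ i, i < 14693 → P i := stepQ 14692 Q14692 (allL N14692 (tt N17728 D17760) (tt N11657 (iv D14719)) (tt N16723 (iv F29839)) (tt N15231 (iv F26629)) (tt N17729 D17761) (tt N15230 F26626))
theorem Q14694 : ∀ i, i < 14694 → P i := stepQ 14693 Q14693 (allL N14693 (tt N17016 (iv F30442)) (tt N17729 (iv F31907)) (tt N11658 F25405) (tt N17730 D17762) (tt N11657 (iv D14720)) (tt N17731 D17763))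
theorem Q14695 : ∀ i, i < 14695 → P i := stepQ 14694 Q14694 (allL N14694 (tt N17017 (iv F30444)) (tt N12618 F25406) (tt N17731 (iv F31908)) (tt N16586 (iv F29502)) (tt N12616 F25407) (tt N11658 (iv D14721)))
theorem Q14696 : ∀ i, i < 14696 → P i := stepQ 14695 Q14695 (allL N14695 (tt N17018 (iv F30447)) (tt N12610 F25408) (tt N12564 F25411) (tt N11660 (iv D14722)) (tt N12563 F25409) (tt N12698 F25410))
theorem Q14697 : ∀ i, i < 14697 → P i := stepQ 14696 Q14696 (allL N14696 (tt N12822 F25412) (tt N11665 (iv D14723)) (tt N12845 F25413) (tt N16365 (iv F29072)) (tt N16717 (iv F29823)) (tt N16379 (iv F29110)))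
theorem Q14698 : ∀ i, i < 14698 → P i := stepQ 14697 Q14697 (allL N14697 (tt N11666 F25414) (tt N16365 (iv F29070)) (tt N11741 F25415) (tt N11665 (iv D14724)) (tt N17732 D17764) (tt N12368 F25416))
theorem Q14699 : ∀ i, i < 14699 → P i := stepQ 14698 Q14698 (allL N14698 (tt N11741 F25417) (tt N11743 F25418) (tt N11666 (iv D14725)) (tt N11740 F25419) (tt N17733 D17765) (tt N12364 F25420))
theorem Q14700 : ∀ i, i < 14700 → P i := stepQ 14699 Q14699 (allL N14699 (tt N17732 (iv F31910)) (tt N12831 F25421) (tt N17733 (iv F31914)) (tt N17712 (iv F31881)) (tt N11666 (iv D14726)) (tt N17734 D17766))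
theorem Q14701 : ∀ i, i < 14701 → P i := stepQ 14700 Q14700 (allL N14700 (tt N17735 D17767) (tt N11669 (iv D14727)) (tt N14545 F25422) (tt N12860 F25423) (tt N11982 F25424) (tt N12859 F25425))
theorem Q14702 : ∀ i, i < 14702 → P i := stepQ 14701 Q14701 (allL N14701 (tt N11676 F25426) (tt N14547 F25427) (tt N12861 F25428) (tt N17397 (iv F31207)) (tt N11670 (iv D14728)) (tt N11985 F25429))
theorem Q14703 : ∀ i, i < 14703 → P i := stepQ 14702 Q14702 (allL N14702 (tt N17736 D17768) (tt N11671 (iv D14729)) (tt N14557 F25430) (tt N17737 D17769) (tt N11673 F25431) (tt N17738 D17770))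
theorem Q14704 : ∀ i, i < 14704 → P i := stepQ 14703 Q14703 (allL N14703 (tt N11983 F25432) (tt N17737 (iv F31928)) (tt N11988 F25433) (tt N11671 (iv D14730)) (tt N17739 D17771) (tt N11987 F25434))
theorem Q14705 : ∀ i, i < 14705 → P i := stepQ 14704 Q14704 (allL N14704 (tt N11984 F25435) (tt N17738 (iv F31932)) (tt N11672 F25436) (tt N11987 F25437) (tt N17740 D17772) (tt N11671 (iv D14731)))
theorem Q14706 : ∀ i, i < 14706 → P i := stepQ 14705 Q14705 (allL N14705 (tt N11985 F25438) (tt N14559 F25439) (tt N17740 (iv F31940)) (tt N17234 (iv F30845)) (tt N11672 (iv D14732)) (tt N11676 F25440))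
theorem Q14707 : ∀ i, i < 14707 → P i := stepQ 14706 Q14706 (allL N14706 (tt N11673 (iv D14733)) (tt N17735 (iv F31917)) (tt N17335 (iv F31063)) (tt N17741 D17773) (tt N17736 (iv F31924)) (tt N17742 D17774))
theorem Q14708 : ∀ i, i < 14708 → P i := stepQ 14707 Q14707 (allL N14707 (tt N17741 (iv F31943)) (tt N11674 F25441) (tt N17743 D17775) (tt N11673 (iv D14734)) (tt N17744 D17776) (tt N12838 (iv F25442)))
theorem Q14709 : ∀ i, i < 14709 → P i := stepQ 14708 Q14708 (allL N14708 (tt N17742 (iv F31946)) (tt N11675 F25443) (tt N17337 (iv F31066)) (tt N12838 F25444) (tt N17745 D17777) (tt N11673 (iv D14735)))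
theorem Q14710 : ∀ i, i < 14710 → P i := stepQ 14709 Q14709 (allL N14709 (tt N12862 F25445) (tt N17744 (iv F31951)) (tt N12839 F25446) (tt N17739 (iv F31937)) (tt N11674 (iv D14736)) (tt N17739 (iv F31938)))
theorem Q14711 : ∀ i, i < 14711 → P i := stepQ 14710 Q14710 (allL N14710 (tt N12861 F25447) (tt N17745 (iv F31952)) (tt N11676 F25448) (tt N17740 (iv F31941)) (tt N11675 (iv D14737)) (tt N17740 (iv F31942)))
theorem Q14712 : ∀ i, i < 14712 → P i := stepQ 14711 Q14711 (allL N14711 (tt N11679 F25449) (tt N11680 F25450) (tt N16455 (iv F29264)) (tt N12327 F25451) (tt N11900 F25452) (tt N11677 (iv D14738)))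
theorem Q14713 : ∀ i, i < 14713 → P i := stepQ 14712 Q14712 (allL N14712 (tt N16454 (iv F29259)) (tt N12823 F25453) (tt N17746 D17778) (tt N11678 (iv D14739)) (tt N16435 (iv F29213)) (tt N17747 D17779))
theorem Q14714 : ∀ i, i < 14714 → P i := stepQ 14713 Q14713 (allL N14713 (tt N16455 (iv F29262)) (tt N12824 F25454) (tt N11679 F25455) (tt N17747 (iv F31954)) (tt N16434 (iv F29210)) (tt N11678 (iv D14740)))
theorem Q14715 : ∀ i, i < 14715 → P i := stepQ 14714 Q14714 (allL N14714 (tt N11682 F25456) (tt N12818 F25457) (tt N17748 D17780) (tt N11681 (iv D14741)) (tt N12816 F25458) (tt N17749 D17781))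
theorem Q14716 : ∀ i, i < 14716 → P i := stepQ 14715 Q14715 (allL N14715 (tt N11683 F25459) (tt N12819 F25460) (tt N16464 (iv F29281)) (tt N17749 (iv F31959)) (tt N16437 (iv F29220)) (tt N11681 (iv D14742)))
theorem Q14717 : ∀ i, i < 14717 → P i := stepQ 14716 Q14716 (allL N14716 (tt N17748 (iv F31955)) (tt N17750 D17782) (tt N11682 (iv D14743)) (tt N17751 D17783) (tt N17685 (iv F31818)) (tt N17752 D17784))
theorem Q14718 : ∀ i, i < 14718 → P i := stepQ 14717 Q14717 (allL N14717 (tt N17749 (iv F31957)) (tt N11685 F25461) (tt N17752 (iv F31961)) (tt N11683 F25462) (tt N17753 D17785) (tt N11682 (iv D14744)))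
theorem Q14719 : ∀ i, i < 14719 → P i := stepQ 14718 Q14718 (allL N14718 (tt N17754 D17786) (tt N11684 (iv D14745)) (tt N17750 (iv F31960)) (tt N17012 (iv F30437)) (tt N17690 (iv F31834)) (tt N17011 F30434))
theorem Q14720 : ∀ i, i < 14720 → P i := stepQ 14719 Q14719 (allL N14719 (tt N16967 (iv F30348)) (tt N17753 (iv F31962)) (tt N16951 F30304) (tt N17687 (iv F31824)) (tt N11685 (iv D14746)) (tt N17689 (iv F31832)))
theorem Q14721 : ∀ i, i < 14721 → P i := stepQ 14720 Q14720 (allL N14720 (tt N17755 D17787) (tt N11686 (iv D14747)) (tt N11689 F25463) (tt N17756 D17788) (tt N12059 F25464) (tt N12339 F25465))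
theorem Q14722 : ∀ i, i < 14722 → P i := stepQ 14721 Q14721 (allL N14721 (tt N11972 F25466) (tt N17756 (iv F31969)) (tt N12892 F25468) (tt N11686 (iv D14748)) (tt N17757 D17789) (tt N12878 F25467))
theorem Q14723 : ∀ i, i < 14723 → P i := stepQ 14722 Q14722 (allL N14722 (tt N14395 F25473) (tt N11687 (iv D14749)) (tt N12059 F25469) (tt N14353 (iv F25471)) (tt N11689 F25470) (tt N14352 (iv F25472)))
theorem Q14724 : ∀ i, i < 14724 → P i := stepQ 14723 Q14723 (allL N14723 (tt N11693 F25474) (tt N14353 F25475) (tt N14354 (iv F25478)) (tt N11687 (iv D14750)) (tt N11693 F25476) (tt N14351 F25477))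
theorem Q14725 : ∀ i, i < 14725 → P i := stepQ 14724 Q14724 (allL N14724 (tt N11694 F25479) (tt N14352 F25480) (tt N11688 F25481) (tt N14351 F25482) (tt N12880 F25483) (tt N11687 (iv D14751)))
theorem Q14726 : ∀ i, i < 14726 → P i := stepQ 14725 Q14725 (allL N14725 (tt N11689 (iv D14752)) (tt N11695 F25484) (tt N17755 (iv F31964)) (tt N11695 F25485) (tt N14395 F25486) (tt N12881 F25487))
theorem Q14727 : ∀ i, i < 14727 → P i := stepQ 14726 Q14726 (allL N14726 (tt N17233 (iv F30840)) (tt N14355 F25488) (tt N11691 F25489) (tt N14354 F25490) (tt N17758 D17790) (tt N11690 (iv D14753)))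
theorem Q14728 : ∀ i, i < 14728 → P i := stepQ 14727 Q14727 (allL N14727 (tt N17234 (iv F30843)) (tt N12058 F25491) (tt N17758 (iv F31979)) (tt N11985 F25492) (tt N11691 (iv D14754)) (tt N17397 (iv F31208)))
theorem Q14729 : ∀ i, i < 14729 → P i := stepQ 14728 Q14728 (allL N14728 (tt N11692 (iv D14755)) (tt N14395 F25493) (tt N11976 F25494) (tt N14393 F25495) (tt N11695 F25496) (tt N12664 F25497))
theorem Q14730 : ∀ i, i < 14730 → P i := stepQ 14729 Q14729 (allL N14729 (tt N14354 F25498) (tt N14322 F25499) (tt N11693 (iv D14756)) (tt N17233 (iv F30842)) (tt N14354 F25500) (tt N14319 F25501))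
theorem Q14731 : ∀ i, i < 14731 → P i := stepQ 14730 Q14730 (allL N14730 (tt N17759 D17791) (tt N11696 (iv D14757)) (tt N11697 F25502) (tt N14058 F26076) (tt N16619 (iv F29593)) (tt N12119 F25503))
theorem Q14732 : ∀ i, i < 14732 → P i := stepQ 14731 Q14731 (allL N14731 (tt N11956 F25504) (tt N14058 (iv F26075)) (tt N12878 F25506) (tt N11696 (iv D14758)) (tt N14057 F26074) (tt N12892 F25505))
theorem Q14733 : ∀ i, i < 14733 → P i := stepQ 14732 Q14732 (allL N14732 (tt N11697 (iv D14759)) (tt N11701 F25507) (tt N17759 (iv F31981)) (tt N12118 F25508) (tt N16622 (iv F29600)) (tt N12117 F25509))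
theorem Q14734 : ∀ i, i < 14734 → P i := stepQ 14733 Q14733 (allL N14733 (tt N11698 (iv D14760)) (tt N16622 (iv F29599)) (tt N11966 F25510) (tt N17760 D17792) (tt N11701 F25511) (tt N17761 D17793))
theorem Q14735 : ∀ i, i < 14735 → P i := stepQ 14734 Q14734 (allL N14734 (tt N17760 (iv F31985)) (tt N11699 F25512) (tt N17762 D17794) (tt N11698 (iv D14761)) (tt N17763 D17795) (tt N14087 (iv F25513)))
theorem Q14736 : ∀ i, i < 14736 → P i := stepQ 14735 Q14735 (allL N14735 (tt N17761 (iv F31987)) (tt N11700 F25514) (tt N11968 F25515) (tt N14087 F25516) (tt N12903 F25517) (tt N11698 (iv D14762)))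
theorem Q14737 : ∀ i, i < 14737 → P i := stepQ 14736 Q14736 (allL N14736 (tt N12123 F25518) (tt N17763 (iv F31993)) (tt N14088 F25519) (tt N11703 F25520) (tt N11699 (iv D14763)) (tt N15589 (iv F27398)))
theorem Q14738 : ∀ i, i < 14738 → P i := stepQ 14737 Q14737 (allL N14737 (tt N11702 F25521) (tt N12118 F25522) (tt N17764 D17796) (tt N11701 (iv D14764)) (tt N17765 D17797) (tt N12111 F25523))
theorem Q14739 : ∀ i, i < 14739 → P i := stepQ 14738 Q14738 (allL N14738 (tt N17764 (iv F31995)) (tt N12109 F25524) (tt N11702 (iv D14765)) (tt N17766 D17798) (tt N17767 D17799) (tt N12107 F25525))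
theorem Q14740 : ∀ i, i < 14740 → P i := stepQ 14739 Q14739 (allL N14739 (tt N17765 (iv F31998)) (tt N11703 F25526) (tt N17767 (iv F32004)) (tt N17763 (iv F31994)) (tt N11702 (iv D14766)) (tt N15588 (iv F27394)))
theorem Q14741 : ∀ i, i < 14741 → P i := stepQ 14740 Q14740 (allL N14740 (tt N17768 D17800) (tt N11704 (iv D14767)) (tt N11706 F25527) (tt N17769 D17801) (tt N15337 F26860) (tt N17770 D17802))
theorem Q14742 : ∀ i, i < 14742 → P i := stepQ 14741 Q14741 (allL N14741 (tt N16828 (iv F30071)) (tt N17769 (iv F32006)) (tt N17186 (iv F30738)) (tt N11704 (iv D14768)) (tt N17771 D17803) (tt N17184 F30737))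
theorem Q14743 : ∀ i, i < 14743 → P i := stepQ 14742 Q14742 (allL N14742 (tt N16829 (iv F30072)) (tt N17770 (iv F32007)) (tt N11705 F25528) (tt N17184 (iv F30736)) (tt N17772 D17804) (tt N11704 (iv D14769)))
theorem Q14744 : ∀ i, i < 14744 → P i := stepQ 14743 Q14743 (allL N14743 (tt N16830 (iv F30074)) (tt N11709 F25529) (tt N17772 (iv F32009)) (tt N14049 F25530) (tt N11705 (iv D14770)) (tt N14048 F25531))
theorem Q14745 : ∀ i, i < 14745 → P i := stepQ 14744 Q14744 (allL N14744 (tt N11706 (iv D14771)) (tt N15371 (iv F26919)) (tt N17768 (iv F32005)) (tt N17773 D17805) (tt N15333 F26854) (tt N17774 D17806))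
theorem Q14746 : ∀ i, i < 14746 → P i := stepQ 14745 Q14745 (allL N14745 (tt N17773 (iv F32011)) (tt N11707 F25532) (tt N11930 (iv F25534)) (tt N11706 (iv D14772)) (tt N12381 F25533) (tt N11916 (iv F25535)))
theorem Q14747 : ∀ i, i < 14747 → P i := stepQ 14746 Q14746 (allL N14746 (tt N17774 (iv F32016)) (tt N11708 F25536) (tt N17770 (iv F32008)) (tt N11916 F25537) (tt N15338 (iv F26863)) (tt N11706 (iv D14773)))
theorem Q14748 : ∀ i, i < 14748 → P i := stepQ 14747 Q14747 (allL N14747 (tt N11712 F25538) (tt N11720 F25539) (tt N11781 F25540) (tt N15736 (iv F27710)) (tt N11759 F25541) (tt N11710 (iv D14774)))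
theorem Q14749 : ∀ i, i < 14749 → P i := stepQ 14748 Q14748 (allL N14748 (tt N11759 F25542) (tt N11716 F25543) (tt N11786 F25544) (tt N17775 D17807) (tt N11712 (iv D14775)) (tt N11713 F25545))
theorem Q14750 : ∀ i, i < 14750 → P i := stepQ 14749 Q14749 (allL N14749 (tt N11758 F25546) (tt N11717 F25547) (tt N17776 D17808) (tt N11713 (iv D14776)) (tt N12876 F25548) (tt N17775 (iv F32021)))
theorem Q14751 : ∀ i, i < 14751 → P i := stepQ 14750 Q14750 (allL N14750 (tt N11734 F25549) (tt N17775 (iv F32020)) (tt N17777 D17809) (tt N11716 (iv D14777)) (tt N15738 (iv F27716)) (tt N11717 F25550))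
theorem Q14752 : ∀ i, i < 14752 → P i := stepQ 14751 Q14751 (allL N14751 (tt N11735 F25551) (tt N17778 D17810) (tt N11717 (iv D14778)) (tt N12044 F25552) (tt N17671 (iv F31788)) (tt N17777 (iv F32027)))
theorem Q14753 : ∀ i, i < 14753 → P i := stepQ 14752 Q14752 (allL N14752 (tt N11736 F25553) (tt N12370 F25554) (tt N17779 D17811) (tt N11718 (iv D14779)) (tt N17674 (iv F31797)) (tt N12031 F25555))
theorem Q14754 : ∀ i, i < 14754 → P i := stepQ 14753 Q14753 (allL N14753 (tt N11723 F25556) (tt N17780 D17812) (tt N11719 (iv D14780)) (tt N16016 (iv F28312)) (tt N17366 (iv F31123)) (tt N17781 D17813))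
theorem Q14755 : ∀ i, i < 14755 → P i := stepQ 14754 Q14754 (allL N14754 (tt N11724 F25557) (tt N15736 (iv F27709)) (tt N17781 (iv F32039)) (tt N11720 F25558) (tt N17782 D17814) (tt N11719 (iv D14781)))
theorem Q14756 : ∀ i, i < 14756 → P i := stepQ 14755 Q14755 (allL N14755 (tt N17366 (iv F31121)) (tt N17783 D17815) (tt N11721 (iv D14782)) (tt N17375 (iv F31150)) (tt N11723 F25559) (tt N17784 D17816))
theorem Q14757 : ∀ i, i < 14757 → P i := stepQ 14756 Q14756 (allL N14756 (tt N17367 (iv F31124)) (tt N11729 F25560) (tt N17784 (iv F32049)) (tt N11722 F25561) (tt N17785 D17817) (tt N11721 (iv D14783)))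
theorem Q14758 : ∀ i, i < 14758 → P i := stepQ 14757 Q14757 (allL N14757 (tt N17786 D17818) (tt N11723 (iv D14784)) (tt N11732 F25562) (tt N17787 D17819) (tt N17783 (iv F32046)) (tt N15732 (iv F27700)))
theorem Q14759 : ∀ i, i < 14759 → P i := stepQ 14758 Q14758 (allL N14758 (tt N16016 (iv F28310)) (tt N17787 (iv F32057)) (tt N16003 (iv F28277)) (tt N11723 (iv D14785)) (tt N17788 D17820) (tt N17789 D17821))
theorem Q14760 : ∀ i, i < 14760 → P i := stepQ 14759 Q14759 (allL N14759 (tt N17781 (iv F32038)) (tt N15732 (iv F27699)) (tt N11724 F25563) (tt N17789 (iv F32060)) (tt N17790 D17822) (tt N11723 (iv D14786)))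
theorem Q14761 : ∀ i, i < 14761 → P i := stepQ 14760 Q14760 (allL N14760 (tt N17782 (iv F32041)) (tt N11733 F25564) (tt N17790 (iv F32061)) (tt N11774 F25565) (tt N11724 (iv D14787)) (tt N17785 (iv F32053)))
theorem Q14762 : ∀ i, i < 14762 → P i := stepQ 14761 Q14761 (allL N14761 (tt N11986 F25566) (tt N11726 F25567) (tt N14388 F25569) (tt N11725 (iv D14788)) (tt N12832 F25568) (tt N15632 (iv F27504)))
theorem Q14763 : ∀ i, i < 14763 → P i := stepQ 14762 Q14762 (allL N14762 (tt N12849 F25570) (tt N15632 (iv F27502)) (tt N15624 (iv F27480)) (tt N11727 F25571) (tt N17791 D17823) (tt N11726 (iv D14789)))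
theorem Q14764 : ∀ i, i < 14764 → P i := stepQ 14763 Q14763 (allL N14763 (tt N13828 F25572) (tt N11728 (iv D14790)) (tt N17783 (iv F32044)) (tt N13825 (iv F25574)) (tt N11732 F25573) (tt N13824 (iv F25575)))
theorem Q14765 : ∀ i, i < 14765 → P i := stepQ 14764 Q14764 (allL N14764 (tt N13821 F25576) (tt N13825 F25577) (tt N14551 (iv F25579)) (tt N11728 (iv D14791)) (tt N15735 (iv F27707)) (tt N13819 F25578))
theorem Q14766 : ∀ i, i < 14766 → P i := stepQ 14765 Q14765 (allL N14765 (tt N13820 F25580) (tt N13824 F25581) (tt N11729 F25582) (tt N13819 F25583) (tt N15734 (iv F27704)) (tt N11728 (iv D14792)))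
theorem Q14767 : ∀ i, i < 14767 → P i := stepQ 14766 Q14766 (allL N14766 (tt N15739 (iv F27717)) (tt N17785 (iv F32051)) (tt N15734 (iv F27703)) (tt N17792 D17824) (tt N11729 (iv D14793)) (tt N11733 F25584))
theorem Q14768 : ∀ i, i < 14768 → P i := stepQ 14767 Q14767 (allL N14767 (tt N17672 (iv F31789)) (tt N11770 F25585) (tt N17793 D17825) (tt N11730 (iv D14794)) (tt N17792 (iv F32065)) (tt N11731 F25586))
theorem Q14769 : ∀ i, i < 14769 → P i := stepQ 14768 Q14768 (allL N14768 (tt N17671 (iv F31786)) (tt N12349 F25587) (tt N11731 (iv D14795)) (tt N17074 (iv F30535)) (tt N11735 F25588) (tt N17793 (iv F32068)))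
theorem Q14770 : ∀ i, i < 14770 → P i := stepQ 14769 Q14769 (allL N14769 (tt N11732 (iv D14796)) (tt N13832 F25589) (tt N17786 (iv F32055)) (tt N15731 (iv F27697)) (tt N13828 F25590) (tt N15730 F27694))
theorem Q14771 : ∀ i, i < 14771 → P i := stepQ 14770 Q14770 (allL N14770 (tt N15738 (iv F27715)) (tt N11774 F25591) (tt N17794 D17826) (tt N11733 (iv D14797)) (tt N11734 F25592) (tt N17792 (iv F32066)))
theorem Q14772 : ∀ i, i < 14772 → P i := stepQ 14771 Q14771 (allL N14771 (tt N17777 (iv F32025)) (tt N17795 D17827) (tt N11734 (iv D14798)) (tt N17779 (iv F32033)) (tt N17794 (iv F32069)) (tt N11735 F25593))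
theorem Q14773 : ∀ i, i < 14773 → P i := stepQ 14772 Q14772 (allL N14772 (tt N12354 (iv F25596)) (tt N11735 (iv D14799)) (tt N11771 F25594) (tt N17796 D17828) (tt N12349 F25595) (tt N17795 (iv F32071)))
theorem Q14774 : ∀ i, i < 14774 → P i := stepQ 14773 Q14773 (allL N14773 (tt N12044 F25597) (tt N17796 (iv F32074)) (tt N12031 F25598) (tt N11735 (iv D14800)) (tt N17797 D17829) (tt N17779 (iv F32034)))
theorem Q14775 : ∀ i, i < 14775 → P i := stepQ 14774 Q14774 (allL N14774 (tt N17779 (iv F32032)) (tt N17798 D17830) (tt N11736 (iv D14801)) (tt N17777 (iv F32026)) (tt N17799 D17831) (tt N12044 F25599))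
theorem Q14776 : ∀ i, i < 14776 → P i := stepQ 14775 Q14775 (allL N14775 (tt N17674 (iv F31795)) (tt N16339 (iv F28995)) (tt N17799 (iv F32082)) (tt N11737 F25600) (tt N11736 (iv D14802)) (tt N17800 D17832))
theorem Q14777 : ∀ i, i < 14777 → P i := stepQ 14776 Q14776 (allL N14776 (tt N17675 (iv F31798)) (tt N16539 (iv F29424)) (tt N12318 F25601) (tt N17800 (iv F32087)) (tt N11748 F25602) (tt N11737 (iv D14803)))
theorem Q14778 : ∀ i, i < 14778 → P i := stepQ 14777 Q14777 (allL N14777 (tt N16301 (iv F28900)) (tt N11738 (iv D14804)) (tt N11825 F25603) (tt N17801 D17833) (tt N11764 F25604) (tt N16000 (iv F28269)))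
theorem Q14779 : ∀ i, i < 14779 → P i := stepQ 14778 Q14778 (allL N14778 (tt N11739 F25605) (tt N17801 (iv F32089)) (tt N17789 (iv F32059)) (tt N11738 (iv D14805)) (tt N17802 D17834) (tt N16003 (iv F28276)))
theorem Q14780 : ∀ i, i < 14780 → P i := stepQ 14779 Q14779 (allL N14779 (tt N17789 (iv F32058)) (tt N17803 D17835) (tt N11739 (iv D14806)) (tt N17781 (iv F32040)) (tt N17804 D17836) (tt N16016 (iv F28311)))
theorem Q14781 : ∀ i, i < 14781 → P i := stepQ 14780 Q14780 (allL N14780 (tt N17802 (iv F32090)) (tt N16315 (iv F28932)) (tt N17804 (iv F32092)) (tt N11778 F25606) (tt N11739 (iv D14807)) (tt N17805 D17837))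
theorem Q14782 : ∀ i, i < 14782 → P i := stepQ 14781 Q14781 (allL N14781 (tt N17733 (iv F31912)) (tt N11742 F25607) (tt N17732 (iv F31911)) (tt N12028 F25608) (tt N11741 (iv D14808)) (tt N17806 D17838))
theorem Q14783 : ∀ i, i < 14783 → P i := stepQ 14782 Q14782 (allL N14782 (tt N11748 F25609) (tt N17806 (iv F32094)) (tt N15684 (iv F27596)) (tt N12030 F25610) (tt N17675 (iv F31801)) (tt N11742 (iv D14809)))
theorem Q14784 : ∀ i, i < 14784 → P i := stepQ 14783 Q14783 (allL N14783 (tt N11745 F25611) (tt N17733 (iv F31913)) (tt N16340 (iv F29002)) (tt N12033 F25612) (tt N11743 (iv D14810)) (tt N17807 D17839))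
theorem Q14785 : ∀ i, i < 14785 → P i := stepQ 14784 Q14784 (allL N14784 (tt N16340 (iv F28999)) (tt N16009 (iv F28294)) (tt N11745 F25613) (tt N16008 (iv F28292)) (tt N11744 (iv D14811)) (tt N17808 D17840))
theorem Q14786 : ∀ i, i < 14786 → P i := stepQ 14785 Q14785 (allL N14785 (tt N17807 (iv F32097)) (tt N11748 F25614) (tt N17808 (iv F32100)) (tt N12038 F25615) (tt N16539 (iv F29426)) (tt N11745 (iv D14812)))
theorem Q14787 : ∀ i, i < 14787 → P i := stepQ 14786 Q14786 (allL N14786 (tt N16352 (iv F29039)) (tt N11747 F25616) (tt N16009 F28296) (tt N17809 D17841) (tt N11746 (iv D14813)) (tt N17810 D17842))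
theorem Q14788 : ∀ i, i < 14788 → P i := stepQ 14787 Q14787 (allL N14787 (tt N12871 F25617) (tt N17809 (iv F32102)) (tt N15688 (iv F27604)) (tt N11747 (iv D14814)) (tt N12319 F25618) (tt N15683 (iv F27591)))
theorem Q14789 : ∀ i, i < 14789 → P i := stepQ 14788 Q14788 (allL N14788 (tt N15684 (iv F27592)) (tt N17810 (iv F32107)) (tt N11748 F25619) (tt N15683 (iv F27590)) (tt N12318 F25620) (tt N11747 (iv D14815)))
theorem Q14790 : ∀ i, i < 14790 → P i := stepQ 14789 Q14789 (allL N14789 (tt N11753 F25621) (tt N17811 D17843) (tt N11750 (iv D14816)) (tt N16035 (iv F28354)) (tt N17369 (iv F31137)) (tt N16034 (iv F28350)))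
theorem Q14791 : ∀ i, i < 14791 → P i := stepQ 14790 Q14790 (allL N14790 (tt N15679 (iv F27585)) (tt N11752 (iv D14817)) (tt N12788 F25622) (tt N16015 (iv F28308)) (tt N12801 F25623) (tt N16019 (iv F28320)))
theorem Q14792 : ∀ i, i < 14792 → P i := stepQ 14791 Q14791 (allL N14791 (tt N16035 (iv F28352)) (tt N17378 (iv F31154)) (tt N15971 (iv F28176)) (tt N11753 (iv D14818)) (tt N17812 D17844) (tt N15970 F28174))
theorem Q14793 : ∀ i, i < 14793 → P i := stepQ 14792 Q14792 (allL N14792 (tt N11754 (iv D14819)) (tt N15679 (iv F27586)) (tt N11756 F25624) (tt N17813 D17845) (tt N12804 F25625) (tt N16020 (iv F28322)))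
theorem Q14794 : ∀ i, i < 14794 → P i := stepQ 14793 Q14793 (allL N14793 (tt N17813 (iv F32115)) (tt N11755 F25626) (tt N17814 D17846) (tt N11754 (iv D14820)) (tt N17815 D17847) (tt N16021 (iv F28324)))
theorem Q14795 : ∀ i, i < 14795 → P i := stepQ 14794 Q14794 (allL N14794 (tt N16011 (iv F28299)) (tt N17815 (iv F32116)) (tt N16001 F28272) (tt N12806 F25627) (tt N11755 (iv D14821)) (tt N17816 D17848))
theorem Q14796 : ∀ i, i < 14796 → P i := stepQ 14795 Q14795 (allL N14795 (tt N12876 F25628) (tt N11760 F25629) (tt N12322 (iv F25632)) (tt N11757 (iv D14822)) (tt N11758 F25630) (tt N12344 F25631))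
theorem Q14797 : ∀ i, i < 14797 → P i := stepQ 14796 Q14796 (allL N14796 (tt N17776 (iv F32022)) (tt N11824 F25633) (tt N11758 (iv D14823)) (tt N17817 D17849) (tt N12322 F25634) (tt N17818 D17850))
theorem Q14798 : ∀ i, i < 14798 → P i := stepQ 14797 Q14797 (allL N14797 (tt N17775 (iv F32019)) (tt N11763 F25635) (tt N17818 (iv F32123)) (tt N11759 F25636) (tt N17819 D17851) (tt N11758 (iv D14824)))
theorem Q14799 : ∀ i, i < 14799 → P i := stepQ 14798 Q14798 (allL N14798 (tt N11770 F25637) (tt N12344 F25638) (tt N12321 F25639) (tt N11761 F25640) (tt N17820 D17852) (tt N11760 (iv D14825)))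
theorem Q14800 : ∀ i, i < 14800 → P i := stepQ 14799 Q14799 (allL N14799 (tt N11774 F25641) (tt N17819 (iv F32126)) (tt N15976 (iv F28189)) (tt N17782 (iv F32042)) (tt N11763 (iv D14826)) (tt N17820 (iv F32132)))
theorem Q14801 : ∀ i, i < 14801 → P i := stepQ 14800 Q14800 (allL N14800 (tt N11764 (iv D14827)) (tt N11775 F25642) (tt N16131 (iv F28549)) (tt N17821 D17853) (tt N16301 (iv F28903)) (tt N15997 F28260))
theorem Q14802 : ∀ i, i < 14802 → P i := stepQ 14801 Q14801 (allL N14801 (tt N17821 (iv F32133)) (tt N11765 F25643) (tt N17822 D17854) (tt N11764 (iv D14828)) (tt N17823 D17855) (tt N15999 (iv F28265)))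
theorem Q14803 : ∀ i, i < 14803 → P i := stepQ 14802 Q14802 (allL N14802 (tt N11778 F25644) (tt N17823 (iv F32135)) (tt N16022 (iv F28326)) (tt N17802 (iv F32091)) (tt N11765 (iv D14829)) (tt N17824 D17856))
theorem Q14804 : ∀ i, i < 14804 → P i := stepQ 14803 Q14803 (allL N14803 (tt N11991 F25645) (tt N12315 F25646) (tt N11767 (iv D14830)) (tt N12312 F25647) (tt N11989 F25648) (tt N12311 F25649))
theorem Q14805 : ∀ i, i < 14805 → P i := stepQ 14804 Q14804 (allL N14804 (tt N12321 F25650) (tt N12350 F25651) (tt N11770 F25652) (tt N12320 F25653) (tt N17825 D17857) (tt N11769 (iv D14831)))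
theorem Q14806 : ∀ i, i < 14806 → P i := stepQ 14805 Q14805 (allL N14805 (tt N17820 (iv F32129)) (tt N17792 (iv F32064)) (tt N17825 (iv F32139)) (tt N17785 (iv F32052)) (tt N11770 (iv D14832)) (tt N11774 F25654))
theorem Q14807 : ∀ i, i < 14807 → P i := stepQ 14806 Q14806 (allL N14806 (tt N12356 F25655) (tt N11773 F25656) (tt N17795 (iv F32070)) (tt N12366 F25657) (tt N17826 D17858) (tt N11771 (iv D14833)))
theorem Q14808 : ∀ i, i < 14808 → P i := stepQ 14807 Q14807 (allL N14807 (tt N15976 (iv F28187)) (tt N17826 (iv F32142)) (tt N11774 F25658) (tt N16579 (iv F29488)) (tt N11773 (iv D14834)) (tt N17825 (iv F32140)))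
theorem Q14809 : ∀ i, i < 14809 → P i := stepQ 14808 Q14808 (allL N14808 (tt N11776 F25659) (tt N17821 (iv F32134)) (tt N17827 D17859) (tt N11775 (iv D14835)) (tt N17828 D17860) (tt N16004 (iv F28280)))
theorem Q14810 : ∀ i, i < 14810 → P i := stepQ 14809 Q14809 (allL N14809 (tt N17827 (iv F32144)) (tt N17829 D17861) (tt N11776 (iv D14836)) (tt N17830 D17862) (tt N17831 D17863) (tt N16007 (iv F28288)))
theorem Q14811 : ∀ i, i < 14811 → P i := stepQ 14810 Q14810 (allL N14810 (tt N17828 (iv F32145)) (tt N11778 F25660) (tt N17831 (iv F32147)) (tt N16315 (iv F28933)) (tt N11776 (iv D14837)) (tt N17832 D17864))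
theorem Q14812 : ∀ i, i < 14812 → P i := stepQ 14811 Q14811 (allL N14811 (tt N17833 D17865) (tt N11777 (iv D14838)) (tt N17829 (iv F32146)) (tt N16019 (iv F28319)) (tt N17834 D17866) (tt N16015 (iv F28309)))
theorem Q14813 : ∀ i, i < 14813 → P i := stepQ 14812 Q14812 (allL N14812 (tt N16022 (iv F28325)) (tt N17834 (iv F32149)) (tt N11778 F25661) (tt N17835 D17867) (tt N11777 (iv D14839)) (tt N17836 D17868))
theorem Q14814 : ∀ i, i < 14814 → P i := stepQ 14813 Q14813 (allL N14813 (tt N17824 (iv F32136)) (tt N17832 (iv F32148)) (tt N17836 (iv F32150)) (tt N17805 (iv F32093)) (tt N16012 (iv F28303)) (tt N11778 (iv D14840)))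
theorem Q14815 : ∀ i, i < 14815 → P i := stepQ 14814 Q14814 (allL N14814 (tt N11782 F25662) (tt N11794 F25663) (tt N17837 D17869) (tt N11779 (iv D14841)) (tt N11780 F25664) (tt N17838 D17870))
theorem Q14816 : ∀ i, i < 14816 → P i := stepQ 14815 Q14815 (allL N14815 (tt N11783 F25665) (tt N11795 F25666) (tt N11936 F25667) (tt N17838 (iv F32155)) (tt N11921 F25668) (tt N11779 (iv D14842)))
theorem Q14817 : ∀ i, i < 14817 → P i := stepQ 14816 Q14816 (allL N14816 (tt N11784 F25669) (tt N17839 D17871) (tt N11780 (iv D14843)) (tt N17840 D17872) (tt N17837 (iv F32152)) (tt N17841 D17873))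
theorem Q14818 : ∀ i, i < 14818 → P i := stepQ 14817 Q14817 (allL N14817 (tt N11785 F25670) (tt N11797 F25671) (tt N17841 (iv F32162)) (tt N11781 F25672) (tt N17842 D17874) (tt N11780 (iv D14844)))
theorem Q14819 : ∀ i, i < 14819 → P i := stepQ 14818 Q14818 (allL N14818 (tt N17837 (iv F32151)) (tt N17843 D17875) (tt N11782 (iv D14845)) (tt N17844 D17876) (tt N11784 F25673) (tt N17845 D17877))
theorem Q14820 : ∀ i, i < 14820 → P i := stepQ 14819 Q14819 (allL N14819 (tt N17838 (iv F32153)) (tt N11789 F25674) (tt N17845 (iv F32170)) (tt N11783 F25675) (tt N17846 D17878) (tt N11782 (iv D14846)))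
theorem Q14821 : ∀ i, i < 14821 → P i := stepQ 14820 Q14820 (allL N14820 (tt N17847 D17879) (tt N11784 (iv D14847)) (tt N11790 F25676) (tt N17848 D17880) (tt N17843 (iv F32169)) (tt N11851 (iv F25677)))
theorem Q14822 : ∀ i, i < 14822 → P i := stepQ 14821 Q14821 (allL N14821 (tt N17840 (iv F32157)) (tt N17848 (iv F32178)) (tt N17849 D17881) (tt N11784 (iv D14848)) (tt N17850 D17882) (tt N14492 (iv F25831)))
theorem Q14823 : ∀ i, i < 14823 → P i := stepQ 14822 Q14822 (allL N14822 (tt N17841 (iv F32161)) (tt N11851 F25678) (tt N11785 F25679) (tt N14492 F25829) (tt N14493 (iv F25830)) (tt N11784 (iv D14849)))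
theorem Q14824 : ∀ i, i < 14824 → P i := stepQ 14823 Q14823 (allL N14823 (tt N17842 (iv F32165)) (tt N11791 F25680) (tt N14493 F25832) (tt N17851 D17883) (tt N11785 (iv D14850)) (tt N17846 (iv F32175)))
theorem Q14825 : ∀ i, i < 14825 → P i := stepQ 14824 Q14824 (allL N14824 (tt N16126 (iv F28535)) (tt N11792 F25681) (tt N17852 D17884) (tt N11786 (iv D14851)) (tt N17851 (iv F32188)) (tt N11787 F25682))
theorem Q14826 : ∀ i, i < 14826 → P i := stepQ 14825 Q14825 (allL N14825 (tt N16125 (iv F28533)) (tt N17853 D17885) (tt N11787 (iv D14852)) (tt N17853 F32195) (tt N11922 F25683) (tt N17852 (iv F32192)))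
theorem Q14827 : ∀ i, i < 14827 → P i := stepQ 14826 Q14826 (allL N14826 (tt N17854 D17886) (tt N11788 (iv D14853)) (tt N17843 (iv F32168)) (tt N17707 (iv F31868)) (tt N11790 F25684) (tt N17706 F31866))
theorem Q14828 : ∀ i, i < 14828 → P i := stepQ 14827 Q14827 (allL N14827 (tt N11811 F25685) (tt N17846 (iv F32172)) (tt N11854 F25686) (tt N11927 F25687) (tt N11789 (iv D14854)) (tt N11791 F25688))
theorem Q14829 : ∀ i, i < 14829 → P i := stepQ 14828 Q14828 (allL N14828 (tt N11790 (iv D14855)) (tt N11814 F25689) (tt N17847 (iv F32176)) (tt N11850 F25690) (tt N17854 (iv F32197)) (tt N11849 F25691))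
theorem Q14830 : ∀ i, i < 14830 → P i := stepQ 14829 Q14829 (allL N14829 (tt N11819 F25692) (tt N17851 (iv F32187)) (tt N12348 F25695) (tt N11791 (iv D14856)) (tt N11792 F25693) (tt N11927 F25694))
theorem Q14831 : ∀ i, i < 14831 → P i := stepQ 14830 Q14830 (allL N14830 (tt N11820 F25696) (tt N17817 (iv F32119)) (tt N11792 (iv D14857)) (tt N11824 F25697) (tt N12348 F25698) (tt N11793 F25699))
theorem Q14832 : ∀ i, i < 14832 → P i := stepQ 14831 Q14831 (allL N14831 (tt N17855 D17887) (tt N11793 (iv D14858)) (tt N17853 (iv F32193)) (tt N17818 (iv F32124)) (tt N11924 F25700) (tt N17817 F32121))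
theorem Q14833 : ∀ i, i < 14833 → P i := stepQ 14832 Q14832 (allL N14832 (tt N11822 F25701) (tt N17818 (iv F32122)) (tt N11823 F25702) (tt N11793 (iv D14859)) (tt N12347 (iv F25704)) (tt N11824 F25703))
theorem Q14834 : ∀ i, i < 14834 → P i := stepQ 14833 Q14833 (allL N14833 (tt N11801 F25705) (tt N17856 D17888) (tt N11794 (iv D14860)) (tt N17857 D17889) (tt N11796 F25706) (tt N17858 D17890))
theorem Q14835 : ∀ i, i < 14835 → P i := stepQ 14834 Q14834 (allL N14834 (tt N11802 F25707) (tt N17838 (iv F32154)) (tt N17858 (iv F32203)) (tt N11795 F25708) (tt N17859 D17891) (tt N11794 (iv D14861)))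
theorem Q14836 : ∀ i, i < 14836 → P i := stepQ 14835 Q14835 (allL N14835 (tt N17860 D17892) (tt N11796 (iv D14862)) (tt N17839 (iv F32156)) (tt N17861 D17893) (tt N17856 (iv F32200)) (tt N17862 D17894))
theorem Q14837 : ∀ i, i < 14837 → P i := stepQ 14836 Q14836 (allL N14836 (tt N11804 F25709) (tt N17861 (iv F32207)) (tt N11832 F25710) (tt N11796 (iv D14863)) (tt N17863 D17895) (tt N11830 (iv F25711)))
theorem Q14838 : ∀ i, i < 14838 → P i := stepQ 14837 Q14837 (allL N14837 (tt N11805 F25712) (tt N17862 (iv F32210)) (tt N11797 F25713) (tt N11830 F25714) (tt N17864 D17896) (tt N11796 (iv D14864)))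
theorem Q14839 : ∀ i, i < 14839 → P i := stepQ 14838 Q14838 (allL N14838 (tt N11806 F25715) (tt N17842 (iv F32166)) (tt N17864 (iv F32215)) (tt N16130 (iv F28547)) (tt N11797 (iv D14865)) (tt N17859 (iv F32205)))
theorem Q14840 : ∀ i, i < 14840 → P i := stepQ 14839 Q14839 (allL N14839 (tt N11941 F25716) (tt N11799 F25717) (tt N17865 D17897) (tt N11798 (iv D14866)) (tt N16094 (iv F28478)) (tt N17866 D17898))
theorem Q14841 : ∀ i, i < 14841 → P i := stepQ 14840 Q14840 (allL N14840 (tt N11942 F25718) (tt N11800 F25719) (tt N11807 F25720) (tt N17866 (iv F32219)) (tt N11911 F25721) (tt N11798 (iv D14867)))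
theorem Q14842 : ∀ i, i < 14842 → P i := stepQ 14841 Q14841 (allL N14841 (tt N16099 (iv F28494)) (tt N17867 D17899) (tt N11799 (iv D14868)) (tt N17868 D17900) (tt N16096 (iv F28484)) (tt N17869 D17901))
theorem Q14843 : ∀ i, i < 14843 → P i := stepQ 14842 Q14842 (allL N14842 (tt N16100 (iv F28496)) (tt N17866 (iv F32218)) (tt N17869 (iv F32220)) (tt N11800 F25722) (tt N17870 D17902) (tt N11799 (iv D14869)))
theorem Q14844 : ∀ i, i < 14844 → P i := stepQ 14843 Q14843 (allL N14843 (tt N17871 D17903) (tt N11801 (iv D14870)) (tt N11808 F25723) (tt N17872 D17904) (tt N11803 F25724) (tt N17873 D17905))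
theorem Q14845 : ∀ i, i < 14845 → P i := stepQ 14844 Q14844 (allL N14844 (tt N17857 (iv F32201)) (tt N17872 (iv F32223)) (tt N17874 D17906) (tt N11801 (iv D14871)) (tt N17875 D17907) (tt N17876 D17908))
theorem Q14846 : ∀ i, i < 14846 → P i := stepQ 14845 Q14845 (allL N14845 (tt N17858 (iv F32202)) (tt N17873 (iv F32224)) (tt N11802 F25725) (tt N17876 (iv F32227)) (tt N17877 D17909) (tt N11801 (iv D14872)))
theorem Q14847 : ∀ i, i < 14847 → P i := stepQ 14846 Q14846 (allL N14846 (tt N17859 (iv F32204)) (tt N11811 F25726) (tt N17877 (iv F32228)) (tt N16137 (iv F28561)) (tt N11802 (iv D14873)) (tt N11806 F25727))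
theorem Q14848 : ∀ i, i < 14848 → P i := stepQ 14847 Q14847 (allL N14847 (tt N11803 (iv D14874)) (tt N17860 (iv F32206)) (tt N11814 F25728) (tt N17878 D17910) (tt N17871 (iv F32222)) (tt N17879 D17911))
theorem Q14849 : ∀ i, i < 14849 → P i := stepQ 14848 Q14848 (allL N14848 (tt N17878 (iv F32230)) (tt N11804 F25729) (tt N17880 D17912) (tt N11803 (iv D14875)) (tt N17881 D17913) (tt N17882 D17914))
theorem Q14850 : ∀ i, i < 14850 → P i := stepQ 14849 Q14849 (allL N14849 (tt N17879 (iv F32231)) (tt N11805 F25730) (tt N11816 F25731) (tt N17882 (iv F32235)) (tt N17883 D17915) (tt N11803 (iv D14876)))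
theorem Q14851 : ∀ i, i < 14851 → P i := stepQ 14850 Q14850 (allL N14850 (tt N11832 F25732) (tt N17884 D17916) (tt N11804 (iv D14877)) (tt N11827 F25733) (tt N17885 D17917) (tt N11826 (iv F25734)))
theorem Q14852 : ∀ i, i < 14852 → P i := stepQ 14851 Q14851 (allL N14851 (tt N17863 (iv F32212)) (tt N17881 (iv F32233)) (tt N17885 (iv F32242)) (tt N17875 (iv F32226)) (tt N11804 (iv D14878)) (tt N17886 D17918))
theorem Q14853 : ∀ i, i < 14853 → P i := stepQ 14852 Q14852 (allL N14852 (tt N11830 F25735) (tt N17882 (iv F32234)) (tt N11826 F25736) (tt N11805 F25737) (tt N17887 D17919) (tt N11804 (iv D14879)))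
theorem Q14854 : ∀ i, i < 14854 → P i := stepQ 14853 Q14853 (allL N14853 (tt N17864 (iv F32214)) (tt N17883 (iv F32236)) (tt N11806 F25738) (tt N17888 D17920) (tt N11805 (iv D14880)) (tt N17877 (iv F32229)))
theorem Q14855 : ∀ i, i < 14855 → P i := stepQ 14854 Q14854 (allL N14854 (tt N11808 (iv D14881)) (tt N17854 (iv F32196)) (tt N17871 (iv F32221)) (tt N17889 D17921) (tt N11814 F25739) (tt N17890 D17922))
theorem Q14856 : ∀ i, i < 14856 → P i := stepQ 14855 Q14855 (allL N14855 (tt N17889 (iv F32245)) (tt N11809 F25740) (tt N17891 D17923) (tt N11808 (iv D14882)) (tt N17726 (iv F31903)) (tt N17686 (iv F31821)))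
theorem Q14857 : ∀ i, i < 14857 → P i := stepQ 14856 Q14856 (allL N14856 (tt N17890 (iv F32246)) (tt N11810 F25741) (tt N17873 (iv F32225)) (tt N17686 (iv F31819)) (tt N17727 (iv F31905)) (tt N11808 (iv D14883)))
theorem Q14858 : ∀ i, i < 14858 → P i := stepQ 14857 Q14857 (allL N14857 (tt N11927 F25742) (tt N16137 (iv F28560)) (tt N12280 F25743) (tt N11811 (iv D14884)) (tt N11812 F25744) (tt N11819 F25745))
theorem Q14859 : ∀ i, i < 14859 → P i := stepQ 14858 Q14858 (allL N14858 (tt N11926 F25746) (tt N17892 D17924) (tt N11812 (iv D14885)) (tt N11931 F25747) (tt N12280 F25748) (tt N11813 F25749))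
theorem Q14860 : ∀ i, i < 14860 → P i := stepQ 14859 Q14859 (allL N14859 (tt N17893 D17925) (tt N11813 (iv D14886)) (tt N16134 (iv F28557)) (tt N17894 D17926) (tt N11821 F25750) (tt N17892 (iv F32249)))
theorem Q14861 : ∀ i, i < 14861 → P i := stepQ 14860 Q14860 (allL N14860 (tt N11925 F25751) (tt N17894 (iv F32252)) (tt N11932 F25752) (tt N11813 (iv D14887)) (tt N12285 (iv F25754)) (tt N11931 F25753))
theorem Q14862 : ∀ i, i < 14862 → P i := stepQ 14861 Q14861 (allL N14861 (tt N11815 F25755) (tt N11850 F25756) (tt N16978 (iv F30373)) (tt N11814 (iv D14888)) (tt N17895 D17927) (tt N11833 (iv F25757)))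
theorem Q14863 : ∀ i, i < 14863 → P i := stepQ 14862 Q14862 (allL N14862 (tt N11816 F25758) (tt N11849 F25759) (tt N17879 (iv F32232)) (tt N11833 F25760) (tt N17896 D17928) (tt N11814 (iv D14889)))
theorem Q14864 : ∀ i, i < 14864 → P i := stepQ 14863 Q14863 (allL N14863 (tt N17895 (iv F32255)) (tt N11817 F25761) (tt N16976 (iv F30368)) (tt N17726 (iv F31902)) (tt N11815 (iv D14890)) (tt N12079 F25762))
theorem Q14865 : ∀ i, i < 14865 → P i := stepQ 14864 Q14864 (allL N14864 (tt N17896 (iv F32258)) (tt N11818 F25763) (tt N17883 (iv F32237)) (tt N12078 F25764) (tt N11816 (iv D14891)) (tt N17727 (iv F31906)))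
theorem Q14866 : ∀ i, i < 14866 → P i := stepQ 14865 Q14865 (allL N14865 (tt N12348 F25765) (tt N17897 D17929) (tt N11819 (iv D14892)) (tt N12269 F25768) (tt N11820 F25766) (tt N12280 F25767))
theorem Q14867 : ∀ i, i < 14867 → P i := stepQ 14866 Q14866 (allL N14866 (tt N17898 D17930) (tt N11820 (iv D14893)) (tt N16140 (iv F28567)) (tt N12360 F25769) (tt N17897 (iv F32263)) (tt N11821 F25770))
theorem Q14868 : ∀ i, i < 14868 → P i := stepQ 14867 Q14867 (allL N14867 (tt N11821 (iv D14894)) (tt N17855 (iv F32198)) (tt N16138 (iv F28563)) (tt N17899 D17931) (tt N17893 (iv F32251)) (tt N17898 (iv F32266)))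
theorem Q14869 : ∀ i, i < 14869 → P i := stepQ 14868 Q14868 (allL N14868 (tt N17899 (iv F32267)) (tt N11822 F25771) (tt N17900 D17932) (tt N11821 (iv D14895)) (tt N17901 D17933) (tt N12360 F25772))
theorem Q14870 : ∀ i, i < 14870 → P i := stepQ 14869 Q14869 (allL N14869 (tt N12347 F25773) (tt N17901 (iv F32272)) (tt N12361 F25774) (tt N12285 F25775) (tt N11822 (iv D14896)) (tt N12273 F25776))
theorem Q14871 : ∀ i, i < 14871 → P i := stepQ 14870 Q14870 (allL N14870 (tt N12361 F25777) (tt N15976 (iv F28188)) (tt N12347 F25778) (tt N11861 F25779) (tt N11823 (iv D14897)) (tt N12323 F25780))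
theorem Q14872 : ∀ i, i < 14872 → P i := stepQ 14871 Q14871 (allL N14871 (tt N11825 (iv D14898)) (tt N11828 F25781) (tt N16301 (iv F28902)) (tt N15749 (iv F27734)) (tt N16131 (iv F28550)) (tt N12051 (iv F25782)))
theorem Q14873 : ∀ i, i < 14873 → P i := stepQ 14872 Q14872 (allL N14872 (tt N15749 (iv F27733)) (tt N11826 F25783) (tt N17902 D17934) (tt N11825 (iv D14899)) (tt N17903 D17935) (tt N17884 (iv F32240)))
theorem Q14874 : ∀ i, i < 14874 → P i := stepQ 14873 Q14873 (allL N14873 (tt N12051 F25784) (tt N11827 F25785) (tt N16000 (iv F28268)) (tt N17884 (iv F32239)) (tt N15945 (iv F28114)) (tt N11825 (iv D14900)))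
theorem Q14875 : ∀ i, i < 14875 → P i := stepQ 14874 Q14874 (allL N14874 (tt N11831 F25786) (tt N17903 (iv F32275)) (tt N17887 (iv F32244)) (tt N16123 (iv F28532)) (tt N11826 (iv D14901)) (tt N17904 D17936))
theorem Q14876 : ∀ i, i < 14876 → P i := stepQ 14875 Q14875 (allL N14875 (tt N15750 (iv F27736)) (tt N11831 F25787) (tt N15744 (iv F27728)) (tt N16145 (iv F28577)) (tt N11829 (iv D14902)) (tt N17905 D17937))
theorem Q14877 : ∀ i, i < 14877 → P i := stepQ 14876 Q14876 (allL N14876 (tt N17906 D17938) (tt N11830 (iv D14903)) (tt N15742 F27723) (tt N17862 (iv F32211)) (tt N17907 D17939) (tt N17861 F32209))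
theorem Q14878 : ∀ i, i < 14878 → P i := stepQ 14877 Q14877 (allL N14877 (tt N17887 (iv F32243)) (tt N17907 (iv F32279)) (tt N11831 F25788) (tt N17908 D17940) (tt N11830 (iv D14904)) (tt N17909 D17941))
theorem Q14879 : ∀ i, i < 14879 → P i := stepQ 14878 Q14878 (allL N14878 (tt N17904 (iv F32276)) (tt N17905 (iv F32277)) (tt N17909 (iv F32280)) (tt N16146 (iv F28578)) (tt N17910 D17942) (tt N11831 (iv D14905)))
theorem Q14880 : ∀ i, i < 14880 → P i := stepQ 14879 Q14879 (allL N14879 (tt N17885 (iv F32241)) (tt N12054 F25789) (tt N17863 (iv F32213)) (tt N15953 (iv F28128)) (tt N11832 (iv D14906)) (tt N17910 (iv F32282)))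
theorem Q14881 : ∀ i, i < 14881 → P i := stepQ 14880 Q14880 (allL N14880 (tt N16578 (iv F29484)) (tt N11835 F25790) (tt N17911 D17943) (tt N11834 (iv D14907)) (tt N17912 D17944) (tt N11837 F25791))
theorem Q14882 : ∀ i, i < 14882 → P i := stepQ 14881 Q14881 (allL N14881 (tt N11861 F25792) (tt N17912 (iv F32285)) (tt N11860 F25793) (tt N12361 F25794) (tt N11835 (iv D14908)) (tt N12362 F25795))
theorem Q14883 : ∀ i, i < 14883 → P i := stepQ 14882 Q14882 (allL N14882 (tt N11837 F25796) (tt N11862 F25797) (tt N17913 D17945) (tt N11836 (iv D14909)) (tt N12367 F25798) (tt N16578 (iv F29486)))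
theorem Q14884 : ∀ i, i < 14884 → P i := stepQ 14883 Q14883 (allL N14883 (tt N17913 (iv F32288)) (tt N17914 D17946) (tt N11837 (iv D14910)) (tt N17915 D17947) (tt N12371 F25799) (tt N17911 (iv F32284)))
theorem Q14885 : ∀ i, i < 14885 → P i := stepQ 14884 Q14884 (allL N14884 (tt N17916 D17948) (tt N11838 (iv D14911)) (tt N17914 (iv F32290)) (tt N11857 F25800) (tt N12372 F25801) (tt N11859 F25802))
theorem Q14886 : ∀ i, i < 14886 → P i := stepQ 14885 Q14885 (allL N14885 (tt N11839 (iv D14912)) (tt N15711 (iv F27644)) (tt N11848 F25803) (tt N17917 D17949) (tt N11843 F25804) (tt N12274 F25805))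
theorem Q14887 : ∀ i, i < 14887 → P i := stepQ 14886 Q14886 (allL N14886 (tt N17917 (iv F32297)) (tt N11840 F25806) (tt N17918 D17950) (tt N11839 (iv D14913)) (tt N17919 D17951) (tt N12277 F25807))
theorem Q14888 : ∀ i, i < 14888 → P i := stepQ 14887 Q14887 (allL N14887 (tt N15715 (iv F27656)) (tt N17919 (iv F32303)) (tt N16876 (iv F30156)) (tt N11846 F25808) (tt N11840 (iv D14914)) (tt N17920 D17952))
theorem Q14889 : ∀ i, i < 14889 → P i := stepQ 14888 Q14888 (allL N14888 (tt N15717 (iv F27662)) (tt N12278 F25809) (tt N11842 F25810) (tt N17921 D17953) (tt N11841 (iv D14915)) (tt N11847 F25811))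
theorem Q14890 : ∀ i, i < 14890 → P i := stepQ 14889 Q14889 (allL N14889 (tt N11844 F25812) (tt N15718 (iv F27666)) (tt N17922 D17954) (tt N11843 (iv D14916)) (tt N17923 D17955) (tt N15725 (iv F27682)))
theorem Q14891 : ∀ i, i < 14891 → P i := stepQ 14890 Q14890 (allL N14890 (tt N11845 F25813) (tt N15719 (iv F27669)) (tt N11850 F25814) (tt N15725 (iv F27681)) (tt N17924 D17956) (tt N11843 (iv D14917)))
theorem Q14892 : ∀ i, i < 14892 → P i := stepQ 14891 Q14891 (allL N14891 (tt N17922 (iv F32311)) (tt N15674 (iv F27574)) (tt N11844 (iv D14918)) (tt N17925 D17957) (tt N17926 D17958) (tt N15672 F27573))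
theorem Q14893 : ∀ i, i < 14893 → P i := stepQ 14892 Q14892 (allL N14892 (tt N17923 (iv F32312)) (tt N11846 F25815) (tt N17926 (iv F32316)) (tt N17919 (iv F32304)) (tt N11844 (iv D14919)) (tt N17927 D17959))
theorem Q14894 : ∀ i, i < 14894 → P i := stepQ 14893 Q14893 (allL N14893 (tt N17924 (iv F32313)) (tt N11847 F25816) (tt N11853 F25817) (tt N17928 D17960) (tt N11845 (iv D14920)) (tt N12278 F25818))
theorem Q14895 : ∀ i, i < 14895 → P i := stepQ 14894 Q14894 (allL N14894 (tt N15723 (iv F27675)) (tt N17927 (iv F32317)) (tt N15729 (iv F27690)) (tt N17920 (iv F32305)) (tt N15728 (iv F27688)) (tt N11846 (iv D14921)))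
theorem Q14896 : ∀ i, i < 14896 → P i := stepQ 14895 Q14895 (allL N14895 (tt N15724 (iv F27678)) (tt N17928 (iv F32318)) (tt N17929 D17961) (tt N11847 (iv D14922)) (tt N15727 (iv F27685)) (tt N17921 (iv F32309)))
theorem Q14897 : ∀ i, i < 14897 → P i := stepQ 14896 Q14896 (allL N14896 (tt N11851 F25819) (tt N17930 D17962) (tt N11849 (iv D14923)) (tt N17931 D17963) (tt N15443 F27065) (tt N17847 (iv F32177)))
theorem Q14898 : ∀ i, i < 14898 → P i := stepQ 14897 Q14897 (allL N14897 (tt N11852 F25820) (tt N17896 (iv F32259)) (tt N15443 (iv F27064)) (tt N12276 F25821) (tt N11849 (iv D14924)) (tt N17932 D17964))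
theorem Q14899 : ∀ i, i < 14899 → P i := stepQ 14898 Q14898 (allL N14898 (tt N11853 F25822) (tt N17895 (iv F32256)) (tt N17924 (iv F32314)) (tt N17933 D17965) (tt N11850 (iv D14925)) (tt N12275 F25823))
theorem Q14900 : ∀ i, i < 14900 → P i := stepQ 14899 Q14899 (allL N14899 (tt N17931 (iv F32324)) (tt N14492 (iv F25828)) (tt N17934 D17966) (tt N11851 (iv D14926)) (tt N14490 F25827) (tt N17848 (iv F32179)))
theorem Q14901 : ∀ i, i < 14901 → P i := stepQ 14900 Q14900 (allL N14900 (tt N15443 (iv F27063)) (tt N14493 F25826) (tt N11852 F25824) (tt N14491 (iv F25825)) (tt N11851 (iv D14927)) (tt N17935 D17967))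
theorem Q14902 : ∀ i, i < 14902 → P i := stepQ 14901 Q14901 (allL N14901 (tt N17932 (iv F32326)) (tt N11854 F25833) (tt N17935 (iv F32332)) (tt N12268 F25834) (tt N17706 (iv F31865)) (tt N11852 (iv D14928)))
theorem Q14903 : ∀ i, i < 14903 → P i := stepQ 14902 Q14902 (allL N14902 (tt N17933 (iv F32328)) (tt N11855 F25835) (tt N17936 D17968) (tt N11853 (iv D14929)) (tt N17707 (iv F31869)) (tt N12267 F25836))
theorem Q14904 : ∀ i, i < 14904 → P i := stepQ 14903 Q14903 (allL N14903 (tt N17937 D17969) (tt N11856 (iv D14930)) (tt N12008 F25837) (tt N17938 D17970) (tt N11857 F25838) (tt N16950 (iv F30300)))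
theorem Q14905 : ∀ i, i < 14905 → P i := stepQ 14904 Q14904 (allL N14904 (tt N16957 (iv F30321)) (tt N17938 (iv F32337)) (tt N17689 (iv F31830)) (tt N11856 (iv D14931)) (tt N12373 F25839) (tt N16951 (iv F30303)))
theorem Q14906 : ∀ i, i < 14906 → P i := stepQ 14905 Q14905 (allL N14905 (tt N11857 (iv D14932)) (tt N16953 (iv F30309)) (tt N12005 F25840) (tt N17916 (iv F32294)) (tt N17937 (iv F32336)) (tt N11858 F25841))
theorem Q14907 : ∀ i, i < 14907 → P i := stepQ 14906 Q14906 (allL N14906 (tt N11859 F25842) (tt N16952 (iv F30306)) (tt N17939 D17971) (tt N11858 (iv D14933)) (tt N17940 D17972) (tt N17916 (iv F32296)))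
theorem Q14908 : ∀ i, i < 14908 → P i := stepQ 14907 Q14907 (allL N14907 (tt N17939 (iv F32339)) (tt N17911 (iv F32283)) (tt N11859 (iv D14934)) (tt N17941 D17973) (tt N17942 D17974) (tt N17914 (iv F32292)))
theorem Q14909 : ∀ i, i < 14909 → P i := stepQ 14908 Q14908 (allL N14908 (tt N17940 (iv F32341)) (tt N11860 F25843) (tt N17942 (iv F32344)) (tt N16820 (iv F30054)) (tt N11859 (iv D14935)) (tt N17943 D17975))
theorem Q14910 : ∀ i, i < 14910 → P i := stepQ 14909 Q14909 (allL N14909 (tt N16956 (iv F30317)) (tt N17943 (iv F32345)) (tt N12362 F25844) (tt N16821 (iv F30057)) (tt N12363 F25845) (tt N11860 (iv D14936)))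
theorem Q14911 : ∀ i, i < 14911 → P i := stepQ 14910 Q14910 (allL N14910 (tt N12362 F25846) (tt N16582 (iv F29492)) (tt N16956 (iv F30318)) (tt N12323 F25847) (tt N11867 F25848) (tt N11861 (iv D14937)))
theorem Q14912 : ∀ i, i < 14912 → P i := stepQ 14911 Q14911 (allL N14911 (tt N11864 F25849) (tt N12367 F25850) (tt N16564 (iv F29468)) (tt N11869 F25851) (tt N11862 (iv D14938)) (tt N17944 D17976))
theorem Q14913 : ∀ i, i < 14913 → P i := stepQ 14912 Q14912 (allL N14912 (tt N17945 D17977) (tt N11863 (iv D14939)) (tt N11865 F25852) (tt N16558 (iv F29458)) (tt N17946 D17978) (tt N16580 (iv F29490)))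
theorem Q14914 : ∀ i, i < 14914 → P i := stepQ 14913 Q14913 (allL N14913 (tt N16564 (iv F29467)) (tt N17946 (iv F32351)) (tt N11864 F25853) (tt N17947 D17979) (tt N11863 (iv D14940)) (tt N17948 D17980))
theorem Q14915 : ∀ i, i < 14915 → P i := stepQ 14914 Q14914 (allL N14914 (tt N17944 (iv F32347)) (tt N11867 F25854) (tt N17948 (iv F32353)) (tt N11871 F25855) (tt N16582 (iv F29494)) (tt N11864 (iv D14941)))
theorem Q14916 : ∀ i, i < 14916 → P i := stepQ 14915 Q14915 (allL N14915 (tt N11865 (iv D14942)) (tt N17916 (iv F32293)) (tt N17945 (iv F32350)) (tt N16953 (iv F30311)) (tt N17949 D17981) (tt N16952 F30307))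
theorem Q14917 : ∀ i, i < 14917 → P i := stepQ 14916 Q14916 (allL N14916 (tt N17949 (iv F32354)) (tt N11866 F25856) (tt N17946 (iv F32352)) (tt N17709 (iv F31875)) (tt N11865 (iv D14943)) (tt N17711 (iv F31879)))
theorem Q14918 : ∀ i, i < 14918 → P i := stepQ 14917 Q14917 (allL N14917 (tt N11870 F25857) (tt N12867 F25858) (tt N11869 F25859) (tt N17950 D17982) (tt N11868 (iv D14944)) (tt N17951 D17983))
theorem Q14919 : ∀ i, i < 14919 → P i := stepQ 14918 Q14918 (allL N14918 (tt N11871 F25860) (tt N12351 F25861) (tt N17951 (iv F32362)) (tt N17944 (iv F32349)) (tt N12320 F25862) (tt N11869 (iv D14945)))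
theorem Q14920 : ∀ i, i < 14920 → P i := stepQ 14919 Q14919 (allL N14919 (tt N17950 (iv F32356)) (tt N12319 F25863) (tt N17952 D17984) (tt N11870 (iv D14946)) (tt N17809 (iv F32103)) (tt N17953 D17985))
theorem Q14921 : ∀ i, i < 14921 → P i := stepQ 14920 Q14920 (allL N14920 (tt N17951 (iv F32360)) (tt N12316 F25864) (tt N11871 F25865) (tt N17953 (iv F32370)) (tt N12312 F25866) (tt N11870 (iv D14947)))
theorem Q14922 : ∀ i, i < 14922 → P i := stepQ 14921 Q14921 (allL N14921 (tt N11872 (iv D14948)) (tt N15725 (iv F27680)) (tt N16324 (iv F28954)) (tt N15719 (iv F27670)) (tt N17954 D17986) (tt N15718 F27667))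
theorem Q14923 : ∀ i, i < 14923 → P i := stepQ 14922 Q14922 (allL N14922 (tt N17954 (iv F32372)) (tt N11873 F25867) (tt N16322 (iv F28946)) (tt N17955 D17987) (tt N11872 (iv D14949)) (tt N17956 D17988))
theorem Q14924 : ∀ i, i < 14924 → P i := stepQ 14923 Q14923 (allL N14923 (tt N15727 (iv F27684)) (tt N17955 (iv F32373)) (tt N14573 F25868) (tt N11873 (iv D14950)) (tt N15724 (iv F27679)) (tt N14572 (iv F25869)))
theorem Q14925 : ∀ i, i < 14925 → P i := stepQ 14924 Q14924 (allL N14924 (tt N15728 (iv F27686)) (tt N17956 (iv F32375)) (tt N11874 F25870) (tt N14572 F25871) (tt N15723 (iv F27677)) (tt N11873 (iv D14951)))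
theorem Q14926 : ∀ i, i < 14926 → P i := stepQ 14925 Q14925 (allL N14925 (tt N15729 (iv F27689)) (tt N16323 (iv F28951)) (tt N15723 (iv F27676)) (tt N16263 (iv F28785)) (tt N11874 (iv D14952)) (tt N11875 F25872))
theorem Q14927 : ∀ i, i < 14927 → P i := stepQ 14926 Q14926 (allL N14926 (tt N16343 (iv F29008)) (tt N11878 F25873) (tt N16337 (iv F28986)) (tt N17957 D17989) (tt N11876 (iv D14953)) (tt N15960 (iv F28149)))
theorem Q14928 : ∀ i, i < 14928 → P i := stepQ 14927 Q14927 (allL N14927 (tt N11880 F25874) (tt N16538 (iv F29420)) (tt N12317 F25875) (tt N17650 (iv F31738)) (tt N11877 (iv D14954)) (tt N17648 (iv F31733)))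
theorem Q14929 : ∀ i, i < 14929 → P i := stepQ 14928 Q14928 (allL N14928 (tt N11881 F25876) (tt N17957 (iv F32379)) (tt N15973 (iv F28183)) (tt N11878 (iv D14955)) (tt N17650 F31739) (tt N15962 (iv F28153)))
theorem Q14930 : ∀ i, i < 14930 → P i := stepQ 14929 Q14929 (allL N14929 (tt N17650 (iv F31735)) (tt N16368 (iv F29084)) (tt N17646 (iv F31726)) (tt N11880 (iv D14956)) (tt N11881 F25877) (tt N17644 F31722))
theorem Q14931 : ∀ i, i < 14931 → P i := stepQ 14930 Q14930 (allL N14930 (tt N17648 (iv F31731)) (tt N16362 (iv F29065)) (tt N12740 F25878) (tt N17644 (iv F31721)) (tt N16353 (iv F29047)) (tt N11880 (iv D14957)))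
theorem Q14932 : ∀ i, i < 14932 → P i := stepQ 14931 Q14931 (allL N14931 (tt N15973 (iv F28180)) (tt N17958 D17990) (tt N11881 (iv D14958)) (tt N15968 (iv F28167)) (tt N17646 F31728) (tt N15967 (iv F28164)))
theorem Q14933 : ∀ i, i < 14933 → P i := stepQ 14932 Q14932 (allL N14932 (tt N11906 F25879) (tt N17959 D17991) (tt N11884 (iv D14959)) (tt N12122 F25880) (tt N11885 F25881) (tt N12115 F25882))
theorem Q14934 : ∀ i, i < 14934 → P i := stepQ 14933 Q14933 (allL N14933 (tt N17960 D17992) (tt N11885 (iv D14960)) (tt N12794 F25883) (tt N14052 F25884) (tt N17959 (iv F32386)) (tt N15597 F27414))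
theorem Q14935 : ∀ i, i < 14935 → P i := stepQ 14934 Q14934 (allL N14934 (tt N11886 (iv D14961)) (tt N12493 F25885) (tt N11898 F25886) (tt N17961 D17993) (tt N11888 F25887) (tt N14024 F25888))
theorem Q14936 : ∀ i, i < 14936 → P i := stepQ 14935 Q14935 (allL N14935 (tt N17961 (iv F32390)) (tt N11887 F25889) (tt N17962 D17994) (tt N11886 (iv D14962)) (tt N17963 D17995) (tt N14028 F25890))
theorem Q14937 : ∀ i, i < 14937 → P i := stepQ 14936 Q14936 (allL N14936 (tt N12188 F25891) (tt N17963 (iv F32394)) (tt N15589 (iv F27396)) (tt N11890 F25892) (tt N11887 (iv D14963)) (tt N14088 F25893))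
theorem Q14938 : ∀ i, i < 14938 → P i := stepQ 14937 Q14937 (allL N14937 (tt N11889 F25894) (tt N12186 F25895) (tt N17964 D17996) (tt N11888 (iv D14964)) (tt N17965 D17997) (tt N12182 F25896))
theorem Q14939 : ∀ i, i < 14939 → P i := stepQ 14938 Q14938 (allL N14938 (tt N17964 (iv F32397)) (tt N12181 F25897) (tt N11889 (iv D14965)) (tt N17964 (iv F32399)) (tt N17966 D17998) (tt N12183 F25898))
theorem Q14940 : ∀ i, i < 14940 → P i := stepQ 14939 Q14939 (allL N14939 (tt N17965 (iv F32401)) (tt N11890 F25899) (tt N17966 (iv F32404)) (tt N17963 (iv F32395)) (tt N11889 (iv D14966)) (tt N17967 D17999))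
theorem Q14941 : ∀ i, i < 14941 → P i := stepQ 14940 Q14940 (allL N14940 (tt N12189 F25900) (tt N17967 (iv F32405)) (tt N12170 F25901) (tt N14088 F25902) (tt N12185 F25903) (tt N11890 (iv D14967)))
theorem Q14942 : ∀ i, i < 14942 → P i := stepQ 14941 Q14941 (allL N14941 (tt N15678 (iv F27582)) (tt N11891 (iv D14968)) (tt N12801 F25904) (tt N15319 (iv F26816)) (tt N12788 F25905) (tt N15323 (iv F26827)))
theorem Q14943 : ∀ i, i < 14943 → P i := stepQ 14942 Q14942 (allL N14942 (tt N11895 F25906) (tt N15323 (iv F26826)) (tt N11892 F25907) (tt N15322 F26825) (tt N17968 D18000) (tt N11891 (iv D14969)))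
theorem Q14944 : ∀ i, i < 14944 → P i := stepQ 14943 Q14943 (allL N14943 (tt N11896 F25908) (tt N12803 F25909) (tt N17968 (iv F32409)) (tt N12762 F25910) (tt N11892 (iv D14970)) (tt N12763 F25911))
theorem Q14945 : ∀ i, i < 14945 → P i := stepQ 14944 Q14944 (allL N14944 (tt N11893 (iv D14971)) (tt N15678 (iv F27583)) (tt N11897 F25912) (tt N17099 (iv F30584)) (tt N12797 F25913) (tt N12809 F25914))
theorem Q14946 : ∀ i, i < 14946 → P i := stepQ 14945 Q14945 (allL N14945 (tt N17099 (iv F30582)) (tt N11894 F25915) (tt N17095 (iv F30572)) (tt N11893 (iv D14972)) (tt N17969 D18001) (tt N12812 F25916))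
theorem Q14947 : ∀ i, i < 14947 → P i := stepQ 14946 Q14946 (allL N14946 (tt N15358 (iv F26892)) (tt N17969 (iv F32411)) (tt N15357 (iv F26891)) (tt N12800 F25917) (tt N11894 (iv D14973)) (tt N17970 D18002))
theorem Q14948 : ∀ i, i < 14948 → P i := stepQ 14947 Q14947 (allL N14947 (tt N15322 (iv F26822)) (tt N12812 F25918) (tt N15324 (iv F26829)) (tt N11895 F25919) (tt N17971 D18003) (tt N11894 (iv D14974)))
theorem Q14949 : ∀ i, i < 14949 → P i := stepQ 14948 Q14948 (allL N14948 (tt N17968 (iv F32408)) (tt N12813 F25920) (tt N11896 F25921) (tt N17972 D18004) (tt N11895 (iv D14975)) (tt N12775 F25922))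
theorem Q14950 : ∀ i, i < 14950 → P i := stepQ 14949 Q14949 (allL N14949 (tt N16382 (iv F29115)) (tt N12790 F25923) (tt N17973 D18005) (tt N11899 (iv D14976)) (tt N16380 (iv F29113)) (tt N17974 D18006))
theorem Q14951 : ∀ i, i < 14951 → P i := stepQ 14950 Q14950 (allL N14950 (tt N16434 (iv F29207)) (tt N12791 F25924) (tt N11900 F25925) (tt N17974 (iv F32418)) (tt N16455 (iv F29265)) (tt N11899 (iv D14977)))
theorem Q14952 : ∀ i, i < 14952 → P i := stepQ 14951 Q14951 (allL N14951 (tt N12173 F25926) (tt N12183 F25927) (tt N11901 (iv D14978)) (tt N17975 D18007) (tt N17976 D18008) (tt N12181 F25928))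
theorem Q14953 : ∀ i, i < 14953 → P i := stepQ 14952 Q14952 (allL N14952 (tt N12174 F25929) (tt N11902 F25930) (tt N17976 (iv F32425)) (tt N12390 F25931) (tt N11901 (iv D14979)) (tt N17977 D18009))
theorem Q14954 : ∀ i, i < 14954 → P i := stepQ 14953 Q14953 (allL N14953 (tt N11908 F25932) (tt N17977 (iv F32427)) (tt N12185 F25933) (tt N12169 F25934) (tt N12170 F25935) (tt N11902 (iv D14980)))
theorem Q14955 : ∀ i, i < 14955 → P i := stepQ 14954 Q14954 (allL N14954 (tt N11904 F25936) (tt N12784 F25937) (tt N17978 D18010) (tt N11903 (iv D14981)) (tt N12783 F25938) (tt N17979 D18011))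
theorem Q14956 : ∀ i, i < 14956 → P i := stepQ 14955 Q14955 (allL N14955 (tt N11905 F25939) (tt N12785 F25940) (tt N16437 (iv F29219)) (tt N17979 (iv F32434)) (tt N16464 (iv F29283)) (tt N11903 (iv D14982)))
theorem Q14957 : ∀ i, i < 14957 → P i := stepQ 14956 Q14956 (allL N14956 (tt N17978 (iv F32430)) (tt N17980 D18012) (tt N11904 (iv D14983)) (tt N17981 D18013) (tt N16910 (iv F30216)) (tt N17982 D18014))
theorem Q14958 : ∀ i, i < 14958 → P i := stepQ 14957 Q14957 (allL N14957 (tt N17979 (iv F32432)) (tt N11907 F25941) (tt N17982 (iv F32438)) (tt N11905 F25942) (tt N15583 (iv F27384)) (tt N11904 (iv D14984)))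
theorem Q14959 : ∀ i, i < 14959 → P i := stepQ 14958 Q14958 (allL N14958 (tt N17983 D18015) (tt N11906 (iv D14985)) (tt N17980 (iv F32435)) (tt N12903 F25943) (tt N16911 (iv F30218)) (tt N12905 F25944))
theorem Q14960 : ∀ i, i < 14960 → P i := stepQ 14959 Q14959 (allL N14959 (tt N12293 F25945) (tt N11909 (iv D14986)) (tt N11915 F25946) (tt N13697 (iv F25949)) (tt N12897 F25947) (tt N12324 F25948))
theorem Q14961 : ∀ i, i < 14961 → P i := stepQ 14960 Q14960 (allL N14960 (tt N11914 F25950) (tt N13697 F25951) (tt N11914 F25952) (tt N11909 (iv D14987)) (tt N17470 (iv F31339)) (tt N12325 F25953))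
theorem Q14962 : ∀ i, i < 14962 → P i := stepQ 14961 Q14961 (allL N14961 (tt N12893 F25954) (tt N17984 D18016) (tt N11910 (iv D14988)) (tt N17985 D18017) (tt N16474 (iv F29301)) (tt N17986 D18018))
theorem Q14963 : ∀ i, i < 14963 → P i := stepQ 14962 Q14962 (allL N14962 (tt N12894 F25955) (tt N16133 (iv F28555)) (tt N17986 (iv F32445)) (tt N11911 F25956) (tt N17987 D18019) (tt N11910 (iv D14989)))
theorem Q14964 : ∀ i, i < 14964 → P i := stepQ 14963 Q14963 (allL N14963 (tt N12898 F25957) (tt N12296 F25958) (tt N17988 D18020) (tt N11912 (iv D14990)) (tt N17474 (iv F31351)) (tt N17989 D18021))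
theorem Q14965 : ∀ i, i < 14965 → P i := stepQ 14964 Q14964 (allL N14964 (tt N12899 F25959) (tt N12297 F25960) (tt N11913 F25961) (tt N17989 (iv F32454)) (tt N12330 F25962) (tt N11912 (iv D14991)))
theorem Q14966 : ∀ i, i < 14966 → P i := stepQ 14965 Q14965 (allL N14965 (tt N11915 (iv D14992)) (tt N11917 F25963) (tt N12293 F25964) (tt N12391 F25965) (tt N12900 F25966) (tt N12374 F25967))
theorem Q14967 : ∀ i, i < 14967 → P i := stepQ 14966 Q14966 (allL N14966 (tt N11916 (iv D14993)) (tt N12900 F25968) (tt N11928 F25969) (tt N17774 (iv F32018)) (tt N11917 F25970) (tt N17773 F32015))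
theorem Q14968 : ∀ i, i < 14968 → P i := stepQ 14967 Q14967 (allL N14967 (tt N11918 F25971) (tt N12391 F25972) (tt N13932 F25974) (tt N11917 (iv D14994)) (tt N17990 D18022) (tt N12377 F25973))
theorem Q14969 : ∀ i, i < 14969 → P i := stepQ 14968 Q14968 (allL N14968 (tt N13932 F25975) (tt N12389 F25976) (tt N11918 (iv D14995)) (tt N14016 F25977) (tt N17991 D18023) (tt N12379 F25978))
theorem Q14970 : ∀ i, i < 14970 → P i := stepQ 14969 Q14969 (allL N14969 (tt N17990 (iv F32455)) (tt N11919 F25979) (tt N17991 (iv F32460)) (tt N15338 (iv F26862)) (tt N11918 (iv D14996)) (tt N15330 (iv F26848)))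
theorem Q14971 : ∀ i, i < 14971 → P i := stepQ 14970 Q14970 (allL N14970 (tt N11922 F25980) (tt N17992 D18024) (tt N11920 (iv D14997)) (tt N14185 F25981) (tt N16125 (iv F28534)) (tt N14184 (iv F25982)))
theorem Q14972 : ∀ i, i < 14972 → P i := stepQ 14971 Q14971 (allL N14971 (tt N11923 F25983) (tt N16128 (iv F28541)) (tt N14184 F25984) (tt N11921 F25985) (tt N17993 D18025) (tt N11920 (iv D14998)))
theorem Q14973 : ∀ i, i < 14973 → P i := stepQ 14972 Q14972 (allL N14972 (tt N17994 D18026) (tt N11922 (iv D14999)) (tt N11924 F25986) (tt N14190 F25987) (tt N17853 (iv F32194)) (tt N14189 F25988))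
theorem Q14974 : ∀ i, i < 14974 → P i := stepQ 14973 Q14973 (allL N14973 (tt N17993 (iv F32463)) (tt N11927 F25989) (tt N14191 F25990) (tt N17846 (iv F32174)) (tt N11923 (iv D15000)) (tt N17851 (iv F32189)))
theorem Q14975 : ∀ i, i < 14975 → P i := stepQ 14974 Q14974 (allL N14974 (tt N11924 (iv D15001)) (tt N17893 (iv F32250)) (tt N17994 (iv F32465)) (tt N17995 D18027) (tt N17855 (iv F32199)) (tt N17996 D18028))
theorem Q14976 : ∀ i, i < 14976 → P i := stepQ 14975 Q14975 (allL N14975 (tt N17995 (iv F32468)) (tt N11925 F25991) (tt N17508 (iv F31437)) (tt N11924 (iv D15002)) (tt N17997 D18029) (tt N12292 (iv F25992)))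
theorem Q14977 : ∀ i, i < 14977 → P i := stepQ 14976 Q14976 (allL N14976 (tt N17996 (iv F32471)) (tt N11926 F25993) (tt N14189 F25994) (tt N12292 F25995) (tt N17998 D18030) (tt N11924 (iv D15003)))
theorem Q14978 : ∀ i, i < 14978 → P i := stepQ 14977 Q14977 (allL N14977 (tt N12285 F25996) (tt N17997 (iv F32475)) (tt N12286 F25997) (tt N12347 F25998) (tt N11925 (iv D15004)) (tt N12244 F25999))
theorem Q14979 : ∀ i, i < 14979 → P i := stepQ 14978 Q14978 (allL N14978 (tt N12280 F26000) (tt N17998 (iv F32480)) (tt N11927 F26001) (tt N12240 F26002) (tt N11926 (iv D15005)) (tt N12348 F26003))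
theorem Q14980 : ∀ i, i < 14980 → P i := stepQ 14979 Q14979 (allL N14979 (tt N11929 F26004) (tt N12287 F26005) (tt N17999 D18031) (tt N11928 (iv D15006)) (tt N12247 F26006) (tt N18000 D18032))
theorem Q14981 : ∀ i, i < 14981 → P i := stepQ 14980 Q14980 (allL N14980 (tt N11930 F26007) (tt N12295 F26008) (tt N17773 F32014) (tt N18000 (iv F32489)) (tt N12382 F26009) (tt N11928 (iv D15007)))
theorem Q14982 : ∀ i, i < 14982 → P i := stepQ 14981 Q14981 (allL N14981 (tt N17999 (iv F32484)) (tt N18001 D18033) (tt N11929 (iv D15008)) (tt N18002 D18034) (tt N12248 F26010) (tt N18003 D18035))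
theorem Q14983 : ∀ i, i < 14983 → P i := stepQ 14982 Q14982 (allL N14982 (tt N18000 (iv F32487)) (tt N11932 F26011) (tt N18003 (iv F32494)) (tt N11930 F26012) (tt N18004 D18036) (tt N11929 (iv D15009)))
theorem Q14984 : ∀ i, i < 14984 → P i := stepQ 14983 Q14983 (allL N14983 (tt N18005 D18037) (tt N11931 (iv D15010)) (tt N18001 (iv F32492)) (tt N17892 (iv F32247)) (tt N12249 F26013) (tt N17894 (iv F32253)))
theorem Q14985 : ∀ i, i < 14985 → P i := stepQ 14984 Q14984 (allL N14984 (tt N12286 F26014) (tt N18004 (iv F32496)) (tt N12285 F26015) (tt N12388 F26016) (tt N11932 (iv D15011)) (tt N12246 F26017))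
theorem Q14986 : ∀ i, i < 14986 → P i := stepQ 14985 Q14985 (allL N14985 (tt N12814 F26018) (tt N18006 D18038) (tt N11935 (iv D15012)) (tt N18007 D18039) (tt N11937 F26019) (tt N18008 D18040))
theorem Q14987 : ∀ i, i < 14987 → P i := stepQ 14986 Q14986 (allL N14986 (tt N12815 F26020) (tt N11939 F26021) (tt N18008 (iv F32506)) (tt N11936 F26022) (tt N11954 F26023) (tt N11935 (iv D15013)))
theorem Q14988 : ∀ i, i < 14988 → P i := stepQ 14987 Q14987 (allL N14987 (tt N18009 D18041) (tt N11937 (iv D15014)) (tt N11940 F26024) (tt N18010 D18042) (tt N18006 (iv F32503)) (tt N11955 F26025))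
theorem Q14989 : ∀ i, i < 14989 → P i := stepQ 14988 Q14988 (allL N14988 (tt N12892 F26026) (tt N18010 (iv F32513)) (tt N11972 F26027) (tt N11937 (iv D15015)) (tt N18011 D18043) (tt N11956 F26028))
theorem Q14990 : ∀ i, i < 14990 → P i := stepQ 14989 Q14989 (allL N14989 (tt N18012 D18044) (tt N11938 (iv D15016)) (tt N18006 (iv F32502)) (tt N18013 D18045) (tt N11940 F26029) (tt N18014 D18046))
theorem Q14991 : ∀ i, i < 14991 → P i := stepQ 14990 Q14990 (allL N14990 (tt N11946 F26030) (tt N18013 (iv F32519)) (tt N18015 D18047) (tt N11938 (iv D15017)) (tt N11946 F26031) (tt N18016 D18048))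
theorem Q14992 : ∀ i, i < 14992 → P i := stepQ 14991 Q14991 (allL N14991 (tt N11947 F26032) (tt N18014 (iv F32521)) (tt N11939 F26033) (tt N18016 (iv F32529)) (tt N11959 F26034) (tt N11938 (iv D15018)))
theorem Q14993 : ∀ i, i < 14993 → P i := stepQ 14992 Q14992 (allL N14992 (tt N11940 (iv D15019)) (tt N11948 F26035) (tt N18009 (iv F32509)) (tt N11948 F26036) (tt N18012 (iv F32518)) (tt N11960 F26037))
theorem Q14994 : ∀ i, i < 14994 → P i := stepQ 14993 Q14993 (allL N14993 (tt N17865 (iv F32216)) (tt N18017 D18049) (tt N11941 (iv D15020)) (tt N18018 D18050) (tt N16481 (iv F29314)) (tt N18019 D18051))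
theorem Q14995 : ∀ i, i < 14995 → P i := stepQ 14994 Q14994 (allL N14994 (tt N17866 (iv F32217)) (tt N11944 F26038) (tt N18019 (iv F32531)) (tt N11942 F26039) (tt N18020 D18052) (tt N11941 (iv D15021)))
theorem Q14996 : ∀ i, i < 14996 → P i := stepQ 14995 Q14995 (allL N14995 (tt N18021 D18053) (tt N11943 (iv D15022)) (tt N18017 (iv F32530)) (tt N15951 (iv F34308)) (tt N16485 (iv F29325)) (tt N18022 D18055))
theorem Q14997 : ∀ i, i < 14997 → P i := stepQ 14996 Q14996 (allL N14996 (tt N16508 (iv F29368)) (tt N15951 (iv F34307)) (tt N18016 (iv F32528)) (tt N11943 (iv D15023)) (tt N15950 (iv F34306)) (tt N18015 F32526))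
theorem Q14998 : ∀ i, i < 14998 → P i := stepQ 14997 Q14997 (allL N14997 (tt N16506 (iv F29364)) (tt N18022 (iv F32535)) (tt N11944 F26040) (tt N18015 (iv F32524)) (tt N18023 D18057) (tt N11943 (iv D15024)))
theorem Q14999 : ∀ i, i < 14999 → P i := stepQ 14998 Q14998 (allL N14998 (tt N16505 (iv F29361)) (tt N18020 (iv F32532)) (tt N18023 (iv F32536)) (tt N12896 F26041) (tt N11944 (iv D15025)) (tt N16483 (iv F29321)))
theorem Q15000 : ∀ i, i < 15000 → P i := stepQ 14999 Q14999 (allL N14999 (tt N11945 (iv D15026)) (tt N18012 (iv F32517)) (tt N12904 F26042) (tt N18024 D18058) (tt N11948 F26043) (tt N18025 D18059))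
theorem Q15001 : ∀ i, i < 15001 → P i := stepQ 15000 Q15000 (allL N15000 (tt N18024 (iv F32537)) (tt N11946 F26044) (tt N15995 (iv F28252)) (tt N11945 (iv D15027)) (tt N18013 (iv F32520)) (tt N15994 F28251))
theorem Q15002 : ∀ i, i < 15002 → P i := stepQ 15001 Q15001 (allL N15001 (tt N18025 (iv F32538)) (tt N11947 F26045) (tt N12903 F26046) (tt N15994 (iv F28250)) (tt N11968 F26047) (tt N11945 (iv D15028)))
theorem Q15003 : ∀ i, i < 15003 → P i := stepQ 15002 Q15002 (allL N15002 (tt N18015 (iv F32523)) (tt N18026 D18060) (tt N11946 (iv D15029)) (tt N16506 (iv F29366)) (tt N18015 (iv F32525)) (tt N16508 (iv F29369)))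
theorem Q15004 : ∀ i, i < 15004 → P i := stepQ 15003 Q15003 (allL N15003 (tt N18016 (iv F32527)) (tt N15994 (iv F28248)) (tt N16508 (iv F29370)) (tt N11947 F26048) (tt N15993 F28247) (tt N11946 (iv D15030)))
theorem Q15005 : ∀ i, i < 15005 → P i := stepQ 15004 Q15004 (allL N15004 (tt N12324 F26049) (tt N11949 (iv D15031)) (tt N12374 F26050) (tt N12303 F26051) (tt N17526 (iv F31472)) (tt N12293 F26052))
theorem Q15006 : ∀ i, i < 15006 → P i := stepQ 15005 Q15005 (allL N15005 (tt N12304 F26053) (tt N12328 F26054) (tt N12302 F26055) (tt N18027 D18061) (tt N11950 (iv D15032)) (tt N17476 (iv F31357)))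
theorem Q15007 : ∀ i, i < 15007 → P i := stepQ 15006 Q15006 (allL N15006 (tt N17527 (iv F31473)) (tt N12329 F26056) (tt N17203 (iv F30780)) (tt N11951 (iv D15033)) (tt N18027 (iv F32543)) (tt N17202 F30779))
theorem Q15008 : ∀ i, i < 15008 → P i := stepQ 15007 Q15007 (allL N15007 (tt N17528 (iv F31475)) (tt N12330 F26057) (tt N11952 F26058) (tt N17202 (iv F30777)) (tt N12297 F26059) (tt N11951 (iv D15034)))
theorem Q15009 : ∀ i, i < 15009 → P i := stepQ 15008 Q15008 (allL N15008 (tt N16621 (iv F29596)) (tt N17510 (iv F31441)) (tt N11954 F26060) (tt N17502 (iv F31413)) (tt N18008 (iv F32507)) (tt N11953 (iv D15035)))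
theorem Q15010 : ∀ i, i < 15010 → P i := stepQ 15009 Q15009 (allL N15009 (tt N11955 (iv D15036)) (tt N17759 (iv F31980)) (tt N11960 F26061) (tt N14065 (iv F26063)) (tt N14066 F26062) (tt N18009 (iv F32510)))
theorem Q15011 : ∀ i, i < 15011 → P i := stepQ 15010 Q15010 (allL N15010 (tt N14065 F26064) (tt N11956 F26065) (tt N15760 (iv F27756)) (tt N11955 (iv D15037)) (tt N14063 F26066) (tt N18010 (iv F32514)))
theorem Q15012 : ∀ i, i < 15012 → P i := stepQ 15011 Q15011 (allL N15011 (tt N12878 F26067) (tt N12452 (iv F26070)) (tt N11956 (iv D15038)) (tt N11973 F26068) (tt N15762 (iv F27764)) (tt N11972 F26069))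
theorem Q15013 : ∀ i, i < 15013 → P i := stepQ 15012 Q15012 (allL N15012 (tt N14057 (iv F26073)) (tt N14063 F26071) (tt N15762 (iv F27762)) (tt N14062 F26072) (tt N11956 (iv D15039)) (tt N15757 (iv F27752)))
theorem Q15014 : ∀ i, i < 15014 → P i := stepQ 15013 Q15013 (allL N15013 (tt N11957 (iv D15040)) (tt N11966 F26084) (tt N14066 F26085) (tt N15984 (iv F28221)) (tt N11960 F26086) (tt N15983 (iv F28217)))
theorem Q15015 : ∀ i, i < 15015 → P i := stepQ 15014 Q15014 (allL N15014 (tt N15984 (iv F28218)) (tt N11958 F26087) (tt N11962 F26089) (tt N11957 (iv D15041)) (tt N11967 F26088) (tt N11961 F26090))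
theorem Q15016 : ∀ i, i < 15016 → P i := stepQ 15015 Q15015 (allL N15015 (tt N15983 (iv F28215)) (tt N11959 F26091) (tt N17510 (iv F31442)) (tt N11961 F26092) (tt N18014 (iv F32522)) (tt N11957 (iv D15042)))
theorem Q15017 : ∀ i, i < 15017 → P i := stepQ 15016 Q15016 (allL N15016 (tt N11969 F26093) (tt N11964 F26094) (tt N11958 (iv D15043)) (tt N11964 F26095) (tt N11969 F26096) (tt N11963 (iv F26100)))
theorem Q15018 : ∀ i, i < 15018 → P i := stepQ 15017 Q15017 (allL N15017 (tt N11970 F26101) (tt N11961 F26102) (tt N11963 F26103) (tt N11959 F26104) (tt N15977 (iv F28193)) (tt N11958 (iv D15044)))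
theorem Q15019 : ∀ i, i < 15019 → P i := stepQ 15018 Q15018 (allL N15018 (tt N15985 (iv F28223)) (tt N11965 F26105) (tt N11967 F26106) (tt N16522 (iv F29391)) (tt N11962 (iv D15045)) (tt N15979 (iv F28205)))
theorem Q15020 : ∀ i, i < 15020 → P i := stepQ 15019 Q15019 (allL N15019 (tt N16276 (iv F28818)) (tt N11969 F26107) (tt N11965 F26108) (tt N16276 (iv F28821)) (tt N11964 (iv D15046)) (tt N16275 (iv F28817)))
theorem Q15021 : ∀ i, i < 15021 → P i := stepQ 15020 Q15020 (allL N15020 (tt N11967 F26109) (tt N15984 (iv F28219)) (tt N15985 (iv F28225)) (tt N11966 (iv D15047)) (tt N15984 (iv F28222)) (tt N15981 F28214))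
theorem Q15022 : ∀ i, i < 15022 → P i := stepQ 15021 Q15021 (allL N15021 (tt N11968 F26110) (tt N15983 (iv F28216)) (tt N17761 (iv F31988)) (tt N15981 F28213) (tt N18025 (iv F32540)) (tt N11966 (iv D15048)))
theorem Q15023 : ∀ i, i < 15023 → P i := stepQ 15022 Q15022 (allL N15022 (tt N15981 (iv F28210)) (tt N11970 F26111) (tt N15979 (iv F28203)) (tt N11968 F26112) (tt N15978 (iv F28200)) (tt N11967 (iv D15049)))
theorem Q15024 : ∀ i, i < 15024 → P i := stepQ 15023 Q15023 (allL N15023 (tt N15977 F28194) (tt N15978 (iv F28197)) (tt N16273 (iv F28804)) (tt N15993 (iv F28246)) (tt N11970 (iv D15050)) (tt N15977 F28195))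
theorem Q15025 : ∀ i, i < 15025 → P i := stepQ 15024 Q15024 (allL N15024 (tt N11971 (iv D15051)) (tt N17755 (iv F31963)) (tt N11975 F26113) (tt N18028 D18062) (tt N12063 F26114) (tt N12449 F26115))
theorem Q15026 : ∀ i, i < 15026 → P i := stepQ 15025 Q15025 (allL N15025 (tt N18028 (iv F32544)) (tt N11972 F26116) (tt N15763 (iv F27767)) (tt N11971 (iv D15052)) (tt N18029 D18063) (tt N12452 F26117))
theorem Q15027 : ∀ i, i < 15027 → P i := stepQ 15026 Q15026 (allL N15026 (tt N17757 (iv F31973)) (tt N18029 (iv F32550)) (tt N18011 (iv F32516)) (tt N12067 F26118) (tt N11972 (iv D15053)) (tt N18030 D18064))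
theorem Q15028 : ∀ i, i < 15028 → P i := stepQ 15027 Q15027 (allL N15027 (tt N12336 F26119) (tt N12453 F26120) (tt N11974 F26121) (tt N12335 (iv F26123)) (tt N11973 (iv D15054)) (tt N12069 F26122))
theorem Q15029 : ∀ i, i < 15029 → P i := stepQ 15028 Q15028 (allL N15028 (tt N11979 F26124) (tt N12432 F26125) (tt N11977 (iv D15055)) (tt N12553 F26128) (tt N12554 (iv F26127)) (tt N12440 F26126))
theorem Q15030 : ∀ i, i < 15030 → P i := stepQ 15029 Q15029 (allL N15029 (tt N11980 F26129) (tt N12451 F26130) (tt N12554 F26131) (tt N12666 F26132) (tt N11977 (iv D15056)) (tt N12696 F26133))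
theorem Q15031 : ∀ i, i < 15031 → P i := stepQ 15030 Q15030 (allL N15030 (tt N11981 F26134) (tt N12450 F26135) (tt N12888 F26136) (tt N12695 F26137) (tt N11978 (iv D15057)) (tt N12665 F26138))
theorem Q15032 : ∀ i, i < 15032 → P i := stepQ 15031 Q15031 (allL N15031 (tt N12553 F26139) (tt N12408 F26140) (tt N12521 F26143) (tt N11979 (iv D15058)) (tt N12520 (iv F26142)) (tt N12441 F26141))
theorem Q15033 : ∀ i, i < 15033 → P i := stepQ 15032 Q15032 (allL N15032 (tt N12554 F26144) (tt N12443 F26145) (tt N11980 F26146) (tt N12546 F26147) (tt N11979 (iv D15059)) (tt N12689 F26148))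
theorem Q15034 : ∀ i, i < 15034 → P i := stepQ 15033 Q15033 (allL N15033 (tt N11982 (iv D15060)) (tt N17736 (iv F31922)) (tt N14541 F26149) (tt N14554 (iv F26151)) (tt N17735 (iv F31920)) (tt N14539 F26150))
theorem Q15035 : ∀ i, i < 15035 → P i := stepQ 15034 Q15034 (allL N15034 (tt N14554 F26152) (tt N11983 F26153) (tt N14552 F26154) (tt N11982 (iv D15061)) (tt N18031 D18065) (tt N12854 F26155))
theorem Q15036 : ∀ i, i < 15036 → P i := stepQ 15035 Q15035 (allL N15035 (tt N17739 (iv F31935)) (tt N18031 (iv F32558)) (tt N12855 F26156) (tt N12862 F26157) (tt N11983 (iv D15062)) (tt N12862 F26158))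
theorem Q15037 : ∀ i, i < 15037 → P i := stepQ 15036 Q15036 (allL N15036 (tt N17740 (iv F31939)) (tt N14543 F26159) (tt N11985 F26160) (tt N12861 F26161) (tt N11984 (iv D15063)) (tt N12861 F26162))
theorem Q15038 : ∀ i, i < 15038 → P i := stepQ 15037 Q15037 (allL N15037 (tt N14388 F26163) (tt N15635 (iv F27509)) (tt N11986 (iv D15064)) (tt N14385 F26165) (tt N12834 F26164) (tt N15631 (iv F27500)))
theorem Q15039 : ∀ i, i < 15039 → P i := stepQ 15038 Q15038 (allL N15038 (tt N15633 (iv F27505)) (tt N11987 (iv D15065)) (tt N15635 (iv F27510)) (tt N17738 (iv F31934)) (tt N12838 F26166) (tt N17737 (iv F31930)))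
theorem Q15040 : ∀ i, i < 15040 → P i := stepQ 15039 Q15039 (allL N15039 (tt N12855 F26167) (tt N17381 (iv F31162)) (tt N17739 (iv F31936)) (tt N12887 F26168) (tt N11988 (iv D15066)) (tt N12839 F26169))
theorem Q15041 : ∀ i, i < 15041 → P i := stepQ 15040 Q15040 (allL N15040 (tt N12731 F26170) (tt N11989 (iv D15067)) (tt N12719 F26171) (tt N13799 (iv F26174)) (tt N12315 F26172) (tt N12729 F26173))
theorem Q15042 : ∀ i, i < 15042 → P i := stepQ 15041 Q15041 (allL N15041 (tt N11990 F26175) (tt N13799 F26176) (tt N12807 F26177) (tt N11989 (iv D15068)) (tt N17953 (iv F32371)) (tt N12736 F26178))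
theorem Q15043 : ∀ i, i < 15043 → P i := stepQ 15042 Q15042 (allL N15042 (tt N12807 F26179) (tt N13796 F26180) (tt N11990 (iv D15069)) (tt N12802 F26181) (tt N18032 D18066) (tt N12738 F26182))
theorem Q15044 : ∀ i, i < 15044 → P i := stepQ 15043 Q15043 (allL N15043 (tt N17953 (iv F32367)) (tt N12743 F26183) (tt N18032 (iv F32564)) (tt N17951 (iv F32363)) (tt N11990 (iv D15070)) (tt N17950 F32359))
theorem Q15045 : ∀ i, i < 15045 → P i := stepQ 15044 Q15044 (allL N15044 (tt N12312 F26184) (tt N12747 F26185) (tt N12320 F26186) (tt N11991 (iv D15071)) (tt N17951 (iv F32364)) (tt N12310 F26187))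
theorem Q15046 : ∀ i, i < 15046 → P i := stepQ 15045 Q15045 (allL N15045 (tt N11993 (iv D15072)) (tt N16654 F29675) (tt N16802 (iv F30011)) (tt N16709 (iv F29801)) (tt N12646 F26188) (tt N16700 (iv F29780)))
theorem Q15047 : ∀ i, i < 15047 → P i := stepQ 15046 Q15046 (allL N15046 (tt N16709 (iv F29799)) (tt N11994 F26189) (tt N17069 (iv F30528)) (tt N11993 (iv D15073)) (tt N18033 D18067) (tt N16941 (iv F30277)))
theorem Q15048 : ∀ i, i < 15048 → P i := stepQ 15047 Q15047 (allL N15047 (tt N16700 (iv F29778)) (tt N11995 F26190) (tt N16767 (iv F29932)) (tt N16941 (iv F30276)) (tt N18034 D18068) (tt N11993 (iv D15074)))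
theorem Q15049 : ∀ i, i < 15049 → P i := stepQ 15048 Q15048 (allL N15048 (tt N16674 (iv F29723)) (tt N18033 (iv F32565)) (tt N16942 (iv F30280)) (tt N12649 F26191) (tt N11994 (iv D15075)) (tt N18035 D18069))
theorem Q15050 : ∀ i, i < 15050 → P i := stepQ 15049 Q15049 (allL N15049 (tt N16675 (iv F29726)) (tt N18034 (iv F32567)) (tt N11996 F26192) (tt N18036 D18070) (tt N11995 (iv D15076)) (tt N12650 F26193))
theorem Q15051 : ∀ i, i < 15051 → P i := stepQ 15050 Q15050 (allL N15050 (tt N17284 (iv F30948)) (tt N12001 F26194) (tt N14232 F26195) (tt N12007 F26196) (tt N11998 (iv D15077)) (tt N18037 D18071))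
theorem Q15052 : ∀ i, i < 15052 → P i := stepQ 15051 Q15051 (allL N15051 (tt N17065 (iv F30517)) (tt N12002 F26197) (tt N16707 (iv F29797)) (tt N11999 F26198) (tt N18038 D18072) (tt N11998 (iv D15078)))
theorem Q15053 : ∀ i, i < 15053 → P i := stepQ 15052 Q15052 (allL N15052 (tt N17066 (iv F30521)) (tt N12003 F26199) (tt N16950 (iv F30299)) (tt N18039 D18073) (tt N11999 (iv D15079)) (tt N12008 F26200))
theorem Q15054 : ∀ i, i < 15054 → P i := stepQ 15053 Q15053 (allL N15053 (tt N16453 (iv F29257)) (tt N14234 F26201) (tt N12001 F26202) (tt N18040 D18074) (tt N12000 (iv D15080)) (tt N18041 D18075))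
theorem Q15055 : ∀ i, i < 15055 → P i := stepQ 15054 Q15054 (allL N15054 (tt N16449 (iv F29247)) (tt N18037 (iv F32572)) (tt N18041 (iv F32580)) (tt N12009 F26203) (tt N18042 D18076) (tt N12001 (iv D15081)))
theorem Q15056 : ∀ i, i < 15056 → P i := stepQ 15055 Q15055 (allL N15055 (tt N16942 (iv F30278)) (tt N18038 (iv F32575)) (tt N16674 (iv F29724)) (tt N18043 D18077) (tt N12002 (iv D15082)) (tt N18042 (iv F32583)))
theorem Q15057 : ∀ i, i < 15057 → P i := stepQ 15056 Q15056 (allL N15056 (tt N16448 (iv F29244)) (tt N18039 (iv F32576)) (tt N18044 D18078) (tt N12003 (iv D15083)) (tt N18043 (iv F32586)) (tt N12010 F26204))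
theorem Q15058 : ∀ i, i < 15058 → P i := stepQ 15057 Q15057 (allL N15057 (tt N12006 F26205) (tt N16444 (iv F29236)) (tt N12004 (iv D15084)) (tt N18045 D18079) (tt N18046 D18080) (tt N14529 F26206))
theorem Q15059 : ∀ i, i < 15059 → P i := stepQ 15058 Q15058 (allL N15058 (tt N12007 F26207) (tt N16451 (iv F29254)) (tt N18046 (iv F32596)) (tt N17284 F30950) (tt N12004 (iv D15085)) (tt N18046 (iv F32597)))
theorem Q15060 : ∀ i, i < 15060 → P i := stepQ 15059 Q15059 (allL N15059 (tt N12008 F26208) (tt N16450 (iv F29250)) (tt N17937 (iv F32335)) (tt N18047 D18081) (tt N12005 (iv D15086)) (tt N17066 (iv F30523)))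
theorem Q15061 : ∀ i, i < 15061 → P i := stepQ 15060 Q15060 (allL N15060 (tt N18045 (iv F32592)) (tt N14518 F26209) (tt N18048 D18082) (tt N12006 (iv D15087)) (tt N18049 D18083) (tt N14530 F26210))
theorem Q15062 : ∀ i, i < 15062 → P i := stepQ 15061 Q15061 (allL N15061 (tt N18046 (iv F32595)) (tt N12009 F26211) (tt N12007 F26212) (tt N18037 (iv F32574)) (tt N12006 (iv D15088)) (tt N12007 F26213))
theorem Q15063 : ∀ i, i < 15063 → P i := stepQ 15062 Q15062 (allL N15062 (tt N18047 (iv F32598)) (tt N12010 F26214) (tt N18050 D18084) (tt N12008 (iv D15089)) (tt N14530 F26215) (tt N18039 (iv F32577)))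
theorem Q15064 : ∀ i, i < 15064 → P i := stepQ 15063 Q15063 (allL N15063 (tt N14537 F26216) (tt N18051 D18085) (tt N12010 (iv D15090)) (tt N18052 D18086) (tt N14520 F26217) (tt N18044 (iv F32591)))
theorem Q15065 : ∀ i, i < 15065 → P i := stepQ 15064 Q15064 (allL N15064 (tt N15512 (iv F27223)) (tt N12013 F26218) (tt N15200 (iv F26546)) (tt N18053 D18087) (tt N12012 (iv D15091)) (tt N15199 (iv F26544)))
theorem Q15066 : ∀ i, i < 15066 → P i := stepQ 15065 Q15065 (allL N15065 (tt N12022 F26219) (tt N18053 (iv F32608)) (tt N15629 (iv F27494)) (tt N12013 (iv D15092)) (tt N12042 F26220) (tt N15509 (iv F27217)))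
theorem Q15067 : ∀ i, i < 15067 → P i := stepQ 15066 Q15066 (allL N15066 (tt N12016 F26221) (tt N18054 D18088) (tt N12014 (iv D15093)) (tt N14532 F26223) (tt N12016 F26222) (tt N18055 D18089))
theorem Q15068 : ∀ i, i < 15068 → P i := stepQ 15067 Q15067 (allL N15067 (tt N12017 F26224) (tt N12020 F26225) (tt N18055 (iv F32614)) (tt N12015 F26226) (tt N18056 D18090) (tt N12014 (iv D15094)))
theorem Q15069 : ∀ i, i < 15069 → P i := stepQ 15068 Q15068 (allL N15068 (tt N18057 D18091) (tt N12016 (iv D15095)) (tt N12018 F26227) (tt N18058 D18092) (tt N18054 (iv F32612)) (tt N12027 (iv F26228)))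
theorem Q15070 : ∀ i, i < 15070 → P i := stepQ 15069 Q15069 (allL N15069 (tt N14532 F26229) (tt N18058 (iv F32621)) (tt N14531 F26230) (tt N12016 (iv D15096)) (tt N18059 D18093) (tt N18060 D18094))
theorem Q15071 : ∀ i, i < 15071 → P i := stepQ 15070 Q15070 (allL N15070 (tt N18055 (iv F32613)) (tt N12027 F26231) (tt N12017 F26232) (tt N18060 (iv F32629)) (tt N18061 D18095) (tt N12016 (iv D15097)))
theorem Q15072 : ∀ i, i < 15072 → P i := stepQ 15071 Q15071 (allL N15071 (tt N18056 (iv F32616)) (tt N12021 F26233) (tt N18061 (iv F32631)) (tt N15575 (iv F27368)) (tt N12017 (iv D15098)) (tt N18056 (iv F32618)))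
theorem Q15073 : ∀ i, i < 15073 → P i := stepQ 15072 Q15072 (allL N15072 (tt N12018 (iv D15099)) (tt N12034 F26234) (tt N18057 (iv F32619)) (tt N12026 F26235) (tt N18062 D18096) (tt N12025 F26236))
theorem Q15074 : ∀ i, i < 15074 → P i := stepQ 15073 Q15073 (allL N15073 (tt N18062 (iv F32632)) (tt N12019 F26237) (tt N18054 (iv F32610)) (tt N18063 D18097) (tt N12018 (iv D15100)) (tt N18064 D18098))
theorem Q15075 : ∀ i, i < 15075 → P i := stepQ 15074 Q15074 (allL N15074 (tt N12043 F26238) (tt N18063 (iv F32637)) (tt N17797 (iv F32076)) (tt N12019 (iv D15101)) (tt N12031 F26239) (tt N18065 D18099))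
theorem Q15076 : ∀ i, i < 15076 → P i := stepQ 15075 Q15075 (allL N15075 (tt N12036 F26240) (tt N18064 (iv F32640)) (tt N12020 F26241) (tt N18065 (iv F32643)) (tt N12030 F26242) (tt N12019 (iv D15102)))
theorem Q15077 : ∀ i, i < 15077 → P i := stepQ 15076 Q15076 (allL N15076 (tt N12041 F26243) (tt N18056 (iv F32617)) (tt N12030 F26244) (tt N18066 D18100) (tt N12020 (iv D15103)) (tt N12021 F26245))
theorem Q15078 : ∀ i, i < 15078 → P i := stepQ 15077 Q15077 (allL N15077 (tt N12042 F26246) (tt N15575 (iv F27367)) (tt N15687 (iv F27602)) (tt N12021 (iv D15104)) (tt N12022 F26247) (tt N18066 (iv F32645)))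
theorem Q15079 : ∀ i, i < 15079 → P i := stepQ 15078 Q15078 (allL N15078 (tt N15629 (iv F27491)) (tt N15564 (iv F27353)) (tt N12022 (iv D15105)) (tt N15562 F27349) (tt N15687 (iv F27601)) (tt N15514 (iv F27228)))
theorem Q15080 : ∀ i, i < 15080 → P i := stepQ 15079 Q15079 (allL N15079 (tt N14517 F26248) (tt N12023 (iv D15106)) (tt N15545 (iv F27309)) (tt N18067 D18101) (tt N15571 (iv F27364)) (tt N14515 F26249))
theorem Q15081 : ∀ i, i < 15081 → P i := stepQ 15080 Q15080 (allL N15080 (tt N12024 F26250) (tt N18067 (iv F32647)) (tt N18060 (iv F32628)) (tt N12023 (iv D15107)) (tt N18068 D18102) (tt N14531 F26251))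
theorem Q15082 : ∀ i, i < 15082 → P i := stepQ 15081 Q15081 (allL N15081 (tt N18060 (iv F32626)) (tt N16445 (iv F29237)) (tt N12024 (iv D15108)) (tt N18055 (iv F32615)) (tt N18069 D18103) (tt N14532 F26252))
theorem Q15083 : ∀ i, i < 15083 → P i := stepQ 15082 Q15082 (allL N15082 (tt N18068 (iv F32649)) (tt N14537 F26253) (tt N18069 (iv F32650)) (tt N15577 (iv F27369)) (tt N12024 (iv D15109)) (tt N18070 D18104))
theorem Q15084 : ∀ i, i < 15084 → P i := stepQ 15083 Q15083 (allL N15083 (tt N12027 F26254) (tt N18071 D18105) (tt N12025 (iv D15110)) (tt N18072 D18106) (tt N18073 D18107) (tt N18057 (iv F32620)))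
theorem Q15085 : ∀ i, i < 15085 → P i := stepQ 15084 Q15084 (allL N15084 (tt N12028 F26255) (tt N12033 F26256) (tt N18073 (iv F32656)) (tt N17733 (iv F31915)) (tt N12025 (iv D15111)) (tt N18074 D18108))
theorem Q15086 : ∀ i, i < 15086 → P i := stepQ 15085 Q15085 (allL N15085 (tt N12029 F26257) (tt N12035 F26258) (tt N12366 F26259) (tt N18075 D18109) (tt N12026 (iv D15112)) (tt N12365 F26260))
theorem Q15087 : ∀ i, i < 15087 → P i := stepQ 15086 Q15086 (allL N15086 (tt N18072 (iv F32654)) (tt N18060 (iv F32627)) (tt N18076 D18110) (tt N12027 (iv D15113)) (tt N18077 D18111) (tt N18058 (iv F32622)))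
theorem Q15088 : ∀ i, i < 15088 → P i := stepQ 15087 Q15087 (allL N15087 (tt N18073 (iv F32655)) (tt N18061 (iv F32630)) (tt N12028 F26261) (tt N18078 D18112) (tt N12027 (iv D15114)) (tt N18079 D18113))
theorem Q15089 : ∀ i, i < 15089 → P i := stepQ 15088 Q15088 (allL N15088 (tt N18074 (iv F32657)) (tt N12030 F26262) (tt N18079 (iv F32665)) (tt N17806 (iv F32095)) (tt N18064 (iv F32641)) (tt N12028 (iv D15115)))
theorem Q15090 : ∀ i, i < 15090 → P i := stepQ 15089 Q15089 (allL N15089 (tt N18075 (iv F32660)) (tt N12031 F26263) (tt N18080 D18114) (tt N12029 (iv D15116)) (tt N18063 (iv F32638)) (tt N12370 F26264))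
theorem Q15091 : ∀ i, i < 15091 → P i := stepQ 15090 Q15090 (allL N15090 (tt N18064 (iv F32639)) (tt N12032 (iv D15117)) (tt N18071 (iv F32653)) (tt N16023 (iv F28328)) (tt N18074 (iv F32659)) (tt N18062 F32635))
theorem Q15092 : ∀ i, i < 15092 → P i := stepQ 15091 Q15091 (allL N15091 (tt N12038 F26265) (tt N18074 (iv F32658)) (tt N12033 F26266) (tt N17807 (iv F32098)) (tt N12032 (iv D15118)) (tt N12033 (iv F26267)))
theorem Q15093 : ∀ i, i < 15093 → P i := stepQ 15092 Q15092 (allL N15092 (tt N12039 F26268) (tt N18062 (iv F32633)) (tt N12034 F26269) (tt N12048 F26270) (tt N12034 F26271) (tt N12032 (iv D15119)))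
theorem Q15094 : ∀ i, i < 15094 → P i := stepQ 15093 Q15093 (allL N15093 (tt N12040 F26272) (tt N18075 (iv F32661)) (tt N12049 (iv F26274)) (tt N12035 (iv D15120)) (tt N12048 F26273) (tt N16338 (iv F28992)))
theorem Q15095 : ∀ i, i < 15095 → P i := stepQ 15094 Q15094 (allL N15094 (tt N18065 (iv F32642)) (tt N12037 F26300) (tt N18081 D18115) (tt N12036 (iv D15121)) (tt N17800 (iv F32088)) (tt N12043 F26301))
theorem Q15096 : ∀ i, i < 15096 → P i := stepQ 15095 Q15095 (allL N15095 (tt N13145 F26302) (tt N17800 (iv F32085)) (tt N13143 F26303) (tt N16539 (iv F29425)) (tt N12037 (iv D15122)) (tt N16339 (iv F28998)))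
theorem Q15097 : ∀ i, i < 15097 → P i := stepQ 15096 Q15096 (allL N15096 (tt N12048 F26304) (tt N12043 F26305) (tt N12046 F26306) (tt N12039 F26307) (tt N12040 (iv F26308)) (tt N12037 (iv D15123)))
theorem Q15098 : ∀ i, i < 15098 → P i := stepQ 15097 Q15097 (allL N15097 (tt N12049 F26309) (tt N18082 D18116) (tt N12040 (iv D15124)) (tt N16151 (iv F28601)) (tt N12046 F26310) (tt N16150 (iv F28598)))
theorem Q15099 : ∀ i, i < 15099 → P i := stepQ 15098 Q15098 (allL N15098 (tt N18066 (iv F32644)) (tt N12042 F26311) (tt N15689 (iv F27607)) (tt N12041 (iv D15125)) (tt N18053 (iv F32609)) (tt N12042 F26312))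
theorem Q15100 : ∀ i, i < 15100 → P i := stepQ 15099 Q15099 (allL N15099 (tt N17797 (iv F32075)) (tt N18083 D18117) (tt N12043 (iv D15127)) (tt N18084 D18118) (tt N12044 F26313) (tt N18081 (iv F32670)))
theorem Q15101 : ∀ i, i < 15101 → P i := stepQ 15100 Q15100 (allL N15100 (tt N18085 D18119) (tt N12044 (iv D15128)) (tt N18082 (iv F32672)) (tt N17778 (iv F32030)) (tt N18083 (iv F32676)) (tt N17798 (iv F32078)))
theorem Q15102 : ∀ i, i < 15102 → P i := stepQ 15101 Q15101 (allL N15101 (tt N13153 F26314) (tt N12046 F26315) (tt N18083 (iv F32675)) (tt N12045 (iv D15129)) (tt N18082 (iv F32673)) (tt N13149 F26316))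
theorem Q15103 : ∀ i, i < 15103 → P i := stepQ 15102 Q15102 (allL N15102 (tt N13023 F26317) (tt N12047 F26318) (tt N15799 (iv F27854)) (tt N18086 D18120) (tt N12045 (iv D15130)) (tt N13018 F26319))
theorem Q15104 : ∀ i, i < 15104 → P i := stepQ 15103 Q15103 (allL N15103 (tt N12050 F26320) (tt N18086 (iv F32685)) (tt N16152 (iv F28605)) (tt N12047 (iv D15131)) (tt N16151 (iv F28602)) (tt N13202 F26321))
theorem Q15105 : ∀ i, i < 15105 → P i := stepQ 15104 Q15104 (allL N15104 (tt N18063 (iv F32636)) (tt N12048 (iv D15132)) (tt N16026 (iv F28334)) (tt N18062 F32634) (tt N18075 (iv F32662)) (tt N16023 (iv F28329)))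
theorem Q15106 : ∀ i, i < 15106 → P i := stepQ 15105 Q15105 (allL N15105 (tt N16150 (iv F28596)) (tt N13148 F26322) (tt N16338 (iv F28991)) (tt N15914 (iv F28032)) (tt N13146 F26323) (tt N12049 (iv D15133)))
theorem Q15107 : ∀ i, i < 15107 → P i := stepQ 15106 Q15106 (allL N15106 (tt N17884 (iv F32238)) (tt N12052 F26324) (tt N18087 D18121) (tt N12051 (iv D15134)) (tt N18088 D18122) (tt N15749 (iv F27735)))
theorem Q15108 : ∀ i, i < 15108 → P i := stepQ 15107 Q15107 (allL N15107 (tt N12054 F26325) (tt N18088 (iv F32687)) (tt N15752 (iv F27739)) (tt N15991 (iv F28242)) (tt N12052 (iv D15135)) (tt N18089 D18123))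
theorem Q15109 : ∀ i, i < 15109 → P i := stepQ 15108 Q15108 (allL N15108 (tt N18090 D18124) (tt N12053 (iv D15136)) (tt N17861 F32208) (tt N15743 (iv F27726)) (tt N18091 D18125) (tt N15742 F27724))
theorem Q15110 : ∀ i, i < 15110 → P i := stepQ 15109 Q15109 (allL N15109 (tt N15752 (iv F27738)) (tt N18091 (iv F32689)) (tt N12054 F26326) (tt N18092 D18126) (tt N12053 (iv D15137)) (tt N18093 D18127))
theorem Q15111 : ∀ i, i < 15111 → P i := stepQ 15110 Q15110 (allL N15110 (tt N18089 (iv F32688)) (tt N17910 (iv F32281)) (tt N18093 (iv F32692)) (tt N15995 (iv F28253)) (tt N17905 (iv F32278)) (tt N12054 (iv D15138)))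
theorem Q15112 : ∀ i, i < 15112 → P i := stepQ 15111 Q15111 (allL N15111 (tt N14328 (iv F26329)) (tt N12055 (iv D15139)) (tt N14325 F26327) (tt N18094 D18128) (tt N12057 F26328) (tt N18095 D18129))
theorem Q15113 : ∀ i, i < 15113 → P i := stepQ 15112 Q15112 (allL N15112 (tt N16705 (iv F29789)) (tt N18094 (iv F32694)) (tt N18096 D18130) (tt N12055 (iv D15140)) (tt N16681 (iv F29745)) (tt N18097 D18131))
theorem Q15114 : ∀ i, i < 15114 → P i := stepQ 15113 Q15113 (allL N15113 (tt N16706 (iv F29791)) (tt N18095 (iv F32698)) (tt N12056 F26330) (tt N18097 (iv F32705)) (tt N16680 (iv F29743)) (tt N12055 (iv D15141)))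
theorem Q15115 : ∀ i, i < 15115 → P i := stepQ 15114 Q15114 (allL N15114 (tt N14574 F26331) (tt N17397 (iv F31206)) (tt N16680 (iv F29742)) (tt N14547 F26332) (tt N12056 (iv D15142)) (tt N12058 F26333))
theorem Q15116 : ∀ i, i < 15116 → P i := stepQ 15115 Q15115 (allL N15115 (tt N12057 (iv D15143)) (tt N16703 (iv F29783)) (tt N14326 F26334) (tt N16677 (iv F29736)) (tt N14328 F26335) (tt N16676 (iv F29732)))
theorem Q15117 : ∀ i, i < 15117 → P i := stepQ 15116 Q15116 (allL N15116 (tt N12059 (iv D15144)) (tt N12063 F26336) (tt N14395 F26337) (tt N18098 D18132) (tt N17755 (iv F31965)) (tt N14394 (iv F26338)))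
theorem Q15118 : ∀ i, i < 15118 → P i := stepQ 15117 Q15117 (allL N15117 (tt N18098 (iv F32706)) (tt N12060 F26339) (tt N14452 (iv F26340)) (tt N12059 (iv D15145)) (tt N18099 D18133) (tt N14211 (iv F26341)))
theorem Q15119 : ∀ i, i < 15119 → P i := stepQ 15118 Q15118 (allL N15118 (tt N14394 F26342) (tt N12061 F26343) (tt N14352 F26344) (tt N14211 F26345) (tt N12340 F26346) (tt N12059 (iv D15146)))
theorem Q15120 : ∀ i, i < 15120 → P i := stepQ 15119 Q15119 (allL N15119 (tt N12067 F26347) (tt N18099 (iv F32710)) (tt N14212 F26348) (tt N17757 (iv F31976)) (tt N12060 (iv D15147)) (tt N18100 D18134))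
theorem Q15121 : ∀ i, i < 15121 → P i := stepQ 15120 Q15120 (allL N15120 (tt N12069 F26349) (tt N12340 F26350) (tt N12062 F26351) (tt N12337 (iv F26353)) (tt N12061 (iv D15148)) (tt N12336 F26352))
theorem Q15122 : ∀ i, i < 15122 → P i := stepQ 15121 Q15121 (allL N15121 (tt N12064 F26354) (tt N18098 (iv F32707)) (tt N18101 D18135) (tt N12063 (iv D15149)) (tt N18102 D18136) (tt N18103 D18137))
theorem Q15123 : ∀ i, i < 15123 → P i := stepQ 15122 Q15122 (allL N15122 (tt N12065 F26355) (tt N14394 F26356) (tt N12071 F26357) (tt N18103 (iv F32726)) (tt N14396 (iv F26358)) (tt N12063 (iv D15150)))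
theorem Q15124 : ∀ i, i < 15124 → P i := stepQ 15123 Q15123 (allL N15123 (tt N18101 (iv F32719)) (tt N18104 D18138) (tt N12064 (iv D15151)) (tt N18105 D18139) (tt N18106 D18140) (tt N18107 D18141))
theorem Q15125 : ∀ i, i < 15125 → P i := stepQ 15124 Q15124 (allL N15124 (tt N18102 (iv F32721)) (tt N12067 F26359) (tt N18106 (iv F32733)) (tt N18029 (iv F32551)) (tt N12064 (iv D15152)) (tt N18108 D18142))
theorem Q15126 : ∀ i, i < 15126 → P i := stepQ 15125 Q15125 (allL N15125 (tt N18103 (iv F32724)) (tt N12068 F26360) (tt N18107 (iv F32735)) (tt N12065 F26361) (tt N18109 D18143) (tt N12064 (iv D15153)))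
theorem Q15127 : ∀ i, i < 15127 → P i := stepQ 15126 Q15126 (allL N15126 (tt N14396 F26362) (tt N12069 F26363) (tt N12074 F26364) (tt N18110 D18144) (tt N12065 (iv D15154)) (tt N12453 F26365))
theorem Q15128 : ∀ i, i < 15128 → P i := stepQ 15127 Q15127 (allL N15127 (tt N14426 F26366) (tt N12066 (iv D15155)) (tt N18104 (iv F32728)) (tt N14201 F26367) (tt N18111 D18145) (tt N14200 F26368))
theorem Q15129 : ∀ i, i < 15129 → P i := stepQ 15128 Q15128 (allL N15128 (tt N14212 F26369) (tt N18111 (iv F32752)) (tt N12067 F26370) (tt N14456 F26371) (tt N12066 (iv D15156)) (tt N18112 D18146))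
theorem Q15130 : ∀ i, i < 15130 → P i := stepQ 15129 Q15129 (allL N15129 (tt N18100 (iv F32714)) (tt N18108 (iv F32737)) (tt N18112 (iv F32755)) (tt N18030 (iv F32555)) (tt N18113 D18147) (tt N12067 (iv D15157)))
theorem Q15131 : ∀ i, i < 15131 → P i := stepQ 15130 Q15130 (allL N15130 (tt N14209 F26372) (tt N18109 (iv F32741)) (tt N14202 F26373) (tt N18114 D18148) (tt N12068 (iv D15158)) (tt N18113 (iv F32762)))
theorem Q15132 : ∀ i, i < 15132 → P i := stepQ 15131 Q15131 (allL N15131 (tt N12337 F26374) (tt N18110 (iv F32747)) (tt N12343 (iv F26376)) (tt N12069 (iv D15159)) (tt N18114 (iv F32765)) (tt N12335 F26375))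
theorem Q15133 : ∀ i, i < 15133 → P i := stepQ 15132 Q15132 (allL N15132 (tt N12072 F26377) (tt N18115 D18149) (tt N12070 (iv D15160)) (tt N18116 D18150) (tt N18117 D18151) (tt N12210 F26378))
theorem Q15134 : ∀ i, i < 15134 → P i := stepQ 15133 Q15133 (allL N15133 (tt N12073 F26379) (tt N12666 F26380) (tt N18117 (iv F32774)) (tt N12451 F26381) (tt N12070 (iv D15161)) (tt N12604 F26382))
theorem Q15135 : ∀ i, i < 15135 → P i := stepQ 15134 Q15134 (allL N15134 (tt N12074 F26383) (tt N12665 F26384) (tt N14396 F26385) (tt N12606 F26386) (tt N12071 (iv D15162)) (tt N12450 F26387))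
theorem Q15136 : ∀ i, i < 15136 → P i := stepQ 15135 Q15135 (allL N15135 (tt N18116 (iv F32771)) (tt N12214 F26388) (tt N18118 D18152) (tt N12072 (iv D15163)) (tt N18119 D18153) (tt N12211 F26389))
theorem Q15137 : ∀ i, i < 15137 → P i := stepQ 15136 Q15136 (allL N15136 (tt N18117 (iv F32773)) (tt N12215 F26390) (tt N12073 F26391) (tt N18120 D18154) (tt N12072 (iv D15164)) (tt N12220 F26392))
theorem Q15138 : ∀ i, i < 15138 → P i := stepQ 15137 Q15137 (allL N15137 (tt N12077 F26393) (tt N18121 D18155) (tt N12075 (iv D15165)) (tt N18122 D18156) (tt N18123 D18157) (tt N12230 F26394))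
theorem Q15139 : ∀ i, i < 15139 → P i := stepQ 15138 Q15138 (allL N15138 (tt N12078 F26395) (tt N12276 F26396) (tt N18123 (iv F32786)) (tt N17896 (iv F32260)) (tt N12075 (iv D15166)) (tt N17723 (iv F31899)))
theorem Q15140 : ∀ i, i < 15140 → P i := stepQ 15139 Q15139 (allL N15139 (tt N12079 F26397) (tt N12275 F26398) (tt N16991 (iv F30396)) (tt N17722 (iv F31896)) (tt N12076 (iv D15167)) (tt N17895 (iv F32257)))
theorem Q15141 : ∀ i, i < 15141 → P i := stepQ 15140 Q15140 (allL N15140 (tt N18122 (iv F32783)) (tt N12234 F26399) (tt N18124 D18158) (tt N12077 (iv D15168)) (tt N18125 D18159) (tt N12231 F26400))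
theorem Q15142 : ∀ i, i < 15142 → P i := stepQ 15141 Q15141 (allL N15141 (tt N18123 (iv F32785)) (tt N12235 F26401) (tt N12078 F26402) (tt N18126 D18160) (tt N12077 (iv D15169)) (tt N17718 (iv F31888)))
theorem Q15143 : ∀ i, i < 15143 → P i := stepQ 15142 Q15142 (allL N15142 (tt N12080 (iv D15170)) (tt N12440 F26403) (tt N12088 F26404) (tt N14059 (iv F26407)) (tt N12681 F26405) (tt N12432 F26406))
theorem Q15144 : ∀ i, i < 15144 → P i := stepQ 15143 Q15143 (allL N15143 (tt N14059 F26408) (tt N12081 F26409) (tt N18127 D18161) (tt N12080 (iv D15171)) (tt N18128 D18162) (tt N12435 F26410))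
theorem Q15145 : ∀ i, i < 15145 → P i := stepQ 15144 Q15144 (allL N15144 (tt N12410 F26411) (tt N17766 (iv F32000)) (tt N12081 (iv D15172)) (tt N12109 F26412) (tt N18129 D18163) (tt N12108 (iv F26413)))
theorem Q15146 : ∀ i, i < 15146 → P i := stepQ 15145 Q15145 (allL N15145 (tt N12442 F26414) (tt N18128 (iv F32797)) (tt N18129 (iv F32802)) (tt N12684 F26415) (tt N12081 (iv D15173)) (tt N18130 D18164))
theorem Q15147 : ∀ i, i < 15147 → P i := stepQ 15146 Q15146 (allL N15146 (tt N12408 F26416) (tt N12435 F26417) (tt N12108 F26418) (tt N12082 F26419) (tt N14053 (iv F26420)) (tt N12081 (iv D15174)))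
theorem Q15148 : ∀ i, i < 15148 → P i := stepQ 15147 Q15147 (allL N15147 (tt N12443 F26421) (tt N12436 F26422) (tt N12083 F26423) (tt N14054 F26424) (tt N12082 (iv D15175)) (tt N12685 F26425))
theorem Q15149 : ∀ i, i < 15149 → P i := stepQ 15148 Q15148 (allL N15148 (tt N12084 (iv D15176)) (tt N12093 F26426) (tt N12681 F26427) (tt N18131 D18165) (tt N12088 F26428) (tt N18132 D18166))
theorem Q15150 : ∀ i, i < 15150 → P i := stepQ 15149 Q15149 (allL N15149 (tt N18131 (iv F32807)) (tt N12085 F26429) (tt N18133 D18167) (tt N12084 (iv D15177)) (tt N12438 F26430) (tt N18134 D18168))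
theorem Q15151 : ∀ i, i < 15151 → P i := stepQ 15150 Q15150 (allL N15150 (tt N18132 (iv F32810)) (tt N12086 F26431) (tt N12683 F26432) (tt N18134 (iv F32816)) (tt N12437 F26433) (tt N12084 (iv D15178)))
theorem Q15152 : ∀ i, i < 15152 → P i := stepQ 15151 Q15151 (allL N15151 (tt N12096 F26434) (tt N18135 D18169) (tt N12085 (iv D15179)) (tt N12091 F26435) (tt N12439 F26436) (tt N12090 (iv F26437)))
theorem Q15153 : ∀ i, i < 15153 → P i := stepQ 15152 Q15152 (allL N15152 (tt N12098 F26438) (tt N18134 (iv F32815)) (tt N12090 F26439) (tt N12086 F26440) (tt N18136 D18170) (tt N12085 (iv D15180)))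
theorem Q15154 : ∀ i, i < 15154 → P i := stepQ 15153 Q15153 (allL N15153 (tt N12089 (iv D15181)) (tt N13911 F26441) (tt N12672 F26442) (tt N18137 D18171) (tt N13883 F26443) (tt N18138 D18172))
theorem Q15155 : ∀ i, i < 15155 → P i := stepQ 15154 Q15154 (allL N15154 (tt N18137 (iv F32824)) (tt N12090 F26444) (tt N18139 D18173) (tt N12089 (iv D15182)) (tt N18140 D18174) (tt N18135 (iv F32819)))
theorem Q15156 : ∀ i, i < 15156 → P i := stepQ 15155 Q15155 (allL N15155 (tt N18138 (iv F32826)) (tt N12091 F26445) (tt N12674 F26446) (tt N18135 (iv F32817)) (tt N18141 D18175) (tt N12089 (iv D15183)))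
theorem Q15157 : ∀ i, i < 15157 → P i := stepQ 15156 Q15156 (allL N15156 (tt N13913 F26447) (tt N18140 (iv F32829)) (tt N18136 (iv F32821)) (tt N13552 F26448) (tt N12090 (iv D15184)) (tt N18142 D18176))
theorem Q15158 : ∀ i, i < 15158 → P i := stepQ 15157 Q15157 (allL N15157 (tt N13909 F26449) (tt N18141 (iv F32833)) (tt N12092 F26450) (tt N18143 D18177) (tt N12091 (iv D15185)) (tt N13881 F26451))
theorem Q15159 : ∀ i, i < 15159 → P i := stepQ 15158 Q15158 (allL N15158 (tt N12094 F26452) (tt N18131 (iv F32808)) (tt N18144 D18178) (tt N12093 (iv D15186)) (tt N18145 D18179) (tt N18146 D18180))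
theorem Q15160 : ∀ i, i < 15160 → P i := stepQ 15159 Q15159 (allL N15159 (tt N12095 F26453) (tt N18132 (iv F32811)) (tt N12445 F26454) (tt N18146 (iv F32850)) (tt N18147 D18181) (tt N12093 (iv D15187)))
theorem Q15161 : ∀ i, i < 15161 → P i := stepQ 15160 Q15160 (allL N15160 (tt N18144 (iv F32844)) (tt N18148 D18182) (tt N12094 (iv D15188)) (tt N18149 D18183) (tt N18150 D18184) (tt N18151 D18185))
theorem Q15162 : ∀ i, i < 15162 → P i := stepQ 15161 Q15161 (allL N15161 (tt N18145 (iv F32846)) (tt N12097 F26455) (tt N18150 (iv F32859)) (tt N12103 F26456) (tt N12094 (iv D15189)) (tt N18152 D18186))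
theorem Q15163 : ∀ i, i < 15163 → P i := stepQ 15162 Q15162 (allL N15162 (tt N18146 (iv F32849)) (tt N12098 F26457) (tt N18151 (iv F32861)) (tt N12095 F26458) (tt N18153 D18187) (tt N12094 (iv D15190)))
theorem Q15164 : ∀ i, i < 15164 → P i := stepQ 15163 Q15163 (allL N15163 (tt N18147 (iv F32851)) (tt N12099 F26459) (tt N12448 F26460) (tt N18154 D18188) (tt N12095 (iv D15191)) (tt N12104 F26461))
theorem Q15165 : ∀ i, i < 15165 → P i := stepQ 15164 Q15164 (allL N15164 (tt N18155 D18189) (tt N12096 (iv D15192)) (tt N18148 (iv F32855)) (tt N13910 F26462) (tt N18156 D18190) (tt N13912 F26463))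
theorem Q15166 : ∀ i, i < 15166 → P i := stepQ 15165 Q15165 (allL N15165 (tt N12439 F26464) (tt N18156 (iv F32869)) (tt N12097 F26465) (tt N18157 D18191) (tt N12096 (iv D15193)) (tt N18158 D18192))
theorem Q15167 : ∀ i, i < 15167 → P i := stepQ 15166 Q15166 (allL N15166 (tt N12431 F26466) (tt N18152 (iv F32862)) (tt N18158 (iv F32875)) (tt N12105 F26467) (tt N18159 D18193) (tt N12097 (iv D15194)))
theorem Q15168 : ∀ i, i < 15168 → P i := stepQ 15167 Q15167 (allL N15167 (tt N18136 (iv F32820)) (tt N18153 (iv F32864)) (tt N13913 F26468) (tt N18160 D18194) (tt N12098 (iv D15195)) (tt N18159 (iv F32881)))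
theorem Q15169 : ∀ i, i < 15169 → P i := stepQ 15168 Q15168 (allL N15168 (tt N12429 F26469) (tt N18154 (iv F32865)) (tt N18161 D18195) (tt N12099 (iv D15196)) (tt N18160 (iv F32884)) (tt N12106 F26470))
theorem Q15170 : ∀ i, i < 15170 → P i := stepQ 15169 Q15169 (allL N15169 (tt N12102 F26471) (tt N17764 (iv F31996)) (tt N12100 (iv D15197)) (tt N15763 (iv F27768)) (tt N18162 D18196) (tt N12406 F26472))
theorem Q15171 : ∀ i, i < 15171 → P i := stepQ 15170 Q15170 (allL N15170 (tt N12103 F26473) (tt N12434 F26474) (tt N18162 (iv F32891)) (tt N18145 (iv F32848)) (tt N12100 (iv D15198)) (tt N18163 D18197))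
theorem Q15172 : ∀ i, i < 15172 → P i := stepQ 15171 Q15171 (allL N15171 (tt N12104 F26475) (tt N12433 F26476) (tt N12451 F26477) (tt N18164 D18198) (tt N12101 (iv D15199)) (tt N18147 (iv F32854)))
theorem Q15173 : ∀ i, i < 15173 → P i := stepQ 15172 Q15172 (allL N15172 (tt N15763 (iv F27766)) (tt N12410 F26478) (tt N18028 (iv F32546)) (tt N12102 (iv D15200)) (tt N18165 D18199) (tt N12407 F26479))
theorem Q15174 : ∀ i, i < 15174 → P i := stepQ 15173 Q15173 (allL N15173 (tt N18162 (iv F32890)) (tt N12411 F26480) (tt N12103 F26481) (tt N18166 D18200) (tt N12102 (iv D15201)) (tt N18167 D18201))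
theorem Q15175 : ∀ i, i < 15175 → P i := stepQ 15174 Q15174 (allL N15174 (tt N18163 (iv F32892)) (tt N12105 F26482) (tt N18167 (iv F32903)) (tt N18152 (iv F32863)) (tt N12414 F26483) (tt N12103 (iv D15202)))
theorem Q15176 : ∀ i, i < 15176 → P i := stepQ 15175 Q15175 (allL N15175 (tt N18164 (iv F32895)) (tt N12106 F26484) (tt N15895 (iv F28007)) (tt N12104 (iv D15203)) (tt N12413 F26485) (tt N18154 (iv F32866)))
theorem Q15177 : ∀ i, i < 15177 → P i := stepQ 15176 Q15176 (allL N15176 (tt N12428 F26486) (tt N15896 (iv F28008)) (tt N12106 (iv D15204)) (tt N18168 D18202) (tt N12415 F26487) (tt N18161 (iv F32889)))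
theorem Q15178 : ∀ i, i < 15178 → P i := stepQ 15177 Q15177 (allL N15177 (tt N12107 (iv D15205)) (tt N12406 F26488) (tt N12111 F26489) (tt N15760 (iv F27757)) (tt N15377 (iv F26933)) (tt N17764 (iv F31997)))
theorem Q15179 : ∀ i, i < 15179 → P i := stepQ 15178 Q15178 (allL N15178 (tt N15760 (iv F27754)) (tt N12108 F26490) (tt N14065 F26491) (tt N12107 (iv D15206)) (tt N14064 (iv F26492)) (tt N17766 (iv F32001)))
theorem Q15180 : ∀ i, i < 15180 → P i := stepQ 15179 Q15179 (allL N15179 (tt N12409 F26493) (tt N14064 F26494) (tt N14053 F26495) (tt N15380 (iv F26944)) (tt N12108 (iv D15207)) (tt N15754 (iv F27747)))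
theorem Q15181 : ∀ i, i < 15181 → P i := stepQ 15180 Q15180 (allL N15180 (tt N12411 F26496) (tt N17767 (iv F32003)) (tt N12110 F26497) (tt N18169 D18203) (tt N12109 (iv D15208)) (tt N15381 (iv F26947)))
theorem Q15182 : ∀ i, i < 15182 → P i := stepQ 15181 Q15181 (allL N15181 (tt N12113 F26498) (tt N15585 (iv F27389)) (tt N18170 D18204) (tt N12112 (iv D15209)) (tt N18171 D18205) (tt N15596 (iv F27411)))
theorem Q15183 : ∀ i, i < 15183 → P i := stepQ 15182 Q15182 (allL N15182 (tt N12114 F26499) (tt N15586 (iv F27391)) (tt N12422 F26500) (tt N15596 (iv F27410)) (tt N18172 D18206) (tt N12112 (iv D15210)))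
theorem Q15184 : ∀ i, i < 15184 → P i := stepQ 15183 Q15183 (allL N15183 (tt N18170 (iv F32910)) (tt N15595 (iv F27408)) (tt N12113 (iv D15211)) (tt N18173 D18207) (tt N18174 D18208) (tt N15593 F27407))
theorem Q15185 : ∀ i, i < 15185 → P i := stepQ 15184 Q15184 (allL N15184 (tt N18171 (iv F32911)) (tt N12115 F26501) (tt N18174 (iv F32918)) (tt N12120 F26502) (tt N12113 (iv D15212)) (tt N17959 (iv F32387)))
theorem Q15186 : ∀ i, i < 15186 → P i := stepQ 15185 Q15185 (allL N15185 (tt N18172 (iv F32914)) (tt N12116 F26503) (tt N12426 F26504) (tt N18175 D18209) (tt N12114 (iv D15213)) (tt N12121 F26505))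
theorem Q15187 : ∀ i, i < 15187 → P i := stepQ 15186 Q15186 (allL N15186 (tt N15589 (iv F27395)) (tt N18175 (iv F32920)) (tt N12188 F26506) (tt N12116 (iv D15214)) (tt N12499 F26507) (tt N12123 F26508))
theorem Q15188 : ∀ i, i < 15188 → P i := stepQ 15187 Q15187 (allL N15187 (tt N12119 F26509) (tt N18009 (iv F32508)) (tt N12117 (iv D15215)) (tt N18127 (iv F32793)) (tt N18176 D18210) (tt N17759 (iv F31984)))
theorem Q15189 : ∀ i, i < 15189 → P i := stepQ 15188 Q15188 (allL N15188 (tt N12120 F26510) (tt N12904 F26511) (tt N18176 (iv F32924)) (tt N18171 (iv F32913)) (tt N12117 (iv D15216)) (tt N18177 D18211))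
theorem Q15190 : ∀ i, i < 15190 → P i := stepQ 15189 Q15189 (allL N15189 (tt N12121 F26512) (tt N17765 (iv F31999)) (tt N12434 F26513) (tt N18178 D18212) (tt N12118 (iv D15217)) (tt N18172 (iv F32916)))
theorem Q15191 : ∀ i, i < 15191 → P i := stepQ 15190 Q15190 (allL N15190 (tt N18127 (iv F32791)) (tt N12892 F26514) (tt N14059 F26516) (tt N12119 (iv D15218)) (tt N18179 D18213) (tt N14058 F26515))
theorem Q15192 : ∀ i, i < 15192 → P i := stepQ 15191 Q15191 (allL N15191 (tt N18176 (iv F32923)) (tt N12814 F26517) (tt N12120 F26518) (tt N18180 D18214) (tt N12119 (iv D15219)) (tt N18181 D18215))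
theorem Q15193 : ∀ i, i < 15193 → P i := stepQ 15192 Q15192 (allL N15192 (tt N18177 (iv F32925)) (tt N12122 F26519) (tt N18181 (iv F32934)) (tt N17959 (iv F32385)) (tt N16624 (iv F29604)) (tt N12120 (iv D15220)))
theorem Q15194 : ∀ i, i < 15194 → P i := stepQ 15193 Q15193 (allL N15193 (tt N18178 (iv F32927)) (tt N12123 F26520) (tt N18182 D18216) (tt N12121 (iv D15221)) (tt N16623 (iv F29602)) (tt N18175 (iv F32922)))
theorem Q15195 : ∀ i, i < 15195 → P i := stepQ 15194 Q15194 (allL N15194 (tt N14088 F26521) (tt N18183 D18217) (tt N12123 (iv D15222)) (tt N12189 F26524) (tt N14050 F26522) (tt N12188 F26523))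
theorem Q15196 : ∀ i, i < 15196 → P i := stepQ 15195 Q15195 (allL N15195 (tt N12132 F26525) (tt N12480 F26526) (tt N12457 F26527) (tt N13966 F26528) (tt N12125 (iv D15223)) (tt N18184 D18218))
theorem Q15197 : ∀ i, i < 15197 → P i := stepQ 15196 Q15196 (allL N15196 (tt N12133 F26529) (tt N12479 F26530) (tt N12127 F26531) (tt N18185 D18219) (tt N12126 (iv D15224)) (tt N13968 F26532))
theorem Q15198 : ∀ i, i < 15198 → P i := stepQ 15197 Q15197 (allL N15197 (tt N13966 F26533) (tt N12464 F26534) (tt N14628 F26535) (tt N12132 F26536) (tt N12128 (iv D15225)) (tt N18186 D18220))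
theorem Q15199 : ∀ i, i < 15199 → P i := stepQ 15198 Q15198 (allL N15198 (tt N13968 F26537) (tt N12192 F26538) (tt N12130 F26539) (tt N18187 D18221) (tt N12129 (iv D15226)) (tt N12133 F26540))
theorem Q15200 : ∀ i, i < 15200 → P i := stepQ 15199 Q15199 (allL N15199 (tt N12457 F26541) (tt N12454 F26542) (tt N12132 F26543) (tt N18188 D18222) (tt N12131 (iv D15227)) (tt N15064 F26544))
theorem Q15201 : ∀ i, i < 15201 → P i := stepQ 15200 Q15200 (allL N15200 (tt N18184 (iv F32938)) (tt N12463 F26545) (tt N15064 F26546) (tt N18186 (iv F32950)) (tt N12460 F26547) (tt N12132 (iv D15228)))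
theorem Q15202 : ∀ i, i < 15202 → P i := stepQ 15201 Q15201 (allL N15201 (tt N18185 (iv F32943)) (tt N12191 F26548) (tt N18189 D18223) (tt N12133 (iv D15229)) (tt N12459 F26549) (tt N18187 (iv F32955)))
theorem Q15203 : ∀ i, i < 15203 → P i := stepQ 15202 Q15202 (allL N15202 (tt N12135 F26550) (tt N12144 F26551) (tt N12186 F26552) (tt N12134 (iv D15230)) (tt N18190 D18224) (tt N12176 F26553))
theorem Q15204 : ∀ i, i < 15204 → P i := stepQ 15203 Q15203 (allL N15203 (tt N18190 (iv F32961)) (tt N12137 F26554) (tt N12187 F26555) (tt N13972 F26556) (tt N12135 (iv D15231)) (tt N18191 D18225))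
theorem Q15205 : ∀ i, i < 15205 → P i := stepQ 15204 Q15204 (allL N15204 (tt N12481 F26557) (tt N12138 F26558) (tt N12479 F26559) (tt N18192 D18226) (tt N12136 (iv D15232)) (tt N13973 F26560))
theorem Q15206 : ∀ i, i < 15206 → P i := stepQ 15205 Q15205 (allL N15205 (tt N12152 F26561) (tt N18191 (iv F32965)) (tt N12180 F26562) (tt N13974 F26563) (tt N12179 F26564) (tt N12137 (iv D15233)))
theorem Q15207 : ∀ i, i < 15207 → P i := stepQ 15206 Q15206 (allL N15206 (tt N12154 F26565) (tt N18192 (iv F32970)) (tt N18193 D18227) (tt N12138 (iv D15234)) (tt N12178 F26566) (tt N13975 F26567))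
theorem Q15208 : ∀ i, i < 15208 → P i := stepQ 15207 Q15207 (allL N15207 (tt N12140 F26568) (tt N13969 F26569) (tt N18194 D18228) (tt N12139 (iv D15235)) (tt N18195 D18229) (tt N13987 (iv F26570)))
theorem Q15209 : ∀ i, i < 15209 → P i := stepQ 15208 Q15208 (allL N15208 (tt N12141 F26571) (tt N13970 F26572) (tt N12164 F26573) (tt N13987 F26574) (tt N18196 D18230) (tt N12139 (iv D15236)))
theorem Q15210 : ∀ i, i < 15210 → P i := stepQ 15209 Q15209 (allL N15209 (tt N18194 (iv F32977)) (tt N13983 F26575) (tt N12140 (iv D15237)) (tt N18197 D18231) (tt N18198 D18232) (tt N13980 F26576))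
theorem Q15211 : ∀ i, i < 15211 → P i := stepQ 15210 Q15210 (allL N15210 (tt N18195 (iv F32979)) (tt N12142 F26577) (tt N18198 (iv F32990)) (tt N12147 F26578) (tt N12140 (iv D15238)) (tt N18199 D18233))
theorem Q15212 : ∀ i, i < 15212 → P i := stepQ 15211 Q15211 (allL N15211 (tt N18196 (iv F32982)) (tt N12143 F26579) (tt N12167 F26580) (tt N18200 D18234) (tt N12141 (iv D15239)) (tt N12149 F26581))
theorem Q15213 : ∀ i, i < 15213 → P i := stepQ 15212 Q15212 (allL N15212 (tt N13974 F26582) (tt N18199 (iv F32991)) (tt N13991 F26583) (tt N12152 F26584) (tt N13990 F26585) (tt N12142 (iv D15240)))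
theorem Q15214 : ∀ i, i < 15214 → P i := stepQ 15213 Q15213 (allL N15213 (tt N13975 F26586) (tt N18200 (iv F32994)) (tt N18157 (iv F32872)) (tt N12143 (iv D15241)) (tt N13989 F26587) (tt N12154 F26588))
theorem Q15215 : ∀ i, i < 15215 → P i := stepQ 15214 Q15214 (allL N15214 (tt N12146 F26589) (tt N17964 (iv F32398)) (tt N12144 (iv D15242)) (tt N12181 F26590) (tt N18201 D18235) (tt N17975 (iv F32422)))
theorem Q15216 : ∀ i, i < 15216 → P i := stepQ 15215 Q15215 (allL N15215 (tt N12147 F26591) (tt N18190 (iv F32962)) (tt N18201 (iv F32998)) (tt N18195 (iv F32981)) (tt N12144 (iv D15243)) (tt N18202 D18236))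
theorem Q15217 : ∀ i, i < 15217 → P i := stepQ 15216 Q15216 (allL N15216 (tt N12148 F26592) (tt N12176 F26593) (tt N17975 (iv F32421)) (tt N12145 F26594) (tt N18203 D18237) (tt N12144 (iv D15244)))
theorem Q15218 : ∀ i, i < 15218 → P i := stepQ 15217 Q15217 (allL N15217 (tt N12149 F26595) (tt N12481 F26596) (tt N12171 F26597) (tt N18204 D18238) (tt N12145 (iv D15245)) (tt N18196 (iv F32985)))
theorem Q15219 : ∀ i, i < 15219 → P i := stepQ 15218 Q15218 (allL N15218 (tt N12181 (iv F26599)) (tt N12146 (iv D15246)) (tt N12150 F26598) (tt N12146 (iv F26601)) (tt N18205 D18239) (tt N12173 (iv F26600)))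
theorem Q15220 : ∀ i, i < 15220 → P i := stepQ 15219 Q15219 (allL N15219 (tt N18201 (iv F32997)) (tt N18205 (iv F33005)) (tt N12147 F26602) (tt N18206 D18240) (tt N12146 (iv D15247)) (tt N18207 D18241))
theorem Q15221 : ∀ i, i < 15221 → P i := stepQ 15220 Q15220 (allL N15220 (tt N17975 (iv F32419)) (tt N12173 F26603) (tt N12148 F26604) (tt N12173 F26605) (tt N18208 D18242) (tt N12146 (iv D15248)))
theorem Q15222 : ∀ i, i < 15222 → P i := stepQ 15221 Q15221 (allL N15221 (tt N18202 (iv F32999)) (tt N12152 F26606) (tt N18207 (iv F33007)) (tt N18199 (iv F32992)) (tt N18209 D18243) (tt N12147 (iv D15249)))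
theorem Q15223 : ∀ i, i < 15223 → P i := stepQ 15222 Q15222 (allL N15222 (tt N18203 (iv F33000)) (tt N12153 F26607) (tt N18208 (iv F33009)) (tt N18210 D18244) (tt N12148 (iv D15250)) (tt N18209 (iv F33011)))
theorem Q15224 : ∀ i, i < 15224 → P i := stepQ 15223 Q15223 (allL N15223 (tt N18204 (iv F33002)) (tt N12154 F26608) (tt N18211 D18245) (tt N12149 (iv D15251)) (tt N18210 (iv F33013)) (tt N18200 (iv F32996)))
theorem Q15225 : ∀ i, i < 15225 → P i := stepQ 15224 Q15224 (allL N15224 (tt N12172 F26609) (tt N12151 F26610) (tt N18205 (iv F33006)) (tt N12171 F26611) (tt N12150 (iv D15252)) (tt N18212 D18246))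
theorem Q15226 : ∀ i, i < 15226 → P i := stepQ 15225 Q15225 (allL N15225 (tt N12180 F26612) (tt N18212 (iv F33015)) (tt N12152 F26613) (tt N12190 F26614) (tt N12175 F26615) (tt N12151 (iv D15253)))
theorem Q15227 : ∀ i, i < 15227 → P i := stepQ 15226 Q15226 (allL N15226 (tt N12179 F26616) (tt N18209 (iv F33010)) (tt N12175 F26617) (tt N18213 D18247) (tt N12152 (iv D15254)) (tt N12153 F26618))
theorem Q15228 : ∀ i, i < 15228 → P i := stepQ 15227 Q15227 (allL N15227 (tt N12178 F26619) (tt N18210 (iv F33012)) (tt N18214 D18248) (tt N12153 (iv D15255)) (tt N12154 F26620) (tt N18213 (iv F33021)))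
theorem Q15229 : ∀ i, i < 15229 → P i := stepQ 15228 Q15228 (allL N15228 (tt N18193 (iv F32973)) (tt N18215 D18249) (tt N12154 (iv D15256)) (tt N18158 (iv F32876)) (tt N18214 (iv F33024)) (tt N18157 F32873))
theorem Q15230 : ∀ i, i < 15230 → P i := stepQ 15229 Q15229 (allL N15229 (tt N12155 (iv D15257)) (tt N14679 F26621) (tt N12159 F26622) (tt N18216 D18250) (tt N15299 (iv F26766)) (tt N18217 D18251))
theorem Q15231 : ∀ i, i < 15231 → P i := stepQ 15230 Q15230 (allL N15230 (tt N18216 (iv F33026)) (tt N12156 F26623) (tt N13675 F26624) (tt N12155 (iv D15258)) (tt N13677 (iv F26625)) (tt N14692 (iv F26626)))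
theorem Q15232 : ∀ i, i < 15232 → P i := stepQ 15231 Q15231 (allL N15231 (tt N18217 (iv F33031)) (tt N12157 F26627) (tt N12161 F26628) (tt N14692 F26629) (tt N18218 D18252) (tt N12155 (iv D15259)))
theorem Q15233 : ∀ i, i < 15233 → P i := stepQ 15232 Q15232 (allL N15232 (tt N14682 F26630) (tt N13677 F26631) (tt N13681 F26632) (tt N15302 (iv F26771)) (tt N12156 (iv D15260)) (tt N15663 (iv F27555)))
theorem Q15234 : ∀ i, i < 15234 → P i := stepQ 15233 Q15233 (allL N15233 (tt N14683 F26633) (tt N18218 (iv F33035)) (tt N12158 F26634) (tt N18219 D18253) (tt N12157 (iv D15261)) (tt N15303 (iv F26774)))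
theorem Q15235 : ∀ i, i < 15235 → P i := stepQ 15234 Q15234 (allL N15234 (tt N12160 F26635) (tt N15327 (iv F26838)) (tt N13962 (iv F26636)) (tt N12159 (iv D15262)) (tt N18220 D18254) (tt N13961 (iv F26637)))
theorem Q15236 : ∀ i, i < 15236 → P i := stepQ 15235 Q15235 (allL N15235 (tt N12161 F26638) (tt N15328 (iv F26841)) (tt N18217 (iv F33033)) (tt N13961 F26639) (tt N18221 D18255) (tt N12159 (iv D15263)))
theorem Q15237 : ∀ i, i < 15237 → P i := stepQ 15236 Q15236 (allL N15236 (tt N18220 (iv F33039)) (tt N12162 F26640) (tt N12399 F26641) (tt N14089 F26642) (tt N12160 (iv D15264)) (tt N12392 F26643))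
theorem Q15238 : ∀ i, i < 15238 → P i := stepQ 15237 Q15237 (allL N15237 (tt N18221 (iv F33043)) (tt N12163 F26644) (tt N18218 (iv F33036)) (tt N12375 F26645) (tt N12161 (iv D15265)) (tt N15326 (iv F26836)))
theorem Q15239 : ∀ i, i < 15239 → P i := stepQ 15238 Q15238 (allL N15238 (tt N12167 F26646) (tt N12190 F26647) (tt N18196 (iv F32984)) (tt N18212 (iv F33016)) (tt N12164 (iv D15266)) (tt N12171 F26648))
theorem Q15240 : ∀ i, i < 15240 → P i := stepQ 15239 Q15239 (allL N15239 (tt N14005 F26649) (tt N12165 (iv D15267)) (tt N12168 F26650) (tt N18222 D18256) (tt N12379 F26651) (tt N15329 (iv F26845)))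
theorem Q15241 : ∀ i, i < 15241 → P i := stepQ 15240 Q15240 (allL N15240 (tt N14010 F26652) (tt N18222 (iv F33047)) (tt N18223 D18257) (tt N12165 (iv D15268)) (tt N18224 D18258) (tt N18225 D18259))
theorem Q15242 : ∀ i, i < 15242 → P i := stepQ 15241 Q15241 (allL N15241 (tt N14011 F26653) (tt N15329 (iv F26844)) (tt N12166 F26654) (tt N18225 (iv F33053)) (tt N18226 D18260) (tt N12165 (iv D15269)))
theorem Q15243 : ∀ i, i < 15243 → P i := stepQ 15242 Q15242 (allL N15242 (tt N12396 F26655) (tt N12169 F26656) (tt N18226 (iv F33055)) (tt N17977 (iv F32428)) (tt N12166 (iv D15270)) (tt N12390 F26657))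
theorem Q15244 : ∀ i, i < 15244 → P i := stepQ 15243 Q15243 (allL N15243 (tt N18212 (iv F33014)) (tt N12170 F26658) (tt N18227 D18261) (tt N12167 (iv D15271)) (tt N17977 (iv F32429)) (tt N12172 F26659))
theorem Q15245 : ∀ i, i < 15245 → P i := stepQ 15244 Q15244 (allL N15244 (tt N12168 (iv D15272)) (tt N13961 F26660) (tt N14005 F26661) (tt N15328 (iv F26843)) (tt N12377 F26662) (tt N15327 F26839))
theorem Q15246 : ∀ i, i < 15246 → P i := stepQ 15245 Q15245 (allL N15245 (tt N18205 (iv F33004)) (tt N17966 (iv F32403)) (tt N12172 (iv D15273)) (tt N18228 D18262) (tt N12181 F26663) (tt N18227 (iv F33057)))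
theorem Q15247 : ∀ i, i < 15247 → P i := stepQ 15246 Q15246 (allL N15246 (tt N17976 (iv F32423)) (tt N18208 (iv F33008)) (tt N12174 F26664) (tt N18229 D18263) (tt N12173 (iv D15274)) (tt N18230 D18264))
theorem Q15248 : ∀ i, i < 15248 → P i := stepQ 15247 Q15247 (allL N15247 (tt N17977 (iv F32426)) (tt N12175 F26665) (tt N18230 (iv F33058)) (tt N12396 F26666) (tt N18212 (iv F33017)) (tt N12174 (iv D15275)))
theorem Q15249 : ∀ i, i < 15249 → P i := stepQ 15248 Q15248 (allL N15248 (tt N12177 F26667) (tt N18203 (iv F33001)) (tt N12497 F26668) (tt N18231 D18265) (tt N12176 (iv D15276)) (tt N18232 D18266))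
theorem Q15250 : ∀ i, i < 15250 → P i := stepQ 15249 Q15249 (allL N15249 (tt N18231 (iv F33059)) (tt N12178 F26669) (tt N18233 D18267) (tt N12177 (iv D15277)) (tt N18192 (iv F32971)) (tt N18234 D18268))
theorem Q15251 : ∀ i, i < 15251 → P i := stepQ 15250 Q15250 (allL N15250 (tt N18232 (iv F33061)) (tt N12179 F26670) (tt N12498 F26671) (tt N18234 (iv F33064)) (tt N18191 (iv F32968)) (tt N12177 (iv D15278)))
theorem Q15252 : ∀ i, i < 15252 → P i := stepQ 15251 Q15251 (allL N15251 (tt N18214 (iv F33022)) (tt N18235 D18269) (tt N12178 (iv D15279)) (tt N13931 F26672) (tt N18193 (iv F32975)) (tt N13930 (iv F26673)))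
theorem Q15253 : ∀ i, i < 15253 → P i := stepQ 15252 Q15252 (allL N15252 (tt N18213 (iv F33018)) (tt N18234 (iv F33063)) (tt N13930 F26674) (tt N12179 F26675) (tt N18236 D18270) (tt N12178 (iv D15280)))
theorem Q15254 : ∀ i, i < 15254 → P i := stepQ 15253 Q15253 (allL N15253 (tt N12183 F26676) (tt N17975 (iv F32420)) (tt N12182 (iv D15281)) (tt N12183 F26677) (tt N18237 D18271) (tt N17964 (iv F32400)))
theorem Q15255 : ∀ i, i < 15255 → P i := stepQ 15254 Q15254 (allL N15254 (tt N12184 F26678) (tt N12497 F26679) (tt N18237 (iv F33072)) (tt N14023 F26680) (tt N12182 (iv D15282)) (tt N18238 D18272))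
theorem Q15256 : ∀ i, i < 15256 → P i := stepQ 15255 Q15255 (allL N15255 (tt N18237 (iv F33071)) (tt N17976 (iv F32424)) (tt N12184 F26681) (tt N18239 D18273) (tt N12183 (iv D15283)) (tt N18240 D18274))
theorem Q15257 : ∀ i, i < 15257 → P i := stepQ 15256 Q15256 (allL N15256 (tt N18238 (iv F33073)) (tt N12185 F26682) (tt N18240 (iv F33076)) (tt N14027 F26683) (tt N17967 (iv F32407)) (tt N12184 (iv D15284)))
theorem Q15258 : ∀ i, i < 15258 → P i := stepQ 15257 Q15257 (allL N15257 (tt N12187 F26684) (tt N17965 (iv F32402)) (tt N18190 (iv F32963)) (tt N18241 D18275) (tt N12186 (iv D15285)) (tt N18242 D18276))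
theorem Q15259 : ∀ i, i < 15259 → P i := stepQ 15258 Q15258 (allL N15258 (tt N18241 (iv F33077)) (tt N12188 F26685) (tt N18243 D18277) (tt N12187 (iv D15286)) (tt N12494 F26686) (tt N18183 (iv F32937)))
theorem Q15260 : ∀ i, i < 15260 → P i := stepQ 15259 Q15259 (allL N15259 (tt N18242 (iv F33079)) (tt N12189 F26687) (tt N18191 (iv F32966)) (tt N18183 (iv F32935)) (tt N12498 F26688) (tt N12187 (iv D15287)))
theorem Q15261 : ∀ i, i < 15261 → P i := stepQ 15260 Q15260 (allL N15260 (tt N12475 F26689) (tt N18244 D18278) (tt N12191 (iv D15288)) (tt N13991 F26691) (tt N12461 F26690) (tt N13992 (iv F26692)))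
theorem Q15262 : ∀ i, i < 15262 → P i := stepQ 15261 Q15261 (allL N15261 (tt N12476 F26693) (tt N18187 (iv F32953)) (tt N13992 F26694) (tt N12192 F26695) (tt N13993 F26696) (tt N12191 (iv D15289)))
theorem Q15263 : ∀ i, i < 15263 → P i := stepQ 15262 Q15262 (allL N15262 (tt N12193 (iv D15290)) (tt N12557 F26697) (tt N12201 F26698) (tt N18245 D18279) (tt N12651 F26699) (tt N16933 (iv F30257)))
theorem Q15264 : ∀ i, i < 15264 → P i := stepQ 15263 Q15263 (allL N15263 (tt N18245 (iv F33085)) (tt N12194 F26700) (tt N18246 D18280) (tt N12193 (iv D15291)) (tt N18247 D18281) (tt N16936 (iv F30263)))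
theorem Q15265 : ∀ i, i < 15265 → P i := stepQ 15264 Q15264 (allL N15264 (tt N12234 F26701) (tt N18248 D18282) (tt N12194 (iv D15292)) (tt N12228 F26702) (tt N18249 D18283) (tt N12227 (iv F26703)))
theorem Q15266 : ∀ i, i < 15266 → P i := stepQ 15265 Q15265 (allL N15265 (tt N12559 F26704) (tt N18247 (iv F33087)) (tt N18249 (iv F33092)) (tt N12654 F26705) (tt N12194 (iv D15293)) (tt N18250 D18284))
theorem Q15267 : ∀ i, i < 15267 → P i := stepQ 15266 Q15266 (allL N15266 (tt N12232 F26706) (tt N16936 (iv F30262)) (tt N12227 F26707) (tt N12195 F26708) (tt N18251 D18285) (tt N12194 (iv D15294)))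
theorem Q15268 : ∀ i, i < 15268 → P i := stepQ 15267 Q15267 (allL N15267 (tt N12555 F26709) (tt N16937 (iv F30264)) (tt N12196 F26710) (tt N18252 D18286) (tt N12195 (iv D15295)) (tt N12655 F26711))
theorem Q15269 : ∀ i, i < 15269 → P i := stepQ 15268 Q15268 (allL N15268 (tt N12197 (iv D15296)) (tt N12210 F26712) (tt N12651 F26713) (tt N18253 D18287) (tt N12201 F26714) (tt N18115 (iv F32770)))
theorem Q15270 : ∀ i, i < 15270 → P i := stepQ 15269 Q15269 (allL N15269 (tt N18253 (iv F33104)) (tt N12198 F26715) (tt N18254 D18288) (tt N12197 (iv D15297)) (tt N16939 (iv F30271)) (tt N18255 D18289))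
theorem Q15271 : ∀ i, i < 15271 → P i := stepQ 15270 Q15270 (allL N15270 (tt N18115 (iv F32768)) (tt N12199 F26716) (tt N12653 F26717) (tt N18255 (iv F33107)) (tt N16938 (iv F30269)) (tt N12197 (iv D15298)))
theorem Q15272 : ∀ i, i < 15272 → P i := stepQ 15271 Q15271 (allL N15271 (tt N12212 F26718) (tt N18256 D18290) (tt N12198 (iv D15299)) (tt N12208 F26719) (tt N16940 (iv F30273)) (tt N12207 (iv F26720)))
theorem Q15273 : ∀ i, i < 15273 → P i := stepQ 15272 Q15272 (allL N15272 (tt N12214 F26721) (tt N18255 (iv F33106)) (tt N12207 F26722) (tt N12199 F26723) (tt N18257 D18291) (tt N12198 (iv D15300)))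
theorem Q15274 : ∀ i, i < 15274 → P i := stepQ 15273 Q15273 (allL N15273 (tt N12203 F26724) (tt N14008 F26725) (tt N12202 (iv D15301)) (tt N12379 F26726) (tt N18258 D18292) (tt N14016 F26727))
theorem Q15275 : ∀ i, i < 15275 → P i := stepQ 15274 Q15274 (allL N15274 (tt N12204 F26728) (tt N12223 F26729) (tt N18258 (iv F33116)) (tt N12629 F26730) (tt N12202 (iv D15302)) (tt N18259 D18293))
theorem Q15276 : ∀ i, i < 15276 → P i := stepQ 15275 Q15275 (allL N15275 (tt N18258 (iv F33114)) (tt N12224 F26731) (tt N12204 F26732) (tt N18260 D18294) (tt N12203 (iv D15303)) (tt N18261 D18295))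
theorem Q15277 : ∀ i, i < 15277 → P i := stepQ 15276 Q15276 (allL N15276 (tt N18259 (iv F33117)) (tt N12205 F26733) (tt N18261 (iv F33124)) (tt N12632 F26734) (tt N16925 (iv F30235)) (tt N12204 (iv D15304)))
theorem Q15278 : ∀ i, i < 15278 → P i := stepQ 15277 Q15277 (allL N15277 (tt N12206 (iv D15305)) (tt N16656 (iv F29680)) (tt N12646 F26735) (tt N18262 D18296) (tt N16802 (iv F30013)) (tt N18263 D18297))
theorem Q15279 : ∀ i, i < 15279 → P i := stepQ 15278 Q15278 (allL N15278 (tt N18262 (iv F33126)) (tt N12207 F26736) (tt N18264 D18298) (tt N12206 (iv D15306)) (tt N18265 D18299) (tt N18256 (iv F33109)))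
theorem Q15280 : ∀ i, i < 15280 → P i := stepQ 15279 Q15279 (allL N15279 (tt N18263 (iv F33127)) (tt N12208 F26737) (tt N12648 F26738) (tt N18256 (iv F33108)) (tt N18266 D18300) (tt N12206 (iv D15307)))
theorem Q15281 : ∀ i, i < 15281 → P i := stepQ 15280 Q15280 (allL N15280 (tt N16658 (iv F29685)) (tt N18265 (iv F33129)) (tt N18257 (iv F33111)) (tt N12644 F26739) (tt N12207 (iv D15308)) (tt N18267 D18301))
theorem Q15282 : ∀ i, i < 15282 → P i := stepQ 15281 Q15281 (allL N15281 (tt N16659 (iv F29688)) (tt N18266 (iv F33131)) (tt N12209 F26740) (tt N18268 D18302) (tt N12208 (iv D15309)) (tt N16768 (iv F29937)))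
theorem Q15283 : ∀ i, i < 15283 → P i := stepQ 15282 Q15282 (allL N15282 (tt N12211 F26741) (tt N18253 (iv F33105)) (tt N18105 (iv F32732)) (tt N12210 (iv D15310)) (tt N18269 D18303) (tt N18116 (iv F32772)))
theorem Q15284 : ∀ i, i < 15284 → P i := stepQ 15283 Q15283 (allL N15283 (tt N18105 (iv F32731)) (tt N18270 D18304) (tt N12211 (iv D15311)) (tt N18101 (iv F32720)) (tt N18271 D18305) (tt N18118 (iv F32776)))
theorem Q15285 : ∀ i, i < 15285 → P i := stepQ 15284 Q15284 (allL N15284 (tt N18269 (iv F33135)) (tt N12213 F26742) (tt N18271 (iv F33138)) (tt N12219 F26743) (tt N12211 (iv D15312)) (tt N17445 (iv F31276)))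
theorem Q15286 : ∀ i, i < 15286 → P i := stepQ 15285 Q15285 (allL N15285 (tt N18272 D18306) (tt N12212 (iv D15313)) (tt N18270 (iv F33137)) (tt N16652 F29668) (tt N18273 D18307) (tt N16657 (iv F29684)))
theorem Q15287 : ∀ i, i < 15287 → P i := stepQ 15286 Q15286 (allL N15286 (tt N16940 (iv F30272)) (tt N18273 (iv F33139)) (tt N12213 F26744) (tt N18274 D18308) (tt N12212 (iv D15314)) (tt N18275 D18309))
theorem Q15288 : ∀ i, i < 15288 → P i := stepQ 15287 Q15287 (allL N15287 (tt N16932 (iv F30252)) (tt N17445 (iv F31275)) (tt N18275 (iv F33140)) (tt N12221 F26745) (tt N18276 D18310) (tt N12213 (iv D15315)))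
theorem Q15289 : ∀ i, i < 15289 → P i := stepQ 15288 Q15288 (allL N15288 (tt N18257 (iv F33110)) (tt N18119 (iv F32777)) (tt N16658 (iv F29686)) (tt N18277 D18311) (tt N12214 (iv D15316)) (tt N18276 (iv F33143)))
theorem Q15290 : ∀ i, i < 15290 → P i := stepQ 15289 Q15289 (allL N15289 (tt N16931 (iv F30248)) (tt N18120 (iv F32778)) (tt N18278 D18312) (tt N12215 (iv D15317)) (tt N18277 (iv F33146)) (tt N12222 F26746))
theorem Q15291 : ∀ i, i < 15291 → P i := stepQ 15290 Q15290 (allL N15290 (tt N12218 F26747) (tt N16869 (iv F30141)) (tt N12216 (iv D15318)) (tt N18279 D18313) (tt N17443 (iv F31271)) (tt N16866 (iv F30130)))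
theorem Q15292 : ∀ i, i < 15292 → P i := stepQ 15291 Q15291 (allL N15291 (tt N12219 F26748) (tt N16935 (iv F30261)) (tt N17443 (iv F31270)) (tt N18269 (iv F33136)) (tt N12216 (iv D15319)) (tt N17442 (iv F31268)))
theorem Q15293 : ∀ i, i < 15293 → P i := stepQ 15292 Q15292 (allL N15292 (tt N12220 F26749) (tt N16934 (iv F30259)) (tt N12604 F26750) (tt N18280 D18314) (tt N12217 (iv D15320)) (tt N18117 (iv F32775)))
theorem Q15294 : ∀ i, i < 15294 → P i := stepQ 15293 Q15293 (allL N15293 (tt N18279 (iv F33152)) (tt N15714 F27654) (tt N18281 D18315) (tt N12218 (iv D15321)) (tt N18282 D18316) (tt N16867 (iv F30135)))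
theorem Q15295 : ∀ i, i < 15295 → P i := stepQ 15294 Q15294 (allL N15294 (tt N18280 (iv F33155)) (tt N12222 F26751) (tt N18283 D18317) (tt N12220 (iv D15322)) (tt N12585 F26752) (tt N18120 (iv F32779)))
theorem Q15296 : ∀ i, i < 15296 → P i := stepQ 15295 Q15295 (allL N15295 (tt N12592 F26753) (tt N18284 D18318) (tt N12222 (iv D15323)) (tt N18285 D18319) (tt N12577 F26754) (tt N18278 (iv F33151)))
theorem Q15297 : ∀ i, i < 15297 → P i := stepQ 15296 Q15296 (allL N15296 (tt N12225 F26755) (tt N18259 (iv F33118)) (tt N14013 F26756) (tt N12634 F26757) (tt N14018 F26758) (tt N12223 (iv D15324)))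
theorem Q15298 : ∀ i, i < 15298 → P i := stepQ 15297 Q15297 (allL N15297 (tt N14012 F26759) (tt N18260 (iv F33121)) (tt N18286 D18320) (tt N12224 (iv D15325)) (tt N14006 F26760) (tt N18287 D18321))
theorem Q15299 : ∀ i, i < 15299 → P i := stepQ 15298 Q15298 (allL N15298 (tt N14013 F26761) (tt N18261 (iv F33123)) (tt N12225 F26762) (tt N18287 (iv F33175)) (tt N14021 F26763) (tt N12224 (iv D15326)))
theorem Q15300 : ∀ i, i < 15300 → P i := stepQ 15299 Q15299 (allL N15299 (tt N12226 (iv D15327)) (tt N12230 F26764) (tt N12250 F26765) (tt N18288 D18322) (tt N15229 F26766) (tt N18121 (iv F32782)))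
theorem Q15301 : ∀ i, i < 15301 → P i := stepQ 15300 Q15300 (allL N15300 (tt N18288 (iv F33176)) (tt N12227 F26767) (tt N18289 D18323) (tt N12226 (iv D15328)) (tt N16724 (iv F29842)) (tt N18248 (iv F33090)))
theorem Q15302 : ∀ i, i < 15302 → P i := stepQ 15301 Q15301 (allL N15301 (tt N18121 (iv F32780)) (tt N12228 F26768) (tt N12251 F26769) (tt N18248 (iv F33089)) (tt N18290 D18324) (tt N12226 (iv D15329)))
theorem Q15303 : ∀ i, i < 15303 → P i := stepQ 15302 Q15302 (allL N15302 (tt N12233 F26770) (tt N16724 (iv F29841)) (tt N18251 (iv F33097)) (tt N15232 F26771) (tt N12227 (iv D15330)) (tt N18291 D18325))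
theorem Q15304 : ∀ i, i < 15304 → P i := stepQ 15303 Q15303 (allL N15303 (tt N12235 F26772) (tt N18290 (iv F33181)) (tt N12229 F26773) (tt N18292 D18326) (tt N12228 (iv D15331)) (tt N15233 F26774))
theorem Q15305 : ∀ i, i < 15305 → P i := stepQ 15304 Q15304 (allL N15304 (tt N12231 F26775) (tt N18288 (iv F33177)) (tt N16996 (iv F30408)) (tt N12230 (iv D15332)) (tt N16996 F30409) (tt N18122 (iv F32784)))
theorem Q15306 : ∀ i, i < 15306 → P i := stepQ 15305 Q15305 (allL N15305 (tt N16996 (iv F30407)) (tt N12233 F27437) (tt N12231 (iv D15333)) (tt N16994 (iv F30403)) (tt N12231 F27438) (tt N18124 (iv F32788)))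
theorem Q15307 : ∀ i, i < 15307 → P i := stepQ 15306 Q15306 (allL N15306 (tt N18251 (iv F33096)) (tt N12232 (iv D15335)) (tt N12233 F27435) (tt N12556 F26777) (tt N12232 F27436) (tt N12558 F26778))
theorem Q15308 : ∀ i, i < 15308 → P i := stepQ 15307 Q15307 (allL N15307 (tt N18291 (iv F33184)) (tt N18124 (iv F32787)) (tt N12558 F27439) (tt N17719 (iv F31891)) (tt N18293 D18327) (tt N12233 (iv D15337)))
theorem Q15309 : ∀ i, i < 15309 → P i := stepQ 15308 Q15308 (allL N15308 (tt N18249 (iv F33091)) (tt N18125 (iv F32789)) (tt N12559 F26780) (tt N18294 D18328) (tt N12234 (iv D15338)) (tt N18293 (iv F33190)))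
theorem Q15310 : ∀ i, i < 15310 → P i := stepQ 15309 Q15309 (allL N15309 (tt N18292 (iv F33187)) (tt N18126 (iv F32790)) (tt N18295 D18329) (tt N12235 (iv D15339)) (tt N18294 (iv F33191)) (tt N17720 (iv F31892)))
theorem Q15311 : ∀ i, i < 15311 → P i := stepQ 15310 Q15310 (allL N15310 (tt N12523 F26781) (tt N18296 D18330) (tt N12236 (iv D15340)) (tt N18297 D18331) (tt N12237 F26782) (tt N12341 F26783))
theorem Q15312 : ∀ i, i < 15312 → P i := stepQ 15311 Q15311 (allL N15311 (tt N13850 F26784) (tt N12237 (iv D15341)) (tt N12241 F26785) (tt N12550 F26786) (tt N18296 (iv F33194)) (tt N12238 F26787))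
theorem Q15313 : ∀ i, i < 15313 → P i := stepQ 15312 Q15312 (allL N15312 (tt N12238 (iv D15342)) (tt N12518 F26788) (tt N12242 F26789) (tt N15762 (iv F27763)) (tt N12335 F26790) (tt N13850 F26791))
theorem Q15314 : ∀ i, i < 15314 → P i := stepQ 15313 Q15313 (allL N15313 (tt N15762 (iv F27761)) (tt N12239 F26792) (tt N14057 (iv F26795)) (tt N12238 (iv D15343)) (tt N12878 F26793) (tt N12550 F26794))
theorem Q15315 : ∀ i, i < 15315 → P i := stepQ 15314 Q15314 (allL N15314 (tt N12521 F26796) (tt N12878 F26797) (tt N12553 F26798) (tt N12339 F26799) (tt N12239 (iv D15344)) (tt N17756 (iv F31971)))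
theorem Q15316 : ∀ i, i < 15316 → P i := stepQ 15315 Q15315 (allL N15315 (tt N18298 D18332) (tt N12240 (iv D15345)) (tt N18296 (iv F33193)) (tt N17998 (iv F32482)) (tt N12241 F26800) (tt N12346 F26801))
theorem Q15317 : ∀ i, i < 15317 → P i := stepQ 15316 Q15316 (allL N15316 (tt N12241 (iv D15346)) (tt N12281 F26802) (tt N13850 F26803) (tt N12291 F26804) (tt N18298 (iv F33204)) (tt N12242 F26805))
theorem Q15318 : ∀ i, i < 15318 → P i := stepQ 15317 Q15317 (allL N15317 (tt N12243 F26806) (tt N12282 F26807) (tt N14094 (iv F26809)) (tt N12242 (iv D15347)) (tt N18299 D18333) (tt N12291 F26808))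
theorem Q15319 : ∀ i, i < 15319 → P i := stepQ 15318 Q15318 (allL N15318 (tt N18299 (iv F33206)) (tt N12244 F26810) (tt N14095 F26811) (tt N12345 F26812) (tt N12243 (iv D15348)) (tt N17997 (iv F32478)))
theorem Q15320 : ∀ i, i < 15320 → P i := stepQ 15319 Q15319 (allL N15319 (tt N14091 F26813) (tt N12283 F26814) (tt N12245 (iv D15349)) (tt N14941 F26816) (tt N18300 D18334) (tt N12248 F26815))
theorem Q15321 : ∀ i, i < 15321 → P i := stepQ 15320 Q15320 (allL N15320 (tt N14092 F26817) (tt N12246 F26818) (tt N18300 (iv F33212)) (tt N16815 (iv F30039)) (tt N12245 (iv D15350)) (tt N18004 (iv F32498)))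
theorem Q15322 : ∀ i, i < 15322 → P i := stepQ 15321 Q15321 (allL N15321 (tt N12248 F26819) (tt N14074 F26820) (tt N12247 (iv D15351)) (tt N15843 (iv F27917)) (tt N17999 (iv F32486)) (tt N14091 F26821))
theorem Q15323 : ∀ i, i < 15323 → P i := stepQ 15322 Q15322 (allL N15322 (tt N14947 F26822) (tt N12248 (iv D15352)) (tt N12249 F26823) (tt N14942 (iv F26825)) (tt N18001 (iv F32493)) (tt N12283 F26824))
theorem Q15324 : ∀ i, i < 15324 → P i := stepQ 15323 Q15323 (allL N15323 (tt N15843 (iv F27915)) (tt N14942 F26826) (tt N15837 (iv F27904)) (tt N12248 (iv D15353)) (tt N18301 D18335) (tt N14941 F26827))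
theorem Q15325 : ∀ i, i < 15325 → P i := stepQ 15324 Q15324 (allL N15324 (tt N12249 (iv D15354)) (tt N12291 F26828) (tt N14947 F26829) (tt N12281 F26830) (tt N18005 (iv F32501)) (tt N12282 F26831))
theorem Q15326 : ∀ i, i < 15326 → P i := stepQ 15325 Q15325 (allL N15325 (tt N12251 F26832) (tt N12258 F26833) (tt N18121 (iv F32781)) (tt N12299 F26834) (tt N18302 D18336) (tt N12250 (iv D15355)))
theorem Q15327 : ∀ i, i < 15327 → P i := stepQ 15326 Q15326 (allL N15326 (tt N18302 (iv F33214)) (tt N12252 F26835) (tt N18290 (iv F33182)) (tt N15439 (iv F27053)) (tt N12251 (iv D15356)) (tt N15237 F26836))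
theorem Q15328 : ∀ i, i < 15328 → P i := stepQ 15327 Q15327 (allL N15327 (tt N12254 F26837) (tt N15234 F26838) (tt N17078 (iv F30543)) (tt N12253 (iv D15357)) (tt N18303 D18337) (tt N15244 (iv F26839)))
theorem Q15329 : ∀ i, i < 15329 → P i := stepQ 15328 Q15328 (allL N15328 (tt N12255 F26840) (tt N15235 F26841) (tt N12265 F26842) (tt N15244 F26843) (tt N15440 (iv F27056)) (tt N12253 (iv D15358)))
theorem Q15330 : ∀ i, i < 15330 → P i := stepQ 15329 Q15329 (allL N15329 (tt N17078 (iv F30541)) (tt N15241 F26844) (tt N12254 (iv D15359)) (tt N18304 D18338) (tt N18305 D18339) (tt N15239 F26845))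
theorem Q15331 : ∀ i, i < 15331 → P i := stepQ 15330 Q15330 (allL N15330 (tt N18303 (iv F33217)) (tt N12256 F26846) (tt N18305 (iv F33224)) (tt N12260 F26847) (tt N12254 (iv D15360)) (tt N14969 F26848))
theorem Q15332 : ∀ i, i < 15332 → P i := stepQ 15331 Q15331 (allL N15331 (tt N12259 F26849) (tt N18306 D18340) (tt N12257 (iv D15361)) (tt N17918 (iv F32302)) (tt N18307 D18341) (tt N18308 D18342))
theorem Q15333 : ∀ i, i < 15333 → P i := stepQ 15332 Q15332 (allL N15332 (tt N12260 F26850) (tt N17159 (iv F30689)) (tt N18307 (iv F33230)) (tt N18303 (iv F33219)) (tt N12257 (iv D15362)) (tt N18309 D18343))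
theorem Q15334 : ∀ i, i < 15334 → P i := stepQ 15333 Q15333 (allL N15333 (tt N12261 F26851) (tt N12299 F26852) (tt N18308 (iv F33233)) (tt N12258 F26853) (tt N14744 (iv F26854)) (tt N12257 (iv D15363)))
theorem Q15335 : ∀ i, i < 15335 → P i := stepQ 15334 Q15334 (allL N15334 (tt N12262 F26855) (tt N18302 (iv F33215)) (tt N12276 F26856) (tt N15441 (iv F27061)) (tt N12258 (iv D15364)) (tt N15440 (iv F27057)))
theorem Q15336 : ∀ i, i < 15336 → P i := stepQ 15335 Q15335 (allL N15335 (tt N17918 (iv F32300)) (tt N17137 (iv F30652)) (tt N17917 (iv F32299)) (tt N12259 (iv D15365)) (tt N18310 D18344) (tt N18311 D18345))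
theorem Q15337 : ∀ i, i < 15337 → P i := stepQ 15336 Q15336 (allL N15336 (tt N18307 (iv F33229)) (tt N17128 (iv F30641)) (tt N12260 F26857) (tt N18312 D18346) (tt N12259 (iv D15366)) (tt N18313 D18347))
theorem Q15338 : ∀ i, i < 15338 → P i := stepQ 15337 Q15337 (allL N15337 (tt N18308 (iv F33231)) (tt N12298 F26858) (tt N12261 F26859) (tt N18311 (iv F33242)) (tt N14740 (iv F26860)) (tt N12259 (iv D15367)))
theorem Q15339 : ∀ i, i < 15339 → P i := stepQ 15338 Q15338 (allL N15338 (tt N18309 (iv F33236)) (tt N12263 F26861) (tt N18313 (iv F33244)) (tt N14969 F26862) (tt N14746 F26863) (tt N12260 (iv D15368)))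
theorem Q15340 : ∀ i, i < 15340 → P i := stepQ 15339 Q15339 (allL N15339 (tt N12266 F26864) (tt N18314 D18348) (tt N12264 (iv D15369)) (tt N18315 D18349) (tt N18316 D18350) (tt N17699 (iv F31851)))
theorem Q15341 : ∀ i, i < 15341 → P i := stepQ 15340 Q15340 (allL N15340 (tt N12267 F26865) (tt N17722 (iv F31895)) (tt N18316 (iv F33249)) (tt N12275 F26866) (tt N12264 (iv D15370)) (tt N17933 (iv F32329)))
theorem Q15342 : ∀ i, i < 15342 → P i := stepQ 15341 Q15341 (allL N15341 (tt N12268 F26867) (tt N17723 (iv F31898)) (tt N15440 F27058) (tt N17932 (iv F32327)) (tt N12265 (iv D15371)) (tt N12276 F26868))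
theorem Q15343 : ∀ i, i < 15343 → P i := stepQ 15342 Q15342 (allL N15342 (tt N18315 (iv F33246)) (tt N17703 (iv F31858)) (tt N17077 (iv F30540)) (tt N12266 (iv D15372)) (tt N18317 D18351) (tt N17700 (iv F31853)))
theorem Q15344 : ∀ i, i < 15344 → P i := stepQ 15343 Q15343 (allL N15343 (tt N18316 (iv F33248)) (tt N17704 (iv F31861)) (tt N12267 F26869) (tt N18318 D18352) (tt N12266 (iv D15373)) (tt N17936 (iv F32334)))
theorem Q15345 : ∀ i, i < 15345 → P i := stepQ 15344 Q15344 (allL N15344 (tt N18319 D18353) (tt N12269 (iv D15374)) (tt N12537 F26870) (tt N17897 (iv F32262)) (tt N12270 F26871) (tt N12279 F26872))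
theorem Q15346 : ∀ i, i < 15346 → P i := stepQ 15345 Q15345 (allL N15345 (tt N12270 (iv D15375)) (tt N12343 F26873) (tt N12534 F26874) (tt N12359 F26875) (tt N18319 (iv F33253)) (tt N12271 F26876))
theorem Q15347 : ∀ i, i < 15347 → P i := stepQ 15346 Q15346 (allL N15346 (tt N12272 F26877) (tt N12342 F26878) (tt N18320 D18354) (tt N12271 (iv D15376)) (tt N18321 D18355) (tt N12359 F26879))
theorem Q15348 : ∀ i, i < 15348 → P i := stepQ 15347 Q15347 (allL N15347 (tt N18320 (iv F33255)) (tt N12355 F26880) (tt N12272 (iv D15377)) (tt N18322 D18356) (tt N18323 D18357) (tt N12352 F26881))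
theorem Q15349 : ∀ i, i < 15349 → P i := stepQ 15348 Q15348 (allL N15348 (tt N18321 (iv F33257)) (tt N12273 F26882) (tt N18323 (iv F33263)) (tt N12284 F26883) (tt N12272 (iv D15378)) (tt N17901 (iv F32274)))
theorem Q15350 : ∀ i, i < 15350 → P i := stepQ 15349 Q15349 (allL N15349 (tt N15713 (iv F27649)) (tt N12274 (iv D15379)) (tt N16945 (iv F30285)) (tt N18324 D18358) (tt N18325 D18359) (tt N15711 F27647))
theorem Q15351 : ∀ i, i < 15351 → P i := stepQ 15350 Q15350 (allL N15350 (tt N12277 F26884) (tt N18324 (iv F33264)) (tt N18311 (iv F33241)) (tt N12274 (iv D15380)) (tt N18326 D18360) (tt N17917 (iv F32298)))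
theorem Q15352 : ∀ i, i < 15352 → P i := stepQ 15351 Q15351 (allL N15351 (tt N12278 F26885) (tt N18325 (iv F33265)) (tt N12275 F26886) (tt N18327 D18361) (tt N12274 (iv D15381)) (tt N17924 (iv F32315)))
theorem Q15353 : ∀ i, i < 15353 → P i := stepQ 15352 Q15352 (allL N15352 (tt N18311 (iv F33239)) (tt N16870 (iv F30143)) (tt N12277 (iv D15382)) (tt N18308 (iv F33234)) (tt N18328 D18362) (tt N17918 (iv F32301)))
theorem Q15354 : ∀ i, i < 15354 → P i := stepQ 15353 Q15353 (allL N15353 (tt N18326 (iv F33266)) (tt N16874 (iv F30152)) (tt N18328 (iv F33268)) (tt N18329 D18363) (tt N12277 (iv D15383)) (tt N18330 D18364))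
theorem Q15355 : ∀ i, i < 15355 → P i := stepQ 15354 Q15354 (allL N15354 (tt N18327 (iv F33267)) (tt N17921 (iv F32307)) (tt N18331 D18365) (tt N12278 (iv D15384)) (tt N18329 (iv F33270)) (tt N17928 (iv F32319)))
theorem Q15356 : ∀ i, i < 15356 → P i := stepQ 15355 Q15355 (allL N15355 (tt N12279 (iv D15385)) (tt N18298 (iv F33201)) (tt N12541 F26887) (tt N18332 D18366) (tt N12281 F26888) (tt N18319 (iv F33254)))
theorem Q15357 : ∀ i, i < 15357 → P i := stepQ 15356 Q15356 (allL N15356 (tt N18332 (iv F33274)) (tt N12280 F26889) (tt N18333 D18367) (tt N12279 (iv D15386)) (tt N17892 (iv F32248)) (tt N17897 (iv F32264)))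
theorem Q15358 : ∀ i, i < 15358 → P i := stepQ 15357 Q15357 (allL N15357 (tt N12284 F26890) (tt N18299 (iv F33207)) (tt N14946 F26891) (tt N18321 (iv F33259)) (tt N12282 (iv D15387)) (tt N18334 D18368))
theorem Q15359 : ∀ i, i < 15359 → P i := stepQ 15358 Q15358 (allL N15358 (tt N14946 F26892) (tt N18300 (iv F33211)) (tt N12284 F26893) (tt N15821 (iv F27890)) (tt N12283 (iv D15388)) (tt N18335 D18369))
theorem Q15360 : ∀ i, i < 15360 → P i := stepQ 15359 Q15359 (allL N15359 (tt N18334 (iv F33278)) (tt N12285 F26894) (tt N18335 (iv F33281)) (tt N17901 (iv F32273)) (tt N17894 F32254) (tt N12284 (iv D15389)))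
theorem Q15361 : ∀ i, i < 15361 → P i := stepQ 15360 Q15360 (allL N15360 (tt N12290 F26895) (tt N18000 (iv F32488)) (tt N14079 F26896) (tt N12295 F26897) (tt N14093 F26898) (tt N12287 (iv D15390)))
theorem Q15362 : ∀ i, i < 15362 → P i := stepQ 15361 Q15361 (allL N15361 (tt N12288 (iv D15391)) (tt N14072 F26899) (tt N12291 F26900) (tt N14069 F26901) (tt N18336 D18370) (tt N14094 F26902))
theorem Q15363 : ∀ i, i < 15363 → P i := stepQ 15362 Q15362 (allL N15362 (tt N18336 (iv F33282)) (tt N12289 F26903) (tt N12292 F26904) (tt N17504 (iv F31421)) (tt N12288 (iv D15392)) (tt N17508 (iv F31436)))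
theorem Q15364 : ∀ i, i < 15364 → P i := stepQ 15363 Q15363 (allL N15363 (tt N14079 F26905) (tt N17508 (iv F31434)) (tt N12290 F26906) (tt N17487 (iv F31387)) (tt N14097 F26907) (tt N12289 (iv D15393)))
theorem Q15365 : ∀ i, i < 15365 → P i := stepQ 15364 Q15364 (allL N15364 (tt N12292 F26908) (tt N18005 (iv F32499)) (tt N18336 (iv F33284)) (tt N17996 (iv F32473)) (tt N12291 (iv D15394)) (tt N17995 (iv F32470)))
theorem Q15366 : ∀ i, i < 15366 → P i := stepQ 15365 Q15365 (allL N15365 (tt N12897 F26909) (tt N12294 F26910) (tt N12900 F26911) (tt N18337 D18371) (tt N12293 (iv D15395)) (tt N18338 D18372))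
theorem Q15367 : ∀ i, i < 15367 → P i := stepQ 15366 Q15366 (allL N15366 (tt N12296 F26912) (tt N18337 (iv F33288)) (tt N17477 (iv F31360)) (tt N12294 (iv D15396)) (tt N13707 F26913) (tt N18339 D18373))
theorem Q15368 : ∀ i, i < 15368 → P i := stepQ 15367 Q15367 (allL N15367 (tt N12297 F26914) (tt N18338 (iv F33291)) (tt N12295 F26915) (tt N18339 (iv F33294)) (tt N17528 (iv F31477)) (tt N12294 (iv D15397)))
theorem Q15369 : ∀ i, i < 15369 → P i := stepQ 15368 Q15368 (allL N15368 (tt N17477 (iv F31358)) (tt N17516 (iv F31458)) (tt N12296 (iv D15398)) (tt N17486 (iv F31382)) (tt N17466 F31332) (tt N17514 (iv F31454)))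
theorem Q15370 : ∀ i, i < 15370 → P i := stepQ 15369 Q15369 (allL N15369 (tt N18339 (iv F33293)) (tt N17989 (iv F32452)) (tt N17514 (iv F31452)) (tt N12297 F26916) (tt N17515 (iv F31455)) (tt N12296 (iv D15399)))
theorem Q15371 : ∀ i, i < 15371 → P i := stepQ 15370 Q15370 (allL N15370 (tt N13770 F26917) (tt N18311 (iv F33240)) (tt N18340 D18374) (tt N12298 (iv D15400)) (tt N18341 D18375) (tt N17137 (iv F30654)))
theorem Q15372 : ∀ i, i < 15372 → P i := stepQ 15371 Q15371 (allL N15371 (tt N12300 F26918) (tt N14744 F26919) (tt N13782 F26920) (tt N15909 (iv F28020)) (tt N12299 (iv D15401)) (tt N15908 F28018))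
theorem Q15373 : ∀ i, i < 15373 → P i := stepQ 15372 Q15372 (allL N15372 (tt N12303 F26921) (tt N12325 F26922) (tt N12301 (iv D15402)) (tt N12324 F26923) (tt N18342 D18376) (tt N13697 F26924))
theorem Q15374 : ∀ i, i < 15374 → P i := stepQ 15373 Q15373 (allL N15373 (tt N13700 F26925) (tt N12302 F26926) (tt N18342 (iv F33302)) (tt N16776 (iv F29953)) (tt N12301 (iv D15403)) (tt N17473 (iv F31348)))
theorem Q15375 : ∀ i, i < 15375 → P i := stepQ 15374 Q15374 (allL N15374 (tt N18342 (iv F33300)) (tt N12304 F26927) (tt N13700 F26928) (tt N18343 D18377) (tt N12303 (iv D15404)) (tt N18344 D18378))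
theorem Q15376 : ∀ i, i < 15376 → P i := stepQ 15375 Q15375 (allL N15375 (tt N18027 (iv F32541)) (tt N18343 (iv F33303)) (tt N18345 D18379) (tt N12304 (iv D15405)) (tt N17527 (iv F31474)) (tt N18346 D18380))
theorem Q15377 : ∀ i, i < 15377 → P i := stepQ 15376 Q15376 (allL N15376 (tt N17476 (iv F31354)) (tt N18344 (iv F33304)) (tt N12305 F26929) (tt N18346 (iv F33307)) (tt N13708 F26930) (tt N12304 (iv D15406)))
theorem Q15378 : ∀ i, i < 15378 → P i := stepQ 15377 Q15377 (allL N15377 (tt N12306 (iv D15407)) (tt N12726 F26931) (tt N12529 F26932) (tt N12718 (iv F26934)) (tt N15177 F26933) (tt N17668 (iv F31779)))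
theorem Q15379 : ∀ i, i < 15379 → P i := stepQ 15378 Q15378 (allL N15378 (tt N12718 F26935) (tt N12307 F26936) (tt N12712 (iv F26938)) (tt N12306 (iv D15408)) (tt N12711 F26937) (tt N16589 (iv F29514)))
theorem Q15380 : ∀ i, i < 15380 → P i := stepQ 15379 Q15379 (allL N15379 (tt N17668 (iv F31777)) (tt N12308 F26939) (tt N12531 F26940) (tt N16589 (iv F29513)) (tt N18347 D18381) (tt N12306 (iv D15409)))
theorem Q15381 : ∀ i, i < 15381 → P i := stepQ 15380 Q15380 (allL N15380 (tt N12719 F26941) (tt N12711 F26942) (tt N12731 F26943) (tt N15179 F26944) (tt N12307 (iv D15410)) (tt N12709 (iv F26945)))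
theorem Q15382 : ∀ i, i < 15382 → P i := stepQ 15381 Q15381 (allL N15381 (tt N15465 (iv F27108)) (tt N18347 (iv F33308)) (tt N12309 F26946) (tt N18348 D18382) (tt N12308 (iv D15411)) (tt N15180 F26947))
theorem Q15383 : ∀ i, i < 15383 → P i := stepQ 15382 Q15382 (allL N15382 (tt N12727 (iv F26950)) (tt N12313 (iv D15412)) (tt N12722 F26948) (tt N15464 (iv F27107)) (tt N17379 (iv F31158)) (tt N12721 F26949))
theorem Q15384 : ∀ i, i < 15384 → P i := stepQ 15383 Q15383 (allL N15383 (tt N16590 (iv F29516)) (tt N17379 (iv F31157)) (tt N12314 F26951) (tt N18349 D18383) (tt N12313 (iv D15413)) (tt N17658 (iv F31756)))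
theorem Q15385 : ∀ i, i < 15385 → P i := stepQ 15384 Q15384 (allL N15384 (tt N12730 F26952) (tt N12737 F26953) (tt N17658 (iv F31754)) (tt N12318 F26954) (tt N12729 F26955) (tt N12314 (iv D15414)))
theorem Q15386 : ∀ i, i < 15386 → P i := stepQ 15385 Q15385 (allL N15385 (tt N12872 F26956) (tt N17953 (iv F32368)) (tt N12851 F26959) (tt N12316 (iv D15415)) (tt N13799 F26957) (tt N12319 F26958))
theorem Q15387 : ∀ i, i < 15387 → P i := stepQ 15386 Q15386 (allL N15386 (tt N12740 F26960) (tt N12318 F26961) (tt N17648 (iv F31732)) (tt N12737 F26962) (tt N17810 (iv F32109)) (tt N12317 (iv D15416)))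
theorem Q15388 : ∀ i, i < 15388 → P i := stepQ 15387 Q15387 (allL N15387 (tt N12870 F26963) (tt N15641 (iv F27519)) (tt N12319 (iv D15417)) (tt N12852 F26964) (tt N15688 (iv F27605)) (tt N12851 F26965))
theorem Q15389 : ∀ i, i < 15389 → P i := stepQ 15388 Q15388 (allL N15388 (tt N17825 (iv F32137)) (tt N12323 F26966) (tt N17820 (iv F32131)) (tt N16582 (iv F29493)) (tt N12321 (iv D15418)) (tt N15976 (iv F28191)))
theorem Q15390 : ∀ i, i < 15390 → P i := stepQ 15389 Q15389 (allL N15389 (tt N12322 (iv D15419)) (tt N12359 F26967) (tt N12876 F26968) (tt N12343 F26969) (tt N17776 (iv F32023)) (tt N12342 F26970))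
theorem Q15391 : ∀ i, i < 15391 → P i := stepQ 15390 Q15390 (allL N15390 (tt N17526 (iv F31470)) (tt N12326 F26971) (tt N12375 F26972) (tt N18350 D18384) (tt N12324 (iv D15420)) (tt N18351 D18385))
theorem Q15392 : ∀ i, i < 15392 → P i := stepQ 15391 Q15391 (allL N15391 (tt N12328 F26973) (tt N18342 (iv F33301)) (tt N12328 F26974) (tt N18352 D18386) (tt N12325 (iv D15421)) (tt N18353 D18387))
theorem Q15393 : ∀ i, i < 15393 → P i := stepQ 15392 Q15392 (allL N15392 (tt N12329 F26975) (tt N18350 (iv F33316)) (tt N18354 D18388) (tt N12326 (iv D15422)) (tt N18352 (iv F33321)) (tt N18355 D18389))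
theorem Q15394 : ∀ i, i < 15394 → P i := stepQ 15393 Q15393 (allL N15393 (tt N12330 F26976) (tt N18351 (iv F33317)) (tt N12327 F26977) (tt N18355 (iv F33326)) (tt N12899 F26978) (tt N12326 (iv D15423)))
theorem Q15395 : ∀ i, i < 15395 → P i := stepQ 15394 Q15394 (allL N15394 (tt N18352 (iv F33320)) (tt N18027 (iv F32542)) (tt N18356 D18390) (tt N12328 (iv D15424)) (tt N12329 F26979) (tt N18357 D18391))
theorem Q15396 : ∀ i, i < 15396 → P i := stepQ 15395 Q15395 (allL N15395 (tt N18353 (iv F33322)) (tt N17476 (iv F31355)) (tt N18353 (iv F33323)) (tt N18357 (iv F33328)) (tt N17475 (iv F31353)) (tt N12328 (iv D15425)))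
theorem Q15397 : ∀ i, i < 15397 → P i := stepQ 15396 Q15396 (allL N15396 (tt N18354 (iv F33324)) (tt N18358 D18392) (tt N12329 (iv D15426)) (tt N18359 D18393) (tt N18356 (iv F33327)) (tt N18360 D18394))
theorem Q15398 : ∀ i, i < 15398 → P i := stepQ 15397 Q15397 (allL N15397 (tt N18355 (iv F33325)) (tt N17202 F30778) (tt N18360 (iv F33329)) (tt N12330 F26980) (tt N18361 D18395) (tt N12329 (iv D15427)))
theorem Q15399 : ∀ i, i < 15399 → P i := stepQ 15398 Q15398 (allL N15398 (tt N12331 (iv D15428)) (tt N12335 F26981) (tt N12524 F26982) (tt N12453 (iv F26984)) (tt N12518 F26983) (tt N18110 (iv F32749)))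
theorem Q15400 : ∀ i, i < 15400 → P i := stepQ 15399 Q15399 (allL N15399 (tt N12453 F26985) (tt N12332 F26986) (tt N12450 (iv F26987)) (tt N12331 (iv D15429)) (tt N12449 F26989) (tt N14396 (iv F26988)))
theorem Q15401 : ∀ i, i < 15401 → P i := stepQ 15400 Q15400 (allL N15400 (tt N18110 (iv F32746)) (tt N12333 F26990) (tt N12526 F26991) (tt N14396 F26992) (tt N13858 F26993) (tt N12331 (iv D15430)))
theorem Q15402 : ∀ i, i < 15402 → P i := stepQ 15401 Q15401 (allL N15401 (tt N12339 F26994) (tt N12449 F26995) (tt N12881 F26996) (tt N12521 F26997) (tt N12332 (iv D15431)) (tt N17755 (iv F31966)))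
theorem Q15403 : ∀ i, i < 15403 → P i := stepQ 15402 Q15402 (allL N15402 (tt N12341 F26998) (tt N13858 F26999) (tt N12334 F27000) (tt N18362 D18396) (tt N12333 (iv D15432)) (tt N12523 F27001))
theorem Q15404 : ∀ i, i < 15404 → P i := stepQ 15403 Q15403 (allL N15403 (tt N18114 (iv F32763)) (tt N12341 F27002) (tt N12346 F27003) (tt N14209 F27004) (tt N12337 (iv D15433)) (tt N18296 (iv F33195)))
theorem Q15405 : ∀ i, i < 15405 → P i := stepQ 15404 Q15404 (allL N15404 (tt N18362 (iv F33330)) (tt N14209 F27005) (tt N18363 D18397) (tt N12341 (iv D15434)) (tt N14211 F27006) (tt N18297 (iv F33200)))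
theorem Q15406 : ∀ i, i < 15406 → P i := stepQ 15405 Q15405 (allL N15405 (tt N12344 F27007) (tt N17672 (iv F31790)) (tt N12342 (iv D15435)) (tt N12877 F27008) (tt N17373 (iv F31146)) (tt N12876 F27009))
theorem Q15407 : ∀ i, i < 15407 → P i := stepQ 15406 Q15406 (allL N15406 (tt N12345 F27010) (tt N18321 (iv F33258)) (tt N17373 F31147) (tt N18299 (iv F33209)) (tt N12342 (iv D15436)) (tt N18364 D18398))
theorem Q15408 : ∀ i, i < 15408 → P i := stepQ 15407 Q15407 (allL N15407 (tt N12346 F27011) (tt N18319 (iv F33251)) (tt N18114 F32767) (tt N18365 D18399) (tt N12343 (iv D15437)) (tt N18298 (iv F33205)))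
theorem Q15409 : ∀ i, i < 15409 → P i := stepQ 15408 Q15408 (allL N15408 (tt N17373 (iv F31145)) (tt N17820 (iv F32130)) (tt N12345 F27012) (tt N17368 (iv F31129)) (tt N12344 (iv D15438)) (tt N17819 (iv F32128)))
theorem Q15410 : ∀ i, i < 15410 → P i := stepQ 15409 Q15409 (allL N15409 (tt N18364 (iv F33336)) (tt N12347 F27013) (tt N17819 (iv F32127)) (tt N17997 (iv F32477)) (tt N17818 (iv F32125)) (tt N12345 (iv D15439)))
theorem Q15411 : ∀ i, i < 15411 → P i := stepQ 15410 Q15410 (allL N15410 (tt N18365 (iv F33337)) (tt N12348 F27014) (tt N18366 D18400) (tt N12346 (iv D15440)) (tt N17817 (iv F32120)) (tt N17998 (iv F32483)))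
theorem Q15412 : ∀ i, i < 15412 → P i := stepQ 15411 Q15411 (allL N15411 (tt N12355 F27015) (tt N17793 (iv F32067)) (tt N12350 F27016) (tt N17060 (iv F30510)) (tt N18367 D18401) (tt N12349 (iv D15441)))
theorem Q15413 : ∀ i, i < 15413 → P i := stepQ 15412 Q15412 (allL N15412 (tt N12357 F27017) (tt N17825 (iv F32138)) (tt N18367 (iv F33345)) (tt N18368 D18402) (tt N12350 (iv D15442)) (tt N17826 (iv F32143)))
theorem Q15414 : ∀ i, i < 15414 → P i := stepQ 15413 Q15413 (allL N15413 (tt N12358 F27018) (tt N17944 (iv F32348)) (tt N18369 D18403) (tt N12351 (iv D15443)) (tt N18368 (iv F33347)) (tt N12367 F27019))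
theorem Q15415 : ∀ i, i < 15415 → P i := stepQ 15414 Q15414 (allL N15414 (tt N12352 (iv D15444)) (tt N17671 (iv F31787)) (tt N12359 F27020) (tt N18370 D18404) (tt N17778 (iv F32031)) (tt N18320 (iv F33256)))
theorem Q15416 : ∀ i, i < 15416 → P i := stepQ 15415 Q15415 (allL N15415 (tt N18370 (iv F33350)) (tt N12353 F27021) (tt N18371 D18405) (tt N12352 (iv D15445)) (tt N18372 D18406) (tt N18322 (iv F33261)))
theorem Q15417 : ∀ i, i < 15417 → P i := stepQ 15416 Q15416 (allL N15416 (tt N17778 (iv F32028)) (tt N12354 F27022) (tt N12360 F27023) (tt N18085 (iv F32681)) (tt N12352 (iv D15446)) (tt N17900 (iv F32270)))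
theorem Q15418 : ∀ i, i < 15418 → P i := stepQ 15417 Q15417 (allL N15417 (tt N15522 (iv F27247)) (tt N18372 (iv F33354)) (tt N15520 F27242) (tt N16030 (iv F28342)) (tt N12353 (iv D15447)) (tt N18373 D18407))
theorem Q15419 : ∀ i, i < 15419 → P i := stepQ 15418 Q15418 (allL N15418 (tt N17060 (iv F30509)) (tt N18322 (iv F33260)) (tt N17048 (iv F30492)) (tt N12355 F27024) (tt N18374 D18408) (tt N12353 (iv D15448)))
theorem Q15420 : ∀ i, i < 15420 → P i := stepQ 15419 Q15419 (allL N15419 (tt N17796 (iv F32073)) (tt N18085 (iv F32679)) (tt N16031 (iv F28345)) (tt N12354 (iv D15449)) (tt N16030 F28343) (tt N18375 D18409))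
theorem Q15421 : ∀ i, i < 15421 → P i := stepQ 15420 Q15420 (allL N15420 (tt N17795 F32072) (tt N17900 (iv F32269)) (tt N12356 F27025) (tt N18375 (iv F33361)) (tt N18376 D18410) (tt N12354 (iv D15450)))
theorem Q15422 : ∀ i, i < 15422 → P i := stepQ 15421 Q15421 (allL N15421 (tt N18367 (iv F33344)) (tt N18323 (iv F33262)) (tt N12357 F27026) (tt N18377 D18411) (tt N12355 (iv D15451)) (tt N18376 (iv F33364)))
theorem Q15423 : ∀ i, i < 15423 → P i := stepQ 15422 Q15422 (allL N15422 (tt N17826 (iv F32141)) (tt N12361 F27027) (tt N18376 (iv F33363)) (tt N17912 (iv F32286)) (tt N12356 (iv D15452)) (tt N12357 F27028))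
theorem Q15424 : ∀ i, i < 15424 → P i := stepQ 15423 Q15423 (allL N15423 (tt N18368 (iv F33346)) (tt N12362 F27029) (tt N18378 D18412) (tt N12357 (iv D15453)) (tt N12358 F27030) (tt N17912 (iv F32287)))
theorem Q15425 : ∀ i, i < 15425 → P i := stepQ 15424 Q15424 (allL N15424 (tt N18369 (iv F33348)) (tt N18379 D18413) (tt N12358 (iv D15454)) (tt N18380 D18414) (tt N18378 (iv F33365)) (tt N12371 F27031))
theorem Q15426 : ∀ i, i < 15426 → P i := stepQ 15425 Q15425 (allL N15425 (tt N12360 F27032) (tt N17776 F32024) (tt N17778 (iv F32029)) (tt N17898 (iv F32265)) (tt N12359 (iv D15455)) (tt N17899 (iv F32268)))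
theorem Q15427 : ∀ i, i < 15427 → P i := stepQ 15426 Q15426 (allL N15426 (tt N18381 D18415) (tt N12363 (iv D15456)) (tt N18379 (iv F33366)) (tt N17690 (iv F31833)) (tt N17943 (iv F32346)) (tt N12372 F27033))
theorem Q15428 : ∀ i, i < 15428 → P i := stepQ 15427 Q15427 (allL N15427 (tt N12369 F27034) (tt N16537 (iv F29417)) (tt N16394 (iv F29146)) (tt N13187 F27043) (tt N12364 (iv D15457)) (tt N18382 D18416))
theorem Q15429 : ∀ i, i < 15429 → P i := stepQ 15428 Q15428 (allL N15428 (tt N12370 F27035) (tt N16338 (iv F28990)) (tt N13188 (iv F27045)) (tt N12365 (iv D15458)) (tt N13187 F27044) (tt N18075 (iv F32663)))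
theorem Q15430 : ∀ i, i < 15430 → P i := stepQ 15429 Q15429 (allL N15429 (tt N12371 F27036) (tt N18383 D18417) (tt N12367 (iv D15459)) (tt N17342 (iv F31074)) (tt N17913 (iv F32289)) (tt N18369 (iv F33349)))
theorem Q15431 : ∀ i, i < 15431 → P i := stepQ 15430 Q15430 (allL N15430 (tt N16394 (iv F29144)) (tt N12755 F27037) (tt N12369 F27038) (tt N12754 (iv F27039)) (tt N12368 (iv D15460)) (tt N18384 D18418))
theorem Q15432 : ∀ i, i < 15432 → P i := stepQ 15431 Q15431 (allL N15431 (tt N13187 (iv F27042)) (tt N17674 (iv F31796)) (tt N13185 F27041) (tt N12369 (iv D15461)) (tt N12370 F27040) (tt N18385 D18419))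
theorem Q15433 : ∀ i, i < 15433 → P i := stepQ 15432 Q15432 (allL N15432 (tt N18382 (iv F33370)) (tt N17675 (iv F31799)) (tt N18384 (iv F33374)) (tt N18385 (iv F33378)) (tt N17806 (iv F32096)) (tt N12369 (iv D15462)))
theorem Q15434 : ∀ i, i < 15434 → P i := stepQ 15433 Q15433 (allL N15433 (tt N13188 F27046) (tt N18386 D18420) (tt N12370 (iv D15463)) (tt N18386 F33381) (tt N13185 F27047) (tt N18080 (iv F32667)))
theorem Q15435 : ∀ i, i < 15435 → P i := stepQ 15434 Q15434 (allL N15434 (tt N18387 D18421) (tt N12371 (iv D15464)) (tt N12372 F27048) (tt N18388 D18422) (tt N17914 (iv F32291)) (tt N18379 (iv F33367)))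
theorem Q15436 : ∀ i, i < 15436 → P i := stepQ 15435 Q15435 (allL N15435 (tt N17342 (iv F31073)) (tt N18388 (iv F33383)) (tt N17340 (iv F31070)) (tt N12371 (iv D15465)) (tt N18389 D18423) (tt N18380 (iv F33368)))
theorem Q15437 : ∀ i, i < 15437 → P i := stepQ 15436 Q15436 (allL N15436 (tt N12372 (iv D15466)) (tt N17949 (iv F32355)) (tt N18387 (iv F33382)) (tt N18390 D18424) (tt N17916 (iv F32295)) (tt N18381 (iv F33369)))
theorem Q15438 : ∀ i, i < 15438 → P i := stepQ 15437 Q15437 (allL N15437 (tt N18390 (iv F33384)) (tt N12373 F27049) (tt N18391 D18425) (tt N12372 (iv D15467)) (tt N17938 (iv F32338)) (tt N17690 (iv F31835)))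
theorem Q15439 : ∀ i, i < 15439 → P i := stepQ 15438 Q15438 (allL N15438 (tt N12375 F27050) (tt N12378 F27051) (tt N17526 (iv F31471)) (tt N18221 (iv F33045)) (tt N12374 (iv D15468)) (tt N18392 D18426))
theorem Q15440 : ∀ i, i < 15440 → P i := stepQ 15439 Q15439 (allL N15439 (tt N18392 (iv F33385)) (tt N12376 F27052) (tt N18351 (iv F33318)) (tt N15326 F27053) (tt N12902 F27054) (tt N12375 (iv D15469)))
theorem Q15441 : ∀ i, i < 15441 → P i := stepQ 15440 Q15440 (allL N15440 (tt N12380 F27055) (tt N18221 (iv F33044)) (tt N15341 (iv F27058)) (tt N12378 (iv D15470)) (tt N15328 F27056) (tt N15334 F27057))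
theorem Q15442 : ∀ i, i < 15442 → P i := stepQ 15441 Q15441 (allL N15441 (tt N12381 F27059) (tt N18392 (iv F33386)) (tt N12382 F27060) (tt N15334 F27061) (tt N17773 (iv F32013)) (tt N12378 (iv D15471)))
theorem Q15443 : ∀ i, i < 15443 → P i := stepQ 15442 Q15442 (allL N15442 (tt N17520 (iv F31459)) (tt N12383 (iv D15472)) (tt N12385 F27062) (tt N18393 D18427) (tt N16964 F30343) (tt N18394 D18428))
theorem Q15444 : ∀ i, i < 15444 → P i := stepQ 15443 Q15443 (allL N15443 (tt N14900 F27063) (tt N18393 (iv F33389)) (tt N14897 F27064) (tt N12383 (iv D15473)) (tt N14896 (iv F27065)) (tt N18395 D18429))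
theorem Q15445 : ∀ i, i < 15445 → P i := stepQ 15444 Q15444 (allL N15444 (tt N17524 (iv F31466)) (tt N18394 (iv F33391)) (tt N12384 F27066) (tt N18395 (iv F33395)) (tt N18396 D18430) (tt N12383 (iv D15474)))
theorem Q15446 : ∀ i, i < 15446 → P i := stepQ 15445 Q15445 (allL N15445 (tt N16818 (iv F30045)) (tt N12388 F27067) (tt N18396 (iv F33396)) (tt N18004 (iv F32497)) (tt N12384 (iv D15475)) (tt N16815 (iv F30040)))
theorem Q15447 : ∀ i, i < 15447 → P i := stepQ 15446 Q15446 (allL N15446 (tt N12385 (iv D15476)) (tt N17010 (iv F30431)) (tt N17520 (iv F31461)) (tt N18397 D18431) (tt N16960 F30334) (tt N18398 D18432))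
theorem Q15448 : ∀ i, i < 15448 → P i := stepQ 15447 Q15447 (allL N15447 (tt N18397 (iv F33397)) (tt N12386 F27068) (tt N18399 D18433) (tt N12385 (iv D15477)) (tt N16966 (iv F30347)) (tt N17708 (iv F31873)))
theorem Q15449 : ∀ i, i < 15449 → P i := stepQ 15448 Q15448 (allL N15448 (tt N18398 (iv F33398)) (tt N12387 F27069) (tt N18394 (iv F33392)) (tt N17708 (iv F31871)) (tt N16965 (iv F30345)) (tt N12385 (iv D15478)))
theorem Q15450 : ∀ i, i < 15450 → P i := stepQ 15449 Q15449 (allL N15449 (tt N12394 F27070) (tt N14016 F27071) (tt N12394 F27072) (tt N12389 (iv D15479)) (tt N18400 D18434) (tt N14008 F27073))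
theorem Q15451 : ∀ i, i < 15451 → P i := stepQ 15450 Q15450 (allL N15450 (tt N12395 F27074) (tt N17991 (iv F32459)) (tt N12390 F27075) (tt N18401 D18435) (tt N12389 (iv D15480)) (tt N18226 (iv F33056)))
theorem Q15452 : ∀ i, i < 15452 → P i := stepQ 15451 Q15451 (allL N15451 (tt N12392 F27076) (tt N17990 (iv F32456)) (tt N12397 F27077) (tt N18402 D18436) (tt N12391 (iv D15481)) (tt N18220 (iv F33042)))
theorem Q15453 : ∀ i, i < 15453 → P i := stepQ 15452 Q15452 (allL N15452 (tt N18402 (iv F33405)) (tt N12393 F27078) (tt N16850 (iv F30108)) (tt N12392 (iv D15482)) (tt N12901 F27079) (tt N14089 F27080))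
theorem Q15454 : ∀ i, i < 15454 → P i := stepQ 15453 Q15453 (allL N15453 (tt N18400 (iv F33401)) (tt N13935 F27081) (tt N18400 (iv F33403)) (tt N18403 D18437) (tt N12394 (iv D15483)) (tt N18404 D18438))
theorem Q15455 : ∀ i, i < 15455 → P i := stepQ 15454 Q15454 (allL N15454 (tt N18401 (iv F33404)) (tt N13936 F27082) (tt N18405 D18439) (tt N12395 (iv D15484)) (tt N18403 (iv F33410)) (tt N18406 D18440))
theorem Q15456 : ∀ i, i < 15456 → P i := stepQ 15455 Q15455 (allL N15455 (tt N18226 (iv F33054)) (tt N13937 F27083) (tt N12396 F27084) (tt N18406 (iv F33414)) (tt N14011 F27085) (tt N12395 (iv D15485)))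
theorem Q15457 : ∀ i, i < 15457 → P i := stepQ 15456 Q15456 (allL N15456 (tt N12398 F27086) (tt N13682 F27087) (tt N18407 D18441) (tt N12397 (iv D15486)) (tt N13678 F27088) (tt N18408 D18442))
theorem Q15458 : ∀ i, i < 15458 → P i := stepQ 15457 Q15457 (allL N15457 (tt N12399 F27089) (tt N13934 F27090) (tt N18220 (iv F33040)) (tt N18408 (iv F33422)) (tt N13962 F27091) (tt N12397 (iv D15487)))
theorem Q15459 : ∀ i, i < 15459 → P i := stepQ 15458 Q15458 (allL N15458 (tt N18407 (iv F33415)) (tt N18409 D18443) (tt N12398 (iv D15488)) (tt N18410 D18444) (tt N13884 F27092) (tt N18411 D18445))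
theorem Q15460 : ∀ i, i < 15460 → P i := stepQ 15459 Q15459 (allL N15459 (tt N18408 (iv F33419)) (tt N12401 F27093) (tt N18411 (iv F33427)) (tt N12399 F27094) (tt N18412 D18446) (tt N12398 (iv D15489)))
theorem Q15461 : ∀ i, i < 15461 → P i := stepQ 15460 Q15460 (allL N15460 (tt N18413 D18447) (tt N12400 (iv D15490)) (tt N18409 (iv F33424)) (tt N18414 D18448) (tt N13885 F27095) (tt N18415 D18449))
theorem Q15462 : ∀ i, i < 15462 → P i := stepQ 15461 Q15461 (allL N15461 (tt N13930 F27096) (tt N18414 (iv F33436)) (tt N18213 (iv F33019)) (tt N12400 (iv D15491)) (tt N13922 F27097) (tt N18214 (iv F33025)))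
theorem Q15463 : ∀ i, i < 15463 → P i := stepQ 15462 Q15462 (allL N15462 (tt N13931 F27098) (tt N18415 (iv F33438)) (tt N12401 F27099) (tt N18214 (iv F33023)) (tt N13927 F27100) (tt N12400 (iv D15492)))
theorem Q15464 : ∀ i, i < 15464 → P i := stepQ 15463 Q15463 (allL N15463 (tt N13551 F27101) (tt N18412 (iv F33430)) (tt N13927 F27102) (tt N13516 F27103) (tt N12401 (iv D15493)) (tt N13515 F27104))
theorem Q15465 : ∀ i, i < 15465 → P i := stepQ 15464 Q15464 (allL N15464 (tt N15764 (iv F27769)) (tt N12404 F27105) (tt N12414 F27106) (tt N15382 F27107) (tt N18167 (iv F32904)) (tt N12402 (iv D15494)))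
theorem Q15466 : ∀ i, i < 15466 → P i := stepQ 15465 Q15465 (allL N15465 (tt N15381 F27108) (tt N18167 (iv F32902)) (tt N12405 F27109) (tt N18416 D18450) (tt N12404 (iv D15495)) (tt N12411 F27110))
theorem Q15467 : ∀ i, i < 15467 → P i := stepQ 15466 Q15466 (allL N15466 (tt N12452 F27111) (tt N12521 F27112) (tt N12407 (iv D15496)) (tt N12449 F27114) (tt N12519 F27113) (tt N18028 (iv F32547)))
theorem Q15468 : ∀ i, i < 15468 → P i := stepQ 15467 Q15467 (allL N15467 (tt N14053 F27115) (tt N12520 F27116) (tt N12409 F27117) (tt N12544 (iv F27118)) (tt N12408 (iv D15497)) (tt N12543 F27119))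
theorem Q15469 : ∀ i, i < 15469 → P i := stepQ 15468 Q15468 (allL N15468 (tt N15754 (iv F27744)) (tt N13855 F27120) (tt N12543 F27121) (tt N15753 F27743) (tt N18417 D18451) (tt N12409 (iv D15498)))
theorem Q15470 : ∀ i, i < 15470 → P i := stepQ 15469 Q15469 (allL N15469 (tt N18129 (iv F32801)) (tt N18165 (iv F32898)) (tt N12442 F27122) (tt N18418 D18452) (tt N12410 (iv D15499)) (tt N18417 (iv F33445)))
theorem Q15471 : ∀ i, i < 15471 → P i := stepQ 15470 Q15470 (allL N15470 (tt N18169 (iv F32909)) (tt N18166 (iv F32901)) (tt N18419 D18453) (tt N12411 (iv D15500)) (tt N18418 (iv F33446)) (tt N18416 (iv F33442)))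
theorem Q15472 : ∀ i, i < 15472 → P i := stepQ 15471 Q15471 (allL N15471 (tt N12413 F27123) (tt N12421 F27124) (tt N15894 (iv F28004)) (tt N12412 (iv D15501)) (tt N18164 (iv F32897)) (tt N15893 F28002))
theorem Q15473 : ∀ i, i < 15473 → P i := stepQ 15472 Q15472 (allL N15472 (tt N12414 F27125) (tt N12422 F27126) (tt N15764 (iv F27770)) (tt N15893 (iv F28000)) (tt N18163 (iv F32894)) (tt N12412 (iv D15502)))
theorem Q15474 : ∀ i, i < 15474 → P i := stepQ 15473 Q15473 (allL N15473 (tt N12430 F27127) (tt N15874 (iv F27949)) (tt N12419 F27128) (tt N18159 (iv F32880)) (tt N12416 (iv D15503)) (tt N18160 (iv F32885)))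
theorem Q15475 : ∀ i, i < 15475 → P i := stepQ 15474 Q15474 (allL N15474 (tt N13517 F27129) (tt N15877 F27960) (tt N18160 (iv F32883)) (tt N13509 F27130) (tt N18161 (iv F32888)) (tt N12419 (iv D15504)))
theorem Q15476 : ∀ i, i < 15476 → P i := stepQ 15475 Q15475 (allL N15475 (tt N12427 F27131) (tt N15885 F27983) (tt N14004 F27133) (tt N12420 (iv D15505)) (tt N18168 (iv F32907)) (tt N13510 F27132))
theorem Q15477 : ∀ i, i < 15477 → P i := stepQ 15476 Q15476 (allL N15476 (tt N12423 F27134) (tt N18420 D18454) (tt N12421 (iv D15506)) (tt N18421 D18455) (tt N18422 D18456) (tt N18423 D18457))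
theorem Q15478 : ∀ i, i < 15478 → P i := stepQ 15477 Q15477 (allL N15477 (tt N12424 F27135) (tt N18164 (iv F32896)) (tt N18422 (iv F33457)) (tt N12433 F27136) (tt N12421 (iv D15507)) (tt N18424 D18458))
theorem Q15479 : ∀ i, i < 15479 → P i := stepQ 15478 Q15478 (allL N15478 (tt N12425 F27137) (tt N15893 F28001) (tt N18423 (iv F33462)) (tt N12422 F27138) (tt N18425 D18459) (tt N12421 (iv D15508)))
theorem Q15480 : ∀ i, i < 15480 → P i := stepQ 15479 Q15479 (allL N15479 (tt N12426 F27139) (tt N18163 (iv F32893)) (tt N18172 (iv F32915)) (tt N18426 D18460) (tt N12422 (iv D15509)) (tt N12434 F27140))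
theorem Q15481 : ∀ i, i < 15481 → P i := stepQ 15480 Q15480 (allL N15480 (tt N14004 (iv F27142)) (tt N12423 (iv D15510)) (tt N12427 F27141) (tt N12477 (iv F27144)) (tt N12478 F27145) (tt N13513 (iv F27143)))
theorem Q15482 : ∀ i, i < 15482 → P i := stepQ 15481 Q15481 (allL N15481 (tt N18421 (iv F33452)) (tt N12477 F27146) (tt N18427 D18461) (tt N12423 (iv D15511)) (tt N12472 (iv F27147)) (tt N18428 D18462))
theorem Q15483 : ∀ i, i < 15483 → P i := stepQ 15482 Q15482 (allL N15482 (tt N18422 (iv F33455)) (tt N12478 F27148) (tt N12424 F27149) (tt N12473 F27150) (tt N12423 (iv D15512)) (tt N12484 (iv F27151)))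
theorem Q15484 : ∀ i, i < 15484 → P i := stepQ 15483 Q15483 (allL N15483 (tt N18423 (iv F33460)) (tt N13513 F27152) (tt N12425 F27153) (tt N18428 (iv F33477)) (tt N18429 D18463) (tt N12423 (iv D15513)))
theorem Q15485 : ∀ i, i < 15485 → P i := stepQ 15484 Q15484 (allL N15484 (tt N18424 (iv F33464)) (tt N12429 F27154) (tt N12484 F27155) (tt N12437 F27156) (tt N18430 D18464) (tt N12424 (iv D15514)))
theorem Q15486 : ∀ i, i < 15486 → P i := stepQ 15485 Q15485 (allL N15485 (tt N18425 (iv F33468)) (tt N12430 F27157) (tt N18429 (iv F33481)) (tt N18431 D18465) (tt N12425 (iv D15515)) (tt N18430 (iv F33487)))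
theorem Q15487 : ∀ i, i < 15487 → P i := stepQ 15486 Q15486 (allL N15486 (tt N18426 (iv F33472)) (tt N12431 F27158) (tt N18432 D18466) (tt N12426 (iv D15516)) (tt N18431 (iv F33489)) (tt N12438 F27159))
theorem Q15488 : ∀ i, i < 15488 → P i := stepQ 15487 Q15487 (allL N15487 (tt N18168 (iv F32905)) (tt N12428 F27160) (tt N12478 F27161) (tt N12428 F27162) (tt N12427 (iv D15517)) (tt N12487 (iv F27163)))
theorem Q15489 : ∀ i, i < 15489 → P i := stepQ 15488 Q15488 (allL N15488 (tt N18161 (iv F32886)) (tt N12487 F27164) (tt N12429 F27165) (tt N12487 F27166) (tt N13517 F27167) (tt N12428 (iv D15518)))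
theorem Q15490 : ∀ i, i < 15490 → P i := stepQ 15489 Q15489 (allL N15489 (tt N18160 (iv F32882)) (tt N18430 (iv F33485)) (tt N13517 F27168) (tt N18136 (iv F32822)) (tt N12429 (iv D15519)) (tt N12430 F27169))
theorem Q15491 : ∀ i, i < 15491 → P i := stepQ 15490 Q15490 (allL N15490 (tt N18159 (iv F32878)) (tt N18431 (iv F33488)) (tt N18142 (iv F32837)) (tt N12430 (iv D15520)) (tt N12431 F27170) (tt N18136 (iv F32823)))
theorem Q15492 : ∀ i, i < 15492 → P i := stepQ 15491 Q15491 (allL N15491 (tt N18158 (iv F32874)) (tt N18433 D18467) (tt N12431 (iv D15521)) (tt N18193 (iv F32974)) (tt N18142 (iv F32839)) (tt N12439 F27171))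
theorem Q15493 : ∀ i, i < 15493 → P i := stepQ 15492 Q15492 (allL N15492 (tt N12437 F27172) (tt N18147 (iv F32852)) (tt N14060 F27173) (tt N18424 (iv F33466)) (tt N18132 (iv F32813)) (tt N12433 (iv D15522)))
theorem Q15494 : ∀ i, i < 15494 → P i := stepQ 15493 Q15493 (allL N15493 (tt N12438 F27174) (tt N18145 (iv F32847)) (tt N18434 D18468) (tt N12434 (iv D15523)) (tt N18131 (iv F32809)) (tt N18426 (iv F33473)))
theorem Q15495 : ∀ i, i < 15495 → P i := stepQ 15494 Q15494 (allL N15494 (tt N14058 F27175) (tt N14065 F27176) (tt N12435 (iv D15524)) (tt N17759 (iv F31982)) (tt N14040 F27177) (tt N18127 (iv F32794)))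
theorem Q15496 : ∀ i, i < 15496 → P i := stepQ 15495 Q15495 (allL N15495 (tt N14060 F27178) (tt N12685 F27179) (tt N12437 F27180) (tt N14055 F27181) (tt N12683 F27182) (tt N12436 (iv D15525)))
theorem Q15497 : ∀ i, i < 15497 → P i := stepQ 15496 Q15496 (allL N15496 (tt N18434 (iv F33494)) (tt N18435 D18469) (tt N12438 (iv D15526)) (tt N18436 D18470) (tt N18133 (iv F32814)) (tt N18432 (iv F33492)))
theorem Q15498 : ∀ i, i < 15498 → P i := stepQ 15497 Q15497 (allL N15497 (tt N18437 D18471) (tt N12439 (iv D15527)) (tt N18435 (iv F33495)) (tt N18438 D18472) (tt N18135 (iv F32818)) (tt N18433 (iv F33493)))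
theorem Q15499 : ∀ i, i < 15499 → P i := stepQ 15498 Q15498 (allL N15498 (tt N18157 (iv F32870)) (tt N18438 (iv F33496)) (tt N13975 F27183) (tt N12439 (iv D15528)) (tt N18143 (iv F32842)) (tt N18193 (iv F32976)))
theorem Q15500 : ∀ i, i < 15500 → P i := stepQ 15499 Q15499 (allL N15499 (tt N12441 F27184) (tt N14059 F27185) (tt N17756 (iv F31970)) (tt N12440 (iv D15529)) (tt N12552 F27186) (tt N12553 F27187))
theorem Q15501 : ∀ i, i < 15501 → P i := stepQ 15500 Q15500 (allL N15500 (tt N17756 (iv F31968)) (tt N18028 (iv F32545)) (tt N12441 (iv D15530)) (tt N17755 F31967) (tt N18439 D18473) (tt N12521 F27188))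
theorem Q15502 : ∀ i, i < 15502 → P i := stepQ 15501 Q15501 (allL N15501 (tt N12552 F27189) (tt N12442 F27190) (tt N18439 (iv F33499)) (tt N12688 F27191) (tt N12441 (iv D15531)) (tt N12545 F27192))
theorem Q15503 : ∀ i, i < 15503 → P i := stepQ 15502 Q15502 (allL N15502 (tt N18130 (iv F32803)) (tt N12545 F27193) (tt N18417 (iv F33444)) (tt N12692 F27194) (tt N12543 F27195) (tt N12442 (iv D15532)))
theorem Q15504 : ∀ i, i < 15504 → P i := stepQ 15503 Q15503 (allL N15503 (tt N14054 F27196) (tt N12546 F27197) (tt N12581 (iv F27200)) (tt N12443 (iv D15533)) (tt N12544 F27198) (tt N12693 F27199))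
theorem Q15505 : ∀ i, i < 15505 → P i := stepQ 15504 Q15504 (allL N15504 (tt N12446 F27201) (tt N18440 D18474) (tt N12444 (iv D15534)) (tt N18441 D18475) (tt N18442 D18476) (tt N12703 F27202))
theorem Q15506 : ∀ i, i < 15506 → P i := stepQ 15505 Q15505 (allL N15505 (tt N12447 F27203) (tt N12695 F27204) (tt N18442 (iv F33509)) (tt N12450 F27205) (tt N12444 (iv D15535)) (tt N12606 F27206))
theorem Q15507 : ∀ i, i < 15507 → P i := stepQ 15506 Q15506 (allL N15506 (tt N12448 F27207) (tt N12696 F27208) (tt N18147 (iv F32853)) (tt N12604 F27209) (tt N12445 (iv D15536)) (tt N12451 F27210))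
theorem Q15508 : ∀ i, i < 15508 → P i := stepQ 15507 Q15507 (allL N15507 (tt N18441 (iv F33505)) (tt N12707 F27211) (tt N18443 D18477) (tt N12446 (iv D15537)) (tt N18444 D18478) (tt N12704 F27212))
theorem Q15509 : ∀ i, i < 15509 → P i := stepQ 15508 Q15508 (allL N15508 (tt N18442 (iv F33508)) (tt N12708 F27213) (tt N12447 F27214) (tt N18445 D18479) (tt N12446 (iv D15538)) (tt N12608 F27215))
theorem Q15510 : ∀ i, i < 15510 → P i := stepQ 15509 Q15509 (allL N15509 (tt N12458 F27216) (tt N18188 (iv F32957)) (tt N18446 D18480) (tt N12454 (iv D15539)) (tt N18188 (iv F32958)) (tt N15065 F27217))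
theorem Q15511 : ∀ i, i < 15511 → P i := stepQ 15510 Q15510 (allL N15510 (tt N12459 F27218) (tt N12468 F27219) (tt N18447 D18481) (tt N12455 (iv D15540)) (tt N18185 (iv F32945)) (tt N18448 D18482))
theorem Q15512 : ∀ i, i < 15512 → P i := stepQ 15511 Q15511 (allL N15511 (tt N12460 F27220) (tt N12469 F27221) (tt N12456 F27222) (tt N18448 (iv F33530)) (tt N18184 (iv F32942)) (tt N12455 (iv D15541)))
theorem Q15513 : ∀ i, i < 15513 → P i := stepQ 15512 Q15512 (allL N15512 (tt N15064 F27223) (tt N12513 F27224) (tt N18184 (iv F32940)) (tt N18449 D18483) (tt N12456 (iv D15542)) (tt N12457 F27225))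
theorem Q15514 : ∀ i, i < 15514 → P i := stepQ 15513 Q15513 (allL N15513 (tt N18188 (iv F32956)) (tt N12512 F27226) (tt N18450 D18484) (tt N12457 (iv D15543)) (tt N12458 F27227) (tt N18449 (iv F33535)))
theorem Q15515 : ∀ i, i < 15515 → P i := stepQ 15514 Q15514 (allL N15514 (tt N18446 (iv F33520)) (tt N17593 (iv F31611)) (tt N12458 (iv D15544)) (tt N17591 F31608) (tt N18450 (iv F33536)) (tt N15078 F27228))
theorem Q15516 : ∀ i, i < 15516 → P i := stepQ 15515 Q15515 (allL N15515 (tt N18447 (iv F33524)) (tt N18451 D18485) (tt N12459 (iv D15545)) (tt N18452 D18486) (tt N18189 (iv F32960)) (tt N18453 D18487))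
theorem Q15517 : ∀ i, i < 15517 → P i := stepQ 15516 Q15516 (allL N15516 (tt N18448 (iv F33527)) (tt N12462 F27229) (tt N18453 (iv F33545)) (tt N12460 F27230) (tt N14003 (iv F27231)) (tt N12459 (iv D15546)))
theorem Q15518 : ∀ i, i < 15518 → P i := stepQ 15517 Q15517 (allL N15517 (tt N18454 D18488) (tt N12461 (iv D15547)) (tt N18451 (iv F33537)) (tt N12467 F27232) (tt N18244 (iv F33083)) (tt N12466 F27233))
theorem Q15519 : ∀ i, i < 15519 → P i := stepQ 15518 Q15518 (allL N15518 (tt N12478 F27234) (tt N18186 (iv F32948)) (tt N18168 (iv F32906)) (tt N12463 (iv D15548)) (tt N14004 F27235) (tt N12464 F27236))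
theorem Q15520 : ∀ i, i < 15520 → P i := stepQ 15519 Q15519 (allL N15519 (tt N12487 F27237) (tt N15891 (iv F27995)) (tt N12464 (iv D15549)) (tt N18161 (iv F32887)) (tt N12495 F27238) (tt N18168 (iv F32908)))
theorem Q15521 : ∀ i, i < 15521 → P i := stepQ 15520 Q15520 (allL N15520 (tt N12466 F27239) (tt N13902 F27240) (tt N15417 (iv F27242)) (tt N12465 (iv D15550)) (tt N13998 F27241) (tt N18454 (iv F33551)))
theorem Q15522 : ∀ i, i < 15522 → P i := stepQ 15521 Q15521 (allL N15521 (tt N12467 F27243) (tt N13903 F27244) (tt N13381 F27245) (tt N18454 (iv F33550)) (tt N13997 F27246) (tt N12465 (iv D15551)))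
theorem Q15523 : ∀ i, i < 15523 → P i := stepQ 15522 Q15522 (allL N15522 (tt N15417 F27247) (tt N18453 (iv F33544)) (tt N12466 (iv D15552)) (tt N18455 D18489) (tt N14002 F27248) (tt N18451 F33538))
theorem Q15524 : ∀ i, i < 15524 → P i := stepQ 15523 Q15523 (allL N15523 (tt N12470 F27249) (tt N18456 D18490) (tt N12468 (iv D15553)) (tt N13475 F27250) (tt N18457 D18491) (tt N18458 D18492))
theorem Q15525 : ∀ i, i < 15525 → P i := stepQ 15524 Q15524 (allL N15524 (tt N12471 F27251) (tt N18185 (iv F32944)) (tt N18457 (iv F33559)) (tt N12479 F27252) (tt N12468 (iv D15554)) (tt N18459 D18493))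
theorem Q15526 : ∀ i, i < 15526 → P i := stepQ 15525 Q15525 (allL N15525 (tt N12472 F27253) (tt N18448 (iv F33528)) (tt N18458 (iv F33562)) (tt N12469 F27254) (tt N18421 F33454) (tt N12468 (iv D15555)))
theorem Q15527 : ∀ i, i < 15527 → P i := stepQ 15526 Q15526 (allL N15526 (tt N12473 F27255) (tt N18184 (iv F32939)) (tt N12490 F27256) (tt N18422 (iv F33458)) (tt N12469 (iv D15556)) (tt N12480 F27257))
theorem Q15528 : ∀ i, i < 15528 → P i := stepQ 15527 Q15527 (allL N15527 (tt N18460 D18494) (tt N12470 (iv D15557)) (tt N12474 F27258) (tt N18461 D18495) (tt N18462 D18496) (tt N13904 (iv F27259)))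
theorem Q15529 : ∀ i, i < 15529 → P i := stepQ 15528 Q15528 (allL N15528 (tt N13475 F27260) (tt N18461 (iv F33569)) (tt N13474 F27261) (tt N12470 (iv D15558)) (tt N18463 D18497) (tt N18464 D18498))
theorem Q15530 : ∀ i, i < 15530 → P i := stepQ 15529 Q15529 (allL N15529 (tt N18457 (iv F33558)) (tt N18462 (iv F33571)) (tt N12471 F27262) (tt N18465 D18499) (tt N12470 (iv D15559)) (tt N18466 D18500))
theorem Q15531 : ∀ i, i < 15531 → P i := stepQ 15530 Q15530 (allL N15530 (tt N18458 (iv F33560)) (tt N13904 F27263) (tt N12472 F27264) (tt N18464 (iv F33578)) (tt N18427 (iv F33475)) (tt N12470 (iv D15560)))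
theorem Q15532 : ∀ i, i < 15532 → P i := stepQ 15531 Q15531 (allL N15531 (tt N18459 (iv F33564)) (tt N12476 F27265) (tt N18466 (iv F33579)) (tt N12482 F27266) (tt N18428 (iv F33478)) (tt N12471 (iv D15561)))
theorem Q15533 : ∀ i, i < 15533 → P i := stepQ 15532 Q15532 (allL N15532 (tt N12474 (iv D15562)) (tt N18454 (iv F33548)) (tt N18460 (iv F33567)) (tt N13903 F27267) (tt N18467 D18501) (tt N13902 F27268))
theorem Q15534 : ∀ i, i < 15534 → P i := stepQ 15533 Q15533 (allL N15533 (tt N18467 (iv F33580)) (tt N12475 F27269) (tt N18462 (iv F33572)) (tt N18468 D18502) (tt N12474 (iv D15563)) (tt N18469 D18503))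
theorem Q15535 : ∀ i, i < 15535 → P i := stepQ 15534 Q15534 (allL N15534 (tt N13991 F27270) (tt N18468 (iv F33581)) (tt N13974 F27271) (tt N12475 (iv D15564)) (tt N13908 F27272) (tt N13960 F27273))
theorem Q15536 : ∀ i, i < 15536 → P i := stepQ 15535 Q15535 (allL N15535 (tt N13992 F27274) (tt N18469 (iv F33584)) (tt N12476 F27275) (tt N13960 F27276) (tt N13907 F27277) (tt N12475 (iv D15565)))
theorem Q15537 : ∀ i, i < 15537 → P i := stepQ 15536 Q15536 (allL N15536 (tt N13993 F27278) (tt N18428 (iv F33476)) (tt N13907 F27279) (tt N13513 (iv F27281)) (tt N12476 (iv D15566)) (tt N12477 F27280))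
theorem Q15538 : ∀ i, i < 15538 → P i := stepQ 15537 Q15537 (allL N15537 (tt N12482 F27282) (tt N13968 F27283) (tt N13973 F27284) (tt N18459 (iv F33566)) (tt N13964 F27285) (tt N12479 (iv D15567)))
theorem Q15539 : ∀ i, i < 15539 → P i := stepQ 15538 Q15538 (allL N15538 (tt N12484 F27286) (tt N13966 F27287) (tt N18424 (iv F33465)) (tt N12480 (iv D15568)) (tt N13963 F27288) (tt N18422 F33459))
theorem Q15540 : ∀ i, i < 15540 → P i := stepQ 15539 Q15539 (allL N15539 (tt N18192 (iv F32969)) (tt N18204 (iv F33003)) (tt N18470 D18504) (tt N12481 (iv D15569)) (tt N18231 (iv F33060)) (tt N18471 D18505))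
theorem Q15541 : ∀ i, i < 15541 → P i := stepQ 15540 Q15540 (allL N15540 (tt N13973 F27289) (tt N18196 (iv F32983)) (tt N12482 F27290) (tt N18471 (iv F33588)) (tt N13970 F27291) (tt N12481 (iv D15570)))
theorem Q15542 : ∀ i, i < 15542 → P i := stepQ 15541 Q15541 (allL N15541 (tt N13964 F27292) (tt N12485 F27293) (tt N13970 F27294) (tt N18429 (iv F33482)) (tt N12482 (iv D15571)) (tt N12483 F27295))
theorem Q15543 : ∀ i, i < 15543 → P i := stepQ 15542 Q15542 (allL N15542 (tt N13963 F27296) (tt N12486 F27297) (tt N18430 (iv F33486)) (tt N12483 (iv D15572)) (tt N12484 F27298) (tt N18429 (iv F33483)))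
theorem Q15544 : ∀ i, i < 15544 → P i := stepQ 15543 Q15543 (allL N15543 (tt N12496 F27299) (tt N18429 (iv F33480)) (tt N13511 F27300) (tt N12485 (iv D15573)) (tt N13513 F27301) (tt N12486 F27302))
theorem Q15545 : ∀ i, i < 15545 → P i := stepQ 15544 Q15544 (allL N15544 (tt N12495 F27303) (tt N13517 (iv F27307)) (tt N12486 (iv D15574)) (tt N13512 F27304) (tt N12487 F27305) (tt N13511 F27306))
theorem Q15546 : ∀ i, i < 15546 → P i := stepQ 15545 Q15545 (allL N15545 (tt N13471 F27308) (tt N12488 (iv D15575)) (tt N15079 F27309) (tt N13494 (iv F27311)) (tt N18472 D18506) (tt N13469 F27310))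
theorem Q15547 : ∀ i, i < 15547 → P i := stepQ 15546 Q15546 (allL N15546 (tt N12491 F27312) (tt N13494 F27313) (tt N18464 (iv F33577)) (tt N12488 (iv D15576)) (tt N18473 D18507) (tt N13474 F27314))
theorem Q15548 : ∀ i, i < 15548 → P i := stepQ 15547 Q15547 (allL N15547 (tt N12492 F27315) (tt N18472 (iv F33590)) (tt N12489 F27316) (tt N18474 D18508) (tt N12488 (iv D15577)) (tt N14056 F27317))
theorem Q15549 : ∀ i, i < 15549 → P i := stepQ 15548 Q15548 (allL N15548 (tt N18464 (iv F33575)) (tt N13482 F27318) (tt N12491 (iv D15578)) (tt N18458 (iv F33563)) (tt N18475 D18509) (tt N13475 F27319))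
theorem Q15550 : ∀ i, i < 15550 → P i := stepQ 15549 Q15549 (allL N15549 (tt N18473 (iv F33593)) (tt N13480 F27320) (tt N18475 (iv F33599)) (tt N18476 D18510) (tt N12491 (iv D15579)) (tt N18477 D18511))
theorem Q15551 : ∀ i, i < 15551 → P i := stepQ 15550 Q15550 (allL N15550 (tt N18474 (iv F33595)) (tt N13481 F27321) (tt N18478 D18512) (tt N12492 (iv D15580)) (tt N18476 (iv F33603)) (tt N14061 F27322))
theorem Q15552 : ∀ i, i < 15552 → P i := stepQ 15551 Q15551 (allL N15551 (tt N12494 F27323) (tt N17961 (iv F32391)) (tt N18479 D18513) (tt N12493 (iv D15581)) (tt N18241 (iv F33078)) (tt N14035 F27324))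
theorem Q15553 : ∀ i, i < 15553 → P i := stepQ 15552 Q15552 (allL N15552 (tt N18479 (iv F33610)) (tt N18480 D18514) (tt N12494 (iv D15582)) (tt N18481 D18515) (tt N18243 (iv F33081)) (tt N14046 F27325))
theorem Q15554 : ∀ i, i < 15554 → P i := stepQ 15553 Q15553 (allL N15553 (tt N13513 F27326) (tt N14626 F27327) (tt N13510 F27328) (tt N13993 F27329) (tt N12496 (iv D15583)) (tt N14004 F27330))
theorem Q15555 : ∀ i, i < 15555 → P i := stepQ 15554 Q15554 (allL N15554 (tt N12498 F27331) (tt N18238 (iv F33074)) (tt N18232 (iv F33062)) (tt N14033 F27332) (tt N18242 (iv F33080)) (tt N12497 (iv D15584)))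
theorem Q15556 : ∀ i, i < 15556 → P i := stepQ 15555 Q15555 (allL N15555 (tt N18482 D18516) (tt N12499 (iv D15585)) (tt N18480 (iv F33613)) (tt N15597 F27413) (tt N18175 (iv F32921)) (tt N14052 F27333))
theorem Q15557 : ∀ i, i < 15557 → P i := stepQ 15556 Q15556 (allL N15556 (tt N15837 (iv F27902)) (tt N12500 (iv D15586)) (tt N15843 (iv F27916)) (tt N12595 F27334) (tt N18483 D18517) (tt N12630 F27335))
theorem Q15558 : ∀ i, i < 15558 → P i := stepQ 15557 Q15557 (allL N15557 (tt N12504 F27336) (tt N18483 (iv F33619)) (tt N12501 F27337) (tt N17586 (iv F31593)) (tt N12500 (iv D15587)) (tt N18484 D18518))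
theorem Q15559 : ∀ i, i < 15559 → P i := stepQ 15558 Q15558 (allL N15558 (tt N12505 F27338) (tt N15814 (iv F27876)) (tt N18484 (iv F33621)) (tt N12502 F27339) (tt N13012 F27340) (tt N12501 (iv D15588)))
theorem Q15560 : ∀ i, i < 15560 → P i := stepQ 15559 Q15559 (allL N15559 (tt N12596 F27341) (tt N15841 (iv F27912)) (tt N12594 F27342) (tt N18485 D18519) (tt N12503 (iv D15589)) (tt N18486 D18520))
theorem Q15561 : ∀ i, i < 15561 → P i := stepQ 15560 Q15560 (allL N15560 (tt N17586 (iv F31590)) (tt N15842 (iv F27913)) (tt N17584 (iv F31586)) (tt N12504 (iv D15590)) (tt N18485 (iv F33625)) (tt N18487 D18521))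
theorem Q15562 : ∀ i, i < 15562 → P i := stepQ 15561 Q15561 (allL N15561 (tt N18484 (iv F33620)) (tt N12780 F27343) (tt N12505 F27344) (tt N18487 (iv F33632)) (tt N12995 F27345) (tt N12504 (iv D15591)))
theorem Q15563 : ∀ i, i < 15563 → P i := stepQ 15562 Q15562 (allL N15562 (tt N12581 F27346) (tt N12508 F27347) (tt N14054 F27348) (tt N15078 (iv F27349)) (tt N12506 (iv D15592)) (tt N17591 (iv F31607)))
theorem Q15564 : ∀ i, i < 15564 → P i := stepQ 15563 Q15563 (allL N15563 (tt N12510 F27350) (tt N12639 F27351) (tt N15839 (iv F27911)) (tt N18488 D18522) (tt N12507 (iv D15593)) (tt N18489 D18523))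
theorem Q15565 : ∀ i, i < 15565 → P i := stepQ 15564 Q15564 (allL N15564 (tt N12511 F27352) (tt N15078 F27353) (tt N18490 D18524) (tt N12508 (iv D15594)) (tt N18488 (iv F33635)) (tt N17593 (iv F31612)))
theorem Q15566 : ∀ i, i < 15566 → P i := stepQ 15565 Q15565 (allL N15565 (tt N15839 (iv F27909)) (tt N12631 F27354) (tt N12510 F27355) (tt N18491 D18525) (tt N12509 (iv D15595)) (tt N18492 D18526))
theorem Q15567 : ∀ i, i < 15567 → P i := stepQ 15566 Q15566 (allL N15566 (tt N18488 (iv F33633)) (tt N12602 F27356) (tt N18493 D18527) (tt N12510 (iv D15596)) (tt N12511 F27357) (tt N18494 D18528))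
theorem Q15568 : ∀ i, i < 15568 → P i := stepQ 15567 Q15567 (allL N15567 (tt N18489 (iv F33636)) (tt N12601 F27358) (tt N18492 (iv F33647)) (tt N18494 (iv F33651)) (tt N12597 F27359) (tt N12510 (iv D15597)))
theorem Q15569 : ∀ i, i < 15569 → P i := stepQ 15568 Q15568 (allL N15568 (tt N18490 (iv F33639)) (tt N18495 D18529) (tt N12511 (iv D15598)) (tt N18496 D18530) (tt N18493 (iv F33649)) (tt N17597 (iv F31624)))
theorem Q15570 : ∀ i, i < 15570 → P i := stepQ 15569 Q15569 (allL N15569 (tt N12515 F27360) (tt N18497 D18531) (tt N12512 (iv D15599)) (tt N17597 (iv F31625)) (tt N12515 F27361) (tt N18496 (iv F33656)))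
theorem Q15571 : ∀ i, i < 15571 → P i := stepQ 15570 Q15570 (allL N15570 (tt N12516 F27362) (tt N18449 (iv F33533)) (tt N18496 (iv F33655)) (tt N12513 F27363) (tt N18498 D18532) (tt N12512 (iv D15600)))
theorem Q15572 : ∀ i, i < 15572 → P i := stepQ 15571 Q15571 (allL N15571 (tt N17555 (iv F31519)) (tt N12514 (iv D15601)) (tt N18472 (iv F33591)) (tt N18499 D18533) (tt N15079 F27364) (tt N17561 (iv F31537)))
theorem Q15573 : ∀ i, i < 15573 → P i := stepQ 15572 Q15572 (allL N15572 (tt N12517 F27365) (tt N18499 (iv F33662)) (tt N18487 (iv F33631)) (tt N12514 (iv D15602)) (tt N18500 D18534) (tt N17584 (iv F31585)))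
theorem Q15574 : ∀ i, i < 15574 → P i := stepQ 15573 Q15573 (allL N15573 (tt N17597 (iv F31623)) (tt N12515 (iv D15603)) (tt N17593 F31614) (tt N12515 F31615) (tt N18497 (iv F33657)) (tt N18490 (iv F33642)))
theorem Q15575 : ∀ i, i < 15575 → P i := stepQ 15574 Q15574 (allL N15574 (tt N18496 (iv F33654)) (tt N18490 (iv F33640)) (tt N12516 F27366) (tt N18490 (iv F33641)) (tt N18501 D18535) (tt N12515 (iv D15605)))
theorem Q15576 : ∀ i, i < 15576 → P i := stepQ 15575 Q15575 (allL N15575 (tt N18498 (iv F33658)) (tt N15077 F27367) (tt N18501 (iv F33665)) (tt N15071 F27368) (tt N12516 (iv D15606)) (tt N18498 (iv F33661)))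
theorem Q15577 : ∀ i, i < 15577 → P i := stepQ 15576 Q15576 (allL N15576 (tt N18487 (iv F33629)) (tt N18502 D18536) (tt N12517 (iv D15607)) (tt N18484 (iv F33622)) (tt N18503 D18537) (tt N17586 (iv F31592)))
theorem Q15578 : ∀ i, i < 15578 → P i := stepQ 15577 Q15577 (allL N15577 (tt N18500 (iv F33663)) (tt N17578 (iv F31573)) (tt N18503 (iv F33669)) (tt N15082 F27369) (tt N12517 (iv D15608)) (tt N18504 D18538))
theorem Q15579 : ∀ i, i < 15579 → P i := stepQ 15578 Q15578 (allL N15578 (tt N12551 F27370) (tt N13856 F27371) (tt N12545 F27372) (tt N18505 D18539) (tt N12522 (iv D15609)) (tt N18439 (iv F33500)))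
theorem Q15580 : ∀ i, i < 15580 → P i := stepQ 15579 Q15579 (allL N15579 (tt N18297 (iv F33197)) (tt N13857 F27373) (tt N18506 D18540) (tt N12523 (iv D15610)) (tt N18505 (iv F33674)) (tt N18362 (iv F33333)))
theorem Q15581 : ∀ i, i < 15581 → P i := stepQ 15580 Q15580 (allL N15580 (tt N12525 F27374) (tt N12533 F27375) (tt N18507 D18541) (tt N12524 (iv D15611)) (tt N13854 F27376) (tt N18508 D18542))
theorem Q15582 : ∀ i, i < 15582 → P i := stepQ 15581 Q15581 (allL N15581 (tt N12526 F27377) (tt N12534 F27378) (tt N18110 F32750) (tt N18508 (iv F33680)) (tt N13853 F27379) (tt N12524 (iv D15612)))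
theorem Q15583 : ∀ i, i < 15583 → P i := stepQ 15582 Q15582 (allL N15582 (tt N18507 (iv F33675)) (tt N18509 D18543) (tt N12525 (iv D15613)) (tt N12608 F27381) (tt N13859 F27380) (tt N18445 (iv F33518)))
theorem Q15584 : ∀ i, i < 15584 → P i := stepQ 15583 Q15583 (allL N15583 (tt N18508 (iv F33678)) (tt N12528 F27382) (tt N18445 (iv F33519)) (tt N12526 F27383) (tt N14957 F27384) (tt N12525 (iv D15614)))
theorem Q15585 : ∀ i, i < 15585 → P i := stepQ 15584 Q15584 (allL N15584 (tt N18510 D18544) (tt N12527 (iv D15615)) (tt N18509 (iv F33682)) (tt N12531 F27385) (tt N13860 F27386) (tt N12530 F27387))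
theorem Q15586 : ∀ i, i < 15586 → P i := stepQ 15585 Q15585 (allL N15585 (tt N12530 F27388) (tt N15181 F27389) (tt N18511 D18545) (tt N12529 (iv D15616)) (tt N15911 (iv F28023)) (tt N18510 (iv F33689)))
theorem Q15587 : ∀ i, i < 15587 → P i := stepQ 15586 Q15586 (allL N15586 (tt N12531 F27390) (tt N15182 F27391) (tt N17668 F31780) (tt N18510 (iv F33687)) (tt N18512 D18546) (tt N12529 (iv D15617)))
theorem Q15588 : ∀ i, i < 15588 → P i := stepQ 15587 Q15587 (allL N15587 (tt N18511 (iv F33690)) (tt N18445 (iv F33516)) (tt N12530 (iv D15618)) (tt N12708 F27392) (tt N15912 (iv F28024)) (tt N18509 (iv F33685)))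
theorem Q15589 : ∀ i, i < 15589 → P i := stepQ 15588 Q15588 (allL N15588 (tt N18512 (iv F33693)) (tt N12532 F27393) (tt N18347 (iv F33309)) (tt N18513 D18547) (tt N12531 (iv D15619)) (tt N14739 F27394))
theorem Q15590 : ∀ i, i < 15590 → P i := stepQ 15589 Q15589 (allL N15589 (tt N15186 F27395) (tt N18513 (iv F33696)) (tt N14936 F27396) (tt N12532 (iv D15620)) (tt N13861 F27397) (tt N14736 F27398))
theorem Q15591 : ∀ i, i < 15591 → P i := stepQ 15590 Q15590 (allL N15590 (tt N12535 F27399) (tt N18514 D18548) (tt N12533 (iv D15621)) (tt N18371 (iv F33353)) (tt N15802 F27861) (tt N18515 D18549))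
theorem Q15592 : ∀ i, i < 15592 → P i := stepQ 15591 Q15591 (allL N15591 (tt N12536 F27400) (tt N18508 (iv F33679)) (tt N18515 (iv F33700)) (tt N12534 F27401) (tt N15817 (iv F27884)) (tt N12533 (iv D15622)))
theorem Q15593 : ∀ i, i < 15593 → P i := stepQ 15592 Q15592 (allL N15592 (tt N12537 F27402) (tt N13853 F27403) (tt N18319 (iv F33252)) (tt N13397 (iv F27405)) (tt N12534 (iv D15623)) (tt N12541 F27404))
theorem Q15594 : ∀ i, i < 15594 → P i := stepQ 15593 Q15593 (allL N15593 (tt N18516 D18550) (tt N12535 (iv D15624)) (tt N12538 F27406) (tt N18517 D18551) (tt N15829 F27898) (tt N15183 (iv F27407)))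
theorem Q15595 : ∀ i, i < 15595 → P i := stepQ 15594 Q15594 (allL N15594 (tt N18371 (iv F33352)) (tt N18517 (iv F33705)) (tt N18370 (iv F33351)) (tt N12535 (iv D15625)) (tt N16556 (iv F29455)) (tt N18518 D18552))
theorem Q15596 : ∀ i, i < 15596 → P i := stepQ 15595 Q15595 (allL N15595 (tt N18515 (iv F33699)) (tt N15183 F27408) (tt N12536 F27409) (tt N18518 (iv F33710)) (tt N15826 (iv F27894)) (tt N12535 (iv D15626)))
theorem Q15597 : ∀ i, i < 15597 → P i := stepQ 15596 Q15596 (allL N15596 (tt N12538 (iv D15627)) (tt N18510 (iv F33686)) (tt N18516 (iv F33701)) (tt N15182 F27410) (tt N18519 D18553) (tt N15181 F27411))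
theorem Q15598 : ∀ i, i < 15598 → P i := stepQ 15597 Q15597 (allL N15597 (tt N18519 (iv F33711)) (tt N12539 F27412) (tt N15829 (iv F27897)) (tt N15555 (iv F27413)) (tt N12538 (iv D15628)) (tt N14933 (iv F27414)))
theorem Q15599 : ∀ i, i < 15599 → P i := stepQ 15598 Q15598 (allL N15598 (tt N12543 F27415) (tt N12547 F27416) (tt N15754 (iv F27746)) (tt N12542 (iv D15629)) (tt N18130 (iv F32806)) (tt N14053 F27417))
theorem Q15600 : ∀ i, i < 15600 → P i := stepQ 15599 Q15599 (allL N15599 (tt N12549 F27418) (tt N18130 (iv F32804)) (tt N14039 F27419) (tt N16887 (iv F30179)) (tt N12547 (iv D15630)) (tt N18128 (iv F32800)))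
theorem Q15601 : ∀ i, i < 15601 → P i := stepQ 15600 Q15600 (allL N15600 (tt N15757 (iv F27750)) (tt N12548 (iv D15631)) (tt N12550 F27420) (tt N14030 F27421) (tt N18520 D18554) (tt N14057 F27422))
theorem Q15602 : ∀ i, i < 15602 → P i := stepQ 15601 Q15601 (allL N15601 (tt N14039 F27423) (tt N18520 (iv F33715)) (tt N12549 F27424) (tt N18521 D18555) (tt N12548 (iv D15632)) (tt N18179 (iv F32931)))
theorem Q15603 : ∀ i, i < 15603 → P i := stepQ 15602 Q15602 (allL N15602 (tt N18128 (iv F32796)) (tt N12552 F27425) (tt N18179 (iv F32930)) (tt N16892 (iv F30190)) (tt N14059 F27426) (tt N12549 (iv D15633)))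
theorem Q15604 : ∀ i, i < 15604 → P i := stepQ 15603 Q15603 (allL N15603 (tt N12550 (iv D15634)) (tt N13851 F27427) (tt N15757 (iv F27751)) (tt N13850 F27428) (tt N18030 (iv F32556)) (tt N15762 (iv F27765)))
theorem Q15605 : ∀ i, i < 15605 → P i := stepQ 15604 Q15604 (allL N15604 (tt N18030 (iv F32553)) (tt N12551 F27429) (tt N18520 (iv F33716)) (tt N18100 (iv F32717)) (tt N12550 (iv D15635)) (tt N17757 (iv F31977)))
theorem Q15606 : ∀ i, i < 15606 → P i := stepQ 15605 Q15605 (allL N15605 (tt N18505 (iv F33672)) (tt N18100 (iv F32715)) (tt N18522 D18556) (tt N12551 (iv D15636)) (tt N18297 (iv F33199)) (tt N18099 F32713))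
theorem Q15607 : ∀ i, i < 15607 → P i := stepQ 15606 Q15606 (allL N15606 (tt N18439 (iv F33497)) (tt N17757 (iv F31974)) (tt N12552 F27430) (tt N18099 (iv F32712)) (tt N17756 F31972) (tt N12551 (iv D15637)))
theorem Q15608 : ∀ i, i < 15608 → P i := stepQ 15607 Q15607 (allL N15607 (tt N18252 (iv F33100)) (tt N12555 (iv D15638)) (tt N12560 F27431) (tt N12555 (iv F27434)) (tt N12556 F27432) (tt N12661 F27433))
theorem Q15609 : ∀ i, i < 15609 → P i := stepQ 15608 Q15608 (allL N15608 (tt N12556 (iv D15639)) (tt N16933 (iv F30256)) (tt N12561 F27440) (tt N18251 F33099) (tt N18252 (iv F33102)) (tt N12557 F27441))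
theorem Q15610 : ∀ i, i < 15610 → P i := stepQ 15609 Q15609 (allL N15609 (tt N12558 F27442) (tt N18245 (iv F33086)) (tt N18291 (iv F33185)) (tt N12557 (iv D15640)) (tt N18250 F33095) (tt N18251 (iv F33098)))
theorem Q15611 : ∀ i, i < 15611 → P i := stepQ 15610 Q15610 (allL N15610 (tt N18250 (iv F33093)) (tt N12559 F27443) (tt N18293 (iv F33189)) (tt N12659 F27444) (tt N12558 (iv D15641)) (tt N12559 F27445))
theorem Q15612 : ∀ i, i < 15612 → P i := stepQ 15611 Q15611 (allL N15611 (tt N12560 (iv D15642)) (tt N12604 F27446) (tt N18252 (iv F33101)) (tt N12696 F27447) (tt N12561 F27448) (tt N12666 F27449))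
theorem Q15613 : ∀ i, i < 15613 → P i := stepQ 15612 Q15612 (allL N15612 (tt N12563 F27450) (tt N16735 (iv F29878)) (tt N12562 (iv D15643)) (tt N16727 (iv F29852)) (tt N17018 (iv F30449)) (tt N12615 F27451))
theorem Q15614 : ∀ i, i < 15614 → P i := stepQ 15613 Q15613 (allL N15613 (tt N12564 F27452) (tt N12606 F27453) (tt N17018 (iv F30448)) (tt N12665 F27454) (tt N12562 (iv D15644)) (tt N12695 F27455))
theorem Q15615 : ∀ i, i < 15615 → P i := stepQ 15614 Q15614 (allL N15614 (tt N12566 F27456) (tt N16737 (iv F29886)) (tt N12565 (iv D15645)) (tt N18340 (iv F33296)) (tt N18523 D18557) (tt N12568 F27457))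
theorem Q15616 : ∀ i, i < 15616 → P i := stepQ 15615 Q15615 (allL N15615 (tt N12567 F27458) (tt N12609 F27459) (tt N18523 (iv F33723)) (tt N12712 F27460) (tt N12565 (iv D15646)) (tt N12702 F27461))
theorem Q15617 : ∀ i, i < 15617 → P i := stepQ 15616 Q15616 (allL N15616 (tt N18340 (iv F33295)) (tt N12607 F27462) (tt N13770 F27464) (tt N12566 (iv D15647)) (tt N18524 D18558) (tt N12570 F27463))
theorem Q15618 : ∀ i, i < 15618 → P i := stepQ 15617 Q15617 (allL N15617 (tt N18523 (iv F33722)) (tt N12608 F27465) (tt N12567 F27466) (tt N18509 (iv F33683)) (tt N12566 (iv D15648)) (tt N12708 F27467))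
theorem Q15619 : ∀ i, i < 15619 → P i := stepQ 15618 Q15618 (allL N15618 (tt N18525 D18559) (tt N12568 (iv D15649)) (tt N12612 F27468) (tt N18526 D18560) (tt N12699 F27469) (tt N16737 (iv F29887)))
theorem Q15620 : ∀ i, i < 15620 → P i := stepQ 15619 Q15619 (allL N15619 (tt N12570 F27470) (tt N18526 (iv F33732)) (tt N17137 (iv F30653)) (tt N12568 (iv D15650)) (tt N18527 D18561) (tt N18340 (iv F33297)))
theorem Q15621 : ∀ i, i < 15621 → P i := stepQ 15620 Q15620 (allL N15620 (tt N12569 (iv D15651)) (tt N18525 (iv F33728)) (tt N12571 F27471) (tt N18281 (iv F33159)) (tt N12703 F27472) (tt N12605 F27473))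
theorem Q15622 : ∀ i, i < 15622 → P i := stepQ 15621 Q15621 (allL N15621 (tt N18281 (iv F33158)) (tt N12570 F27474) (tt N18279 (iv F33153)) (tt N12569 (iv D15652)) (tt N18528 D18562) (tt N12607 F27475))
theorem Q15623 : ∀ i, i < 15623 → P i := stepQ 15622 Q15622 (allL N15622 (tt N17137 (iv F30651)) (tt N18529 D18563) (tt N12570 (iv D15653)) (tt N13771 F27477) (tt N18530 D18564) (tt N13770 F27476))
theorem Q15624 : ∀ i, i < 15624 → P i := stepQ 15623 Q15623 (allL N15623 (tt N18527 (iv F33733)) (tt N18528 (iv F33735)) (tt N18530 (iv F33739)) (tt N12706 F27478) (tt N12570 (iv D15654)) (tt N18531 D18565))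
theorem Q15625 : ∀ i, i < 15625 → P i := stepQ 15624 Q15624 (allL N15624 (tt N15880 (iv F27966)) (tt N12577 F27479) (tt N14762 F27480) (tt N12574 F27481) (tt N18284 (iv F33165)) (tt N12573 (iv D15655)))
theorem Q15626 : ∀ i, i < 15626 → P i := stepQ 15625 Q15625 (allL N15625 (tt N17591 (iv F31604)) (tt N12578 F27482) (tt N12693 F27483) (tt N18446 (iv F33521)) (tt N12574 (iv D15656)) (tt N12581 F27484))
theorem Q15627 : ∀ i, i < 15627 → P i := stepQ 15626 Q15626 (allL N15626 (tt N12590 F27485) (tt N15867 (iv F27937)) (tt N12576 F27486) (tt N18276 (iv F33142)) (tt N12575 (iv D15657)) (tt N18277 (iv F33147)))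
theorem Q15628 : ∀ i, i < 15628 → P i := stepQ 15627 Q15627 (allL N15627 (tt N12591 F27487) (tt N15878 (iv F27962)) (tt N18277 (iv F33145)) (tt N12582 F27488) (tt N18278 (iv F33150)) (tt N12576 (iv D15658)))
theorem Q15629 : ∀ i, i < 15629 → P i := stepQ 15628 Q15628 (allL N15628 (tt N12593 F27489) (tt N18446 F33523) (tt N18285 (iv F33167)) (tt N12578 (iv D15659)) (tt N18285 (iv F33168)) (tt N12583 F27490))
theorem Q15630 : ∀ i, i < 15630 → P i := stepQ 15629 Q15629 (allL N15629 (tt N15078 F27491) (tt N12583 F27492) (tt N15065 F27494) (tt N12581 (iv D15660)) (tt N12640 F27493) (tt N18446 (iv F33522)))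
theorem Q15631 : ∀ i, i < 15631 → P i := stepQ 15630 Q15630 (allL N15630 (tt N12603 F27496) (tt N18532 D18566) (tt N12583 (iv D15661)) (tt N18278 (iv F33149)) (tt N12642 F27497) (tt N18285 (iv F33169)))
theorem Q15632 : ∀ i, i < 15632 → P i := stepQ 15631 Q15631 (allL N15631 (tt N12585 F27498) (tt N16926 (iv F30237)) (tt N14317 F27499) (tt N12584 (iv D15662)) (tt N18280 (iv F33156)) (tt N15037 F27500))
theorem Q15633 : ∀ i, i < 15633 → P i := stepQ 15632 Q15632 (allL N15632 (tt N14317 F27501) (tt N14762 F27502) (tt N12585 (iv D15663)) (tt N14314 F27503) (tt N18283 (iv F33162)) (tt N14761 F27504))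
theorem Q15634 : ∀ i, i < 15634 → P i := stepQ 15633 Q15633 (allL N15633 (tt N15038 F27505) (tt N12587 (iv D15664)) (tt N12589 F27506) (tt N17580 (iv F31578)) (tt N15875 (iv F27953)) (tt N16928 (iv F30243)))
theorem Q15635 : ∀ i, i < 15635 → P i := stepQ 15634 Q15634 (allL N15634 (tt N15882 (iv F27972)) (tt N12591 F27507) (tt N15887 (iv F27986)) (tt N12597 F27508) (tt N17596 (iv F31622)) (tt N12588 (iv D15665)))
theorem Q15636 : ∀ i, i < 15636 → P i := stepQ 15635 Q15635 (allL N15635 (tt N12589 (iv D15666)) (tt N15037 F27509) (tt N15038 F27510) (tt N16927 (iv F30241)) (tt N15869 (iv F27944)) (tt N16926 F30238))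
theorem Q15637 : ∀ i, i < 15637 → P i := stepQ 15636 Q15636 (allL N15636 (tt N15869 (iv F27942)) (tt N12590 F27511) (tt N15875 (iv F27952)) (tt N18533 D18567) (tt N12589 (iv D15667)) (tt N18534 D18568))
theorem Q15638 : ∀ i, i < 15638 → P i := stepQ 15637 Q15637 (allL N15637 (tt N18276 (iv F33141)) (tt N18533 (iv F33743)) (tt N18267 (iv F33133)) (tt N12590 (iv D15668)) (tt N16932 (iv F30253)) (tt N18257 (iv F33113)))
theorem Q15639 : ∀ i, i < 15639 → P i := stepQ 15638 Q15638 (allL N15638 (tt N18277 (iv F33144)) (tt N18534 (iv F33745)) (tt N12591 F27512) (tt N18257 (iv F33112)) (tt N16931 (iv F30251)) (tt N12590 (iv D15669)))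
theorem Q15640 : ∀ i, i < 15640 → P i := stepQ 15639 Q15639 (allL N15639 (tt N18278 (iv F33148)) (tt N17596 (iv F31620)) (tt N16931 (iv F30249)) (tt N12603 (iv F27514)) (tt N12591 (iv D15670)) (tt N12592 F27513))
theorem Q15641 : ∀ i, i < 15641 → P i := stepQ 15640 Q15640 (allL N15640 (tt N18285 (iv F33166)) (tt N17595 (iv F31617)) (tt N12593 F27517) (tt N12592 (iv D15671)) (tt N12593 F27515) (tt N12603 F27516))
theorem Q15642 : ∀ i, i < 15642 → P i := stepQ 15641 Q15641 (allL N15641 (tt N12597 F27518) (tt N15387 F27519) (tt N18486 (iv F33628)) (tt N15882 (iv F27975)) (tt N18489 (iv F33638)) (tt N12594 (iv D15672)))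
theorem Q15643 : ∀ i, i < 15643 → P i := stepQ 15642 Q15642 (allL N15642 (tt N16864 (iv F30122)) (tt N12596 F27520) (tt N12598 F27521) (tt N18535 D18569) (tt N12595 (iv D15673)) (tt N18536 D18570))
theorem Q15644 : ∀ i, i < 15644 → P i := stepQ 15643 Q15643 (allL N15643 (tt N18485 (iv F33624)) (tt N18535 (iv F33747)) (tt N17585 (iv F31589)) (tt N12596 (iv D15674)) (tt N17586 (iv F31591)) (tt N18537 D18571))
theorem Q15645 : ∀ i, i < 15645 → P i := stepQ 15644 Q15644 (allL N15644 (tt N18486 (iv F33626)) (tt N18536 (iv F33748)) (tt N12597 F27522) (tt N18537 (iv F33751)) (tt N18492 (iv F33648)) (tt N12596 (iv D15675)))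
theorem Q15646 : ∀ i, i < 15646 → P i := stepQ 15645 Q15645 (allL N15645 (tt N16614 (iv F29580)) (tt N12599 F27523) (tt N18538 D18572) (tt N12598 (iv D15676)) (tt N12633 F27524) (tt N18539 D18573))
theorem Q15647 : ∀ i, i < 15647 → P i := stepQ 15646 Q15646 (allL N15646 (tt N16865 (iv F30124)) (tt N12600 F27525) (tt N18536 (iv F33749)) (tt N18539 (iv F33754)) (tt N12632 F27526) (tt N12598 (iv D15677)))
theorem Q15648 : ∀ i, i < 15648 → P i := stepQ 15647 Q15647 (allL N15647 (tt N12643 F27527) (tt N18539 (iv F33753)) (tt N16806 (iv F30019)) (tt N12600 F27528) (tt N16809 (iv F30027)) (tt N12599 (iv D15678)))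
theorem Q15649 : ∀ i, i < 15649 → P i := stepQ 15648 Q15648 (allL N15648 (tt N12642 F27529) (tt N18494 (iv F33650)) (tt N12602 F27530) (tt N12601 (iv D15679)) (tt N12603 F27531) (tt N12602 F27532))
theorem Q15650 : ∀ i, i < 15650 → P i := stepQ 15649 Q15649 (allL N15649 (tt N18540 D18574) (tt N12603 (iv D15680)) (tt N18495 (iv F33653)) (tt N17596 (iv F31621)) (tt N18494 (iv F33652)) (tt N17595 F31619))
theorem Q15651 : ∀ i, i < 15651 → P i := stepQ 15650 Q15650 (allL N15650 (tt N16737 (iv F29885)) (tt N12605 (iv D15681)) (tt N16735 F29879) (tt N18541 D18575) (tt N18542 D18576) (tt N18525 (iv F33731)))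
theorem Q15652 : ∀ i, i < 15652 → P i := stepQ 15651 Q15651 (allL N15651 (tt N12607 F27533) (tt N18541 (iv F33755)) (tt N16867 (iv F30136)) (tt N12605 (iv D15682)) (tt N17446 (iv F31278)) (tt N18281 (iv F33160)))
theorem Q15653 : ∀ i, i < 15653 → P i := stepQ 15652 Q15652 (allL N15652 (tt N12608 F27534) (tt N18542 (iv F33756)) (tt N12606 F27535) (tt N18507 (iv F33676)) (tt N12605 (iv D15683)) (tt N18442 (iv F33510)))
theorem Q15654 : ∀ i, i < 15654 → P i := stepQ 15653 Q15653 (allL N15653 (tt N16867 (iv F30132)) (tt N16868 (iv F30138)) (tt N12607 (iv D15684)) (tt N16866 F30131) (tt N17444 (iv F31273)) (tt N18279 (iv F33154)))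
theorem Q15655 : ∀ i, i < 15655 → P i := stepQ 15654 Q15654 (allL N15654 (tt N17446 (iv F31277)) (tt N18524 (iv F33725)) (tt N17444 (iv F31274)) (tt N13859 F27536) (tt N12607 (iv D15685)) (tt N18543 D18577))
theorem Q15656 : ∀ i, i < 15656 → P i := stepQ 15655 Q15655 (allL N15655 (tt N12611 F27537) (tt N12702 F27538) (tt N16740 (iv F29892)) (tt N12735 F27539) (tt N12614 F27540) (tt N12609 (iv D15686)))
theorem Q15657 : ∀ i, i < 15657 → P i := stepQ 15656 Q15656 (allL N15656 (tt N16740 (iv F29891)) (tt N12698 F27541) (tt N12611 F27542) (tt N14397 F27543) (tt N12620 F27544) (tt N12610 (iv D15687)))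
theorem Q15658 : ∀ i, i < 15658 → P i := stepQ 15657 Q15657 (allL N15657 (tt N12612 (iv D15688)) (tt N12615 F27545) (tt N18525 (iv F33729)) (tt N16736 (iv F29884)) (tt N18544 D18578) (tt N16735 F29880))
theorem Q15659 : ∀ i, i < 15659 → P i := stepQ 15658 Q15658 (allL N15658 (tt N18544 (iv F33758)) (tt N12613 F27546) (tt N12699 F27547) (tt N18545 D18579) (tt N12612 (iv D15689)) (tt N18546 D18580))
theorem Q15660 : ∀ i, i < 15660 → P i := stepQ 15659 Q15659 (allL N15659 (tt N12619 F27548) (tt N18545 (iv F33762)) (tt N18547 D18581) (tt N12613 (iv D15690)) (tt N16741 (iv F29895)) (tt N18548 D18582))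
theorem Q15661 : ∀ i, i < 15661 → P i := stepQ 15660 Q15660 (allL N15660 (tt N12620 F27549) (tt N18546 (iv F33764)) (tt N12614 F27550) (tt N18548 (iv F33772)) (tt N16740 (iv F29893)) (tt N12613 (iv D15691)))
theorem Q15662 : ∀ i, i < 15662 → P i := stepQ 15661 Q15661 (allL N15661 (tt N12616 F27551) (tt N16736 (iv F29882)) (tt N17719 (iv F31890)) (tt N12615 (iv D15692)) (tt N17017 (iv F30446)) (tt N16727 (iv F29854)))
theorem Q15663 : ∀ i, i < 15663 → P i := stepQ 15662 Q15662 (allL N15662 (tt N12617 F27552) (tt N18544 (iv F33759)) (tt N12621 F27553) (tt N16635 (iv F29630)) (tt N12615 (iv D15693)) (tt N12694 (iv F27554)))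
theorem Q15664 : ∀ i, i < 15664 → P i := stepQ 15663 Q15663 (allL N15663 (tt N17719 (iv F31889)) (tt N16725 (iv F29844)) (tt N12616 (iv D15694)) (tt N18291 (iv F33186)) (tt N17731 (iv F31909)) (tt N15232 F27555))
theorem Q15665 : ∀ i, i < 15665 → P i := stepQ 15664 Q15664 (allL N15664 (tt N16635 (iv F29628)) (tt N12619 F27556) (tt N16628 (iv F29611)) (tt N12617 (iv D15695)) (tt N16586 (iv F29503)) (tt N12697 F27557))
theorem Q15666 : ∀ i, i < 15666 → P i := stepQ 15665 Q15665 (allL N15665 (tt N16741 (iv F29894)) (tt N16586 (iv F29501)) (tt N18549 D18583) (tt N12618 (iv D15696)) (tt N12619 F27558) (tt N16585 (iv F29499)))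
theorem Q15667 : ∀ i, i < 15667 → P i := stepQ 15666 Q15666 (allL N15666 (tt N18547 (iv F33766)) (tt N18550 D18584) (tt N12619 (iv D15697)) (tt N18551 D18585) (tt N18549 (iv F33774)) (tt N18552 D18586))
theorem Q15668 : ∀ i, i < 15668 → P i := stepQ 15667 Q15667 (allL N15667 (tt N18548 (iv F33770)) (tt N12697 F27559) (tt N18552 (iv F33779)) (tt N12620 F27560) (tt N14399 (iv F27561)) (tt N12619 (iv D15698)))
theorem Q15669 : ∀ i, i < 15669 → P i := stepQ 15668 Q15668 (allL N15668 (tt N12626 F27562) (tt N18553 D18587) (tt N12622 (iv D15699)) (tt N18552 (iv F33780)) (tt N13349 F27563) (tt N18551 (iv F33777)))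
theorem Q15670 : ∀ i, i < 15670 → P i := stepQ 15669 Q15669 (allL N15669 (tt N12627 F27564) (tt N13258 F27565) (tt N18551 (iv F33776)) (tt N12623 F27566) (tt N18554 D18588) (tt N12622 (iv D15700)))
theorem Q15671 : ∀ i, i < 15671 → P i := stepQ 15670 Q15670 (allL N15670 (tt N13349 F27567) (tt N18555 D18589) (tt N12624 (iv D15701)) (tt N18556 D18590) (tt N12626 F27568) (tt N18557 D18591))
theorem Q15672 : ∀ i, i < 15672 → P i := stepQ 15671 Q15671 (allL N15671 (tt N13350 F27569) (tt N12679 F27570) (tt N18557 (iv F33795)) (tt N12625 F27571) (tt N18558 D18592) (tt N12624 (iv D15702)))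
theorem Q15673 : ∀ i, i < 15673 → P i := stepQ 15672 Q15672 (allL N15672 (tt N18559 D18593) (tt N12626 (iv D15703)) (tt N12677 F27572) (tt N18560 D18594) (tt N18555 (iv F33789)) (tt N14891 (iv F27573)))
theorem Q15674 : ∀ i, i < 15674 → P i := stepQ 15673 Q15673 (allL N15673 (tt N18552 (iv F33778)) (tt N18560 (iv F33805)) (tt N18548 (iv F33771)) (tt N12626 (iv D15704)) (tt N18561 D18595) (tt N18547 F33769))
theorem Q15675 : ∀ i, i < 15675 → P i := stepQ 15674 Q15674 (allL N15674 (tt N18551 (iv F33775)) (tt N14891 F27574) (tt N12627 F27575) (tt N18547 (iv F33767)) (tt N18562 D18596) (tt N12626 (iv D15705)))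
theorem Q15676 : ∀ i, i < 15676 → P i := stepQ 15675 Q15675 (allL N15675 (tt N18554 (iv F33784)) (tt N12680 F27576) (tt N18562 (iv F33812)) (tt N12757 F27577) (tt N12627 (iv D15706)) (tt N18558 (iv F33800)))
theorem Q15677 : ∀ i, i < 15677 → P i := stepQ 15676 Q15676 (allL N15676 (tt N12631 F27578) (tt N15768 (iv F27782)) (tt N12629 F27579) (tt N18563 D18597) (tt N12628 (iv D15707)) (tt N18564 D18598))
theorem Q15678 : ∀ i, i < 15678 → P i := stepQ 15677 Q15677 (allL N15677 (tt N12632 F27580) (tt N12634 F27581) (tt N18564 (iv F33817)) (tt N18259 (iv F33119)) (tt N16865 (iv F30126)) (tt N12629 (iv D15708)))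
theorem Q15679 : ∀ i, i < 15679 → P i := stepQ 15678 Q15678 (allL N15678 (tt N14941 F27582) (tt N14944 F27583) (tt N12630 (iv D15709)) (tt N14091 F27584) (tt N15819 (iv F27887)) (tt N15843 (iv F27918)))
theorem Q15680 : ∀ i, i < 15680 → P i := stepQ 15679 Q15679 (allL N15679 (tt N14790 F27585) (tt N14792 F27586) (tt N15819 (iv F27886)) (tt N18565 D18599) (tt N12630 (iv D15710)) (tt N18566 D18600))
theorem Q15681 : ∀ i, i < 15681 → P i := stepQ 15680 Q15680 (allL N15680 (tt N18563 (iv F33813)) (tt N18491 (iv F33644)) (tt N18567 D18601) (tt N12631 (iv D15711)) (tt N18565 (iv F33820)) (tt N18568 D18602))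
theorem Q15682 : ∀ i, i < 15682 → P i := stepQ 15681 Q15681 (allL N15681 (tt N18564 (iv F33816)) (tt N18492 (iv F33646)) (tt N12632 F27587) (tt N18568 (iv F33825)) (tt N18536 (iv F33750)) (tt N12631 (iv D15712)))
theorem Q15683 : ∀ i, i < 15683 → P i := stepQ 15682 Q15682 (allL N15682 (tt N16613 (iv F29579)) (tt N16804 (iv F30016)) (tt N12633 (iv D15713)) (tt N17523 (iv F31465)) (tt N18538 (iv F33752)) (tt N16807 (iv F30021)))
theorem Q15684 : ∀ i, i < 15684 → P i := stepQ 15683 Q15683 (allL N15683 (tt N12636 F27588) (tt N15767 (iv F27779)) (tt N12639 F27589) (tt N14788 F27590) (tt N12635 (iv D15714)) (tt N14787 F27591))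
theorem Q15685 : ∀ i, i < 15685 → P i := stepQ 15684 Q15684 (allL N15684 (tt N14788 F27592) (tt N12637 F27593) (tt N14782 F27596) (tt N12636 (iv D15715)) (tt N14636 F27594) (tt N14631 F27595))
theorem Q15686 : ∀ i, i < 15686 → P i := stepQ 15685 Q15685 (allL N15685 (tt N15771 (iv F27787)) (tt N18569 D18603) (tt N12637 (iv D15716)) (tt N18570 D18604) (tt N15766 (iv F27775)) (tt N18571 D18605))
theorem Q15687 : ∀ i, i < 15687 → P i := stepQ 15686 Q15686 (allL N15686 (tt N15772 (iv F27789)) (tt N14631 F27597) (tt N18571 (iv F33834)) (tt N12638 F27598) (tt N14630 F27599) (tt N12637 (iv D15717)))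
theorem Q15688 : ∀ i, i < 15688 → P i := stepQ 15687 Q15687 (allL N15687 (tt N12640 F27600) (tt N18488 (iv F33634)) (tt N15077 F27602) (tt N12639 (iv D15718)) (tt N15078 F27601) (tt N18572 D18606))
theorem Q15689 : ∀ i, i < 15689 → P i := stepQ 15688 Q15688 (allL N15688 (tt N12641 F27603) (tt N18489 (iv F33637)) (tt N14787 F27604) (tt N18572 (iv F33839)) (tt N15387 F27605) (tt N12639 (iv D15719)))
theorem Q15690 : ∀ i, i < 15690 → P i := stepQ 15689 Q15689 (allL N15689 (tt N18572 (iv F33837)) (tt N12642 F27606) (tt N15098 F27607) (tt N12641 F27608) (tt N18532 (iv F33742)) (tt N12640 (iv D15720)))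
theorem Q15691 : ∀ i, i < 15691 → P i := stepQ 15690 Q15690 (allL N15690 (tt N16806 (iv F30018)) (tt N18573 D18607) (tt N12643 (iv D15721)) (tt N18267 (iv F33134)) (tt N16813 (iv F30033)) (tt N12644 F27609))
theorem Q15692 : ∀ i, i < 15692 → P i := stepQ 15691 Q15691 (allL N15691 (tt N18574 D18608) (tt N12644 (iv D15722)) (tt N16617 (iv F29588)) (tt N18265 (iv F33130)) (tt N12645 F27610) (tt N18573 (iv F33840)))
theorem Q15693 : ∀ i, i < 15693 → P i := stepQ 15692 Q15692 (allL N15692 (tt N12645 (iv D15723)) (tt N16803 (iv F30015)) (tt N16616 (iv F29586)) (tt N16802 (iv F30012)) (tt N18574 (iv F33841)) (tt N16810 (iv F30029)))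
theorem Q15694 : ∀ i, i < 15694 → P i := stepQ 15693 Q15693 (allL N15693 (tt N12647 F27611) (tt N16676 (iv F29731)) (tt N17244 (iv F30873)) (tt N12646 (iv D15724)) (tt N18575 D18609) (tt N16703 (iv F29786)))
theorem Q15695 : ∀ i, i < 15695 → P i := stepQ 15694 Q15694 (allL N15694 (tt N12648 F27612) (tt N16677 (iv F29734)) (tt N18263 (iv F33128)) (tt N16703 (iv F29785)) (tt N18576 D18610) (tt N12646 (iv D15725)))
theorem Q15696 : ∀ i, i < 15696 → P i := stepQ 15695 Q15695 (allL N15695 (tt N18575 (iv F33842)) (tt N12649 F27613) (tt N17247 (iv F30876)) (tt N18033 (iv F32566)) (tt N12647 (iv D15726)) (tt N18577 D18611))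
theorem Q15697 : ∀ i, i < 15697 → P i := stepQ 15696 Q15696 (allL N15696 (tt N18576 (iv F33843)) (tt N12650 F27614) (tt N18266 (iv F33132)) (tt N18578 D18612) (tt N12648 (iv D15727)) (tt N18034 (iv F32568)))
theorem Q15698 : ∀ i, i < 15698 → P i := stepQ 15697 Q15697 (allL N15697 (tt N16680 (iv F29741)) (tt N18577 (iv F33844)) (tt N14574 F27615) (tt N18035 (iv F32570)) (tt N16706 (iv F29793)) (tt N12649 (iv D15728)))
theorem Q15699 : ∀ i, i < 15699 → P i := stepQ 15698 Q15698 (allL N15698 (tt N16681 (iv F29744)) (tt N18578 (iv F33845)) (tt N18579 D18613) (tt N12650 (iv D15729)) (tt N16705 (iv F29790)) (tt N18036 (iv F32571)))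
theorem Q15700 : ∀ i, i < 15700 → P i := stepQ 15699 Q15699 (allL N15699 (tt N12652 F27616) (tt N12656 F27617) (tt N18580 D18614) (tt N12651 (iv D15730)) (tt N18581 D18615) (tt N14405 (iv F27618)))
theorem Q15701 : ∀ i, i < 15701 → P i := stepQ 15700 Q15700 (allL N15700 (tt N12653 F27619) (tt N12657 F27620) (tt N18115 (iv F32769)) (tt N14405 F27621) (tt N18582 D18616) (tt N12651 (iv D15731)))
theorem Q15702 : ∀ i, i < 15702 → P i := stepQ 15701 Q15701 (allL N15701 (tt N18580 (iv F33846)) (tt N14251 F27622) (tt N12652 (iv D15732)) (tt N18583 D18617) (tt N18584 D18618) (tt N14358 F27623))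
theorem Q15703 : ∀ i, i < 15703 → P i := stepQ 15702 Q15702 (allL N15702 (tt N18581 (iv F33849)) (tt N12654 F27624) (tt N18584 (iv F33858)) (tt N18247 (iv F33088)) (tt N12652 (iv D15733)) (tt N18581 (iv F33851)))
theorem Q15704 : ∀ i, i < 15704 → P i := stepQ 15703 Q15703 (allL N15703 (tt N18582 (iv F33852)) (tt N12655 F27625) (tt N16938 (iv F30268)) (tt N18582 (iv F33854)) (tt N12653 (iv D15734)) (tt N16937 (iv F30266)))
theorem Q15705 : ∀ i, i < 15705 → P i := stepQ 15704 Q15704 (allL N15704 (tt N12659 F27626) (tt N18581 (iv F33850)) (tt N14406 F27627) (tt N18250 (iv F33094)) (tt N12656 F27628) (tt N12654 (iv D15735)))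
theorem Q15706 : ∀ i, i < 15706 → P i := stepQ 15705 Q15705 (allL N15705 (tt N12661 F27629) (tt N18582 (iv F33853)) (tt N12666 F27630) (tt N12655 (iv D15736)) (tt N12657 F27631) (tt N18252 (iv F33103)))
theorem Q15707 : ∀ i, i < 15707 → P i := stepQ 15706 Q15706 (allL N15706 (tt N18585 D18619) (tt N12658 (iv D15737)) (tt N12662 F27632) (tt N14402 F27633) (tt N18586 D18620) (tt N14401 F27634))
theorem Q15708 : ∀ i, i < 15708 → P i := stepQ 15707 Q15707 (allL N15707 (tt N14406 F27635) (tt N18586 (iv F33863)) (tt N12659 F27636) (tt N18587 D18621) (tt N12658 (iv D15738)) (tt N12663 F27637))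
theorem Q15709 : ∀ i, i < 15709 → P i := stepQ 15708 Q15708 (allL N15708 (tt N12662 (iv D15739)) (tt N14227 F27638) (tt N18585 (iv F33860)) (tt N14226 F27639) (tt N18588 D18622) (tt N14349 F27640))
theorem Q15710 : ∀ i, i < 15710 → P i := stepQ 15709 Q15709 (allL N15709 (tt N18588 (iv F33872)) (tt N12663 F27641) (tt N18586 (iv F33864)) (tt N18589 D18623) (tt N12662 (iv D15740)) (tt N18586 (iv F33866)))
theorem Q15711 : ∀ i, i < 15711 → P i := stepQ 15710 Q15710 (allL N15710 (tt N14255 F27642) (tt N18589 (iv F33876)) (tt N18590 D18624) (tt N12663 (iv D15741)) (tt N14253 F27643) (tt N18587 (iv F33870)))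
theorem Q15712 : ∀ i, i < 15712 → P i := stepQ 15711 Q15711 (allL N15711 (tt N12668 (iv D15742)) (tt N14885 F27644) (tt N13883 F27645) (tt N18591 D18625) (tt N12672 F27646) (tt N15349 (iv F27647)))
theorem Q15713 : ∀ i, i < 15713 → P i := stepQ 15712 Q15712 (allL N15712 (tt N18591 (iv F33884)) (tt N12669 F27648) (tt N18592 D18626) (tt N12668 (iv D15743)) (tt N18593 D18627) (tt N18594 D18628))
theorem Q15714 : ∀ i, i < 15714 → P i := stepQ 15713 Q15713 (allL N15713 (tt N15349 F27649) (tt N12670 F27650) (tt N13882 F27651) (tt N18594 (iv F33897)) (tt N18595 D18629) (tt N12668 (iv D15744)))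
theorem Q15715 : ∀ i, i < 15715 → P i := stepQ 15714 Q15714 (allL N15714 (tt N13810 F27652) (tt N15293 (iv F27654)) (tt N12669 (iv D15745)) (tt N13802 F27653) (tt N18596 D18630) (tt N13801 (iv F27655)))
theorem Q15716 : ∀ i, i < 15716 → P i := stepQ 15715 Q15715 (allL N15715 (tt N14887 F27656) (tt N18593 (iv F33892)) (tt N18596 (iv F33905)) (tt N12675 F27657) (tt N12669 (iv D15746)) (tt N18597 D18631))
theorem Q15717 : ∀ i, i < 15717 → P i := stepQ 15716 Q15716 (allL N15716 (tt N13808 F27658) (tt N18594 (iv F33895)) (tt N13801 F27659) (tt N12670 F27660) (tt N14392 (iv F27661)) (tt N12669 (iv D15747)))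
theorem Q15718 : ∀ i, i < 15718 → P i := stepQ 15717 Q15717 (allL N15717 (tt N14888 F27662) (tt N18595 (iv F33900)) (tt N12671 F27663) (tt N18598 D18632) (tt N12670 (iv D15748)) (tt N12676 F27664))
theorem Q15719 : ∀ i, i < 15719 → P i := stepQ 15718 Q15718 (allL N15718 (tt N12673 F27665) (tt N14889 F27666) (tt N18599 D18633) (tt N12672 (iv D15749)) (tt N18600 D18634) (tt N14921 (iv F27667)))
theorem Q15720 : ∀ i, i < 15720 → P i := stepQ 15719 Q15719 (allL N15719 (tt N12674 F27668) (tt N14890 F27669) (tt N18138 (iv F32828)) (tt N14921 F27670) (tt N18601 D18635) (tt N12672 (iv D15750)))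
theorem Q15721 : ∀ i, i < 15721 → P i := stepQ 15720 Q15720 (allL N15720 (tt N18599 (iv F33916)) (tt N13265 F27671) (tt N12673 (iv D15751)) (tt N18602 D18636) (tt N18603 D18637) (tt N13263 F27672))
theorem Q15722 : ∀ i, i < 15722 → P i := stepQ 15721 Q15721 (allL N15721 (tt N18600 (iv F33918)) (tt N12675 F27673) (tt N18603 (iv F33926)) (tt N18593 (iv F33893)) (tt N12673 (iv D15752)) (tt N18604 D18638))
theorem Q15723 : ∀ i, i < 15723 → P i := stepQ 15722 Q15722 (allL N15722 (tt N18601 (iv F33920)) (tt N12676 F27674) (tt N18141 (iv F32834)) (tt N18605 D18639) (tt N12674 (iv D15753)) (tt N18595 (iv F33902)))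
theorem Q15724 : ∀ i, i < 15724 → P i := stepQ 15723 Q15723 (allL N15723 (tt N14894 F27675) (tt N18604 (iv F33927)) (tt N14925 F27676) (tt N18597 (iv F33910)) (tt N14924 F27677) (tt N12675 (iv D15754)))
theorem Q15725 : ∀ i, i < 15725 → P i := stepQ 15724 Q15724 (allL N15724 (tt N14895 F27678) (tt N18605 (iv F33929)) (tt N17617 (iv F31655)) (tt N12676 (iv D15755)) (tt N14923 F27679) (tt N18598 (iv F33915)))
theorem Q15726 : ∀ i, i < 15726 → P i := stepQ 15725 Q15725 (allL N15725 (tt N12677 (iv D15756)) (tt N14921 F27680) (tt N18559 (iv F33801)) (tt N14890 F27681) (tt N18606 D18640) (tt N14889 F27682))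
theorem Q15727 : ∀ i, i < 15727 → P i := stepQ 15726 Q15726 (allL N15726 (tt N18606 (iv F33931)) (tt N12678 F27683) (tt N18555 (iv F33788)) (tt N18607 D18641) (tt N12677 (iv D15757)) (tt N18608 D18642))
theorem Q15728 : ∀ i, i < 15728 → P i := stepQ 15727 Q15727 (allL N15727 (tt N14923 F27684) (tt N18607 (iv F33933)) (tt N17587 (iv F31595)) (tt N12678 (iv D15758)) (tt N14895 F27685) (tt N17588 (iv F31600)))
theorem Q15729 : ∀ i, i < 15729 → P i := stepQ 15728 Q15728 (allL N15728 (tt N14924 F27686) (tt N18608 (iv F33935)) (tt N12679 F27687) (tt N17588 (iv F31598)) (tt N14894 F27688) (tt N12678 (iv D15759)))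
theorem Q15730 : ∀ i, i < 15730 → P i := stepQ 15729 Q15729 (allL N15729 (tt N14925 F27689) (tt N18558 (iv F33798)) (tt N14894 F27690) (tt N17636 (iv F31697)) (tt N12679 (iv D15760)) (tt N12680 F27691))
theorem Q15731 : ∀ i, i < 15731 → P i := stepQ 15730 Q15730 (allL N15730 (tt N12682 F27692) (tt N12686 F27693) (tt N18609 D18643) (tt N12681 (iv D15761)) (tt N16892 (iv F30191)) (tt N14769 (iv F27694)))
theorem Q15732 : ∀ i, i < 15732 → P i := stepQ 15731 Q15731 (allL N15731 (tt N12683 F27695) (tt N12687 F27696) (tt N18132 (iv F32812)) (tt N14769 F27697) (tt N14060 F27698) (tt N12681 (iv D15762)))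
theorem Q15733 : ∀ i, i < 15733 → P i := stepQ 15732 Q15732 (allL N15732 (tt N18609 (iv F33937)) (tt N14759 F27699) (tt N12682 (iv D15763)) (tt N18610 D18644) (tt N18611 D18645) (tt N14757 F27700))
theorem Q15734 : ∀ i, i < 15734 → P i := stepQ 15733 Q15733 (allL N15733 (tt N16892 (iv F30188)) (tt N12684 F27701) (tt N18611 (iv F33942)) (tt N18128 (iv F32799)) (tt N12682 (iv D15764)) (tt N16887 (iv F30180)))
theorem Q15735 : ∀ i, i < 15735 → P i := stepQ 15734 Q15734 (allL N15734 (tt N12692 F27702) (tt N16887 (iv F30178)) (tt N14766 F27703) (tt N18130 (iv F32805)) (tt N14765 F27704) (tt N12684 (iv D15765)))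
theorem Q15736 : ∀ i, i < 15736 → P i := stepQ 15735 Q15735 (allL N15735 (tt N12693 F27705) (tt N14055 F27706) (tt N17591 (iv F31606)) (tt N12685 (iv D15766)) (tt N14764 F27707) (tt N14054 F27708))
theorem Q15737 : ∀ i, i < 15737 → P i := stepQ 15736 Q15736 (allL N15736 (tt N12690 (iv D15767)) (tt N14754 F27709) (tt N16906 (iv F30212)) (tt N14747 F27710) (tt N18612 D18646) (tt N14296 F27711))
theorem Q15738 : ∀ i, i < 15738 → P i := stepQ 15737 Q15737 (allL N15737 (tt N18612 (iv F33943)) (tt N12691 F27712) (tt N14306 F27713) (tt N18613 D18647) (tt N12690 (iv D15768)) (tt N14305 F27714))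
theorem Q15739 : ∀ i, i < 15739 → P i := stepQ 15738 Q15738 (allL N15738 (tt N14770 F27715) (tt N18613 (iv F33949)) (tt N18614 D18648) (tt N12691 (iv D15769)) (tt N14750 F27716) (tt N18615 D18649))
theorem Q15740 : ∀ i, i < 15740 → P i := stepQ 15739 Q15739 (allL N15739 (tt N14766 F27717) (tt N14305 F27718) (tt N12692 F27719) (tt N18615 (iv F33957)) (tt N14304 F27720) (tt N12691 (iv D15770)))
theorem Q15741 : ∀ i, i < 15741 → P i := stepQ 15740 Q15740 (allL N15740 (tt N18546 (iv F33763)) (tt N12694 (iv D15771)) (tt N18440 (iv F33502)) (tt N16634 F29627) (tt N16986 (iv F30388)) (tt N18544 F33761))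
theorem Q15742 : ∀ i, i < 15742 → P i := stepQ 15741 Q15741 (allL N15741 (tt N12699 (iv D15772)) (tt N12703 F27721) (tt N18544 (iv F33760)) (tt N18616 D18650) (tt N18525 (iv F33730)) (tt N18440 (iv F33503)))
theorem Q15743 : ∀ i, i < 15743 → P i := stepQ 15742 Q15742 (allL N15742 (tt N18616 (iv F33959)) (tt N12700 F27722) (tt N14876 (iv F27723)) (tt N12699 (iv D15773)) (tt N18617 D18651) (tt N15108 (iv F27724)))
theorem Q15744 : ∀ i, i < 15744 → P i := stepQ 15743 Q15743 (allL N15743 (tt N18440 (iv F33501)) (tt N12701 F27725) (tt N18546 (iv F33765)) (tt N15108 F27726) (tt N18618 D18652) (tt N12699 (iv D15774)))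
theorem Q15745 : ∀ i, i < 15745 → P i := stepQ 15744 Q15744 (allL N15744 (tt N12706 F27727) (tt N18617 (iv F33963)) (tt N14875 F27728) (tt N18527 (iv F33734)) (tt N12700 (iv D15775)) (tt N18619 D18653))
theorem Q15746 : ∀ i, i < 15746 → P i := stepQ 15745 Q15745 (allL N15745 (tt N12708 F27729) (tt N18618 (iv F33965)) (tt N12702 F27730) (tt N18511 (iv F33691)) (tt N12701 (iv D15776)) (tt N18523 (iv F33724)))
theorem Q15747 : ∀ i, i < 15747 → P i := stepQ 15746 Q15746 (allL N15746 (tt N12704 F27731) (tt N18616 (iv F33960)) (tt N18149 (iv F32858)) (tt N12703 (iv D15777)) (tt N18620 D18654) (tt N18441 (iv F33507)))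
theorem Q15748 : ∀ i, i < 15748 → P i := stepQ 15747 Q15747 (allL N15747 (tt N18149 (iv F32857)) (tt N18621 D18655) (tt N12704 (iv D15778)) (tt N18144 (iv F32845)) (tt N18622 D18656) (tt N18443 (iv F33512)))
theorem Q15749 : ∀ i, i < 15749 → P i := stepQ 15748 Q15748 (allL N15748 (tt N18620 (iv F33969)) (tt N12706 F27732) (tt N18622 (iv F33973)) (tt N18528 (iv F33736)) (tt N12704 (iv D15779)) (tt N18623 D18657))
theorem Q15750 : ∀ i, i < 15750 → P i := stepQ 15749 Q15749 (allL N15749 (tt N14872 F27733) (tt N12705 (iv D15780)) (tt N18621 (iv F33970)) (tt N14871 F27734) (tt N18624 D18658) (tt N15106 F27735))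
theorem Q15751 : ∀ i, i < 15751 → P i := stepQ 15750 Q15750 (allL N15750 (tt N14875 F27736) (tt N18624 (iv F33977)) (tt N12706 F27737) (tt N18625 D18659) (tt N12705 (iv D15781)) (tt N18626 D18660))
theorem Q15752 : ∀ i, i < 15752 → P i := stepQ 15751 Q15751 (allL N15751 (tt N18619 (iv F33966)) (tt N18623 (iv F33974)) (tt N18626 (iv F33981)) (tt N18531 (iv F33740)) (tt N18627 D18661) (tt N12706 (iv D15782)))
theorem Q15753 : ∀ i, i < 15753 → P i := stepQ 15752 Q15752 (allL N15752 (tt N15109 F27738) (tt N18444 (iv F33513)) (tt N15107 F27739) (tt N15912 F28025) (tt N12707 (iv D15783)) (tt N18627 (iv F33986)))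
theorem Q15754 : ∀ i, i < 15754 → P i := stepQ 15753 Q15753 (allL N15753 (tt N12709 (iv D15784)) (tt N12713 F27740) (tt N12729 F27741) (tt N15468 (iv F27743)) (tt N17658 (iv F31755)) (tt N12719 F27742))
theorem Q15755 : ∀ i, i < 15755 → P i := stepQ 15754 Q15754 (allL N15754 (tt N15468 F27744) (tt N12710 F27745) (tt N15598 F27746) (tt N12709 (iv D15785)) (tt N18628 D18662) (tt N15179 F27747))
theorem Q15756 : ∀ i, i < 15756 → P i := stepQ 15755 Q15755 (allL N15755 (tt N12716 F27748) (tt N18628 (iv F33989)) (tt N17115 (iv F30623)) (tt N17660 (iv F31762)) (tt N12710 (iv D15786)) (tt N18629 D18663))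
theorem Q15757 : ∀ i, i < 15757 → P i := stepQ 15756 Q15756 (allL N15756 (tt N16917 (iv F30228)) (tt N12716 F27749) (tt N16913 (iv F30222)) (tt N17663 (iv F31768)) (tt N12714 (iv D15787)) (tt N18630 D18664))
theorem Q15758 : ∀ i, i < 15758 → P i := stepQ 15757 Q15757 (allL N15757 (tt N15600 F27750) (tt N12715 (iv D15788)) (tt N15603 F27751) (tt N17105 (iv F30597)) (tt N18631 D18665) (tt N15012 F27752))
theorem Q15759 : ∀ i, i < 15759 → P i := stepQ 15758 Q15758 (allL N15758 (tt N17115 (iv F30621)) (tt N18631 (iv F34000)) (tt N12716 F27753) (tt N18632 D18666) (tt N12715 (iv D15789)) (tt N18633 D18667))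
theorem Q15760 : ∀ i, i < 15760 → P i := stepQ 15759 Q15759 (allL N15759 (tt N18629 (iv F33992)) (tt N18630 (iv F33996)) (tt N18633 (iv F34004)) (tt N17666 (iv F31774)) (tt N18634 D18668) (tt N12716 (iv D15790)))
theorem Q15761 : ∀ i, i < 15761 → P i := stepQ 15760 Q15760 (allL N15760 (tt N15178 F27754) (tt N12725 F27755) (tt N15010 F27756) (tt N15177 F27757) (tt N12717 (iv D15791)) (tt N18634 (iv F34009)))
theorem Q15762 : ∀ i, i < 15762 → P i := stepQ 15761 Q15761 (allL N15761 (tt N12728 F27758) (tt N18635 D18669) (tt N12723 (iv D15792)) (tt N18636 D18670) (tt N14376 F27759) (tt N14387 F27760))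
theorem Q15763 : ∀ i, i < 15763 → P i := stepQ 15762 Q15762 (allL N15762 (tt N15313 F27761) (tt N12724 (iv D15793)) (tt N15012 F27762) (tt N15312 F27763) (tt N15011 F27764) (tt N15603 F27765))
theorem Q15764 : ∀ i, i < 15764 → P i := stepQ 15763 Q15763 (allL N15763 (tt N15172 F27766) (tt N18634 (iv F34007)) (tt N15025 F27767) (tt N15169 F27768) (tt N18630 (iv F33998)) (tt N12725 (iv D15794)))
theorem Q15765 : ∀ i, i < 15765 → P i := stepQ 15764 Q15764 (allL N15764 (tt N15464 F27769) (tt N17668 (iv F31778)) (tt N15472 F27770) (tt N12727 F27771) (tt N18637 D18671) (tt N12726 (iv D15795)))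
theorem Q15766 : ∀ i, i < 15766 → P i := stepQ 15765 Q15765 (allL N15765 (tt N18636 (iv F34014)) (tt N14384 F27772) (tt N18638 D18672) (tt N12728 (iv D15796)) (tt N18639 D18673) (tt N14391 F27773))
theorem Q15767 : ∀ i, i < 15767 → P i := stepQ 15766 Q15766 (allL N15766 (tt N12744 F27774) (tt N18384 (iv F33373)) (tt N12732 (iv D15797)) (tt N12756 F27777) (tt N15685 F27775) (tt N12755 F27776))
theorem Q15768 : ∀ i, i < 15768 → P i := stepQ 15767 Q15767 (allL N15767 (tt N12739 F27778) (tt N15683 F27779) (tt N12806 F27780) (tt N17810 (iv F32108)) (tt N12736 (iv D15798)) (tt N17809 (iv F32104)))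
theorem Q15769 : ∀ i, i < 15769 → P i := stepQ 15768 Q15768 (allL N15768 (tt N12806 F27781) (tt N15676 F27782) (tt N12739 F27783) (tt N16011 F28301) (tt N12738 (iv D15799)) (tt N18640 D18674))
theorem Q15770 : ∀ i, i < 15770 → P i := stepQ 15769 Q15769 (allL N15769 (tt N17810 (iv F32106)) (tt N12741 F27784) (tt N16353 (iv F29045)) (tt N12739 (iv D15800)) (tt N12740 F27785) (tt N16352 F29043))
theorem Q15771 : ∀ i, i < 15771 → P i := stepQ 15770 Q15770 (allL N15770 (tt N17809 (iv F32101)) (tt N12742 F27786) (tt N18640 (iv F34028)) (tt N16352 (iv F29041)) (tt N17950 (iv F32358)) (tt N12739 (iv D15801)))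
theorem Q15772 : ∀ i, i < 15772 → P i := stepQ 15771 Q15771 (allL N15771 (tt N15685 F27787) (tt N16361 (iv F29062)) (tt N12741 (iv D15802)) (tt N18641 D18675) (tt N12744 F27788) (tt N16359 F29058))
theorem Q15773 : ∀ i, i < 15773 → P i := stepQ 15772 Q15772 (allL N15772 (tt N15686 F27789) (tt N16352 F29042) (tt N16359 (iv F29056)) (tt N12742 F27790) (tt N16354 (iv F29051)) (tt N12741 (iv D15803)))
theorem Q15774 : ∀ i, i < 15774 → P i := stepQ 15773 Q15773 (allL N15773 (tt N12868 F27791) (tt N17950 (iv F32357)) (tt N13798 F27792) (tt N12867 (iv F27794)) (tt N12742 (iv D15804)) (tt N12743 F27793))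
theorem Q15775 : ∀ i, i < 15775 → P i := stepQ 15774 Q15774 (allL N15774 (tt N12869 F27795) (tt N17951 (iv F32361)) (tt N12874 F27798) (tt N12743 (iv D15805)) (tt N12747 F27796) (tt N12867 F27797))
theorem Q15776 : ∀ i, i < 15776 → P i := stepQ 15775 Q15775 (allL N15775 (tt N16395 (iv F29148)) (tt N12744 (iv D15806)) (tt N16362 (iv F29066)) (tt N18642 D18676) (tt N16361 F29064) (tt N16367 (iv F29083)))
theorem Q15777 : ∀ i, i < 15777 → P i := stepQ 15776 Q15776 (allL N15776 (tt N12756 F27799) (tt N18642 (iv F34032)) (tt N12751 F27800) (tt N12744 (iv D15807)) (tt N18643 D18677) (tt N12750 F27801))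
theorem Q15778 : ∀ i, i < 15778 → P i := stepQ 15777 Q15777 (allL N15777 (tt N12755 F27802) (tt N16367 (iv F29080)) (tt N12745 F27803) (tt N12750 F27804) (tt N16366 (iv F29078)) (tt N12744 (iv D15808)))
theorem Q15779 : ∀ i, i < 15779 → P i := stepQ 15778 Q15778 (allL N15778 (tt N13192 F27805) (tt N18644 D18678) (tt N12748 (iv D15809)) (tt N18645 D18679) (tt N13329 F27806) (tt N18646 D18680))
theorem Q15780 : ∀ i, i < 15780 → P i := stepQ 15779 Q15779 (allL N15779 (tt N13194 F27807) (tt N12751 F27808) (tt N18646 (iv F34043)) (tt N12749 F27809) (tt N18647 D18681) (tt N12748 (iv D15810)))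
theorem Q15781 : ∀ i, i < 15781 → P i := stepQ 15780 Q15780 (allL N15780 (tt N16392 (iv F29140)) (tt N12750 (iv D15811)) (tt N18644 (iv F34037)) (tt N16367 (iv F29082)) (tt N13539 F27810) (tt N18642 (iv F34033)))
theorem Q15782 : ∀ i, i < 15782 → P i := stepQ 15781 Q15781 (allL N15781 (tt N12757 F27811) (tt N18647 (iv F34046)) (tt N18643 (iv F34035)) (tt N18554 (iv F33786)) (tt N12751 (iv D15812)) (tt N13542 F27812))
theorem Q15783 : ∀ i, i < 15783 → P i := stepQ 15782 Q15782 (allL N15782 (tt N16389 (iv F29132)) (tt N12752 (iv D15813)) (tt N17633 (iv F31688)) (tt N16388 F29130) (tt N12754 F27813) (tt N16718 (iv F29825)))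
theorem Q15784 : ∀ i, i < 15784 → P i := stepQ 15783 Q15783 (allL N15783 (tt N13542 F27814) (tt N17636 (iv F31695)) (tt N16719 (iv F29827)) (tt N18558 (iv F33799)) (tt N12753 (iv D15814)) (tt N12757 F27815))
theorem Q15785 : ∀ i, i < 15785 → P i := stepQ 15784 Q15784 (allL N15784 (tt N12754 (iv D15815)) (tt N16392 (iv F29141)) (tt N17632 (iv F31684)) (tt N16394 (iv F29147)) (tt N16389 F29134) (tt N18648 D18682))
theorem Q15786 : ∀ i, i < 15786 → P i := stepQ 15785 Q15785 (allL N15785 (tt N18648 (iv F34049)) (tt N12756 F27816) (tt N13181 F27817) (tt N18384 (iv F33375)) (tt N18649 D18683) (tt N12754 (iv D15816)))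
theorem Q15787 : ∀ i, i < 15787 → P i := stepQ 15786 Q15786 (allL N15786 (tt N18643 (iv F34034)) (tt N18649 (iv F34051)) (tt N12757 F27818) (tt N18650 D18684) (tt N12756 (iv D15817)) (tt N16719 (iv F29828)))
theorem Q15788 : ∀ i, i < 15788 → P i := stepQ 15787 Q15787 (allL N15787 (tt N12943 F27819) (tt N12760 F27820) (tt N15955 (iv F28132)) (tt N13484 F27821) (tt N15958 (iv F28141)) (tt N12758 (iv D15818)))
theorem Q15789 : ∀ i, i < 15789 → P i := stepQ 15788 Q15788 (allL N15788 (tt N12771 F27822) (tt N18475 (iv F33598)) (tt N12759 (iv D15819)) (tt N12796 F27824) (tt N13482 F27823) (tt N12795 (iv F27825)))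
theorem Q15790 : ∀ i, i < 15790 → P i := stepQ 15789 Q15789 (allL N15789 (tt N12772 F27826) (tt N13484 F27827) (tt N12795 F27828) (tt N12760 F27829) (tt N18651 D18685) (tt N12759 (iv D15820)))
theorem Q15791 : ∀ i, i < 15791 → P i := stepQ 15790 Q15790 (allL N15790 (tt N12773 F27830) (tt N15958 (iv F28139)) (tt N12762 F27831) (tt N18652 D18686) (tt N12760 (iv D15821)) (tt N12761 F27832))
theorem Q15792 : ∀ i, i < 15792 → P i := stepQ 15791 Q15791 (allL N15791 (tt N12774 F27833) (tt N15957 (iv F28136)) (tt N18653 D18687) (tt N12761 (iv D15822)) (tt N16046 (iv F28385)) (tt N18652 (iv F34059)))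
theorem Q15793 : ∀ i, i < 15793 → P i := stepQ 15792 Q15792 (allL N15792 (tt N12775 F27834) (tt N18654 D18688) (tt N12763 (iv D15823)) (tt N18655 D18689) (tt N12764 F27835) (tt N17968 (iv F32410)))
theorem Q15794 : ∀ i, i < 15794 → P i := stepQ 15793 Q15793 (allL N15793 (tt N18656 D18690) (tt N12764 (iv D15824)) (tt N16019 (iv F28318)) (tt N16471 (iv F29296)) (tt N18654 (iv F34061)) (tt N12788 F27836))
theorem Q15795 : ∀ i, i < 15795 → P i := stepQ 15794 Q15794 (allL N15794 (tt N12767 F27837) (tt N12943 F27838) (tt N12779 F27839) (tt N13492 F27840) (tt N12954 F27841) (tt N12765 (iv D15825)))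
theorem Q15796 : ∀ i, i < 15796 → P i := stepQ 15795 Q15795 (allL N15795 (tt N13490 F27842) (tt N18657 D18691) (tt N12766 (iv D15826)) (tt N18658 D18692) (tt N13486 F27843) (tt N18659 D18693))
theorem Q15797 : ∀ i, i < 15797 → P i := stepQ 15796 Q15796 (allL N15796 (tt N13492 F27844) (tt N12772 F27845) (tt N18659 (iv F34072)) (tt N12767 F27846) (tt N18660 D18694) (tt N12766 (iv D15827)))
theorem Q15798 : ∀ i, i < 15798 → P i := stepQ 15797 Q15797 (allL N15797 (tt N13482 F27847) (tt N18661 D18695) (tt N12768 (iv D15828)) (tt N18662 D18696) (tt N12771 F27848) (tt N18663 D18697))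
theorem Q15799 : ∀ i, i < 15799 → P i := stepQ 15798 Q15798 (allL N15798 (tt N13477 F27849) (tt N13487 F27850) (tt N18663 (iv F34086)) (tt N12769 F27851) (tt N18664 D18698) (tt N12768 (iv D15829)))
theorem Q15800 : ∀ i, i < 15800 → P i := stepQ 15799 Q15799 (allL N15799 (tt N13483 F27852) (tt N12951 F27853) (tt N15102 F27854) (tt N18665 D18699) (tt N12769 (iv D15830)) (tt N12770 F27855))
theorem Q15801 : ∀ i, i < 15801 → P i := stepQ 15800 Q15800 (allL N15800 (tt N16046 (iv F28383)) (tt N12950 F27856) (tt N18666 D18700) (tt N12770 (iv D15831)) (tt N12774 F27857) (tt N18665 (iv F34092)))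
theorem Q15802 : ∀ i, i < 15802 → P i := stepQ 15801 Q15801 (allL N15801 (tt N18667 D18701) (tt N12771 (iv D15832)) (tt N18657 (iv F34067)) (tt N18668 D18702) (tt N18661 (iv F34079)) (tt N18669 D18703))
theorem Q15803 : ∀ i, i < 15803 → P i := stepQ 15802 Q15802 (allL N15802 (tt N12796 F27858) (tt N18668 (iv F34095)) (tt N12787 F27859) (tt N12771 (iv D15833)) (tt N15590 (iv F27861)) (tt N12786 F27860))
theorem Q15804 : ∀ i, i < 15804 → P i := stepQ 15803 Q15803 (allL N15803 (tt N12795 F27862) (tt N18669 (iv F34098)) (tt N12772 F27863) (tt N12786 F27864) (tt N18670 D18704) (tt N12771 (iv D15834)))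
theorem Q15805 : ∀ i, i < 15805 → P i := stepQ 15804 Q15804 (allL N15804 (tt N18651 (iv F34054)) (tt N18660 (iv F34074)) (tt N18670 (iv F34101)) (tt N18671 D18705) (tt N12772 (iv D15835)) (tt N18664 (iv F34089)))
theorem Q15806 : ∀ i, i < 15806 → P i := stepQ 15805 Q15805 (allL N15805 (tt N18652 (iv F34058)) (tt N13011 F27865) (tt N18672 D18706) (tt N12773 (iv D15836)) (tt N18671 (iv F34103)) (tt N12774 F27866))
theorem Q15807 : ∀ i, i < 15807 → P i := stepQ 15806 Q15806 (allL N15806 (tt N18653 (iv F34060)) (tt N18673 D18707) (tt N12774 (iv D15837)) (tt N18674 D18708) (tt N18666 (iv F34093)) (tt N18672 (iv F34104)))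
theorem Q15808 : ∀ i, i < 15808 → P i := stepQ 15807 Q15807 (allL N15807 (tt N18675 D18709) (tt N12775 (iv D15838)) (tt N12781 F27867) (tt N18676 D18710) (tt N12776 F27868) (tt N12813 F27869))
theorem Q15809 : ∀ i, i < 15809 → P i := stepQ 15808 Q15808 (allL N15808 (tt N18655 (iv F34063)) (tt N18676 (iv F34109)) (tt N18677 D18711) (tt N12775 (iv D15839)) (tt N18678 D18712) (tt N17972 (iv F32416)))
theorem Q15810 : ∀ i, i < 15810 → P i := stepQ 15809 Q15809 (allL N15809 (tt N12776 (iv D15840)) (tt N18656 (iv F34064)) (tt N12782 F27870) (tt N18679 D18713) (tt N18675 (iv F34107)) (tt N12797 F27871))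
theorem Q15811 : ∀ i, i < 15811 → P i := stepQ 15810 Q15810 (allL N15810 (tt N18679 (iv F34112)) (tt N12777 F27872) (tt N18680 D18714) (tt N12776 (iv D15841)) (tt N18681 D18715) (tt N12798 F27873))
theorem Q15812 : ∀ i, i < 15812 → P i := stepQ 15811 Q15811 (allL N15811 (tt N16472 (iv F29298)) (tt N18681 (iv F34115)) (tt N16463 (iv F29278)) (tt N18678 (iv F34111)) (tt N12777 (iv D15842)) (tt N18682 D18716))
theorem Q15813 : ∀ i, i < 15813 → P i := stepQ 15812 Q15812 (allL N15812 (tt N12780 F27874) (tt N18683 D18717) (tt N12778 (iv D15843)) (tt N18684 D18718) (tt N12994 F27875) (tt N15838 (iv F27908)))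
theorem Q15814 : ∀ i, i < 15814 → P i := stepQ 15813 Q15813 (allL N15813 (tt N18684 (iv F34119)) (tt N18487 (iv F33630)) (tt N18685 D18719) (tt N12780 (iv D15844)) (tt N18686 D18720) (tt N15842 (iv F27914)))
theorem Q15815 : ∀ i, i < 15815 → P i := stepQ 15814 Q15814 (allL N15814 (tt N12781 (iv D15845)) (tt N15558 F27876) (tt N18675 (iv F34106)) (tt N12811 F27877) (tt N12782 F27878) (tt N12810 F27879))
theorem Q15816 : ∀ i, i < 15816 → P i := stepQ 15815 Q15815 (allL N15815 (tt N16910 (iv F30215)) (tt N18687 D18721) (tt N12783 (iv D15846)) (tt N18638 (iv F34021)) (tt N17978 (iv F32431)) (tt N16916 (iv F30227)))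
theorem Q15817 : ∀ i, i < 15817 → P i := stepQ 15816 Q15816 (allL N15816 (tt N12792 F27880) (tt N18688 D18722) (tt N12784 (iv D15847)) (tt N18689 D18723) (tt N12786 F27881) (tt N18690 D18724))
theorem Q15818 : ∀ i, i < 15818 → P i := stepQ 15817 Q15817 (allL N15817 (tt N12793 F27882) (tt N17979 (iv F32433)) (tt N18690 (iv F34129)) (tt N12785 F27883) (tt N15591 F27884) (tt N12784 (iv D15848)))
theorem Q15819 : ∀ i, i < 15819 → P i := stepQ 15818 Q15818 (allL N15818 (tt N18691 D18725) (tt N12786 (iv D15849)) (tt N18687 (iv F34125)) (tt N18669 (iv F34099)) (tt N18688 (iv F34126)) (tt N18668 F34097))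
theorem Q15820 : ∀ i, i < 15820 → P i := stepQ 15819 Q15819 (allL N15819 (tt N12788 (iv D15850)) (tt N12797 F27885) (tt N15679 F27886) (tt N18692 D18726) (tt N15678 F27887) (tt N18656 (iv F34066)))
theorem Q15821 : ∀ i, i < 15821 → P i := stepQ 15820 Q15820 (allL N15820 (tt N18692 (iv F34132)) (tt N12789 F27888) (tt N18693 D18727) (tt N12788 (iv D15851)) (tt N18694 D18728) (tt N16471 (iv F29297)))
theorem Q15822 : ∀ i, i < 15822 → P i := stepQ 15821 Q15821 (allL N15821 (tt N12800 F27889) (tt N18694 (iv F34134)) (tt N16040 (iv F28365)) (tt N15358 F27890) (tt N12789 (iv D15852)) (tt N18695 D18729))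
theorem Q15823 : ∀ i, i < 15823 → P i := stepQ 15822 Q15822 (allL N15822 (tt N16399 (iv F29153)) (tt N18696 D18730) (tt N12790 (iv D15853)) (tt N18697 D18731) (tt N16396 (iv F29151)) (tt N18698 D18732))
theorem Q15824 : ∀ i, i < 15824 → P i := stepQ 15823 Q15823 (allL N15823 (tt N16400 (iv F29155)) (tt N17974 (iv F32417)) (tt N18698 (iv F34138)) (tt N12791 F27891) (tt N18699 D18733) (tt N12790 (iv D15854)))
theorem Q15825 : ∀ i, i < 15825 → P i := stepQ 15824 Q15824 (allL N15824 (tt N18700 D18734) (tt N12792 (iv D15855)) (tt N17959 (iv F32384)) (tt N18701 D18735) (tt N12794 F27892) (tt N18174 (iv F32919)))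
theorem Q15826 : ∀ i, i < 15826 → P i := stepQ 15825 Q15825 (allL N15825 (tt N18689 (iv F34127)) (tt N18701 (iv F34140)) (tt N18702 D18736) (tt N12792 (iv D15856)) (tt N18703 D18737) (tt N18704 D18738))
theorem Q15827 : ∀ i, i < 15827 → P i := stepQ 15826 Q15826 (allL N15826 (tt N18690 (iv F34128)) (tt N18174 (iv F32917)) (tt N12793 F27893) (tt N18704 (iv F34142)) (tt N15595 F27894) (tt N12792 (iv D15857)))
theorem Q15828 : ∀ i, i < 15828 → P i := stepQ 15827 Q15827 (allL N15827 (tt N12794 (iv D15858)) (tt N18691 (iv F34131)) (tt N17960 (iv F32388)) (tt N18705 D18739) (tt N18700 (iv F34139)) (tt N18706 D18740))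
theorem Q15829 : ∀ i, i < 15829 → P i := stepQ 15828 Q15828 (allL N15828 (tt N18705 (iv F34143)) (tt N12795 F27895) (tt N18477 (iv F33605)) (tt N12794 (iv D15859)) (tt N18707 D18741) (tt N18475 F33601))
theorem Q15830 : ∀ i, i < 15830 → P i := stepQ 15829 Q15829 (allL N15829 (tt N18706 (iv F34144)) (tt N12796 F27896) (tt N15597 F27897) (tt N18475 F33600) (tt N15593 (iv F27898)) (tt N12794 (iv D15860)))
theorem Q15831 : ∀ i, i < 15831 → P i := stepQ 15830 Q15830 (allL N15830 (tt N18670 (iv F34100)) (tt N18707 (iv F34147)) (tt N18651 (iv F34056)) (tt N18703 (iv F34141)) (tt N12795 (iv D15861)) (tt N18708 D18742))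
theorem Q15832 : ∀ i, i < 15832 → P i := stepQ 15831 Q15831 (allL N15831 (tt N12798 F27899) (tt N18692 (iv F34133)) (tt N18709 D18743) (tt N12797 (iv D15862)) (tt N18710 D18744) (tt N18679 (iv F34113)))
theorem Q15833 : ∀ i, i < 15833 → P i := stepQ 15832 Q15832 (allL N15832 (tt N18709 (iv F34153)) (tt N18711 D18745) (tt N12798 (iv D15863)) (tt N18709 (iv F34154)) (tt N18712 D18746) (tt N18680 (iv F34114)))
theorem Q15834 : ∀ i, i < 15834 → P i := stepQ 15833 Q15833 (allL N15833 (tt N18710 (iv F34155)) (tt N12800 F27900) (tt N18712 (iv F34157)) (tt N17969 (iv F32412)) (tt N12798 (iv D15864)) (tt N18713 D18747))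
theorem Q15835 : ∀ i, i < 15835 → P i := stepQ 15834 Q15834 (allL N15834 (tt N18714 D18748) (tt N12799 (iv D15865)) (tt N18711 (iv F34156)) (tt N16037 (iv F28356)) (tt N18715 D18749) (tt N16462 (iv F29276)))
theorem Q15836 : ∀ i, i < 15836 → P i := stepQ 15835 Q15835 (allL N15835 (tt N16040 (iv F28364)) (tt N18715 (iv F34159)) (tt N12800 F27901) (tt N16232 (iv F28741)) (tt N12799 (iv D15866)) (tt N18716 D18750))
theorem Q15837 : ∀ i, i < 15837 → P i := stepQ 15836 Q15836 (allL N15836 (tt N18695 (iv F34136)) (tt N18713 (iv F34158)) (tt N18716 (iv F34160)) (tt N17970 (iv F32413)) (tt N18682 (iv F34116)) (tt N12800 (iv D15867)))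
theorem Q15838 : ∀ i, i < 15838 → P i := stepQ 15837 Q15837 (allL N15837 (tt N15556 F27902) (tt N12802 F27903) (tt N15323 F27904) (tt N13796 F27905) (tt N18717 D18751) (tt N12801 (iv D15868)))
theorem Q15839 : ∀ i, i < 15839 → P i := stepQ 15838 Q15838 (allL N15838 (tt N12808 F27906) (tt N18717 (iv F34162)) (tt N12803 F27907) (tt N18718 D18752) (tt N12802 (iv D15869)) (tt N15812 F27908))
theorem Q15840 : ∀ i, i < 15840 → P i := stepQ 15839 Q15839 (allL N15839 (tt N15565 F27909) (tt N12806 F27910) (tt N15563 F27911) (tt N17815 (iv F32117)) (tt N12805 (iv D15870)) (tt N18719 D18753))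
theorem Q15841 : ∀ i, i < 15841 → P i := stepQ 15840 Q15840 (allL N15840 (tt N18640 (iv F34026)) (tt N18719 (iv F34169)) (tt N17809 F32105) (tt N17816 (iv F32118)) (tt N17952 (iv F32365)) (tt N12806 (iv D15871)))
theorem Q15842 : ∀ i, i < 15842 → P i := stepQ 15841 Q15841 (allL N15841 (tt N18032 (iv F32562)) (tt N15559 F27912) (tt N17953 (iv F32369)) (tt N18720 D18754) (tt N12807 (iv D15872)) (tt N17952 F32366))
theorem Q15843 : ∀ i, i < 15843 → P i := stepQ 15842 Q15842 (allL N15842 (tt N18718 (iv F34165)) (tt N15560 F27913) (tt N16566 (iv F29472)) (tt N12808 (iv D15873)) (tt N18720 (iv F34173)) (tt N15813 F27914))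
theorem Q15844 : ∀ i, i < 15844 → P i := stepQ 15843 Q15843 (allL N15843 (tt N15323 F27915) (tt N12809 (iv D15874)) (tt N15556 F27916) (tt N15321 F27917) (tt N18721 D18755) (tt N15678 F27918))
theorem Q15845 : ∀ i, i < 15845 → P i := stepQ 15844 Q15844 (allL N15844 (tt N12813 F27919) (tt N18721 (iv F34175)) (tt N12810 F27920) (tt N18722 D18756) (tt N12809 (iv D15875)) (tt N18675 (iv F34108)))
theorem Q15846 : ∀ i, i < 15846 → P i := stepQ 15845 Q15845 (allL N15845 (tt N17143 (iv F30668)) (tt N17971 (iv F32414)) (tt N17140 (iv F30659)) (tt N18723 D18757) (tt N12812 (iv D15876)) (tt N18724 D18758))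
theorem Q15847 : ∀ i, i < 15847 → P i := stepQ 15846 Q15846 (allL N15846 (tt N18722 (iv F34177)) (tt N17972 (iv F32415)) (tt N18725 D18759) (tt N12813 (iv D15877)) (tt N18723 (iv F34178)) (tt N18676 (iv F34110)))
theorem Q15848 : ∀ i, i < 15848 → P i := stepQ 15847 Q15847 (allL N15847 (tt N18007 (iv F32504)) (tt N18180 (iv F32932)) (tt N18726 D18760) (tt N12814 (iv D15878)) (tt N18727 D18761) (tt N18728 D18762))
theorem Q15849 : ∀ i, i < 15849 → P i := stepQ 15848 Q15848 (allL N15848 (tt N18008 (iv F32505)) (tt N18181 (iv F32933)) (tt N12815 F27921) (tt N18728 (iv F34180)) (tt N16621 (iv F29598)) (tt N12814 (iv D15879)))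
theorem Q15850 : ∀ i, i < 15850 → P i := stepQ 15849 Q15849 (allL N15849 (tt N17685 (iv F31817)) (tt N18729 D18763) (tt N12816 (iv D15880)) (tt N18730 D18764) (tt N17748 (iv F31956)) (tt N18731 D18765))
theorem Q15851 : ∀ i, i < 15851 → P i := stepQ 15850 Q15850 (allL N15850 (tt N17684 (iv F31814)) (tt N12821 F27922) (tt N18731 (iv F34182)) (tt N12817 F27923) (tt N18732 D18766) (tt N12816 (iv D15881)))
theorem Q15852 : ∀ i, i < 15852 → P i := stepQ 15851 Q15851 (allL N15851 (tt N12825 F27924) (tt N18733 D18767) (tt N12818 (iv D15882)) (tt N18734 D18768) (tt N12820 F27925) (tt N18735 D18769))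
theorem Q15853 : ∀ i, i < 15853 → P i := stepQ 15852 Q15852 (allL N15852 (tt N12826 F27926) (tt N17749 (iv F31958)) (tt N18735 (iv F34187)) (tt N12819 F27927) (tt N18736 D18770) (tt N12818 (iv D15883)))
theorem Q15854 : ∀ i, i < 15854 → P i := stepQ 15853 Q15853 (allL N15853 (tt N18737 D18771) (tt N12820 (iv D15884)) (tt N18729 (iv F34181)) (tt N16420 (iv F29176)) (tt N18733 (iv F34184)) (tt N16419 F29174))
theorem Q15855 : ∀ i, i < 15855 → P i := stepQ 15854 Q15854 (allL N15854 (tt N12830 F27928) (tt N18732 (iv F34183)) (tt N16421 (iv F29178)) (tt N17694 (iv F31843)) (tt N12821 (iv D15885)) (tt N18736 (iv F34189)))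
theorem Q15856 : ∀ i, i < 15856 → P i := stepQ 15855 Q15855 (allL N15855 (tt N16441 (iv F29228)) (tt N18738 D18772) (tt N12823 (iv D15886)) (tt N18739 D18773) (tt N16371 F29090) (tt N18740 D18774))
theorem Q15857 : ∀ i, i < 15857 → P i := stepQ 15856 Q15856 (allL N15856 (tt N16440 (iv F29225)) (tt N17747 (iv F31953)) (tt N18740 (iv F34191)) (tt N12824 F27929) (tt N18741 D18775) (tt N12823 (iv D15887)))
theorem Q15858 : ∀ i, i < 15858 → P i := stepQ 15857 Q15857 (allL N15857 (tt N18742 D18776) (tt N12825 (iv D15888)) (tt N17708 (iv F31870)) (tt N18743 D18777) (tt N12827 F27930) (tt N18399 (iv F33400)))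
theorem Q15859 : ∀ i, i < 15859 → P i := stepQ 15858 Q15858 (allL N15858 (tt N18734 (iv F34185)) (tt N18743 (iv F34193)) (tt N18744 D18778) (tt N12825 (iv D15889)) (tt N18745 D18779) (tt N18746 D18780))
theorem Q15860 : ∀ i, i < 15860 → P i := stepQ 15859 Q15859 (allL N15859 (tt N18735 (iv F34186)) (tt N18399 (iv F33399)) (tt N12826 F27931) (tt N18746 (iv F34195)) (tt N18747 D18781) (tt N12825 (iv D15890)))
theorem Q15861 : ∀ i, i < 15861 → P i := stepQ 15860 Q15860 (allL N15860 (tt N18736 (iv F34188)) (tt N16967 F30352) (tt N18747 (iv F34196)) (tt N17698 (iv F31848)) (tt N12826 (iv D15891)) (tt N12830 F27932))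
theorem Q15862 : ∀ i, i < 15862 → P i := stepQ 15861 Q15861 (allL N15861 (tt N12827 (iv D15892)) (tt N18737 (iv F34190)) (tt N17710 (iv F31877)) (tt N18748 D18782) (tt N18742 (iv F34192)) (tt N18749 D18783))
theorem Q15863 : ∀ i, i < 15863 → P i := stepQ 15862 Q15862 (allL N15862 (tt N18748 (iv F34198)) (tt N12828 F27933) (tt N17956 (iv F32376)) (tt N12827 (iv D15893)) (tt N18750 D18784) (tt N16322 (iv F28949)))
theorem Q15864 : ∀ i, i < 15864 → P i := stepQ 15863 Q15863 (allL N15863 (tt N18749 (iv F34199)) (tt N12829 F27934) (tt N17709 (iv F31874)) (tt N16322 (iv F28947)) (tt N18751 D18785) (tt N12827 (iv D15894)))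
theorem Q15865 : ∀ i, i < 15865 → P i := stepQ 15864 Q15864 (allL N15864 (tt N16422 (iv F29179)) (tt N18750 (iv F34200)) (tt N16323 (iv F28952)) (tt N18745 (iv F34194)) (tt N12828 (iv D15895)) (tt N16327 (iv F28958)))
theorem Q15866 : ∀ i, i < 15866 → P i := stepQ 15865 Q15865 (allL N15865 (tt N16421 (iv F29177)) (tt N18751 (iv F34203)) (tt N12830 F27935) (tt N16326 (iv F28956)) (tt N12829 (iv D15896)) (tt N18747 (iv F34197)))
theorem Q15867 : ∀ i, i < 15867 → P i := stepQ 15866 Q15866 (allL N15866 (tt N16361 (iv F29061)) (tt N17734 (iv F31916)) (tt N16345 (iv F29017)) (tt N17715 (iv F31883)) (tt N16395 (iv F29149)) (tt N12831 (iv D15897)))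
theorem Q15868 : ∀ i, i < 15868 → P i := stepQ 15867 Q15867 (allL N15867 (tt N12834 F27936) (tt N15626 F27937) (tt N12832 (iv D15898)) (tt N18752 D18786) (tt N14388 F27938) (tt N18753 D18787))
theorem Q15869 : ∀ i, i < 15869 → P i := stepQ 15868 Q15868 (allL N15868 (tt N12835 F27939) (tt N12847 F27940) (tt N18753 (iv F34210)) (tt N12833 F27941) (tt N18754 D18788) (tt N12832 (iv D15899)))
theorem Q15870 : ∀ i, i < 15870 → P i := stepQ 15869 Q15869 (allL N15869 (tt N15636 F27942) (tt N12834 (iv D15900)) (tt N12838 F27943) (tt N18755 D18789) (tt N15635 F27944) (tt N17743 (iv F31950)))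
theorem Q15871 : ∀ i, i < 15871 → P i := stepQ 15870 Q15870 (allL N15870 (tt N18752 (iv F34204)) (tt N18755 (iv F34220)) (tt N18756 D18790) (tt N12834 (iv D15901)) (tt N18757 D18791) (tt N18758 D18792))
theorem Q15872 : ∀ i, i < 15872 → P i := stepQ 15871 Q15871 (allL N15871 (tt N18753 (iv F34208)) (tt N17743 (iv F31949)) (tt N12835 F27945) (tt N18758 (iv F34225)) (tt N18759 D18793) (tt N12834 (iv D15902)))
theorem Q15873 : ∀ i, i < 15873 → P i := stepQ 15872 Q15872 (allL N15872 (tt N18754 (iv F34215)) (tt N12839 F27946) (tt N18759 (iv F34228)) (tt N18760 D18794) (tt N12835 (iv D15903)) (tt N17381 (iv F31164)))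
theorem Q15874 : ∀ i, i < 15874 → P i := stepQ 15873 Q15873 (allL N15873 (tt N17031 (iv F30469)) (tt N12840 F27947) (tt N18761 D18795) (tt N12836 (iv D15904)) (tt N18760 (iv F34232)) (tt N12837 F27948))
theorem Q15875 : ∀ i, i < 15875 → P i := stepQ 15874 Q15874 (allL N15874 (tt N17669 (iv F31781)) (tt N15473 F27949) (tt N12837 (iv D15905)) (tt N18762 D18796) (tt N12884 F27950) (tt N18761 (iv F34237)))
theorem Q15876 : ∀ i, i < 15876 → P i := stepQ 15875 Q15875 (allL N15875 (tt N12838 (iv D15906)) (tt N12858 F27951) (tt N15636 F27952) (tt N17742 (iv F31948)) (tt N15633 F27953) (tt N17741 F31945))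
theorem Q15877 : ∀ i, i < 15877 → P i := stepQ 15876 Q15876 (allL N15876 (tt N12863 F27954) (tt N18760 (iv F34231)) (tt N18763 D18797) (tt N12839 (iv D15907)) (tt N12840 F27955) (tt N12887 F27956))
theorem Q15878 : ∀ i, i < 15878 → P i := stepQ 15877 Q15877 (allL N15877 (tt N12864 F27957) (tt N15474 (iv F27960)) (tt N12840 (iv D15908)) (tt N12866 F27958) (tt N18763 (iv F34246)) (tt N12841 F27959))
theorem Q15879 : ∀ i, i < 15879 → P i := stepQ 15878 Q15878 (allL N15878 (tt N12852 F27961) (tt N15627 F27962) (tt N12847 F27963) (tt N12870 F27964) (tt N18764 D18798) (tt N12846 (iv D15909)))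
theorem Q15880 : ∀ i, i < 15880 → P i := stepQ 15879 Q15879 (allL N15879 (tt N12853 F27965) (tt N18754 (iv F34216)) (tt N18764 (iv F34251)) (tt N17032 (iv F30474)) (tt N12847 (iv D15910)) (tt N17791 (iv F32063)))
theorem Q15881 : ∀ i, i < 15881 → P i := stepQ 15880 Q15880 (allL N15880 (tt N15624 F27966) (tt N14552 F27967) (tt N12849 F27968) (tt N14551 F27969) (tt N18765 D18799) (tt N12848 (iv D15911)))
theorem Q15882 : ∀ i, i < 15882 → P i := stepQ 15881 Q15881 (allL N15881 (tt N17791 (iv F32062)) (tt N12855 F27970) (tt N18765 (iv F34256)) (tt N17673 (iv F31793)) (tt N12849 (iv D15912)) (tt N12853 F27971))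
theorem Q15883 : ∀ i, i < 15883 → P i := stepQ 15882 Q15882 (allL N15882 (tt N15634 F27972) (tt N12852 F27973) (tt N12860 F27974) (tt N15641 F27975) (tt N18766 D18800) (tt N12850 (iv D15913)))
theorem Q15884 : ∀ i, i < 15884 → P i := stepQ 15883 Q15883 (allL N15883 (tt N18764 (iv F34249)) (tt N18766 (iv F34260)) (tt N12853 F27976) (tt N18767 D18801) (tt N12852 (iv D15914)) (tt N18765 (iv F34258)))
theorem Q15885 : ∀ i, i < 15885 → P i := stepQ 15884 Q15884 (allL N15884 (tt N12887 F27977) (tt N17673 (iv F31792)) (tt N18768 D18802) (tt N12855 (iv D15915)) (tt N12856 F27978) (tt N12863 F27979))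
theorem Q15886 : ∀ i, i < 15886 → P i := stepQ 15885 Q15885 (allL N15885 (tt N12886 F27980) (tt N15475 (iv F27983)) (tt N12856 (iv D15916)) (tt N12890 F27981) (tt N18768 (iv F34272)) (tt N12857 F27982))
theorem Q15887 : ∀ i, i < 15887 → P i := stepQ 15886 Q15886 (allL N15886 (tt N12859 F27984) (tt N17742 (iv F31947)) (tt N18769 D18803) (tt N12858 (iv D15917)) (tt N18770 D18804) (tt N17735 (iv F31921)))
theorem Q15888 : ∀ i, i < 15888 → P i := stepQ 15887 Q15887 (allL N15887 (tt N12860 F27985) (tt N17741 (iv F31944)) (tt N15634 F27986) (tt N17735 (iv F31919)) (tt N18771 D18805) (tt N12858 (iv D15918)))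
theorem Q15889 : ∀ i, i < 15889 → P i := stepQ 15888 Q15888 (allL N15888 (tt N18769 (iv F34274)) (tt N14548 F27987) (tt N12859 (iv D15919)) (tt N18772 D18806) (tt N14544 (iv F27989)) (tt N14545 F27988))
theorem Q15890 : ∀ i, i < 15890 → P i := stepQ 15889 Q15889 (allL N15889 (tt N18770 (iv F34278)) (tt N12861 F27990) (tt N14544 F27991) (tt N14543 F27992) (tt N12859 (iv D15920)) (tt N14543 F27993))
theorem Q15891 : ∀ i, i < 15891 → P i := stepQ 15890 Q15890 (allL N15890 (tt N18771 (iv F34282)) (tt N12862 F27994) (tt N18766 (iv F34261)) (tt N18031 (iv F32560)) (tt N12860 (iv D15921)) (tt N18031 (iv F32561)))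
theorem Q15892 : ∀ i, i < 15892 → P i := stepQ 15891 Q15891 (allL N15891 (tt N18763 (iv F34244)) (tt N15519 F27995) (tt N12863 (iv D15922)) (tt N18763 (iv F34248)) (tt N12864 F27996) (tt N18768 (iv F34273)))
theorem Q15893 : ∀ i, i < 15893 → P i := stepQ 15892 Q15892 (allL N15892 (tt N12875 F27997) (tt N18773 D18807) (tt N12873 (iv D15923)) (tt N13557 F27998) (tt N16714 (iv F29812)) (tt N16426 (iv F29188)))
theorem Q15894 : ∀ i, i < 15894 → P i := stepQ 15893 Q15893 (allL N15893 (tt N12884 F27999) (tt N15478 (iv F28001)) (tt N12882 (iv D15924)) (tt N15472 F28000) (tt N17669 (iv F31782)) (tt N15471 (iv F28002)))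
theorem Q15895 : ∀ i, i < 15895 → P i := stepQ 15894 Q15894 (allL N15894 (tt N12885 F28003) (tt N17670 (iv F31784)) (tt N15471 F28004) (tt N12883 F28005) (tt N18774 D18808) (tt N12882 (iv D15925)))
theorem Q15896 : ∀ i, i < 15896 → P i := stepQ 15895 Q15895 (allL N15895 (tt N18774 (iv F34291)) (tt N12887 F28006) (tt N15175 F28007) (tt N17381 (iv F31163)) (tt N12885 (iv D15926)) (tt N18760 (iv F34233)))
theorem Q15897 : ∀ i, i < 15897 → P i := stepQ 15896 Q15896 (allL N15896 (tt N18768 (iv F34269)) (tt N15176 F28008) (tt N12887 F28009) (tt N18768 (iv F34271)) (tt N12886 (iv D15927)) (tt N18763 (iv F34247)))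
theorem Q15898 : ∀ i, i < 15898 → P i := stepQ 15897 Q15897 (allL N15897 (tt N18011 (iv F32515)) (tt N18179 (iv F32929)) (tt N17757 (iv F31975)) (tt N18727 (iv F34179)) (tt N12892 (iv D15928)) (tt N18520 (iv F33717)))
theorem Q15899 : ∀ i, i < 15899 → P i := stepQ 15898 Q15898 (allL N15898 (tt N18775 D18809) (tt N12893 (iv D15929)) (tt N12895 F28010) (tt N18776 D18810) (tt N16476 (iv F29306)) (tt N16530 (iv F29403)))
theorem Q15900 : ∀ i, i < 15900 → P i := stepQ 15899 Q15899 (allL N15899 (tt N17985 (iv F32441)) (tt N18776 (iv F34295)) (tt N17989 (iv F32453)) (tt N12893 (iv D15930)) (tt N18777 D18811) (tt N17988 F32450))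
theorem Q15901 : ∀ i, i < 15901 → P i := stepQ 15900 Q15900 (allL N15900 (tt N17986 (iv F32444)) (tt N16530 (iv F29402)) (tt N12894 F28011) (tt N17988 (iv F32449)) (tt N18778 D18812) (tt N12893 (iv D15931)))
theorem Q15902 : ∀ i, i < 15902 → P i := stepQ 15901 Q15901 (allL N15901 (tt N17987 (iv F32447)) (tt N12896 F28012) (tt N18778 (iv F34296)) (tt N18020 (iv F32533)) (tt N12894 (iv D15932)) (tt N16479 (iv F29311)))
theorem Q15903 : ∀ i, i < 15903 → P i := stepQ 15902 Q15902 (allL N15902 (tt N12895 (iv D15933)) (tt N16500 (iv F29347)) (tt N18775 (iv F34294)) (tt N16529 (iv F29401)) (tt N16482 (iv F29317)) (tt N16528 F29399))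
theorem Q15904 : ∀ i, i < 15904 → P i := stepQ 15903 Q15903 (allL N15903 (tt N18337 (iv F33287)) (tt N12898 F28013) (tt N18779 D18813) (tt N12897 (iv D15934)) (tt N17471 (iv F31343)) (tt N18780 D18814))
theorem Q15905 : ∀ i, i < 15905 → P i := stepQ 15904 Q15904 (allL N15904 (tt N18338 (iv F33290)) (tt N12899 F28014) (tt N12902 F28015) (tt N18780 (iv F34298)) (tt N18351 (iv F33319)) (tt N12897 (iv D15935)))
theorem Q15906 : ∀ i, i < 15906 → P i := stepQ 15905 Q15905 (allL N15905 (tt N17988 (iv F32448)) (tt N18781 D18815) (tt N12898 (iv D15936)) (tt N17986 (iv F32446)) (tt N18782 D18816) (tt N17985 F32443))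
theorem Q15907 : ∀ i, i < 15907 → P i := stepQ 15906 Q15906 (allL N15906 (tt N17474 (iv F31349)) (tt N17471 (iv F31342)) (tt N18782 (iv F34299)) (tt N17470 F31340) (tt N12898 (iv D15937)) (tt N18783 D18817))
theorem Q15908 : ∀ i, i < 15908 → P i := stepQ 15907 Q15907 (allL N15907 (tt N17989 (iv F32451)) (tt N18780 (iv F34297)) (tt N17985 (iv F32442)) (tt N12899 F28016) (tt N18784 D18818) (tt N12898 (iv D15938)))
theorem Q15909 : ∀ i, i < 15909 → P i := stepQ 15908 Q15908 (allL N15908 (tt N12901 F28017) (tt N17774 (iv F32017)) (tt N16846 (iv F30102)) (tt N12900 (iv D15939)) (tt N18402 (iv F33407)) (tt N15371 (iv F28018)))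
theorem Q15910 : ∀ i, i < 15910 → P i := stepQ 15909 Q15909 (allL N15909 (tt N12902 F28019) (tt N17773 (iv F32012)) (tt N18338 (iv F33292)) (tt N15371 F28020) (tt N18392 (iv F33388)) (tt N12900 (iv D15940)))
theorem Q15911 : ∀ i, i < 15911 → P i := stepQ 15910 Q15910 (allL N15910 (tt N12903 (iv D15941)) (tt N18177 (iv F32926)) (tt N18025 (iv F32539)) (tt N17983 (iv F32439)) (tt N17761 (iv F31990)) (tt N12904 F28021))
theorem Q15912 : ∀ i, i < 15912 → P i := stepQ 15911 Q15911 (allL N15911 (tt N12905 F28022) (tt N18171 (iv F32912)) (tt N18092 (iv F32691)) (tt N12904 (iv D15942)) (tt N15585 F28023) (tt N17983 (iv F32440)))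
theorem Q15913 : ∀ i, i < 15913 → P i := stepQ 15912 Q15912 (allL N15912 (tt N18092 (iv F32690)) (tt N17982 (iv F32437)) (tt N12905 (iv D15943)) (tt N15752 (iv F28025)) (tt N15587 F28024) (tt N17980 F32436))
theorem Q15914 : ∀ i, i < 15914 → P i := stepQ 15913 Q15913 (allL N15913 (tt N12907 F28026) (tt N12921 F28027) (tt N16066 (iv F28429)) (tt N13274 F28028) (tt N13102 F28029) (tt N12906 (iv D15944)))
theorem Q15915 : ∀ i, i < 15915 → P i := stepQ 15914 Q15914 (allL N15914 (tt N13103 F28030) (tt N16194 (iv F28649)) (tt N12908 (iv D15945)) (tt N15105 F28032) (tt N15936 (iv F28083)) (tt N13283 F28031))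
theorem Q15916 : ∀ i, i < 15916 → P i := stepQ 15915 Q15915 (allL N15915 (tt N16201 (iv F28669)) (tt N12909 (iv D15946)) (tt N16194 (iv F28650)) (tt N13286 F28033) (tt N13205 F28034) (tt N13286 F28035))
theorem Q15917 : ∀ i, i < 15917 → P i := stepQ 15916 Q15916 (allL N15916 (tt N18785 D18819) (tt N12910 (iv D15947)) (tt N13271 F28036) (tt N18786 D18820) (tt N13441 (iv F28882)) (tt N18785 F34304))
theorem Q15918 : ∀ i, i < 15918 → P i := stepQ 15917 Q15917 (allL N15917 (tt N12914 F28037) (tt N18786 (iv F34310)) (tt N12939 F28038) (tt N12910 (iv D15948)) (tt N18787 D18821) (tt N12937 (iv F28039)))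
theorem Q15919 : ∀ i, i < 15919 → P i := stepQ 15918 Q15918 (allL N15918 (tt N12915 F28040) (tt N13441 (iv F28881)) (tt N12911 F28041) (tt N13440 F28883) (tt N12910 (iv D15949)) (tt N18788 D18822))
theorem Q15920 : ∀ i, i < 15920 → P i := stepQ 15919 Q15919 (allL N15919 (tt N12913 F28042) (tt N18785 (iv F34300)) (tt N12912 F28043) (tt N12937 F28044) (tt N18789 D18823) (tt N12910 (iv D15950)))
theorem Q15921 : ∀ i, i < 15921 → P i := stepQ 15920 Q15920 (allL N15920 (tt N12916 F28045) (tt N13274 F28046) (tt N18788 (iv F34321)) (tt N12921 F28047) (tt N18790 D18824) (tt N12911 (iv D15951)))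
theorem Q15922 : ∀ i, i < 15922 → P i := stepQ 15921 Q15921 (allL N15921 (tt N12917 F28048) (tt N13275 F28049) (tt N18789 (iv F34326)) (tt N13108 F28050) (tt N12912 (iv D15952)) (tt N18790 (iv F34333)))
theorem Q15923 : ∀ i, i < 15923 → P i := stepQ 15922 Q15922 (allL N15922 (tt N12937 F28051) (tt N12914 F28052) (tt N12933 F28053) (tt N12913 (iv D15953)) (tt N18791 D18825) (tt N12914 F28054))
theorem Q15924 : ∀ i, i < 15924 → P i := stepQ 15923 Q15923 (allL N15923 (tt N18789 (iv F34324)) (tt N12915 F28055) (tt N12917 F28056) (tt N18792 D18826) (tt N12913 (iv D15954)) (tt N18793 D18827))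
theorem Q15925 : ∀ i, i < 15925 → P i := stepQ 15924 Q15924 (allL N15924 (tt N12939 F28057) (tt N18794 D18828) (tt N12914 (iv D15955)) (tt N12934 F28058) (tt N18795 D18829) (tt N12933 F28059))
theorem Q15926 : ∀ i, i < 15926 → P i := stepQ 15925 Q15925 (allL N15925 (tt N18787 (iv F34314)) (tt N18791 (iv F34335)) (tt N18795 (iv F34350)) (tt N18796 D18830) (tt N12914 (iv D15956)) (tt N18797 D18831))
theorem Q15927 : ∀ i, i < 15927 → P i := stepQ 15926 Q15926 (allL N15926 (tt N13440 (iv F28884)) (tt N18792 (iv F34339)) (tt N18798 D18832) (tt N12915 (iv D15957)) (tt N18796 (iv F34354)) (tt N18799 D18833))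
theorem Q15928 : ∀ i, i < 15928 → P i := stepQ 15927 Q15927 (allL N15927 (tt N18788 (iv F34319)) (tt N18793 (iv F34342)) (tt N12916 F28060) (tt N18799 (iv F34361)) (tt N18793 (iv F34344)) (tt N12915 (iv D15958)))
theorem Q15929 : ∀ i, i < 15929 → P i := stepQ 15928 Q15928 (allL N15928 (tt N18790 (iv F34329)) (tt N12919 F28061) (tt N18793 (iv F34343)) (tt N13119 F28062) (tt N12916 (iv D15959)) (tt N12917 F28063))
theorem Q15930 : ∀ i, i < 15930 → P i := stepQ 15929 Q15929 (allL N15929 (tt N13284 F28064) (tt N18800 D18834) (tt N12918 (iv D15960)) (tt N15939 (iv F28097)) (tt N12920 F28065) (tt N15941 (iv F28104)))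
theorem Q15931 : ∀ i, i < 15931 → P i := stepQ 15930 Q15930 (allL N15930 (tt N13285 F28066) (tt N13119 F28067) (tt N15941 (iv F28102)) (tt N12919 F28068) (tt N12929 F28069) (tt N12918 (iv D15961)))
theorem Q15932 : ∀ i, i < 15932 → P i := stepQ 15931 Q15931 (allL N15931 (tt N18801 D18835) (tt N12920 (iv D15962)) (tt N13122 F28070) (tt N12931 F28071) (tt N18800 (iv F34365)) (tt N12931 F28072))
theorem Q15933 : ∀ i, i < 15933 → P i := stepQ 15932 Q15932 (allL N15932 (tt N16077 (iv F28445)) (tt N12923 F28073) (tt N13067 (iv F28086)) (tt N12922 (iv D15963)) (tt N13067 F28074) (tt N18802 D18836))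
theorem Q15934 : ∀ i, i < 15934 → P i := stepQ 15933 Q15933 (allL N15933 (tt N16078 (iv F28449)) (tt N12924 F28075) (tt N12926 F28076) (tt N18802 (iv F34373)) (tt N13113 F28077) (tt N12922 (iv D15964)))
theorem Q15935 : ∀ i, i < 15935 → P i := stepQ 15934 Q15934 (allL N15934 (tt N13073 F28078) (tt N13069 F28087) (tt N12923 (iv D15965)) (tt N18803 D18837) (tt N13069 F28079) (tt N18804 D18838))
theorem Q15936 : ∀ i, i < 15936 → P i := stepQ 15935 Q15935 (allL N15935 (tt N13074 F28080) (tt N18802 (iv F34371)) (tt N18804 (iv F34380)) (tt N12924 F28081) (tt N18805 D18839) (tt N12923 (iv D15966)))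
theorem Q15937 : ∀ i, i < 15937 → P i := stepQ 15936 Q15936 (allL N15936 (tt N16147 (iv F28580)) (tt N13136 F28082) (tt N12925 (iv D15967)) (tt N13134 (iv F28084)) (tt N15914 F28083) (tt N13133 (iv F28085)))
theorem Q15938 : ∀ i, i < 15938 → P i := stepQ 15937 Q15937 (allL N15937 (tt N16148 (iv F28589)) (tt N12928 F28088) (tt N13133 F28089) (tt N12926 F28090) (tt N13203 F28091) (tt N12925 (iv D15968)))
theorem Q15939 : ∀ i, i < 15939 → P i := stepQ 15938 Q15938 (allL N15938 (tt N15939 (iv F28096)) (tt N13135 F28092) (tt N12928 F28093) (tt N13284 F28094) (tt N13204 F28095) (tt N12927 (iv D15969)))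
theorem Q15940 : ∀ i, i < 15940 → P i := stepQ 15939 Q15939 (allL N15939 (tt N15938 F28096) (tt N16197 (iv F28657)) (tt N12929 (iv D15970)) (tt N15929 F28097) (tt N15941 (iv F28103)) (tt N12930 F28098))
theorem Q15941 : ∀ i, i < 15941 → P i := stepQ 15940 Q15940 (allL N15940 (tt N16199 (iv F28662)) (tt N12930 (iv D15971)) (tt N13116 F28099) (tt N18806 D18840) (tt N12931 F28100) (tt N16197 F28659))
theorem Q15942 : ∀ i, i < 15942 → P i := stepQ 15941 Q15941 (allL N15941 (tt N13204 F28101) (tt N18806 (iv F34386)) (tt N15930 F28102) (tt N12930 (iv D15972)) (tt N15939 F28103) (tt N15929 F28104))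
theorem Q15943 : ∀ i, i < 15943 → P i := stepQ 15942 Q15942 (allL N15942 (tt N12931 (iv D15973)) (tt N16201 (iv F28670)) (tt N13120 F28105) (tt N18801 (iv F34368)) (tt N16199 F28666) (tt N18801 (iv F34370)))
theorem Q15944 : ∀ i, i < 15944 → P i := stepQ 15943 Q15943 (allL N15943 (tt N12932 (iv D15974)) (tt N12935 F28106) (tt N12975 F28107) (tt N18807 D18841) (tt N13109 F28108) (tt N12969 (iv F28109)))
theorem Q15945 : ∀ i, i < 15945 → P i := stepQ 15944 Q15944 (allL N15944 (tt N18807 (iv F34389)) (tt N12933 F28110) (tt N18794 (iv F34346)) (tt N12932 (iv D15975)) (tt N18808 D18842) (tt N18794 (iv F34348)))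
theorem Q15946 : ∀ i, i < 15946 → P i := stepQ 15945 Q15945 (allL N15945 (tt N12969 F28111) (tt N12934 F28112) (tt N12978 F28113) (tt N18794 (iv F34347)) (tt N14873 F28114) (tt N12932 (iv D15976)))
theorem Q15947 : ∀ i, i < 15947 → P i := stepQ 15946 Q15946 (allL N15946 (tt N12938 F28115) (tt N18808 (iv F34393)) (tt N18791 (iv F34336)) (tt N13111 F28116) (tt N12933 (iv D15977)) (tt N18809 D18843))
theorem Q15948 : ∀ i, i < 15948 → P i := stepQ 15947 Q15947 (allL N15947 (tt N12936 F28117) (tt N18807 (iv F34390)) (tt N12961 F28119) (tt N12935 (iv D15978)) (tt N18810 D18844) (tt N12970 F28118))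
theorem Q15949 : ∀ i, i < 15949 → P i := stepQ 15948 Q15948 (allL N15948 (tt N12961 F28120) (tt N18811 D18845) (tt N12936 (iv D15979)) (tt N12958 F28122) (tt N18812 D18846) (tt N12972 F28121))
theorem Q15950 : ∀ i, i < 15950 → P i := stepQ 15949 Q15949 (allL N15949 (tt N18810 (iv F34397)) (tt N12938 F28123) (tt N18812 (iv F34407)) (tt N13127 F28124) (tt N12936 (iv D15980)) (tt N18813 D18847))
theorem Q15951 : ∀ i, i < 15951 → P i := stepQ 15950 Q15950 (allL N15950 (tt N18786 (iv F34309)) (tt N12937 (iv D15981)) (tt N18811 (iv F34401)) (tt N18785 F34305) (tt N14996 F34306) (tt N18786 (iv F34312)))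
theorem Q15952 : ∀ i, i < 15952 → P i := stepQ 15951 Q15951 (allL N15951 (tt N18791 (iv F34334)) (tt N14996 F34307) (tt N12938 F28125) (tt N14995 F34308) (tt N12937 (iv D15982)) (tt N18814 D18848))
theorem Q15953 : ∀ i, i < 15953 → P i := stepQ 15952 Q15952 (allL N15952 (tt N18809 (iv F34395)) (tt N18813 (iv F34410)) (tt N18814 (iv F34415)) (tt N13130 F28126) (tt N18815 D18849) (tt N12938 (iv D15983)))
theorem Q15954 : ∀ i, i < 15954 → P i := stepQ 15953 Q15953 (allL N15953 (tt N18795 (iv F34349)) (tt N12973 F28127) (tt N18787 (iv F34316)) (tt N14879 F28128) (tt N12939 (iv D15984)) (tt N18815 (iv F34421)))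
theorem Q15955 : ∀ i, i < 15955 → P i := stepQ 15954 Q15954 (allL N15954 (tt N15957 (iv F28135)) (tt N12953 F28129) (tt N18816 D18850) (tt N12940 (iv D15985)) (tt N12941 F28130) (tt N18817 D18851))
theorem Q15956 : ∀ i, i < 15956 → P i := stepQ 15955 Q15955 (allL N15955 (tt N15958 (iv F28138)) (tt N12954 F28131) (tt N15787 F28132) (tt N18817 (iv F34425)) (tt N12943 F28133) (tt N12940 (iv D15986)))
theorem Q15957 : ∀ i, i < 15957 → P i := stepQ 15956 Q15956 (allL N15956 (tt N16268 (iv F28791)) (tt N18818 D18852) (tt N12941 (iv D15987)) (tt N18819 D18853) (tt N18816 (iv F34423)) (tt N13500 F28134))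
theorem Q15958 : ∀ i, i < 15958 → P i := stepQ 15957 Q15957 (allL N15957 (tt N15954 F28135) (tt N15791 F28136) (tt N18820 D18854) (tt N12942 (iv D15988)) (tt N13201 F28137) (tt N18821 D18855))
theorem Q15959 : ∀ i, i < 15959 → P i := stepQ 15958 Q15958 (allL N15958 (tt N15955 F28138) (tt N15790 F28139) (tt N12943 F28140) (tt N18821 (iv F34437)) (tt N15787 F28141) (tt N12942 (iv D15989)))
theorem Q15960 : ∀ i, i < 15960 → P i := stepQ 15959 Q15959 (allL N15959 (tt N13250 F28142) (tt N12945 F28143) (tt N13250 (iv F28145)) (tt N12944 (iv D15990)) (tt N18822 D18856) (tt N12985 F28144))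
theorem Q15961 : ∀ i, i < 15961 → P i := stepQ 15960 Q15960 (allL N15960 (tt N13295 F28146) (tt N12946 F28147) (tt N13279 F28148) (tt N18823 D18857) (tt N12944 (iv D15991)) (tt N14926 F28149))
theorem Q15962 : ∀ i, i < 15962 → P i := stepQ 15961 Q15961 (allL N15961 (tt N12948 F28150) (tt N18822 (iv F34439)) (tt N12989 F28151) (tt N18824 D18858) (tt N12945 (iv D15992)) (tt N18825 D18859))
theorem Q15963 : ∀ i, i < 15963 → P i := stepQ 15962 Q15962 (allL N15962 (tt N12949 F28152) (tt N18823 (iv F34442)) (tt N18826 D18860) (tt N12946 (iv D15993)) (tt N18824 (iv F34445)) (tt N14928 F28153))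
theorem Q15964 : ∀ i, i < 15964 → P i := stepQ 15963 Q15963 (allL N15963 (tt N13244 F28154) (tt N12947 (iv D15994)) (tt N13244 F28155) (tt N12978 F28156) (tt N18827 D18861) (tt N12976 F28157))
theorem Q15965 : ∀ i, i < 15965 → P i := stepQ 15964 Q15964 (allL N15964 (tt N12989 F28158) (tt N18827 (iv F34458)) (tt N12948 F28159) (tt N18828 D18862) (tt N12947 (iv D15995)) (tt N18829 D18863))
theorem Q15966 : ∀ i, i < 15966 → P i := stepQ 15965 Q15965 (allL N15965 (tt N18824 (iv F34444)) (tt N13313 F28160) (tt N18830 D18864) (tt N12948 (iv D15996)) (tt N12949 F28161) (tt N18831 D18865))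
theorem Q15967 : ∀ i, i < 15967 → P i := stepQ 15966 Q15966 (allL N15966 (tt N18825 (iv F34448)) (tt N13312 F28162) (tt N18829 (iv F34464)) (tt N18831 (iv F34472)) (tt N13305 F28163) (tt N12948 (iv D15997)))
theorem Q15968 : ∀ i, i < 15968 → P i := stepQ 15967 Q15967 (allL N15967 (tt N18826 (iv F34452)) (tt N18832 D18866) (tt N12949 (iv D15998)) (tt N18833 D18867) (tt N18830 (iv F34467)) (tt N14931 F28164))
theorem Q15969 : ∀ i, i < 15969 → P i := stepQ 15968 Q15968 (allL N15968 (tt N12955 F28165) (tt N18834 D18868) (tt N12950 (iv D15999)) (tt N14931 F28167) (tt N13010 F28166) (tt N18833 (iv F34478)))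
theorem Q15970 : ∀ i, i < 15970 → P i := stepQ 15969 Q15969 (allL N15969 (tt N12956 F28168) (tt N18665 (iv F34091)) (tt N18833 (iv F34477)) (tt N12951 F28169) (tt N18835 D18869) (tt N12950 (iv D16000)))
theorem Q15971 : ∀ i, i < 15971 → P i := stepQ 15970 Q15970 (allL N15970 (tt N13010 F28170) (tt N14604 (iv F28173)) (tt N12953 (iv D16001)) (tt N14599 F28172) (tt N12955 F28171) (tt N14791 (iv F28174)))
theorem Q15972 : ∀ i, i < 15972 → P i := stepQ 15971 Q15971 (allL N15971 (tt N13011 F28175) (tt N18817 (iv F34424)) (tt N14791 F28176) (tt N12954 F28177) (tt N18836 D18870) (tt N12953 (iv D16002)))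
theorem Q15973 : ∀ i, i < 15973 → P i := stepQ 15972 Q15972 (allL N15972 (tt N16082 (iv F28459)) (tt N12955 (iv D16003)) (tt N18818 (iv F34427)) (tt N14603 (iv F28179)) (tt N14604 F28178) (tt N18837 D18871))
theorem Q15974 : ∀ i, i < 15974 → P i := stepQ 15973 Q15973 (allL N15973 (tt N14931 F28180) (tt N14603 F28181) (tt N14928 F28183) (tt N12955 (iv D16004)) (tt N14598 F28182) (tt N18826 (iv F34455)))
theorem Q15975 : ∀ i, i < 15975 → P i := stepQ 15974 Q15974 (allL N15974 (tt N18833 (iv F34476)) (tt N18837 (iv F34489)) (tt N12956 F28184) (tt N18826 (iv F34453)) (tt N18838 D18872) (tt N12955 (iv D16005)))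
theorem Q15976 : ∀ i, i < 15976 → P i := stepQ 15975 Q15975 (allL N15975 (tt N18835 (iv F34481)) (tt N13499 F28185) (tt N18838 (iv F34492)) (tt N13493 F28186) (tt N12956 (iv D16006)) (tt N18836 (iv F34488)))
theorem Q15977 : ∀ i, i < 15977 → P i := stepQ 15976 Q15976 (allL N15976 (tt N14807 F28187) (tt N14870 F28188) (tt N14799 F28189) (tt N13504 F28190) (tt N12957 (iv D16007)) (tt N15388 F28191))
theorem Q15978 : ∀ i, i < 15978 → P i := stepQ 15977 Q15977 (allL N15977 (tt N15023 (iv F28194)) (tt N12958 (iv D16008)) (tt N13210 F28192) (tt N18811 (iv F34402)) (tt N15017 F28193) (tt N15023 (iv F28195)))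
theorem Q15979 : ∀ i, i < 15979 → P i := stepQ 15978 Q15978 (allL N15978 (tt N12960 F28196) (tt N15023 F28197) (tt N12959 F28198) (tt N12972 F28199) (tt N15022 F28200) (tt N12958 (iv D16009)))
theorem Q15980 : ∀ i, i < 15980 → P i := stepQ 15979 Q15979 (allL N15979 (tt N12964 F28201) (tt N13213 F28202) (tt N15022 F28203) (tt N13452 F28204) (tt N12959 (iv D16010)) (tt N15018 F28205))
theorem Q15981 : ∀ i, i < 15981 → P i := stepQ 15980 Q15980 (allL N15980 (tt N12972 F28206) (tt N12961 F28207) (tt N12970 F28208) (tt N12960 (iv D16011)) (tt N18839 D18873) (tt N12961 F28209))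
theorem Q15982 : ∀ i, i < 15982 → P i := stepQ 15981 Q15981 (allL N15981 (tt N15022 F28210) (tt N12962 F28211) (tt N12964 F28212) (tt N15021 (iv F28213)) (tt N12960 (iv D16012)) (tt N15020 (iv F28214)))
theorem Q15983 : ∀ i, i < 15983 → P i := stepQ 15982 Q15982 (allL N15982 (tt N18812 (iv F34405)) (tt N18839 (iv F34495)) (tt N18810 (iv F34398)) (tt N18840 D18874) (tt N12961 (iv D16013)) (tt N18841 D18875))
theorem Q15984 : ∀ i, i < 15984 → P i := stepQ 15983 Q15983 (allL N15983 (tt N15015 F28215) (tt N15021 F28216) (tt N17136 (iv F30649)) (tt N12962 (iv D16014)) (tt N18840 (iv F34501)) (tt N15013 F28217))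
theorem Q15985 : ∀ i, i < 15985 → P i := stepQ 15984 Q15984 (allL N15984 (tt N15014 F28218) (tt N15020 F28219) (tt N12963 F28220) (tt N15013 F28221) (tt N15020 F28222) (tt N12962 (iv D16015)))
theorem Q15986 : ∀ i, i < 15986 → P i := stepQ 15985 Q15985 (allL N15985 (tt N15018 F28223) (tt N12967 F28224) (tt N15020 F28225) (tt N14117 F28226) (tt N12963 (iv D16016)) (tt N12964 F28227))
theorem Q15987 : ∀ i, i < 15987 → P i := stepQ 15986 Q15986 (allL N15986 (tt N13452 F28228) (tt N12966 F28229) (tt N18842 D18876) (tt N12964 (iv D16017)) (tt N12965 F28230) (tt N14117 F28231))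
theorem Q15988 : ∀ i, i < 15988 → P i := stepQ 15987 Q15987 (allL N15987 (tt N13451 F28232) (tt N18843 D18877) (tt N12965 (iv D16018)) (tt N18844 D18878) (tt N18842 (iv F34508)) (tt N13208 F28233))
theorem Q15989 : ∀ i, i < 15989 → P i := stepQ 15988 Q15988 (allL N15988 (tt N13221 F28234) (tt N18845 D18879) (tt N12966 (iv D16019)) (tt N13228 F28235) (tt N12968 F28236) (tt N13227 F28237))
theorem Q15990 : ∀ i, i < 15990 → P i := stepQ 15989 Q15989 (allL N15989 (tt N18846 D18880) (tt N12968 (iv D16020)) (tt N18843 (iv F34511)) (tt N13209 F28238) (tt N18845 (iv F34517)) (tt N13209 F28239))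
theorem Q15991 : ∀ i, i < 15991 → P i := stepQ 15990 Q15990 (allL N15990 (tt N18794 (iv F34345)) (tt N12970 F28240) (tt N18807 (iv F34391)) (tt N12969 (iv D16021)) (tt N18847 D18881) (tt N18807 (iv F34392)))
theorem Q15992 : ∀ i, i < 15992 → P i := stepQ 15991 Q15991 (allL N15991 (tt N12973 F28241) (tt N18847 (iv F34522)) (tt N18839 (iv F34496)) (tt N15107 F28242) (tt N12970 (iv D16022)) (tt N18848 D18882))
theorem Q15993 : ∀ i, i < 15993 → P i := stepQ 15992 Q15992 (allL N15992 (tt N12974 F28243) (tt N18849 D18883) (tt N12971 (iv D16023)) (tt N18850 D18884) (tt N13131 F28244) (tt N13241 F28245))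
theorem Q15994 : ∀ i, i < 15994 → P i := stepQ 15993 Q15993 (allL N15993 (tt N18811 (iv F34400)) (tt N12972 (iv D16024)) (tt N18786 (iv F34313)) (tt N15023 F28246) (tt N15003 (iv F28247)) (tt N18811 (iv F34403)))
theorem Q15995 : ∀ i, i < 15995 → P i := stepQ 15994 Q15994 (allL N15994 (tt N18839 (iv F34494)) (tt N15003 F28248) (tt N12973 F28249) (tt N15001 F28250) (tt N12972 (iv D16025)) (tt N15000 (iv F28251)))
theorem Q15996 : ∀ i, i < 15996 → P i := stepQ 15995 Q15995 (allL N15995 (tt N18848 (iv F34524)) (tt N18815 (iv F34418)) (tt N15000 F28252) (tt N15110 F28253) (tt N18813 (iv F34413)) (tt N12973 (iv D16026)))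
theorem Q15997 : ∀ i, i < 15997 → P i := stepQ 15996 Q15996 (allL N15996 (tt N18850 (iv F34531)) (tt N13344 F28254) (tt N13450 F28256) (tt N12974 (iv D16027)) (tt N18851 D18885) (tt N13242 F28255))
theorem Q15998 : ∀ i, i < 15998 → P i := stepQ 15997 Q15997 (allL N15997 (tt N12977 F28257) (tt N12982 F28258) (tt N13109 F28259) (tt N18852 D18886) (tt N12975 (iv D16028)) (tt N14800 (iv F28260)))
theorem Q15999 : ∀ i, i < 15999 → P i := stepQ 15998 Q15998 (allL N15998 (tt N13307 F28261) (tt N12979 F28262) (tt N13307 F28263) (tt N18853 D18887) (tt N12976 (iv D16029)) (tt N18854 D18888))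
theorem Q16000 : ∀ i, i < 16000 → P i := stepQ 15999 Q15999 (allL N15999 (tt N18852 (iv F34537)) (tt N12980 F28264) (tt N18855 D18889) (tt N12977 (iv D16030)) (tt N18853 (iv F34543)) (tt N14801 F28265))
theorem Q16001 : ∀ i, i < 16001 → P i := stepQ 16000 Q16000 (allL N16000 (tt N13245 F28266) (tt N12981 F28267) (tt N14873 F28268) (tt N18856 D18890) (tt N12978 (iv D16031)) (tt N14777 F28269))
theorem Q16002 : ∀ i, i < 16002 → P i := stepQ 16001 Q16001 (allL N16001 (tt N12987 F28270) (tt N18853 (iv F34542)) (tt N14794 (iv F28272)) (tt N12979 (iv D16032)) (tt N12980 F28271) (tt N18857 D18891))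
theorem Q16003 : ∀ i, i < 16003 → P i := stepQ 16002 Q16002 (allL N16002 (tt N12988 F28273) (tt N18854 (iv F34545)) (tt N13305 F28274) (tt N18857 (iv F34554)) (tt N18829 (iv F34465)) (tt N12979 (iv D16033)))
theorem Q16004 : ∀ i, i < 16004 → P i := stepQ 16003 Q16003 (allL N16003 (tt N12991 F28275) (tt N18856 (iv F34550)) (tt N14758 F28277) (tt N12981 (iv D16034)) (tt N18828 (iv F34461)) (tt N14778 F28276))
theorem Q16005 : ∀ i, i < 16005 → P i := stepQ 16004 Q16004 (allL N16004 (tt N12984 F28278) (tt N18852 (iv F34538)) (tt N18858 D18892) (tt N12982 (iv D16035)) (tt N13308 F28279) (tt N14808 F28280))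
theorem Q16006 : ∀ i, i < 16006 → P i := stepQ 16005 Q16005 (allL N16005 (tt N13308 F28281) (tt N12987 F28282) (tt N18859 D18893) (tt N12983 (iv D16036)) (tt N12984 F28283) (tt N18860 D18894))
theorem Q16007 : ∀ i, i < 16007 → P i := stepQ 16006 Q16006 (allL N16006 (tt N13309 F28284) (tt N12988 F28285) (tt N13297 F28286) (tt N18860 (iv F34564)) (tt N13253 F28287) (tt N12983 (iv D16037)))
theorem Q16008 : ∀ i, i < 16008 → P i := stepQ 16007 Q16007 (allL N16007 (tt N18858 (iv F34556)) (tt N18861 D18895) (tt N12984 (iv D16038)) (tt N18862 D18896) (tt N18859 (iv F34561)) (tt N14809 F28288))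
theorem Q16009 : ∀ i, i < 16009 → P i := stepQ 16008 Q16008 (allL N16008 (tt N13292 F28289) (tt N12986 F28290) (tt N13292 F28291) (tt N14784 F28292) (tt N12985 (iv D16039)) (tt N18863 D18897))
theorem Q16010 : ∀ i, i < 16010 → P i := stepQ 16009 Q16009 (allL N16009 (tt N13304 F28293) (tt N14784 F28294) (tt N14786 (iv F28296)) (tt N12986 (iv D16040)) (tt N13303 F28295) (tt N18864 D18898))
theorem Q16011 : ∀ i, i < 16011 → P i := stepQ 16010 Q16010 (allL N16010 (tt N13305 F28297) (tt N18863 (iv F34572)) (tt N12988 F28298) (tt N18864 (iv F34578)) (tt N18825 (iv F34451)) (tt N12986 (iv D16041)))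
theorem Q16012 : ∀ i, i < 16012 → P i := stepQ 16011 Q16011 (allL N16011 (tt N14794 F28299) (tt N18563 (iv F33814)) (tt N12987 (iv D16042)) (tt N15768 (iv F28301)) (tt N12990 F28300) (tt N18865 D18899))
theorem Q16013 : ∀ i, i < 16013 → P i := stepQ 16012 Q16012 (allL N16012 (tt N18857 (iv F34552)) (tt N18860 (iv F34563)) (tt N18865 (iv F34581)) (tt N12988 F28302) (tt N14813 F28303) (tt N12987 (iv D16043)))
theorem Q16014 : ∀ i, i < 16014 → P i := stepQ 16013 Q16013 (allL N16013 (tt N18829 (iv F34463)) (tt N13253 F28304) (tt N18825 (iv F34449)) (tt N18866 D18900) (tt N12988 (iv D16044)) (tt N12989 F28305))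
theorem Q16015 : ∀ i, i < 16015 → P i := stepQ 16014 Q16014 (allL N16014 (tt N18828 (iv F34460)) (tt N13252 F28306) (tt N18867 D18901) (tt N12989 (iv D16045)) (tt N12991 F28307) (tt N18866 (iv F34586)))
theorem Q16016 : ∀ i, i < 16016 → P i := stepQ 16015 Q16015 (allL N16015 (tt N18565 (iv F33818)) (tt N12990 (iv D16046)) (tt N18861 (iv F34566)) (tt N14790 F28308) (tt N18563 (iv F33815)) (tt N14811 F28309))
theorem Q16017 : ∀ i, i < 16017 → P i := stepQ 16016 Q16016 (allL N16016 (tt N14758 F28310) (tt N18868 D18902) (tt N12991 (iv D16047)) (tt N14753 F28312) (tt N18867 (iv F34588)) (tt N14779 F28311))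
theorem Q16018 : ∀ i, i < 16018 → P i := stepQ 16017 Q16017 (allL N16017 (tt N12993 F28313) (tt N18869 D18903) (tt N12992 (iv D16048)) (tt N18870 D18904) (tt N13249 F28314) (tt N13079 F28315))
theorem Q16019 : ∀ i, i < 16019 → P i := stepQ 16018 Q16018 (allL N16018 (tt N18870 (iv F34597)) (tt N13066 F28316) (tt N18871 D18905) (tt N12993 (iv D16049)) (tt N18872 D18906) (tt N13080 F28317))
theorem Q16020 : ∀ i, i < 16020 → P i := stepQ 16019 Q16019 (allL N16019 (tt N18566 (iv F33822)) (tt N12994 (iv D16050)) (tt N15793 F28318) (tt N14811 F28319) (tt N18683 (iv F34118)) (tt N14790 F28320))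
theorem Q16021 : ∀ i, i < 16021 → P i := stepQ 16020 Q16020 (allL N16020 (tt N12995 (iv D16051)) (tt N18566 (iv F33823)) (tt N13012 F28321) (tt N18873 D18907) (tt N18484 (iv F33623)) (tt N14792 F28322))
theorem Q16022 : ∀ i, i < 16022 → P i := stepQ 16021 Q16021 (allL N16021 (tt N18873 (iv F34609)) (tt N12996 F28323) (tt N18874 D18908) (tt N12995 (iv D16052)) (tt N18875 D18909) (tt N14793 F28324))
theorem Q16023 : ∀ i, i < 16023 → P i := stepQ 16022 Q16022 (allL N16022 (tt N14812 F28325) (tt N18875 (iv F34614)) (tt N14802 F28326) (tt N18686 (iv F34124)) (tt N12996 (iv D16053)) (tt N18876 D18910))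
theorem Q16024 : ∀ i, i < 16024 → P i := stepQ 16023 Q16023 (allL N16023 (tt N18877 D18911) (tt N12998 (iv D16054)) (tt N12999 F28327) (tt N15090 F28328) (tt N16203 (iv F28679)) (tt N15104 F28329))
theorem Q16025 : ∀ i, i < 16025 → P i := stepQ 16024 Q16024 (allL N16024 (tt N12999 (iv D16055)) (tt N16223 (iv F28716)) (tt N18877 (iv F34619)) (tt N18878 D18912) (tt N16206 (iv F28685)) (tt N18879 D18913))
theorem Q16026 : ∀ i, i < 16026 → P i := stepQ 16025 Q16025 (allL N16025 (tt N18878 (iv F34623)) (tt N13000 F28330) (tt N13378 (iv F28331)) (tt N12999 (iv D16056)) (tt N16252 (iv F28772)) (tt N13003 (iv F28332)))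
theorem Q16027 : ∀ i, i < 16027 → P i := stepQ 16026 Q16026 (allL N16026 (tt N18879 (iv F34627)) (tt N13001 F28333) (tt N15104 F28334) (tt N13003 F28335) (tt N16251 (iv F28770)) (tt N12999 (iv D16057)))
theorem Q16028 : ∀ i, i < 16028 → P i := stepQ 16027 Q16027 (allL N16027 (tt N13003 (iv D16058)) (tt N13005 F28336) (tt N13376 F28337) (tt N18879 (iv F34630)) (tt N13005 F28338) (tt N18878 F34626))
theorem Q16029 : ∀ i, i < 16029 → P i := stepQ 16028 Q16028 (allL N16028 (tt N13006 F28339) (tt N18879 (iv F34628)) (tt N18455 (iv F33554)) (tt N13005 (iv D16059)) (tt N18880 D18914) (tt N16223 (iv F28719)))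
theorem Q16030 : ∀ i, i < 16030 → P i := stepQ 16029 Q16029 (allL N16029 (tt N13007 F28340) (tt N18878 (iv F34624)) (tt N13382 F28341) (tt N16223 (iv F28717)) (tt N18881 D18915) (tt N13005 (iv D16060)))
theorem Q16031 : ∀ i, i < 16031 → P i := stepQ 16030 Q16030 (allL N16030 (tt N18455 (iv F33552)) (tt N16214 (iv F28701)) (tt N13006 (iv D16061)) (tt N15417 F28342) (tt N15419 (iv F28343)) (tt N16212 F28700))
theorem Q16032 : ∀ i, i < 16032 → P i := stepQ 16031 Q16031 (allL N16031 (tt N18880 (iv F34632)) (tt N13008 F28344) (tt N15419 F28345) (tt N16251 (iv F28769)) (tt N13006 (iv D16062)) (tt N16228 (iv F28734)))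
theorem Q16033 : ∀ i, i < 16033 → P i := stepQ 16032 Q16032 (allL N16032 (tt N18881 (iv F34637)) (tt N13009 F28346) (tt N13384 F28347) (tt N16227 (iv F28730)) (tt N13007 (iv D16063)) (tt N16252 (iv F28773)))
theorem Q16034 : ∀ i, i < 16034 → P i := stepQ 16033 Q16033 (allL N16033 (tt N18882 D18916) (tt N13010 (iv D16064)) (tt N18673 (iv F34105)) (tt N18883 D18917) (tt N18834 (iv F34480)) (tt N18884 D18918))
theorem Q16035 : ∀ i, i < 16035 → P i := stepQ 16034 Q16034 (allL N16034 (tt N14599 F28348) (tt N18883 (iv F34642)) (tt N14607 F28349) (tt N13010 (iv D16065)) (tt N14595 (iv F28351)) (tt N14789 F28350))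
theorem Q16036 : ∀ i, i < 16036 → P i := stepQ 16035 Q16035 (allL N16035 (tt N14791 F28352) (tt N18884 (iv F34646)) (tt N13011 F28353) (tt N14789 F28354) (tt N18885 D18919) (tt N13010 (iv D16066)))
theorem Q16037 : ∀ i, i < 16037 → P i := stepQ 16036 Q16036 (allL N16036 (tt N18836 (iv F34484)) (tt N18671 (iv F34102)) (tt N18885 (iv F34649)) (tt N18660 (iv F34075)) (tt N13011 (iv D16067)) (tt N18835 (iv F34483)))
theorem Q16038 : ∀ i, i < 16038 → P i := stepQ 16037 Q16037 (allL N16037 (tt N18886 D18920) (tt N13013 (iv D16068)) (tt N13071 F28355) (tt N15834 F28356) (tt N13165 F28357) (tt N13394 F28358))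
theorem Q16039 : ∀ i, i < 16039 → P i := stepQ 16038 Q16038 (allL N16038 (tt N13014 (iv D16069)) (tt N18886 (iv F34650)) (tt N13016 F28359) (tt N18887 D18921) (tt N13169 F28360) (tt N13131 F28361))
theorem Q16040 : ∀ i, i < 16040 → P i := stepQ 16039 Q16039 (allL N16039 (tt N18887 (iv F34655)) (tt N13015 F28362) (tt N18888 D18922) (tt N13014 (iv D16070)) (tt N18889 D18923) (tt N13132 F28363))
theorem Q16041 : ∀ i, i < 16041 → P i := stepQ 16040 Q16040 (allL N16040 (tt N15835 F28364) (tt N18889 (iv F34663)) (tt N15821 F28365) (tt N13172 F28366) (tt N13015 (iv D16071)) (tt N18890 D18924))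
theorem Q16042 : ∀ i, i < 16042 → P i := stepQ 16041 Q16041 (allL N16041 (tt N13133 F28367) (tt N13019 F28368) (tt N16148 (iv F28591)) (tt N13017 (iv D16072)) (tt N13202 F28369) (tt N16147 F28584))
theorem Q16043 : ∀ i, i < 16043 → P i := stepQ 16042 Q16042 (allL N16042 (tt N13134 F28370) (tt N13020 F28371) (tt N13068 F28372) (tt N16147 (iv F28582)) (tt N13144 F28373) (tt N13017 (iv D16073)))
theorem Q16044 : ∀ i, i < 16044 → P i := stepQ 16043 Q16043 (allL N16043 (tt N13022 F28374) (tt N13202 F28375) (tt N18891 D18925) (tt N13018 (iv D16074)) (tt N13019 F28376) (tt N18086 (iv F32686)))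
theorem Q16045 : ∀ i, i < 16045 → P i := stepQ 16044 Q16044 (allL N16044 (tt N13024 F28377) (tt N16153 (iv F28608)) (tt N13019 (iv D16075)) (tt N13402 F28378) (tt N18891 (iv F34670)) (tt N13401 (iv F28379)))
theorem Q16046 : ∀ i, i < 16046 → P i := stepQ 16045 Q16045 (allL N16045 (tt N13025 F28380) (tt N16147 F28583) (tt N13401 F28381) (tt N13020 F28382) (tt N16149 (iv F28594)) (tt N13019 (iv D16076)))
theorem Q16047 : ∀ i, i < 16047 → P i := stepQ 16046 Q16046 (allL N16046 (tt N15800 F28383) (tt N13201 F28384) (tt N18892 D18926) (tt N13021 (iv D16077)) (tt N15791 F28385) (tt N16557 (iv F29457)))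
theorem Q16048 : ∀ i, i < 16048 → P i := stepQ 16047 Q16047 (allL N16047 (tt N18891 (iv F34669)) (tt N18893 D18927) (tt N13022 (iv D16078)) (tt N18894 D18928) (tt N13024 F28386) (tt N18895 D18929))
theorem Q16049 : ∀ i, i < 16049 → P i := stepQ 16048 Q16048 (allL N16048 (tt N18086 (iv F32684)) (tt N13138 F28387) (tt N18895 (iv F34675)) (tt N13023 F28388) (tt N18896 D18930) (tt N13022 (iv D16079)))
theorem Q16050 : ∀ i, i < 16050 → P i := stepQ 16049 Q16049 (allL N16049 (tt N16168 (iv F28626)) (tt N13024 (iv D16080)) (tt N13139 F28389) (tt N18897 D18931) (tt N18893 (iv F34674)) (tt N16166 F28624))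
theorem Q16051 : ∀ i, i < 16051 → P i := stepQ 16050 Q16050 (allL N16050 (tt N13402 F28390) (tt N18897 (iv F34679)) (tt N13393 F28391) (tt N13024 (iv D16081)) (tt N18898 D18932) (tt N13392 F28392))
theorem Q16052 : ∀ i, i < 16052 → P i := stepQ 16051 Q16051 (allL N16051 (tt N13401 F28393) (tt N16166 (iv F28622)) (tt N13025 F28394) (tt N13392 F28395) (tt N16155 (iv F28614)) (tt N13024 (iv D16082)))
theorem Q16053 : ∀ i, i < 16053 → P i := stepQ 16052 Q16052 (allL N16052 (tt N16149 F28595) (tt N13142 F28396) (tt N16155 (iv F28613)) (tt N13157 F28397) (tt N13025 (iv D16083)) (tt N18896 (iv F34678)))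
theorem Q16054 : ∀ i, i < 16054 → P i := stepQ 16053 Q16053 (allL N16053 (tt N13067 F28398) (tt N13027 F28399) (tt N16077 (iv F28448)) (tt N13026 (iv D16084)) (tt N16077 (iv F28447)) (tt N18899 D18933))
theorem Q16055 : ∀ i, i < 16055 → P i := stepQ 16054 Q16054 (allL N16054 (tt N13068 F28400) (tt N13028 F28401) (tt N13134 F28402) (tt N18899 (iv F34685)) (tt N13036 F28403) (tt N13026 (iv D16085)))
theorem Q16056 : ∀ i, i < 16056 → P i := stepQ 16055 Q16055 (allL N16055 (tt N13031 F28404) (tt N16079 (iv F28454)) (tt N13027 (iv D16086)) (tt N13500 F28405) (tt N16079 (iv F28455)) (tt N18819 (iv F34432)))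
theorem Q16057 : ∀ i, i < 16057 → P i := stepQ 16056 Q16056 (allL N16056 (tt N13032 F28406) (tt N18899 (iv F34684)) (tt N18819 (iv F34431)) (tt N13028 F28407) (tt N17654 (iv F31746)) (tt N13027 (iv D16087)))
theorem Q16058 : ∀ i, i < 16058 → P i := stepQ 16057 Q16057 (allL N16057 (tt N16079 (iv F28453)) (tt N18900 D18934) (tt N13029 (iv D16088)) (tt N18901 D18935) (tt N13031 F28408) (tt N18902 D18936))
theorem Q16059 : ∀ i, i < 16059 → P i := stepQ 16058 Q16058 (allL N16058 (tt N16080 (iv F28456)) (tt N13074 F28409) (tt N18902 (iv F34690)) (tt N13030 F28410) (tt N18903 D18937) (tt N13029 (iv D16089)))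
theorem Q16060 : ∀ i, i < 16060 → P i := stepQ 16059 Q16059 (allL N16059 (tt N18900 (iv F34686)) (tt N13031 (iv D16090)) (tt N13075 F28411) (tt N18904 D18938) (tt N18900 (iv F34688)) (tt N18905 D18939))
theorem Q16061 : ∀ i, i < 16061 → P i := stepQ 16060 Q16060 (allL N16060 (tt N13500 F28412) (tt N18904 (iv F34694)) (tt N13485 F28413) (tt N13031 (iv D16091)) (tt N18906 D18940) (tt N16268 (iv F28793)))
theorem Q16062 : ∀ i, i < 16062 → P i := stepQ 16061 Q16061 (allL N16061 (tt N18819 (iv F34430)) (tt N18905 (iv F34695)) (tt N13032 F28414) (tt N16268 (iv F28792)) (tt N18907 D18941) (tt N13031 (iv D16092)))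
theorem Q16063 : ∀ i, i < 16063 → P i := stepQ 16062 Q16062 (allL N16062 (tt N17654 (iv F31745)) (tt N13078 F28415) (tt N18907 (iv F34699)) (tt N13051 F28416) (tt N13032 (iv D16093)) (tt N18903 (iv F34693)))
theorem Q16064 : ∀ i, i < 16064 → P i := stepQ 16063 Q16063 (allL N16063 (tt N13035 F28417) (tt N13039 F28418) (tt N18908 D18942) (tt N13033 (iv D16094)) (tt N13112 F28419) (tt N17652 (iv F31743)))
theorem Q16065 : ∀ i, i < 16065 → P i := stepQ 16064 Q16064 (allL N16064 (tt N13036 F28420) (tt N13040 F28421) (tt N13144 F28422) (tt N17652 (iv F31742)) (tt N13068 F28423) (tt N13033 (iv D16095)))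
theorem Q16066 : ∀ i, i < 16066 → P i := stepQ 16065 Q16065 (allL N16065 (tt N13112 F28424) (tt N13037 F28425) (tt N17957 (iv F32380)) (tt N13034 (iv D16096)) (tt N13035 F28426) (tt N18909 D18943))
theorem Q16067 : ∀ i, i < 16067 → P i := stepQ 16066 Q16066 (allL N16066 (tt N13113 F28427) (tt N13038 F28428) (tt N15913 F28429) (tt N18909 (iv F34705)) (tt N16078 (iv F28452)) (tt N13034 (iv D16097)))
theorem Q16068 : ∀ i, i < 16068 → P i := stepQ 16067 Q16067 (allL N16067 (tt N18908 (iv F34700)) (tt N17650 (iv F31736)) (tt N13035 (iv D16098)) (tt N16538 F29422) (tt N17957 (iv F32381)) (tt N17647 F31730))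
theorem Q16069 : ∀ i, i < 16069 → P i := stepQ 16068 Q16068 (allL N16068 (tt N13049 F28430) (tt N18909 (iv F34703)) (tt N17656 (iv F31751)) (tt N13038 F28431) (tt N17655 (iv F31749)) (tt N13037 (iv D16099)))
theorem Q16070 : ∀ i, i < 16070 → P i := stepQ 16069 Q16069 (allL N16069 (tt N13043 F28432) (tt N18910 D18944) (tt N13039 (iv D16100)) (tt N18911 D18945) (tt N13114 F28433) (tt N18912 D18946))
theorem Q16071 : ∀ i, i < 16071 → P i := stepQ 16070 Q16070 (allL N16070 (tt N13044 F28434) (tt N17652 (iv F31741)) (tt N18912 (iv F34711)) (tt N13040 F28435) (tt N18913 D18947) (tt N13039 (iv D16101)))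
theorem Q16072 : ∀ i, i < 16072 → P i := stepQ 16071 Q16071 (allL N16071 (tt N13114 F28436) (tt N18914 D18948) (tt N13041 (iv D16102)) (tt N18915 D18949) (tt N13043 F28437) (tt N18916 D18950))
theorem Q16073 : ∀ i, i < 16073 → P i := stepQ 16072 Q16072 (allL N16072 (tt N13115 F28438) (tt N13049 F28439) (tt N18916 (iv F34722)) (tt N13042 F28440) (tt N18917 D18951) (tt N13041 (iv D16103)))
theorem Q16074 : ∀ i, i < 16074 → P i := stepQ 16073 Q16073 (allL N16073 (tt N18918 D18952) (tt N13043 (iv D16104)) (tt N13050 F28441) (tt N18919 D18953) (tt N18914 (iv F34717)) (tt N17639 (iv F31707)))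
theorem Q16075 : ∀ i, i < 16075 → P i := stepQ 16074 Q16074 (allL N16074 (tt N18911 (iv F34707)) (tt N18919 (iv F34729)) (tt N18920 D18954) (tt N13043 (iv D16105)) (tt N18921 D18955) (tt N18922 D18956))
theorem Q16076 : ∀ i, i < 16076 → P i := stepQ 16075 Q16075 (allL N16075 (tt N18912 (iv F34710)) (tt N17639 (iv F31706)) (tt N13044 F28442) (tt N18922 (iv F34735)) (tt N18923 D18957) (tt N13043 (iv D16106)))
theorem Q16077 : ∀ i, i < 16077 → P i := stepQ 16076 Q16076 (allL N16076 (tt N18913 (iv F34713)) (tt N13051 F28443) (tt N18923 (iv F34736)) (tt N13078 F28444) (tt N13044 (iv D16107)) (tt N18917 (iv F34727)))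
theorem Q16078 : ∀ i, i < 16078 → P i := stepQ 16077 Q16077 (allL N16077 (tt N15932 F28445) (tt N13046 F28446) (tt N16053 F28448) (tt N13045 (iv D16108)) (tt N16053 F28447) (tt N18924 D18958))
theorem Q16079 : ∀ i, i < 16079 → P i := stepQ 16078 Q16078 (allL N16078 (tt N15933 F28449) (tt N13047 F28450) (tt N13102 F28451) (tt N18924 (iv F34740)) (tt N16066 F28452) (tt N13045 (iv D16109)))
theorem Q16080 : ∀ i, i < 16080 → P i := stepQ 16079 Q16079 (allL N16079 (tt N16057 F28453) (tt N16055 F28454) (tt N13046 (iv D16110)) (tt N16577 (iv F29483)) (tt N16055 F28455) (tt N18925 D18959))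
theorem Q16081 : ∀ i, i < 16081 → P i := stepQ 16080 Q16080 (allL N16080 (tt N16058 F28456) (tt N18924 (iv F34738)) (tt N18925 (iv F34743)) (tt N13047 F28457) (tt N18926 D18960) (tt N13046 (iv D16111)))
theorem Q16082 : ∀ i, i < 16082 → P i := stepQ 16081 Q16081 (allL N16081 (tt N17958 (iv F32382)) (tt N13048 (iv D16112)) (tt N18914 (iv F34716)) (tt N18927 D18961) (tt N13050 F28458) (tt N18928 D18962))
theorem Q16083 : ∀ i, i < 16083 → P i := stepQ 16082 Q16082 (allL N16082 (tt N15972 F28459) (tt N18927 (iv F34749)) (tt N18929 D18963) (tt N13048 (iv D16113)) (tt N17643 (iv F31718)) (tt N18930 D18964))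
theorem Q16084 : ∀ i, i < 16084 → P i := stepQ 16083 Q16083 (allL N16083 (tt N17656 (iv F31750)) (tt N18928 (iv F34752)) (tt N13049 F28460) (tt N18930 (iv F34758)) (tt N17642 (iv F31716)) (tt N13048 (iv D16114)))
theorem Q16085 : ∀ i, i < 16085 → P i := stepQ 16084 Q16084 (allL N16084 (tt N17655 (iv F31747)) (tt N18917 (iv F34725)) (tt N17642 (iv F31714)) (tt N18903 (iv F34692)) (tt N13049 (iv D16115)) (tt N13051 F28461))
theorem Q16086 : ∀ i, i < 16086 → P i := stepQ 16085 Q16085 (allL N16085 (tt N13050 (iv D16116)) (tt N17646 (iv F31725)) (tt N18918 (iv F34728)) (tt N17638 (iv F31705)) (tt N17958 (iv F32383)) (tt N17637 F31701))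
theorem Q16087 : ∀ i, i < 16087 → P i := stepQ 16086 Q16086 (allL N16086 (tt N18931 D18965) (tt N13052 (iv D16117)) (tt N13165 F28462) (tt N18932 D18966) (tt N13071 F28463) (tt N18933 D18967))
theorem Q16088 : ∀ i, i < 16088 → P i := stepQ 16087 Q16087 (allL N16087 (tt N13055 F28464) (tt N18932 (iv F34763)) (tt N18922 (iv F34734)) (tt N13052 (iv D16118)) (tt N18934 D18968) (tt N18920 F34732))
theorem Q16089 : ∀ i, i < 16089 → P i := stepQ 16088 Q16088 (allL N16088 (tt N13056 F28465) (tt N18933 (iv F34765)) (tt N13053 F28466) (tt N18920 (iv F34731)) (tt N13267 F28467) (tt N13052 (iv D16119)))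
theorem Q16090 : ∀ i, i < 16090 → P i := stepQ 16089 Q16089 (allL N16089 (tt N13054 (iv D16120)) (tt N18931 (iv F34759)) (tt N13057 F28468) (tt N18935 D18969) (tt N13079 F28469) (tt N13199 F28470))
theorem Q16091 : ∀ i, i < 16091 → P i := stepQ 16090 Q16090 (allL N16090 (tt N18935 (iv F34770)) (tt N13055 F28471) (tt N18645 (iv F34040)) (tt N13054 (iv D16121)) (tt N18936 D18970) (tt N13200 F28472))
theorem Q16092 : ∀ i, i < 16092 → P i := stepQ 16091 Q16091 (allL N16091 (tt N18922 (iv F34733)) (tt N18937 D18971) (tt N13055 (iv D16122)) (tt N18912 (iv F34712)) (tt N18938 D18972) (tt N18911 F34709))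
theorem Q16093 : ∀ i, i < 16093 → P i := stepQ 16092 Q16092 (allL N16092 (tt N18934 (iv F34768)) (tt N18936 (iv F34773)) (tt N18938 (iv F34775)) (tt N13082 F28473) (tt N13055 (iv D16123)) (tt N18939 D18973))
theorem Q16094 : ∀ i, i < 16094 → P i := stepQ 16093 Q16093 (allL N16093 (tt N18920 (iv F34730)) (tt N13200 F28474) (tt N18911 (iv F34708)) (tt N13056 F28475) (tt N18940 D18974) (tt N13055 (iv D16124)))
theorem Q16095 : ∀ i, i < 16095 → P i := stepQ 16094 Q16094 (allL N16094 (tt N13411 F28476) (tt N13059 F28477) (tt N18941 D18975) (tt N13058 (iv D16125)) (tt N14839 F28478) (tt N18942 D18976))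
theorem Q16096 : ∀ i, i < 16096 → P i := stepQ 16095 Q16095 (allL N16095 (tt N13410 F28479) (tt N13060 F28480) (tt N13389 F28481) (tt N18942 (iv F34783)) (tt N13407 F28482) (tt N13058 (iv D16126)))
theorem Q16097 : ∀ i, i < 16097 → P i := stepQ 16096 Q16096 (allL N16096 (tt N13064 F28483) (tt N18943 D18977) (tt N13059 (iv D16127)) (tt N13077 F28485) (tt N14841 F28484) (tt N13076 (iv F28486)))
theorem Q16098 : ∀ i, i < 16098 → P i := stepQ 16097 Q16097 (allL N16097 (tt N13065 F28487) (tt N18942 (iv F34782)) (tt N13076 F28488) (tt N13060 F28489) (tt N18944 D18978) (tt N13059 (iv D16128)))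
theorem Q16099 : ∀ i, i < 16099 → P i := stepQ 16098 Q16098 (allL N16098 (tt N18869 (iv F34592)) (tt N13061 (iv D16129)) (tt N13394 F28490) (tt N13128 F28491) (tt N13443 F28492) (tt N13071 F28493))
theorem Q16100 : ∀ i, i < 16100 → P i := stepQ 16099 Q16099 (allL N16099 (tt N14841 F28494) (tt N18945 D18979) (tt N13062 (iv D16130)) (tt N18946 D18980) (tt N13064 F28495) (tt N18947 D18981))
theorem Q16101 : ∀ i, i < 16101 → P i := stepQ 16100 Q16100 (allL N16100 (tt N14842 F28496) (tt N13431 F28497) (tt N18947 (iv F34797)) (tt N13063 F28498) (tt N18948 D18982) (tt N13062 (iv D16131)))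
theorem Q16102 : ∀ i, i < 16102 → P i := stepQ 16101 Q16101 (allL N16101 (tt N18798 (iv F34356)) (tt N13064 (iv D16132)) (tt N13440 F28499) (tt N18804 (iv F34381)) (tt N18945 (iv F34792)) (tt N18803 (iv F34377)))
theorem Q16103 : ∀ i, i < 16103 → P i := stepQ 16102 Q16102 (allL N16102 (tt N13077 F28500) (tt N18804 (iv F34379)) (tt N13070 F28501) (tt N13064 (iv D16133)) (tt N18949 D18983) (tt N13069 F28502))
theorem Q16104 : ∀ i, i < 16104 → P i := stepQ 16103 Q16103 (allL N16103 (tt N13076 F28503) (tt N18803 (iv F34375)) (tt N13065 F28504) (tt N13069 F28505) (tt N18950 D18984) (tt N13064 (iv D16134)))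
theorem Q16105 : ∀ i, i < 16105 → P i := stepQ 16104 Q16104 (allL N16104 (tt N18944 (iv F34787)) (tt N13438 F28506) (tt N18950 (iv F34806)) (tt N13426 F28507) (tt N13065 (iv D16135)) (tt N18948 (iv F34802)))
theorem Q16106 : ∀ i, i < 16106 → P i := stepQ 16105 Q16105 (allL N16105 (tt N13129 F28508) (tt N18872 (iv F34607)) (tt N13111 F28509) (tt N13446 F28510) (tt N13066 (iv D16136)) (tt N18951 D18985))
theorem Q16107 : ∀ i, i < 16107 → P i := stepQ 16106 Q16106 (allL N16106 (tt N18899 (iv F34683)) (tt N13070 F28511) (tt N18802 (iv F34372)) (tt N13068 F28512) (tt N18952 D18986) (tt N13067 (iv D16137)))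
theorem Q16108 : ∀ i, i < 16108 → P i := stepQ 16107 Q16107 (allL N16107 (tt N13078 F28513) (tt N18952 (iv F34811)) (tt N18949 (iv F34804)) (tt N18913 (iv F34714)) (tt N13070 (iv D16138)) (tt N18805 (iv F34384)))
theorem Q16109 : ∀ i, i < 16109 → P i := stepQ 16108 Q16108 (allL N16108 (tt N13071 (iv D16139)) (tt N13079 F28514) (tt N18886 (iv F34651)) (tt N18953 D18987) (tt N18931 (iv F34761)) (tt N18869 (iv F34595)))
theorem Q16110 : ∀ i, i < 16110 → P i := stepQ 16109 Q16109 (allL N16109 (tt N18953 (iv F34812)) (tt N13072 F28515) (tt N18954 D18988) (tt N13071 (iv D16140)) (tt N18955 D18989) (tt N13128 F28516))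
theorem Q16111 : ∀ i, i < 16111 → P i := stepQ 16110 Q16110 (allL N16110 (tt N13082 F28517) (tt N18955 (iv F34817)) (tt N13100 F28518) (tt N18934 (iv F34769)) (tt N13072 (iv D16141)) (tt N18956 D18990))
theorem Q16112 : ∀ i, i < 16112 → P i := stepQ 16111 Q16111 (allL N16111 (tt N13075 F28519) (tt N13073 (iv D16142)) (tt N18900 (iv F34687)) (tt N18957 D18991) (tt N13075 F28520) (tt N18958 D18992))
theorem Q16113 : ∀ i, i < 16113 → P i := stepQ 16112 Q16112 (allL N16112 (tt N18803 (iv F34374)) (tt N18957 (iv F34822)) (tt N18799 (iv F34360)) (tt N13073 (iv D16143)) (tt N18959 D18993) (tt N18798 F34358))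
theorem Q16114 : ∀ i, i < 16114 → P i := stepQ 16113 Q16113 (allL N16113 (tt N18804 (iv F34378)) (tt N18958 (iv F34824)) (tt N13074 F28521) (tt N18798 (iv F34357)) (tt N18960 D18994) (tt N13073 (iv D16144)))
theorem Q16115 : ∀ i, i < 16115 → P i := stepQ 16114 Q16114 (allL N16114 (tt N18805 (iv F34382)) (tt N18903 (iv F34691)) (tt N18960 (iv F34826)) (tt N18917 (iv F34726)) (tt N13074 (iv D16145)) (tt N13078 F28522))
theorem Q16116 : ∀ i, i < 16116 → P i := stepQ 16115 Q16115 (allL N16115 (tt N18957 (iv F34821)) (tt N13076 F28523) (tt N18961 D18995) (tt N13075 (iv D16146)) (tt N18962 D18996) (tt N18943 (iv F34786)))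
theorem Q16117 : ∀ i, i < 16117 → P i := stepQ 16116 Q16116 (allL N16116 (tt N18958 (iv F34823)) (tt N13077 F28524) (tt N18905 (iv F34696)) (tt N18943 (iv F34784)) (tt N18963 D18997) (tt N13075 (iv D16147)))
theorem Q16118 : ∀ i, i < 16118 → P i := stepQ 16117 Q16117 (allL N16117 (tt N18950 (iv F34805)) (tt N18962 (iv F34828)) (tt N18944 (iv F34788)) (tt N18959 (iv F34825)) (tt N13076 (iv D16148)) (tt N18964 D18998))
theorem Q16119 : ∀ i, i < 16119 → P i := stepQ 16118 Q16118 (allL N16118 (tt N18949 (iv F34803)) (tt N18963 (iv F34829)) (tt N13078 F28525) (tt N18965 D18999) (tt N13077 (iv D16149)) (tt N18960 (iv F34827)))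
theorem Q16120 : ∀ i, i < 16120 → P i := stepQ 16119 Q16119 (allL N16119 (tt N13080 F28526) (tt N18953 (iv F34813)) (tt N18862 (iv F34570)) (tt N13079 (iv D16150)) (tt N18966 D19000) (tt N18870 (iv F34601)))
theorem Q16121 : ∀ i, i < 16121 → P i := stepQ 16120 Q16120 (allL N16120 (tt N18862 (iv F34568)) (tt N18967 D19001) (tt N13080 (iv D16151)) (tt N18858 (iv F34559)) (tt N18968 D19002) (tt N18871 (iv F34605)))
theorem Q16122 : ∀ i, i < 16122 → P i := stepQ 16121 Q16121 (allL N16121 (tt N18966 (iv F34833)) (tt N13082 F28527) (tt N18968 (iv F34836)) (tt N18936 (iv F34774)) (tt N13080 (iv D16152)) (tt N18969 D19003))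
theorem Q16123 : ∀ i, i < 16123 → P i := stepQ 16122 Q16122 (allL N16122 (tt N18970 D19004) (tt N13081 (iv D16153)) (tt N18967 (iv F34834)) (tt N13089 F28528) (tt N18971 D19005) (tt N13110 F28529))
theorem Q16124 : ∀ i, i < 16124 → P i := stepQ 16123 Q16123 (allL N16123 (tt N13100 F28530) (tt N18971 (iv F34841)) (tt N13082 F28531) (tt N14874 F28532) (tt N13081 (iv D16154)) (tt N18972 D19006))
theorem Q16125 : ∀ i, i < 16125 → P i := stepQ 16124 Q16124 (allL N16124 (tt N18956 (iv F34818)) (tt N18969 (iv F34837)) (tt N18972 (iv F34844)) (tt N18939 (iv F34776)) (tt N18951 (iv F34810)) (tt N13082 (iv D16155)))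
theorem Q16126 : ∀ i, i < 16126 → P i := stepQ 16125 Q16125 (allL N16125 (tt N14825 F28533) (tt N18973 D19007) (tt N13083 (iv D16156)) (tt N18974 D19008) (tt N14970 F28534) (tt N18975 D19009))
theorem Q16127 : ∀ i, i < 16127 → P i := stepQ 16126 Q16126 (allL N16126 (tt N14824 F28535) (tt N13088 F28536) (tt N18975 (iv F34855)) (tt N13084 F28537) (tt N18976 D19010) (tt N13083 (iv D16157)))
theorem Q16128 : ∀ i, i < 16128 → P i := stepQ 16127 Q16127 (allL N16127 (tt N13092 F28538) (tt N18977 D19011) (tt N13085 (iv D16158)) (tt N18978 D19012) (tt N13087 F28539) (tt N18979 D19013))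
theorem Q16129 : ∀ i, i < 16129 → P i := stepQ 16128 Q16128 (allL N16128 (tt N13093 F28540) (tt N14971 F28541) (tt N18979 (iv F34865)) (tt N13086 F28542) (tt N18980 D19014) (tt N13085 (iv D16159)))
theorem Q16130 : ∀ i, i < 16130 → P i := stepQ 16129 Q16129 (allL N16129 (tt N18981 D19015) (tt N13087 (iv D16160)) (tt N18973 (iv F34847)) (tt N13122 F28543) (tt N18977 (iv F34861)) (tt N13121 F28544))
theorem Q16131 : ∀ i, i < 16131 → P i := stepQ 16130 Q16130 (allL N16130 (tt N13097 F28545) (tt N18976 (iv F34857)) (tt N13123 F28546) (tt N14838 F28547) (tt N13088 (iv D16161)) (tt N18980 (iv F34871)))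
theorem Q16132 : ∀ i, i < 16132 → P i := stepQ 16131 Q16131 (allL N16131 (tt N13089 (iv D16162)) (tt N13098 F28548) (tt N14800 F28549) (tt N18970 (iv F34839)) (tt N14871 F28550) (tt N13109 F28551))
theorem Q16133 : ∀ i, i < 16133 → P i := stepQ 16132 Q16132 (allL N16132 (tt N13421 F28552) (tt N18982 D19016) (tt N13090 (iv D16163)) (tt N18983 D19017) (tt N13419 F28553) (tt N18984 D19018))
theorem Q16134 : ∀ i, i < 16134 → P i := stepQ 16133 Q16133 (allL N16133 (tt N13422 F28554) (tt N14962 F28555) (tt N18984 (iv F34879)) (tt N13091 F28556) (tt N18985 D19019) (tt N13090 (iv D16164)))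
theorem Q16135 : ∀ i, i < 16135 → P i := stepQ 16134 Q16134 (allL N16134 (tt N18986 D19020) (tt N13092 (iv D16165)) (tt N14859 F28557) (tt N18987 D19021) (tt N13094 F28558) (tt N18988 D19022))
theorem Q16136 : ∀ i, i < 16136 → P i := stepQ 16135 Q16135 (allL N16135 (tt N18978 (iv F34862)) (tt N18987 (iv F34886)) (tt N18989 D19023) (tt N13092 (iv D16166)) (tt N18990 D19024) (tt N18991 D19025))
theorem Q16137 : ∀ i, i < 16137 → P i := stepQ 16136 Q16136 (allL N16136 (tt N18979 (iv F34864)) (tt N18988 (iv F34887)) (tt N13093 F28559) (tt N18991 (iv F34895)) (tt N18992 D19026) (tt N13092 (iv D16167)))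
theorem Q16138 : ∀ i, i < 16138 → P i := stepQ 16137 Q16137 (allL N16137 (tt N18980 (iv F34867)) (tt N14857 F28560) (tt N18992 (iv F34898)) (tt N14846 F28561) (tt N13093 (iv D16168)) (tt N13097 F28562))
theorem Q16139 : ∀ i, i < 16139 → P i := stepQ 16138 Q16138 (allL N16138 (tt N13094 (iv D16169)) (tt N18981 (iv F34872)) (tt N14867 F28563) (tt N18993 D19027) (tt N18986 (iv F34885)) (tt N18994 D19028))
theorem Q16140 : ∀ i, i < 16140 → P i := stepQ 16139 Q16139 (allL N16139 (tt N18993 (iv F34900)) (tt N13095 F28564) (tt N18995 D19029) (tt N13094 (iv D16170)) (tt N18996 D19030) (tt N13107 (iv F28565)))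
theorem Q16141 : ∀ i, i < 16141 → P i := stepQ 16140 Q16140 (allL N16140 (tt N18994 (iv F34905)) (tt N13096 F28566) (tt N14866 F28567) (tt N13107 F28568) (tt N16466 (iv F29288)) (tt N13094 (iv D16171)))
theorem Q16142 : ∀ i, i < 16142 → P i := stepQ 16141 Q16141 (allL N16141 (tt N13124 F28569) (tt N18996 (iv F34915)) (tt N13108 F28570) (tt N18990 (iv F34893)) (tt N13095 (iv D16172)) (tt N18997 D19031))
theorem Q16143 : ∀ i, i < 16143 → P i := stepQ 16142 Q16142 (allL N16142 (tt N13123 F28571) (tt N16466 (iv F29287)) (tt N13097 F28572) (tt N16465 F29286) (tt N13096 (iv D16173)) (tt N18992 (iv F34899)))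
theorem Q16144 : ∀ i, i < 16144 → P i := stepQ 16143 Q16143 (allL N16143 (tt N13099 F28573) (tt N18970 (iv F34838)) (tt N18998 D19032) (tt N13098 (iv D16174)) (tt N18625 (iv F33979)) (tt N13125 F28574))
theorem Q16145 : ∀ i, i < 16145 → P i := stepQ 16144 Q16144 (allL N16144 (tt N18998 (iv F34922)) (tt N18954 (iv F34815)) (tt N13099 (iv D16175)) (tt N18999 D19033) (tt N19000 D19034) (tt N13126 F28575))
theorem Q16146 : ∀ i, i < 16146 → P i := stepQ 16145 Q16145 (allL N16145 (tt N18625 (iv F33978)) (tt N13100 F28576) (tt N19000 (iv F34928)) (tt N14875 F28577) (tt N13099 (iv D16176)) (tt N19001 D19035))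
theorem Q16147 : ∀ i, i < 16147 → P i := stepQ 16146 Q16146 (allL N16146 (tt N18972 (iv F34843)) (tt N19001 (iv F34929)) (tt N18956 (iv F34819)) (tt N14878 F28578) (tt N13130 F28579) (tt N13100 (iv D16177)))
theorem Q16148 : ∀ i, i < 16148 → P i := stepQ 16147 Q16147 (allL N16147 (tt N15936 F28580) (tt N16045 (iv F28583)) (tt N13101 (iv D16178)) (tt N16042 F28582) (tt N13103 F28581) (tt N16041 (iv F28584)))
theorem Q16149 : ∀ i, i < 16149 → P i := stepQ 16148 Q16148 (allL N16148 (tt N15937 F28589) (tt N13106 F28590) (tt N16041 F28591) (tt N13102 F28592) (tt N16269 (iv F28795)) (tt N13101 (iv D16179)))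
theorem Q16150 : ∀ i, i < 16150 → P i := stepQ 16149 Q16149 (allL N16149 (tt N16052 (iv F28595)) (tt N13103 (iv D16180)) (tt N13107 F28593) (tt N16211 (iv F28697)) (tt N16045 F28594) (tt N18995 (iv F34912)))
theorem Q16151 : ∀ i, i < 16151 → P i := stepQ 16150 Q16150 (allL N16150 (tt N15105 F28596) (tt N16211 (iv F28696)) (tt N13290 F28597) (tt N13103 (iv D16181)) (tt N16202 (iv F28677)) (tt N15097 F28598))
theorem Q16152 : ∀ i, i < 16152 → P i := stepQ 16151 Q16151 (allL N16151 (tt N13283 F28599) (tt N18995 (iv F34910)) (tt N13104 F28600) (tt N15097 F28601) (tt N15103 F28602) (tt N13103 (iv D16182)))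
theorem Q16153 : ∀ i, i < 16153 → P i := stepQ 16152 Q16152 (allL N16152 (tt N13282 F28603) (tt N13108 F28604) (tt N15103 F28605) (tt N13275 F28606) (tt N13104 (iv D16183)) (tt N16269 (iv F28796)))
theorem Q16154 : ∀ i, i < 16154 → P i := stepQ 16153 Q16153 (allL N16153 (tt N13118 F28607) (tt N16044 F28608) (tt N13106 F28609) (tt N16469 (iv F29294)) (tt N18997 (iv F34921)) (tt N13105 (iv D16184)))
theorem Q16155 : ∀ i, i < 16155 → P i := stepQ 16154 Q16154 (allL N16154 (tt N13119 F28610) (tt N16269 F28797) (tt N18997 (iv F34920)) (tt N18790 (iv F34332)) (tt N13106 (iv D16185)) (tt N13108 F28611))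
theorem Q16156 : ∀ i, i < 16156 → P i := stepQ 16155 Q16155 (allL N16155 (tt N13107 (iv D16186)) (tt N13120 F28612) (tt N16052 F28613) (tt N18994 (iv F34908)) (tt N16051 F28614) (tt N18993 F34904))
theorem Q16157 : ∀ i, i < 16157 → P i := stepQ 16156 Q16156 (allL N16156 (tt N13110 F28615) (tt N13125 F28616) (tt N19002 D19036) (tt N13109 (iv D16187)) (tt N19003 D19037) (tt N18970 (iv F34840)))
theorem Q16158 : ∀ i, i < 16158 → P i := stepQ 16157 Q16157 (allL N16157 (tt N19002 (iv F34932)) (tt N18871 (iv F34603)) (tt N13110 (iv D16188)) (tt N19004 D19038) (tt N19005 D19039) (tt N18967 (iv F34835)))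
theorem Q16159 : ∀ i, i < 16159 → P i := stepQ 16158 Q16158 (allL N16158 (tt N19003 (iv F34933)) (tt N13111 F28617) (tt N19005 (iv F34936)) (tt N18808 (iv F34394)) (tt N13110 (iv D16189)) (tt N19006 D19040))
theorem Q16160 : ∀ i, i < 16160 → P i := stepQ 16159 Q16159 (allL N16159 (tt N13130 F28618) (tt N19006 (iv F34937)) (tt N18951 (iv F34808)) (tt N18809 (iv F34396)) (tt N18972 (iv F34846)) (tt N13111 (iv D16190)))
theorem Q16161 : ∀ i, i < 16161 → P i := stepQ 16160 Q16160 (allL N16160 (tt N17957 (iv F32378)) (tt N16347 (iv F29022)) (tt N13112 (iv D16191)) (tt N16343 F29012) (tt N18908 (iv F34701)) (tt N16344 (iv F29014)))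
theorem Q16162 : ∀ i, i < 16162 → P i := stepQ 16161 Q16161 (allL N16161 (tt N18909 (iv F34702)) (tt N13115 F28619) (tt N16344 (iv F29015)) (tt N13113 F28620) (tt N19007 D19041) (tt N13112 (iv D16192)))
theorem Q16163 : ∀ i, i < 16163 → P i := stepQ 16162 Q16162 (allL N16162 (tt N16369 (iv F29086)) (tt N13114 (iv D16193)) (tt N16347 F29024) (tt N16372 (iv F29091)) (tt N18910 (iv F34706)) (tt N16348 (iv F29027)))
theorem Q16164 : ∀ i, i < 16164 → P i := stepQ 16163 Q16163 (allL N16163 (tt N18915 (iv F34718)) (tt N16372 F29093) (tt N16469 (iv F29293)) (tt N13114 (iv D16194)) (tt N19008 D19042) (tt N16442 (iv F29232)))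
theorem Q16165 : ∀ i, i < 16165 → P i := stepQ 16164 Q16164 (allL N16164 (tt N18916 (iv F34721)) (tt N16348 (iv F29026)) (tt N13115 F28621) (tt N16442 (iv F29231)) (tt N19009 D19043) (tt N13114 (iv D16195)))
theorem Q16166 : ∀ i, i < 16166 → P i := stepQ 16165 Q16165 (allL N16165 (tt N18917 (iv F34724)) (tt N19007 (iv F34938)) (tt N19009 (iv F34939)) (tt N18805 (iv F34383)) (tt N13115 (iv D16196)) (tt N18913 (iv F34715)))
theorem Q16167 : ∀ i, i < 16167 → P i := stepQ 16166 Q16166 (allL N16166 (tt N13116 (iv D16197)) (tt N16051 F28622) (tt N16199 (iv F28664)) (tt N16460 (iv F29273)) (tt N13120 F28623) (tt N16049 (iv F28624)))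
theorem Q16168 : ∀ i, i < 16168 → P i := stepQ 16167 Q16167 (allL N16167 (tt N16460 (iv F29272)) (tt N13117 F28625) (tt N19010 D19044) (tt N13116 (iv D16198)) (tt N19011 D19045) (tt N19012 D19046))
theorem Q16169 : ∀ i, i < 16169 → P i := stepQ 16168 Q16168 (allL N16168 (tt N16049 F28626) (tt N13118 F28627) (tt N16197 (iv F28658)) (tt N19012 (iv F34944)) (tt N19013 D19047) (tt N13116 (iv D16199)))
theorem Q16170 : ∀ i, i < 16170 → P i := stepQ 16169 Q16169 (allL N16169 (tt N16442 (iv F29233)) (tt N19014 D19048) (tt N13117 (iv D16200)) (tt N18916 (iv F34723)) (tt N19015 D19049) (tt N18915 (iv F34720)))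
theorem Q16171 : ∀ i, i < 16171 → P i := stepQ 16170 Q16170 (allL N16170 (tt N16465 F29285) (tt N19011 (iv F34940)) (tt N19015 (iv F34949)) (tt N13123 F28628) (tt N13117 (iv D16201)) (tt N19016 D19050))
theorem Q16172 : ∀ i, i < 16172 → P i := stepQ 16171 Q16171 (allL N16171 (tt N16469 (iv F29291)) (tt N19012 (iv F34943)) (tt N18915 (iv F34719)) (tt N13118 F28629) (tt N19017 D19051) (tt N13117 (iv D16202)))
theorem Q16173 : ∀ i, i < 16173 → P i := stepQ 16172 Q16172 (allL N16172 (tt N18997 (iv F34918)) (tt N19013 (iv F34946)) (tt N13119 F28630) (tt N19018 D19052) (tt N13118 (iv D16203)) (tt N13124 F28631))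
theorem Q16174 : ∀ i, i < 16174 → P i := stepQ 16173 Q16173 (allL N16173 (tt N13121 F28632) (tt N18994 (iv F34906)) (tt N19019 D19053) (tt N13120 (iv D16204)) (tt N19020 D19054) (tt N18981 (iv F34874)))
theorem Q16175 : ∀ i, i < 16175 → P i := stepQ 16174 Q16174 (allL N16174 (tt N13122 F28633) (tt N18993 (iv F34901)) (tt N18801 (iv F34367)) (tt N18981 (iv F34873)) (tt N19021 D19055) (tt N13120 (iv D16205)))
theorem Q16176 : ∀ i, i < 16176 → P i := stepQ 16175 Q16175 (allL N16175 (tt N19019 (iv F34952)) (tt N18975 (iv F34854)) (tt N13121 (iv D16206)) (tt N19019 (iv F34953)) (tt N19022 D19056) (tt N18973 F34849))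
theorem Q16177 : ∀ i, i < 16177 → P i := stepQ 16176 Q16176 (allL N16176 (tt N19020 (iv F34954)) (tt N13123 F28634) (tt N19022 (iv F34959)) (tt N19011 (iv F34941)) (tt N13121 (iv D16207)) (tt N19023 D19057))
theorem Q16178 : ∀ i, i < 16178 → P i := stepQ 16177 Q16177 (allL N16177 (tt N19021 (iv F34955)) (tt N13124 F28635) (tt N18800 (iv F34363)) (tt N19024 D19058) (tt N13122 (iv D16208)) (tt N19013 (iv F34948)))
theorem Q16179 : ∀ i, i < 16179 → P i := stepQ 16178 Q16178 (allL N16178 (tt N18992 (iv F34896)) (tt N19023 (iv F34960)) (tt N18980 (iv F34869)) (tt N19016 (iv F34950)) (tt N18979 (iv F34866)) (tt N13123 (iv D16209)))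
theorem Q16180 : ∀ i, i < 16180 → P i := stepQ 16179 Q16179 (allL N16179 (tt N18990 (iv F34892)) (tt N19024 (iv F34961)) (tt N19025 D19059) (tt N13124 (iv D16210)) (tt N18978 (iv F34863)) (tt N19018 (iv F34951)))
theorem Q16181 : ∀ i, i < 16181 → P i := stepQ 16180 Q16180 (allL N16180 (tt N13126 F28636) (tt N19026 D19060) (tt N13125 (iv D16211)) (tt N18888 (iv F34662)) (tt N19027 D19061) (tt N18998 (iv F34924)))
theorem Q16182 : ∀ i, i < 16182 → P i := stepQ 16181 Q16181 (allL N16181 (tt N13127 F28637) (tt N19003 (iv F34934)) (tt N19027 (iv F34964)) (tt N18810 (iv F34399)) (tt N13125 (iv D16212)) (tt N19028 D19062))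
theorem Q16183 : ∀ i, i < 16183 → P i := stepQ 16182 Q16182 (allL N16182 (tt N19029 D19063) (tt N13126 (iv D16213)) (tt N13128 F28638) (tt N19030 D19064) (tt N19031 D19065) (tt N18954 (iv F34816)))
theorem Q16184 : ∀ i, i < 16184 → P i := stepQ 16183 Q16183 (allL N16183 (tt N18888 (iv F34659)) (tt N19030 (iv F34967)) (tt N18887 (iv F34658)) (tt N13126 (iv D16214)) (tt N19032 D19066) (tt N18999 (iv F34927)))
theorem Q16185 : ∀ i, i < 16185 → P i := stepQ 16184 Q16184 (allL N16184 (tt N19027 (iv F34963)) (tt N19031 (iv F34968)) (tt N13127 F28639) (tt N19033 D19067) (tt N13126 (iv D16215)) (tt N19034 D19068))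
theorem Q16186 : ∀ i, i < 16186 → P i := stepQ 16185 Q16185 (allL N16185 (tt N19028 (iv F34965)) (tt N13130 F28640) (tt N19034 (iv F34970)) (tt N18813 (iv F34412)) (tt N19001 (iv F34931)) (tt N13127 (iv D16216)))
theorem Q16187 : ∀ i, i < 16187 → P i := stepQ 16186 Q16186 (allL N16186 (tt N13128 (iv D16217)) (tt N18870 (iv F34598)) (tt N19029 (iv F34966)) (tt N18869 F34596) (tt N19035 D19069) (tt N18953 (iv F34814)))
theorem Q16188 : ∀ i, i < 16188 → P i := stepQ 16187 Q16187 (allL N16187 (tt N19035 (iv F34971)) (tt N13129 F28641) (tt N19031 (iv F34969)) (tt N19036 D19070) (tt N13128 (iv D16218)) (tt N19037 D19071))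
theorem Q16189 : ∀ i, i < 16189 → P i := stepQ 16188 Q16188 (allL N16188 (tt N13446 F28642) (tt N19036 (iv F34975)) (tt N19038 D19072) (tt N13129 (iv D16219)) (tt N13444 F28643) (tt N19039 D19073))
theorem Q16190 : ∀ i, i < 16190 → P i := stepQ 16189 Q16189 (allL N16189 (tt N18951 (iv F34807)) (tt N19037 (iv F34977)) (tt N13130 F28644) (tt N19039 (iv F34981)) (tt N18956 (iv F34820)) (tt N13129 (iv D16220)))
theorem Q16191 : ∀ i, i < 16191 → P i := stepQ 16190 Q16190 (allL N16190 (tt N13394 F28645) (tt N13131 (iv D16221)) (tt N18869 (iv F34593)) (tt N19040 D19074) (tt N18849 (iv F34529)) (tt N18886 (iv F34654)))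
theorem Q16192 : ∀ i, i < 16192 → P i := stepQ 16191 Q16191 (allL N16191 (tt N13132 F28646) (tt N19040 (iv F34983)) (tt N18999 (iv F34926)) (tt N13131 (iv D16222)) (tt N19041 D19075) (tt N18887 (iv F34657)))
theorem Q16193 : ∀ i, i < 16193 → P i := stepQ 16192 Q16192 (allL N16192 (tt N18999 (iv F34925)) (tt N19042 D19076) (tt N13132 (iv D16223)) (tt N18998 (iv F34923)) (tt N19043 D19077) (tt N18888 (iv F34661)))
theorem Q16194 : ∀ i, i < 16194 → P i := stepQ 16193 Q16193 (allL N16193 (tt N19041 (iv F34985)) (tt N13405 F28647) (tt N19043 (iv F34988)) (tt N18851 (iv F34536)) (tt N13132 (iv D16224)) (tt N19044 D19078))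
theorem Q16195 : ∀ i, i < 16195 → P i := stepQ 16194 Q16194 (allL N16194 (tt N13142 F28648) (tt N15914 F28649) (tt N15915 F28650) (tt N13148 F28651) (tt N13136 (iv D16225)) (tt N13207 F28652))
theorem Q16196 : ∀ i, i < 16196 → P i := stepQ 16195 Q16195 (allL N16195 (tt N18806 (iv F34385)) (tt N13137 (iv D16226)) (tt N18893 (iv F34673)) (tt N16199 (iv F28665)) (tt N13139 F28653) (tt N16198 F28661))
theorem Q16197 : ∀ i, i < 16197 → P i := stepQ 16196 Q16196 (allL N16196 (tt N13207 F28654) (tt N18896 (iv F34676)) (tt N16200 (iv F28668)) (tt N13159 F28655) (tt N13138 (iv D16227)) (tt N13142 F28656))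
theorem Q16198 : ∀ i, i < 16198 → P i := stepQ 16197 Q16197 (allL N16197 (tt N13139 (iv D16228)) (tt N15939 F28657) (tt N16168 F28658) (tt N18800 (iv F34364)) (tt N18806 (iv F34387)) (tt N15940 (iv F28659)))
theorem Q16199 : ∀ i, i < 16199 → P i := stepQ 16198 Q16198 (allL N16198 (tt N18800 (iv F34362)) (tt N13140 F28660) (tt N19021 (iv F34957)) (tt N13139 (iv D16229)) (tt N18801 (iv F34369)) (tt N16195 (iv F28661)))
theorem Q16200 : ∀ i, i < 16200 → P i := stepQ 16199 Q16199 (allL N16199 (tt N15940 F28662) (tt N13141 F28663) (tt N16166 F28664) (tt N16195 F28665) (tt N15942 (iv F28666)) (tt N13139 (iv D16230)))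
theorem Q16201 : ∀ i, i < 16201 → P i := stepQ 16200 Q16200 (allL N16200 (tt N13286 F28667) (tt N18801 (iv F34366)) (tt N16196 F28668) (tt N16201 (iv F28672)) (tt N13140 (iv D16231)) (tt N16201 (iv F28673)))
theorem Q16202 : ∀ i, i < 16202 → P i := stepQ 16201 Q16201 (allL N16201 (tt N15915 F28669) (tt N15942 F28670) (tt N13142 F28671) (tt N16200 F28672) (tt N13141 (iv D16232)) (tt N16200 F28673))
theorem Q16203 : ∀ i, i < 16203 → P i := stepQ 16202 Q16202 (allL N16202 (tt N13146 F28674) (tt N13151 F28675) (tt N16339 (iv F28996)) (tt N13144 F28676) (tt N16150 F28677) (tt N13143 (iv D16233)))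
theorem Q16204 : ∀ i, i < 16204 → P i := stepQ 16203 Q16203 (allL N16203 (tt N18385 (iv F33376)) (tt N13145 (iv D16234)) (tt N13147 F28678) (tt N18382 (iv F33372)) (tt N16023 F28679) (tt N13187 (iv F28680)))
theorem Q16205 : ∀ i, i < 16205 → P i := stepQ 16204 Q16204 (allL N16204 (tt N16539 (iv F29423)) (tt N18382 (iv F33371)) (tt N19045 D19079) (tt N13145 (iv D16235)) (tt N17807 (iv F32099)) (tt N16537 F29419))
theorem Q16206 : ∀ i, i < 16206 → P i := stepQ 16205 Q16205 (allL N16205 (tt N16339 (iv F28994)) (tt N13187 F28681) (tt N13146 F28682) (tt N16537 (iv F29418)) (tt N16338 F28993) (tt N13145 (iv D16236)))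
theorem Q16207 : ∀ i, i < 16207 → P i := stepQ 16206 Q16206 (allL N16206 (tt N13147 (iv D16237)) (tt N13160 F28683) (tt N18385 (iv F33377)) (tt N13186 F28684) (tt N16024 F28685) (tt N13185 F28686))
theorem Q16208 : ∀ i, i < 16208 → P i := stepQ 16207 Q16207 (allL N16207 (tt N13152 F28687) (tt N18081 (iv F32668)) (tt N13149 (iv D16238)) (tt N19046 D19080) (tt N13150 F28688) (tt N18083 (iv F32677)))
theorem Q16209 : ∀ i, i < 16209 → P i := stepQ 16208 Q16208 (allL N16208 (tt N19047 D19081) (tt N13150 (iv D16239)) (tt N17800 (iv F32086)) (tt N19048 D19082) (tt N18081 (iv F32669)) (tt N17799 F32084))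
theorem Q16210 : ∀ i, i < 16210 → P i := stepQ 16209 Q16209 (allL N16209 (tt N13155 F28689) (tt N19048 (iv F34995)) (tt N13173 F28690) (tt N13150 (iv D16240)) (tt N19049 D19083) (tt N13171 (iv F28691)))
theorem Q16211 : ∀ i, i < 16211 → P i := stepQ 16210 Q16210 (allL N16210 (tt N13156 F28692) (tt N17799 (iv F32081)) (tt N13151 F28693) (tt N13171 F28694) (tt N17798 F32080) (tt N13150 (iv D16241)))
theorem Q16212 : ∀ i, i < 16212 → P i := stepQ 16211 Q16211 (allL N16211 (tt N13157 F28695) (tt N16150 F28696) (tt N17798 (iv F32077)) (tt N16149 F28697) (tt N13151 (iv D16242)) (tt N18082 (iv F32674)))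
theorem Q16213 : ∀ i, i < 16213 → P i := stepQ 16212 Q16212 (allL N16212 (tt N19050 D19084) (tt N13152 (iv D16243)) (tt N13158 F28698) (tt N18373 (iv F33358)) (tt N13154 F28699) (tt N16030 (iv F28700)))
theorem Q16214 : ∀ i, i < 16214 → P i := stepQ 16213 Q16213 (allL N16213 (tt N19046 (iv F34990)) (tt N18373 (iv F33357)) (tt N19051 D19085) (tt N13152 (iv D16244)) (tt N19052 D19086) (tt N18372 F33356))
theorem Q16215 : ∀ i, i < 16215 → P i := stepQ 16214 Q16214 (allL N16214 (tt N18083 F32678) (tt N16030 F28701) (tt N13153 F28702) (tt N18372 (iv F33355)) (tt N18085 (iv F32682)) (tt N13152 (iv D16245)))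
theorem Q16216 : ∀ i, i < 16216 → P i := stepQ 16215 Q16215 (allL N16215 (tt N18082 (iv F32671)) (tt N13159 F28703) (tt N18085 (iv F32680)) (tt N18896 (iv F34677)) (tt N13153 (iv D16246)) (tt N13157 F28704))
theorem Q16217 : ∀ i, i < 16217 → P i := stepQ 16216 Q16216 (allL N16216 (tt N13154 (iv D16247)) (tt N19047 (iv F34993)) (tt N13160 F28705) (tt N19053 D19087) (tt N19050 (iv F35003)) (tt N19054 D19088))
theorem Q16218 : ∀ i, i < 16218 → P i := stepQ 16217 Q16217 (allL N16217 (tt N19053 (iv F35010)) (tt N13155 F28706) (tt N19055 D19089) (tt N13154 (iv D16248)) (tt N19056 D19090) (tt N19057 D19091))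
theorem Q16219 : ∀ i, i < 16219 → P i := stepQ 16218 Q16218 (allL N16218 (tt N19054 (iv F35011)) (tt N13156 F28707) (tt N13162 F28708) (tt N19057 (iv F35015)) (tt N18375 (iv F33362)) (tt N13154 (iv D16249)))
theorem Q16220 : ∀ i, i < 16220 → P i := stepQ 16219 Q16219 (allL N16219 (tt N13173 F28709) (tt N19058 D19092) (tt N13155 (iv D16250)) (tt N13167 F28710) (tt N19059 D19093) (tt N13166 (iv F28711)))
theorem Q16221 : ∀ i, i < 16221 → P i := stepQ 16220 Q16220 (allL N16220 (tt N19049 (iv F34998)) (tt N19056 (iv F35013)) (tt N19059 (iv F35020)) (tt N19052 (iv F35009)) (tt N13155 (iv D16251)) (tt N19060 D19094))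
theorem Q16222 : ∀ i, i < 16222 → P i := stepQ 16221 Q16221 (allL N16221 (tt N13171 F28712) (tt N19057 (iv F35014)) (tt N13166 F28713) (tt N13156 F28714) (tt N19061 D19095) (tt N13155 (iv D16252)))
theorem Q16223 : ∀ i, i < 16223 → P i := stepQ 16222 Q16222 (allL N16222 (tt N17798 F32079) (tt N18375 (iv F33359)) (tt N13157 F28715) (tt N17900 F32271) (tt N13156 (iv D16253)) (tt N18085 (iv F32683)))
theorem Q16224 : ∀ i, i < 16224 → P i := stepQ 16223 Q16223 (allL N16223 (tt N13158 (iv D16254)) (tt N16024 F28716) (tt N19050 (iv F35001)) (tt N16029 F28717) (tt N13160 F28718) (tt N16028 F28719))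
theorem Q16225 : ∀ i, i < 16225 → P i := stepQ 16224 Q16224 (allL N16224 (tt N13161 F28720) (tt N13186 F28721) (tt N19062 D19096) (tt N13160 (iv D16255)) (tt N19063 D19097) (tt N13179 (iv F28722)))
theorem Q16226 : ∀ i, i < 16226 → P i := stepQ 16225 Q16225 (allL N16225 (tt N13162 F28723) (tt N13185 F28724) (tt N19054 (iv F35012)) (tt N13179 F28725) (tt N18386 (iv F33380)) (tt N13160 (iv D16256)))
theorem Q16227 : ∀ i, i < 16227 → P i := stepQ 16226 Q16226 (allL N16226 (tt N19062 (iv F35023)) (tt N13177 F28726) (tt N13161 (iv D16257)) (tt N14380 (iv F28728)) (tt N19064 D19098) (tt N13175 F28727))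
theorem Q16228 : ∀ i, i < 16228 → P i := stepQ 16227 Q16227 (allL N16227 (tt N19063 (iv F35027)) (tt N13163 F28729) (tt N19064 (iv F35032)) (tt N16032 F28730) (tt N13161 (iv D16258)) (tt N13189 F28731))
theorem Q16229 : ∀ i, i < 16229 → P i := stepQ 16228 Q16228 (allL N16228 (tt N18386 (iv F33379)) (tt N13164 F28732) (tt N18375 (iv F33360)) (tt N13188 F28733) (tt N13162 (iv D16259)) (tt N16031 F28734))
theorem Q16230 : ∀ i, i < 16230 → P i := stepQ 16229 Q16229 (allL N16229 (tt N13165 (iv D16260)) (tt N13169 F28735) (tt N18931 (iv F34760)) (tt N17664 (iv F31770)) (tt N18886 (iv F34653)) (tt N13345 (iv F28736)))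
theorem Q16231 : ∀ i, i < 16231 → P i := stepQ 16230 Q16230 (allL N16230 (tt N17664 (iv F31769)) (tt N13166 F28737) (tt N19065 D19099) (tt N13165 (iv D16261)) (tt N19066 D19100) (tt N19058 (iv F35018)))
theorem Q16232 : ∀ i, i < 16232 → P i := stepQ 16231 Q16231 (allL N16231 (tt N13345 F28738) (tt N13167 F28739) (tt N18933 (iv F34766)) (tt N19058 (iv F35017)) (tt N19067 D19101) (tt N13165 (iv D16262)))
theorem Q16233 : ∀ i, i < 16233 → P i := stepQ 16232 Q16232 (allL N16232 (tt N13172 F28740) (tt N19066 (iv F35034)) (tt N19061 (iv F35022)) (tt N15835 F28741) (tt N13166 (iv D16263)) (tt N19068 D19102))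
theorem Q16234 : ∀ i, i < 16234 → P i := stepQ 16233 Q16233 (allL N16233 (tt N13174 F28742) (tt N19067 (iv F35037)) (tt N13168 F28743) (tt N19069 D19103) (tt N13167 (iv D16264)) (tt N13343 F28744))
theorem Q16235 : ∀ i, i < 16235 → P i := stepQ 16234 Q16234 (allL N16234 (tt N17665 (iv F31772)) (tt N13172 F28745) (tt N17660 (iv F31761)) (tt N18889 (iv F34664)) (tt N13170 (iv D16265)) (tt N19070 D19104))
theorem Q16236 : ∀ i, i < 16236 → P i := stepQ 16235 Q16235 (allL N16235 (tt N19071 D19105) (tt N13171 (iv D16266)) (tt N17659 F31759) (tt N17799 F32083) (tt N19072 D19106) (tt N19048 (iv F34996)))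
theorem Q16237 : ∀ i, i < 16237 → P i := stepQ 16236 Q16236 (allL N16236 (tt N19061 (iv F35021)) (tt N19072 (iv F35047)) (tt N13172 F28746) (tt N19073 D19107) (tt N13171 (iv D16267)) (tt N19074 D19108))
theorem Q16238 : ∀ i, i < 16238 → P i := stepQ 16237 Q16237 (allL N16237 (tt N19068 (iv F35040)) (tt N19070 (iv F35045)) (tt N19074 (iv F35050)) (tt N18890 (iv F34667)) (tt N19075 D19109) (tt N13172 (iv D16268)))
theorem Q16239 : ∀ i, i < 16239 → P i := stepQ 16238 Q16238 (allL N16238 (tt N19059 (iv F35019)) (tt N13348 F28747) (tt N19049 (iv F34999)) (tt N19076 D19110) (tt N13173 (iv D16269)) (tt N19075 (iv F35052)))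
theorem Q16240 : ∀ i, i < 16240 → P i := stepQ 16239 Q16239 (allL N16239 (tt N19069 (iv F35042)) (tt N13242 F28748) (tt N19077 D19111) (tt N13174 (iv D16270)) (tt N19076 (iv F35054)) (tt N13344 F28749))
theorem Q16241 : ∀ i, i < 16241 → P i := stepQ 16240 Q16240 (allL N16240 (tt N13175 (iv D16271)) (tt N14370 F28750) (tt N13179 F28751) (tt N19078 D19112) (tt N13180 F28752) (tt N19062 (iv F35025)))
theorem Q16242 : ∀ i, i < 16242 → P i := stepQ 16241 Q16241 (allL N16241 (tt N19078 (iv F35058)) (tt N13176 F28753) (tt N19079 D19113) (tt N13175 (iv D16272)) (tt N19080 D19114) (tt N14380 F28754))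
theorem Q16243 : ∀ i, i < 16243 → P i := stepQ 16242 Q16242 (allL N16242 (tt N14373 F28755) (tt N19080 (iv F35063)) (tt N14383 F28756) (tt N13183 F28757) (tt N13176 (iv D16273)) (tt N19081 D19115))
theorem Q16244 : ∀ i, i < 16244 → P i := stepQ 16243 Q16243 (allL N16243 (tt N14374 F28758) (tt N19064 (iv F35031)) (tt N13178 F28759) (tt N19082 D19116) (tt N13177 (iv D16274)) (tt N13184 F28760))
theorem Q16245 : ∀ i, i < 16245 → P i := stepQ 16244 Q16244 (allL N16244 (tt N13181 F28761) (tt N17625 (iv F31663)) (tt N18648 (iv F34050)) (tt N13180 (iv D16275)) (tt N19083 D19117) (tt N17632 (iv F31686)))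
theorem Q16246 : ∀ i, i < 16246 → P i := stepQ 16245 Q16245 (allL N16245 (tt N13182 F28762) (tt N17626 (iv F31666)) (tt N13186 F28763) (tt N17632 (iv F31685)) (tt N19084 D19118) (tt N13180 (iv D16276)))
theorem Q16247 : ∀ i, i < 16247 → P i := stepQ 16246 Q16246 (allL N16246 (tt N19083 (iv F35073)) (tt N13183 F28764) (tt N18649 (iv F34052)) (tt N19080 (iv F35064)) (tt N13181 (iv D16277)) (tt N19085 D19119))
theorem Q16248 : ∀ i, i < 16248 → P i := stepQ 16247 Q16247 (allL N16247 (tt N19084 (iv F35074)) (tt N13184 F28765) (tt N13189 F28766) (tt N19086 D19120) (tt N13182 (iv D16278)) (tt N19064 (iv F35033)))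
theorem Q16249 : ∀ i, i < 16249 → P i := stepQ 16248 Q16248 (allL N16248 (tt N17630 (iv F31676)) (tt N19085 (iv F35076)) (tt N17636 (iv F31696)) (tt N19081 (iv F35067)) (tt N17635 (iv F31693)) (tt N13183 (iv D16279)))
theorem Q16250 : ∀ i, i < 16250 → P i := stepQ 16249 Q16249 (allL N16249 (tt N17631 (iv F31680)) (tt N19086 (iv F35077)) (tt N19087 D19121) (tt N13184 (iv D16280)) (tt N17634 (iv F31690)) (tt N19082 (iv F35071)))
theorem Q16251 : ∀ i, i < 16251 → P i := stepQ 16250 Q16250 (allL N16250 (tt N13189 F28767) (tt N19063 (iv F35028)) (tt N19084 (iv F35075)) (tt N19088 D19122) (tt N13186 (iv D16281)) (tt N19063 (iv F35030)))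
theorem Q16252 : ∀ i, i < 16252 → P i := stepQ 16251 Q16251 (allL N16251 (tt N18080 (iv F32666)) (tt N13190 F28768) (tt N18075 (iv F32664)) (tt N16031 F28769) (tt N16026 F28770) (tt N13188 (iv D16282)))
theorem Q16253 : ∀ i, i < 16253 → P i := stepQ 16252 Q16252 (allL N16252 (tt N19088 (iv F35081)) (tt N13191 F28771) (tt N16447 (iv F29242)) (tt N13189 (iv D16283)) (tt N16025 F28772) (tt N16032 F28773))
theorem Q16254 : ∀ i, i < 16254 → P i := stepQ 16253 Q16253 (allL N16253 (tt N19089 D19123) (tt N13192 (iv D16284)) (tt N13195 F28774) (tt N19090 D19124) (tt N19091 D19125) (tt N17627 (iv F31670)))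
theorem Q16255 : ∀ i, i < 16255 → P i := stepQ 16254 Q16254 (allL N16254 (tt N18645 (iv F34039)) (tt N19090 (iv F35086)) (tt N18935 (iv F34771)) (tt N13192 (iv D16285)) (tt N19092 D19126) (tt N19093 D19127))
theorem Q16256 : ∀ i, i < 16256 → P i := stepQ 16255 Q16255 (allL N16255 (tt N13329 F28775) (tt N19091 (iv F35087)) (tt N13193 F28776) (tt N19094 D19128) (tt N13192 (iv D16286)) (tt N19095 D19129))
theorem Q16257 : ∀ i, i < 16257 → P i := stepQ 16256 Q16256 (allL N16256 (tt N18646 (iv F34042)) (tt N17627 (iv F31669)) (tt N13194 F28777) (tt N19093 (iv F35091)) (tt N19096 D19130) (tt N13192 (iv D16287)))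
theorem Q16258 : ∀ i, i < 16258 → P i := stepQ 16257 Q16257 (allL N16257 (tt N13330 F28778) (tt N13197 F28779) (tt N19095 (iv F35096)) (tt N13243 F28780) (tt N19097 D19131) (tt N13193 (iv D16288)))
theorem Q16259 : ∀ i, i < 16259 → P i := stepQ 16258 Q16258 (allL N16258 (tt N18647 (iv F34045)) (tt N13198 F28781) (tt N19096 (iv F35098)) (tt N13266 F28782) (tt N13194 (iv D16289)) (tt N19097 (iv F35102)))
theorem Q16260 : ∀ i, i < 16260 → P i := stepQ 16259 Q16259 (allL N16259 (tt N13195 (iv D16290)) (tt N17632 (iv F31683)) (tt N19089 (iv F35085)) (tt N17626 (iv F31668)) (tt N19098 D19132) (tt N17625 F31664))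
theorem Q16261 : ∀ i, i < 16261 → P i := stepQ 16260 Q16260 (allL N16260 (tt N19098 (iv F35103)) (tt N13196 F28783) (tt N19091 (iv F35088)) (tt N19099 D19133) (tt N13195 (iv D16291)) (tt N19100 D19134))
theorem Q16262 : ∀ i, i < 16262 → P i := stepQ 16261 Q16261 (allL N16261 (tt N17634 (iv F31689)) (tt N19099 (iv F35104)) (tt N19101 D19135) (tt N13196 (iv D16292)) (tt N17631 (iv F31681)) (tt N19102 D19136))
theorem Q16263 : ∀ i, i < 16263 → P i := stepQ 16262 Q16262 (allL N16262 (tt N17635 (iv F31691)) (tt N19100 (iv F35105)) (tt N13197 F28784) (tt N19102 (iv F35111)) (tt N17630 (iv F31679)) (tt N13196 (iv D16293)))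
theorem Q16264 : ∀ i, i < 16264 → P i := stepQ 16263 Q16263 (allL N16263 (tt N17636 (iv F31694)) (tt N19097 (iv F35100)) (tt N17630 (iv F31677)) (tt N14925 F28785) (tt N13197 (iv D16294)) (tt N13198 F28786))
theorem Q16265 : ∀ i, i < 16265 → P i := stepQ 16264 Q16264 (allL N16264 (tt N18933 (iv F34764)) (tt N13199 (iv D16295)) (tt N13345 F28787) (tt N19103 D19137) (tt N13259 F28788) (tt N18931 F34762))
theorem Q16266 : ∀ i, i < 16266 → P i := stepQ 16265 Q16265 (allL N16265 (tt N13200 F28789) (tt N19103 (iv F35113)) (tt N19093 (iv F35090)) (tt N13199 (iv D16296)) (tt N19104 D19138) (tt N18935 (iv F34772)))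
theorem Q16267 : ∀ i, i < 16267 → P i := stepQ 16266 Q16266 (allL N16266 (tt N19093 (iv F35089)) (tt N19105 D19139) (tt N13200 (iv D16297)) (tt N18646 (iv F34044)) (tt N19106 D19140) (tt N18645 F34041))
theorem Q16268 : ∀ i, i < 16268 → P i := stepQ 16267 Q16267 (allL N16267 (tt N19104 (iv F35114)) (tt N18940 (iv F34777)) (tt N19106 (iv F35116)) (tt N13270 F28790) (tt N13200 (iv D16298)) (tt N19107 D19141))
theorem Q16269 : ∀ i, i < 16269 → P i := stepQ 16268 Q16268 (allL N16268 (tt N15956 F28791) (tt N19108 D19142) (tt N13201 (iv D16299)) (tt N16061 F28792) (tt N18820 (iv F34434)) (tt N16060 F28793))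
theorem Q16270 : ∀ i, i < 16270 → P i := stepQ 16269 Q16269 (allL N16269 (tt N13203 F28794) (tt N16154 (iv F28797)) (tt N13202 (iv D16300)) (tt N16335 (iv F28977)) (tt N16148 F28795) (tt N16152 F28796))
theorem Q16271 : ∀ i, i < 16271 → P i := stepQ 16270 Q16270 (allL N16270 (tt N19109 D19143) (tt N13208 (iv D16301)) (tt N13209 F28798) (tt N19110 D19144) (tt N14114 F28799) (tt N18843 (iv F34512)))
theorem Q16272 : ∀ i, i < 16272 → P i := stepQ 16271 Q16271 (allL N16271 (tt N13450 F28800) (tt N19110 (iv F35123)) (tt N18850 (iv F34532)) (tt N13208 (iv D16302)) (tt N19111 D19145) (tt N18844 (iv F34515)))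
theorem Q16273 : ∀ i, i < 16273 → P i := stepQ 16272 Q16272 (allL N16272 (tt N13209 (iv D16303)) (tt N13232 F28801) (tt N19109 (iv F35121)) (tt N18846 (iv F34520)) (tt N14118 F28802) (tt N18846 (iv F34521)))
theorem Q16274 : ∀ i, i < 16274 → P i := stepQ 16273 Q16273 (allL N16273 (tt N13210 (iv D16304)) (tt N13212 F28803) (tt N15023 F28804) (tt N13217 (iv F28806)) (tt N13218 F28805) (tt N13210 (iv F28807)))
theorem Q16275 : ∀ i, i < 16275 → P i := stepQ 16274 Q16274 (allL N16274 (tt N13217 F28808) (tt N13211 F28809) (tt N13239 (iv F28812)) (tt N13210 (iv D16305)) (tt N13211 F28810) (tt N13217 F28811))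
theorem Q16276 : ∀ i, i < 16276 → P i := stepQ 16275 Q16275 (allL N16275 (tt N13215 F28813) (tt N13218 F28814) (tt N13213 F28815) (tt N13215 F28816) (tt N13212 (iv D16306)) (tt N15019 F28817))
theorem Q16277 : ∀ i, i < 16277 → P i := stepQ 16276 Q16276 (allL N16276 (tt N15019 F28818) (tt N13219 F28819) (tt N13220 F28820) (tt N15019 F28821) (tt N13219 F28822) (tt N13215 (iv D16307)))
theorem Q16278 : ∀ i, i < 16278 → P i := stepQ 16277 Q16277 (allL N16277 (tt N13278 F28823) (tt N13216 (iv D16308)) (tt N13234 F28824) (tt N13235 F28825) (tt N13238 (iv F28827)) (tt N13234 F28826))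
theorem Q16279 : ∀ i, i < 16279 → P i := stepQ 16278 Q16278 (allL N16278 (tt N13239 F28828) (tt N13238 F28829) (tt N13217 F28830) (tt N13271 (iv F28832)) (tt N13216 (iv D16309)) (tt N13239 F28831))
theorem Q16280 : ∀ i, i < 16280 → P i := stepQ 16279 Q16279 (allL N16279 (tt N19112 D19146) (tt N13221 (iv D16310)) (tt N13465 F28833) (tt N14121 F28834) (tt N13223 F28835) (tt N14123 F28836))
theorem Q16281 : ∀ i, i < 16281 → P i := stepQ 16280 Q16280 (allL N16280 (tt N13223 (iv D16311)) (tt N18846 (iv F34519)) (tt N13462 F28837) (tt N13232 F28838) (tt N19112 (iv F35128)) (tt N13232 F28839))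
theorem Q16282 : ∀ i, i < 16282 → P i := stepQ 16281 Q16281 (allL N16281 (tt N14480 F28840) (tt N13224 (iv D16312)) (tt N13226 F28841) (tt N17142 (iv F30667)) (tt N14098 F28842) (tt N17141 F30663))
theorem Q16283 : ∀ i, i < 16283 → P i := stepQ 16282 Q16282 (allL N16282 (tt N14461 F28843) (tt N17142 (iv F30665)) (tt N19113 D19147) (tt N13224 (iv D16313)) (tt N19114 D19148) (tt N14475 F28844))
theorem Q16284 : ∀ i, i < 16284 → P i := stepQ 16283 Q16283 (allL N16283 (tt N14462 F28845) (tt N17141 (iv F30661)) (tt N13225 F28846) (tt N14475 F28847) (tt N17263 (iv F30913)) (tt N13224 (iv D16314)))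
theorem Q16285 : ∀ i, i < 16285 → P i := stepQ 16284 Q16284 (allL N16284 (tt N13226 (iv D16315)) (tt N14122 F28848) (tt N14480 F28849) (tt N19115 D19149) (tt N14100 F28850) (tt N17146 (iv F30674)))
theorem Q16286 : ∀ i, i < 16286 → P i := stepQ 16285 Q16285 (allL N16285 (tt N19115 (iv F35135)) (tt N13227 F28851) (tt N17155 (iv F30686)) (tt N13226 (iv D16316)) (tt N14120 F28852) (tt N18845 (iv F34518)))
theorem Q16287 : ∀ i, i < 16287 → P i := stepQ 16286 Q16286 (allL N16286 (tt N17146 (iv F30673)) (tt N13228 F28853) (tt N17141 F30662) (tt N18845 (iv F34516)) (tt N14119 F28854) (tt N13226 (iv D16317)))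
theorem Q16288 : ∀ i, i < 16288 → P i := stepQ 16287 Q16287 (allL N16287 (tt N19116 D19150) (tt N13229 (iv D16318)) (tt N13458 F28855) (tt N14112 F28856) (tt N14123 F28857) (tt N13230 F28858))
theorem Q16289 : ∀ i, i < 16289 → P i := stepQ 16288 Q16288 (allL N16288 (tt N13230 (iv D16319)) (tt N14118 F28859) (tt N13456 F28860) (tt N19117 D19151) (tt N13232 F28861) (tt N19116 (iv F35142)))
theorem Q16290 : ∀ i, i < 16290 → P i := stepQ 16289 Q16289 (allL N16289 (tt N19117 (iv F35143)) (tt N13231 F28862) (tt N14479 (iv F28865)) (tt N13230 (iv D16320)) (tt N14121 F28863) (tt N14112 F28864))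
theorem Q16291 : ∀ i, i < 16291 → P i := stepQ 16290 Q16290 (allL N16290 (tt N13234 F28866) (tt N13237 F28867) (tt N13278 F28868) (tt N13233 (iv D16321)) (tt N13237 F28869) (tt N13278 F28870))
theorem Q16292 : ∀ i, i < 16292 → P i := stepQ 16291 Q16291 (allL N16291 (tt N13279 F28871) (tt N13236 F28872) (tt N13295 F28873) (tt N13272 F28874) (tt N13235 (iv D16322)) (tt N13416 F28875))
theorem Q16293 : ∀ i, i < 16293 → P i := stepQ 16292 Q16292 (allL N16292 (tt N13240 F28876) (tt N13272 F28877) (tt N13441 F28880) (tt N13236 (iv D16323)) (tt N13271 F28878) (tt N13417 F28879))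
theorem Q16294 : ∀ i, i < 16294 → P i := stepQ 16293 Q16293 (allL N16293 (tt N13271 F28885) (tt N13273 F28886) (tt N18785 (iv F34301)) (tt N13239 (iv D16324)) (tt N13240 F28887) (tt N13271 F28888))
theorem Q16295 : ∀ i, i < 16295 → P i := stepQ 16294 Q16294 (allL N16294 (tt N13441 F28889) (tt N18789 (iv F34325)) (tt N13240 (iv D16325)) (tt N13415 F28891) (tt N18785 (iv F34302)) (tt N13442 F28890))
theorem Q16296 : ∀ i, i < 16296 → P i := stepQ 16295 Q16295 (allL N16295 (tt N19067 (iv F35036)) (tt N13241 (iv D16326)) (tt N13259 F28892) (tt N19118 D19152) (tt N13345 F28893) (tt N18849 (iv F34530)))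
theorem Q16297 : ∀ i, i < 16297 → P i := stepQ 16296 Q16296 (allL N16296 (tt N13242 F28894) (tt N19118 (iv F35148)) (tt N18844 (iv F34514)) (tt N13241 (iv D16327)) (tt N19119 D19153) (tt N18850 (iv F34533)))
theorem Q16298 : ∀ i, i < 16298 → P i := stepQ 16297 Q16297 (allL N16297 (tt N18844 (iv F34513)) (tt N19120 D19154) (tt N13242 (iv D16328)) (tt N13451 F28896) (tt N19121 D19155) (tt N13450 F28895))
theorem Q16299 : ∀ i, i < 16299 → P i := stepQ 16298 Q16298 (allL N16298 (tt N19119 (iv F35149)) (tt N19076 (iv F35053)) (tt N19121 (iv F35153)) (tt N13348 F28897) (tt N13242 (iv D16329)) (tt N19122 D19156))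
theorem Q16300 : ∀ i, i < 16300 → P i := stepQ 16299 Q16299 (allL N16299 (tt N18827 (iv F34457)) (tt N13246 F28898) (tt N18827 (iv F34459)) (tt N19123 D19157) (tt N13244 (iv D16330)) (tt N19124 D19158))
theorem Q16301 : ∀ i, i < 16301 → P i := stepQ 16300 Q16300 (allL N16300 (tt N18856 (iv F34549)) (tt N13247 F28899) (tt N19125 D19159) (tt N13245 (iv D16331)) (tt N19123 (iv F35156)) (tt N19126 D19160))
theorem Q16302 : ∀ i, i < 16302 → P i := stepQ 16301 Q16301 (allL N16301 (tt N14777 F28900) (tt N13248 F28901) (tt N14871 F28902) (tt N19126 (iv F35161)) (tt N14800 F28903) (tt N13245 (iv D16332)))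
theorem Q16303 : ∀ i, i < 16303 → P i := stepQ 16302 Q16302 (allL N16302 (tt N13252 F28904) (tt N19123 (iv F35155)) (tt N19127 D19161) (tt N13246 (iv D16333)) (tt N13247 F28905) (tt N19128 D19162))
theorem Q16304 : ∀ i, i < 16304 → P i := stepQ 16303 Q16303 (allL N16303 (tt N13253 F28906) (tt N19124 (iv F35157)) (tt N13312 F28907) (tt N19128 (iv F35165)) (tt N13309 F28908) (tt N13246 (iv D16334)))
theorem Q16305 : ∀ i, i < 16305 → P i := stepQ 16304 Q16304 (allL N16304 (tt N13254 F28909) (tt N18602 (iv F33923)) (tt N13247 (iv D16335)) (tt N13265 F28910) (tt N19127 (iv F35163)) (tt N13264 (iv F28911)))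
theorem Q16306 : ∀ i, i < 16306 → P i := stepQ 16305 Q16305 (allL N16305 (tt N13255 F28912) (tt N19126 (iv F35160)) (tt N13264 F28913) (tt N13248 F28914) (tt N19129 D19163) (tt N13247 (iv D16336)))
theorem Q16307 : ∀ i, i < 16307 → P i := stepQ 16306 Q16306 (allL N16306 (tt N13443 F28915) (tt N13249 (iv D16337)) (tt N18849 (iv F34528)) (tt N13340 F28916) (tt N18869 (iv F34594)) (tt N13259 F28917))
theorem Q16308 : ∀ i, i < 16308 → P i := stepQ 16307 Q16307 (allL N16307 (tt N18822 (iv F34438)) (tt N13251 F28918) (tt N18822 (iv F34440)) (tt N19130 D19164) (tt N13250 (iv D16338)) (tt N19131 D19165))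
theorem Q16309 : ∀ i, i < 16309 → P i := stepQ 16308 Q16308 (allL N16308 (tt N13313 F28919) (tt N19130 (iv F35169)) (tt N19132 D19166) (tt N13251 (iv D16339)) (tt N13300 F28920) (tt N19133 D19167))
theorem Q16310 : ∀ i, i < 16310 → P i := stepQ 16309 Q16309 (allL N16309 (tt N13312 F28921) (tt N19131 (iv F35172)) (tt N13253 F28922) (tt N19133 (iv F35178)) (tt N13297 F28923) (tt N13251 (iv D16340)))
theorem Q16311 : ∀ i, i < 16311 → P i := stepQ 16310 Q16310 (allL N16310 (tt N19127 (iv F35162)) (tt N19134 D19168) (tt N13252 (iv D16341)) (tt N19135 D19169) (tt N13254 F28924) (tt N19136 D19170))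
theorem Q16312 : ∀ i, i < 16312 → P i := stepQ 16311 Q16311 (allL N16311 (tt N19128 (iv F35164)) (tt N18866 (iv F34584)) (tt N19136 (iv F35180)) (tt N13253 F28925) (tt N19137 D19171) (tt N13252 (iv D16342)))
theorem Q16313 : ∀ i, i < 16313 → P i := stepQ 16312 Q16312 (allL N16312 (tt N19138 D19172) (tt N13254 (iv D16343)) (tt N18868 (iv F34589)) (tt N19139 D19173) (tt N19134 (iv F35179)) (tt N19140 D19174))
theorem Q16314 : ∀ i, i < 16314 → P i := stepQ 16313 Q16313 (allL N16313 (tt N13265 F28926) (tt N19139 (iv F35184)) (tt N13258 F28927) (tt N13254 (iv D16344)) (tt N19141 D19175) (tt N13257 F28928))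
theorem Q16315 : ∀ i, i < 16315 → P i := stepQ 16314 Q16314 (allL N16314 (tt N13264 F28929) (tt N19140 (iv F35186)) (tt N13255 F28930) (tt N13257 F28931) (tt N19142 D19176) (tt N13254 (iv D16345)))
theorem Q16316 : ∀ i, i < 16316 → P i := stepQ 16315 Q16315 (allL N16315 (tt N19129 (iv F35166)) (tt N14780 F28932) (tt N19142 (iv F35193)) (tt N14810 F28933) (tt N13255 (iv D16346)) (tt N19137 (iv F35183)))
theorem Q16317 : ∀ i, i < 16317 → P i := stepQ 16316 Q16316 (allL N16316 (tt N13341 F28934) (tt N13446 F28935) (tt N13328 F28936) (tt N18872 (iv F34608)) (tt N13256 (iv D16347)) (tt N19143 D19177))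
theorem Q16318 : ∀ i, i < 16318 → P i := stepQ 16317 Q16317 (allL N16317 (tt N19144 D19178) (tt N13257 (iv D16348)) (tt N18553 (iv F33782)) (tt N19140 (iv F35188)) (tt N13351 F28937) (tt N19139 F35185))
theorem Q16319 : ∀ i, i < 16319 → P i := stepQ 16318 Q16318 (allL N16318 (tt N13266 F28938) (tt N18554 (iv F33785)) (tt N19141 (iv F35190)) (tt N18647 (iv F34047)) (tt N13258 (iv D16349)) (tt N13354 F28939))
theorem Q16320 : ∀ i, i < 16320 → P i := stepQ 16319 Q16319 (allL N16319 (tt N13259 (iv D16350)) (tt N13267 F28940) (tt N19067 (iv F35038)) (tt N19145 D19179) (tt N18933 (iv F34767)) (tt N13443 F28941))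
theorem Q16321 : ∀ i, i < 16321 → P i := stepQ 16320 Q16320 (allL N16320 (tt N19145 (iv F35201)) (tt N13260 F28942) (tt N19146 D19180) (tt N13259 (iv D16351)) (tt N19147 D19181) (tt N13340 F28943))
theorem Q16322 : ∀ i, i < 16322 → P i := stepQ 16321 Q16321 (allL N16321 (tt N13270 F28944) (tt N19147 (iv F35206)) (tt N13322 F28945) (tt N19104 (iv F35115)) (tt N13260 (iv D16352)) (tt N19148 D19182))
theorem Q16323 : ∀ i, i < 16323 → P i := stepQ 16322 Q16322 (allL N16322 (tt N19149 D19183) (tt N13261 (iv D16353)) (tt N14922 F28946) (tt N15863 F28947) (tt N13263 F28948) (tt N15862 F28949))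
theorem Q16324 : ∀ i, i < 16324 → P i := stepQ 16323 Q16323 (allL N16323 (tt N13354 F28950) (tt N14925 F28951) (tt N15864 F28952) (tt N19097 (iv F35101)) (tt N13262 (iv D16354)) (tt N13266 F28953))
theorem Q16325 : ∀ i, i < 16325 → P i := stepQ 16324 Q16324 (allL N16324 (tt N13263 (iv D16355)) (tt N19144 (iv F35199)) (tt N14921 F28954) (tt N19150 D19184) (tt N19149 (iv F35213)) (tt N18599 (iv F33917)))
theorem Q16326 : ∀ i, i < 16326 → P i := stepQ 16325 Q16325 (allL N16325 (tt N19150 (iv F35215)) (tt N13264 F28955) (tt N19151 D19185) (tt N13263 (iv D16356)) (tt N19152 D19186) (tt N18602 (iv F33924)))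
theorem Q16327 : ∀ i, i < 16327 → P i := stepQ 16326 Q16326 (allL N16326 (tt N19142 (iv F35192)) (tt N19152 (iv F35216)) (tt N19129 (iv F35167)) (tt N15865 F28956) (tt N13264 (iv D16357)) (tt N19153 D19187))
theorem Q16328 : ∀ i, i < 16328 → P i := stepQ 16327 Q16327 (allL N16327 (tt N19141 (iv F35189)) (tt N18603 (iv F33925)) (tt N13266 F28957) (tt N19154 D19188) (tt N13265 (iv D16358)) (tt N15864 F28958))
theorem Q16329 : ∀ i, i < 16329 → P i := stepQ 16328 Q16328 (allL N16328 (tt N13268 F28959) (tt N19145 (iv F35202)) (tt N13424 F28961) (tt N13267 (iv D16359)) (tt N19155 D19189) (tt N13444 F28960))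
theorem Q16330 : ∀ i, i < 16330 → P i := stepQ 16329 Q16329 (allL N16329 (tt N13424 F28962) (tt N19156 D19190) (tt N13268 (iv D16360)) (tt N13419 F28964) (tt N19157 D19191) (tt N13445 F28963))
theorem Q16331 : ∀ i, i < 16331 → P i := stepQ 16330 Q16330 (allL N16330 (tt N19155 (iv F35220)) (tt N13270 F28965) (tt N19157 (iv F35226)) (tt N18940 (iv F34778)) (tt N13268 (iv D16361)) (tt N19158 D19192))
theorem Q16332 : ∀ i, i < 16332 → P i := stepQ 16331 Q16331 (allL N16331 (tt N19159 D19193) (tt N13269 (iv D16362)) (tt N19156 (iv F35222)) (tt N13302 F28966) (tt N19160 D19194) (tt N13327 F28967))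
theorem Q16333 : ∀ i, i < 16333 → P i := stepQ 16332 Q16332 (allL N16332 (tt N13322 F28968) (tt N19160 (iv F35232)) (tt N13270 F28969) (tt N19161 D19195) (tt N13269 (iv D16363)) (tt N19162 D19196))
theorem Q16334 : ∀ i, i < 16334 → P i := stepQ 16333 Q16333 (allL N16333 (tt N19148 (iv F35207)) (tt N19158 (iv F35227)) (tt N19162 (iv F35237)) (tt N19107 (iv F35117)) (tt N19143 (iv F35198)) (tt N13270 (iv D16364)))
theorem Q16335 : ∀ i, i < 16335 → P i := stepQ 16334 Q16334 (allL N16334 (tt N13280 F28970) (tt N13417 F28971) (tt N13274 F28972) (tt N13416 F28973) (tt N13289 F28974) (tt N13272 (iv D16365)))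
theorem Q16336 : ∀ i, i < 16336 → P i := stepQ 16335 Q16335 (allL N16335 (tt N13281 F28975) (tt N18790 (iv F34330)) (tt N13289 F28976) (tt N16269 F28977) (tt N13274 (iv D16366)) (tt N13275 F28978))
theorem Q16337 : ∀ i, i < 16337 → P i := stepQ 16336 Q16336 (allL N16336 (tt N13289 F28979) (tt N13280 F28980) (tt N13281 F28981) (tt N13287 F28982) (tt N13280 F28983) (tt N13277 (iv D16367)))
theorem Q16338 : ∀ i, i < 16338 → P i := stepQ 16337 Q16337 (allL N16337 (tt N13416 F28984) (tt N13287 F28985) (tt N14926 F28986) (tt N13280 F28987) (tt N13418 F28988) (tt N13279 (iv D16368)))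
theorem Q16339 : ∀ i, i < 16339 → P i := stepQ 16338 Q16338 (allL N16338 (tt N13290 F28989) (tt N15428 F28990) (tt N15105 F28991) (tt N13288 (iv D16369)) (tt N16205 (iv F28993)) (tt N15093 F28992))
theorem Q16340 : ∀ i, i < 16340 → P i := stepQ 16339 Q16339 (allL N16339 (tt N16205 F28994) (tt N14775 F28995) (tt N16202 F28996) (tt N13468 F28997) (tt N13290 (iv D16370)) (tt N15095 F28998))
theorem Q16341 : ∀ i, i < 16341 → P i := stepQ 16340 Q16340 (allL N16340 (tt N14784 F28999) (tt N13296 F29000) (tt N14783 F29002) (tt N13292 (iv D16371)) (tt N13293 F29001) (tt N19163 D19197))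
theorem Q16342 : ∀ i, i < 16342 → P i := stepQ 16341 Q16341 (allL N16341 (tt N18863 (iv F34571)) (tt N13297 F29003) (tt N18863 (iv F34573)) (tt N19163 (iv F35243)) (tt N19131 (iv F35173)) (tt N13292 (iv D16372)))
theorem Q16343 : ∀ i, i < 16343 → P i := stepQ 16342 Q16342 (allL N16342 (tt N13467 F29004) (tt N13298 F29005) (tt N13466 F29006) (tt N13294 F29007) (tt N19164 D19198) (tt N13293 (iv D16373)))
theorem Q16344 : ∀ i, i < 16344 → P i := stepQ 16343 Q16343 (allL N16343 (tt N14926 F29008) (tt N13299 F29009) (tt N13416 F29010) (tt N16160 (iv F29012)) (tt N13294 (iv D16374)) (tt N13295 F29011))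
theorem Q16345 : ∀ i, i < 16345 → P i := stepQ 16344 Q16344 (allL N16344 (tt N18823 (iv F34441)) (tt N13300 F29013) (tt N16161 F29015) (tt N13295 (iv D16375)) (tt N19130 (iv F35170)) (tt N16160 F29014))
theorem Q16346 : ∀ i, i < 16346 → P i := stepQ 16345 Q16345 (allL N16345 (tt N13311 F29016) (tt N19163 (iv F35241)) (tt N15866 F29017) (tt N13297 F29018) (tt N19165 D19199) (tt N13296 (iv D16376)))
theorem Q16347 : ∀ i, i < 16347 → P i := stepQ 16346 Q16346 (allL N16346 (tt N13316 F29019) (tt N19164 (iv F35246)) (tt N13336 F29020) (tt N19166 D19200) (tt N13298 (iv D16377)) (tt N19165 (iv F35253)))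
theorem Q16348 : ∀ i, i < 16348 → P i := stepQ 16347 Q16347 (allL N16347 (tt N13317 F29021) (tt N16160 F29022) (tt N16162 (iv F29024)) (tt N13299 (iv D16378)) (tt N19166 (iv F35256)) (tt N13300 F29023))
theorem Q16349 : ∀ i, i < 16349 → P i := stepQ 16348 Q16348 (allL N16348 (tt N13318 F29025) (tt N16164 F29026) (tt N13300 (iv D16379)) (tt N13374 F29028) (tt N19132 (iv F35176)) (tt N16162 F29027))
theorem Q16350 : ∀ i, i < 16350 → P i := stepQ 16349 Q16349 (allL N16349 (tt N13389 F29029) (tt N13301 (iv D16380)) (tt N13410 F29030) (tt N19167 D19201) (tt N13302 F29031) (tt N13365 F29032))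
theorem Q16351 : ∀ i, i < 16351 → P i := stepQ 16350 Q16350 (allL N16350 (tt N13319 F29033) (tt N19167 (iv F35259)) (tt N19168 D19202) (tt N13301 (iv D16381)) (tt N19161 (iv F35234)) (tt N13367 F29034))
theorem Q16352 : ∀ i, i < 16352 → P i := stepQ 16351 Q16351 (allL N16351 (tt N13302 (iv D16382)) (tt N13320 F29035) (tt N13407 F29036) (tt N19159 (iv F35230)) (tt N13389 F29037) (tt N13326 F29038))
theorem Q16353 : ∀ i, i < 16353 → P i := stepQ 16352 Q16352 (allL N16352 (tt N14786 F29039) (tt N15772 (iv F29042)) (tt N13304 (iv D16383)) (tt N15770 F29041) (tt N13306 F29040) (tt N15769 (iv F29043)))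
theorem Q16354 : ∀ i, i < 16354 → P i := stepQ 16353 Q16353 (allL N16353 (tt N18864 (iv F34575)) (tt N13311 F29044) (tt N15769 F29045) (tt N13305 F29046) (tt N14930 F29047) (tt N13304 (iv D16384)))
theorem Q16355 : ∀ i, i < 16355 → P i := stepQ 16354 Q16354 (allL N16354 (tt N14630 F29048) (tt N13306 (iv D16385)) (tt N13314 F29049) (tt N14629 F29050) (tt N15772 F29051) (tt N14632 F29052))
theorem Q16356 : ∀ i, i < 16356 → P i := stepQ 16355 Q16355 (allL N16355 (tt N18853 (iv F34541)) (tt N13308 F29053) (tt N19169 D19203) (tt N13307 (iv D16386)) (tt N18852 (iv F34539)) (tt N19170 D19204))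
theorem Q16357 : ∀ i, i < 16357 → P i := stepQ 16356 Q16356 (allL N16356 (tt N18854 (iv F34544)) (tt N13309 F29054) (tt N18854 (iv F34546)) (tt N19170 (iv F35265)) (tt N19124 (iv F35158)) (tt N13307 (iv D16387)))
theorem Q16358 : ∀ i, i < 16358 → P i := stepQ 16357 Q16357 (allL N16357 (tt N18859 (iv F34560)) (tt N19171 D19205) (tt N13308 (iv D16388)) (tt N19172 D19206) (tt N18858 (iv F34557)) (tt N19173 D19207))
theorem Q16359 : ∀ i, i < 16359 → P i := stepQ 16358 Q16358 (allL N16358 (tt N18860 (iv F34562)) (tt N19170 (iv F35264)) (tt N19173 (iv F35268)) (tt N13309 F29055) (tt N19174 D19208) (tt N13308 (iv D16389)))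
theorem Q16360 : ∀ i, i < 16360 → P i := stepQ 16359 Q16359 (allL N16359 (tt N18571 (iv F33832)) (tt N13310 (iv D16390)) (tt N15772 F29056) (tt N18286 (iv F33172)) (tt N13314 F29057) (tt N15771 (iv F29058)))
theorem Q16361 : ∀ i, i < 16361 → P i := stepQ 16360 Q16360 (allL N16360 (tt N14677 F29059) (tt N18286 F33173) (tt N19175 D19209) (tt N13310 (iv D16391)) (tt N14672 F29060) (tt N19176 D19210))
theorem Q16362 : ∀ i, i < 16362 → P i := stepQ 16361 Q16361 (allL N16361 (tt N15866 F29061) (tt N15771 F29062) (tt N13311 F29063) (tt N19176 (iv F35277)) (tt N15775 (iv F29064)) (tt N13310 (iv D16392)))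
theorem Q16363 : ∀ i, i < 16363 → P i := stepQ 16362 Q16362 (allL N16362 (tt N19165 (iv F35250)) (tt N14930 F29065) (tt N15775 F29066) (tt N19177 D19211) (tt N13311 (iv D16393)) (tt N13316 F29067))
theorem Q16364 : ∀ i, i < 16364 → P i := stepQ 16363 Q16363 (allL N16363 (tt N19133 (iv F35177)) (tt N18831 (iv F34470)) (tt N19178 D19212) (tt N13312 (iv D16394)) (tt N19177 (iv F35279)) (tt N13313 F29068))
theorem Q16365 : ∀ i, i < 16365 → P i := stepQ 16364 Q16364 (allL N16364 (tt N19132 (iv F35174)) (tt N19179 D19213) (tt N13313 (iv D16395)) (tt N19180 D19214) (tt N13318 F29069) (tt N19178 (iv F35281)))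
theorem Q16366 : ∀ i, i < 16366 → P i := stepQ 16365 Q16365 (allL N16365 (tt N13314 (iv D16396)) (tt N14697 F29070) (tt N14630 F29071) (tt N14696 F29072) (tt N18571 (iv F33836)) (tt N14633 (iv F29073)))
theorem Q16367 : ∀ i, i < 16367 → P i := stepQ 16366 Q16366 (allL N16366 (tt N14633 F29074) (tt N13315 F29075) (tt N14632 F29076) (tt N13325 F29077) (tt N15777 F29078) (tt N13314 (iv D16397)))
theorem Q16368 : ∀ i, i < 16368 → P i := stepQ 16367 Q16367 (allL N16367 (tt N13336 F29079) (tt N15777 F29080) (tt N13316 F29081) (tt N15780 F29082) (tt N13315 (iv D16398)) (tt N15775 F29083))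
theorem Q16369 : ∀ i, i < 16369 → P i := stepQ 16368 Q16368 (allL N16368 (tt N19166 (iv F35254)) (tt N14929 F29084) (tt N19181 D19215) (tt N13316 (iv D16399)) (tt N13317 F29085) (tt N19177 (iv F35280)))
theorem Q16370 : ∀ i, i < 16370 → P i := stepQ 16369 Q16369 (allL N16369 (tt N16162 F29086) (tt N19182 D19216) (tt N13317 (iv D16400)) (tt N19168 (iv F35262)) (tt N19181 (iv F35286)) (tt N13318 F29087))
theorem Q16371 : ∀ i, i < 16371 → P i := stepQ 16370 Q16370 (allL N16370 (tt N19183 D19217) (tt N13318 (iv D16401)) (tt N18832 (iv F34474)) (tt N19184 D19218) (tt N19179 (iv F35282)) (tt N19182 (iv F35290)))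
theorem Q16372 : ∀ i, i < 16372 → P i := stepQ 16371 Q16371 (allL N16371 (tt N13374 F29088) (tt N19184 (iv F35296)) (tt N13367 F29089) (tt N13318 (iv D16402)) (tt N15855 (iv F29090)) (tt N19168 (iv F35263)))
theorem Q16373 : ∀ i, i < 16373 → P i := stepQ 16372 Q16372 (allL N16372 (tt N19168 (iv F35261)) (tt N16163 (iv F29093)) (tt N13319 (iv D16403)) (tt N16162 F29091) (tt N19185 D19219) (tt N13374 F29092))
theorem Q16374 : ∀ i, i < 16374 → P i := stepQ 16373 Q16373 (allL N16373 (tt N19161 (iv F35233)) (tt N13403 F29094) (tt N19185 (iv F35299)) (tt N13322 F29095) (tt N13319 (iv D16404)) (tt N19186 D19220))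
theorem Q16375 : ∀ i, i < 16375 → P i := stepQ 16374 Q16374 (allL N16374 (tt N13321 F29096) (tt N19159 (iv F35229)) (tt N19187 D19221) (tt N13320 (iv D16405)) (tt N19188 D19222) (tt N13337 F29097))
theorem Q16376 : ∀ i, i < 16376 → P i := stepQ 16375 Q16375 (allL N16375 (tt N19187 (iv F35304)) (tt N19146 (iv F35204)) (tt N13321 (iv D16406)) (tt N19189 D19223) (tt N19190 D19224) (tt N13338 F29098))
theorem Q16377 : ∀ i, i < 16377 → P i := stepQ 16376 Q16376 (allL N16376 (tt N19188 (iv F35307)) (tt N13322 F29099) (tt N19190 (iv F35313)) (tt N13403 F29100) (tt N13321 (iv D16407)) (tt N19191 D19225))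
theorem Q16378 : ∀ i, i < 16378 → P i := stepQ 16377 Q16377 (allL N16377 (tt N19162 (iv F35236)) (tt N19191 (iv F35315)) (tt N19148 (iv F35208)) (tt N19186 (iv F35302)) (tt N13342 F29101) (tt N13322 (iv D16408)))
theorem Q16379 : ∀ i, i < 16379 → P i := stepQ 16378 Q16378 (allL N16378 (tt N13333 F29102) (tt N13651 F29103) (tt N13324 F29104) (tt N16605 (iv F29556)) (tt N14673 F29105) (tt N13323 (iv D16409)))
theorem Q16380 : ∀ i, i < 16380 → P i := stepQ 16379 Q16379 (allL N16379 (tt N13325 (iv D16410)) (tt N13334 F29106) (tt N13667 F29107) (tt N14633 F29108) (tt N13666 F29109) (tt N14696 F29110))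
theorem Q16381 : ∀ i, i < 16381 → P i := stepQ 16380 Q16380 (allL N16380 (tt N13327 F29111) (tt N13337 F29112) (tt N19192 D19226) (tt N13326 (iv D16411)) (tt N14949 F29113) (tt N19159 (iv F35231)))
theorem Q16382 : ∀ i, i < 16382 → P i := stepQ 16381 Q16381 (allL N16381 (tt N19192 (iv F35318)) (tt N13445 F29114) (tt N13327 (iv D16412)) (tt N19193 D19227) (tt N19194 D19228) (tt N19156 (iv F35224)))
theorem Q16383 : ∀ i, i < 16383 → P i := stepQ 16382 Q16382 (allL N16382 (tt N14949 F29115) (tt N13328 F29116) (tt N19194 (iv F35324)) (tt N13364 F29117) (tt N13327 (iv D16413)) (tt N19195 D19229))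
theorem Q16384 : ∀ i, i < 16384 → P i := stepQ 16383 Q16383 (allL N16383 (tt N13342 F29118) (tt N19195 (iv F35328)) (tt N19143 (iv F35197)) (tt N13366 F29119) (tt N19162 (iv F35239)) (tt N13328 (iv D16414)))
theorem Q16385 : ∀ i, i < 16385 → P i := stepQ 16384 Q16384 (allL N16384 (tt N16391 (iv F29139)) (tt N13329 (iv D16415)) (tt N13539 F29120) (tt N16386 F29122) (tt N18644 (iv F34038)) (tt N16385 (iv F29124)))
theorem Q16386 : ∀ i, i < 16386 → P i := stepQ 16385 Q16385 (allL N16385 (tt N19094 (iv F35092)) (tt N16386 (iv F29123)) (tt N16605 (iv F29555)) (tt N13329 (iv D16416)) (tt N19196 D19230) (tt N16384 F29124))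
theorem Q16387 : ∀ i, i < 16387 → P i := stepQ 16386 Q16386 (allL N16386 (tt N19095 (iv F35095)) (tt N16385 F29123) (tt N13330 F29121) (tt N16384 (iv F29122)) (tt N19197 D19231) (tt N13329 (iv D16417)))
theorem Q16388 : ∀ i, i < 16388 → P i := stepQ 16387 Q16387 (allL N16387 (tt N19097 (iv F35099)) (tt N13542 F29125) (tt N19197 (iv F35332)) (tt N13354 F29126) (tt N13330 (iv D16418)) (tt N18647 (iv F34048)))
theorem Q16389 : ∀ i, i < 16389 → P i := stepQ 16388 Q16388 (allL N16388 (tt N13331 (iv D16419)) (tt N13666 F29127) (tt N13362 F29128) (tt N15782 (iv F29130)) (tt N13334 F29129) (tt N13664 (iv F29131)))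
theorem Q16390 : ∀ i, i < 16390 → P i := stepQ 16389 Q16389 (allL N16389 (tt N15782 F29132) (tt N13332 F29133) (tt N19198 D19232) (tt N13331 (iv D16420)) (tt N15784 (iv F29134)) (tt N19199 D19233))
theorem Q16391 : ∀ i, i < 16391 → P i := stepQ 16390 Q16390 (allL N16390 (tt N13664 F29135) (tt N13333 F29136) (tt N13361 F29137) (tt N19199 (iv F35338)) (tt N13530 F29138) (tt N13331 (iv D16421)))
theorem Q16392 : ∀ i, i < 16392 → P i := stepQ 16391 Q16391 (allL N16391 (tt N16384 F29139) (tt N19200 D19234) (tt N13332 (iv D16422)) (tt N19095 (iv F35097)) (tt N19201 D19235) (tt N19094 (iv F35094)))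
theorem Q16393 : ∀ i, i < 16393 → P i := stepQ 16392 Q16392 (allL N16392 (tt N15780 F29140) (tt N15784 F29141) (tt N19201 (iv F35344)) (tt N13336 F29142) (tt N13332 (iv D16423)) (tt N19202 D19236))
theorem Q16394 : ∀ i, i < 16394 → P i := stepQ 16393 Q16393 (allL N16393 (tt N16605 (iv F29553)) (tt N19199 (iv F35337)) (tt N19094 (iv F35093)) (tt N13333 F29143) (tt N19203 D19237) (tt N13332 (iv D16424)))
theorem Q16395 : ∀ i, i < 16395 → P i := stepQ 16394 Q16394 (allL N16394 (tt N15430 F29144) (tt N13336 F29145) (tt N15427 F29146) (tt N15784 F29147) (tt N13335 (iv D16425)) (tt N19204 D19238))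
theorem Q16396 : ∀ i, i < 16396 → P i := stepQ 16395 Q16395 (allL N16395 (tt N15775 F29148) (tt N19204 (iv F35350)) (tt N19165 (iv F35252)) (tt N19202 (iv F35347)) (tt N15866 F29149) (tt N13336 (iv D16426)))
theorem Q16397 : ∀ i, i < 16397 → P i := stepQ 16396 Q16396 (allL N16396 (tt N13338 F29150) (tt N19205 D19239) (tt N13337 (iv D16427)) (tt N19077 (iv F35057)) (tt N15822 F29151) (tt N19187 (iv F35306)))
theorem Q16398 : ∀ i, i < 16398 → P i := stepQ 16397 Q16397 (allL N16397 (tt N19206 D19240) (tt N13338 (iv D16428)) (tt N13340 F29152) (tt N19207 D19241) (tt N19208 D19242) (tt N19146 (iv F35205)))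
theorem Q16399 : ∀ i, i < 16399 → P i := stepQ 16398 Q16398 (allL N16398 (tt N19077 (iv F35055)) (tt N19207 (iv F35356)) (tt N19069 (iv F35044)) (tt N13338 (iv D16429)) (tt N19209 D19243) (tt N19189 (iv F35312)))
theorem Q16400 : ∀ i, i < 16400 → P i := stepQ 16399 Q16399 (allL N16399 (tt N15822 F29153) (tt N19208 (iv F35357)) (tt N13339 F29154) (tt N19210 D19244) (tt N13338 (iv D16430)) (tt N19211 D19245))
theorem Q16401 : ∀ i, i < 16401 → P i := stepQ 16400 Q16400 (allL N16400 (tt N15823 F29155) (tt N13342 F29156) (tt N19211 (iv F35363)) (tt N13368 F29157) (tt N19191 (iv F35317)) (tt N13339 (iv D16431)))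
theorem Q16402 : ∀ i, i < 16402 → P i := stepQ 16401 Q16401 (allL N16401 (tt N13340 (iv D16432)) (tt N13444 F29158) (tt N19206 (iv F35355)) (tt N13443 F29159) (tt N19036 (iv F34976)) (tt N19145 (iv F35203)))
theorem Q16403 : ∀ i, i < 16403 → P i := stepQ 16402 Q16402 (allL N16402 (tt N19036 (iv F34974)) (tt N13341 F29160) (tt N19208 (iv F35358)) (tt N19035 (iv F34973)) (tt N13340 (iv D16433)) (tt N19212 D19246))
theorem Q16404 : ∀ i, i < 16404 → P i := stepQ 16403 Q16403 (allL N16403 (tt N18872 (iv F34606)) (tt N19035 (iv F34972)) (tt N19213 D19247) (tt N13341 (iv D16434)) (tt N18870 (iv F34600)) (tt N19214 D19248))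
theorem Q16405 : ∀ i, i < 16405 → P i := stepQ 16404 Q16404 (allL N16404 (tt N19143 (iv F35195)) (tt N19212 (iv F35365)) (tt N13342 F29161) (tt N19214 (iv F35370)) (tt N19148 (iv F35209)) (tt N13341 (iv D16435)))
theorem Q16406 : ∀ i, i < 16406 → P i := stepQ 16405 Q16405 (allL N16405 (tt N18849 (iv F34527)) (tt N13343 (iv D16436)) (tt N13443 F29162) (tt N19215 D19249) (tt N13394 F29163) (tt N19067 (iv F35039)))
theorem Q16407 : ∀ i, i < 16407 → P i := stepQ 16406 Q16406 (allL N16406 (tt N13344 F29164) (tt N19215 (iv F35371)) (tt N19189 (iv F35311)) (tt N13343 (iv D16437)) (tt N19216 D19250) (tt N19069 (iv F35043)))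
theorem Q16408 : ∀ i, i < 16408 → P i := stepQ 16407 Q16407 (allL N16407 (tt N19189 (iv F35310)) (tt N19217 D19251) (tt N13344 (iv D16438)) (tt N19187 (iv F35305)) (tt N19218 D19252) (tt N19077 (iv F35056)))
theorem Q16409 : ∀ i, i < 16409 → P i := stepQ 16408 Q16408 (allL N16408 (tt N19216 (iv F35372)) (tt N18851 (iv F34534)) (tt N19218 (iv F35375)) (tt N13405 F29165) (tt N13344 (iv D16439)) (tt N19219 D19253))
theorem Q16410 : ∀ i, i < 16410 → P i := stepQ 16409 Q16409 (allL N16409 (tt N19058 (iv F35016)) (tt N13346 F29166) (tt N19220 D19254) (tt N13345 (iv D16440)) (tt N19221 D19255) (tt N17664 (iv F31771)))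
theorem Q16411 : ∀ i, i < 16411 → P i := stepQ 16410 Q16410 (allL N16410 (tt N13348 F29167) (tt N19221 (iv F35377)) (tt N17667 (iv F31776)) (tt N19119 (iv F35150)) (tt N13346 (iv D16441)) (tt N19222 D19256))
theorem Q16412 : ∀ i, i < 16412 → P i := stepQ 16411 Q16411 (allL N16411 (tt N18349 (iv F33315)) (tt N13347 (iv D16442)) (tt N19048 (iv F34997)) (tt N16590 F29520) (tt N18348 (iv F33313)) (tt N17659 (iv F31758)))
theorem Q16413 : ∀ i, i < 16413 → P i := stepQ 16412 Q16412 (allL N16412 (tt N17667 (iv F31775)) (tt N18348 (iv F33312)) (tt N13348 F29168) (tt N18347 (iv F33310)) (tt N13347 (iv D16443)) (tt N19223 D19257))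
theorem Q16414 : ∀ i, i < 16414 → P i := stepQ 16413 Q16413 (allL N16413 (tt N19222 (iv F35378)) (tt N19075 (iv F35051)) (tt N19223 (iv F35380)) (tt N19122 (iv F35154)) (tt N19070 (iv F35046)) (tt N13348 (iv D16444)))
theorem Q16415 : ∀ i, i < 16415 → P i := stepQ 16414 Q16414 (allL N16414 (tt N19224 D19258) (tt N13349 (iv D16445)) (tt N13351 F29169) (tt N19225 D19259) (tt N18553 (iv F33783)) (tt N19226 D19260))
theorem Q16416 : ∀ i, i < 16416 → P i := stepQ 16415 Q16415 (allL N16415 (tt N18556 (iv F33790)) (tt N19225 (iv F35383)) (tt N19227 D19261) (tt N13349 (iv D16446)) (tt N19228 D19262) (tt N19229 D19263))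
theorem Q16417 : ∀ i, i < 16417 → P i := stepQ 16416 Q16416 (allL N16416 (tt N18557 (iv F33794)) (tt N19226 (iv F35384)) (tt N13350 F29170) (tt N19229 (iv F35395)) (tt N19230 D19264) (tt N13349 (iv D16447)))
theorem Q16418 : ∀ i, i < 16418 → P i := stepQ 16417 Q16417 (allL N16417 (tt N18558 (iv F33797)) (tt N13354 F29171) (tt N19230 (iv F35396)) (tt N13542 F29172) (tt N13350 (iv D16448)) (tt N18554 (iv F33787)))
theorem Q16419 : ∀ i, i < 16419 → P i := stepQ 16418 Q16418 (allL N16418 (tt N13351 (iv D16449)) (tt N19149 (iv F35210)) (tt N19224 (iv F35382)) (tt N19231 D19265) (tt N19144 (iv F35200)) (tt N19232 D19266))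
theorem Q16420 : ∀ i, i < 16420 → P i := stepQ 16419 Q16419 (allL N16419 (tt N19231 (iv F35397)) (tt N13352 F29173) (tt N19233 D19267) (tt N13351 (iv D16450)) (tt N19234 D19268) (tt N15853 (iv F29174)))
theorem Q16421 : ∀ i, i < 16421 → P i := stepQ 16420 Q16420 (allL N16420 (tt N19232 (iv F35400)) (tt N13353 F29175) (tt N19226 (iv F35385)) (tt N15853 F29176) (tt N19235 D19269) (tt N13351 (iv D16451)))
theorem Q16422 : ∀ i, i < 16422 → P i := stepQ 16421 Q16421 (allL N16421 (tt N15865 F29177) (tt N19234 (iv F35405)) (tt N15854 F29178) (tt N19142 (iv F35194)) (tt N13352 (iv D16452)) (tt N19236 D19270))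
theorem Q16423 : ∀ i, i < 16423 → P i := stepQ 16422 Q16422 (allL N16422 (tt N15864 F29179) (tt N19235 (iv F35406)) (tt N13354 F29180) (tt N19237 D19271) (tt N13353 (iv D16453)) (tt N19141 (iv F35191)))
theorem Q16424 : ∀ i, i < 16424 → P i := stepQ 16423 Q16423 (allL N16423 (tt N19238 D19272) (tt N13355 (iv D16454)) (tt N14257 F29181) (tt N19239 D19273) (tt N13535 F29182) (tt N19240 D19274))
theorem Q16425 : ∀ i, i < 16425 → P i := stepQ 16424 Q16424 (allL N16424 (tt N13358 F29183) (tt N19239 (iv F35416)) (tt N19229 (iv F35394)) (tt N13355 (iv D16455)) (tt N16744 (iv F29901)) (tt N19227 F35389))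
theorem Q16426 : ∀ i, i < 16426 → P i := stepQ 16425 Q16425 (allL N16425 (tt N13359 F29184) (tt N19240 (iv F35418)) (tt N13356 F29185) (tt N19227 (iv F35387)) (tt N16712 (iv F29807)) (tt N13355 (iv D16456)))
theorem Q16427 : ∀ i, i < 16427 → P i := stepQ 16426 Q16426 (allL N16426 (tt N13357 (iv D16457)) (tt N19238 (iv F35412)) (tt N13360 F29186) (tt N16618 (iv F29591)) (tt N13536 F29187) (tt N15892 F29188))
theorem Q16428 : ∀ i, i < 16428 → P i := stepQ 16427 Q16427 (allL N16427 (tt N16618 (iv F29589)) (tt N13358 F29189) (tt N16615 (iv F29584)) (tt N13357 (iv D16458)) (tt N16604 (iv F29552)) (tt N13673 F29190))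
theorem Q16429 : ∀ i, i < 16429 → P i := stepQ 16428 Q16428 (allL N16428 (tt N19229 (iv F35393)) (tt N19241 D19275) (tt N13358 (iv D16459)) (tt N18557 (iv F33796)) (tt N19242 D19276) (tt N18556 F33793))
theorem Q16430 : ∀ i, i < 16430 → P i := stepQ 16429 Q16429 (allL N16429 (tt N16744 (iv F29900)) (tt N16604 (iv F29550)) (tt N19242 (iv F35420)) (tt N13538 F29191) (tt N13358 (iv D16460)) (tt N16603 (iv F29549)))
theorem Q16431 : ∀ i, i < 16431 → P i := stepQ 16430 Q16430 (allL N16430 (tt N19227 (iv F35386)) (tt N13673 F29192) (tt N18556 (iv F33791)) (tt N13359 F29193) (tt N13672 (iv F29194)) (tt N13358 (iv D16461)))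
theorem Q16432 : ∀ i, i < 16432 → P i := stepQ 16431 Q16431 (allL N16431 (tt N13361 (iv D16462)) (tt N13660 F29195) (tt N13664 F29196) (tt N13532 F29197) (tt N13529 F29198) (tt N13362 F29199))
theorem Q16433 : ∀ i, i < 16433 → P i := stepQ 16432 Q16432 (allL N16432 (tt N13363 F29200) (tt N14344 F29201) (tt N19243 D19277) (tt N13362 (iv D16463)) (tt N14345 F29202) (tt N13532 F29203))
theorem Q16434 : ∀ i, i < 16434 → P i := stepQ 16433 Q16433 (allL N16433 (tt N19243 (iv F35421)) (tt N14276 F29204) (tt N13363 (iv D16464)) (tt N19244 D19278) (tt N14272 F29205) (tt N13534 F29206))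
theorem Q16435 : ∀ i, i < 16435 → P i := stepQ 16434 Q16434 (allL N16434 (tt N14950 F29207) (tt N13366 F29208) (tt N14659 F29209) (tt N19195 (iv F35330)) (tt N14713 F29210) (tt N13364 (iv D16465)))
theorem Q16436 : ∀ i, i < 16436 → P i := stepQ 16435 Q16435 (allL N16435 (tt N13388 F29211) (tt N13367 F29212) (tt N19245 D19279) (tt N13365 (iv D16466)) (tt N14712 F29213) (tt N19167 (iv F35260)))
theorem Q16437 : ∀ i, i < 16437 → P i := stepQ 16436 Q16436 (allL N16436 (tt N14639 F29214) (tt N13370 F29215) (tt N19246 D19280) (tt N13369 (iv D16467)) (tt N14637 F29216) (tt N19247 D19281))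
theorem Q16438 : ∀ i, i < 16438 → P i := stepQ 16437 Q16437 (allL N16437 (tt N14640 F29217) (tt N13371 F29218) (tt N14955 F29219) (tt N19247 (iv F35432)) (tt N14715 F29220) (tt N13369 (iv D16468)))
theorem Q16439 : ∀ i, i < 16439 → P i := stepQ 16438 Q16438 (allL N16438 (tt N14653 F29221) (tt N19248 D19282) (tt N13370 (iv D16469)) (tt N19249 D19283) (tt N14651 F29222) (tt N19250 D19284))
theorem Q16440 : ∀ i, i < 16440 → P i := stepQ 16439 Q16439 (allL N16439 (tt N14654 F29223) (tt N19247 (iv F35431)) (tt N19250 (iv F35436)) (tt N13371 F29224) (tt N19251 D19285) (tt N13370 (iv D16470)))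
theorem Q16441 : ∀ i, i < 16441 → P i := stepQ 16440 Q16440 (allL N16440 (tt N15856 F29225) (tt N13399 F29226) (tt N19252 D19286) (tt N13372 (iv D16471)) (tt N19186 (iv F35303)) (tt N13373 F29227))
theorem Q16442 : ∀ i, i < 16442 → P i := stepQ 16441 Q16441 (allL N16441 (tt N15855 F29228) (tt N19253 D19287) (tt N13373 (iv D16472)) (tt N19254 D19288) (tt N13374 F29229) (tt N19252 (iv F35441)))
theorem Q16443 : ∀ i, i < 16443 → P i := stepQ 16442 Q16442 (allL N16442 (tt N16169 F29233) (tt N13374 (iv D16473)) (tt N13400 F29230) (tt N16164 F29231) (tt N19253 (iv F35444)) (tt N16163 F29232))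
theorem Q16444 : ∀ i, i < 16444 → P i := stepQ 16443 Q16443 (allL N16443 (tt N13377 F29234) (tt N17567 (iv F31551)) (tt N19255 D19289) (tt N13376 (iv D16474)) (tt N19256 D19290) (tt N17573 (iv F31560)))
theorem Q16445 : ∀ i, i < 16445 → P i := stepQ 16444 Q16444 (allL N16444 (tt N13378 F29235) (tt N15057 F29236) (tt N18878 F34625) (tt N17573 (iv F31559)) (tt N19257 D19291) (tt N13376 (iv D16475)))
theorem Q16446 : ∀ i, i < 16446 → P i := stepQ 16445 Q16445 (allL N16445 (tt N19255 (iv F35449)) (tt N15081 F29237) (tt N13377 (iv D16476)) (tt N19258 D19292) (tt N19259 D19293) (tt N17570 (iv F31555)))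
theorem Q16447 : ∀ i, i < 16447 → P i := stepQ 16446 Q16446 (allL N16446 (tt N19256 (iv F35452)) (tt N13379 F29238) (tt N19259 (iv F35466)) (tt N13383 F29239) (tt N13377 (iv D16477)) (tt N14001 (iv F29240)))
theorem Q16448 : ∀ i, i < 16448 → P i := stepQ 16447 Q16447 (allL N16447 (tt N19257 (iv F35456)) (tt N13380 F29241) (tt N16252 F29242) (tt N19260 D19294) (tt N13378 (iv D16478)) (tt N13384 F29243))
theorem Q16449 : ∀ i, i < 16449 → P i := stepQ 16448 Q16448 (allL N16448 (tt N15056 F29244) (tt N14001 F29245) (tt N17577 (iv F31571)) (tt N13385 F29246) (tt N17576 (iv F31570)) (tt N13379 (iv D16479)))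
theorem Q16450 : ∀ i, i < 16450 → P i := stepQ 16449 Q16449 (allL N16449 (tt N15054 F29247) (tt N19260 (iv F35468)) (tt N19261 D19295) (tt N13380 (iv D16480)) (tt N17575 (iv F31565)) (tt N13386 F29248))
theorem Q16451 : ∀ i, i < 16451 → P i := stepQ 16450 Q16450 (allL N16450 (tt N13383 F29249) (tt N15059 F29250) (tt N13997 F29251) (tt N19256 (iv F35454)) (tt N13381 (iv D16481)) (tt N13996 F29252))
theorem Q16452 : ∀ i, i < 16452 → P i := stepQ 16451 Q16451 (allL N16451 (tt N13384 F29253) (tt N15058 F29254) (tt N18881 (iv F34638)) (tt N19262 D19296) (tt N13382 (iv D16482)) (tt N19257 (iv F35459)))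
theorem Q16453 : ∀ i, i < 16453 → P i := stepQ 16452 Q16452 (allL N16452 (tt N19262 (iv F35474)) (tt N13386 F29255) (tt N19263 D19297) (tt N13384 (iv D16483)) (tt N13878 F29256) (tt N19260 (iv F35470)))
theorem Q16454 : ∀ i, i < 16454 → P i := stepQ 16453 Q16453 (allL N16453 (tt N15053 F29257) (tt N19264 D19298) (tt N13386 (iv D16484)) (tt N19265 D19299) (tt N13879 F29258) (tt N19261 (iv F35473)))
theorem Q16455 : ∀ i, i < 16455 → P i := stepQ 16454 Q16454 (allL N16454 (tt N14712 F29259) (tt N13390 F29260) (tt N19266 D19300) (tt N13387 (iv D16485)) (tt N13388 F29261) (tt N19267 D19301))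
theorem Q16456 : ∀ i, i < 16456 → P i := stepQ 16455 Q16455 (allL N16455 (tt N14713 F29262) (tt N13391 F29263) (tt N14711 F29264) (tt N19267 (iv F35494)) (tt N14950 F29265) (tt N13387 (iv D16486)))
theorem Q16457 : ∀ i, i < 16457 → P i := stepQ 16456 Q16456 (allL N16456 (tt N19245 (iv F35426)) (tt N19268 D19302) (tt N13388 (iv D16487)) (tt N19269 D19303) (tt N19266 (iv F35488)) (tt N19270 D19304))
theorem Q16458 : ∀ i, i < 16458 → P i := stepQ 16457 Q16457 (allL N16457 (tt N19167 (iv F35258)) (tt N13393 F29266) (tt N19270 (iv F35497)) (tt N13389 F29267) (tt N19271 D19305) (tt N13388 (iv D16488)))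
theorem Q16459 : ∀ i, i < 16459 → P i := stepQ 16458 Q16458 (allL N16458 (tt N13398 F29268) (tt N19272 D19306) (tt N13390 (iv D16489)) (tt N19273 D19307) (tt N13392 F29269) (tt N19274 D19308))
theorem Q16460 : ∀ i, i < 16460 → P i := stepQ 16459 Q16459 (allL N16459 (tt N13399 F29270) (tt N19267 (iv F35492)) (tt N19274 (iv F35506)) (tt N13391 F29271) (tt N19275 D19309) (tt N13390 (iv D16490)))
theorem Q16461 : ∀ i, i < 16461 → P i := stepQ 16460 Q16460 (allL N16460 (tt N16167 F29272) (tt N13392 (iv D16491)) (tt N19268 (iv F35495)) (tt N16166 F29273) (tt N19272 (iv F35500)) (tt N18897 (iv F34680)))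
theorem Q16462 : ∀ i, i < 16462 → P i := stepQ 16461 Q16461 (allL N16461 (tt N13403 F29274) (tt N19271 (iv F35498)) (tt N18898 (iv F34682)) (tt N19188 (iv F35308)) (tt N13393 (iv D16492)) (tt N19275 (iv F35509)))
theorem Q16463 : ∀ i, i < 16463 → P i := stepQ 16462 Q16462 (allL N16462 (tt N19040 (iv F34982)) (tt N13395 F29275) (tt N19276 D19310) (tt N13394 (iv D16493)) (tt N19277 D19311) (tt N15834 F29276))
theorem Q16464 : ∀ i, i < 16464 → P i := stepQ 16463 Q16463 (allL N16463 (tt N13405 F29277) (tt N19277 (iv F35512)) (tt N15811 F29278) (tt N19216 (iv F35373)) (tt N13395 (iv D16494)) (tt N19278 D19312))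
theorem Q16465 : ∀ i, i < 16465 → P i := stepQ 16464 Q16464 (allL N16464 (tt N13847 F29279) (tt N13397 F29280) (tt N14715 F29281) (tt N13853 F29282) (tt N14955 F29283) (tt N13396 (iv D16495)))
theorem Q16466 : ∀ i, i < 16466 → P i := stepQ 16465 Q16465 (allL N16465 (tt N16170 (iv F29285)) (tt N13398 (iv D16496)) (tt N19253 (iv F35443)) (tt N16142 (iv F29286)) (tt N13400 F29284) (tt N19279 D19313))
theorem Q16467 : ∀ i, i < 16467 → P i := stepQ 16466 Q16466 (allL N16466 (tt N19273 (iv F35502)) (tt N16142 F29287) (tt N17897 (iv F32261)) (tt N13398 (iv D16497)) (tt N16140 F29288) (tt N18333 (iv F33276)))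
theorem Q16468 : ∀ i, i < 16468 → P i := stepQ 16467 Q16467 (allL N16467 (tt N19274 (iv F35505)) (tt N19279 (iv F35517)) (tt N13399 F29289) (tt N18333 (iv F33277)) (tt N19280 D19314) (tt N13398 (iv D16498)))
theorem Q16469 : ∀ i, i < 16469 → P i := stepQ 16468 Q16468 (allL N16468 (tt N19275 (iv F35507)) (tt N19186 (iv F35301)) (tt N19280 (iv F35519)) (tt N19191 (iv F35316)) (tt N13399 (iv D16499)) (tt N13403 F29290))
theorem Q16470 : ∀ i, i < 16470 → P i := stepQ 16469 Q16469 (allL N16469 (tt N16171 F29291) (tt N13402 F29292) (tt N16163 F29293) (tt N16153 F29294) (tt N19281 D19315) (tt N13400 (iv D16500)))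
theorem Q16471 : ∀ i, i < 16471 → P i := stepQ 16470 Q16470 (allL N16470 (tt N18898 (iv F34681)) (tt N19281 (iv F35522)) (tt N13403 F29295) (tt N19282 D19316) (tt N13402 (iv D16501)) (tt N19280 (iv F35520)))
theorem Q16472 : ∀ i, i < 16472 → P i := stepQ 16471 Q16471 (allL N16471 (tt N19283 D19317) (tt N13404 (iv D16502)) (tt N19042 (iv F34986)) (tt N15793 F29296) (tt N19284 D19318) (tt N15820 F29297))
theorem Q16473 : ∀ i, i < 16473 → P i := stepQ 16472 Q16472 (allL N16472 (tt N15811 F29298) (tt N19284 (iv F35527)) (tt N13405 F29299) (tt N19285 D19319) (tt N13404 (iv D16503)) (tt N19286 D19320))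
theorem Q16474 : ∀ i, i < 16474 → P i := stepQ 16473 Q16473 (allL N16473 (tt N19278 (iv F35513)) (tt N19044 (iv F34989)) (tt N19286 (iv F35531)) (tt N19219 (iv F35376)) (tt N18890 (iv F34668)) (tt N13405 (iv D16504)))
theorem Q16475 : ∀ i, i < 16475 → P i := stepQ 16474 Q16474 (allL N16474 (tt N13408 F29300) (tt N19287 D19321) (tt N13406 (iv D16505)) (tt N19287 F35535) (tt N14961 F29301) (tt N19288 D19322))
theorem Q16476 : ∀ i, i < 16476 → P i := stepQ 16475 Q16475 (allL N16475 (tt N13409 F29302) (tt N13420 F29303) (tt N19288 (iv F35538)) (tt N13407 F29304) (tt N19289 D19323) (tt N13406 (iv D16506)))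
theorem Q16477 : ∀ i, i < 16477 → P i := stepQ 16476 Q16476 (allL N16476 (tt N19290 D19324) (tt N13408 (iv D16507)) (tt N13412 F29305) (tt N19290 F35546) (tt N15898 F29306) (tt N13463 (iv F29307)))
theorem Q16478 : ∀ i, i < 16478 → P i := stepQ 16477 Q16477 (allL N16477 (tt N19287 (iv F35536)) (tt N19290 (iv F35542)) (tt N19291 D19325) (tt N13408 (iv D16508)) (tt N19292 D19326) (tt N19293 D19327))
theorem Q16479 : ∀ i, i < 16479 → P i := stepQ 16478 Q16478 (allL N16478 (tt N19288 (iv F35537)) (tt N13463 F29308) (tt N13409 F29309) (tt N19293 (iv F35553)) (tt N19294 D19328) (tt N13408 (iv D16509)))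
theorem Q16480 : ∀ i, i < 16480 → P i := stepQ 16479 Q16479 (allL N16479 (tt N19289 (iv F35539)) (tt N13413 F29310) (tt N19294 (iv F35555)) (tt N19295 D19329) (tt N13409 (iv D16510)) (tt N15901 F29311))
theorem Q16481 : ∀ i, i < 16481 → P i := stepQ 16480 Q16480 (allL N16480 (tt N18942 (iv F34781)) (tt N13414 F29312) (tt N19296 D19330) (tt N13410 (iv D16511)) (tt N19295 (iv F35558)) (tt N13411 F29313))
theorem Q16482 : ∀ i, i < 16482 → P i := stepQ 16481 Q16481 (allL N16481 (tt N18941 (iv F34779)) (tt N19297 D19331) (tt N13411 (iv D16512)) (tt N19298 D19332) (tt N14993 F29314) (tt N19296 (iv F35560)))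
theorem Q16483 : ∀ i, i < 16483 → P i := stepQ 16482 Q16482 (allL N16482 (tt N13412 (iv D16513)) (tt N13433 F29315) (tt N19290 (iv F35543)) (tt N13462 F29316) (tt N15902 F29317) (tt N13461 F29318))
theorem Q16484 : ∀ i, i < 16484 → P i := stepQ 16483 Q16483 (allL N16483 (tt N13438 F29319) (tt N19295 (iv F35557)) (tt N19299 D19333) (tt N13413 (iv D16514)) (tt N13414 F29320) (tt N14998 F29321))
theorem Q16485 : ∀ i, i < 16485 → P i := stepQ 16484 Q16484 (allL N16484 (tt N13439 F29322) (tt N19300 D19334) (tt N13414 (iv D16515)) (tt N13442 F29323) (tt N19299 (iv F35564)) (tt N13415 F29324))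
theorem Q16486 : ∀ i, i < 16486 → P i := stepQ 16485 Q16485 (allL N16485 (tt N18792 (iv F34338)) (tt N13415 (iv D16516)) (tt N19297 (iv F35561)) (tt N18789 (iv F34327)) (tt N14995 F29325) (tt N19300 (iv F35568)))
theorem Q16487 : ∀ i, i < 16487 → P i := stepQ 16486 Q16486 (allL N16486 (tt N13442 F29326) (tt N18788 (iv F34320)) (tt N13417 (iv D16517)) (tt N13439 F29327) (tt N13442 F29328) (tt N13441 F29329))
theorem Q16488 : ∀ i, i < 16488 → P i := stepQ 16487 Q16487 (allL N16487 (tt N19291 (iv F35547)) (tt N13419 (iv D16518)) (tt N19287 (iv F35533)) (tt N19156 (iv F35223)) (tt N18982 (iv F34876)) (tt N19193 (iv F35321)))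
theorem Q16489 : ∀ i, i < 16489 → P i := stepQ 16488 Q16488 (allL N16488 (tt N13425 F29330) (tt N19193 (iv F35320)) (tt N13420 F29331) (tt N13445 F29332) (tt N19301 D19335) (tt N13419 (iv D16519)))
theorem Q16490 : ∀ i, i < 16490 → P i := stepQ 16489 Q16489 (allL N16489 (tt N13426 F29333) (tt N19289 (iv F35540)) (tt N19301 (iv F35570)) (tt N18944 (iv F34789)) (tt N13420 (iv D16520)) (tt N18985 (iv F34883)))
theorem Q16491 : ∀ i, i < 16491 → P i := stepQ 16490 Q16490 (allL N16490 (tt N19302 D19336) (tt N13421 (iv D16521)) (tt N13427 F29334) (tt N19303 D19337) (tt N13423 F29335) (tt N19304 D19338))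
theorem Q16492 : ∀ i, i < 16492 → P i := stepQ 16491 Q16491 (allL N16491 (tt N18983 (iv F34877)) (tt N19303 (iv F35573)) (tt N18991 (iv F34894)) (tt N13421 (iv D16522)) (tt N19305 D19339) (tt N18989 F34891))
theorem Q16493 : ∀ i, i < 16493 → P i := stepQ 16492 Q16492 (allL N16492 (tt N18984 (iv F34878)) (tt N19304 (iv F35574)) (tt N13422 F29336) (tt N18989 (iv F34890)) (tt N19306 D19340) (tt N13421 (iv D16523)))
theorem Q16494 : ∀ i, i < 16494 → P i := stepQ 16493 Q16493 (allL N16493 (tt N18985 (iv F34880)) (tt N13430 F29337) (tt N19306 (iv F35577)) (tt N18948 (iv F34801)) (tt N13422 (iv D16524)) (tt N13426 F29338))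
theorem Q16495 : ∀ i, i < 16495 → P i := stepQ 16494 Q16494 (allL N16494 (tt N13423 (iv D16525)) (tt N19291 (iv F35548)) (tt N13433 F29339) (tt N19307 D19341) (tt N19302 (iv F35572)) (tt N19308 D19342))
theorem Q16496 : ∀ i, i < 16496 → P i := stepQ 16495 Q16495 (allL N16495 (tt N19307 (iv F35579)) (tt N13424 F29340) (tt N19309 D19343) (tt N13423 (iv D16526)) (tt N19310 D19344) (tt N19311 D19345))
theorem Q16497 : ∀ i, i < 16497 → P i := stepQ 16496 Q16496 (allL N16496 (tt N19308 (iv F35580)) (tt N13425 F29341) (tt N13435 F29342) (tt N19311 (iv F35584)) (tt N19312 D19346) (tt N13423 (iv D16527)))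
theorem Q16498 : ∀ i, i < 16498 → P i := stepQ 16497 Q16497 (allL N16497 (tt N19157 (iv F35225)) (tt N19310 (iv F35582)) (tt N19155 (iv F35221)) (tt N19305 (iv F35576)) (tt N13424 (iv D16528)) (tt N19313 D19347))
theorem Q16499 : ∀ i, i < 16499 → P i := stepQ 16498 Q16498 (allL N16498 (tt N13445 F29343) (tt N19311 (iv F35583)) (tt N13444 F29344) (tt N13425 F29345) (tt N19038 (iv F34979)) (tt N13424 (iv D16529)))
theorem Q16500 : ∀ i, i < 16500 → P i := stepQ 16499 Q16499 (allL N16499 (tt N19301 (iv F35569)) (tt N19312 (iv F35585)) (tt N13426 F29346) (tt N19314 D19348) (tt N13425 (iv D16530)) (tt N19306 (iv F35578)))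
theorem Q16501 : ∀ i, i < 16501 → P i := stepQ 16500 Q16500 (allL N16500 (tt N13427 (iv D16531)) (tt N15902 F29347) (tt N19302 (iv F35571)) (tt N19315 D19349) (tt N13433 F29348) (tt N19316 D19350))
theorem Q16502 : ∀ i, i < 16502 → P i := stepQ 16501 Q16501 (allL N16501 (tt N19315 (iv F35587)) (tt N13428 F29349) (tt N19317 D19351) (tt N13427 (iv D16532)) (tt N19318 D19352) (tt N13453 (iv F29350)))
theorem Q16503 : ∀ i, i < 16503 → P i := stepQ 16502 Q16502 (allL N16502 (tt N19316 (iv F35590)) (tt N13429 F29351) (tt N19304 (iv F35575)) (tt N13453 F29352) (tt N19319 D19353) (tt N13427 (iv D16533)))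
theorem Q16504 : ∀ i, i < 16504 → P i := stepQ 16503 Q16503 (allL N16503 (tt N13460 F29353) (tt N19318 (iv F35595)) (tt N13454 F29354) (tt N13436 F29355) (tt N13428 (iv D16534)) (tt N13436 F29356))
theorem Q16505 : ∀ i, i < 16505 → P i := stepQ 16504 Q16504 (allL N16504 (tt N13459 F29357) (tt N19319 (iv F35598)) (tt N13430 F29358) (tt N13437 F29359) (tt N13429 (iv D16535)) (tt N13437 F29360))
theorem Q16506 : ∀ i, i < 16506 → P i := stepQ 16505 Q16505 (allL N16505 (tt N14998 F29361) (tt N18948 (iv F34800)) (tt N19320 D19354) (tt N13430 (iv D16536)) (tt N13431 F29362) (tt N13438 F29363))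
theorem Q16507 : ∀ i, i < 16507 → P i := stepQ 16506 Q16506 (allL N16506 (tt N14997 F29364) (tt N19321 D19355) (tt N13431 (iv D16537)) (tt N15002 F29366) (tt N19320 (iv F35603)) (tt N13432 F29365))
theorem Q16508 : ∀ i, i < 16508 → P i := stepQ 16507 Q16507 (allL N16507 (tt N18796 (iv F34352)) (tt N13432 (iv D16538)) (tt N18945 (iv F34791)) (tt N18787 (iv F34317)) (tt N13440 F29367) (tt N19321 (iv F35606)))
theorem Q16509 : ∀ i, i < 16509 → P i := stepQ 16508 Q16508 (allL N16508 (tt N14996 F29368) (tt N18787 (iv F34315)) (tt N15003 F29370) (tt N13432 (iv D16539)) (tt N18786 (iv F34311)) (tt N15002 F29369))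
theorem Q16510 : ∀ i, i < 16510 → P i := stepQ 16509 Q16509 (allL N16509 (tt N13434 F29371) (tt N13462 F29372) (tt N19322 D19356) (tt N13433 (iv D16540)) (tt N19323 D19357) (tt N13455 (iv F29373)))
theorem Q16511 : ∀ i, i < 16511 → P i := stepQ 16510 Q16510 (allL N16510 (tt N13435 F29374) (tt N13461 F29375) (tt N19308 (iv F35581)) (tt N13455 F29376) (tt N19324 D19358) (tt N13433 (iv D16541)))
theorem Q16512 : ∀ i, i < 16512 → P i := stepQ 16511 Q16511 (allL N16511 (tt N19322 (iv F35607)) (tt N13451 F29377) (tt N13434 (iv D16542)) (tt N19120 (iv F35151)) (tt N19325 D19359) (tt N13449 F29378))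
theorem Q16513 : ∀ i, i < 16513 → P i := stepQ 16512 Q16512 (allL N16512 (tt N19323 (iv F35609)) (tt N13436 F29379) (tt N19325 (iv F35614)) (tt N19318 (iv F35596)) (tt N13434 (iv D16543)) (tt N19318 (iv F35597)))
theorem Q16514 : ∀ i, i < 16514 → P i := stepQ 16513 Q16513 (allL N16513 (tt N19324 (iv F35611)) (tt N13437 F29380) (tt N19312 (iv F35586)) (tt N19319 (iv F35599)) (tt N13435 (iv D16544)) (tt N19319 (iv F35600)))
theorem Q16515 : ∀ i, i < 16515 → P i := stepQ 16514 Q16514 (allL N16514 (tt N19299 (iv F35563)) (tt N19326 D19360) (tt N13438 (iv D16545)) (tt N19299 (iv F35566)) (tt N13439 F29381) (tt N19320 (iv F35604)))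
theorem Q16516 : ∀ i, i < 16516 → P i := stepQ 16515 Q16515 (allL N16515 (tt N18799 (iv F34359)) (tt N13439 (iv D16546)) (tt N18803 (iv F34376)) (tt N18788 (iv F34322)) (tt N19326 (iv F35615)) (tt N13440 F29382))
theorem Q16517 : ∀ i, i < 16517 → P i := stepQ 16516 Q16516 (allL N16516 (tt N18793 (iv F34341)) (tt N13442 (iv D16547)) (tt N18790 (iv F34331)) (tt N19300 (iv F35567)) (tt N18788 F34323) (tt N18789 (iv F34328)))
theorem Q16518 : ∀ i, i < 16518 → P i := stepQ 16517 Q16517 (allL N16517 (tt N19038 (iv F34978)) (tt N19194 (iv F35323)) (tt N13446 F29383) (tt N19327 D19361) (tt N13445 (iv D16548)) (tt N19328 D19362))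
theorem Q16519 : ∀ i, i < 16519 → P i := stepQ 16518 Q16518 (allL N16518 (tt N19039 (iv F34980)) (tt N19143 (iv F35196)) (tt N19328 (iv F35620)) (tt N18951 (iv F34809)) (tt N19158 (iv F35228)) (tt N13446 (iv D16549)))
theorem Q16520 : ∀ i, i < 16520 → P i := stepQ 16519 Q16519 (allL N16519 (tt N19329 D19363) (tt N13447 (iv D16550)) (tt N13453 F29384) (tt N19330 D19364) (tt N13449 F29385) (tt N19317 (iv F35594)))
theorem Q16521 : ∀ i, i < 16521 → P i := stepQ 16520 Q16520 (allL N16520 (tt N14115 F29386) (tt N19330 (iv F35625)) (tt N19331 D19365) (tt N13447 (iv D16551)) (tt N19332 D19366) (tt N19333 D19367))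
theorem Q16522 : ∀ i, i < 16522 → P i := stepQ 16521 Q16521 (allL N16521 (tt N14116 F29387) (tt N19317 (iv F35593)) (tt N13448 F29388) (tt N19333 (iv F35633)) (tt N19334 D19368) (tt N13447 (iv D16552)))
theorem Q16523 : ∀ i, i < 16523 → P i := stepQ 16522 Q16522 (allL N16522 (tt N14117 F29389) (tt N13454 F29390) (tt N19334 (iv F35635)) (tt N15018 F29391) (tt N13448 (iv D16553)) (tt N13452 F29392))
theorem Q16524 : ∀ i, i < 16524 → P i := stepQ 16523 Q16523 (allL N16523 (tt N13449 (iv D16554)) (tt N19109 (iv F35120)) (tt N13455 F29393) (tt N19335 D19369) (tt N19329 (iv F35624)) (tt N19322 (iv F35608)))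
theorem Q16525 : ∀ i, i < 16525 → P i := stepQ 16524 Q16524 (allL N16524 (tt N19335 (iv F35637)) (tt N13450 F29394) (tt N19217 (iv F35374)) (tt N13449 (iv D16555)) (tt N19336 D19370) (tt N19120 (iv F35152)))
theorem Q16526 : ∀ i, i < 16526 → P i := stepQ 16525 Q16525 (allL N16525 (tt N19111 (iv F35124)) (tt N19336 (iv F35638)) (tt N18851 (iv F34535)) (tt N19332 (iv F35630)) (tt N13450 (iv D16556)) (tt N19337 D19371))
theorem Q16527 : ∀ i, i < 16527 → P i := stepQ 16526 Q16526 (allL N16526 (tt N18842 (iv F34507)) (tt N19325 (iv F35613)) (tt N13452 F29395) (tt N19338 D19372) (tt N13451 (iv D16557)) (tt N19334 (iv F35636)))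
theorem Q16528 : ∀ i, i < 16528 → P i := stepQ 16527 Q16527 (allL N16527 (tt N13453 (iv D16558)) (tt N13456 F29396) (tt N19329 (iv F35623)) (tt N19316 (iv F35592)) (tt N13455 F29397) (tt N19315 F35589))
theorem Q16529 : ∀ i, i < 16529 → P i := stepQ 16528 Q16528 (allL N16528 (tt N13457 F29398) (tt N19316 (iv F35591)) (tt N19339 D19373) (tt N13456 (iv D16559)) (tt N19340 D19374) (tt N15902 (iv F29399)))
theorem Q16530 : ∀ i, i < 16530 → P i := stepQ 16529 Q16529 (allL N16529 (tt N13458 F29400) (tt N19315 (iv F35588)) (tt N19116 (iv F35139)) (tt N15902 F29401) (tt N19341 D19375) (tt N13456 (iv D16560)))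
theorem Q16531 : ∀ i, i < 16531 → P i := stepQ 16530 Q16530 (allL N16530 (tt N19339 (iv F35641)) (tt N15900 F29402) (tt N13457 (iv D16561)) (tt N19342 D19376) (tt N19343 D19377) (tt N15898 F29403))
theorem Q16532 : ∀ i, i < 16532 → P i := stepQ 16531 Q16531 (allL N16531 (tt N19340 (iv F35644)) (tt N13459 F29404) (tt N19343 (iv F35656)) (tt N13464 F29405) (tt N13457 (iv D16562)) (tt N13464 F29406))
theorem Q16533 : ∀ i, i < 16533 → P i := stepQ 16532 Q16532 (allL N16532 (tt N19341 (iv F35647)) (tt N13460 F29407) (tt N14123 F29408) (tt N13465 F29409) (tt N13458 (iv D16563)) (tt N13465 F29410))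
theorem Q16534 : ∀ i, i < 16534 → P i := stepQ 16533 Q16533 (allL N16533 (tt N13463 F29411) (tt N19293 (iv F35552)) (tt N13461 (iv D16564)) (tt N13463 F29412) (tt N19344 D19378) (tt N19290 (iv F35545)))
theorem Q16535 : ∀ i, i < 16535 → P i := stepQ 16534 Q16534 (allL N16534 (tt N13464 F29413) (tt N19324 (iv F35612)) (tt N19344 (iv F35659)) (tt N19340 (iv F35645)) (tt N13461 (iv D16565)) (tt N19340 (iv F35646)))
theorem Q16536 : ∀ i, i < 16536 → P i := stepQ 16535 Q16535 (allL N16535 (tt N13465 F29414) (tt N19323 (iv F35610)) (tt N19112 (iv F35126)) (tt N19341 (iv F35649)) (tt N13462 (iv D16566)) (tt N19341 (iv F35650)))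
theorem Q16537 : ∀ i, i < 16537 → P i := stepQ 16536 Q16536 (allL N16536 (tt N19344 (iv F35658)) (tt N19294 (iv F35554)) (tt N13464 F29415) (tt N19345 D19379) (tt N13463 (iv D16567)) (tt N19343 (iv F35657)))
theorem Q16538 : ∀ i, i < 16538 → P i := stepQ 16537 Q16537 (allL N16537 (tt N13468 F29416) (tt N15427 F29417) (tt N19164 (iv F35247)) (tt N16205 F29418) (tt N13466 (iv D16568)) (tt N16204 (iv F29419)))
theorem Q16539 : ∀ i, i < 16539 → P i := stepQ 16538 Q16538 (allL N16538 (tt N19164 (iv F35245)) (tt N14927 F29420) (tt N13468 F29421) (tt N16067 (iv F29422)) (tt N13467 (iv D16569)) (tt N19346 D19380))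
theorem Q16540 : ∀ i, i < 16540 → P i := stepQ 16539 Q16539 (allL N16539 (tt N16204 F29423) (tt N14776 F29424) (tt N19346 (iv F35662)) (tt N15095 F29425) (tt N14785 F29426) (tt N13468 (iv D16570)))
theorem Q16541 : ∀ i, i < 16541 → P i := stepQ 16540 Q16540 (allL N16540 (tt N13470 F29427) (tt N13474 F29428) (tt N19347 D19381) (tt N13469 (iv D16571)) (tt N19348 D19382) (tt N13494 F29429))
theorem Q16542 : ∀ i, i < 16542 → P i := stepQ 16541 Q16541 (allL N16541 (tt N19347 (iv F35665)) (tt N13491 F29430) (tt N13470 (iv D16572)) (tt N19349 D19383) (tt N19350 D19384) (tt N13488 F29431))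
theorem Q16543 : ∀ i, i < 16543 → P i := stepQ 16542 Q16542 (allL N16542 (tt N19348 (iv F35667)) (tt N13472 F29432) (tt N19350 (iv F35672)) (tt N17536 (iv F31486)) (tt N13470 (iv D16573)) (tt N19351 D19385))
theorem Q16544 : ∀ i, i < 16544 → P i := stepQ 16543 Q16543 (allL N16543 (tt N18472 (iv F33589)) (tt N13473 F29433) (tt N17555 (iv F31521)) (tt N19352 D19386) (tt N13471 (iv D16574)) (tt N17537 (iv F31490)))
theorem Q16545 : ∀ i, i < 16545 → P i := stepQ 16544 Q16544 (allL N16544 (tt N13479 F29434) (tt N19351 (iv F35673)) (tt N13498 F29435) (tt N17538 (iv F31492)) (tt N13497 F29436) (tt N13472 (iv D16575)))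
theorem Q16546 : ∀ i, i < 16546 → P i := stepQ 16545 Q16545 (allL N16545 (tt N13481 F29437) (tt N19352 (iv F35675)) (tt N19353 D19387) (tt N13473 (iv D16576)) (tt N13496 F29438) (tt N17539 (iv F31494)))
theorem Q16547 : ∀ i, i < 16547 → P i := stepQ 16546 Q16546 (allL N16546 (tt N13476 F29439) (tt N19348 (iv F35668)) (tt N18463 (iv F33574)) (tt N17540 (iv F31496)) (tt N13474 (iv D16577)) (tt N19354 D19388))
theorem Q16548 : ∀ i, i < 16548 → P i := stepQ 16547 Q16547 (allL N16547 (tt N18663 (iv F34085)) (tt N13475 (iv D16578)) (tt N13477 F29440) (tt N18456 (iv F33556)) (tt N18708 (iv F34152)) (tt N13482 F29441))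
theorem Q16549 : ∀ i, i < 16549 → P i := stepQ 16548 Q16548 (allL N16548 (tt N18463 (iv F33573)) (tt N18708 (iv F34150)) (tt N13476 F29442) (tt N19355 D19389) (tt N13475 (iv D16579)) (tt N18707 (iv F34149)))
theorem Q16550 : ∀ i, i < 16550 → P i := stepQ 16549 Q16549 (allL N16549 (tt N19354 (iv F35679)) (tt N13479 F29443) (tt N18707 (iv F34148)) (tt N17543 (iv F31501)) (tt N18477 (iv F33606)) (tt N13476 (iv D16580)))
theorem Q16551 : ∀ i, i < 16551 → P i := stepQ 16550 Q16550 (allL N16550 (tt N18664 (iv F34087)) (tt N13478 F29444) (tt N18708 (iv F34151)) (tt N19356 D19390) (tt N13477 (iv D16581)) (tt N18651 (iv F34057)))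
theorem Q16552 : ∀ i, i < 16552 → P i := stepQ 16551 Q16551 (allL N16551 (tt N13499 F29445) (tt N19356 (iv F35680)) (tt N18906 (iv F34698)) (tt N13478 (iv D16582)) (tt N13485 F29446) (tt N19357 D19391))
theorem Q16553 : ∀ i, i < 16553 → P i := stepQ 16552 Q16552 (allL N16552 (tt N13498 F29447) (tt N18651 (iv F34055)) (tt N13479 F29448) (tt N19357 (iv F35683)) (tt N13484 F29449) (tt N13478 (iv D16583)))
theorem Q16554 : ∀ i, i < 16554 → P i := stepQ 16553 Q16553 (allL N16553 (tt N13497 F29450) (tt N18477 (iv F33604)) (tt N13484 F29451) (tt N19358 D19392) (tt N13479 (iv D16584)) (tt N13480 F29452))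
theorem Q16555 : ∀ i, i < 16555 → P i := stepQ 16554 Q16554 (allL N16554 (tt N13496 F29453) (tt N18476 (iv F33602)) (tt N19359 D19393) (tt N13480 (iv D16585)) (tt N13481 F29454) (tt N19358 (iv F35686)))
theorem Q16556 : ∀ i, i < 16556 → P i := stepQ 16555 Q16555 (allL N16555 (tt N19353 (iv F35677)) (tt N19360 D19394) (tt N13481 (iv D16586)) (tt N19361 D19395) (tt N19359 (iv F35688)) (tt N17550 (iv F31512)))
theorem Q16557 : ∀ i, i < 16557 → P i := stepQ 16556 Q16556 (allL N16556 (tt N18662 (iv F34081)) (tt N18458 (iv F33561)) (tt N19362 D19396) (tt N13482 (iv D16587)) (tt N15594 F29455) (tt N18456 F33557))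
theorem Q16558 : ∀ i, i < 16558 → P i := stepQ 16557 Q16557 (allL N16557 (tt N18665 (iv F34090)) (tt N13485 F29456) (tt N19363 D19397) (tt N13483 (iv D16588)) (tt N19356 (iv F35681)) (tt N16046 F29457))
theorem Q16559 : ∀ i, i < 16559 → P i := stepQ 16558 Q16558 (allL N16558 (tt N19364 D19398) (tt N13486 (iv D16589)) (tt N18661 (iv F34078)) (tt N14912 F29458) (tt N18657 (iv F34068)) (tt N19365 D19399))
theorem Q16560 : ∀ i, i < 16560 → P i := stepQ 16559 Q16559 (allL N16559 (tt N13491 F29459) (tt N19365 (iv F35699)) (tt N13487 F29460) (tt N13503 F29461) (tt N19366 D19400) (tt N13486 (iv D16590)))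
theorem Q16561 : ∀ i, i < 16561 → P i := stepQ 16560 Q16560 (allL N16560 (tt N13493 F29462) (tt N18664 (iv F34088)) (tt N19366 (iv F35702)) (tt N18835 (iv F34482)) (tt N13487 (iv D16591)) (tt N18660 (iv F34076)))
theorem Q16562 : ∀ i, i < 16562 → P i := stepQ 16561 Q16561 (allL N16561 (tt N13488 (iv D16592)) (tt N19364 (iv F35696)) (tt N13494 F29463) (tt N19367 D19401) (tt N19368 D19402) (tt N19347 (iv F35666)))
theorem Q16563 : ∀ i, i < 16563 → P i := stepQ 16562 Q16562 (allL N16562 (tt N19367 (iv F35703)) (tt N13489 F29464) (tt N19369 D19403) (tt N13488 (iv D16593)) (tt N19370 D19404) (tt N19349 (iv F35670)))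
theorem Q16564 : ∀ i, i < 16564 → P i := stepQ 16563 Q16563 (allL N16563 (tt N19368 (iv F35705)) (tt N13490 F29465) (tt N13495 F29466) (tt N19371 D19405) (tt N13488 (iv D16594)) (tt N19372 D19406))
theorem Q16565 : ∀ i, i < 16565 → P i := stepQ 16564 Q16564 (allL N16564 (tt N14913 F29467) (tt N19370 (iv F35709)) (tt N14911 F29468) (tt N19373 D19407) (tt N13489 (iv D16595)) (tt N19374 D19408))
theorem Q16566 : ∀ i, i < 16566 → P i := stepQ 16565 Q16565 (allL N16565 (tt N13503 F29469) (tt N19349 (iv F35669)) (tt N13502 F29470) (tt N13491 F29471) (tt N19375 D19409) (tt N13489 (iv D16596)))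
theorem Q16567 : ∀ i, i < 16567 → P i := stepQ 16566 Q16566 (allL N16566 (tt N18658 (iv F34069)) (tt N19371 (iv F35711)) (tt N15842 F29472) (tt N13490 (iv D16597)) (tt N19373 (iv F35715)) (tt N18685 (iv F34121)))
theorem Q16568 : ∀ i, i < 16568 → P i := stepQ 16567 Q16567 (allL N16567 (tt N18659 (iv F34071)) (tt N19372 (iv F35712)) (tt N13492 F29473) (tt N18685 (iv F34122)) (tt N19376 D19410) (tt N13490 (iv D16598)))
theorem Q16569 : ∀ i, i < 16569 → P i := stepQ 16568 Q16568 (allL N16568 (tt N19366 (iv F35701)) (tt N19350 (iv F35671)) (tt N13493 F29474) (tt N19377 D19411) (tt N13491 (iv D16599)) (tt N19376 (iv F35722)))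
theorem Q16570 : ∀ i, i < 16570 → P i := stepQ 16569 Q16569 (allL N16569 (tt N18660 (iv F34073)) (tt N13498 F29475) (tt N19376 (iv F35721)) (tt N18836 (iv F34487)) (tt N13492 (iv D16600)) (tt N13493 F29476))
theorem Q16571 : ∀ i, i < 16571 → P i := stepQ 16570 Q16570 (allL N16570 (tt N13495 F29477) (tt N18473 (iv F33594)) (tt N19368 (iv F35706)) (tt N19378 D19412) (tt N13494 (iv D16601)) (tt N19379 D19413))
theorem Q16572 : ∀ i, i < 16572 → P i := stepQ 16571 Q16571 (allL N16571 (tt N19378 (iv F35723)) (tt N13496 F29478) (tt N19352 (iv F37448)) (tt N13495 (iv D16602)) (tt N19352 (iv F35676)) (tt N19380 D19415))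
theorem Q16573 : ∀ i, i < 16573 → P i := stepQ 16572 Q16572 (allL N16572 (tt N19379 (iv F35724)) (tt N13497 F29479) (tt N19372 (iv F35713)) (tt N19380 (iv F35726)) (tt N19351 (iv F35674)) (tt N13495 (iv D16603)))
theorem Q16574 : ∀ i, i < 16574 → P i := stepQ 16573 Q16573 (allL N16573 (tt N19359 (iv F35687)) (tt N19353 (iv F37447)) (tt N13496 (iv D16604)) (tt N19381 D19417) (tt N19353 (iv F35678)) (tt N19382 D19418))
theorem Q16575 : ∀ i, i < 16575 → P i := stepQ 16574 Q16574 (allL N16574 (tt N19358 (iv F35685)) (tt N19380 (iv F35725)) (tt N19382 (iv F35729)) (tt N13497 F29480) (tt N19383 D19419) (tt N13496 (iv D16605)))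
theorem Q16576 : ∀ i, i < 16576 → P i := stepQ 16575 Q16575 (allL N16575 (tt N19357 (iv F35682)) (tt N18836 (iv F34485)) (tt N19384 D19420) (tt N13498 (iv D16606)) (tt N18817 (iv F34426)) (tt N13499 F29481))
theorem Q16577 : ∀ i, i < 16577 → P i := stepQ 16576 Q16576 (allL N16576 (tt N18906 (iv F34697)) (tt N19385 D19421) (tt N13499 (iv D16607)) (tt N19385 F35734) (tt N13500 F29482) (tt N19384 (iv F35732)))
theorem Q16578 : ∀ i, i < 16578 → P i := stepQ 16577 Q16577 (allL N16577 (tt N18901 (iv F34689)) (tt N13500 (iv D16608)) (tt N18837 (iv F34490)) (tt N16079 F29483) (tt N19385 (iv F35733)) (tt N18818 (iv F34429)))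
theorem Q16579 : ∀ i, i < 16579 → P i := stepQ 16578 Q16578 (allL N16578 (tt N14880 F29484) (tt N13502 F29485) (tt N19386 D19422) (tt N13501 (iv D16609)) (tt N19387 D19423) (tt N14882 F29486))
theorem Q16580 : ∀ i, i < 16580 → P i := stepQ 16579 Q16579 (allL N16579 (tt N13504 F29487) (tt N19387 (iv F35739)) (tt N19375 (iv F35720)) (tt N14807 F29488) (tt N13502 (iv D16610)) (tt N19388 D19424))
theorem Q16581 : ∀ i, i < 16581 → P i := stepQ 16580 Q16580 (allL N16580 (tt N19389 D19425) (tt N13503 (iv D16611)) (tt N13890 F29489) (tt N19365 (iv F35700)) (tt N19390 D19426) (tt N14912 F29490))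
theorem Q16582 : ∀ i, i < 16582 → P i := stepQ 16581 Q16581 (allL N16581 (tt N19375 (iv F35719)) (tt N19390 (iv F35748)) (tt N13504 F29491) (tt N19391 D19427) (tt N13503 (iv D16612)) (tt N19392 D19428))
theorem Q16583 : ∀ i, i < 16583 → P i := stepQ 16582 Q16582 (allL N16582 (tt N19388 (iv F35742)) (tt N14910 F29492) (tt N19392 (iv F35750)) (tt N15388 F29493) (tt N14914 F29494) (tt N13504 (iv D16613)))
theorem Q16584 : ∀ i, i < 16584 → P i := stepQ 16583 Q16583 (allL N16583 (tt N13506 F29495) (tt N13950 F29496) (tt N19393 D19429) (tt N13505 (iv D16614)) (tt N19394 D19430) (tt N17450 (iv F31287)))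
theorem Q16585 : ∀ i, i < 16585 → P i := stepQ 16584 Q16584 (allL N16584 (tt N19393 (iv F35752)) (tt N17452 (iv F31290)) (tt N13506 (iv D16615)) (tt N19395 D19431) (tt N19396 D19432) (tt N17451 (iv F31289)))
theorem Q16586 : ∀ i, i < 16586 → P i := stepQ 16585 Q16585 (allL N16585 (tt N19394 (iv F35755)) (tt N13507 F29497) (tt N19396 (iv F35762)) (tt N14691 F29498) (tt N13506 (iv D16616)) (tt N15665 F29499))
theorem Q16587 : ∀ i, i < 16587 → P i := stepQ 16586 Q16586 (allL N16586 (tt N13953 F29500) (tt N15665 F29501) (tt N17454 (iv F31294)) (tt N14694 F29502) (tt N15664 F29503) (tt N13507 (iv D16617)))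
theorem Q16588 : ∀ i, i < 16588 → P i := stepQ 16587 Q16587 (allL N16587 (tt N13675 F29504) (tt N13515 F29505) (tt N18216 (iv F33028)) (tt N13514 (iv D16618)) (tt N13545 F29506) (tt N18412 (iv F33433)))
theorem Q16589 : ∀ i, i < 16589 → P i := stepQ 16588 Q16588 (allL N16588 (tt N13676 F29507) (tt N13516 F29508) (tt N13544 F29509) (tt N18412 (iv F33432)) (tt N13544 F29510) (tt N13514 (iv D16619)))
theorem Q16590 : ∀ i, i < 16590 → P i := stepQ 16589 Q16589 (allL N16589 (tt N14619 F29511) (tt N13522 (iv D16620)) (tt N14613 F29512) (tt N15379 F29513) (tt N14612 (iv F29515)) (tt N15378 F29514))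
theorem Q16591 : ∀ i, i < 16591 → P i := stepQ 16590 Q16590 (allL N16590 (tt N15383 F29516) (tt N14612 F29517) (tt N13523 F29518) (tt N16411 (iv F29520)) (tt N13522 (iv D16621)) (tt N14610 F29519))
theorem Q16592 : ∀ i, i < 16592 → P i := stepQ 16591 Q16591 (allL N16591 (tt N13527 F29521) (tt N19397 D19433) (tt N13525 (iv D16622)) (tt N13692 F29522) (tt N13686 F29523) (tt N17449 (iv F31284)))
theorem Q16593 : ∀ i, i < 16593 → P i := stepQ 16592 Q16592 (allL N16592 (tt N13530 F29524) (tt N13662 F29525) (tt N13529 (iv D16623)) (tt N19398 D19434) (tt N13664 F29526) (tt N14674 F29527))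
theorem Q16594 : ∀ i, i < 16594 → P i := stepQ 16593 Q16593 (allL N16593 (tt N19398 (iv F35770)) (tt N14678 F29528) (tt N19399 D19435) (tt N13530 (iv D16624)) (tt N19400 D19436) (tt N14675 F29529))
theorem Q16595 : ∀ i, i < 16595 → P i := stepQ 16594 Q16594 (allL N16594 (tt N14243 F29530) (tt N13531 (iv D16625)) (tt N16715 (iv F29814)) (tt N14242 (iv F29532)) (tt N19401 D19437) (tt N14261 F29531))
theorem Q16596 : ∀ i, i < 16596 → P i := stepQ 16595 Q16595 (allL N16595 (tt N13533 F29533) (tt N14242 F29534) (tt N13878 F29535) (tt N13531 (iv D16626)) (tt N19263 (iv F35479)) (tt N13999 F29536))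
theorem Q16597 : ∀ i, i < 16597 → P i := stepQ 16596 Q16596 (allL N16596 (tt N13534 F29537) (tt N19401 (iv F35779)) (tt N13532 F29538) (tt N19402 D19438) (tt N13531 (iv D16627)) (tt N19243 (iv F35423)))
theorem Q16598 : ∀ i, i < 16598 → P i := stepQ 16597 Q16597 (allL N16597 (tt N13878 F29539) (tt N14217 F29540) (tt N13533 (iv D16628)) (tt N13877 F29541) (tt N19262 (iv F35476)) (tt N13995 F29542))
theorem Q16599 : ∀ i, i < 16599 → P i := stepQ 16598 Q16598 (allL N16598 (tt N19263 (iv F35478)) (tt N14221 F29543) (tt N19262 F35477) (tt N19403 D19439) (tt N13533 (iv D16629)) (tt N19404 D19440))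
theorem Q16600 : ∀ i, i < 16600 → P i := stepQ 16599 Q16599 (allL N16599 (tt N19402 (iv F35780)) (tt N14279 F29544) (tt N19405 D19441) (tt N13534 (iv D16630)) (tt N19403 (iv F35782)) (tt N19244 (iv F35425)))
theorem Q16601 : ∀ i, i < 16601 → P i := stepQ 16600 Q16600 (allL N16600 (tt N13535 (iv D16631)) (tt N13536 F29545) (tt N14261 F29546) (tt N16742 (iv F29897)) (tt N19238 (iv F35414)) (tt N16715 (iv F29816)))
theorem Q16602 : ∀ i, i < 16602 → P i := stepQ 16601 Q16601 (allL N16601 (tt N13537 F29547) (tt N16742 (iv F29896)) (tt N19395 (iv F35760)) (tt N13536 (iv D16632)) (tt N19406 D19442) (tt N16721 (iv F29835)))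
theorem Q16603 : ∀ i, i < 16603 → P i := stepQ 16602 Q16602 (allL N16602 (tt N19395 (iv F35759)) (tt N16728 (iv F29855)) (tt N13537 (iv D16633)) (tt N19393 (iv F35753)) (tt N19407 D19443) (tt N16722 (iv F29837)))
theorem Q16604 : ∀ i, i < 16604 → P i := stepQ 16603 Q16603 (allL N16603 (tt N19406 (iv F35789)) (tt N13538 F29548) (tt N19407 (iv F35792)) (tt N16604 (iv F29551)) (tt N13537 (iv D16634)) (tt N16429 F29549))
theorem Q16605 : ∀ i, i < 16605 → P i := stepQ 16604 Q16604 (allL N16604 (tt N16745 (iv F29902)) (tt N16429 F29550) (tt N16730 (iv F29860)) (tt N16603 F29551) (tt N16427 F29552) (tt N13538 (iv D16635)))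
theorem Q16606 : ∀ i, i < 16606 → P i := stepQ 16605 Q16605 (allL N16605 (tt N16393 F29553) (tt N13541 F29554) (tt N16385 F29555) (tt N16378 F29556) (tt N19408 D19444) (tt N13539 (iv D16636)))
theorem Q16607 : ∀ i, i < 16607 → P i := stepQ 16606 Q16606 (allL N16606 (tt N16719 (iv F29826)) (tt N19408 (iv F35796)) (tt N13542 F29557) (tt N19409 D19445) (tt N13541 (iv D16637)) (tt N18643 (iv F34036)))
theorem Q16608 : ∀ i, i < 16608 → P i := stepQ 16607 Q16607 (allL N16607 (tt N13544 F29558) (tt N13546 F29559) (tt N13676 F29560) (tt N13962 F29561) (tt N13676 F29562) (tt N13543 (iv D16638)))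
theorem Q16609 : ∀ i, i < 16609 → P i := stepQ 16608 Q16608 (allL N16608 (tt N13677 F29563) (tt N13925 F29564) (tt N13545 (iv D16639)) (tt N19410 D19446) (tt N18216 F33030) (tt N13884 F29565))
theorem Q16610 : ∀ i, i < 16610 → P i := stepQ 16609 Q16609 (allL N16609 (tt N13662 F29566) (tt N14673 F29567) (tt N13548 (iv D16640)) (tt N19411 D19447) (tt N13651 F29568) (tt N14671 F29569))
theorem Q16611 : ∀ i, i < 16611 → P i := stepQ 16610 Q16610 (allL N16610 (tt N13927 F29570) (tt N19412 D19448) (tt N13551 (iv D16641)) (tt N18142 (iv F32838)) (tt N13931 F29571) (tt N13552 F29572))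
theorem Q16612 : ∀ i, i < 16612 → P i := stepQ 16611 Q16611 (allL N16611 (tt N19413 D19449) (tt N13552 (iv D16642)) (tt N13685 F29573) (tt N18140 (iv F32830)) (tt N13553 F29574) (tt N19412 (iv F35809)))
theorem Q16613 : ∀ i, i < 16613 → P i := stepQ 16612 Q16612 (allL N16612 (tt N13553 (iv D16643)) (tt N13924 F29575) (tt N13689 F29576) (tt N13883 F29577) (tt N19413 (iv F35813)) (tt N13928 F29578))
theorem Q16614 : ∀ i, i < 16614 → P i := stepQ 16613 Q16613 (allL N16613 (tt N15682 F29579) (tt N16722 (iv F29836)) (tt N13554 (iv D16644)) (tt N19414 D19450) (tt N19415 D19451) (tt N16728 (iv F29856)))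
theorem Q16615 : ∀ i, i < 16615 → P i := stepQ 16614 Q16614 (allL N16614 (tt N15645 F29580) (tt N13555 F29581) (tt N19415 (iv F35821)) (tt N13797 F29582) (tt N13554 (iv D16645)) (tt N19416 D19452))
theorem Q16616 : ∀ i, i < 16616 → P i := stepQ 16615 Q16615 (allL N16615 (tt N13558 F29583) (tt N19416 (iv F35825)) (tt N16427 F29584) (tt N13798 F29585) (tt N16730 (iv F29862)) (tt N13555 (iv D16646)))
theorem Q16617 : ∀ i, i < 16617 → P i := stepQ 16616 Q16616 (allL N16616 (tt N13556 (iv D16647)) (tt N16721 (iv F29834)) (tt N15692 F29586) (tt N16715 (iv F29815)) (tt N19417 D19453) (tt N16742 (iv F29898)))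
theorem Q16618 : ∀ i, i < 16618 → P i := stepQ 16617 Q16617 (allL N16617 (tt N19417 (iv F35828)) (tt N13557 F29587) (tt N15691 F29588) (tt N18773 (iv F34290)) (tt N13556 (iv D16648)) (tt N19418 D19454))
theorem Q16619 : ∀ i, i < 16619 → P i := stepQ 16618 Q16618 (allL N16618 (tt N16427 F29589) (tt N19418 (iv F35834)) (tt N13558 F29590) (tt N16426 F29591) (tt N16745 (iv F29904)) (tt N13557 (iv D16649)))
theorem Q16620 : ∀ i, i < 16620 → P i := stepQ 16619 Q16619 (allL N16619 (tt N17123 (iv F30633)) (tt N13559 (iv D16650)) (tt N13561 F29592) (tt N17110 (iv F30611)) (tt N14730 F29593) (tt N19419 D19455))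
theorem Q16621 : ∀ i, i < 16621 → P i := stepQ 16620 Q16620 (allL N16620 (tt N14471 F29594) (tt N17110 (iv F30609)) (tt N14475 F29595) (tt N13559 (iv D16651)) (tt N17107 F30604) (tt N19113 (iv F35132)))
theorem Q16622 : ∀ i, i < 16622 → P i := stepQ 16621 Q16621 (allL N16621 (tt N15008 F29596) (tt N19419 (iv F35837)) (tt N13560 F29597) (tt N19113 (iv F35131)) (tt N15848 F29598) (tt N13559 (iv D16652)))
theorem Q16623 : ∀ i, i < 16623 → P i := stepQ 16622 Q16622 (allL N16622 (tt N13561 (iv D16653)) (tt N14733 F29599) (tt N17123 F30635) (tt N19420 D19456) (tt N14732 F29600) (tt N19421 D19457))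
theorem Q16624 : ∀ i, i < 16624 → P i := stepQ 16623 Q16623 (allL N16623 (tt N19420 (iv F35840)) (tt N13562 F29601) (tt N19422 D19458) (tt N13561 (iv D16654)) (tt N15193 F29602) (tt N17129 (iv F30645)))
theorem Q16625 : ∀ i, i < 16625 → P i := stepQ 16624 Q16624 (allL N16624 (tt N19421 (iv F35843)) (tt N13563 F29603) (tt N19419 (iv F35838)) (tt N17129 (iv F30643)) (tt N15192 F29604) (tt N13561 (iv D16655)))
theorem Q16626 : ∀ i, i < 16626 → P i := stepQ 16625 Q16625 (allL N16625 (tt N13565 F29605) (tt N13567 F29606) (tt N19423 D19459) (tt N13564 (iv D16656)) (tt N19424 D19460) (tt N14498 F29607))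
theorem Q16627 : ∀ i, i < 16627 → P i := stepQ 16626 Q16626 (allL N16626 (tt N19423 (iv F35847)) (tt N17451 (iv F31288)) (tt N13565 (iv D16657)) (tt N19425 D19461) (tt N19426 D19462) (tt N17452 (iv F31291)))
theorem Q16628 : ∀ i, i < 16628 → P i := stepQ 16627 Q16627 (allL N16627 (tt N19424 (iv F35851)) (tt N13566 F29608) (tt N19426 (iv F35859)) (tt N13838 F29609) (tt N13565 (iv D16658)) (tt N19427 D19463))
theorem Q16629 : ∀ i, i < 16629 → P i := stepQ 16628 Q16628 (allL N16628 (tt N13572 F29610) (tt N19427 (iv F35862)) (tt N15664 F29611) (tt N13840 F29612) (tt N17454 (iv F31295)) (tt N13566 (iv D16659)))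
theorem Q16630 : ∀ i, i < 16630 → P i := stepQ 16629 Q16629 (allL N16629 (tt N13569 F29613) (tt N19424 (iv F35852)) (tt N14492 F29614) (tt N13842 F29615) (tt N13567 (iv D16660)) (tt N17849 (iv F32182)))
theorem Q16631 : ∀ i, i < 16631 → P i := stepQ 16630 Q16630 (allL N16630 (tt N19428 D19464) (tt N13568 (iv D16661)) (tt N13570 F29616) (tt N14487 F29617) (tt N19429 D19465) (tt N13951 F29618))
theorem Q16632 : ∀ i, i < 16632 → P i := stepQ 16631 Q16631 (allL N16631 (tt N14492 F29619) (tt N19429 (iv F35869)) (tt N13569 F29620) (tt N17841 (iv F32163)) (tt N13568 (iv D16662)) (tt N17840 (iv F32159)))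
theorem Q16633 : ∀ i, i < 16633 → P i := stepQ 16632 Q16632 (allL N16632 (tt N17849 (iv F32180)) (tt N13572 F29621) (tt N17840 (iv F32158)) (tt N13843 F29622) (tt N14501 F29623) (tt N13569 (iv D16663)))
theorem Q16634 : ∀ i, i < 16634 → P i := stepQ 16633 Q16633 (allL N16633 (tt N13570 (iv D16664)) (tt N17450 (iv F31286)) (tt N19428 (iv F35866)) (tt N13914 F29624) (tt N19430 D19466) (tt N13950 F29625))
theorem Q16635 : ∀ i, i < 16635 → P i := stepQ 16634 Q16634 (allL N16634 (tt N19430 (iv F35871)) (tt N13571 F29626) (tt N19429 (iv F35870)) (tt N15740 (iv F29627)) (tt N13570 (iv D16665)) (tt N19431 D19467))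
theorem Q16636 : ∀ i, i < 16636 → P i := stepQ 16635 Q16635 (allL N16635 (tt N15664 F29628) (tt N19431 (iv F35876)) (tt N13572 F29629) (tt N15662 F29630) (tt N13953 F29631) (tt N13571 (iv D16666)))
theorem Q16637 : ∀ i, i < 16637 → P i := stepQ 16636 Q16636 (allL N16636 (tt N16782 (iv F29967)) (tt N17254 (iv F30890)) (tt N13573 (iv D16667)) (tt N19432 D19468) (tt N13575 F29632) (tt N17252 (iv F30886)))
theorem Q16638 : ∀ i, i < 16638 → P i := stepQ 16637 Q16637 (allL N16637 (tt N16783 (iv F29969)) (tt N13578 F29633) (tt N17252 (iv F30885)) (tt N13574 F29634) (tt N17250 (iv F30879)) (tt N13573 (iv D16668)))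
theorem Q16639 : ∀ i, i < 16639 → P i := stepQ 16638 Q16638 (allL N16638 (tt N13586 F29635) (tt N14579 F29636) (tt N19433 D19469) (tt N13577 (iv D16669)) (tt N13625 F29637) (tt N13631 F29638))
theorem Q16640 : ∀ i, i < 16640 → P i := stepQ 16639 Q16639 (allL N16639 (tt N16771 (iv F29940)) (tt N19434 D19470) (tt N13581 (iv D16670)) (tt N19435 D19471) (tt N13702 F29639) (tt N19436 D19472))
theorem Q16641 : ∀ i, i < 16641 → P i := stepQ 16640 Q16640 (allL N16640 (tt N16772 (iv F29942)) (tt N13584 F29640) (tt N19436 (iv F35889)) (tt N13582 F29641) (tt N19437 D19473) (tt N13581 (iv D16671)))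
theorem Q16642 : ∀ i, i < 16642 → P i := stepQ 16641 Q16641 (allL N16641 (tt N19438 D19474) (tt N13583 (iv D16672)) (tt N19434 (iv F35887)) (tt N19439 D19475) (tt N13706 F29642) (tt N19440 D19476))
theorem Q16643 : ∀ i, i < 16643 → P i := stepQ 16642 Q16642 (allL N16642 (tt N13630 F29643) (tt N19439 (iv F35895)) (tt N13631 F29645) (tt N13583 (iv D16673)) (tt N13602 F29644) (tt N19433 (iv F35886)))
theorem Q16644 : ∀ i, i < 16644 → P i := stepQ 16643 Q16643 (allL N16643 (tt N13712 F29646) (tt N19440 (iv F35898)) (tt N13584 F29647) (tt N19433 (iv F35884)) (tt N19441 D19477) (tt N13583 (iv D16674)))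
theorem Q16645 : ∀ i, i < 16645 → P i := stepQ 16644 Q16644 (allL N16644 (tt N13711 F29648) (tt N19437 (iv F35890)) (tt N19441 (iv F35900)) (tt N13703 F29649) (tt N13584 (iv D16675)) (tt N13704 F29650))
theorem Q16646 : ∀ i, i < 16646 → P i := stepQ 16645 Q16645 (allL N16645 (tt N13585 (iv D16676)) (tt N17238 (iv F30857)) (tt N17482 (iv F31371)) (tt N19442 D19478) (tt N13588 F29651) (tt N17237 (iv F30855)))
theorem Q16647 : ∀ i, i < 16647 → P i := stepQ 16646 Q16646 (allL N16646 (tt N19442 (iv F35902)) (tt N13586 F29652) (tt N19443 D19479) (tt N13585 (iv D16677)) (tt N19444 D19480) (tt N19445 D19481))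
theorem Q16648 : ∀ i, i < 16648 → P i := stepQ 16647 Q16647 (allL N16647 (tt N17237 (iv F30853)) (tt N13587 F29653) (tt N17481 (iv F31369)) (tt N19445 (iv F35910)) (tt N17235 F30850) (tt N13585 (iv D16678)))
theorem Q16649 : ∀ i, i < 16649 → P i := stepQ 16648 Q16648 (allL N16648 (tt N19433 (iv F35883)) (tt N19446 D19482) (tt N13586 (iv D16679)) (tt N13712 F29654) (tt N19447 D19483) (tt N13630 (iv F29655)))
theorem Q16650 : ∀ i, i < 16650 → P i := stepQ 16649 Q16649 (allL N16649 (tt N13625 F29656) (tt N19444 (iv F35905)) (tt N19447 (iv F35915)) (tt N13591 F29657) (tt N13586 (iv D16680)) (tt N13608 (iv F29658)))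
theorem Q16651 : ∀ i, i < 16651 → P i := stepQ 16650 Q16650 (allL N16650 (tt N13631 F29659) (tt N19445 (iv F35909)) (tt N13630 F29660) (tt N13587 F29661) (tt N13604 F29662) (tt N13586 (iv D16681)))
theorem Q16652 : ∀ i, i < 16652 → P i := stepQ 16651 Q16651 (allL N16651 (tt N13589 F29663) (tt N13623 F29664) (tt N19448 D19484) (tt N13588 (iv D16682)) (tt N19449 D19485) (tt N13598 F29665))
theorem Q16653 : ∀ i, i < 16653 → P i := stepQ 16652 Q16652 (allL N16652 (tt N19448 (iv F35917)) (tt N13596 F29666) (tt N13589 (iv D16683)) (tt N15285 (iv F29668)) (tt N19450 D19486) (tt N13594 F29667))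
theorem Q16654 : ∀ i, i < 16654 → P i := stepQ 16653 Q16653 (allL N16653 (tt N19449 (iv F35921)) (tt N13591 F29669) (tt N19450 (iv F35925)) (tt N19444 (iv F35906)) (tt N13589 (iv D16684)) (tt N13611 F29670))
theorem Q16655 : ∀ i, i < 16655 → P i := stepQ 16654 Q16654 (allL N16654 (tt N13593 F29671) (tt N15045 (iv F29675)) (tt N13592 (iv D16685)) (tt N13646 F29672) (tt N13615 F29673) (tt N13637 F29674))
theorem Q16656 : ∀ i, i < 16656 → P i := stepQ 16655 Q16655 (allL N16655 (tt N13646 F29676) (tt N13612 F29677) (tt N13645 F29678) (tt N13593 (iv D16686)) (tt N19451 D19487) (tt N13639 F29679))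
theorem Q16657 : ∀ i, i < 16657 → P i := stepQ 16656 Q16656 (allL N16656 (tt N13594 (iv D16687)) (tt N15277 F29680) (tt N13598 F29681) (tt N19452 D19488) (tt N13747 F29682) (tt N19448 (iv F35919)))
theorem Q16658 : ∀ i, i < 16658 → P i := stepQ 16657 Q16657 (allL N16657 (tt N19452 (iv F35931)) (tt N13595 F29683) (tt N19453 D19489) (tt N13594 (iv D16688)) (tt N19454 D19490) (tt N15285 F29684))
theorem Q16659 : ∀ i, i < 16659 → P i := stepQ 16658 Q16658 (allL N16658 (tt N15280 F29685) (tt N19454 (iv F35936)) (tt N15288 F29686) (tt N13749 F29687) (tt N13595 (iv D16689)) (tt N19455 D19491))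
theorem Q16660 : ∀ i, i < 16660 → P i := stepQ 16659 Q16659 (allL N16659 (tt N15281 F29688) (tt N19450 (iv F35924)) (tt N13597 F29689) (tt N19456 D19492) (tt N13596 (iv D16690)) (tt N13722 F29690))
theorem Q16661 : ∀ i, i < 16661 → P i := stepQ 16660 Q16660 (allL N16660 (tt N13626 F29691) (tt N19457 D19493) (tt N13599 (iv D16691)) (tt N19458 D19494) (tt N13600 F29692) (tt N13718 F29693))
theorem Q16662 : ∀ i, i < 16662 → P i := stepQ 16661 Q16661 (allL N16661 (tt N19459 D19495) (tt N13600 (iv D16692)) (tt N13867 F29694) (tt N13635 F29695) (tt N19457 (iv F35947)) (tt N13601 F29696))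
theorem Q16663 : ∀ i, i < 16663 → P i := stepQ 16662 Q16662 (allL N16662 (tt N13601 (iv D16693)) (tt N13628 F29697) (tt N13865 F29698) (tt N19460 D19496) (tt N13745 F29699) (tt N19459 (iv F35956)))
theorem Q16664 : ∀ i, i < 16664 → P i := stepQ 16663 Q16663 (allL N16663 (tt N19460 (iv F35957)) (tt N13602 F29700) (tt N14577 (iv F29702)) (tt N13601 (iv D16694)) (tt N19439 (iv F35896)) (tt N13635 F29701))
theorem Q16665 : ∀ i, i < 16665 → P i := stepQ 16664 Q16664 (allL N16664 (tt N14575 F29703) (tt N13604 F29704) (tt N19461 D19497) (tt N13603 (iv D16695)) (tt N19445 (iv F35911)) (tt N13606 F29705))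
theorem Q16666 : ∀ i, i < 16666 → P i := stepQ 16665 Q16665 (allL N16665 (tt N13606 F29706) (tt N13632 F29707) (tt N19462 D19498) (tt N13605 (iv D16696)) (tt N19463 D19499) (tt N14575 F29708))
theorem Q16667 : ∀ i, i < 16667 → P i := stepQ 16666 Q16666 (allL N16666 (tt N19462 (iv F35964)) (tt N19464 D19500) (tt N13606 (iv D16697)) (tt N19465 D19501) (tt N19466 D19502) (tt N19461 (iv F35963)))
theorem Q16668 : ∀ i, i < 16668 → P i := stepQ 16667 Q16667 (allL N16667 (tt N19463 (iv F35967)) (tt N13608 F29709) (tt N19466 (iv F35972)) (tt N13611 F29710) (tt N13606 (iv D16698)) (tt N19444 F35907))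
theorem Q16669 : ∀ i, i < 16669 → P i := stepQ 16668 Q16668 (allL N16668 (tt N19467 D19503) (tt N13607 (iv D16699)) (tt N19464 (iv F35970)) (tt N13627 F29711) (tt N19468 D19504) (tt N13629 F29712))
theorem Q16670 : ∀ i, i < 16670 → P i := stepQ 16669 Q16669 (allL N16669 (tt N13636 F29713) (tt N19468 (iv F35976)) (tt N13608 F29714) (tt N19469 D19505) (tt N13607 (iv D16700)) (tt N19447 (iv F35916)))
theorem Q16671 : ∀ i, i < 16671 → P i := stepQ 16670 Q16670 (allL N16670 (tt N13610 F29715) (tt N19470 D19506) (tt N13609 (iv D16701)) (tt N19471 D19507) (tt N19472 D19508) (tt N13747 F29716))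
theorem Q16672 : ∀ i, i < 16672 → P i := stepQ 16671 Q16671 (allL N16671 (tt N13611 F29717) (tt N13638 F29718) (tt N19472 (iv F35988)) (tt N19463 (iv F35969)) (tt N13609 (iv D16702)) (tt N19449 (iv F35923)))
theorem Q16673 : ∀ i, i < 16673 → P i := stepQ 16672 Q16672 (allL N16672 (tt N19471 (iv F35984)) (tt N13721 F29719) (tt N19473 D19509) (tt N13610 (iv D16703)) (tt N19474 D19510) (tt N13748 F29720))
theorem Q16674 : ∀ i, i < 16674 → P i := stepQ 16673 Q16673 (allL N16673 (tt N19472 (iv F35987)) (tt N13722 F29721) (tt N13611 F29722) (tt N19475 D19511) (tt N13610 (iv D16704)) (tt N19450 (iv F35926)))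
theorem Q16675 : ∀ i, i < 16675 → P i := stepQ 16674 Q16674 (allL N16674 (tt N15048 F29723) (tt N19451 (iv F35928)) (tt N15055 F29724) (tt N13618 F29725) (tt N13612 (iv D16705)) (tt N19476 D19512))
theorem Q16676 : ∀ i, i < 16676 → P i := stepQ 16675 Q16675 (allL N16675 (tt N15049 F29726) (tt N13640 F29727) (tt N13614 F29728) (tt N19477 D19513) (tt N13613 (iv D16706)) (tt N13619 F29729))
theorem Q16677 : ∀ i, i < 16677 → P i := stepQ 16676 Q16676 (allL N16676 (tt N13616 F29730) (tt N15693 F29731) (tt N17385 (iv F31175)) (tt N13615 (iv D16707)) (tt N19478 D19514) (tt N15115 F29732))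
theorem Q16678 : ∀ i, i < 16678 → P i := stepQ 16677 Q16677 (allL N16677 (tt N13617 F29733) (tt N15694 F29734) (tt N13623 F29735) (tt N15115 F29736) (tt N19479 D19515) (tt N13615 (iv D16708)))
theorem Q16679 : ∀ i, i < 16679 → P i := stepQ 16678 Q16678 (allL N16678 (tt N19478 (iv F36003)) (tt N13618 F29737) (tt N17402 (iv F31220)) (tt N19451 (iv F35930)) (tt N13616 (iv D16709)) (tt N19480 D19516))
theorem Q16680 : ∀ i, i < 16680 → P i := stepQ 16679 Q16679 (allL N16679 (tt N19479 (iv F36006)) (tt N13619 F29738) (tt N13624 F29739) (tt N19481 D19517) (tt N13617 (iv D16710)) (tt N13640 F29740))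
theorem Q16681 : ∀ i, i < 16681 → P i := stepQ 16680 Q16680 (allL N16680 (tt N15697 F29741) (tt N19480 (iv F36010)) (tt N15114 F29742) (tt N19476 (iv F35996)) (tt N15113 F29743) (tt N13618 (iv D16711)))
theorem Q16682 : ∀ i, i < 16682 → P i := stepQ 16681 Q16681 (allL N16681 (tt N15698 F29744) (tt N19481 (iv F36012)) (tt N19482 D19518) (tt N13619 (iv D16712)) (tt N15112 F29745) (tt N19477 (iv F36001)))
theorem Q16683 : ∀ i, i < 16683 → P i := stepQ 16682 Q16682 (allL N16682 (tt N13718 F29746) (tt N19483 D19519) (tt N13620 (iv D16713)) (tt N19484 D19520) (tt N13621 F29747) (tt N13626 F29748))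
theorem Q16684 : ∀ i, i < 16684 → P i := stepQ 16683 Q16683 (allL N16683 (tt N19485 D19521) (tt N13621 (iv D16714)) (tt N13807 F29749) (tt N13715 F29750) (tt N19483 (iv F36020)) (tt N13622 F29751))
theorem Q16685 : ∀ i, i < 16685 → P i := stepQ 16684 Q16684 (allL N16684 (tt N13622 (iv D16715)) (tt N13745 F29752) (tt N13805 F29753) (tt N13716 F29754) (tt N13628 F29755) (tt N19485 (iv F36028)))
theorem Q16686 : ∀ i, i < 16686 → P i := stepQ 16685 Q16685 (allL N16685 (tt N13624 F29756) (tt N19449 (iv F35922)) (tt N19479 (iv F36008)) (tt N19486 D19522) (tt N13623 (iv D16716)) (tt N13638 F29757))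
theorem Q16687 : ∀ i, i < 16687 → P i := stepQ 16686 Q16686 (allL N16686 (tt N19486 (iv F36029)) (tt N13625 F29758) (tt N19487 D19523) (tt N13624 (iv D16717)) (tt N14579 F29759) (tt N13634 F29760))
theorem Q16688 : ∀ i, i < 16688 → P i := stepQ 16687 Q16687 (allL N16687 (tt N19447 (iv F35914)) (tt N19488 D19524) (tt N13625 (iv D16718)) (tt N19489 D19525) (tt N19433 (iv F35885)) (tt N13636 F29761))
theorem Q16689 : ∀ i, i < 16689 → P i := stepQ 16688 Q16688 (allL N16688 (tt N19490 D19526) (tt N13626 (iv D16719)) (tt N13816 F29762) (tt N19491 D19527) (tt N13627 F29763) (tt N19483 (iv F36021)))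
theorem Q16690 : ∀ i, i < 16690 → P i := stepQ 16689 Q16689 (allL N16689 (tt N19458 (iv F35949)) (tt N19491 (iv F36041)) (tt N19469 (iv F35979)) (tt N13626 (iv D16720)) (tt N19469 (iv F35978)) (tt N19484 (iv F36024)))
theorem Q16691 : ∀ i, i < 16691 → P i := stepQ 16690 Q16690 (allL N16690 (tt N13627 (iv D16721)) (tt N19459 (iv F35953)) (tt N13813 F29764) (tt N19467 (iv F35974)) (tt N19490 (iv F36040)) (tt N13628 F29765))
theorem Q16692 : ∀ i, i < 16692 → P i := stepQ 16691 Q16691 (allL N16691 (tt N13629 F29766) (tt N19460 (iv F35958)) (tt N19492 D19528) (tt N13628 (iv D16722)) (tt N19493 D19529) (tt N19467 (iv F35975)))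
theorem Q16693 : ∀ i, i < 16693 → P i := stepQ 16692 Q16692 (allL N16692 (tt N19492 (iv F36042)) (tt N19461 (iv F35962)) (tt N13629 (iv D16723)) (tt N19494 D19530) (tt N19495 D19531) (tt N19464 (iv F35971)))
theorem Q16694 : ∀ i, i < 16694 → P i := stepQ 16693 Q16693 (allL N16693 (tt N19493 (iv F36044)) (tt N13630 F29767) (tt N19495 (iv F36048)) (tt N13713 F29768) (tt N13629 (iv D16724)) (tt N19446 (iv F35913)))
theorem Q16695 : ∀ i, i < 16695 → P i := stepQ 16694 Q16694 (allL N16694 (tt N13634 F29769) (tt N19463 (iv F35968)) (tt N14563 F29770) (tt N13638 F29771) (tt N13632 (iv D16725)) (tt N19486 (iv F36031)))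
theorem Q16696 : ∀ i, i < 16696 → P i := stepQ 16695 Q16695 (allL N16695 (tt N19496 D19532) (tt N13633 (iv D16726)) (tt N13635 F29772) (tt N14557 F29773) (tt N19497 D19533) (tt N14577 F29774))
theorem Q16697 : ∀ i, i < 16697 → P i := stepQ 16696 Q16696 (allL N16696 (tt N14563 F29775) (tt N19497 (iv F36053)) (tt N13634 F29776) (tt N17338 (iv F31067)) (tt N13633 (iv D16727)) (tt N19487 (iv F36035)))
theorem Q16698 : ∀ i, i < 16698 → P i := stepQ 16697 Q16697 (allL N16697 (tt N13635 (iv D16728)) (tt N19467 (iv F35973)) (tt N19496 (iv F36050)) (tt N19459 (iv F35955)) (tt N19498 D19534) (tt N19460 (iv F35959)))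
theorem Q16699 : ∀ i, i < 16699 → P i := stepQ 16698 Q16698 (allL N16698 (tt N19498 (iv F36055)) (tt N13636 F29777) (tt N19497 (iv F36054)) (tt N19499 D19535) (tt N13635 (iv D16729)) (tt N19488 (iv F36036)))
theorem Q16700 : ∀ i, i < 16700 → P i := stepQ 16699 Q16699 (allL N16699 (tt N19469 (iv F35977)) (tt N19499 (iv F36056)) (tt N19458 (iv F35952)) (tt N13636 (iv D16730)) (tt N19458 (iv F35950)) (tt N19489 (iv F36038)))
theorem Q16701 : ∀ i, i < 16701 → P i := stepQ 16700 Q16700 (allL N16700 (tt N15047 F29778) (tt N13637 (iv D16731)) (tt N19470 (iv F35981)) (tt N14231 F29779) (tt N19500 D19536) (tt N15045 F29780))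
theorem Q16702 : ∀ i, i < 16702 → P i := stepQ 16701 Q16701 (allL N16701 (tt N13640 F29781) (tt N19500 (iv F36058)) (tt N13638 F29782) (tt N19501 D19537) (tt N13637 (iv D16732)) (tt N19479 (iv F36009)))
theorem Q16703 : ∀ i, i < 16703 → P i := stepQ 16702 Q16702 (allL N16702 (tt N19501 (iv F36060)) (tt N19477 (iv F35999)) (tt N19502 D19538) (tt N13640 (iv D16733)) (tt N17300 (iv F30982)) (tt N19481 (iv F36014)))
theorem Q16704 : ∀ i, i < 16704 → P i := stepQ 16703 Q16703 (allL N16703 (tt N13641 (iv D16734)) (tt N15115 F29783) (tt N14171 F29784) (tt N15694 F29785) (tt N17386 (iv F31179)) (tt N15693 F29786))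
theorem Q16705 : ∀ i, i < 16705 → P i := stepQ 16704 Q16704 (allL N16704 (tt N17386 (iv F31177)) (tt N13642 F29787) (tt N14167 F29788) (tt N19503 D19539) (tt N13641 (iv D16735)) (tt N19504 D19540))
theorem Q16706 : ∀ i, i < 16706 → P i := stepQ 16705 Q16705 (allL N16705 (tt N15112 F29789) (tt N19503 (iv F36062)) (tt N19102 (iv F35110)) (tt N13642 (iv D16736)) (tt N15698 F29790) (tt N19101 F35108))
theorem Q16707 : ∀ i, i < 16707 → P i := stepQ 16706 Q16706 (allL N16706 (tt N15113 F29791) (tt N19504 (iv F36064)) (tt N13643 F29792) (tt N19101 (iv F35107)) (tt N15697 F29793) (tt N13642 (iv D16737)))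
theorem Q16708 : ∀ i, i < 16708 → P i := stepQ 16707 Q16707 (allL N16707 (tt N14218 F29794) (tt N13645 F29795) (tt N15051 F29797) (tt N13644 (iv D16738)) (tt N19505 D19541) (tt N14214 F29796))
theorem Q16709 : ∀ i, i < 16709 → P i := stepQ 16708 Q16708 (allL N16708 (tt N13647 F29798) (tt N19505 (iv F36068)) (tt N19451 (iv F35929)) (tt N17219 (iv F30814)) (tt N13645 (iv D16739)) (tt N17302 (iv F30986)))
theorem Q16710 : ∀ i, i < 16710 → P i := stepQ 16709 Q16709 (allL N16709 (tt N15046 F29799) (tt N13646 (iv D16740)) (tt N14244 F29800) (tt N15045 F29801) (tt N19506 D19542) (tt N14231 F29802))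
theorem Q16711 : ∀ i, i < 16711 → P i := stepQ 16710 Q16710 (allL N16710 (tt N19451 (iv F35927)) (tt N19506 (iv F36071)) (tt N13647 F29803) (tt N19478 (iv F36005)) (tt N13646 (iv D16741)) (tt N19507 D19543))
theorem Q16712 : ∀ i, i < 16712 → P i := stepQ 16711 Q16711 (allL N16711 (tt N17302 (iv F30985)) (tt N14239 F29804) (tt N19507 (iv F36074)) (tt N17227 (iv F30828)) (tt N14230 F29805) (tt N13647 (iv D16742)))
theorem Q16713 : ∀ i, i < 16713 → P i := stepQ 16712 Q16712 (allL N16712 (tt N13668 F29806) (tt N19508 D19544) (tt N13655 (iv D16743)) (tt N16720 (iv F29830)) (tt N16425 F29807) (tt N13656 F29808))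
theorem Q16714 : ∀ i, i < 16714 → P i := stepQ 16713 Q16713 (allL N16713 (tt N19509 D19545) (tt N13656 (iv D16744)) (tt N17313 (iv F31006)) (tt N19510 D19546) (tt N13657 F29809) (tt N19508 (iv F36077)))
theorem Q16715 : ∀ i, i < 16715 → P i := stepQ 16714 Q16714 (allL N16714 (tt N13670 F29810) (tt N19510 (iv F36083)) (tt N14344 F29811) (tt N13656 (iv D16745)) (tt N15892 F29812) (tt N16720 (iv F29832)))
theorem Q16716 : ∀ i, i < 16716 → P i := stepQ 16715 Q16715 (allL N16715 (tt N13657 (iv D16746)) (tt N13671 F29813) (tt N16594 F29814) (tt N16616 F29815) (tt N19509 (iv F36080)) (tt N16600 F29816))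
theorem Q16717 : ∀ i, i < 16717 → P i := stepQ 16716 Q16716 (allL N16716 (tt N19411 (iv F35802)) (tt N19398 (iv F35771)) (tt N14015 F29817) (tt N13662 (iv D16747)) (tt N19511 D19547) (tt N14014 (iv F29818)))
theorem Q16718 : ∀ i, i < 16718 → P i := stepQ 16717 Q16717 (allL N16717 (tt N14671 F29819) (tt N14674 F29820) (tt N13663 F29821) (tt N14014 F29822) (tt N14696 F29823) (tt N13662 (iv D16748)))
theorem Q16719 : ∀ i, i < 16719 → P i := stepQ 16718 Q16718 (allL N16718 (tt N19199 (iv F35336)) (tt N13665 F29824) (tt N19512 D19548) (tt N13664 (iv D16749)) (tt N19513 D19549) (tt N15782 F29825))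
theorem Q16720 : ∀ i, i < 16720 → P i := stepQ 16719 Q16719 (allL N16719 (tt N16606 F29826) (tt N19513 (iv F36093)) (tt N15783 F29827) (tt N19511 (iv F36088)) (tt N13665 (iv D16750)) (tt N15786 F29828))
theorem Q16721 : ∀ i, i < 16721 → P i := stepQ 16720 Q16720 (allL N16720 (tt N13669 (iv D16751)) (tt N19509 (iv F36078)) (tt N13674 F29829) (tt N16712 F29830) (tt N13671 F29831) (tt N16714 F29832))
theorem Q16722 : ∀ i, i < 16722 → P i := stepQ 16721 Q16721 (allL N16721 (tt N13672 F29833) (tt N16616 F29834) (tt N19228 (iv F35391)) (tt N13671 (iv D16752)) (tt N19227 F35388) (tt N16601 F29835))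
theorem Q16723 : ∀ i, i < 16723 → P i := stepQ 16722 Q16722 (allL N16722 (tt N19228 (iv F35390)) (tt N16613 F29836) (tt N13672 (iv D16753)) (tt N18561 (iv F33810)) (tt N18556 F33792) (tt N16602 F29837))
theorem Q16724 : ∀ i, i < 16724 → P i := stepQ 16723 Q16723 (allL N16723 (tt N18412 (iv F33429)) (tt N13680 F29838) (tt N14692 F29839) (tt N13676 F29840) (tt N18408 (iv F33423)) (tt N13675 (iv D16754)))
theorem Q16725 : ∀ i, i < 16725 → P i := stepQ 16724 Q16724 (allL N16724 (tt N19410 (iv F35798)) (tt N15302 F29841) (tt N19514 D19550) (tt N13677 (iv D16755)) (tt N15300 F29842) (tt N19515 D19551))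
theorem Q16726 : ∀ i, i < 16726 → P i := stepQ 16725 Q16725 (allL N16725 (tt N13884 F29843) (tt N15663 F29844) (tt N13678 F29845) (tt N19515 (iv F36102)) (tt N18407 (iv F33417)) (tt N13677 (iv D16756)))
theorem Q16727 : ∀ i, i < 16727 → P i := stepQ 16726 Q16726 (allL N16726 (tt N13688 F29846) (tt N18408 (iv F33420)) (tt N14691 F29847) (tt N13934 F29848) (tt N13680 (iv D16757)) (tt N13682 F29849))
theorem Q16728 : ∀ i, i < 16728 → P i := stepQ 16727 Q16727 (allL N16727 (tt N13681 (iv D16758)) (tt N13689 F29850) (tt N14682 F29851) (tt N15612 F29852) (tt N13948 F29853) (tt N15661 F29854))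
theorem Q16729 : ∀ i, i < 16729 → P i := stepQ 16728 Q16728 (allL N16728 (tt N16807 (iv F30020)) (tt N16602 F29855) (tt N13683 (iv D16759)) (tt N19516 D19552) (tt N19517 D19553) (tt N16613 F29856))
theorem Q16730 : ∀ i, i < 16730 → P i := stepQ 16729 Q16729 (allL N16729 (tt N16808 (iv F30022)) (tt N13684 F29857) (tt N19517 (iv F36106)) (tt N14017 F29858) (tt N13683 (iv D16760)) (tt N19518 D19554))
theorem Q16731 : ∀ i, i < 16731 → P i := stepQ 16730 Q16730 (allL N16730 (tt N13696 F29859) (tt N19518 (iv F36107)) (tt N16604 F29860) (tt N14018 F29861) (tt N16615 F29862) (tt N13684 (iv D16761)))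
theorem Q16732 : ∀ i, i < 16732 → P i := stepQ 16731 Q16731 (allL N16731 (tt N13685 (iv D16762)) (tt N13948 F29863) (tt N19413 (iv F35812)) (tt N13945 (iv F29865)) (tt N13689 F29864) (tt N13944 (iv F29866)))
theorem Q16733 : ∀ i, i < 16733 → P i := stepQ 16732 Q16732 (allL N16732 (tt N13945 F29867) (tt N13686 F29868) (tt N13956 (iv F29869)) (tt N13685 (iv D16763)) (tt N19397 (iv F35768)) (tt N13943 (iv F29870)))
theorem Q16734 : ∀ i, i < 16734 → P i := stepQ 16733 Q16733 (allL N16733 (tt N13944 F29871) (tt N13687 F29872) (tt N19412 (iv F35807)) (tt N13943 F29873) (tt N19519 D19555) (tt N13685 (iv D16764)))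
theorem Q16735 : ∀ i, i < 16735 → P i := stepQ 16734 Q16734 (allL N16734 (tt N14691 F29874) (tt N19519 (iv F36111)) (tt N13688 F29875) (tt N19394 (iv F35757)) (tt N13687 (iv D16765)) (tt N13693 F29876))
theorem Q16736 : ∀ i, i < 16736 → P i := stepQ 16735 Q16735 (allL N16735 (tt N13690 F29877) (tt N15612 F29878) (tt N15650 (iv F29879)) (tt N13689 (iv D16766)) (tt N19520 D19556) (tt N15657 (iv F29880)))
theorem Q16737 : ∀ i, i < 16737 → P i := stepQ 16736 Q16736 (allL N16736 (tt N13691 F29881) (tt N15661 F29882) (tt N13928 F29883) (tt N15657 F29884) (tt N19521 D19557) (tt N13689 (iv D16767)))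
theorem Q16738 : ∀ i, i < 16738 → P i := stepQ 16737 Q16737 (allL N16737 (tt N15650 F29885) (tt N15614 F29886) (tt N13690 (iv D16768)) (tt N19522 D19558) (tt N19523 D19559) (tt N15618 F29887))
theorem Q16739 : ∀ i, i < 16739 → P i := stepQ 16738 Q16738 (allL N16738 (tt N19520 (iv F36115)) (tt N13692 F29888) (tt N19523 (iv F36131)) (tt N19397 (iv F35767)) (tt N13690 (iv D16769)) (tt N19524 D19560))
theorem Q16740 : ∀ i, i < 16740 → P i := stepQ 16739 Q16739 (allL N16739 (tt N19521 (iv F36120)) (tt N13693 F29889) (tt N13929 F29890) (tt N19525 D19561) (tt N13691 (iv D16770)) (tt N19519 (iv F36114)))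
theorem Q16741 : ∀ i, i < 16741 → P i := stepQ 16740 Q16740 (allL N16740 (tt N15656 F29891) (tt N19524 (iv F36134)) (tt N15655 F29892) (tt N17449 (iv F31282)) (tt N15660 F29893) (tt N13692 (iv D16771)))
theorem Q16742 : ∀ i, i < 16742 → P i := stepQ 16741 Q16741 (allL N16741 (tt N15665 F29894) (tt N19525 (iv F36139)) (tt N19526 D19562) (tt N13693 (iv D16772)) (tt N15659 F29895) (tt N19394 (iv F35758)))
theorem Q16743 : ∀ i, i < 16743 → P i := stepQ 16742 Q16742 (allL N16742 (tt N13694 (iv D16773)) (tt N16601 F29896) (tt N16810 (iv F30028)) (tt N16600 F29897) (tt N19527 D19563) (tt N16616 F29898))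
theorem Q16744 : ∀ i, i < 16744 → P i := stepQ 16743 Q16743 (allL N16743 (tt N19527 (iv F36144)) (tt N13695 F29899) (tt N16811 (iv F30031)) (tt N19528 D19564) (tt N13694 (iv D16774)) (tt N19529 D19565))
theorem Q16745 : ∀ i, i < 16745 → P i := stepQ 16744 Q16744 (allL N16744 (tt N16429 F29900) (tt N19528 (iv F36146)) (tt N19530 D19566) (tt N13695 (iv D16775)) (tt N16424 F29901) (tt N19406 (iv F35791)))
theorem Q16746 : ∀ i, i < 16746 → P i := stepQ 16745 Q16745 (allL N16745 (tt N16604 F29902) (tt N19529 (iv F36150)) (tt N13696 F29903) (tt N19406 (iv F35790)) (tt N16618 F29904) (tt N13695 (iv D16776)))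
theorem Q16747 : ∀ i, i < 16747 → P i := stepQ 16746 Q16746 (allL N16746 (tt N17471 (iv F31341)) (tt N13707 F29905) (tt N17478 (iv F31362)) (tt N13698 (iv D16777)) (tt N18337 (iv F33289)) (tt N17478 (iv F31364)))
theorem Q16748 : ∀ i, i < 16748 → P i := stepQ 16747 Q16747 (allL N16747 (tt N17472 (iv F31344)) (tt N13708 F29906) (tt N13699 F29907) (tt N17478 (iv F31363)) (tt N18344 (iv F33306)) (tt N13698 (iv D16778)))
theorem Q16749 : ∀ i, i < 16749 → P i := stepQ 16748 Q16748 (allL N16748 (tt N17473 (iv F31346)) (tt N13703 F29908) (tt N18344 (iv F33305)) (tt N19437 (iv F35891)) (tt N13699 (iv D16779)) (tt N13700 F29909))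
theorem Q16750 : ∀ i, i < 16750 → P i := stepQ 16749 Q16749 (allL N16749 (tt N16776 (iv F29951)) (tt N13704 F29910) (tt N19531 D19567) (tt N13700 (iv D16780)) (tt N13701 F29911) (tt N19437 (iv F35892)))
theorem Q16751 : ∀ i, i < 16751 → P i := stepQ 16750 Q16750 (allL N16750 (tt N16775 (iv F29948)) (tt N19532 D19568) (tt N13701 (iv D16781)) (tt N19514 (iv F36096)) (tt N19531 (iv F36155)) (tt N13702 F29912))
theorem Q16752 : ∀ i, i < 16752 → P i := stepQ 16751 Q16751 (allL N16751 (tt N19533 D19569) (tt N13702 (iv D16782)) (tt N13706 F29913) (tt N19534 D19570) (tt N19434 (iv F35888)) (tt N19532 (iv F36157)))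
theorem Q16753 : ∀ i, i < 16753 → P i := stepQ 16752 Q16752 (allL N16752 (tt N16774 (iv F29947)) (tt N19534 (iv F36161)) (tt N19515 (iv F36101)) (tt N13702 (iv D16783)) (tt N19535 D19571) (tt N19514 F36098))
theorem Q16754 : ∀ i, i < 16754 → P i := stepQ 16753 Q16753 (allL N16753 (tt N13714 F29914) (tt N19536 D19572) (tt N13704 (iv D16784)) (tt N19537 D19573) (tt N13705 F29915) (tt N19441 (iv F35901)))
theorem Q16755 : ∀ i, i < 16755 → P i := stepQ 16754 Q16754 (allL N16754 (tt N19538 D19574) (tt N13705 (iv D16785)) (tt N19532 (iv F36156)) (tt N13717 F29916) (tt N19536 (iv F36163)) (tt N13706 F29917))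
theorem Q16756 : ∀ i, i < 16756 → P i := stepQ 16755 Q16755 (allL N16755 (tt N13706 (iv D16786)) (tt N13716 F29918) (tt N19533 (iv F36158)) (tt N13745 F29919) (tt N19438 (iv F35894)) (tt N19538 (iv F36168)))
theorem Q16757 : ∀ i, i < 16757 → P i := stepQ 16756 Q16756 (allL N16756 (tt N17459 (iv F31305)) (tt N13709 (iv D16787)) (tt N13710 F29920) (tt N19539 D19575) (tt N17455 (iv F31297)) (tt N13709 (iv F29921)))
theorem Q16758 : ∀ i, i < 16758 → P i := stepQ 16757 Q16757 (allL N16757 (tt N17458 (iv F31304)) (tt N19539 (iv F36169)) (tt N19539 (iv F36172)) (tt N13709 (iv D16788)) (tt N19539 (iv F36170)) (tt N19539 (iv F36171)))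
theorem Q16759 : ∀ i, i < 16759 → P i := stepQ 16758 Q16758 (allL N16758 (tt N19441 (iv F35899)) (tt N19540 D19576) (tt N13711 (iv D16789)) (tt N19541 D19577) (tt N13712 F29922) (tt N13714 F29923))
theorem Q16760 : ∀ i, i < 16760 → P i := stepQ 16759 Q16759 (allL N16759 (tt N19542 D19578) (tt N13712 (iv D16790)) (tt N16790 (iv F29983)) (tt N19446 (iv F35912)) (tt N19540 (iv F36173)) (tt N13713 F29924))
theorem Q16761 : ∀ i, i < 16761 → P i := stepQ 16760 Q16760 (allL N16760 (tt N13713 (iv D16791)) (tt N19438 (iv F35893)) (tt N16788 (iv F29979)) (tt N19493 (iv F36045)) (tt N13716 F29925) (tt N19542 (iv F36177)))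
theorem Q16762 : ∀ i, i < 16762 → P i := stepQ 16761 Q16761 (allL N16761 (tt N19543 D19579) (tt N13714 (iv D16792)) (tt N16799 (iv F30004)) (tt N19544 D19580) (tt N13715 F29926) (tt N19540 (iv F36174)))
theorem Q16763 : ∀ i, i < 16763 → P i := stepQ 16762 Q16762 (allL N16762 (tt N19537 (iv F36164)) (tt N19544 (iv F36179)) (tt N19541 (iv F36176)) (tt N13714 (iv D16793)) (tt N19484 (iv F36023)) (tt N19541 (iv F36175)))
theorem Q16764 : ∀ i, i < 16764 → P i := stepQ 16763 Q16763 (allL N16763 (tt N13715 (iv D16794)) (tt N19538 (iv F36166)) (tt N16796 (iv F29998)) (tt N19485 (iv F36027)) (tt N19543 (iv F36178)) (tt N13716 F29927))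
theorem Q16765 : ∀ i, i < 16765 → P i := stepQ 16764 Q16764 (allL N16764 (tt N13717 (iv D16795)) (tt N19485 (iv F36025)) (tt N13871 F29928) (tt N19538 (iv F36167)) (tt N19545 D19581) (tt N13745 F29929))
theorem Q16766 : ∀ i, i < 16766 → P i := stepQ 16765 Q16765 (allL N16765 (tt N19545 (iv F36180)) (tt N13718 F29930) (tt N13874 F29931) (tt N19546 D19582) (tt N13717 (iv D16796)) (tt N19457 (iv F35948)))
theorem Q16767 : ∀ i, i < 16767 → P i := stepQ 16766 Q16766 (allL N16766 (tt N19484 (iv F36022)) (tt N19546 (iv F36182)) (tt N19489 (iv F36037)) (tt N13718 (iv D16797)) (tt N19537 (iv F36165)) (tt N19458 (iv F35951)))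
theorem Q16768 : ∀ i, i < 16768 → P i := stepQ 16767 Q16767 (allL N16767 (tt N19470 (iv F35980)) (tt N13719 (iv D16798)) (tt N15047 F29932) (tt N13752 F29933) (tt N19547 D19583) (tt N13746 F29934))
theorem Q16769 : ∀ i, i < 16769 → P i := stepQ 16768 Q16768 (allL N16768 (tt N13722 F29935) (tt N19547 (iv F36183)) (tt N13720 F29936) (tt N19548 D19584) (tt N13719 (iv D16799)) (tt N15281 F29937))
theorem Q16770 : ∀ i, i < 16770 → P i := stepQ 16769 Q16769 (allL N16769 (tt N13753 F29938) (tt N19474 (iv F35992)) (tt N13751 F29939) (tt N19549 D19585) (tt N13721 (iv D16800)) (tt N19550 D19586))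
theorem Q16771 : ∀ i, i < 16771 → P i := stepQ 16770 Q16770 (allL N16770 (tt N19548 (iv F36186)) (tt N19475 (iv F35993)) (tt N19551 D19587) (tt N13722 (iv D16801)) (tt N19549 (iv F36190)) (tt N19456 (iv F35944)))
theorem Q16772 : ∀ i, i < 16772 → P i := stepQ 16771 Q16771 (allL N16771 (tt N16639 F29940) (tt N19552 D19588) (tt N13724 (iv D16802)) (tt N19553 D19589) (tt N13726 F29941) (tt N19554 D19590))
theorem Q16773 : ∀ i, i < 16773 → P i := stepQ 16772 Q16772 (allL N16772 (tt N16640 F29942) (tt N13729 F29943) (tt N19554 (iv F36200)) (tt N13725 F29944) (tt N19555 D19591) (tt N13724 (iv D16803)))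
theorem Q16774 : ∀ i, i < 16774 → P i := stepQ 16773 Q16773 (allL N16773 (tt N19556 D19592) (tt N13726 (iv D16804)) (tt N13730 F29945) (tt N19557 D19593) (tt N19552 (iv F36197)) (tt N13791 (iv F29946)))
theorem Q16775 : ∀ i, i < 16775 → P i := stepQ 16774 Q16774 (allL N16774 (tt N16752 F29947) (tt N19557 (iv F36208)) (tt N16947 (iv F30290)) (tt N13726 (iv D16805)) (tt N19558 D19594) (tt N19559 D19595))
theorem Q16776 : ∀ i, i < 16776 → P i := stepQ 16775 Q16775 (allL N16775 (tt N16750 F29948) (tt N13791 F29949) (tt N13727 F29950) (tt N19559 (iv F36214)) (tt N19560 D19596) (tt N13726 (iv D16806)))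
theorem Q16777 : ∀ i, i < 16777 → P i := stepQ 16776 Q16776 (allL N16776 (tt N16749 F29951) (tt N13731 F29952) (tt N19560 (iv F36218)) (tt N15373 F29953) (tt N13727 (iv D16807)) (tt N19555 (iv F36204)))
theorem Q16778 : ∀ i, i < 16778 → P i := stepQ 16777 Q16777 (allL N16777 (tt N19561 D19597) (tt N13728 (iv D16808)) (tt N19552 (iv F36196)) (tt N19562 D19598) (tt N13730 F29954) (tt N19563 D19599))
theorem Q16779 : ∀ i, i < 16779 → P i := stepQ 16778 Q16778 (allL N16778 (tt N13737 F29955) (tt N19562 (iv F36222)) (tt N19564 D19600) (tt N13728 (iv D16809)) (tt N13795 F29956) (tt N19565 D19601))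
theorem Q16780 : ∀ i, i < 16780 → P i := stepQ 16779 Q16779 (allL N16779 (tt N13738 F29957) (tt N19563 (iv F36224)) (tt N13729 F29958) (tt N19565 (iv F36232)) (tt N13794 F29959) (tt N13728 (iv D16810)))
theorem Q16781 : ∀ i, i < 16781 → P i := stepQ 16780 Q16780 (allL N16780 (tt N13739 F29960) (tt N19555 (iv F36202)) (tt N13794 F29961) (tt N14436 F29962) (tt N13729 (iv D16811)) (tt N13731 F29963))
theorem Q16782 : ∀ i, i < 16782 → P i := stepQ 16781 Q16781 (allL N16781 (tt N13730 (iv D16812)) (tt N13740 F29964) (tt N19556 (iv F36206)) (tt N13790 F29965) (tt N19561 (iv F36221)) (tt N13789 F29966))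
theorem Q16783 : ∀ i, i < 16783 → P i := stepQ 16782 Q16782 (allL N16782 (tt N16636 F29967) (tt N18587 (iv F33868)) (tt N13732 (iv D16813)) (tt N18586 (iv F33865)) (tt N14417 F29968) (tt N18589 (iv F33878)))
theorem Q16784 : ∀ i, i < 16784 → P i := stepQ 16783 Q16783 (allL N16783 (tt N16637 F29969) (tt N13735 F29970) (tt N18589 (iv F33879)) (tt N13733 F29971) (tt N19566 D19602) (tt N13732 (iv D16814)))
theorem Q16785 : ∀ i, i < 16785 → P i := stepQ 16784 Q16784 (allL N16784 (tt N19567 D19603) (tt N13734 (iv D16815)) (tt N18587 F33871) (tt N19568 D19604) (tt N14425 F29972) (tt N18590 (iv F33883)))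
theorem Q16786 : ∀ i, i < 16786 → P i := stepQ 16785 Q16785 (allL N16785 (tt N14442 F29973) (tt N19568 (iv F36242)) (tt N19565 (iv F36231)) (tt N13734 (iv D16816)) (tt N19569 D19605) (tt N19564 F36229))
theorem Q16787 : ∀ i, i < 16787 → P i := stepQ 16786 Q16786 (allL N16786 (tt N14440 F29974) (tt N18590 (iv F33881)) (tt N13735 F29975) (tt N19564 (iv F36227)) (tt N19570 D19606) (tt N13734 (iv D16817)))
theorem Q16788 : ∀ i, i < 16788 → P i := stepQ 16787 Q16787 (allL N16787 (tt N14430 F29976) (tt N19566 (iv F36234)) (tt N19570 (iv F36247)) (tt N14421 F29977) (tt N13735 (iv D16818)) (tt N14423 F29978))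
theorem Q16789 : ∀ i, i < 16789 → P i := stepQ 16788 Q16788 (allL N16788 (tt N13736 (iv D16819)) (tt N19561 (iv F36220)) (tt N16760 F29979) (tt N19571 D19607) (tt N13740 F29980) (tt N19572 D19608))
theorem Q16790 : ∀ i, i < 16790 → P i := stepQ 16789 Q16789 (allL N16789 (tt N19571 (iv F36250)) (tt N13737 F29981) (tt N19573 D19609) (tt N13736 (iv D16820)) (tt N19574 D19610) (tt N19575 D19611))
theorem Q16791 : ∀ i, i < 16791 → P i := stepQ 16790 Q16790 (allL N16790 (tt N19572 (iv F36251)) (tt N13738 F29982) (tt N16759 F29983) (tt N19575 (iv F36256)) (tt N19576 D19612) (tt N13736 (iv D16821)))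
theorem Q16792 : ∀ i, i < 16792 → P i := stepQ 16791 Q16791 (allL N16791 (tt N19564 (iv F36226)) (tt N19577 D19613) (tt N13737 (iv D16822)) (tt N14440 F29984) (tt N19578 D19614) (tt N14442 (iv F29985)))
theorem Q16793 : ∀ i, i < 16793 → P i := stepQ 16792 Q16792 (allL N16792 (tt N13795 F29986) (tt N19574 (iv F36253)) (tt N19578 (iv F36263)) (tt N13743 F29987) (tt N13737 (iv D16823)) (tt N19579 D19615))
theorem Q16794 : ∀ i, i < 16794 → P i := stepQ 16793 Q16793 (allL N16793 (tt N19565 (iv F36230)) (tt N19575 (iv F36255)) (tt N14442 F29988) (tt N13738 F29989) (tt N19580 D19616) (tt N13737 (iv D16824)))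
theorem Q16795 : ∀ i, i < 16795 → P i := stepQ 16794 Q16794 (allL N16794 (tt N13794 F29990) (tt N19576 (iv F36257)) (tt N13739 F29991) (tt N19581 D19617) (tt N13738 (iv D16825)) (tt N13744 F29992))
theorem Q16796 : ∀ i, i < 16796 → P i := stepQ 16795 Q16795 (allL N16795 (tt N13741 F29993) (tt N13790 F29994) (tt N18306 (iv F33227)) (tt N13740 (iv D16826)) (tt N19582 D19618) (tt N13777 (iv F29995)))
theorem Q16797 : ∀ i, i < 16797 → P i := stepQ 16796 Q16796 (allL N16796 (tt N13742 F29996) (tt N13789 F29997) (tt N16763 F29998) (tt N13777 F29999) (tt N19583 D19619) (tt N13740 (iv D16827)))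
theorem Q16798 : ∀ i, i < 16798 → P i := stepQ 16797 Q16797 (allL N16797 (tt N18306 (iv F33226)) (tt N13771 F30000) (tt N13741 (iv D16828)) (tt N18529 (iv F33737)) (tt N19584 D19620) (tt N13769 F30001))
theorem Q16799 : ∀ i, i < 16799 → P i := stepQ 16798 Q16798 (allL N16798 (tt N19582 (iv F36269)) (tt N13743 F30002) (tt N19584 (iv F36275)) (tt N19574 (iv F36254)) (tt N13741 (iv D16829)) (tt N19585 D19621))
theorem Q16800 : ∀ i, i < 16800 → P i := stepQ 16799 Q16799 (allL N16799 (tt N19583 (iv F36271)) (tt N13744 F30003) (tt N16761 F30004) (tt N19586 D19622) (tt N13742 (iv D16830)) (tt N19576 (iv F36259)))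
theorem Q16801 : ∀ i, i < 16801 → P i := stepQ 16800 Q16800 (allL N16800 (tt N13788 F30005) (tt N19585 (iv F36276)) (tt N13776 F30006) (tt N19579 (iv F36265)) (tt N13775 F30007) (tt N13743 (iv D16831)))
theorem Q16802 : ∀ i, i < 16802 → P i := stepQ 16801 Q16801 (allL N16801 (tt N13786 F30008) (tt N19586 (iv F36278)) (tt N19587 D19623) (tt N13744 (iv D16832)) (tt N13774 F30009) (tt N19581 (iv F36268)))
theorem Q16803 : ∀ i, i < 16803 → P i := stepQ 16802 Q16802 (allL N16802 (tt N13746 (iv D16833)) (tt N13747 F30010) (tt N15045 F30011) (tt N15692 F30012) (tt N15277 F30013) (tt N19470 (iv F35982)))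
theorem Q16804 : ∀ i, i < 16804 → P i := stepQ 16803 Q16803 (allL N16803 (tt N13748 F30014) (tt N15692 F30015) (tt N19425 (iv F35856)) (tt N13747 (iv D16834)) (tt N19588 D19624) (tt N19471 (iv F35986)))
theorem Q16805 : ∀ i, i < 16805 → P i := stepQ 16804 Q16804 (allL N16804 (tt N19425 (iv F35854)) (tt N15682 F30016) (tt N13748 (iv D16835)) (tt N19423 (iv F35850)) (tt N19589 D19625) (tt N19473 (iv F35991)))
theorem Q16806 : ∀ i, i < 16806 → P i := stepQ 16805 Q16805 (allL N16805 (tt N19588 (iv F36282)) (tt N13749 F30017) (tt N19589 (iv F36287)) (tt N19454 (iv F35937)) (tt N13748 (iv D16836)) (tt N19590 D19626))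
theorem Q16807 : ∀ i, i < 16807 → P i := stepQ 16806 Q16806 (allL N16806 (tt N15690 F30018) (tt N19590 (iv F36289)) (tt N15647 F30019) (tt N19455 (iv F35940)) (tt N19550 (iv F36193)) (tt N13749 (iv D16837)))
theorem Q16808 : ∀ i, i < 16808 → P i := stepQ 16807 Q16807 (allL N16807 (tt N16728 F30020) (tt N19473 (iv F35989)) (tt N13750 (iv D16838)) (tt N19591 D19627) (tt N19592 D19628) (tt N15682 F30021))
theorem Q16809 : ∀ i, i < 16809 → P i := stepQ 16808 Q16808 (allL N16808 (tt N16729 F30022) (tt N13751 F30023) (tt N19592 (iv F36295)) (tt N13863 F30024) (tt N13750 (iv D16839)) (tt N19593 D19629))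
theorem Q16810 : ∀ i, i < 16810 → P i := stepQ 16809 Q16809 (allL N16809 (tt N13754 F30025) (tt N19593 (iv F36297)) (tt N19550 (iv F36192)) (tt N13864 F30026) (tt N15647 F30027) (tt N13751 (iv D16840)))
theorem Q16811 : ∀ i, i < 16811 → P i := stepQ 16810 Q16810 (allL N16810 (tt N13752 (iv D16841)) (tt N19471 (iv F35985)) (tt N16742 F30028) (tt N19470 F35983) (tt N19594 D19630) (tt N15692 F30029))
theorem Q16812 : ∀ i, i < 16812 → P i := stepQ 16811 Q16811 (allL N16811 (tt N19594 (iv F36300)) (tt N13753 F30030) (tt N16743 F30031) (tt N19595 D19631) (tt N13752 (iv D16842)) (tt N19596 D19632))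
theorem Q16813 : ∀ i, i < 16813 → P i := stepQ 16812 Q16812 (allL N16812 (tt N19549 (iv F36189)) (tt N19595 (iv F36302)) (tt N19597 D19633) (tt N13753 (iv D16843)) (tt N19548 (iv F36187)) (tt N19597 F36307))
theorem Q16814 : ∀ i, i < 16814 → P i := stepQ 16813 Q16813 (allL N16813 (tt N19550 (iv F36191)) (tt N19596 (iv F36303)) (tt N13754 F30032) (tt N19597 (iv F36306)) (tt N15690 F30033) (tt N13753 (iv D16844)))
theorem Q16815 : ∀ i, i < 16815 → P i := stepQ 16814 Q16814 (allL N16814 (tt N13756 F30034) (tt N13896 F30035) (tt N13755 (iv D16845)) (tt N19598 D19634) (tt N19599 D19635) (tt N13938 F30036))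
theorem Q16816 : ∀ i, i < 16816 → P i := stepQ 16815 Q16815 (allL N16815 (tt N13757 F30037) (tt N13759 F30038) (tt N19599 (iv F36314)) (tt N15320 F30039) (tt N13755 (iv D16846)) (tt N15445 F30040))
theorem Q16817 : ∀ i, i < 16817 → P i := stepQ 16816 Q16816 (allL N16816 (tt N19598 (iv F36308)) (tt N14457 F30041) (tt N19591 (iv F36292)) (tt N13756 (iv D16847)) (tt N19600 D19636) (tt N14490 F30042))
theorem Q16818 : ∀ i, i < 16818 → P i := stepQ 16817 Q16817 (allL N16817 (tt N19599 (iv F36312)) (tt N14458 F30043) (tt N13757 F30044) (tt N19601 D19637) (tt N13756 (iv D16848)) (tt N19602 D19638))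
theorem Q16819 : ∀ i, i < 16819 → P i := stepQ 16818 Q16818 (allL N16818 (tt N15445 F30045) (tt N13758 F30046) (tt N19602 (iv F36320)) (tt N17161 (iv F30694)) (tt N14495 F30047) (tt N13757 (iv D16849)))
theorem Q16820 : ∀ i, i < 16820 → P i := stepQ 16819 Q16819 (allL N16819 (tt N13760 (iv D16850)) (tt N13894 F30048) (tt N13763 F30049) (tt N13886 F30050) (tt N19603 D19639) (tt N13939 F30051))
theorem Q16821 : ∀ i, i < 16821 → P i := stepQ 16820 Q16820 (allL N16820 (tt N19603 (iv F36322)) (tt N13761 F30052) (tt N13764 F30053) (tt N14908 F30054) (tt N13760 (iv D16851)) (tt N19604 D19640))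
theorem Q16822 : ∀ i, i < 16822 → P i := stepQ 16821 Q16821 (allL N16821 (tt N13900 F30055) (tt N19604 (iv F36326)) (tt N13762 F30056) (tt N14909 F30057) (tt N13942 F30058) (tt N13761 (iv D16852)))
theorem Q16823 : ∀ i, i < 16823 → P i := stepQ 16822 Q16822 (allL N16822 (tt N13764 F30059) (tt N14456 F30060) (tt N19603 (iv F36324)) (tt N18111 (iv F32753)) (tt N13763 (iv D16853)) (tt N19605 D19641))
theorem Q16824 : ∀ i, i < 16824 → P i := stepQ 16823 Q16823 (allL N16823 (tt N18111 (iv F32751)) (tt N13765 F30061) (tt N19606 D19642) (tt N13764 (iv D16854)) (tt N14426 F30062) (tt N19607 D19643))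
theorem Q16825 : ∀ i, i < 16825 → P i := stepQ 16824 Q16824 (allL N16824 (tt N19605 (iv F36330)) (tt N13766 F30063) (tt N19604 (iv F36327)) (tt N19607 (iv F36335)) (tt N14470 F30064) (tt N13764 (iv D16855)))
theorem Q16826 : ∀ i, i < 16826 → P i := stepQ 16825 Q16825 (allL N16825 (tt N14453 F30065) (tt N19608 D19644) (tt N13765 (iv D16856)) (tt N19609 D19645) (tt N14427 F30066) (tt N19610 D19646))
theorem Q16827 : ∀ i, i < 16827 → P i := stepQ 16826 Q16826 (allL N16826 (tt N14454 F30067) (tt N19607 (iv F36334)) (tt N19610 (iv F36340)) (tt N13766 F30068) (tt N19611 D19647) (tt N13765 (iv D16857)))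
theorem Q16828 : ∀ i, i < 16828 → P i := stepQ 16827 Q16827 (allL N16827 (tt N19612 D19648) (tt N13767 (iv D16858)) (tt N13773 F30069) (tt N19613 D19649) (tt N13769 F30070) (tt N19614 D19650))
theorem Q16829 : ∀ i, i < 16829 → P i := stepQ 16828 Q16828 (allL N16828 (tt N14741 F30071) (tt N19613 (iv F36349)) (tt N19333 (iv F35632)) (tt N13767 (iv D16859)) (tt N19615 D19651) (tt N19331 F35628))
theorem Q16830 : ∀ i, i < 16830 → P i := stepQ 16829 Q16829 (allL N16829 (tt N14742 F30072) (tt N19614 (iv F36350)) (tt N13768 F30073) (tt N19331 (iv F35627)) (tt N19616 D19652) (tt N13767 (iv D16860)))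
theorem Q16831 : ∀ i, i < 16831 → P i := stepQ 16830 Q16830 (allL N16830 (tt N14743 F30074) (tt N13776 F30075) (tt N19616 (iv F36355)) (tt N14474 F30076) (tt N13768 (iv D16861)) (tt N13772 F30077))
theorem Q16832 : ∀ i, i < 16832 → P i := stepQ 16831 Q16831 (allL N16831 (tt N13769 (iv D16862)) (tt N18308 (iv F33232)) (tt N13777 F30078) (tt N16870 (iv F30144)) (tt N19612 (iv F36348)) (tt N18306 F33228))
theorem Q16833 : ∀ i, i < 16833 → P i := stepQ 16832 Q16832 (allL N16832 (tt N16870 (iv F30142)) (tt N13770 F30079) (tt N16868 (iv F30139)) (tt N13769 (iv D16863)) (tt N19617 D19653) (tt N18529 (iv F33738)))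
theorem Q16834 : ∀ i, i < 16834 → P i := stepQ 16833 Q16833 (allL N16833 (tt N18341 (iv F33298)) (tt N19617 (iv F36357)) (tt N18524 (iv F33726)) (tt N19615 (iv F36353)) (tt N13770 (iv D16864)) (tt N19618 D19654))
theorem Q16835 : ∀ i, i < 16835 → P i := stepQ 16834 Q16834 (allL N16834 (tt N17128 (iv F30640)) (tt N19584 (iv F36274)) (tt N13772 F30080) (tt N19619 D19655) (tt N13771 (iv D16865)) (tt N19616 (iv F36356)))
theorem Q16836 : ∀ i, i < 16836 → P i := stepQ 16835 Q16835 (allL N16835 (tt N13773 (iv D16866)) (tt N13782 F30081) (tt N19612 (iv F36347)) (tt N19620 D19656) (tt N13777 F30082) (tt N19621 D19657))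
theorem Q16837 : ∀ i, i < 16837 → P i := stepQ 16836 Q16836 (allL N16836 (tt N19620 (iv F36358)) (tt N13774 F30083) (tt N19622 D19658) (tt N13773 (iv D16867)) (tt N19586 (iv F36279)) (tt N19623 D19659))
theorem Q16838 : ∀ i, i < 16838 → P i := stepQ 16837 Q16837 (allL N16837 (tt N19621 (iv F36360)) (tt N13775 F30084) (tt N19614 (iv F36351)) (tt N19623 (iv F36363)) (tt N19585 (iv F36277)) (tt N13773 (iv D16868)))
theorem Q16839 : ∀ i, i < 16839 → P i := stepQ 16838 Q16838 (allL N16838 (tt N13785 F30085) (tt N19624 D19660) (tt N13774 (iv D16869)) (tt N13780 F30086) (tt N19587 (iv F36281)) (tt N13779 (iv F30087)))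
theorem Q16840 : ∀ i, i < 16840 → P i := stepQ 16839 Q16839 (allL N16839 (tt N13787 F30088) (tt N19623 (iv F36362)) (tt N13779 F30089) (tt N13775 F30090) (tt N19625 D19661) (tt N13774 (iv D16870)))
theorem Q16841 : ∀ i, i < 16841 → P i := stepQ 16840 Q16840 (allL N16840 (tt N13778 (iv D16871)) (tt N14104 F30091) (tt N17255 (iv F30895)) (tt N19626 D19662) (tt N14101 F30092) (tt N19627 D19663))
theorem Q16842 : ∀ i, i < 16842 → P i := stepQ 16841 Q16841 (allL N16841 (tt N19626 (iv F36368)) (tt N13779 F30093) (tt N19628 D19664) (tt N13778 (iv D16872)) (tt N19629 D19665) (tt N19624 (iv F36365)))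
theorem Q16843 : ∀ i, i < 16843 → P i := stepQ 16842 Q16842 (allL N16842 (tt N19627 (iv F36371)) (tt N13780 F30094) (tt N17257 (iv F30898)) (tt N19624 (iv F36364)) (tt N19627 (iv F36373)) (tt N13778 (iv D16873)))
theorem Q16844 : ∀ i, i < 16844 → P i := stepQ 16843 Q16843 (allL N16843 (tt N14110 F30095) (tt N19629 (iv F36375)) (tt N19625 (iv F36367)) (tt N14103 F30096) (tt N13779 (iv D16874)) (tt N19630 D19666))
theorem Q16845 : ∀ i, i < 16845 → P i := stepQ 16844 Q16844 (allL N16844 (tt N14107 F30097) (tt N19627 (iv F36372)) (tt N13781 F30098) (tt N19631 D19667) (tt N13780 (iv D16875)) (tt N14104 F30099))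
theorem Q16846 : ∀ i, i < 16846 → P i := stepQ 16845 Q16845 (allL N16845 (tt N13783 F30100) (tt N19620 (iv F36359)) (tt N19632 D19668) (tt N13782 (iv D16876)) (tt N19633 D19669) (tt N19634 D19670))
theorem Q16847 : ∀ i, i < 16847 → P i := stepQ 16846 Q16846 (allL N16846 (tt N13784 F30101) (tt N19621 (iv F36361)) (tt N15908 F30102) (tt N19634 (iv F36387)) (tt N19635 D19671) (tt N13782 (iv D16877)))
theorem Q16848 : ∀ i, i < 16848 → P i := stepQ 16847 Q16847 (allL N16847 (tt N19632 (iv F36382)) (tt N19636 D19672) (tt N13783 (iv D16878)) (tt N19637 D19673) (tt N19638 D19674) (tt N19639 D19675))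
theorem Q16849 : ∀ i, i < 16849 → P i := stepQ 16848 Q16848 (allL N16848 (tt N19633 (iv F36384)) (tt N13786 F30103) (tt N19638 (iv F36401)) (tt N13792 F30104) (tt N13783 (iv D16879)) (tt N19640 D19676))
theorem Q16850 : ∀ i, i < 16850 → P i := stepQ 16849 Q16849 (allL N16849 (tt N19634 (iv F36386)) (tt N13787 F30105) (tt N19639 (iv F36405)) (tt N13784 F30106) (tt N19641 D19677) (tt N13783 (iv D16880)))
theorem Q16851 : ∀ i, i < 16851 → P i := stepQ 16850 Q16850 (allL N16850 (tt N19635 (iv F36388)) (tt N13788 F30107) (tt N15452 F30108) (tt N19642 D19678) (tt N13784 (iv D16881)) (tt N13793 F30109))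
theorem Q16852 : ∀ i, i < 16852 → P i := stepQ 16851 Q16851 (allL N16851 (tt N19631 (iv F36379)) (tt N13785 (iv D16882)) (tt N19636 (iv F36391)) (tt N14107 F30110) (tt N19643 D19679) (tt N14106 F30111))
theorem Q16853 : ∀ i, i < 16853 → P i := stepQ 16852 Q16852 (allL N16852 (tt N19587 (iv F36280)) (tt N19643 (iv F36412)) (tt N13786 F30112) (tt N19643 (iv F36414)) (tt N13785 (iv D16883)) (tt N19644 D19680))
theorem Q16854 : ∀ i, i < 16854 → P i := stepQ 16853 Q16853 (allL N16853 (tt N19581 (iv F36267)) (tt N19640 (iv F36406)) (tt N19644 (iv F36417)) (tt N13794 F30113) (tt N19645 D19681) (tt N13786 (iv D16884)))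
theorem Q16855 : ∀ i, i < 16855 → P i := stepQ 16854 Q16854 (allL N16854 (tt N19625 (iv F36366)) (tt N19641 (iv F36409)) (tt N14110 F30114) (tt N19646 D19682) (tt N13787 (iv D16885)) (tt N19645 (iv F36421)))
theorem Q16856 : ∀ i, i < 16856 → P i := stepQ 16855 Q16855 (allL N16855 (tt N19579 (iv F36264)) (tt N19642 (iv F36410)) (tt N19647 D19683) (tt N13788 (iv D16886)) (tt N19646 (iv F36422)) (tt N13795 F30115))
theorem Q16857 : ∀ i, i < 16857 → P i := stepQ 16856 Q16856 (allL N16856 (tt N13791 F30116) (tt N19648 D19684) (tt N13789 (iv D16887)) (tt N18289 (iv F33180)) (tt N19649 D19685) (tt N19556 (iv F36207)))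
theorem Q16858 : ∀ i, i < 16858 → P i := stepQ 16857 Q16857 (allL N16857 (tt N13792 F30117) (tt N19583 (iv F36272)) (tt N19649 (iv F36428)) (tt N19633 (iv F36385)) (tt N13789 (iv D16888)) (tt N19650 D19686))
theorem Q16859 : ∀ i, i < 16859 → P i := stepQ 16858 Q16858 (allL N16858 (tt N13793 F30118) (tt N19582 (iv F36270)) (tt N17159 (iv F30690)) (tt N19651 D19687) (tt N13790 (iv D16889)) (tt N19635 (iv F36390)))
theorem Q16860 : ∀ i, i < 16860 → P i := stepQ 16859 Q16859 (allL N16859 (tt N18289 (iv F33179)) (tt N19559 (iv F36212)) (tt N18288 (iv F33178)) (tt N13791 (iv D16890)) (tt N19559 F36215) (tt N19557 (iv F36209)))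
theorem Q16861 : ∀ i, i < 16861 → P i := stepQ 16860 Q16860 (allL N16860 (tt N19649 (iv F36427)) (tt N19560 (iv F36217)) (tt N13792 F30119) (tt N19560 (iv F36219)) (tt N13791 (iv D16891)) (tt N19652 D19688))
theorem Q16862 : ∀ i, i < 16862 → P i := stepQ 16861 Q16861 (allL N16861 (tt N19650 (iv F36430)) (tt N13794 F30120) (tt N19652 (iv F36433)) (tt N19640 (iv F36408)) (tt N19563 (iv F36225)) (tt N13792 (iv D16892)))
theorem Q16863 : ∀ i, i < 16863 → P i := stepQ 16862 Q16862 (allL N16862 (tt N19651 (iv F36431)) (tt N13795 F30121) (tt N19653 D19689) (tt N13793 (iv D16893)) (tt N19562 (iv F36223)) (tt N19642 (iv F36411)))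
theorem Q16864 : ∀ i, i < 16864 → P i := stepQ 16863 Q16863 (allL N16863 (tt N19578 (iv F36262)) (tt N19654 D19690) (tt N13795 (iv D16894)) (tt N19655 D19691) (tt N19564 (iv F36228)) (tt N19647 (iv F36423)))
theorem Q16865 : ∀ i, i < 16865 → P i := stepQ 16864 Q16864 (allL N16864 (tt N15642 F30122) (tt N18032 (iv F32563)) (tt N13797 F30123) (tt N19656 D19692) (tt N13796 (iv D16895)) (tt N19657 D19693))
theorem Q16866 : ∀ i, i < 16866 → P i := stepQ 16865 Q16865 (allL N16865 (tt N15646 F30124) (tt N13798 F30125) (tt N19657 (iv F36442)) (tt N19416 (iv F35827)) (tt N15677 F30126) (tt N13797 (iv D16896)))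
theorem Q16867 : ∀ i, i < 16867 → P i := stepQ 16866 Q16866 (allL N16866 (tt N13800 (iv D16897)) (tt N13805 F30127) (tt N13862 F30128) (tt N15653 (iv F30131)) (tt N13804 F30129) (tt N15290 F30130))
theorem Q16868 : ∀ i, i < 16868 → P i := stepQ 16867 Q16867 (allL N16867 (tt N15653 F30132) (tt N13801 F30133) (tt N15651 F30136) (tt N13800 (iv D16898)) (tt N14391 F30134) (tt N15293 F30135))
theorem Q16869 : ∀ i, i < 16869 → P i := stepQ 16868 Q16868 (allL N16868 (tt N13806 F30137) (tt N15653 F30138) (tt N16832 F30139) (tt N13805 (iv D16899)) (tt N19658 D19694) (tt N19659 D19695))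
theorem Q16870 : ∀ i, i < 16870 → P i := stepQ 16869 Q16869 (allL N16869 (tt N13807 F30140) (tt N15290 F30141) (tt N19485 (iv F36026)) (tt N19659 (iv F36451)) (tt N19660 D19696) (tt N13805 (iv D16900)))
theorem Q16871 : ∀ i, i < 16871 → P i := stepQ 16870 Q16870 (allL N16870 (tt N16832 F30142) (tt N15352 F30143) (tt N13806 (iv D16901)) (tt N16831 F30144) (tt N19661 D19697) (tt N19662 D19698))
theorem Q16872 : ∀ i, i < 16872 → P i := stepQ 16871 Q16871 (allL N16871 (tt N19658 (iv F36444)) (tt N13809 F30145) (tt N19661 (iv F36457)) (tt N13815 F30146) (tt N13806 (iv D16902)) (tt N19663 D19699))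
theorem Q16873 : ∀ i, i < 16873 → P i := stepQ 16872 Q16872 (allL N16872 (tt N19659 (iv F36448)) (tt N13810 F30147) (tt N19662 (iv F36460)) (tt N13807 F30148) (tt N19664 D19700) (tt N13806 (iv D16903)))
theorem Q16874 : ∀ i, i < 16874 → P i := stepQ 16873 Q16873 (allL N16873 (tt N19660 (iv F36452)) (tt N13811 F30149) (tt N19483 (iv F36019)) (tt N19665 D19701) (tt N13807 (iv D16904)) (tt N13816 F30150))
theorem Q16875 : ∀ i, i < 16875 → P i := stepQ 16874 Q16874 (allL N16874 (tt N14392 F30151) (tt N15353 F30152) (tt N13809 F30153) (tt N17579 (iv F31576)) (tt N13808 (iv D16905)) (tt N17590 (iv F31603)))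
theorem Q16876 : ∀ i, i < 16876 → P i := stepQ 16875 Q16875 (allL N16875 (tt N14384 F30154) (tt N19663 (iv F36462)) (tt N17590 (iv F31602)) (tt N13817 F30155) (tt N19666 D19702) (tt N13809 (iv D16906)))
theorem Q16877 : ∀ i, i < 16877 → P i := stepQ 16876 Q16876 (allL N16876 (tt N18596 (iv F33903)) (tt N19664 (iv F36464)) (tt N14887 F30156) (tt N19667 D19703) (tt N13810 (iv D16907)) (tt N19666 (iv F36470)))
theorem Q16878 : ∀ i, i < 16878 → P i := stepQ 16877 Q16877 (allL N16877 (tt N14382 F30157) (tt N19665 (iv F36465)) (tt N19668 D19704) (tt N13811 (iv D16908)) (tt N19667 (iv F36473)) (tt N13818 F30158))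
theorem Q16879 : ∀ i, i < 16879 → P i := stepQ 16878 Q16878 (allL N16878 (tt N13814 F30159) (tt N17369 (iv F31136)) (tt N13812 (iv D16909)) (tt N19669 D19705) (tt N17811 (iv F32112)) (tt N14359 F30160))
theorem Q16880 : ∀ i, i < 16880 → P i := stepQ 16879 Q16879 (allL N16879 (tt N13815 F30161) (tt N14387 F30162) (tt N17811 (iv F32111)) (tt N19658 (iv F36447)) (tt N13812 (iv D16910)) (tt N18635 (iv F34013)))
theorem Q16881 : ∀ i, i < 16881 → P i := stepQ 16880 Q16880 (allL N16880 (tt N13816 F30163) (tt N14386 F30164) (tt N19490 (iv F36039)) (tt N19670 D19706) (tt N13813 (iv D16911)) (tt N19660 (iv F36454)))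
theorem Q16882 : ∀ i, i < 16882 → P i := stepQ 16881 Q16881 (allL N16881 (tt N19669 (iv F36479)) (tt N14363 F30165) (tt N19671 D19707) (tt N13814 (iv D16912)) (tt N19672 D19708) (tt N14360 F30166))
theorem Q16883 : ∀ i, i < 16883 → P i := stepQ 16882 Q16882 (allL N16882 (tt N17811 (iv F32110)) (tt N14364 F30167) (tt N13815 F30168) (tt N19673 D19709) (tt N13814 (iv D16913)) (tt N17641 (iv F31712)))
theorem Q16884 : ∀ i, i < 16884 → P i := stepQ 16883 Q16883 (allL N16883 (tt N18635 (iv F34011)) (tt N13817 F30169) (tt N17641 (iv F31711)) (tt N19663 (iv F36463)) (tt N14367 F30170) (tt N13815 (iv D16914)))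
theorem Q16885 : ∀ i, i < 16885 → P i := stepQ 16884 Q16884 (allL N16884 (tt N19670 (iv F36482)) (tt N13818 F30171) (tt N19674 D19710) (tt N13816 (iv D16915)) (tt N14366 F30172) (tt N19665 (iv F36466)))
theorem Q16886 : ∀ i, i < 16886 → P i := stepQ 16885 Q16885 (allL N16885 (tt N14381 F30173) (tt N19675 D19711) (tt N13818 (iv D16916)) (tt N19676 D19712) (tt N14368 F30174) (tt N19668 (iv F36478)))
theorem Q16887 : ∀ i, i < 16887 → P i := stepQ 16886 Q16886 (allL N16886 (tt N13826 F30175) (tt N17784 (iv F32048)) (tt N13824 (iv D16917)) (tt N14508 F30176) (tt N19677 D19713) (tt N17783 F32047))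
theorem Q16888 : ∀ i, i < 16888 → P i := stepQ 16887 Q16887 (allL N16887 (tt N13827 F30177) (tt N15734 F30178) (tt N19677 (iv F36498)) (tt N15599 F30179) (tt N13824 (iv D16918)) (tt N15733 F30180))
theorem Q16889 : ∀ i, i < 16889 → P i := stepQ 16888 Q16888 (allL N16888 (tt N17370 (iv F31139)) (tt N13826 (iv D16919)) (tt N13829 F30181) (tt N19678 D19714) (tt N19679 D19715) (tt N13837 (iv F30182)))
theorem Q16890 : ∀ i, i < 16890 → P i := stepQ 16889 Q16889 (allL N16889 (tt N14508 F30183) (tt N19678 (iv F36500)) (tt N14507 F30184) (tt N13826 (iv D16920)) (tt N19680 D19716) (tt N19681 D19717))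
theorem Q16891 : ∀ i, i < 16891 → P i := stepQ 16890 Q16890 (allL N16890 (tt N19677 (iv F36497)) (tt N19679 (iv F36502)) (tt N13827 F30185) (tt N19682 D19718) (tt N13826 (iv D16921)) (tt N19683 D19719))
theorem Q16892 : ∀ i, i < 16892 → P i := stepQ 16891 Q16891 (allL N16891 (tt N17783 (iv F32043)) (tt N13837 F30186) (tt N13828 F30187) (tt N19681 (iv F36509)) (tt N17786 (iv F32056)) (tt N13826 (iv D16922)))
theorem Q16893 : ∀ i, i < 16893 → P i := stepQ 16892 Q16892 (allL N16892 (tt N15733 F30188) (tt N13831 F30189) (tt N19683 (iv F36511)) (tt N15602 F30190) (tt N15730 F30191) (tt N13827 (iv D16923)))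
theorem Q16894 : ∀ i, i < 16894 → P i := stepQ 16893 Q16893 (allL N16893 (tt N17371 (iv F31141)) (tt N13830 F30192) (tt N19679 (iv F36503)) (tt N19684 D19720) (tt N13829 (iv D16924)) (tt N19685 D19721))
theorem Q16895 : ∀ i, i < 16895 → P i := stepQ 16894 Q16894 (allL N16894 (tt N13845 F30193) (tt N19684 (iv F36513)) (tt N17358 (iv F31105)) (tt N13830 (iv D16925)) (tt N13841 F30194) (tt N19686 D19722))
theorem Q16896 : ∀ i, i < 16896 → P i := stepQ 16895 Q16895 (allL N16895 (tt N13844 F30195) (tt N19685 (iv F36515)) (tt N13831 F30196) (tt N19686 (iv F36518)) (tt N13840 F30197) (tt N13830 (iv D16926)))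
theorem Q16897 : ∀ i, i < 16897 → P i := stepQ 16896 Q16896 (allL N16896 (tt N14504 F30198) (tt N13834 (iv D16927)) (tt N14523 F30199) (tt N19687 D19723) (tt N17131 (iv F30646)) (tt N14502 F30200))
theorem Q16898 : ∀ i, i < 16898 → P i := stepQ 16897 Q16897 (allL N16897 (tt N13835 F30201) (tt N19687 (iv F36520)) (tt N19681 (iv F36508)) (tt N13834 (iv D16928)) (tt N19688 D19724) (tt N14507 F30202))
theorem Q16899 : ∀ i, i < 16899 → P i := stepQ 16898 Q16898 (allL N16898 (tt N19681 (iv F36506)) (tt N17375 (iv F31149)) (tt N13835 (iv D16929)) (tt N17783 (iv F32045)) (tt N19689 D19725) (tt N14508 F30203))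
theorem Q16900 : ∀ i, i < 16900 → P i := stepQ 16899 Q16899 (allL N16899 (tt N19688 (iv F36522)) (tt N14513 F30204) (tt N19689 (iv F36523)) (tt N17134 (iv F30648)) (tt N13835 (iv D16930)) (tt N19690 D19726))
theorem Q16901 : ∀ i, i < 16901 → P i := stepQ 16900 Q16900 (allL N16900 (tt N13837 F30205) (tt N17366 (iv F31122)) (tt N13836 (iv D16931)) (tt N19691 D19727) (tt N17780 (iv F32036)) (tt N17370 (iv F31140)))
theorem Q16902 : ∀ i, i < 16902 → P i := stepQ 16901 Q16901 (allL N16901 (tt N13838 F30206) (tt N13842 F30207) (tt N17780 (iv F32035)) (tt N19424 (iv F35853)) (tt N13836 (iv D16932)) (tt N19692 D19728))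
theorem Q16903 : ∀ i, i < 16903 → P i := stepQ 16902 Q16902 (allL N16902 (tt N19691 (iv F36526)) (tt N19681 (iv F36507)) (tt N19693 D19729) (tt N13837 (iv D16933)) (tt N19694 D19730) (tt N19678 (iv F36501)))
theorem Q16904 : ∀ i, i < 16904 → P i := stepQ 16903 Q16903 (allL N16903 (tt N17780 F32037) (tt N17786 (iv F32054)) (tt N13838 F30208) (tt N19695 D19731) (tt N13837 (iv D16934)) (tt N19696 D19732))
theorem Q16905 : ∀ i, i < 16905 → P i := stepQ 16904 Q16904 (allL N16904 (tt N19692 (iv F36527)) (tt N13840 F30209) (tt N19696 (iv F36533)) (tt N19427 (iv F35864)) (tt N19685 (iv F36516)) (tt N13838 (iv D16935)))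
theorem Q16906 : ∀ i, i < 16906 → P i := stepQ 16905 Q16905 (allL N16905 (tt N17207 (iv F30790)) (tt N13841 F30210) (tt N19697 D19733) (tt N13839 (iv D16936)) (tt N19684 (iv F36514)) (tt N17361 (iv F31112)))
theorem Q16907 : ∀ i, i < 16907 → P i := stepQ 16906 Q16906 (allL N16906 (tt N13843 F30211) (tt N19692 (iv F36528)) (tt N15736 F30212) (tt N17849 (iv F32181)) (tt N17372 (iv F31144)) (tt N13842 (iv D16937)))
theorem Q16908 : ∀ i, i < 16908 → P i := stepQ 16907 Q16907 (allL N16907 (tt N19686 (iv F36517)) (tt N17211 (iv F30798)) (tt N19698 D19734) (tt N13844 (iv D16938)) (tt N17365 (iv F31120)) (tt N13845 F30213))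
theorem Q16909 : ∀ i, i < 16909 → P i := stepQ 16908 Q16908 (allL N16908 (tt N17358 (iv F31104)) (tt N17495 (iv F31398)) (tt N13845 (iv D16939)) (tt N17494 (iv F31397)) (tt N13846 F30214) (tt N19698 (iv F36535)))
theorem Q16910 : ∀ i, i < 16910 → P i := stepQ 16909 Q16909 (allL N16909 (tt N17489 (iv F31393)) (tt N13846 (iv D16940)) (tt N17209 (iv F30794)) (tt N17352 (iv F31084)) (tt N17495 (iv F31399)) (tt N17363 (iv F31116)))
theorem Q16911 : ∀ i, i < 16911 → P i := stepQ 16910 Q16910 (allL N16910 (tt N15815 F30215) (tt N19699 D19735) (tt N13848 (iv D16941)) (tt N18543 (iv F33757)) (tt N14956 F30216) (tt N13859 F30217))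
theorem Q16912 : ∀ i, i < 16912 → P i := stepQ 16911 Q16911 (allL N16911 (tt N19700 D19736) (tt N13849 (iv D16942)) (tt N19699 (iv F36537)) (tt N17104 (iv F30592)) (tt N14958 F30218) (tt N13860 F30219))
theorem Q16913 : ∀ i, i < 16913 → P i := stepQ 16912 Q16912 (allL N16912 (tt N18296 (iv F33192)) (tt N13852 F30220) (tt N18298 (iv F33202)) (tt N18113 (iv F32761)) (tt N13850 (iv D16943)) (tt N18114 (iv F32766)))
theorem Q16914 : ∀ i, i < 16914 → P i := stepQ 16913 Q16913 (allL N16913 (tt N13856 F30221) (tt N18030 (iv F32554)) (tt N15756 F30222) (tt N18108 (iv F32738)) (tt N13851 (iv D16944)) (tt N18029 (iv F32552)))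
theorem Q16915 : ∀ i, i < 16915 → P i := stepQ 16914 Q16914 (allL N16914 (tt N13857 F30223) (tt N18113 (iv F32759)) (tt N19701 D19737) (tt N13852 (iv D16945)) (tt N18108 F32739) (tt N18109 (iv F32742)))
theorem Q16916 : ∀ i, i < 16916 → P i := stepQ 16915 Q16915 (allL N16915 (tt N13858 F30224) (tt N18114 (iv F32764)) (tt N13853 F30225) (tt N18109 F32743) (tt N18110 (iv F32748)) (tt N13852 (iv D16946)))
theorem Q16917 : ∀ i, i < 16917 → P i := stepQ 16916 Q16916 (allL N16916 (tt N13859 F30226) (tt N19702 D19738) (tt N13854 (iv D16947)) (tt N17446 (iv F31279)) (tt N18507 (iv F33677)) (tt N15815 F30227))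
theorem Q16918 : ∀ i, i < 16918 → P i := stepQ 16917 Q16917 (allL N16917 (tt N15756 F30228) (tt N18417 (iv F33443)) (tt N13856 F30229) (tt N19703 D19739) (tt N13855 (iv D16948)) (tt N18165 (iv F32900)))
theorem Q16919 : ∀ i, i < 16919 → P i := stepQ 16918 Q16918 (allL N16918 (tt N18108 (iv F32736)) (tt N18505 (iv F33673)) (tt N19704 D19740) (tt N13856 (iv D16949)) (tt N13857 F30230) (tt N18102 F32723))
theorem Q16920 : ∀ i, i < 16920 → P i := stepQ 16919 Q16919 (allL N16919 (tt N18029 (iv F32549)) (tt N18439 (iv F33498)) (tt N18165 (iv F32899)) (tt N18102 (iv F32722)) (tt N18028 F32548) (tt N13856 (iv D16950)))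
theorem Q16921 : ∀ i, i < 16921 → P i := stepQ 16920 Q16920 (allL N16920 (tt N19701 (iv F36543)) (tt N19705 D19741) (tt N13857 (iv D16951)) (tt N19706 D19742) (tt N19704 (iv F36550)) (tt N19707 D19743))
theorem Q16922 : ∀ i, i < 16922 → P i := stepQ 16921 Q16921 (allL N16921 (tt N18109 (iv F32740)) (tt N18362 (iv F33331)) (tt N19707 (iv F36555)) (tt N13858 F30231) (tt N18103 (iv F32727)) (tt N13857 (iv D16952)))
theorem Q16923 : ∀ i, i < 16923 → P i := stepQ 16922 Q16922 (allL N16922 (tt N19708 D19744) (tt N13859 (iv D16953)) (tt N13860 F30232) (tt N18524 (iv F33727)) (tt N18509 (iv F33684)) (tt N19699 (iv F36539)))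
theorem Q16924 : ∀ i, i < 16924 → P i := stepQ 16923 Q16923 (allL N16923 (tt N13860 (iv D16954)) (tt N18519 (iv F33712)) (tt N19708 (iv F36557)) (tt N19709 D19745) (tt N18510 (iv F33688)) (tt N19700 (iv F36542)))
theorem Q16925 : ∀ i, i < 16925 → P i := stepQ 16924 Q16924 (allL N16924 (tt N19709 (iv F36558)) (tt N13861 F30233) (tt N19710 D19746) (tt N13860 (iv D16955)) (tt N18513 (iv F33697)) (tt N17104 (iv F30594)))
theorem Q16926 : ∀ i, i < 16926 → P i := stepQ 16925 Q16925 (allL N16925 (tt N17089 (iv F30560)) (tt N13864 F30234) (tt N17091 (iv F30564)) (tt N19593 (iv F36298)) (tt N15276 F30235) (tt N13863 (iv D16956)))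
theorem Q16927 : ∀ i, i < 16927 → P i := stepQ 16926 Q16926 (allL N16926 (tt N13866 F30236) (tt N15631 F30237) (tt N17737 (iv F31929)) (tt N13865 (iv D16957)) (tt N19711 D19747) (tt N15635 (iv F30238)))
theorem Q16928 : ∀ i, i < 16928 → P i := stepQ 16927 Q16927 (allL N16927 (tt N13867 F30239) (tt N14385 F30240) (tt N19459 (iv F35954)) (tt N15635 F30241) (tt N19712 D19748) (tt N13865 (iv D16958)))
theorem Q16929 : ∀ i, i < 16929 → P i := stepQ 16928 Q16928 (allL N16928 (tt N17737 (iv F31927)) (tt N14554 F30242) (tt N13866 (iv D16959)) (tt N17736 (iv F31926)) (tt N19713 D19749) (tt N15633 F30243))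
theorem Q16930 : ∀ i, i < 16930 → P i := stepQ 16929 Q16929 (allL N16929 (tt N19711 (iv F36561)) (tt N13868 F30244) (tt N19713 (iv F36568)) (tt N13873 F30245) (tt N13866 (iv D16960)) (tt N19714 D19750))
theorem Q16931 : ∀ i, i < 16931 → P i := stepQ 16930 Q16930 (allL N16930 (tt N19712 (iv F36564)) (tt N13869 F30246) (tt N19457 (iv F35946)) (tt N19715 D19751) (tt N13867 (iv D16961)) (tt N13874 F30247))
theorem Q16932 : ∀ i, i < 16932 → P i := stepQ 16931 Q16931 (allL N16931 (tt N15289 F30248) (tt N19714 (iv F36569)) (tt N15639 F30249) (tt N13875 F30250) (tt N15638 F30251) (tt N13868 (iv D16962)))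
theorem Q16933 : ∀ i, i < 16933 → P i := stepQ 16932 Q16932 (allL N16932 (tt N15287 F30252) (tt N19715 (iv F36572)) (tt N19716 D19752) (tt N13869 (iv D16963)) (tt N15637 F30253) (tt N13876 F30254))
theorem Q16934 : ∀ i, i < 16934 → P i := stepQ 16933 Q16933 (allL N16933 (tt N13872 F30255) (tt N15608 F30256) (tt N13870 (iv D16964)) (tt N19717 D19753) (tt N19718 D19754) (tt N15262 F30257))
theorem Q16935 : ∀ i, i < 16935 → P i := stepQ 16934 Q16934 (allL N16934 (tt N13873 F30258) (tt N15292 F30259) (tt N19718 (iv F36584)) (tt N19711 (iv F36563)) (tt N13870 (iv D16965)) (tt N19719 D19755))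
theorem Q16936 : ∀ i, i < 16936 → P i := stepQ 16935 Q16935 (allL N16935 (tt N13874 F30260) (tt N15291 F30261) (tt N19545 (iv F36181)) (tt N19720 D19756) (tt N13871 (iv D16966)) (tt N19712 (iv F36566)))
theorem Q16937 : ∀ i, i < 16937 → P i := stepQ 16936 Q16936 (allL N16936 (tt N19717 (iv F36578)) (tt N15266 F30262) (tt N19721 D19757) (tt N13872 (iv D16967)) (tt N19717 F36581) (tt N15263 F30263))
theorem Q16938 : ∀ i, i < 16938 → P i := stepQ 16937 Q16937 (allL N16937 (tt N19718 (iv F36582)) (tt N15267 F30264) (tt N13873 F30265) (tt N19718 (iv F36585)) (tt N13872 (iv D16968)) (tt N15703 F30266))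
theorem Q16939 : ∀ i, i < 16939 → P i := stepQ 16938 Q16938 (allL N16938 (tt N19719 (iv F36587)) (tt N13875 F30267) (tt N15703 F30268) (tt N19714 (iv F36570)) (tt N15270 F30269) (tt N13873 (iv D16969)))
theorem Q16940 : ∀ i, i < 16940 → P i := stepQ 16939 Q16939 (allL N16939 (tt N19720 (iv F36591)) (tt N13876 F30270) (tt N19722 D19758) (tt N13874 (iv D16970)) (tt N15269 F30271) (tt N19715 (iv F36574)))
theorem Q16941 : ∀ i, i < 16941 → P i := stepQ 16940 Q16940 (allL N16940 (tt N15286 F30272) (tt N19723 D19759) (tt N13876 (iv D16971)) (tt N19724 D19760) (tt N15271 F30273) (tt N19716 (iv F36577)))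
theorem Q16942 : ∀ i, i < 16942 → P i := stepQ 16941 Q16941 (allL N16941 (tt N14231 F30274) (tt N13879 (iv D16972)) (tt N14242 F30275) (tt N15047 F30276) (tt N19264 (iv F35483)) (tt N15046 F30277))
theorem Q16943 : ∀ i, i < 16943 → P i := stepQ 16942 Q16942 (allL N16942 (tt N15055 F30278) (tt N14000 F30279) (tt N15048 F30280) (tt N17576 (iv F31569)) (tt N13880 (iv D16973)) (tt N17575 (iv F31566)))
theorem Q16944 : ∀ i, i < 16944 → P i := stepQ 16943 Q16943 (allL N16943 (tt N19725 D19761) (tt N13881 (iv D16974)) (tt N18595 (iv F33901)) (tt N19726 D19762) (tt N13882 F30281) (tt N18141 (iv F32835)))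
theorem Q16945 : ∀ i, i < 16945 → P i := stepQ 16944 Q16944 (allL N16944 (tt N13922 F30282) (tt N19726 (iv F36605)) (tt N18236 (iv F33068)) (tt N13881 (iv D16975)) (tt N13930 F30283) (tt N18143 (iv F32843)))
theorem Q16946 : ∀ i, i < 16946 → P i := stepQ 16945 Q16945 (allL N16945 (tt N13882 (iv D16976)) (tt N13923 F30284) (tt N15349 F30285) (tt N13928 F30286) (tt N19725 (iv F36604)) (tt N13883 F30287))
theorem Q16947 : ∀ i, i < 16947 → P i := stepQ 16946 Q16946 (allL N16946 (tt N19727 D19763) (tt N13884 (iv D16977)) (tt N13885 F30288) (tt N19728 D19764) (tt N18409 (iv F33425)) (tt N13925 F30289))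
theorem Q16948 : ∀ i, i < 16948 → P i := stepQ 16947 Q16947 (allL N16947 (tt N19515 (iv F36099)) (tt N19728 (iv F36612)) (tt N16774 F30290) (tt N13884 (iv D16978)) (tt N19729 D19765) (tt N19410 (iv F35801)))
theorem Q16949 : ∀ i, i < 16949 → P i := stepQ 16948 Q16948 (allL N16948 (tt N13885 (iv D16979)) (tt N13928 F30291) (tt N19727 (iv F36608)) (tt N13923 F30292) (tt N18413 (iv F33435)) (tt N13924 F30293))
theorem Q16950 : ∀ i, i < 16950 → P i := stepQ 16949 Q16949 (allL N16949 (tt N13887 F30294) (tt N13895 F30295) (tt N13994 F30296) (tt N13939 F30297) (tt N19730 D19766) (tt N13886 (iv D16980)))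
theorem Q16951 : ∀ i, i < 16951 → P i := stepQ 16950 Q16950 (allL N16950 (tt N19730 (iv F36616)) (tt N13888 F30298) (tt N15052 F30299) (tt N19731 D19767) (tt N13887 (iv D16981)) (tt N14903 F30300))
theorem Q16952 : ∀ i, i < 16952 → P i := stepQ 16951 Q16951 (allL N16951 (tt N13901 F30301) (tt N19731 (iv F36620)) (tt N14719 (iv F30304)) (tt N13888 (iv D16982)) (tt N13941 F30302) (tt N14904 F30303))
theorem Q16953 : ∀ i, i < 16953 → P i := stepQ 16952 Q16952 (allL N16952 (tt N13890 F30305) (tt N14906 F30306) (tt N19389 (iv F35746)) (tt N13889 (iv D16983)) (tt N19732 D19768) (tt N14915 (iv F30307)))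
theorem Q16954 : ∀ i, i < 16954 → P i := stepQ 16953 Q16953 (allL N16953 (tt N13891 F30308) (tt N14905 F30309) (tt N13903 F30310) (tt N14915 F30311) (tt N19733 D19769) (tt N13889 (iv D16984)))
theorem Q16955 : ∀ i, i < 16955 → P i := stepQ 16954 Q16954 (allL N16954 (tt N19732 (iv F36623)) (tt N13892 F30312) (tt N19390 (iv F35749)) (tt N13897 F30313) (tt N13890 (iv D16985)) (tt N19734 D19770))
theorem Q16956 : ∀ i, i < 16956 → P i := stepQ 16955 Q16955 (allL N16955 (tt N19733 (iv F36626)) (tt N13893 F30314) (tt N13906 F30315) (tt N19735 D19771) (tt N13891 (iv D16986)) (tt N13899 F30316))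
theorem Q16957 : ∀ i, i < 16957 → P i := stepQ 16956 Q16956 (allL N16956 (tt N14909 F30317) (tt N19734 (iv F36630)) (tt N14910 F30318) (tt N13900 F30319) (tt N14670 F30320) (tt N13892 (iv D16987)))
theorem Q16958 : ∀ i, i < 16958 → P i := stepQ 16957 Q16957 (allL N16957 (tt N14904 F30321) (tt N19735 (iv F36633)) (tt N14667 F30324) (tt N13893 (iv D16988)) (tt N14668 F30322) (tt N13901 F30323))
theorem Q16959 : ∀ i, i < 16959 → P i := stepQ 16958 Q16958 (allL N16958 (tt N13896 F30325) (tt N14455 F30326) (tt N13894 (iv D16989)) (tt N13951 F30327) (tt N19736 D19772) (tt N14487 (iv F30328)))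
theorem Q16960 : ∀ i, i < 16960 → P i := stepQ 16959 Q16959 (allL N16959 (tt N13897 F30329) (tt N19603 (iv F36323)) (tt N19736 (iv F36639)) (tt N19732 (iv F36625)) (tt N13894 (iv D16990)) (tt N19737 D19773))
theorem Q16961 : ∀ i, i < 16961 → P i := stepQ 16960 Q16960 (allL N16960 (tt N13898 F30330) (tt N13939 F30331) (tt N14487 F30332) (tt N13895 F30333) (tt N15446 (iv F30334)) (tt N13894 (iv D16991)))
theorem Q16962 : ∀ i, i < 16962 → P i := stepQ 16961 Q16961 (allL N16961 (tt N13899 F30335) (tt N19730 (iv F36617)) (tt N13916 F30336) (tt N19738 D19774) (tt N13895 (iv D16992)) (tt N19733 (iv F36629)))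
theorem Q16963 : ∀ i, i < 16963 → P i := stepQ 16962 Q16962 (allL N16962 (tt N13951 F30337) (tt N19598 (iv F36309)) (tt N13950 F30338) (tt N13896 (iv D16993)) (tt N19739 D19775) (tt N19428 (iv F35868)))
theorem Q16964 : ∀ i, i < 16964 → P i := stepQ 16963 Q16963 (allL N16963 (tt N19736 (iv F36637)) (tt N19599 (iv F36313)) (tt N13897 F30339) (tt N19740 D19776) (tt N13896 (iv D16994)) (tt N19741 D19777))
theorem Q16965 : ∀ i, i < 16965 → P i := stepQ 16964 Q16964 (allL N16964 (tt N14487 F30340) (tt N13938 F30341) (tt N13898 F30342) (tt N19428 (iv F35867)) (tt N15442 (iv F30343)) (tt N13896 (iv D16995)))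
theorem Q16966 : ∀ i, i < 16966 → P i := stepQ 16965 Q16965 (allL N16965 (tt N19737 (iv F36640)) (tt N13900 F30344) (tt N19741 (iv F36647)) (tt N19734 (iv F36631)) (tt N15448 F30345) (tt N13897 (iv D16996)))
theorem Q16967 : ∀ i, i < 16967 → P i := stepQ 16966 Q16966 (allL N16966 (tt N19738 (iv F36642)) (tt N13901 F30346) (tt N19742 D19778) (tt N13899 (iv D16997)) (tt N15447 F30347) (tt N19735 (iv F36635)))
theorem Q16968 : ∀ i, i < 16968 → P i := stepQ 16967 Q16967 (allL N16967 (tt N14719 F30348) (tt N15860 (iv F30352)) (tt N13901 (iv D16998)) (tt N14663 F30351) (tt N14664 F30349) (tt N14667 F30350))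
theorem Q16969 : ∀ i, i < 16969 → P i := stepQ 16968 Q16968 (allL N16968 (tt N13904 F30353) (tt N18662 (iv F34082)) (tt N13902 (iv D16999)) (tt N18661 F34080) (tt N19743 D19779) (tt N18460 (iv F33568)))
theorem Q16970 : ∀ i, i < 16970 → P i := stepQ 16969 Q16969 (allL N16969 (tt N13905 F30354) (tt N13998 F30355) (tt N19743 (iv F36654)) (tt N13915 F30356) (tt N13902 (iv D17000)) (tt N19744 D19780))
theorem Q16971 : ∀ i, i < 16971 → P i := stepQ 16970 Q16970 (allL N16970 (tt N13906 F30357) (tt N13997 F30358) (tt N19733 (iv F36628)) (tt N19745 D19781) (tt N13903 (iv D17001)) (tt N13916 F30359))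
theorem Q16972 : ∀ i, i < 16972 → P i := stepQ 16971 Q16971 (allL N16971 (tt N18661 (iv F34077)) (tt N18464 (iv F33576)) (tt N19364 (iv F35697)) (tt N13904 (iv D17002)) (tt N18667 (iv F34094)) (tt N18461 (iv F33570)))
theorem Q16973 : ∀ i, i < 16973 → P i := stepQ 16972 Q16972 (allL N16972 (tt N19743 (iv F36652)) (tt N18427 (iv F33474)) (tt N13905 F30360) (tt N19746 D19782) (tt N13904 (iv D17003)) (tt N19747 D19783))
theorem Q16974 : ∀ i, i < 16974 → P i := stepQ 16973 Q16973 (allL N16973 (tt N19744 (iv F36656)) (tt N13907 F30361) (tt N19747 (iv F36664)) (tt N13918 F30362) (tt N18469 (iv F33586)) (tt N13905 (iv D17004)))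
theorem Q16975 : ∀ i, i < 16975 → P i := stepQ 16974 Q16974 (allL N16974 (tt N19745 (iv F36659)) (tt N13908 F30363) (tt N19748 D19784) (tt N13906 (iv D17005)) (tt N18468 (iv F33582)) (tt N13919 F30364))
theorem Q16976 : ∀ i, i < 16976 → P i := stepQ 16975 Q16975 (allL N16975 (tt N13990 F30365) (tt N19749 D19785) (tt N13908 (iv D17006)) (tt N18236 (iv F33069)) (tt N13974 F30366) (tt N13920 F30367))
theorem Q16977 : ∀ i, i < 16977 → P i := stepQ 16976 Q16976 (allL N16976 (tt N19750 D19786) (tt N13909 (iv D17007)) (tt N14863 F30368) (tt N19751 D19787) (tt N13910 F30369) (tt N13921 F30370))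
theorem Q16978 : ∀ i, i < 16978 → P i := stepQ 16977 Q16977 (allL N16977 (tt N18143 (iv F32840)) (tt N19751 (iv F36671)) (tt N13989 F30372) (tt N13909 (iv D17008)) (tt N18157 (iv F32871)) (tt N13922 F30371))
theorem Q16979 : ∀ i, i < 16979 → P i := stepQ 16978 Q16978 (allL N16978 (tt N13910 (iv D17009)) (tt N18138 (iv F32827)) (tt N14861 F30373) (tt N18155 (iv F32867)) (tt N19750 (iv F36669)) (tt N13911 F30374))
theorem Q16980 : ∀ i, i < 16980 → P i := stepQ 16979 Q16979 (allL N16979 (tt N13912 F30375) (tt N18137 (iv F32825)) (tt N19752 D19788) (tt N13911 (iv D17010)) (tt N19753 D19789) (tt N18155 (iv F32868)))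
theorem Q16981 : ∀ i, i < 16981 → P i := stepQ 16980 Q16980 (allL N16980 (tt N19752 (iv F36673)) (tt N18151 (iv F32860)) (tt N13912 (iv D17011)) (tt N19754 D19790) (tt N19755 D19791) (tt N18148 F32856))
theorem Q16982 : ∀ i, i < 16982 → P i := stepQ 16981 Q16981 (allL N16981 (tt N19753 (iv F36675)) (tt N13913 F30376) (tt N19755 (iv F36680)) (tt N13926 F30377) (tt N13912 (iv D17012)) (tt N19756 D19792))
theorem Q16983 : ∀ i, i < 16983 → P i := stepQ 16982 Q16982 (allL N16982 (tt N18142 (iv F32836)) (tt N19756 (iv F36683)) (tt N18159 (iv F32879)) (tt N13927 F30378) (tt N18158 (iv F32877)) (tt N13913 (iv D17013)))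
theorem Q16984 : ∀ i, i < 16984 → P i := stepQ 16983 Q16983 (allL N16983 (tt N13917 F30379) (tt N17449 (iv F31280)) (tt N13915 F30380) (tt N19524 (iv F36136)) (tt N13914 (iv D17014)) (tt N19397 (iv F35769)))
theorem Q16985 : ∀ i, i < 16985 → P i := stepQ 16984 Q16984 (allL N16984 (tt N13918 F30381) (tt N13979 F30382) (tt N19397 (iv F35766)) (tt N19744 (iv F36658)) (tt N13956 F30383) (tt N13915 (iv D17015)))
theorem Q16986 : ∀ i, i < 16986 → P i := stepQ 16985 Q16985 (allL N16985 (tt N13919 F30384) (tt N13977 F30385) (tt N19757 D19793) (tt N13916 (iv D17016)) (tt N13955 F30386) (tt N19745 (iv F36661)))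
theorem Q16987 : ∀ i, i < 16987 → P i := stepQ 16986 Q16986 (allL N16986 (tt N19524 (iv F36133)) (tt N13954 F30387) (tt N19758 D19794) (tt N13917 (iv D17017)) (tt N15740 F30388) (tt N19520 (iv F36119)))
theorem Q16988 : ∀ i, i < 16988 → P i := stepQ 16987 Q16987 (allL N16987 (tt N19397 (iv F35765)) (tt N13949 F30389) (tt N13918 F30390) (tt N19520 (iv F36118)) (tt N13945 F30391) (tt N13917 (iv D17018)))
theorem Q16989 : ∀ i, i < 16989 → P i := stepQ 16988 Q16988 (allL N16988 (tt N19757 (iv F36686)) (tt N19759 D19795) (tt N13919 (iv D17019)) (tt N19760 D19796) (tt N13957 F30392) (tt N19748 (iv F36665)))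
theorem Q16990 : ∀ i, i < 16990 → P i := stepQ 16989 Q16989 (allL N16989 (tt N19761 D19797) (tt N13920 (iv D17020)) (tt N19759 (iv F36692)) (tt N19762 D19798) (tt N13959 F30393) (tt N19749 (iv F36667)))
theorem Q16991 : ∀ i, i < 16991 → P i := stepQ 16990 Q16990 (allL N16990 (tt N13989 F30394) (tt N19762 (iv F36696)) (tt N18143 (iv F32841)) (tt N13920 (iv D17021)) (tt N13975 F30395) (tt N18236 (iv F33070)))
theorem Q16992 : ∀ i, i < 16992 → P i := stepQ 16991 Q16991 (allL N16991 (tt N13921 (iv D17022)) (tt N19725 (iv F36602)) (tt N15139 F30396) (tt N19763 D19799) (tt N13923 F30397) (tt N19750 (iv F36670)))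
theorem Q16993 : ∀ i, i < 16993 → P i := stepQ 16992 Q16992 (allL N16992 (tt N19763 (iv F36698)) (tt N13922 F30398) (tt N19764 D19800) (tt N13921 (iv D17023)) (tt N18414 (iv F33437)) (tt N19751 (iv F36672)))
theorem Q16994 : ∀ i, i < 16994 → P i := stepQ 16993 Q16993 (allL N16993 (tt N18236 (iv F33067)) (tt N19765 D19801) (tt N13922 (iv D17024)) (tt N13990 F30400) (tt N18213 (iv F33020)) (tt N13989 F30399))
theorem Q16995 : ∀ i, i < 16995 → P i := stepQ 16994 Q16994 (allL N16994 (tt N13925 F30401) (tt N14682 F30402) (tt N13924 (iv D17025)) (tt N15305 F30403) (tt N14680 (iv F30404)) (tt N19727 (iv F36609)))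
theorem Q16996 : ∀ i, i < 16996 → P i := stepQ 16995 Q16995 (allL N16995 (tt N13926 F30405) (tt N19413 (iv F35811)) (tt N14680 F30406) (tt N19753 (iv F36676)) (tt N13924 (iv D17026)) (tt N19766 D19802))
theorem Q16997 : ∀ i, i < 16997 → P i := stepQ 16996 Q16996 (allL N16996 (tt N15305 F30407) (tt N19410 (iv F35799)) (tt N15304 F30408) (tt N13925 (iv D17027)) (tt N15304 (iv F30409)) (tt N19728 (iv F36614)))
theorem Q16998 : ∀ i, i < 16998 → P i := stepQ 16997 Q16997 (allL N16997 (tt N14680 F30410) (tt N18216 (iv F33027)) (tt N13926 F30411) (tt N14679 F30412) (tt N13925 (iv D17028)) (tt N19767 D19803))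
theorem Q16999 : ∀ i, i < 16999 → P i := stepQ 16998 Q16998 (allL N16998 (tt N19766 (iv F36701)) (tt N13927 F30413) (tt N19767 (iv F36706)) (tt N19756 (iv F36685)) (tt N18415 (iv F33439)) (tt N13926 (iv D17029)))
theorem Q17000 : ∀ i, i < 17000 → P i := stepQ 16999 Q16999 (allL N16999 (tt N13929 F30414) (tt N18413 (iv F33434)) (tt N19521 (iv F36122)) (tt N19768 D19804) (tt N13928 (iv D17030)) (tt N19769 D19805))
theorem Q17001 : ∀ i, i < 17001 → P i := stepQ 17000 Q17000 (allL N17000 (tt N19768 (iv F36708)) (tt N13930 F30415) (tt N19770 D19806) (tt N13929 (iv D17031)) (tt N19726 (iv F36606)) (tt N18235 (iv F33066)))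
theorem Q17002 : ∀ i, i < 17002 → P i := stepQ 17001 Q17001 (allL N17001 (tt N19769 (iv F36709)) (tt N13931 F30416) (tt N19519 (iv F36112)) (tt N18235 (iv F33065)) (tt N19412 (iv F35808)) (tt N13929 (iv D17032)))
theorem Q17003 : ∀ i, i < 17003 → P i := stepQ 17002 Q17002 (allL N17002 (tt N17991 (iv F32458)) (tt N13933 F30417) (tt N17990 (iv F32457)) (tt N19771 D19807) (tt N13932 (iv D17033)) (tt N19772 D19808))
theorem Q17004 : ∀ i, i < 17004 → P i := stepQ 17003 Q17003 (allL N17003 (tt N13936 F30418) (tt N19771 (iv F36712)) (tt N19773 D19809) (tt N13933 (iv D17034)) (tt N14020 F30419) (tt N19774 D19810))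
theorem Q17005 : ∀ i, i < 17005 → P i := stepQ 17004 Q17004 (allL N17004 (tt N13937 F30420) (tt N19772 (iv F36715)) (tt N13934 F30421) (tt N19774 (iv F36721)) (tt N14007 F30422) (tt N13933 (iv D17035)))
theorem Q17006 : ∀ i, i < 17006 → P i := stepQ 17005 Q17005 (allL N17005 (tt N14020 F30423) (tt N18403 (iv F33409)) (tt N19775 D19811) (tt N13935 (iv D17036)) (tt N13936 F30424) (tt N19776 D19812))
theorem Q17007 : ∀ i, i < 17007 → P i := stepQ 17006 Q17006 (allL N17006 (tt N14021 F30425) (tt N18404 (iv F33411)) (tt N14018 F30426) (tt N19776 (iv F36725)) (tt N14013 F30427) (tt N13935 (iv D17037)))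
theorem Q17008 : ∀ i, i < 17008 → P i := stepQ 17007 Q17007 (allL N17007 (tt N19773 (iv F36718)) (tt N19777 D19813) (tt N13936 (iv D17038)) (tt N19396 F35764) (tt N19775 (iv F36723)) (tt N19778 D19814))
theorem Q17009 : ∀ i, i < 17009 → P i := stepQ 17008 Q17008 (allL N17008 (tt N19774 (iv F36720)) (tt N18406 (iv F33413)) (tt N19778 (iv F36726)) (tt N13937 F30428) (tt N19779 D19815) (tt N13936 (iv D17039)))
theorem Q17010 : ∀ i, i < 17010 → P i := stepQ 17009 Q17009 (allL N17009 (tt N14490 F30429) (tt N19428 (iv F35865)) (tt N19414 (iv F35817)) (tt N13938 (iv D17040)) (tt N17931 (iv F32325)) (tt N19598 (iv F36311)))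
theorem Q17011 : ∀ i, i < 17011 → P i := stepQ 17010 Q17010 (allL N17010 (tt N13940 F30430) (tt N15446 F30431) (tt N14469 F30432) (tt N19780 D19816) (tt N13939 (iv D17041)) (tt N19781 D19817))
theorem Q17012 : ∀ i, i < 17012 → P i := stepQ 17011 Q17011 (allL N17011 (tt N19780 (iv F36729)) (tt N13941 F30433) (tt N19782 D19818) (tt N13940 (iv D17042)) (tt N19731 (iv F36621)) (tt N14718 (iv F30434)))
theorem Q17013 : ∀ i, i < 17013 → P i := stepQ 17012 Q17012 (allL N17012 (tt N19781 (iv F36732)) (tt N13942 F30435) (tt N14470 F30436) (tt N14718 F30437) (tt N19604 (iv F36329)) (tt N13940 (iv D17043)))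
theorem Q17014 : ∀ i, i < 17014 → P i := stepQ 17013 Q17013 (allL N17013 (tt N19412 (iv F35810)) (tt N19766 (iv F36702)) (tt N13944 (iv D17044)) (tt N19783 D19819) (tt N19769 (iv F36711)) (tt N19413 (iv F35814)))
theorem Q17015 : ∀ i, i < 17015 → P i := stepQ 17014 Q17014 (allL N17014 (tt N19519 (iv F36110)) (tt N13947 F30438) (tt N19769 (iv F36710)) (tt N13952 F30439) (tt N13944 (iv D17045)) (tt N19521 (iv F36124)))
theorem Q17016 : ∀ i, i < 17016 → P i := stepQ 17015 Q17015 (allL N17015 (tt N19767 (iv F36704)) (tt N13946 (iv D17046)) (tt N19766 (iv F36703)) (tt N14681 F30440) (tt N19784 D19820) (tt N14680 F30441))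
theorem Q17017 : ∀ i, i < 17017 → P i := stepQ 17016 Q17016 (allL N17016 (tt N14693 F30442) (tt N19784 (iv F36738)) (tt N13947 F30443) (tt N19785 D19821) (tt N13946 (iv D17047)) (tt N19786 D19822))
theorem Q17018 : ∀ i, i < 17018 → P i := stepQ 17017 Q17017 (allL N17017 (tt N14694 F30444) (tt N19521 (iv F36121)) (tt N19786 (iv F36742)) (tt N13953 F30445) (tt N15661 F30446) (tt N13947 (iv D17048)))
theorem Q17019 : ∀ i, i < 17019 → P i := stepQ 17018 Q17018 (allL N17018 (tt N14695 F30447) (tt N19520 (iv F36116)) (tt N15613 F30448) (tt N13949 (iv D17049)) (tt N15612 F30449) (tt N13954 F30450))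
theorem Q17020 : ∀ i, i < 17020 → P i := stepQ 17019 Q17019 (allL N17019 (tt N13952 F30451) (tt N19394 (iv F35756)) (tt N19739 (iv F36645)) (tt N19519 (iv F36113)) (tt N13950 (iv D17050)) (tt N19525 (iv F36141)))
theorem Q17021 : ∀ i, i < 17021 → P i := stepQ 17020 Q17020 (allL N17020 (tt N19739 (iv F36644)) (tt N14500 F30452) (tt N13952 F30453) (tt N19787 D19823) (tt N13951 (iv D17051)) (tt N19788 D19824))
theorem Q17022 : ∀ i, i < 17022 → P i := stepQ 17021 Q17021 (allL N17021 (tt N19525 (iv F36138)) (tt N13953 F30454) (tt N19788 (iv F36746)) (tt N19521 (iv F36123)) (tt N19431 (iv F35878)) (tt N13952 (iv D17052)))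
theorem Q17023 : ∀ i, i < 17023 → P i := stepQ 17022 Q17022 (allL N17022 (tt N13957 F30455) (tt N19789 D19825) (tt N13955 (iv D17053)) (tt N19790 D19826) (tt N19757 (iv F36687)) (tt N19791 D19827))
theorem Q17024 : ∀ i, i < 17024 → P i := stepQ 17023 Q17023 (allL N17023 (tt N13958 F30456) (tt N13978 F30457) (tt N19791 (iv F36750)) (tt N13956 F30458) (tt N19792 D19828) (tt N13955 (iv D17054)))
theorem Q17025 : ∀ i, i < 17025 → P i := stepQ 17024 Q17024 (allL N17024 (tt N19793 D19829) (tt N13957 (iv D17055)) (tt N13959 F30459) (tt N19794 D19830) (tt N19759 (iv F36693)) (tt N13971 (iv F30460)))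
theorem Q17026 : ∀ i, i < 17026 → P i := stepQ 17025 Q17025 (allL N17025 (tt N19790 (iv F36748)) (tt N19794 (iv F36755)) (tt N18140 F32831) (tt N13957 (iv D17056)) (tt N18139 (iv F32832)) (tt N19795 D19831))
theorem Q17027 : ∀ i, i < 17027 → P i := stepQ 17026 Q17026 (allL N17026 (tt N19791 (iv F36749)) (tt N13971 F30461) (tt N13958 F30462) (tt N19795 (iv F36758)) (tt N19796 D19832) (tt N13957 (iv D17057)))
theorem Q17028 : ∀ i, i < 17028 → P i := stepQ 17027 Q17027 (allL N17027 (tt N19792 (iv F36751)) (tt N13960 F30463) (tt N19796 (iv F36760)) (tt N18469 (iv F33585)) (tt N13958 (iv D17058)) (tt N18468 F33583))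
theorem Q17029 : ∀ i, i < 17029 → P i := stepQ 17028 Q17028 (allL N17028 (tt N13959 (iv D17059)) (tt N13987 F30464) (tt N19793 (iv F36753)) (tt N13970 F30465) (tt N19761 (iv F36695)) (tt N13969 F30466))
theorem Q17030 : ∀ i, i < 17030 → P i := stepQ 17029 Q17029 (allL N17029 (tt N18430 (iv F33484)) (tt N19797 D19833) (tt N13963 (iv D17060)) (tt N19798 D19834) (tt N18424 F33467) (tt N18425 (iv F33471)))
theorem Q17031 : ∀ i, i < 17031 → P i := stepQ 17030 Q17030 (allL N17030 (tt N18429 (iv F33479)) (tt N13967 F30467) (tt N18425 (iv F33470)) (tt N13964 F30468) (tt N18423 (iv F33463)) (tt N13963 (iv D17061)))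
theorem Q17032 : ∀ i, i < 17032 → P i := stepQ 17031 Q17031 (allL N17031 (tt N15873 F30469) (tt N13965 (iv D17062)) (tt N19797 (iv F36762)) (tt N14621 F30470) (tt N19799 D19835) (tt N14620 F30471))
theorem Q17033 : ∀ i, i < 17033 → P i := stepQ 17032 Q17032 (allL N17032 (tt N14628 F30472) (tt N19799 (iv F36765)) (tt N13966 F30473) (tt N15879 F30474) (tt N13965 (iv D17063)) (tt N19800 D19836))
theorem Q17034 : ∀ i, i < 17034 → P i := stepQ 17033 Q17033 (allL N17033 (tt N18186 (iv F32947)) (tt N18422 (iv F33456)) (tt N19800 (iv F36770)) (tt N18184 (iv F32941)) (tt N18420 (iv F33450)) (tt N13966 (iv D17064)))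
theorem Q17035 : ∀ i, i < 17035 → P i := stepQ 17034 Q17034 (allL N17034 (tt N14626 F30475) (tt N18423 (iv F33461)) (tt N14622 F30476) (tt N19801 D19837) (tt N13967 (iv D17065)) (tt N18420 F33449))
theorem Q17036 : ∀ i, i < 17036 → P i := stepQ 17035 Q17035 (allL N17035 (tt N18187 (iv F32952)) (tt N18459 (iv F33565)) (tt N19802 D19838) (tt N13968 (iv D17066)) (tt N19801 (iv F36774)) (tt N18185 (iv F32946)))
theorem Q17037 : ∀ i, i < 17037 → P i := stepQ 17036 Q17036 (allL N17036 (tt N13971 F30477) (tt N19803 D19839) (tt N13969 (iv D17067)) (tt N19804 D19840) (tt N19805 D19841) (tt N19793 (iv F36754)))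
theorem Q17038 : ∀ i, i < 17038 → P i := stepQ 17037 Q17037 (allL N17037 (tt N13972 F30478) (tt N18195 (iv F32980)) (tt N19805 (iv F36778)) (tt N18190 (iv F32964)) (tt N13969 (iv D17068)) (tt N19806 D19842))
theorem Q17039 : ∀ i, i < 17039 → P i := stepQ 17038 Q17038 (allL N17038 (tt N19804 (iv F36776)) (tt N19795 (iv F36757)) (tt N18431 (iv F33490)) (tt N13971 (iv D17069)) (tt N18432 (iv F33491)) (tt N19794 (iv F36756)))
theorem Q17040 : ∀ i, i < 17040 → P i := stepQ 17039 Q17039 (allL N17039 (tt N19805 (iv F36777)) (tt N19796 (iv F36759)) (tt N13972 F30479) (tt N19807 D19843) (tt N13971 (iv D17070)) (tt N19808 D19844))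
theorem Q17041 : ∀ i, i < 17041 → P i := stepQ 17040 Q17040 (allL N17040 (tt N19806 (iv F36779)) (tt N13974 F30480) (tt N19808 (iv F36780)) (tt N18191 (iv F32967)) (tt N19749 (iv F36666)) (tt N13972 (iv D17071)))
theorem Q17042 : ∀ i, i < 17042 → P i := stepQ 17041 Q17041 (allL N17041 (tt N18471 (iv F33587)) (tt N13975 F30481) (tt N19809 D19845) (tt N13973 (iv D17072)) (tt N19762 (iv F36697)) (tt N18192 (iv F32972)))
theorem Q17043 : ∀ i, i < 17043 → P i := stepQ 17042 Q17042 (allL N17042 (tt N19810 D19846) (tt N13976 (iv D17073)) (tt N19789 (iv F36747)) (tt N19811 D19847) (tt N19812 D19848) (tt N19813 D19849))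
theorem Q17044 : ∀ i, i < 17044 → P i := stepQ 17043 Q17043 (allL N17043 (tt N13981 F30482) (tt N19811 (iv F36782)) (tt N14675 F30483) (tt N13976 (iv D17074)) (tt N19814 D19850) (tt N19399 (iv F35776)))
theorem Q17045 : ∀ i, i < 17045 → P i := stepQ 17044 Q17044 (allL N17044 (tt N13982 F30484) (tt N19812 (iv F36784)) (tt N13977 F30485) (tt N19815 D19851) (tt N13976 (iv D17075)) (tt N19816 D19852))
theorem Q17046 : ∀ i, i < 17046 → P i := stepQ 17045 Q17045 (allL N17045 (tt N13983 F30486) (tt N19813 (iv F36785)) (tt N13978 F30487) (tt N19399 (iv F35775)) (tt N19817 D19853) (tt N13976 (iv D17076)))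
theorem Q17047 : ∀ i, i < 17047 → P i := stepQ 17046 Q17046 (allL N17046 (tt N13984 F30488) (tt N19745 (iv F36660)) (tt N19816 (iv F36790)) (tt N13997 F30489) (tt N19818 D19854) (tt N13977 (iv D17077)))
theorem Q17048 : ∀ i, i < 17048 → P i := stepQ 17047 Q17047 (allL N17047 (tt N13985 F30490) (tt N19792 (iv F36752)) (tt N19817 (iv F36792)) (tt N19819 D19855) (tt N13978 (iv D17078)) (tt N19818 (iv F36794)))
theorem Q17049 : ∀ i, i < 17049 → P i := stepQ 17048 Q17048 (allL N17048 (tt N13986 F30491) (tt N19744 (iv F36657)) (tt N15418 F30492) (tt N13979 (iv D17079)) (tt N19819 (iv F36796)) (tt N13998 F30493))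
theorem Q17050 : ∀ i, i < 17050 → P i := stepQ 17049 Q17049 (allL N17049 (tt N13980 (iv D17080)) (tt N19810 (iv F36781)) (tt N13987 F30494) (tt N18223 (iv F33049)) (tt N19820 D19856) (tt N18194 (iv F32978)))
theorem Q17051 : ∀ i, i < 17051 → P i := stepQ 17050 Q17050 (allL N17050 (tt N18223 (iv F33048)) (tt N13981 F30495) (tt N14010 F30496) (tt N13980 (iv D17081)) (tt N19821 D19857) (tt N18197 (iv F32987)))
theorem Q17052 : ∀ i, i < 17052 → P i := stepQ 17051 Q17051 (allL N17051 (tt N19820 (iv F36798)) (tt N13982 F30497) (tt N13988 F30498) (tt N19822 D19858) (tt N13980 (iv D17082)) (tt N19823 D19859))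
theorem Q17053 : ∀ i, i < 17053 → P i := stepQ 17052 Q17052 (allL N17052 (tt N14675 F30499) (tt N14014 F30500) (tt N13981 (iv D17083)) (tt N14674 F30501) (tt N19824 D19860) (tt N19398 (iv F35773)))
theorem Q17054 : ∀ i, i < 17054 → P i := stepQ 17053 Q17053 (allL N17053 (tt N19814 (iv F36786)) (tt N19821 (iv F36800)) (tt N19824 (iv F36807)) (tt N19825 D19861) (tt N13981 (iv D17084)) (tt N19826 D19862))
theorem Q17055 : ∀ i, i < 17055 → P i := stepQ 17054 Q17054 (allL N17054 (tt N19399 (iv F35774)) (tt N18197 (iv F32986)) (tt N19398 (iv F35772)) (tt N13983 F30502) (tt N19827 D19863) (tt N13981 (iv D17085)))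
theorem Q17056 : ∀ i, i < 17056 → P i := stepQ 17055 Q17055 (allL N17055 (tt N19815 (iv F36788)) (tt N19822 (iv F36802)) (tt N19828 D19864) (tt N13982 (iv D17086)) (tt N19825 (iv F36809)) (tt N19829 D19865))
theorem Q17057 : ∀ i, i < 17057 → P i := stepQ 17056 Q17056 (allL N17056 (tt N19816 (iv F36789)) (tt N19823 (iv F36803)) (tt N13984 F30503) (tt N19829 (iv F36810)) (tt N19830 D19866) (tt N13982 (iv D17087)))
theorem Q17058 : ∀ i, i < 17058 → P i := stepQ 17057 Q17057 (allL N17057 (tt N19817 (iv F36791)) (tt N18198 (iv F32989)) (tt N13985 F30504) (tt N19831 D19867) (tt N13983 (iv D17088)) (tt N19830 (iv F36812)))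
theorem Q17059 : ∀ i, i < 17059 → P i := stepQ 17058 Q17058 (allL N17058 (tt N19818 (iv F36793)) (tt N13991 F30505) (tt N19830 (iv F36811)) (tt N18244 (iv F33082)) (tt N13984 (iv D17089)) (tt N13985 F30506))
theorem Q17060 : ∀ i, i < 17060 → P i := stepQ 17059 Q17059 (allL N17059 (tt N19819 (iv F36795)) (tt N13992 F30507) (tt N19832 D19868) (tt N13985 (iv D17090)) (tt N13986 F30508) (tt N18244 (iv F33084)))
theorem Q17061 : ∀ i, i < 17061 → P i := stepQ 17060 Q17060 (allL N17060 (tt N15418 F30509) (tt N19833 D19869) (tt N13986 (iv D17091)) (tt N15411 F30510) (tt N19832 (iv F36814)) (tt N14002 F30511))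
theorem Q17062 : ∀ i, i < 17062 → P i := stepQ 17061 Q17061 (allL N17061 (tt N13988 F30512) (tt N19761 (iv F36694)) (tt N19820 (iv F36799)) (tt N19834 D19870) (tt N13987 (iv D17092)) (tt N19835 D19871))
theorem Q17063 : ∀ i, i < 17063 → P i := stepQ 17062 Q17062 (allL N17062 (tt N19834 (iv F36818)) (tt N13989 F30513) (tt N19836 D19872) (tt N13988 (iv D17093)) (tt N18200 (iv F32995)) (tt N19765 (iv F36700)))
theorem Q17064 : ∀ i, i < 17064 → P i := stepQ 17063 Q17063 (allL N17063 (tt N19835 (iv F36819)) (tt N13990 F30514) (tt N19823 (iv F36804)) (tt N19765 (iv F36699)) (tt N18199 (iv F32993)) (tt N13988 (iv D17094)))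
theorem Q17065 : ∀ i, i < 17065 → P i := stepQ 17064 Q17064 (allL N17064 (tt N19801 (iv F36773)) (tt N13993 (iv D17095)) (tt N19833 (iv F36815)) (tt N14626 F30515) (tt N18187 (iv F32954)) (tt N14003 F30516))
theorem Q17066 : ∀ i, i < 17066 → P i := stepQ 17065 Q17065 (allL N17065 (tt N15051 F30517) (tt N13995 F30518) (tt N14218 F30519) (tt N13994 (iv D17096)) (tt N19837 D19873) (tt N14217 F30520))
theorem Q17067 : ∀ i, i < 17067 → P i := stepQ 17066 Q17066 (allL N17066 (tt N15052 F30521) (tt N13996 F30522) (tt N19730 (iv F36618)) (tt N19838 D19874) (tt N13994 (iv D17097)) (tt N15059 F30523))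
theorem Q17068 : ∀ i, i < 17068 → P i := stepQ 17067 Q17067 (allL N17067 (tt N14000 F30524) (tt N19837 (iv F36821)) (tt N14277 F30525) (tt N19839 D19875) (tt N13995 (iv D17098)) (tt N19840 D19876))
theorem Q17069 : ∀ i, i < 17069 → P i := stepQ 17068 Q17068 (allL N17068 (tt N14001 F30526) (tt N19838 (iv F36824)) (tt N19841 D19877) (tt N13996 (iv D17099)) (tt N19839 (iv F36827)) (tt N19256 F35455))
theorem Q17070 : ∀ i, i < 17070 → P i := stepQ 17069 Q17069 (allL N17069 (tt N14244 F30527) (tt N13999 (iv D17100)) (tt N15046 F30528) (tt N14261 F30529) (tt N19842 D19878) (tt N14242 F30530))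
theorem Q17071 : ∀ i, i < 17071 → P i := stepQ 17070 Q17070 (allL N17070 (tt N14277 F30531) (tt N19842 (iv F36832)) (tt N14000 F30532) (tt N19843 D19879) (tt N13999 (iv D17101)) (tt N19844 D19880))
theorem Q17072 : ∀ i, i < 17072 → P i := stepQ 17071 Q17071 (allL N17071 (tt N19839 (iv F36826)) (tt N17576 (iv F31567)) (tt N19845 D19881) (tt N14000 (iv D17102)) (tt N14001 F30533) (tt N17574 (iv F31562)))
theorem Q17073 : ∀ i, i < 17073 → P i := stepQ 17072 Q17072 (allL N17072 (tt N19840 (iv F36828)) (tt N17575 (iv F31564)) (tt N19844 (iv F36838)) (tt N17574 F31563) (tt N19260 (iv F35469)) (tt N14000 (iv D17103)))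
theorem Q17074 : ∀ i, i < 17074 → P i := stepQ 17073 Q17073 (allL N17073 (tt N19841 (iv F36830)) (tt N19846 D19882) (tt N14001 (iv D17104)) (tt N19847 D19883) (tt N19845 (iv F36839)) (tt N19259 F35467))
theorem Q17075 : ∀ i, i < 17075 → P i := stepQ 17074 Q17074 (allL N17074 (tt N19848 D19884) (tt N14002 (iv D17105)) (tt N14003 F30534) (tt N14768 F30535) (tt N18453 F33547) (tt N19833 (iv F36817)))
theorem Q17076 : ∀ i, i < 17076 → P i := stepQ 17075 Q17075 (allL N17075 (tt N14003 (iv D17106)) (tt N18421 (iv F33453)) (tt N19848 (iv F36843)) (tt N18420 F33451) (tt N18448 F33531) (tt N19801 (iv F36775)))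
theorem Q17077 : ∀ i, i < 17077 → P i := stepQ 17076 Q17076 (allL N17076 (tt N18420 (iv F33447)) (tt N14004 F30536) (tt N14627 F30538) (tt N14003 (iv D17107)) (tt N18186 (iv F32951)) (tt N14626 F30537))
theorem Q17078 : ∀ i, i < 17078 → P i := stepQ 17077 Q17077 (allL N17077 (tt N18222 (iv F33046)) (tt N14006 F30539) (tt N15342 F30540) (tt N14005 (iv D17108)) (tt N18260 (iv F33122)) (tt N19849 D19885))
theorem Q17079 : ∀ i, i < 17079 → P i := stepQ 17078 Q17078 (allL N17078 (tt N15329 F30541) (tt N14007 F30542) (tt N15327 F30543) (tt N19849 (iv F36849)) (tt N19772 (iv F36717)) (tt N14005 (iv D17109)))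
theorem Q17080 : ∀ i, i < 17080 → P i := stepQ 17079 Q17079 (allL N17079 (tt N14014 F30544) (tt N14672 (iv F30546)) (tt N14006 (iv D17110)) (tt N14671 F30545) (tt N18286 (iv F33171)) (tt N19411 (iv F35806)))
theorem Q17081 : ∀ i, i < 17081 → P i := stepQ 17080 Q17080 (allL N17080 (tt N14015 F30547) (tt N19849 (iv F36847)) (tt N19411 (iv F35804)) (tt N14007 F30548) (tt N19850 D19886) (tt N14006 (iv D17111)))
theorem Q17082 : ∀ i, i < 17082 → P i := stepQ 17081 Q17081 (allL N17081 (tt N14009 F30549) (tt N18258 (iv F33115)) (tt N14009 F30550) (tt N18224 (iv F33051)) (tt N14008 (iv D17112)) (tt N19851 D19887))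
theorem Q17083 : ∀ i, i < 17083 → P i := stepQ 17082 Q17082 (allL N17082 (tt N18224 (iv F33050)) (tt N14012 F30551) (tt N19821 (iv F36801)) (tt N14009 (iv D17113)) (tt N14010 F30552) (tt N19852 D19888))
theorem Q17084 : ∀ i, i < 17084 → P i := stepQ 17083 Q17083 (allL N17083 (tt N19851 (iv F36852)) (tt N14013 F30553) (tt N19851 (iv F36853)) (tt N19852 (iv F36855)) (tt N18404 (iv F33412)) (tt N14009 (iv D17114)))
theorem Q17085 : ∀ i, i < 17085 → P i := stepQ 17084 Q17084 (allL N17084 (tt N18225 (iv F33052)) (tt N14015 F30554) (tt N18197 (iv F32988)) (tt N14011 F30555) (tt N19853 D19889) (tt N14010 (iv D17115)))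
theorem Q17086 : ∀ i, i < 17086 → P i := stepQ 17085 Q17085 (allL N17085 (tt N18286 (iv F33170)) (tt N19824 (iv F36806)) (tt N14012 (iv D17116)) (tt N18571 (iv F33835)) (tt N14014 F30556) (tt N18570 (iv F33831)))
theorem Q17087 : ∀ i, i < 17087 → P i := stepQ 17086 Q17086 (allL N17086 (tt N18287 (iv F33174)) (tt N19852 (iv F36854)) (tt N18570 (iv F33830)) (tt N14013 F30557) (tt N19854 D19890) (tt N14012 (iv D17117)))
theorem Q17088 : ∀ i, i < 17088 → P i := stepQ 17087 Q17087 (allL N17087 (tt N19850 (iv F36850)) (tt N19853 (iv F36856)) (tt N19511 (iv F36087)) (tt N19779 (iv F36728)) (tt N14015 (iv D17118)) (tt N19854 (iv F36858)))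
theorem Q17089 : ∀ i, i < 17089 → P i := stepQ 17088 Q17088 (allL N17088 (tt N14019 F30558) (tt N18400 (iv F33402)) (tt N14017 F30559) (tt N19855 D19891) (tt N14016 (iv D17119)) (tt N19856 D19892))
theorem Q17090 : ∀ i, i < 17090 → P i := stepQ 17089 Q17089 (allL N17089 (tt N16925 F30560) (tt N14018 F30561) (tt N19856 (iv F36861)) (tt N19518 (iv F36108)) (tt N18259 (iv F33120)) (tt N14017 (iv D17120)))
theorem Q17091 : ∀ i, i < 17091 → P i := stepQ 17090 Q17090 (allL N17090 (tt N19855 (iv F36859)) (tt N14020 F30562) (tt N19857 D19893) (tt N14019 (iv D17121)) (tt N19771 (iv F36713)) (tt N19858 D19894))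
theorem Q17092 : ∀ i, i < 17092 → P i := stepQ 17091 Q17091 (allL N17091 (tt N19856 (iv F36860)) (tt N14021 F30563) (tt N16925 F30564) (tt N19858 (iv F36863)) (tt N18261 (iv F33125)) (tt N14019 (iv D17122)))
theorem Q17093 : ∀ i, i < 17093 → P i := stepQ 17092 Q17092 (allL N17092 (tt N19775 (iv F36722)) (tt N19859 D19895) (tt N14020 (iv D17123)) (tt N19407 F35794) (tt N19773 (iv F36719)) (tt N19860 D19896))
theorem Q17094 : ∀ i, i < 17094 → P i := stepQ 17093 Q17093 (allL N17093 (tt N19776 (iv F36724)) (tt N19858 (iv F36862)) (tt N19860 (iv F36865)) (tt N14021 F30565) (tt N19861 D19897) (tt N14020 (iv D17124)))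
theorem Q17095 : ∀ i, i < 17095 → P i := stepQ 17094 Q17094 (allL N17094 (tt N14070 F30566) (tt N14022 (iv D17125)) (tt N14030 F30567) (tt N14094 (iv F30569)) (tt N19862 D19898) (tt N14069 F30568))
theorem Q17096 : ∀ i, i < 17096 → P i := stepQ 17095 Q17095 (allL N17095 (tt N14025 F30570) (tt N14094 F30571) (tt N14945 F30572) (tt N14022 (iv D17126)) (tt N19863 D19899) (tt N14072 F30573))
theorem Q17097 : ∀ i, i < 17097 → P i := stepQ 17096 Q17096 (allL N17096 (tt N14026 F30574) (tt N19862 (iv F36868)) (tt N14023 F30575) (tt N19864 D19900) (tt N14022 (iv D17127)) (tt N19865 D19901))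
theorem Q17098 : ∀ i, i < 17098 → P i := stepQ 17097 Q17097 (allL N17097 (tt N14027 F30576) (tt N14033 F30577) (tt N19865 (iv F36877)) (tt N18238 (iv F33075)) (tt N14084 F30578) (tt N14023 (iv D17128)))
theorem Q17099 : ∀ i, i < 17099 → P i := stepQ 17098 Q17098 (allL N17098 (tt N14028 F30579) (tt N14035 F30580) (tt N19866 D19902) (tt N14024 (iv D17129)) (tt N14083 F30581) (tt N17961 (iv F32392)))
theorem Q17100 : ∀ i, i < 17100 → P i := stepQ 17099 Q17099 (allL N17099 (tt N14945 F30582) (tt N14091 F30583) (tt N14025 (iv D17130)) (tt N14944 F30584) (tt N19867 D19903) (tt N14074 F30585))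
theorem Q17101 : ∀ i, i < 17101 → P i := stepQ 17100 Q17100 (allL N17100 (tt N19863 (iv F36871)) (tt N14080 F30586) (tt N19867 (iv F36884)) (tt N19868 D19904) (tt N14025 (iv D17131)) (tt N19869 D19905))
theorem Q17102 : ∀ i, i < 17102 → P i := stepQ 17101 Q17101 (allL N17101 (tt N19864 (iv F36874)) (tt N14082 F30587) (tt N19870 D19906) (tt N14026 (iv D17132)) (tt N19868 (iv F36887)) (tt N19871 D19907))
theorem Q17103 : ∀ i, i < 17103 → P i := stepQ 17102 Q17102 (allL N17102 (tt N19865 (iv F36875)) (tt N14081 F30588) (tt N14027 F30589) (tt N19871 (iv F36891)) (tt N14077 F30590) (tt N14026 (iv D17133)))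
theorem Q17104 : ∀ i, i < 17104 → P i := stepQ 17103 Q17103 (allL N17103 (tt N19866 (iv F36879)) (tt N19872 D19908) (tt N14028 (iv D17134)) (tt N19873 D19909) (tt N14085 F30591) (tt N17962 (iv F32393)))
theorem Q17105 : ∀ i, i < 17105 → P i := stepQ 17104 Q17104 (allL N17104 (tt N19874 D19910) (tt N14029 (iv D17135)) (tt N19872 (iv F36892)) (tt N16911 F30592) (tt N14087 F30593) (tt N16924 F30594))
theorem Q17106 : ∀ i, i < 17106 → P i := stepQ 17105 Q17105 (allL N17105 (tt N14030 (iv D17136)) (tt N14036 F30595) (tt N14070 F30596) (tt N15757 F30597) (tt N19875 D19911) (tt N14062 (iv F30598)))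
theorem Q17107 : ∀ i, i < 17107 → P i := stepQ 17106 Q17106 (allL N17106 (tt N19875 (iv F36901)) (tt N14031 F30599) (tt N19862 (iv F36869)) (tt N19876 D19912) (tt N14030 (iv D17137)) (tt N19877 D19913))
theorem Q17108 : ∀ i, i < 17108 → P i := stepQ 17107 Q17107 (allL N17107 (tt N14062 F30600) (tt N14032 F30601) (tt N14069 F30602) (tt N14057 F30603) (tt N16620 (iv F30604)) (tt N14030 (iv D17138)))
theorem Q17109 : ∀ i, i < 17109 → P i := stepQ 17108 Q17108 (allL N17108 (tt N14041 F30605) (tt N19876 (iv F36904)) (tt N19878 D19914) (tt N14031 (iv D17139)) (tt N18521 (iv F33719)) (tt N19879 D19915))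
theorem Q17110 : ∀ i, i < 17110 → P i := stepQ 17109 Q17109 (allL N17109 (tt N14042 F30606) (tt N19877 (iv F36906)) (tt N14033 F30607) (tt N19879 (iv F36911)) (tt N19880 D19916) (tt N14031 (iv D17140)))
theorem Q17111 : ∀ i, i < 17111 → P i := stepQ 17110 Q17110 (allL N17110 (tt N14043 F30608) (tt N16620 F30609) (tt N14034 F30610) (tt N16619 F30611) (tt N14032 (iv D17141)) (tt N19880 (iv F36915)))
theorem Q17112 : ∀ i, i < 17112 → P i := stepQ 17111 Q17111 (allL N17111 (tt N14044 F30612) (tt N14084 F30613) (tt N19880 (iv F36914)) (tt N19881 D19917) (tt N14033 (iv D17142)) (tt N14034 F30614))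
theorem Q17113 : ∀ i, i < 17113 → P i := stepQ 17112 Q17112 (allL N17112 (tt N14045 F30615) (tt N14083 F30616) (tt N19882 D19918) (tt N14034 (iv D17143)) (tt N14035 F30617) (tt N19881 (iv F36919)))
theorem Q17114 : ∀ i, i < 17114 → P i := stepQ 17113 Q17113 (allL N17113 (tt N14046 F30618) (tt N19883 D19919) (tt N14035 (iv D17144)) (tt N18478 (iv F33609)) (tt N19882 (iv F36921)) (tt N18479 (iv F33612)))
theorem Q17115 : ∀ i, i < 17115 → P i := stepQ 17114 Q17114 (allL N17114 (tt N14038 F30619) (tt N19875 (iv F36902)) (tt N14047 F30620) (tt N19884 D19920) (tt N14036 (iv D17145)) (tt N17511 (iv F31446)))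
theorem Q17116 : ∀ i, i < 17116 → P i := stepQ 17115 Q17115 (allL N17115 (tt N15758 F30621) (tt N14039 F30622) (tt N15755 F30623) (tt N19885 D19921) (tt N14037 (iv D17146)) (tt N19886 D19922))
theorem Q17117 : ∀ i, i < 17117 → P i := stepQ 17116 Q17116 (allL N17116 (tt N19884 (iv F36922)) (tt N14041 F30624) (tt N19887 D19923) (tt N14038 (iv D17147)) (tt N19885 (iv F36926)) (tt N19888 D19924))
theorem Q17118 : ∀ i, i < 17118 → P i := stepQ 17117 Q17117 (allL N17117 (tt N17511 (iv F31444)) (tt N14042 F30625) (tt N14049 F30626) (tt N19888 (iv F36932)) (tt N14067 F30627) (tt N14038 (iv D17148)))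
theorem Q17119 : ∀ i, i < 17119 → P i := stepQ 17118 Q17118 (allL N17118 (tt N18521 (iv F33718)) (tt N19885 (iv F36925)) (tt N19889 D19925) (tt N14039 (iv D17149)) (tt N14041 F30628) (tt N19890 D19926))
theorem Q17120 : ∀ i, i < 17120 → P i := stepQ 17119 Q17119 (allL N17119 (tt N18179 (iv F32928)) (tt N19886 (iv F36928)) (tt N18128 (iv F32798)) (tt N19890 (iv F36934)) (tt N18127 F32795) (tt N14039 (iv D17150)))
theorem Q17121 : ∀ i, i < 17121 → P i := stepQ 17120 Q17120 (allL N17120 (tt N19878 (iv F36909)) (tt N19891 D19927) (tt N14041 (iv D17151)) (tt N19892 D19928) (tt N19889 (iv F36933)) (tt N19893 D19929))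
theorem Q17122 : ∀ i, i < 17122 → P i := stepQ 17121 Q17121 (allL N17121 (tt N19879 (iv F36910)) (tt N19888 (iv F36931)) (tt N19893 (iv F36935)) (tt N14042 F30629) (tt N19894 D19930) (tt N14041 (iv D17152)))
theorem Q17123 : ∀ i, i < 17123 → P i := stepQ 17122 Q17122 (allL N17122 (tt N19880 (iv F36912)) (tt N14067 F30630) (tt N14044 F30631) (tt N19895 D19931) (tt N14042 (iv D17153)) (tt N14043 F30632))
theorem Q17124 : ∀ i, i < 17124 → P i := stepQ 17123 Q17123 (allL N17123 (tt N16619 F30633) (tt N14066 F30634) (tt N16622 (iv F30635)) (tt N14043 (iv D17154)) (tt N17759 (iv F31983)) (tt N19895 (iv F36938)))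
theorem Q17125 : ∀ i, i < 17125 → P i := stepQ 17124 Q17124 (allL N17124 (tt N19881 (iv F36917)) (tt N14050 F30636) (tt N19896 D19932) (tt N14044 (iv D17155)) (tt N18183 (iv F32936)) (tt N14045 F30637))
theorem Q17126 : ∀ i, i < 17126 → P i := stepQ 17125 Q17125 (allL N17125 (tt N19882 (iv F36920)) (tt N19897 D19933) (tt N14045 (iv D17156)) (tt N19897 F36946) (tt N14046 F30638) (tt N19896 (iv F36941)))
theorem Q17127 : ∀ i, i < 17127 → P i := stepQ 17126 Q17126 (allL N17126 (tt N19898 D19934) (tt N14046 (iv D17157)) (tt N14052 F30639) (tt N19899 D19935) (tt N19897 (iv F36944)) (tt N18480 (iv F33614)))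
theorem Q17128 : ∀ i, i < 17128 → P i := stepQ 17127 Q17127 (allL N17127 (tt N18478 (iv F33607)) (tt N19899 (iv F36948)) (tt N18474 (iv F33597)) (tt N14046 (iv D17158)) (tt N19899 (iv F36949)) (tt N18481 (iv F33617)))
theorem Q17129 : ∀ i, i < 17129 → P i := stepQ 17128 Q17128 (allL N17128 (tt N16834 F30640) (tt N15336 F30641) (tt N14048 (iv D17159)) (tt N19900 D19936) (tt N14068 F30642) (tt N17772 (iv F32010)))
theorem Q17130 : ∀ i, i < 17130 → P i := stepQ 17129 Q17129 (allL N17129 (tt N19901 D19937) (tt N14051 (iv D17160)) (tt N19897 (iv F36943)) (tt N16624 F30643) (tt N14052 F30644) (tt N16623 F30645))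
theorem Q17131 : ∀ i, i < 17131 → P i := stepQ 17130 Q17130 (allL N17130 (tt N14052 (iv D17161)) (tt N19874 (iv F36897)) (tt N19898 (iv F36947)) (tt N17960 (iv F32389)) (tt N19901 (iv F36954)) (tt N18482 (iv F33618)))
theorem Q17132 : ∀ i, i < 17132 → P i := stepQ 17131 Q17131 (allL N17131 (tt N17537 (iv F31487)) (tt N14056 (iv D17162)) (tt N17561 (iv F31536)) (tt N19902 D19938) (tt N16896 F30646) (tt N18472 (iv F33592)))
theorem Q17133 : ∀ i, i < 17133 → P i := stepQ 17132 Q17132 (allL N17132 (tt N14061 F30647) (tt N19902 (iv F36956)) (tt N18481 (iv F33616)) (tt N14056 (iv D17163)) (tt N19903 D19939) (tt N18474 (iv F33596)))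
theorem Q17134 : ∀ i, i < 17134 → P i := stepQ 17133 Q17133 (allL N17133 (tt N18481 (iv F33615)) (tt N19904 D19940) (tt N14061 (iv D17164)) (tt N18479 (iv F33611)) (tt N19905 D19941) (tt N18478 (iv F33608)))
theorem Q17135 : ∀ i, i < 17135 → P i := stepQ 17134 Q17134 (allL N17134 (tt N19903 (iv F36957)) (tt N17549 (iv F31510)) (tt N19905 (iv F36959)) (tt N16899 F30648) (tt N14061 (iv D17165)) (tt N19906 D19942))
theorem Q17136 : ∀ i, i < 17136 → P i := stepQ 17135 Q17135 (allL N17135 (tt N18010 (iv F32512)) (tt N18127 (iv F32792)) (tt N17766 F32002) (tt N18009 F32511) (tt N19886 (iv F36930)) (tt N14065 (iv D17166)))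
theorem Q17137 : ∀ i, i < 17137 → P i := stepQ 17136 Q17136 (allL N17136 (tt N17510 (iv F31440)) (tt N19895 (iv F36937)) (tt N15983 F30649) (tt N14067 F30650) (tt N19907 D19943) (tt N14066 (iv D17167)))
theorem Q17138 : ∀ i, i < 17138 → P i := stepQ 17137 Q17137 (allL N17137 (tt N15622 F30651) (tt N15335 F30652) (tt N15619 F30653) (tt N14068 (iv D17168)) (tt N19908 D19944) (tt N15370 F30654))
theorem Q17139 : ∀ i, i < 17139 → P i := stepQ 17138 Q17138 (allL N17138 (tt N19862 (iv F36867)) (tt N14071 F30655) (tt N19875 (iv F36903)) (tt N17507 (iv F31431)) (tt N14070 (iv D17169)) (tt N17503 (iv F31417)))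
theorem Q17140 : ∀ i, i < 17140 → P i := stepQ 17139 Q17139 (allL N17139 (tt N14082 F30656) (tt N17507 (iv F31429)) (tt N19909 D19945) (tt N14071 (iv D17170)) (tt N14096 F30657) (tt N17506 (iv F31428)))
theorem Q17141 : ∀ i, i < 17141 → P i := stepQ 17140 Q17140 (allL N17140 (tt N14075 F30658) (tt N18336 (iv F33283)) (tt N15845 F30659) (tt N17190 F30749) (tt N14072 (iv D17171)) (tt N19910 D19946))
theorem Q17142 : ∀ i, i < 17142 → P i := stepQ 17141 Q17141 (allL N17141 (tt N14076 F30660) (tt N16283 F30661) (tt N16286 (iv F30662)) (tt N14073 (iv D17172)) (tt N17190 (iv F30748)) (tt N16281 (iv F30663)))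
theorem Q17143 : ∀ i, i < 17143 → P i := stepQ 17142 Q17142 (allL N17142 (tt N14077 F30664) (tt N16282 F30665) (tt N14084 F30666) (tt N16281 F30667) (tt N19865 (iv F36878)) (tt N14073 (iv D17173)))
theorem Q17144 : ∀ i, i < 17144 → P i := stepQ 17143 Q17143 (allL N17143 (tt N15845 F30668) (tt N17999 (iv F32485)) (tt N14075 F30669) (tt N19911 D19947) (tt N14074 (iv D17174)) (tt N19912 D19948))
theorem Q17145 : ∀ i, i < 17145 → P i := stepQ 17144 Q17144 (allL N17144 (tt N17190 (iv F30747)) (tt N14078 F30670) (tt N17188 (iv F30745)) (tt N14075 (iv D17175)) (tt N14076 F30671) (tt N19913 D19949))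
theorem Q17146 : ∀ i, i < 17146 → P i := stepQ 17145 Q17145 (allL N17145 (tt N19910 (iv F36969)) (tt N14079 F30672) (tt N19912 (iv F36976)) (tt N19913 (iv F36980)) (tt N19869 (iv F36889)) (tt N14075 (iv D17176)))
theorem Q17147 : ∀ i, i < 17147 → P i := stepQ 17146 Q17146 (allL N17146 (tt N16286 F30673) (tt N17191 (iv F30750)) (tt N14076 (iv D17177)) (tt N19914 D19950) (tt N17188 F30744) (tt N16284 F30674))
theorem Q17148 : ∀ i, i < 17148 → P i := stepQ 17147 Q17147 (allL N17147 (tt N17487 (iv F31384)) (tt N19913 (iv F36978)) (tt N17486 (iv F31381)) (tt N14079 F30675) (tt N17485 F31378) (tt N14078 (iv D17178)))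
theorem Q17149 : ∀ i, i < 17149 → P i := stepQ 17148 Q17148 (allL N17148 (tt N14097 F30676) (tt N19869 (iv F36888)) (tt N14093 F30677) (tt N19915 D19951) (tt N14079 (iv D17179)) (tt N14080 F30678))
theorem Q17150 : ∀ i, i < 17150 → P i := stepQ 17149 Q17149 (allL N17149 (tt N14096 F30679) (tt N19868 (iv F36886)) (tt N19916 D19952) (tt N14080 (iv D17180)) (tt N14082 F30680) (tt N19915 (iv F36988)))
theorem Q17151 : ∀ i, i < 17151 → P i := stepQ 17150 Q17150 (allL N17150 (tt N17506 (iv F31425)) (tt N19871 (iv F36890)) (tt N19917 D19953) (tt N14081 (iv D17181)) (tt N17505 (iv F31424)) (tt N14082 F30681))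
theorem Q17152 : ∀ i, i < 17152 → P i := stepQ 17151 Q17151 (allL N17151 (tt N19909 (iv F36965)) (tt N19918 D19954) (tt N14082 (iv D17182)) (tt N19919 D19955) (tt N19916 (iv F36991)) (tt N19917 (iv F36995)))
theorem Q17153 : ∀ i, i < 17153 → P i := stepQ 17152 Q17152 (allL N17152 (tt N14085 F30682) (tt N19920 D19956) (tt N14083 (iv D17183)) (tt N19921 D19957) (tt N19866 (iv F36880)) (tt N19922 D19958))
theorem Q17154 : ∀ i, i < 17154 → P i := stepQ 17153 Q17153 (allL N17153 (tt N14086 F30683) (tt N19881 (iv F36918)) (tt N19922 (iv F37002)) (tt N14084 F30684) (tt N19923 D19959) (tt N14083 (iv D17184)))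
theorem Q17155 : ∀ i, i < 17155 → P i := stepQ 17154 Q17154 (allL N17154 (tt N19924 D19960) (tt N14085 (iv D17185)) (tt N14087 F30685) (tt N17187 F30742) (tt N19872 (iv F36893)) (tt N17762 (iv F31992)))
theorem Q17156 : ∀ i, i < 17156 → P i := stepQ 17155 Q17155 (allL N17155 (tt N19921 (iv F36999)) (tt N17187 (iv F30740)) (tt N16285 F30686) (tt N14085 (iv D17186)) (tt N17183 F30735) (tt N19925 D19961))
theorem Q17157 : ∀ i, i < 17157 → P i := stepQ 17156 Q17156 (allL N17156 (tt N19922 (iv F37001)) (tt N17762 (iv F31991)) (tt N14086 F30687) (tt N19925 (iv F37009)) (tt N19926 D19962) (tt N14085 (iv D17187)))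
theorem Q17158 : ∀ i, i < 17158 → P i := stepQ 17157 Q17157 (allL N17157 (tt N19923 (iv F37003)) (tt N14088 F30688) (tt N19926 (iv F37011)) (tt N17967 (iv F32406)) (tt N14086 (iv D17188)) (tt N17963 (iv F32396)))
theorem Q17159 : ∀ i, i < 17159 → P i := stepQ 17158 Q17158 (allL N17158 (tt N14087 (iv D17189)) (tt N19901 (iv F36952)) (tt N19924 (iv F37004)) (tt N17761 (iv F31989)) (tt N19874 (iv F36899)) (tt N17760 (iv F31986)))
theorem Q17160 : ∀ i, i < 17160 → P i := stepQ 17159 Q17159 (allL N17159 (tt N14089 (iv D17190)) (tt N15332 F30689) (tt N16858 F30690) (tt N18220 (iv F33041)) (tt N14090 F30691) (tt N18402 (iv F33408)))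
theorem Q17161 : ∀ i, i < 17161 → P i := stepQ 17160 Q17160 (allL N17160 (tt N18300 (iv F33210)) (tt N19867 (iv F36883)) (tt N14092 F30692) (tt N19927 D19963) (tt N14091 (iv D17191)) (tt N19928 D19964))
theorem Q17162 : ∀ i, i < 17162 → P i := stepQ 17161 Q17161 (allL N17161 (tt N18004 (iv F32495)) (tt N14093 F30693) (tt N19928 (iv F37015)) (tt N16818 F30694) (tt N18000 (iv F32490)) (tt N14092 (iv D17192)))
theorem Q17163 : ∀ i, i < 17163 → P i := stepQ 17162 Q17162 (allL N17162 (tt N14095 F30695) (tt N19863 (iv F36872)) (tt N18299 (iv F33208)) (tt N19929 D19965) (tt N14094 (iv D17193)) (tt N19930 D19966))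
theorem Q17164 : ∀ i, i < 17164 → P i := stepQ 17163 Q17163 (allL N17163 (tt N19929 (iv F37016)) (tt N14096 F30696) (tt N17211 F31130) (tt N14095 (iv D17194)) (tt N17507 (iv F31432)) (tt N17210 F31131))
theorem Q17165 : ∀ i, i < 17165 → P i := stepQ 17164 Q17164 (allL N17164 (tt N19930 (iv F37018)) (tt N14097 F30697) (tt N17997 (iv F32476)) (tt N17210 (iv F31133)) (tt N17508 (iv F31435)) (tt N14095 (iv D17195)))
theorem Q17166 : ∀ i, i < 17166 → P i := stepQ 17165 Q17165 (allL N17165 (tt N19916 (iv F36989)) (tt N19698 (iv F36534)) (tt N14096 (iv D17196)) (tt N17496 (iv F31403)) (tt N19909 (iv F36966)) (tt N17495 F31401))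
theorem Q17167 : ∀ i, i < 17167 → P i := stepQ 17166 Q17166 (allL N17166 (tt N19915 (iv F36986)) (tt N17210 (iv F31132)) (tt N17495 (iv F31400)) (tt N14097 F30698) (tt N17209 F31134) (tt N14096 (iv D17197)))
theorem Q17168 : ∀ i, i < 17168 → P i := stepQ 17167 Q17167 (allL N17167 (tt N14098 (iv D17198)) (tt N14464 F30699) (tt N14100 F30700) (tt N19931 D19967) (tt N14480 F30701) (tt N17266 (iv F30919)))
theorem Q17169 : ∀ i, i < 17169 → P i := stepQ 17168 Q17168 (allL N17168 (tt N19931 (iv F37021)) (tt N14099 F30702) (tt N19932 D19968) (tt N14098 (iv D17199)) (tt N19933 D19969) (tt N17267 (iv F30921)))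
theorem Q17170 : ∀ i, i < 17170 → P i := stepQ 17169 Q17169 (allL N17169 (tt N14466 F30703) (tt N19933 (iv F37025)) (tt N17275 (iv F30936)) (tt N19114 (iv F35134)) (tt N14099 (iv D17200)) (tt N19934 D19970))
theorem Q17171 : ∀ i, i < 17171 → P i := stepQ 17170 Q17170 (allL N17170 (tt N14133 F30704) (tt N14103 F30705) (tt N14206 F30706) (tt N19629 (iv F36376)) (tt N14102 (iv D17201)) (tt N19935 D19971))
theorem Q17172 : ∀ i, i < 17172 → P i := stepQ 17171 Q17171 (allL N17171 (tt N14111 F30707) (tt N19935 (iv F37033)) (tt N14136 F30708) (tt N19630 (iv F36378)) (tt N14135 F30709) (tt N14103 (iv D17202)))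
theorem Q17173 : ∀ i, i < 17173 → P i := stepQ 17172 Q17172 (allL N17172 (tt N14106 F30710) (tt N19626 (iv F36369)) (tt N19936 D19972) (tt N14104 (iv D17203)) (tt N14134 F30711) (tt N19631 (iv F36380)))
theorem Q17174 : ∀ i, i < 17174 → P i := stepQ 17173 Q17173 (allL N17173 (tt N14134 F30712) (tt N14110 F30713) (tt N19937 D19973) (tt N14105 (iv D17204)) (tt N14106 F30714) (tt N19938 D19974))
theorem Q17175 : ∀ i, i < 17175 → P i := stepQ 17174 Q17174 (allL N17174 (tt N14135 F30715) (tt N14111 F30716) (tt N14127 F30717) (tt N19938 (iv F37048)) (tt N14111 F30718) (tt N14105 (iv D17205)))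
theorem Q17176 : ∀ i, i < 17176 → P i := stepQ 17175 Q17175 (allL N17175 (tt N19936 (iv F37036)) (tt N19639 (iv F36404)) (tt N14106 (iv D17206)) (tt N19939 D19975) (tt N19937 (iv F37043)) (tt N19636 F36393))
theorem Q17177 : ∀ i, i < 17177 → P i := stepQ 17176 Q17176 (allL N17176 (tt N14199 F30719) (tt N14109 F30720) (tt N14125 F30721) (tt N19940 D19976) (tt N14108 (iv D17207)) (tt N19941 D19977))
theorem Q17178 : ∀ i, i < 17178 → P i := stepQ 17177 Q17177 (allL N17177 (tt N14137 F30722) (tt N19940 (iv F37055)) (tt N14451 (iv F30724)) (tt N14109 (iv D17208)) (tt N14128 F30723) (tt N19611 (iv F36345)))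
theorem Q17179 : ∀ i, i < 17179 → P i := stepQ 17178 Q17178 (allL N17178 (tt N14136 F30725) (tt N19941 (iv F37058)) (tt N14111 F30726) (tt N19611 (iv F36344)) (tt N14127 F30727) (tt N14109 (iv D17209)))
theorem Q17180 : ∀ i, i < 17180 → P i := stepQ 17179 Q17179 (allL N17179 (tt N19630 (iv F36377)) (tt N19938 (iv F37046)) (tt N19645 (iv F36420)) (tt N14111 F30728) (tt N19644 (iv F36419)) (tt N14110 (iv D17210)))
theorem Q17181 : ∀ i, i < 17181 → P i := stepQ 17180 Q17180 (allL N17180 (tt N14112 (iv D17211)) (tt N17269 (iv F30924)) (tt N14484 F30729) (tt N19116 (iv F35140)) (tt N14113 F30730) (tt N19117 (iv F35146)))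
theorem Q17182 : ∀ i, i < 17182 → P i := stepQ 17181 Q17181 (allL N17181 (tt N14114 (iv D17212)) (tt N19329 (iv F35622)) (tt N14118 F30731) (tt N19942 D19978) (tt N19109 (iv F35122)) (tt N19943 D19979))
theorem Q17183 : ∀ i, i < 17183 → P i := stepQ 17182 Q17182 (allL N17182 (tt N19942 (iv F37061)) (tt N14115 F30732) (tt N19944 D19980) (tt N14114 (iv D17213)) (tt N19945 D19981) (tt N19946 D19982))
theorem Q17184 : ∀ i, i < 17184 → P i := stepQ 17183 Q17183 (allL N17183 (tt N19943 (iv F37062)) (tt N14116 F30733) (tt N14120 F30734) (tt N19946 (iv F37070)) (tt N17155 (iv F30735)) (tt N14114 (iv D17214)))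
theorem Q17185 : ∀ i, i < 17185 → P i := stepQ 17184 Q17184 (allL N17184 (tt N19331 (iv F35626)) (tt N19947 D19983) (tt N14115 (iv D17215)) (tt N14742 F30736) (tt N19948 D19984) (tt N14741 (iv F30737)))
theorem Q17186 : ∀ i, i < 17186 → P i := stepQ 17185 Q17185 (allL N17185 (tt N19332 (iv F35629)) (tt N19945 (iv F37067)) (tt N19948 (iv F37074)) (tt N19111 (iv F35125)) (tt N14115 (iv D17216)) (tt N19949 D19985))
theorem Q17187 : ∀ i, i < 17187 → P i := stepQ 17186 Q17186 (allL N17186 (tt N19333 (iv F35631)) (tt N19946 (iv F37068)) (tt N14741 F30738) (tt N14116 F30739) (tt N19950 D19986) (tt N14115 (iv D17217)))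
theorem Q17188 : ∀ i, i < 17188 → P i := stepQ 17187 Q17187 (allL N17187 (tt N19334 (iv F35634)) (tt N17155 F30740) (tt N14117 F30741) (tt N17154 (iv F30742)) (tt N14116 (iv D17218)) (tt N18842 (iv F34509)))
theorem Q17189 : ∀ i, i < 17189 → P i := stepQ 17188 Q17188 (allL N17188 (tt N14119 F30743) (tt N19117 (iv F35144)) (tt N17144 F30745) (tt N14118 (iv D17219)) (tt N17146 (iv F30744)) (tt N17269 (iv F30927)))
theorem Q17190 : ∀ i, i < 17190 → P i := stepQ 17189 Q17189 (allL N17189 (tt N14120 F30746) (tt N19116 (iv F35138)) (tt N19943 (iv F37063)) (tt N17269 (iv F30925)) (tt N19115 (iv F35137)) (tt N14118 (iv D17220)))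
theorem Q17191 : ∀ i, i < 17191 → P i := stepQ 17190 Q17190 (allL N17190 (tt N17144 F30747) (tt N17263 (iv F30912)) (tt N14119 (iv D17221)) (tt N17140 (iv F30749)) (tt N17141 F30748) (tt N17264 (iv F30917)))
theorem Q17192 : ∀ i, i < 17192 → P i := stepQ 17191 Q17191 (allL N17191 (tt N14121 (iv D17222)) (tt N17146 F30750) (tt N14478 F30751) (tt N19112 (iv F35127)) (tt N19117 (iv F35145)) (tt N14122 F30752))
theorem Q17193 : ∀ i, i < 17193 → P i := stepQ 17192 Q17192 (allL N17192 (tt N14123 F30753) (tt N19115 (iv F35136)) (tt N19341 (iv F35648)) (tt N14122 (iv D17223)) (tt N19116 (iv F35141)) (tt N19112 (iv F35129)))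
theorem Q17194 : ∀ i, i < 17194 → P i := stepQ 17193 Q17193 (allL N17193 (tt N14125 F30754) (tt N14129 F30755) (tt N14199 F30756) (tt N14469 F30757) (tt N14124 (iv D17224)) (tt N19951 D19987))
theorem Q17195 : ∀ i, i < 17195 → P i := stepQ 17194 Q17194 (allL N17194 (tt N19951 (iv F37078)) (tt N14127 F30758) (tt N19941 (iv F37059)) (tt N14470 F30759) (tt N19941 (iv F37060)) (tt N14125 (iv D17225)))
theorem Q17196 : ∀ i, i < 17196 → P i := stepQ 17195 Q17195 (allL N17195 (tt N14200 F30760) (tt N14128 F30761) (tt N19952 D19988) (tt N14126 (iv D17226)) (tt N19940 (iv F37056)) (tt N14426 F30762))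
theorem Q17197 : ∀ i, i < 17197 → P i := stepQ 17196 Q17196 (allL N17196 (tt N14132 F30763) (tt N19951 (iv F37079)) (tt N14192 F30764) (tt N14489 F30765) (tt N14203 F30766) (tt N14129 (iv D17227)))
theorem Q17198 : ∀ i, i < 17198 → P i := stepQ 17197 Q17197 (allL N17197 (tt N14206 F30767) (tt N14131 F30768) (tt N14133 F30769) (tt N19953 D19989) (tt N14130 (iv D17228)) (tt N19954 D19990))
theorem Q17199 : ∀ i, i < 17199 → P i := stepQ 17198 Q17198 (allL N17198 (tt N14191 F30770) (tt N19953 (iv F37087)) (tt N17993 (iv F32464)) (tt N14131 (iv D17229)) (tt N14184 F30771) (tt N19955 D19991))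
theorem Q17200 : ∀ i, i < 17200 → P i := stepQ 17199 Q17199 (allL N17199 (tt N14192 F30772) (tt N19954 (iv F37092)) (tt N14132 F30773) (tt N19955 (iv F37099)) (tt N14208 F30774) (tt N14131 (iv D17230)))
theorem Q17201 : ∀ i, i < 17201 → P i := stepQ 17200 Q17200 (allL N17200 (tt N19629 (iv F36374)) (tt N14134 F30775) (tt N19956 D19992) (tt N14133 (iv D17231)) (tt N19626 (iv F36370)) (tt N19957 D19993))
theorem Q17202 : ∀ i, i < 17202 → P i := stepQ 17201 Q17201 (allL N17201 (tt N19935 (iv F37032)) (tt N14135 F30776) (tt N19954 (iv F37093)) (tt N19957 (iv F37105)) (tt N19935 (iv F37035)) (tt N14133 (iv D17232)))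
theorem Q17203 : ∀ i, i < 17203 → P i := stepQ 17202 Q17202 (allL N17202 (tt N19937 (iv F37041)) (tt N15397 (iv F30778)) (tt N14134 (iv D17233)) (tt N15007 F30777) (tt N19936 (iv F37038)) (tt N15006 (iv F30779)))
theorem Q17204 : ∀ i, i < 17204 → P i := stepQ 17203 Q17203 (allL N17203 (tt N19938 (iv F37045)) (tt N19957 (iv F37103)) (tt N15006 F30780) (tt N14135 F30781) (tt N19958 D19994) (tt N14134 (iv D17234)))
theorem Q17205 : ∀ i, i < 17205 → P i := stepQ 17204 Q17204 (allL N17204 (tt N19611 (iv F36342)) (tt N14210 F30782) (tt N19959 D19995) (tt N14136 (iv D17235)) (tt N14454 F30783) (tt N14137 F30784))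
theorem Q17206 : ∀ i, i < 17206 → P i := stepQ 17205 Q17205 (allL N17205 (tt N14451 F30785) (tt N18363 (iv F33334)) (tt N14137 (iv D17236)) (tt N19569 (iv F36244)) (tt N14138 F30786) (tt N19959 (iv F37110)))
theorem Q17207 : ∀ i, i < 17207 → P i := stepQ 17206 Q17206 (allL N17206 (tt N19960 D19996) (tt N14138 (iv D17237)) (tt N14211 F30787) (tt N14425 F30788) (tt N18363 (iv F33335)) (tt N14452 F30789))
theorem Q17208 : ∀ i, i < 17208 → P i := stepQ 17207 Q17207 (allL N17207 (tt N16905 F30790) (tt N14140 F30791) (tt N19961 D19997) (tt N14139 (iv D17238)) (tt N19962 D19998) (tt N17274 (iv F30934)))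
theorem Q17209 : ∀ i, i < 17209 → P i := stepQ 17208 Q17208 (allL N17208 (tt N14142 F30792) (tt N19962 (iv F37117)) (tt N17268 (iv F30923)) (tt N14303 F30793) (tt N14140 (iv D17239)) (tt N19963 D19999))
theorem Q17210 : ∀ i, i < 17210 → P i := stepQ 17209 Q17209 (allL N17209 (tt N19964 D20000) (tt N14141 (iv D17240)) (tt N16909 F30794) (tt N14444 F30795) (tt N17166 (iv F31134)) (tt N14465 F30796))
theorem Q17211 : ∀ i, i < 17211 → P i := stepQ 17210 Q17210 (allL N17210 (tt N17268 (iv F30922)) (tt N17166 F31132) (tt N14142 F30797) (tt N17164 F31133) (tt N14141 (iv D17241)) (tt N17163 (iv F31131)))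
theorem Q17212 : ∀ i, i < 17212 → P i := stepQ 17211 Q17211 (allL N17211 (tt N19963 (iv F37119)) (tt N16907 F30798) (tt N17163 (iv F31130)) (tt N14306 F30799) (tt N17283 (iv F30947)) (tt N14142 (iv D17242)))
theorem Q17213 : ∀ i, i < 17213 → P i := stepQ 17212 Q17212 (allL N17212 (tt N17220 (iv F30815)) (tt N14146 F30800) (tt N19965 D20001) (tt N14143 (iv D17243)) (tt N14144 F30801) (tt N19966 D20002))
theorem Q17214 : ∀ i, i < 17214 → P i := stepQ 17213 Q17213 (allL N17213 (tt N17221 (iv F30818)) (tt N14147 F30802) (tt N17221 (iv F30820)) (tt N19966 (iv F37128)) (tt N14233 F30803) (tt N14143 (iv D17244)))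
theorem Q17215 : ∀ i, i < 17215 → P i := stepQ 17214 Q17214 (allL N17214 (tt N17288 (iv F30957)) (tt N19967 D20003) (tt N14144 (iv D17245)) (tt N19968 D20004) (tt N19965 (iv F37126)) (tt N19969 D20005))
theorem Q17216 : ∀ i, i < 17216 → P i := stepQ 17215 Q17215 (allL N17215 (tt N17287 (iv F30954)) (tt N14149 F30804) (tt N19969 (iv F37132)) (tt N14145 F30805) (tt N19970 D20006) (tt N14144 (iv D17246)))
theorem Q17217 : ∀ i, i < 17217 → P i := stepQ 17216 Q17216 (allL N17216 (tt N14154 F30806) (tt N19971 D20007) (tt N14146 (iv D17247)) (tt N19972 D20008) (tt N14148 F30807) (tt N19973 D20009))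
theorem Q17218 : ∀ i, i < 17218 → P i := stepQ 17217 Q17217 (allL N17217 (tt N14155 F30808) (tt N19966 (iv F37127)) (tt N19973 (iv F37139)) (tt N14147 F30809) (tt N19974 D20010) (tt N14146 (iv D17248)))
theorem Q17219 : ∀ i, i < 17219 → P i := stepQ 17218 Q17218 (allL N17218 (tt N19975 D20011) (tt N14148 (iv D17249)) (tt N19967 (iv F37129)) (tt N14173 F30810) (tt N19971 (iv F37135)) (tt N14172 F30811))
theorem Q17220 : ∀ i, i < 17220 → P i := stepQ 17219 Q17219 (allL N17219 (tt N14159 F30812) (tt N19970 (iv F37133)) (tt N14174 F30813) (tt N16708 F30814) (tt N14149 (iv D17250)) (tt N19974 (iv F37144)))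
theorem Q17221 : ∀ i, i < 17221 → P i := stepQ 17220 Q17220 (allL N17220 (tt N17212 F30815) (tt N14152 F30816) (tt N19976 D20012) (tt N14151 (iv D17251)) (tt N14220 F30817) (tt N19977 D20013))
theorem Q17222 : ∀ i, i < 17222 → P i := stepQ 17221 Q17221 (allL N17221 (tt N17213 F30818) (tt N14153 F30819) (tt N17213 F30820) (tt N19977 (iv F37152)) (tt N14216 F30821) (tt N14151 (iv D17252)))
theorem Q17223 : ∀ i, i < 17223 → P i := stepQ 17222 Q17222 (allL N17222 (tt N14241 F30822) (tt N19978 D20014) (tt N14152 (iv D17253)) (tt N19979 D20015) (tt N14225 F30823) (tt N19980 D20016))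
theorem Q17224 : ∀ i, i < 17224 → P i := stepQ 17223 Q17223 (allL N17223 (tt N14240 F30824) (tt N19977 (iv F37151)) (tt N19980 (iv F37157)) (tt N14153 F30825) (tt N19981 D20017) (tt N14152 (iv D17254)))
theorem Q17225 : ∀ i, i < 17225 → P i := stepQ 17224 Q17224 (allL N17224 (tt N19982 D20018) (tt N14154 (iv D17255)) (tt N17312 (iv F31003)) (tt N17226 (iv F31023)) (tt N14156 F30826) (tt N17225 F31025))
theorem Q17226 : ∀ i, i < 17226 → P i := stepQ 17225 Q17225 (allL N17225 (tt N19972 (iv F37136)) (tt N17226 F31024) (tt N19983 D20019) (tt N14154 (iv D17256)) (tt N19984 D20020) (tt N17224 (iv F31025)))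
theorem Q17227 : ∀ i, i < 17227 → P i := stepQ 17226 Q17226 (allL N17226 (tt N19973 (iv F37138)) (tt N17225 (iv F31024)) (tt N14155 F30827) (tt N17224 F31023) (tt N19985 D20021) (tt N14154 (iv D17257)))
theorem Q17228 : ∀ i, i < 17228 → P i := stepQ 17227 Q17227 (allL N17227 (tt N19974 (iv F37141)) (tt N17310 (iv F30999)) (tt N19985 (iv F37173)) (tt N16711 F30828) (tt N14155 (iv D17258)) (tt N14159 F30829))
theorem Q17229 : ∀ i, i < 17229 → P i := stepQ 17228 Q17228 (allL N17228 (tt N14156 (iv D17259)) (tt N19975 (iv F37145)) (tt N17319 (iv F31016)) (tt N17394 (iv F31199)) (tt N19982 (iv F37163)) (tt N17393 (iv F31195)))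
theorem Q17230 : ∀ i, i < 17230 → P i := stepQ 17229 Q17229 (allL N17229 (tt N17394 (iv F31196)) (tt N14157 F30830) (tt N17382 (iv F31167)) (tt N14156 (iv D17260)) (tt N17399 (iv F31212)) (tt N14162 (iv F30831)))
theorem Q17231 : ∀ i, i < 17231 → P i := stepQ 17230 Q17230 (allL N17230 (tt N17393 (iv F31193)) (tt N14158 F30832) (tt N17318 (iv F31014)) (tt N14162 F30833) (tt N17400 (iv F31214)) (tt N14156 (iv D17261)))
theorem Q17232 : ∀ i, i < 17232 → P i := stepQ 17231 Q17231 (allL N17231 (tt N14175 F30834) (tt N17399 (iv F31211)) (tt N14163 F30835) (tt N19984 (iv F37169)) (tt N14157 (iv D17262)) (tt N14342 F30836))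
theorem Q17233 : ∀ i, i < 17233 → P i := stepQ 17232 Q17232 (allL N17232 (tt N14174 F30837) (tt N17400 (iv F31213)) (tt N14159 F30838) (tt N14341 F30839) (tt N14158 (iv D17263)) (tt N19985 (iv F37175)))
theorem Q17234 : ∀ i, i < 17234 → P i := stepQ 17233 Q17233 (allL N17233 (tt N14726 F30840) (tt N17382 (iv F31166)) (tt N14161 F30841) (tt N14729 F30842) (tt N19986 D20022) (tt N14160 (iv D17264)))
theorem Q17235 : ∀ i, i < 17235 → P i := stepQ 17234 Q17234 (allL N17234 (tt N14727 F30843) (tt N14163 F30844) (tt N19986 (iv F37177)) (tt N14705 F30845) (tt N14161 (iv D17265)) (tt N14340 F30846))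
theorem Q17236 : ∀ i, i < 17236 → P i := stepQ 17235 Q17235 (allL N17235 (tt N14165 F30847) (tt N14176 F30848) (tt N19987 D20023) (tt N14164 (iv D17266)) (tt N16647 (iv F30850)) (tt N14286 F30849))
theorem Q17237 : ∀ i, i < 17237 → P i := stepQ 17236 Q17236 (allL N17236 (tt N19987 (iv F37180)) (tt N14254 F30851) (tt N14165 (iv D17267)) (tt N19988 D20024) (tt N19989 D20025) (tt N14282 F30852))
theorem Q17238 : ∀ i, i < 17238 → P i := stepQ 17237 Q17237 (allL N17237 (tt N16647 F30853) (tt N14166 F30854) (tt N19989 (iv F37188)) (tt N17619 (iv F31657)) (tt N14165 (iv D17268)) (tt N16645 F30855))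
theorem Q17239 : ∀ i, i < 17239 → P i := stepQ 17238 Q17238 (allL N17238 (tt N14181 F30856) (tt N16645 F30857) (tt N14256 F30858) (tt N17620 (iv F31659)) (tt N14288 F30859) (tt N14166 (iv D17269)))
theorem Q17240 : ∀ i, i < 17240 → P i := stepQ 17239 Q17239 (allL N17239 (tt N17240 (iv F30862)) (tt N14168 F30860) (tt N19990 D20026) (tt N14167 (iv D17270)) (tt N19991 D20027) (tt N14335 (iv F30861)))
theorem Q17241 : ∀ i, i < 17241 → P i := stepQ 17240 Q17240 (allL N17240 (tt N17239 F30862) (tt N14169 F30863) (tt N19504 (iv F36065)) (tt N14335 F30864) (tt N19992 D20028) (tt N14167 (iv D17271)))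
theorem Q17242 : ∀ i, i < 17242 → P i := stepQ 17241 Q17241 (allL N17241 (tt N14341 F30865) (tt N19991 (iv F37193)) (tt N14336 F30866) (tt N14174 F30867) (tt N14168 (iv D17272)) (tt N19993 D20029))
theorem Q17243 : ∀ i, i < 17243 → P i := stepQ 17242 Q17242 (allL N17242 (tt N14342 F30868) (tt N19992 (iv F37196)) (tt N14170 F30869) (tt N19994 D20030) (tt N14169 (iv D17273)) (tt N14175 F30870))
theorem Q17244 : ∀ i, i < 17244 → P i := stepQ 17243 Q17243 (allL N17243 (tt N14172 F30871) (tt N17393 (iv F31194)) (tt N19995 D20031) (tt N14171 (iv D17274)) (tt N19996 D20032) (tt N19975 (iv F37147)))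
theorem Q17245 : ∀ i, i < 17245 → P i := stepQ 17244 Q17244 (allL N17244 (tt N14173 F30872) (tt N17394 (iv F31197)) (tt N15693 F30873) (tt N19975 (iv F37146)) (tt N19997 D20033) (tt N14171 (iv D17275)))
theorem Q17246 : ∀ i, i < 17246 → P i := stepQ 17245 Q17245 (allL N17245 (tt N19995 (iv F37206)) (tt N19969 (iv F37131)) (tt N14172 (iv D17276)) (tt N19998 D20034) (tt N19999 D20035) (tt N19967 F37130))
theorem Q17247 : ∀ i, i < 17247 → P i := stepQ 17246 Q17246 (allL N17246 (tt N19996 (iv F37208)) (tt N14174 F30874) (tt N19999 (iv F37217)) (tt N19991 (iv F37194)) (tt N14172 (iv D17277)) (tt N20000 D20036))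
theorem Q17248 : ∀ i, i < 17248 → P i := stepQ 17247 Q17247 (allL N17247 (tt N19997 (iv F37211)) (tt N14175 F30875) (tt N15695 F30876) (tt N20001 D20037) (tt N14173 (iv D17278)) (tt N19992 (iv F37198)))
theorem Q17249 : ∀ i, i < 17249 → P i := stepQ 17248 Q17248 (allL N17248 (tt N19985 (iv F37171)) (tt N20000 (iv F37218)) (tt N19974 (iv F37142)) (tt N19993 (iv F37201)) (tt N19973 (iv F37140)) (tt N14174 (iv D17279)))
theorem Q17250 : ∀ i, i < 17250 → P i := stepQ 17249 Q17249 (allL N17249 (tt N19984 (iv F37168)) (tt N20001 (iv F37221)) (tt N20002 D20038) (tt N14175 (iv D17280)) (tt N19972 (iv F37137)) (tt N19994 (iv F37205)))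
theorem Q17251 : ∀ i, i < 17251 → P i := stepQ 17250 Q17250 (allL N17250 (tt N19566 (iv F36233)) (tt N14177 (iv D17281)) (tt N14179 F30877) (tt N14428 F30878) (tt N16637 F30879) (tt N14263 F30880))
theorem Q17252 : ∀ i, i < 17252 → P i := stepQ 17251 Q17251 (allL N17251 (tt N14179 (iv D17282)) (tt N14253 F30881) (tt N19566 (iv F36235)) (tt N14228 F30882) (tt N18589 (iv F33877)) (tt N14262 F30883))
theorem Q17253 : ∀ i, i < 17253 → P i := stepQ 17252 Q17252 (allL N17252 (tt N18589 (iv F33875)) (tt N14180 F30884) (tt N16637 F30885) (tt N18588 (iv F33874)) (tt N14179 (iv D17283)) (tt N16636 F30886))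
theorem Q17254 : ∀ i, i < 17254 → P i := stepQ 17253 Q17253 (allL N17253 (tt N14252 F30887) (tt N18588 (iv F33873)) (tt N20003 D20039) (tt N14180 (iv D17284)) (tt N14227 F30888) (tt N20004 D20040))
theorem Q17255 : ∀ i, i < 17255 → P i := stepQ 17254 Q17254 (allL N17254 (tt N14256 F30889) (tt N16636 F30890) (tt N14181 F30891) (tt N20004 (iv F37227)) (tt N14265 F30892) (tt N14180 (iv D17285)))
theorem Q17256 : ∀ i, i < 17256 → P i := stepQ 17255 Q17255 (allL N17255 (tt N14183 F30893) (tt N14186 F30894) (tt N16840 F30895) (tt N20005 D20041) (tt N14182 (iv D17286)) (tt N20006 D20042))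
theorem Q17257 : ∀ i, i < 17257 → P i := stepQ 17256 Q17256 (allL N17256 (tt N20005 (iv F37229)) (tt N14184 F30896) (tt N20007 D20043) (tt N14183 (iv D17287)) (tt N19953 (iv F37088)) (tt N17992 (iv F32462)))
theorem Q17258 : ∀ i, i < 17258 → P i := stepQ 17257 Q17257 (allL N17257 (tt N20006 (iv F37232)) (tt N14185 F30897) (tt N16842 F30898) (tt N17992 (iv F32461)) (tt N20006 (iv F37235)) (tt N14183 (iv D17288)))
theorem Q17259 : ∀ i, i < 17259 → P i := stepQ 17258 Q17258 (allL N17258 (tt N14190 F30899) (tt N20006 (iv F37233)) (tt N14187 F30900) (tt N17994 (iv F32466)) (tt N14185 (iv D17289)) (tt N14186 F30901))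
theorem Q17260 : ∀ i, i < 17260 → P i := stepQ 17259 Q17259 (allL N17259 (tt N14189 F30902) (tt N20005 (iv F37230)) (tt N17996 (iv F32472)) (tt N14186 (iv D17290)) (tt N14207 F30903) (tt N17994 (iv F32467)))
theorem Q17261 : ∀ i, i < 17261 → P i := stepQ 17260 Q17260 (allL N17260 (tt N14207 F30904) (tt N14191 F30905) (tt N17998 (iv F32481)) (tt N14188 (iv D17291)) (tt N14189 F30906) (tt N18366 (iv F33343)))
theorem Q17262 : ∀ i, i < 17262 → P i := stepQ 17261 Q17261 (allL N17261 (tt N14208 F30907) (tt N14192 F30908) (tt N14203 F30909) (tt N18366 (iv F33342)) (tt N14192 F30910) (tt N14188 (iv D17292)))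
theorem Q17263 : ∀ i, i < 17263 → P i := stepQ 17262 Q17262 (allL N17262 (tt N19955 (iv F37096)) (tt N18366 (iv F33341)) (tt N17851 (iv F32190)) (tt N14192 F30911) (tt N17852 (iv F32191)) (tt N14191 (iv D17293)))
theorem Q17264 : ∀ i, i < 17264 → P i := stepQ 17263 Q17263 (allL N17263 (tt N17504 (iv F31418)) (tt N17190 F30912) (tt N14193 (iv D17294)) (tt N18336 (iv F33285)) (tt N16283 F30913) (tt N14194 F30914))
theorem Q17265 : ∀ i, i < 17265 → P i := stepQ 17264 Q17264 (allL N17264 (tt N19913 (iv F36977)) (tt N14194 (iv D17295)) (tt N14197 F30915) (tt N19910 (iv F36972)) (tt N14195 F30916) (tt N17190 F30917))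
theorem Q17266 : ∀ i, i < 17266 → P i := stepQ 17265 Q17265 (allL N17265 (tt N17508 (iv F31433)) (tt N19910 (iv F36970)) (tt N17995 (iv F32469)) (tt N14194 (iv D17296)) (tt N19930 (iv F37020)) (tt N18336 F33286))
theorem Q17267 : ∀ i, i < 17267 → P i := stepQ 17266 Q17266 (allL N17266 (tt N14195 (iv D17297)) (tt N17485 (iv F31376)) (tt N14198 F30918) (tt N20008 D20044) (tt N19913 (iv F36981)) (tt N17167 F30919))
theorem Q17268 : ∀ i, i < 17268 → P i := stepQ 17267 Q17267 (allL N17267 (tt N20008 (iv F37239)) (tt N14196 F30920) (tt N20009 D20045) (tt N14195 (iv D17298)) (tt N20010 D20046) (tt N17168 F30921))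
theorem Q17269 : ∀ i, i < 17269 → P i := stepQ 17268 Q17268 (allL N17268 (tt N17210 F30922) (tt N20010 (iv F37244)) (tt N17208 F30923) (tt N19930 (iv F37019)) (tt N14196 (iv D17299)) (tt N19929 (iv F37017)))
theorem Q17270 : ∀ i, i < 17270 → P i := stepQ 17269 Q17269 (allL N17269 (tt N14197 (iv D17300)) (tt N17180 F30924) (tt N19913 (iv F36979)) (tt N17189 F30925) (tt N14198 F30926) (tt N17188 F30927))
theorem Q17271 : ∀ i, i < 17271 → P i := stepQ 17270 Q17270 (allL N17270 (tt N19940 (iv F37054)) (tt N14202 F30928) (tt N20011 D20047) (tt N14199 (iv D17301)) (tt N14200 F30929) (tt N20012 D20048))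
theorem Q17272 : ∀ i, i < 17272 → P i := stepQ 17271 Q17271 (allL N17271 (tt N19941 (iv F37057)) (tt N14203 F30930) (tt N19951 (iv F37080)) (tt N20012 (iv F37249)) (tt N19951 (iv F37082)) (tt N14199 (iv D17302)))
theorem Q17273 : ∀ i, i < 17273 → P i := stepQ 17272 Q17272 (allL N17272 (tt N19952 (iv F37083)) (tt N18107 (iv F32734)) (tt N14200 (iv D17303)) (tt N20013 D20049) (tt N20011 (iv F37246)) (tt N18104 F32730))
theorem Q17274 : ∀ i, i < 17274 → P i := stepQ 17273 Q17273 (allL N17273 (tt N14210 F30931) (tt N20012 (iv F37248)) (tt N18113 (iv F32760)) (tt N14203 F30932) (tt N18112 (iv F32757)) (tt N14202 (iv D17304)))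
theorem Q17275 : ∀ i, i < 17275 → P i := stepQ 17274 Q17274 (allL N17274 (tt N17361 (iv F31110)) (tt N14205 F30933) (tt N20014 D20050) (tt N14204 (iv D17305)) (tt N20015 D20051) (tt N17207 F30934))
theorem Q17276 : ∀ i, i < 17276 → P i := stepQ 17275 Q17275 (allL N17275 (tt N14213 F30935) (tt N20015 (iv F37252)) (tt N17169 F30936) (tt N14499 F30937) (tt N14205 (iv D17306)) (tt N20016 D20052))
theorem Q17277 : ∀ i, i < 17277 → P i := stepQ 17276 Q17276 (allL N17276 (tt N19953 (iv F37086)) (tt N14207 F30938) (tt N20017 D20053) (tt N14206 (iv D17307)) (tt N20005 (iv F37231)) (tt N20018 D20054))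
theorem Q17278 : ∀ i, i < 17278 → P i := stepQ 17277 Q17277 (allL N17277 (tt N19954 (iv F37091)) (tt N14208 F30939) (tt N19935 (iv F37034)) (tt N20018 (iv F37263)) (tt N19954 (iv F37095)) (tt N14206 (iv D17308)))
theorem Q17279 : ∀ i, i < 17279 → P i := stepQ 17278 Q17278 (allL N17278 (tt N17998 (iv F32479)) (tt N18332 (iv F33275)) (tt N14207 (iv D17309)) (tt N18298 (iv F33203)) (tt N17996 F32474) (tt N18365 (iv F33339)))
theorem Q17280 : ∀ i, i < 17280 → P i := stepQ 17279 Q17279 (allL N17279 (tt N18366 (iv F33340)) (tt N20018 (iv F37261)) (tt N18365 (iv F33338)) (tt N14208 F30940) (tt N20019 D20055) (tt N14207 (iv D17310)))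
theorem Q17281 : ∀ i, i < 17281 → P i := stepQ 17280 Q17280 (allL N17280 (tt N18113 (iv F32758)) (tt N18297 (iv F33198)) (tt N14210 F30941) (tt N18296 F33196) (tt N18100 (iv F32718)) (tt N14209 (iv D17311)))
theorem Q17282 : ∀ i, i < 17282 → P i := stepQ 17281 Q17281 (allL N17281 (tt N18112 (iv F32754)) (tt N14454 F30942) (tt N18100 (iv F32716)) (tt N14459 F30943) (tt N14210 (iv D17312)) (tt N14212 F30944))
theorem Q17283 : ∀ i, i < 17283 → P i := stepQ 17282 Q17282 (allL N17282 (tt N14211 (iv D17313)) (tt N18103 (iv F32725)) (tt N19960 (iv F37112)) (tt N14394 F30945) (tt N18362 (iv F33332)) (tt N18098 (iv F32709)))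
theorem Q17284 : ∀ i, i < 17284 → P i := stepQ 17283 Q17283 (allL N17283 (tt N20016 (iv F37254)) (tt N17365 (iv F31118)) (tt N17507 (iv F31430)) (tt N14501 F30946) (tt N17211 F30947) (tt N14213 (iv D17314)))
theorem Q17285 : ∀ i, i < 17285 → P i := stepQ 17284 Q17284 (allL N17284 (tt N15050 F30948) (tt N19262 (iv F35475)) (tt N14215 (iv D17315)) (tt N15058 (iv F30950)) (tt N14217 F30949) (tt N20020 D20056))
theorem Q17286 : ∀ i, i < 17286 → P i := stepQ 17285 Q17285 (allL N17285 (tt N17299 (iv F30978)) (tt N14222 F30951) (tt N20020 (iv F37269)) (tt N14216 F30952) (tt N20021 D20057) (tt N14215 (iv D17316)))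
theorem Q17287 : ∀ i, i < 17287 → P i := stepQ 17286 Q17286 (allL N17286 (tt N19505 (iv F36067)) (tt N14223 F30953) (tt N19837 (iv F36822)) (tt N20022 D20058) (tt N14218 (iv D17317)) (tt N20021 (iv F37272)))
theorem Q17288 : ∀ i, i < 17288 → P i := stepQ 17287 Q17287 (allL N17287 (tt N17215 F30954) (tt N14224 F30955) (tt N20023 D20059) (tt N14219 (iv D17318)) (tt N20022 (iv F37275)) (tt N14220 F30956))
theorem Q17289 : ∀ i, i < 17289 → P i := stepQ 17288 Q17288 (allL N17288 (tt N17214 F30957) (tt N20024 D20060) (tt N14220 (iv D17319)) (tt N20025 D20061) (tt N19976 (iv F37149)) (tt N20023 (iv F37277)))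
theorem Q17290 : ∀ i, i < 17290 → P i := stepQ 17289 Q17289 (allL N17289 (tt N14237 F30958) (tt N19403 (iv F35781)) (tt N20026 D20062) (tt N14221 (iv D17320)) (tt N14279 F30959) (tt N20027 D20063))
theorem Q17291 : ∀ i, i < 17291 → P i := stepQ 17290 Q17290 (allL N17290 (tt N14238 F30960) (tt N19404 (iv F35784)) (tt N14222 F30961) (tt N20027 (iv F37287)) (tt N14278 F30962) (tt N14221 (iv D17321)))
theorem Q17292 : ∀ i, i < 17292 → P i := stepQ 17291 Q17291 (allL N17291 (tt N14239 F30963) (tt N20021 (iv F37271)) (tt N14278 F30964) (tt N19981 (iv F37159)) (tt N14222 (iv D17322)) (tt N14223 F30965))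
theorem Q17293 : ∀ i, i < 17293 → P i := stepQ 17292 Q17292 (allL N17292 (tt N14247 F30966) (tt N20022 (iv F37274)) (tt N20028 D20064) (tt N14223 (iv D17323)) (tt N14224 F30967) (tt N19981 (iv F37160)))
theorem Q17294 : ∀ i, i < 17294 → P i := stepQ 17293 Q17293 (allL N17293 (tt N14248 F30968) (tt N18583 (iv F33855)) (tt N14224 (iv D17324)) (tt N14251 F30969) (tt N20028 (iv F37290)) (tt N14225 F30970))
theorem Q17295 : ∀ i, i < 17295 → P i := stepQ 17294 Q17294 (allL N17294 (tt N20029 D20065) (tt N14225 (iv D17325)) (tt N20024 (iv F37278)) (tt N14358 F30971) (tt N19978 (iv F37153)) (tt N18583 (iv F33856)))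
theorem Q17296 : ∀ i, i < 17296 → P i := stepQ 17295 Q17295 (allL N17295 (tt N14251 F30972) (tt N20030 D20066) (tt N14227 (iv D17326)) (tt N14248 F30973) (tt N20003 (iv F37224)) (tt N14250 F30974))
theorem Q17297 : ∀ i, i < 17297 → P i := stepQ 17296 Q17296 (allL N17296 (tt N19264 (iv F35481)) (tt N14229 (iv D17327)) (tt N14236 F30975) (tt N20031 D20067) (tt N14231 F30976) (tt N20032 D20068))
theorem Q17298 : ∀ i, i < 17298 → P i := stepQ 17297 Q17297 (allL N17297 (tt N17300 (iv F30981)) (tt N20031 (iv F37297)) (tt N17308 (iv F30994)) (tt N14229 (iv D17328)) (tt N19501 (iv F36061)) (tt N17306 F30991))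
theorem Q17299 : ∀ i, i < 17299 → P i := stepQ 17298 Q17298 (allL N17298 (tt N17301 (iv F30983)) (tt N20032 (iv F37298)) (tt N14230 F30977) (tt N17306 (iv F30990)) (tt N19507 (iv F36075)) (tt N14229 (iv D17329)))
theorem Q17300 : ∀ i, i < 17300 → P i := stepQ 17299 Q17299 (allL N17299 (tt N17285 F30978) (tt N14235 F30979) (tt N18037 (iv F32573)) (tt N14233 F30980) (tt N20033 D20069) (tt N14232 (iv D17330)))
theorem Q17301 : ∀ i, i < 17301 → P i := stepQ 17300 Q17300 (allL N17300 (tt N17297 F30981) (tt N18040 (iv F32578)) (tt N20027 (iv F37286)) (tt N14234 (iv D17331)) (tt N16702 F30982) (tt N20026 F37284))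
theorem Q17302 : ∀ i, i < 17302 → P i := stepQ 17301 Q17301 (allL N17301 (tt N17298 F30983) (tt N18041 (iv F32579)) (tt N14235 F30984) (tt N20026 (iv F37282)) (tt N20034 D20070) (tt N14234 (iv D17332)))
theorem Q17303 : ∀ i, i < 17303 → P i := stepQ 17302 Q17302 (allL N17302 (tt N16711 F30985) (tt N20033 (iv F37301)) (tt N20034 (iv F37305)) (tt N19974 (iv F37143)) (tt N14235 (iv D17333)) (tt N16708 F30986))
theorem Q17304 : ∀ i, i < 17304 → P i := stepQ 17303 Q17303 (allL N17303 (tt N14236 (iv D17334)) (tt N19263 F35480) (tt N19264 (iv F35482)) (tt N20035 D20071) (tt N14242 F30987) (tt N20036 D20072))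
theorem Q17305 : ∀ i, i < 17305 → P i := stepQ 17304 Q17304 (allL N17304 (tt N20035 (iv F37308)) (tt N14237 F30988) (tt N20037 D20073) (tt N14236 (iv D17335)) (tt N20038 D20074) (tt N20039 D20075))
theorem Q17306 : ∀ i, i < 17306 → P i := stepQ 17305 Q17305 (allL N17305 (tt N20036 (iv F37309)) (tt N14238 F30989) (tt N20032 (iv F37299)) (tt N20039 (iv F37313)) (tt N20040 D20076) (tt N14236 (iv D17336)))
theorem Q17307 : ∀ i, i < 17307 → P i := stepQ 17306 Q17306 (allL N17306 (tt N20026 (iv F37280)) (tt N20041 D20077) (tt N14237 (iv D17337)) (tt N17298 F30990) (tt N20042 D20078) (tt N17297 (iv F30991)))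
theorem Q17308 : ∀ i, i < 17308 → P i := stepQ 17307 Q17307 (allL N17307 (tt N14279 F30992) (tt N20038 (iv F37310)) (tt N20042 (iv F37319)) (tt N14245 F30993) (tt N14237 (iv D17338)) (tt N20043 D20079))
theorem Q17309 : ∀ i, i < 17309 → P i := stepQ 17308 Q17308 (allL N17308 (tt N20027 (iv F37285)) (tt N20039 (iv F37312)) (tt N17297 F30994) (tt N14238 F30995) (tt N20044 D20080) (tt N14237 (iv D17339)))
theorem Q17310 : ∀ i, i < 17310 → P i := stepQ 17309 Q17309 (allL N17309 (tt N14278 F30996) (tt N20040 (iv F37314)) (tt N14239 F30997) (tt N20045 D20081) (tt N14238 (iv D17340)) (tt N14246 F30998))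
theorem Q17311 : ∀ i, i < 17311 → P i := stepQ 17310 Q17310 (allL N17310 (tt N19981 (iv F37158)) (tt N17227 F30999) (tt N20046 D20082) (tt N14239 (iv D17341)) (tt N14240 F31000) (tt N14247 F31001))
theorem Q17312 : ∀ i, i < 17312 → P i := stepQ 17311 Q17311 (allL N17311 (tt N19980 (iv F37156)) (tt N19983 (iv F37165)) (tt N14240 (iv D17342)) (tt N19983 (iv F37166)) (tt N20046 (iv F37329)) (tt N14241 F31002))
theorem Q17313 : ∀ i, i < 17313 → P i := stepQ 17312 Q17312 (allL N17312 (tt N19979 (iv F37154)) (tt N14241 (iv D17343)) (tt N17224 F31003) (tt N14241 F31022) (tt N14249 F31004) (tt N19983 (iv F37167)))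
theorem Q17314 : ∀ i, i < 17314 → P i := stepQ 17313 Q17313 (allL N17313 (tt N19401 (iv F35778)) (tt N14245 F31005) (tt N16713 F31006) (tt N20038 (iv F37311)) (tt N14243 (iv D17345)) (tt N20047 D20083))
theorem Q17315 : ∀ i, i < 17315 → P i := stepQ 17314 Q17314 (allL N17314 (tt N19842 (iv F36831)) (tt N14246 F31007) (tt N19506 (iv F36072)) (tt N20048 D20084) (tt N14244 (iv D17346)) (tt N20040 (iv F37315)))
theorem Q17316 : ∀ i, i < 17316 → P i := stepQ 17315 Q17315 (allL N17315 (tt N14276 F31008) (tt N20047 (iv F37331)) (tt N14260 F31009) (tt N20043 (iv F37324)) (tt N14259 F31010) (tt N14245 (iv D17347)))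
theorem Q17317 : ∀ i, i < 17317 → P i := stepQ 17316 Q17316 (allL N17316 (tt N14274 F31011) (tt N20048 (iv F37334)) (tt N20049 D20085) (tt N14246 (iv D17348)) (tt N14258 F31012) (tt N20045 (iv F37328)))
theorem Q17318 : ∀ i, i < 17318 → P i := stepQ 17317 Q17317 (allL N17317 (tt N20028 (iv F37289)) (tt N20050 D20086) (tt N14247 (iv D17349)) (tt N20051 D20087) (tt N14248 F31013) (tt N20046 (iv F37330)))
theorem Q17319 : ∀ i, i < 17319 → P i := stepQ 17318 Q17318 (allL N17318 (tt N20052 D20088) (tt N14248 (iv D17350)) (tt N17230 F31014) (tt N20030 (iv F37295)) (tt N20050 (iv F37339)) (tt N14249 F31015))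
theorem Q17320 : ∀ i, i < 17320 → P i := stepQ 17319 Q17319 (allL N17319 (tt N14249 (iv D17351)) (tt N20029 (iv F37291)) (tt N17228 F31016) (tt N14357 F31017) (tt N19979 (iv F37155)) (tt N20052 (iv F37342)))
theorem Q17321 : ∀ i, i < 17321 → P i := stepQ 17320 Q17320 (allL N17320 (tt N14357 F31018) (tt N14250 F31019) (tt N14331 (iv F31020)) (tt N14249 (iv D17352)) (tt N14250 F31021) (tt N20030 (iv F37296)))
theorem Q17322 : ∀ i, i < 17322 → P i := stepQ 17321 Q17321 (allL N17321 (tt N20003 (iv F37223)) (tt N18584 (iv F33857)) (tt N14252 F31026) (tt N20053 D20089) (tt N14251 (iv D17353)) (tt N20054 D20090))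
theorem Q17323 : ∀ i, i < 17323 → P i := stepQ 17322 Q17322 (allL N17322 (tt N20004 (iv F37225)) (tt N14406 F31027) (tt N20054 (iv F37343)) (tt N14256 F31028) (tt N14356 F31029) (tt N14252 (iv D17354)))
theorem Q17324 : ∀ i, i < 17324 → P i := stepQ 17323 Q17323 (allL N17323 (tt N14254 F31030) (tt N19570 (iv F36246)) (tt N14253 (iv D17355)) (tt N14291 F31031) (tt N18590 (iv F33882)) (tt N14280 F31032))
theorem Q17325 : ∀ i, i < 17325 → P i := stepQ 17324 Q17324 (allL N17324 (tt N14291 F31033) (tt N19988 (iv F37184)) (tt N14290 F31034) (tt N14254 (iv D17356)) (tt N20055 D20091) (tt N14283 F31035))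
theorem Q17326 : ∀ i, i < 17326 → P i := stepQ 17325 Q17325 (allL N17325 (tt N18590 (iv F33880)) (tt N19989 (iv F37187)) (tt N14255 F31036) (tt N20056 D20092) (tt N14254 (iv D17357)) (tt N19567 (iv F36241)))
theorem Q17327 : ∀ i, i < 17327 → P i := stepQ 17326 Q17326 (allL N17326 (tt N18587 (iv F33867)) (tt N14256 F31037) (tt N19567 (iv F36239)) (tt N14406 F31038) (tt N14285 F31039) (tt N14255 (iv D17358)))
theorem Q17328 : ∀ i, i < 17328 → P i := stepQ 17327 Q17327 (allL N17327 (tt N14257 (iv D17359)) (tt N14270 F31040) (tt N19238 (iv F35413)) (tt N20057 D20093) (tt N14261 F31041) (tt N20058 D20094))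
theorem Q17329 : ∀ i, i < 17329 → P i := stepQ 17328 Q17328 (allL N17328 (tt N20057 (iv F37347)) (tt N14258 F31042) (tt N20059 D20095) (tt N14257 (iv D17360)) (tt N20048 (iv F37335)) (tt N20060 D20096))
theorem Q17330 : ∀ i, i < 17330 → P i := stepQ 17329 Q17329 (allL N17329 (tt N20058 (iv F37349)) (tt N14259 F31043) (tt N19240 (iv F35419)) (tt N20060 (iv F37353)) (tt N20047 (iv F37333)) (tt N14257 (iv D17361)))
theorem Q17331 : ∀ i, i < 17331 → P i := stepQ 17330 Q17330 (allL N17330 (tt N14273 F31044) (tt N20061 D20097) (tt N14258 (iv D17362)) (tt N14268 F31045) (tt N20049 (iv F37337)) (tt N14267 (iv F31046)))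
theorem Q17332 : ∀ i, i < 17332 → P i := stepQ 17331 Q17331 (allL N17331 (tt N14275 F31047) (tt N20060 (iv F37352)) (tt N14267 F31048) (tt N14259 F31049) (tt N20062 D20098) (tt N14258 (iv D17363)))
theorem Q17333 : ∀ i, i < 17333 → P i := stepQ 17332 Q17332 (allL N17332 (tt N14263 F31050) (tt N14423 (iv F31051)) (tt N14262 (iv D17364)) (tt N14415 F31053) (tt N14416 (iv F31052)) (tt N19566 (iv F36237)))
theorem Q17334 : ∀ i, i < 17334 → P i := stepQ 17333 Q17333 (allL N17333 (tt N14264 F31054) (tt N14281 F31055) (tt N14416 F31056) (tt N14347 F31057) (tt N14262 (iv D17365)) (tt N14417 F31058))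
theorem Q17335 : ∀ i, i < 17335 → P i := stepQ 17334 Q17334 (allL N17334 (tt N14415 F31059) (tt N14429 F31060) (tt N20063 D20099) (tt N14263 (iv D17366)) (tt N14409 F31061) (tt N14428 F31062))
theorem Q17336 : ∀ i, i < 17336 → P i := stepQ 17335 Q17335 (allL N17335 (tt N14266 (iv D17367)) (tt N17602 (iv F31635)) (tt N14706 F31063) (tt N20064 D20100) (tt N17598 (iv F31627)) (tt N20065 D20101))
theorem Q17337 : ∀ i, i < 17337 → P i := stepQ 17336 Q17336 (allL N17336 (tt N20064 (iv F37363)) (tt N14267 F31064) (tt N20066 D20102) (tt N14266 (iv D17368)) (tt N20067 D20103) (tt N20061 (iv F37355)))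
theorem Q17338 : ∀ i, i < 17338 → P i := stepQ 17337 Q17337 (allL N17337 (tt N20065 (iv F37364)) (tt N14268 F31065) (tt N14708 F31066) (tt N20061 (iv F37354)) (tt N20068 D20104) (tt N14266 (iv D17369)))
theorem Q17339 : ∀ i, i < 17339 → P i := stepQ 17338 Q17338 (allL N17338 (tt N17607 (iv F31643)) (tt N20067 (iv F37366)) (tt N20062 (iv F37357)) (tt N16696 F31067) (tt N14267 (iv D17370)) (tt N20069 D20105))
theorem Q17340 : ∀ i, i < 17340 → P i := stepQ 17339 Q17339 (allL N17339 (tt N17610 (iv F31648)) (tt N20068 (iv F37368)) (tt N14269 F31068) (tt N20070 D20106) (tt N14268 (iv D17371)) (tt N17600 (iv F31632)))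
theorem Q17341 : ∀ i, i < 17341 → P i := stepQ 17340 Q17340 (allL N17340 (tt N14271 F31069) (tt N20057 (iv F37348)) (tt N15435 F31070) (tt N14270 (iv D17372)) (tt N19843 (iv F36835)) (tt N20071 D20107))
theorem Q17342 : ∀ i, i < 17342 → P i := stepQ 17341 Q17341 (allL N17341 (tt N14272 F31071) (tt N20058 (iv F37350)) (tt N14345 F31072) (tt N20071 (iv F37373)) (tt N19243 (iv F35422)) (tt N14270 (iv D17373)))
theorem Q17343 : ∀ i, i < 17343 → P i := stepQ 17342 Q17342 (allL N17342 (tt N15435 F31073) (tt N20072 D20108) (tt N14271 (iv D17374)) (tt N15429 F31074) (tt N20073 D20109) (tt N20074 D20110))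
theorem Q17344 : ∀ i, i < 17344 → P i := stepQ 17343 Q17343 (allL N17343 (tt N19843 (iv F36834)) (tt N14274 F31075) (tt N20073 (iv F37377)) (tt N14277 F31076) (tt N14271 (iv D17375)) (tt N20075 D20111))
theorem Q17345 : ∀ i, i < 17345 → P i := stepQ 17344 Q17344 (allL N17344 (tt N20071 (iv F37371)) (tt N14275 F31077) (tt N20074 (iv F37379)) (tt N14272 F31078) (tt N20076 D20112) (tt N14271 (iv D17376)))
theorem Q17346 : ∀ i, i < 17346 → P i := stepQ 17345 Q17345 (allL N17345 (tt N20077 D20113) (tt N14273 (iv D17377)) (tt N20072 (iv F37374)) (tt N17606 (iv F31642)) (tt N20078 D20114) (tt N17605 F31639))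
theorem Q17347 : ∀ i, i < 17347 → P i := stepQ 17346 Q17346 (allL N17346 (tt N20049 (iv F37336)) (tt N20078 (iv F37384)) (tt N14274 F31079) (tt N20079 D20115) (tt N14273 (iv D17378)) (tt N20080 D20116))
theorem Q17348 : ∀ i, i < 17348 → P i := stepQ 17347 Q17347 (allL N17347 (tt N20045 (iv F37327)) (tt N20075 (iv F37381)) (tt N20080 (iv F37385)) (tt N14278 F31080) (tt N20081 D20117) (tt N14274 (iv D17379)))
theorem Q17349 : ∀ i, i < 17349 → P i := stepQ 17348 Q17348 (allL N17348 (tt N20062 (iv F37356)) (tt N20076 (iv F37383)) (tt N17607 F31645) (tt N20082 D20118) (tt N14275 (iv D17380)) (tt N20081 (iv F37387)))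
theorem Q17350 : ∀ i, i < 17350 → P i := stepQ 17349 Q17349 (allL N17349 (tt N20043 (iv F37322)) (tt N19244 (iv F35424)) (tt N18094 (iv F32695)) (tt N14276 (iv D17381)) (tt N20082 (iv F37388)) (tt N14279 F31081))
theorem Q17351 : ∀ i, i < 17351 → P i := stepQ 17350 Q17350 (allL N17350 (tt N19844 (iv F36837)) (tt N14278 F31082) (tt N19840 (iv F36829)) (tt N20075 (iv F37382)) (tt N19404 (iv F35785)) (tt N14277 (iv D17382)))
theorem Q17352 : ∀ i, i < 17352 → P i := stepQ 17351 Q17351 (allL N17351 (tt N20042 (iv F37318)) (tt N18097 (iv F32703)) (tt N14279 (iv D17383)) (tt N18095 (iv F32700)) (tt N20026 (iv F37283)) (tt N18094 F32696))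
theorem Q17353 : ∀ i, i < 17353 → P i := stepQ 17352 Q17352 (allL N17352 (tt N14447 (iv F31085)) (tt N14280 (iv D17384)) (tt N14423 F31083) (tt N16909 F31084) (tt N14424 (iv F31086)) (tt N19570 (iv F36248)))
theorem Q17354 : ∀ i, i < 17354 → P i := stepQ 17353 Q17353 (allL N17353 (tt N14284 F31087) (tt N14424 F31088) (tt N14281 F31089) (tt N14452 (iv F31090)) (tt N14280 (iv D17385)) (tt N14425 F31091))
theorem Q17355 : ∀ i, i < 17355 → P i := stepQ 17354 Q17354 (allL N17354 (tt N14285 F31092) (tt N14417 F31093) (tt N14425 F31094) (tt N14350 F31095) (tt N18587 (iv F33869)) (tt N14281 (iv D17386)))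
theorem Q17356 : ∀ i, i < 17356 → P i := stepQ 17355 Q17355 (allL N17355 (tt N14282 (iv D17387)) (tt N14447 F31096) (tt N14286 F31097) (tt N20083 D20119) (tt N14448 (iv F31098)) (tt N19987 (iv F37183)))
theorem Q17357 : ∀ i, i < 17357 → P i := stepQ 17356 Q17356 (allL N17356 (tt N20083 (iv F37391)) (tt N14283 F31099) (tt N20084 D20120) (tt N14282 (iv D17388)) (tt N20085 D20121) (tt N19988 (iv F37185)))
theorem Q17358 : ∀ i, i < 17358 → P i := stepQ 17357 Q17357 (allL N17357 (tt N14448 F31100) (tt N14284 F31101) (tt N14287 F31102) (tt N20086 D20122) (tt N14282 (iv D17389)) (tt N14449 (iv F31103)))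
theorem Q17359 : ∀ i, i < 17359 → P i := stepQ 17358 Q17358 (allL N17358 (tt N16908 F31104) (tt N20085 (iv F37395)) (tt N16894 F31105) (tt N20087 D20123) (tt N14283 (iv D17390)) (tt N20088 D20124))
theorem Q17360 : ∀ i, i < 17360 → P i := stepQ 17359 Q17359 (allL N17359 (tt N14452 F31106) (tt N20086 (iv F37397)) (tt N18098 (iv F32708)) (tt N14284 (iv D17391)) (tt N20087 (iv F37400)) (tt N19960 (iv F37114)))
theorem Q17361 : ∀ i, i < 17361 → P i := stepQ 17360 Q17360 (allL N17360 (tt N14425 F31107) (tt N14449 F31108) (tt N14285 F31109) (tt N19960 (iv F37113)) (tt N19567 (iv F36240)) (tt N14284 (iv D17392)))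
theorem Q17362 : ∀ i, i < 17362 → P i := stepQ 17361 Q17361 (allL N17361 (tt N17274 F31110) (tt N14290 F31111) (tt N20089 D20125) (tt N14289 (iv D17393)) (tt N20090 D20126) (tt N16905 F31112))
theorem Q17363 : ∀ i, i < 17363 → P i := stepQ 17362 Q17362 (allL N17362 (tt N14292 F31113) (tt N20090 (iv F37406)) (tt N20055 (iv F37346)) (tt N14404 F31114) (tt N14290 (iv D17394)) (tt N20091 D20127))
theorem Q17364 : ∀ i, i < 17364 → P i := stepQ 17363 Q17363 (allL N17363 (tt N20092 D20128) (tt N14291 (iv D17395)) (tt N14465 F31115) (tt N19570 F36249) (tt N19655 (iv F36436)) (tt N16909 F31116))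
theorem Q17365 : ∀ i, i < 17365 → P i := stepQ 17364 Q17364 (allL N17364 (tt N20055 (iv F37345)) (tt N19655 F36438) (tt N14292 F31117) (tt N19654 (iv F36439)) (tt N14291 (iv D17396)) (tt N20093 D20129))
theorem Q17366 : ∀ i, i < 17366 → P i := stepQ 17365 Q17365 (allL N17365 (tt N20091 (iv F37408)) (tt N17283 F31118) (tt N20093 (iv F37416)) (tt N14407 F31119) (tt N16907 F31120) (tt N14292 (iv D17397)))
theorem Q17367 : ∀ i, i < 17367 → P i := stepQ 17366 Q17366 (allL N17366 (tt N14755 F31121) (tt N16900 F31122) (tt N14294 (iv D17398)) (tt N20094 D20130) (tt N14753 F31123) (tt N20095 D20131))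
theorem Q17368 : ∀ i, i < 17368 → P i := stepQ 17367 Q17367 (allL N17367 (tt N14756 F31124) (tt N14297 F31125) (tt N20095 (iv F37423)) (tt N14295 F31126) (tt N20096 D20132) (tt N14294 (iv D17399)))
theorem Q17369 : ∀ i, i < 17369 → P i := stepQ 17368 Q17368 (allL N17368 (tt N14305 F31127) (tt N20096 (iv F37425)) (tt N14303 F31128) (tt N15408 F31129) (tt N14297 (iv D17400)) (tt N18612 (iv F33947)))
theorem Q17370 : ∀ i, i < 17370 → P i := stepQ 17369 Q17369 (allL N17369 (tt N14301 F31135) (tt N16878 F31136) (tt N14299 (iv D17401)) (tt N17544 (iv F31502)) (tt N14789 F31137) (tt N14307 F31138))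
theorem Q17371 : ∀ i, i < 17371 → P i := stepQ 17370 Q17370 (allL N17370 (tt N16888 F31139) (tt N20095 (iv F37422)) (tt N14302 (iv D17402)) (tt N20097 D20133) (tt N20098 D20134) (tt N16900 F31140))
theorem Q17372 : ∀ i, i < 17372 → P i := stepQ 17371 Q17371 (allL N17371 (tt N16893 F31141) (tt N14303 F31142) (tt N20098 (iv F37432)) (tt N19962 (iv F37118)) (tt N14302 (iv D17403)) (tt N20099 D20135))
theorem Q17373 : ∀ i, i < 17373 → P i := stepQ 17372 Q17372 (allL N17372 (tt N14306 F31143) (tt N20099 (iv F37434)) (tt N18612 (iv F33945)) (tt N19963 (iv F37121)) (tt N16906 F31144) (tt N14303 (iv D17404)))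
theorem Q17374 : ∀ i, i < 17374 → P i := stepQ 17373 Q17373 (allL N17373 (tt N15408 F31145) (tt N18615 (iv F33956)) (tt N15406 (iv F31147)) (tt N14305 (iv D17405)) (tt N15405 F31146) (tt N18613 (iv F33951)))
theorem Q17375 : ∀ i, i < 17375 → P i := stepQ 17374 Q17374 (allL N17374 (tt N14308 F31148) (tt N17405 (iv F31226)) (tt N20094 (iv F37420)) (tt N14307 (iv D17406)) (tt N20100 D20136) (tt N17544 (iv F31503)))
theorem Q17376 : ∀ i, i < 17376 → P i := stepQ 17375 Q17375 (allL N17375 (tt N20094 (iv F37418)) (tt N16898 F31149) (tt N14308 (iv D17407)) (tt N14755 F31150) (tt N20101 D20137) (tt N17541 (iv F31498)))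
theorem Q17377 : ∀ i, i < 17377 → P i := stepQ 17376 Q17376 (allL N17376 (tt N20100 (iv F37436)) (tt N14309 F31151) (tt N20101 (iv F37439)) (tt N14597 F31152) (tt N14308 (iv D17408)) (tt N20102 D20138))
theorem Q17378 : ∀ i, i < 17378 → P i := stepQ 17377 Q17377 (allL N17377 (tt N17410 (iv F31232)) (tt N20102 (iv F37441)) (tt N17548 (iv F31508)) (tt N14602 F31153) (tt N17547 (iv F31507)) (tt N14309 (iv D17409)))
theorem Q17379 : ∀ i, i < 17379 → P i := stepQ 17378 Q17378 (allL N17378 (tt N17412 (iv F31235)) (tt N14791 F31154) (tt N20103 D20139) (tt N14310 (iv D17410)) (tt N17546 (iv F31505)) (tt N14604 F31155))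
theorem Q17380 : ∀ i, i < 17380 → P i := stepQ 17379 Q17379 (allL N17379 (tt N14313 F31156) (tt N15383 F31157) (tt N14311 (iv D17411)) (tt N20104 D20140) (tt N15382 F31158) (tt N14614 F31159))
theorem Q17381 : ∀ i, i < 17381 → P i := stepQ 17380 Q17380 (allL N17380 (tt N20104 (iv F37449)) (tt N14618 F31160) (tt N20105 D20141) (tt N14313 (iv D17412)) (tt N20106 D20142) (tt N14615 F31161))
theorem Q17382 : ∀ i, i < 17382 → P i := stepQ 17381 Q17381 (allL N17381 (tt N18283 (iv F33161)) (tt N15039 F31162) (tt N18280 (iv F33157)) (tt N15895 F31163) (tt N14317 (iv D17413)) (tt N15872 F31164))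
theorem Q17383 : ∀ i, i < 17383 → P i := stepQ 17382 Q17382 (allL N17382 (tt N14334 F31165) (tt N17233 F31166) (tt N17229 F31167) (tt N14322 F31168) (tt N20107 D20143) (tt N14321 (iv D17414)))
theorem Q17384 : ∀ i, i < 17384 → P i := stepQ 17383 Q17383 (allL N17383 (tt N14336 F31169) (tt N17398 (iv F31209)) (tt N14341 F31170) (tt N20108 D20144) (tt N14323 (iv D17415)) (tt N20107 (iv F37460)))
theorem Q17385 : ∀ i, i < 17385 → P i := stepQ 17384 Q17384 (allL N17384 (tt N14329 F31171) (tt N17396 (iv F31202)) (tt N18095 (iv F32699)) (tt N14324 (iv D17416)) (tt N20108 (iv F37462)) (tt N14325 F31172))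
theorem Q17386 : ∀ i, i < 17386 → P i := stepQ 17385 Q17385 (allL N17385 (tt N14355 F31173) (tt N14334 F31174) (tt N16676 F31175) (tt N14327 F31176) (tt N20109 D20145) (tt N14326 (iv D17417)))
theorem Q17387 : ∀ i, i < 17387 → P i := stepQ 17386 Q17386 (allL N17386 (tt N16704 F31177) (tt N14328 (iv D17418)) (tt N14335 F31178) (tt N20110 D20146) (tt N16703 F31179) (tt N19990 (iv F37192)))
theorem Q17388 : ∀ i, i < 17388 → P i := stepQ 17387 Q17387 (allL N17387 (tt N18094 (iv F32693)) (tt N20110 (iv F37471)) (tt N20043 (iv F37323)) (tt N14328 (iv D17419)) (tt N20111 D20147) (tt N20042 (iv F37321)))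
theorem Q17389 : ∀ i, i < 17389 → P i := stepQ 17388 Q17388 (allL N17388 (tt N18095 (iv F32697)) (tt N19990 (iv F37191)) (tt N14329 F31180) (tt N20042 F37320) (tt N20112 D20148) (tt N14328 (iv D17420)))
theorem Q17390 : ∀ i, i < 17390 → P i := stepQ 17389 Q17389 (allL N17389 (tt N20108 (iv F37461)) (tt N14336 F31181) (tt N20112 (iv F37476)) (tt N14336 F31182) (tt N14329 (iv D17421)) (tt N20109 (iv F37469)))
theorem Q17391 : ∀ i, i < 17391 → P i := stepQ 17390 Q17390 (allL N17390 (tt N14401 F31183) (tt N14331 F31184) (tt N14349 F31186) (tt N14330 (iv D17422)) (tt N14349 F31185) (tt N18585 (iv F33862)))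
theorem Q17392 : ∀ i, i < 17392 → P i := stepQ 17391 Q17391 (allL N17391 (tt N14402 F31187) (tt N14332 F31188) (tt N14348 F31189) (tt N18585 (iv F33861)) (tt N14348 F31190) (tt N14330 (iv D17423)))
theorem Q17393 : ∀ i, i < 17393 → P i := stepQ 17392 Q17392 (allL N17392 (tt N14356 F31191) (tt N18585 (iv F33859)) (tt N20030 (iv F37294)) (tt N14332 F31192) (tt N20004 (iv F37228)) (tt N14331 (iv D17424)))
theorem Q17394 : ∀ i, i < 17394 → P i := stepQ 17393 Q17393 (allL N17393 (tt N17230 F31193) (tt N17243 F31194) (tt N20052 (iv F37340)) (tt N14333 (iv D17425)) (tt N19994 (iv F37204)) (tt N17228 F31195))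
theorem Q17395 : ∀ i, i < 17395 → P i := stepQ 17394 Q17394 (allL N17394 (tt N17229 F31196) (tt N17244 F31197) (tt N14334 F31198) (tt N17228 F31199) (tt N19993 (iv F37202)) (tt N14333 (iv D17426)))
theorem Q17396 : ∀ i, i < 17396 → P i := stepQ 17395 Q17395 (allL N17395 (tt N20107 (iv F37456)) (tt N20109 (iv F37466)) (tt N19993 (iv F37200)) (tt N20109 (iv F37468)) (tt N14334 (iv D17427)) (tt N14336 F31200))
theorem Q17397 : ∀ i, i < 17397 → P i := stepQ 17396 Q17396 (allL N17396 (tt N14339 F31201) (tt N17384 F31202) (tt N14338 F31203) (tt N14343 F31204) (tt N20113 D20149) (tt N14337 (iv D17428)))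
theorem Q17398 : ∀ i, i < 17398 → P i := stepQ 17397 Q17397 (allL N17397 (tt N14340 F31205) (tt N15114 F31206) (tt N20113 (iv F37481)) (tt N14701 F31207) (tt N14338 (iv D17429)) (tt N14727 F31208))
theorem Q17399 : ∀ i, i < 17399 → P i := stepQ 17398 Q17398 (allL N17398 (tt N20113 (iv F37479)) (tt N17383 F31209) (tt N14340 F31210) (tt N20113 (iv F37482)) (tt N14339 (iv D17430)) (tt N19986 (iv F37179)))
theorem Q17400 : ∀ i, i < 17400 → P i := stepQ 17399 Q17399 (allL N17399 (tt N19993 (iv F37199)) (tt N17231 F31211) (tt N20107 (iv F37458)) (tt N19985 (iv F37174)) (tt N17229 F31212) (tt N14341 (iv D17431)))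
theorem Q17401 : ∀ i, i < 17401 → P i := stepQ 17400 Q17400 (allL N17400 (tt N19994 (iv F37203)) (tt N17232 F31213) (tt N20050 (iv F37338)) (tt N14342 (iv D17432)) (tt N17230 F31214) (tt N19984 (iv F37170)))
theorem Q17402 : ∀ i, i < 17402 → P i := stepQ 17401 Q17401 (allL N17401 (tt N14348 F31215) (tt N14350 F31216) (tt N14402 F31217) (tt N14417 F31218) (tt N14402 F31219) (tt N14347 (iv D17433)))
theorem Q17403 : ∀ i, i < 17403 → P i := stepQ 17402 Q17402 (allL N17402 (tt N20109 (iv F37465)) (tt N17758 (iv F31978)) (tt N16678 F31220) (tt N20107 (iv F37459)) (tt N14355 (iv D17434)) (tt N20108 (iv F37463)))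
theorem Q17404 : ∀ i, i < 17404 → P i := stepQ 17403 Q17403 (allL N17403 (tt N20030 (iv F37293)) (tt N18580 (iv F33847)) (tt N14356 (iv D17435)) (tt N20052 (iv F37341)) (tt N20054 (iv F37344)) (tt N14357 F31221))
theorem Q17405 : ∀ i, i < 17405 → P i := stepQ 17404 Q17404 (allL N17404 (tt N14358 F31222) (tt N14357 (iv D17436)) (tt N14405 F31223) (tt N20029 (iv F37292)) (tt N14358 F31224) (tt N18580 (iv F33848)))
theorem Q17406 : ∀ i, i < 17406 → P i := stepQ 17405 Q17405 (allL N17405 (tt N14360 F31225) (tt N17374 F31226) (tt N19494 (iv F36047)) (tt N14359 (iv D17437)) (tt N20114 D20150) (tt N19669 (iv F36481)))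
theorem Q17407 : ∀ i, i < 17407 → P i := stepQ 17406 Q17406 (allL N17406 (tt N19494 (iv F36046)) (tt N20115 D20151) (tt N14360 (iv D17438)) (tt N19492 (iv F36043)) (tt N20116 D20152) (tt N19671 (iv F36486)))
theorem Q17408 : ∀ i, i < 17408 → P i := stepQ 17407 Q17407 (allL N17407 (tt N20114 (iv F37484)) (tt N14362 F31227) (tt N20116 (iv F37488)) (tt N17640 (iv F31709)) (tt N14360 (iv D17439)) (tt N20117 D20153))
theorem Q17409 : ∀ i, i < 17409 → P i := stepQ 17408 Q17408 (allL N17408 (tt N19687 (iv F36519)) (tt N14361 (iv D17440)) (tt N20115 (iv F37486)) (tt N14504 F31228) (tt N20118 D20154) (tt N14503 F31229))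
theorem Q17410 : ∀ i, i < 17410 → P i := stepQ 17409 Q17409 (allL N17409 (tt N14513 F31230) (tt N20118 (iv F37490)) (tt N14362 F31231) (tt N20119 D20155) (tt N14361 (iv D17441)) (tt N20120 D20156))
theorem Q17411 : ∀ i, i < 17411 → P i := stepQ 17410 Q17410 (allL N17410 (tt N17377 F31232) (tt N20117 (iv F37489)) (tt N20120 (iv F37495)) (tt N17642 (iv F31715)) (tt N20121 D20157) (tt N14362 (iv D17442)))
theorem Q17412 : ∀ i, i < 17412 → P i := stepQ 17411 Q17411 (allL N17411 (tt N14511 F31233) (tt N19672 (iv F36487)) (tt N14505 F31234) (tt N20122 D20158) (tt N14363 (iv D17443)) (tt N20121 (iv F37500)))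
theorem Q17413 : ∀ i, i < 17413 → P i := stepQ 17412 Q17412 (allL N17412 (tt N17378 F31235) (tt N19673 (iv F36489)) (tt N19361 (iv F35689)) (tt N14364 (iv D17444)) (tt N20122 (iv F37502)) (tt N17643 (iv F31719)))
theorem Q17414 : ∀ i, i < 17414 → P i := stepQ 17413 Q17413 (allL N17413 (tt N14366 F31236) (tt N14375 F31237) (tt N20123 D20159) (tt N14365 (iv D17445)) (tt N19670 (iv F36484)) (tt N20124 D20160))
theorem Q17415 : ∀ i, i < 17415 → P i := stepQ 17414 Q17414 (allL N17414 (tt N14367 F31238) (tt N14376 F31239) (tt N17638 (iv F31704)) (tt N20124 (iv F37506)) (tt N18635 (iv F34012)) (tt N14365 (iv D17446)))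
theorem Q17416 : ∀ i, i < 17416 → P i := stepQ 17415 Q17415 (allL N17415 (tt N20123 (iv F37503)) (tt N20125 D20161) (tt N14366 (iv D17447)) (tt N20126 D20162) (tt N19674 (iv F36491)) (tt N20127 D20163))
theorem Q17417 : ∀ i, i < 17417 → P i := stepQ 17416 Q17416 (allL N17416 (tt N20124 (iv F37504)) (tt N14369 F31240) (tt N20127 (iv F37510)) (tt N14367 F31241) (tt N20128 D20164) (tt N14366 (iv D17448)))
theorem Q17418 : ∀ i, i < 17418 → P i := stepQ 17417 Q17417 (allL N17417 (tt N20129 D20165) (tt N14368 (iv D17449)) (tt N20125 (iv F37507)) (tt N14372 F31242) (tt N19675 (iv F36492)) (tt N14371 F31243))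
theorem Q17419 : ∀ i, i < 17419 → P i := stepQ 17418 Q17418 (allL N17418 (tt N14383 F31244) (tt N20128 (iv F37511)) (tt N14373 F31245) (tt N19666 (iv F36469)) (tt N14369 (iv D17450)) (tt N19667 (iv F36474)))
theorem Q17420 : ∀ i, i < 17420 → P i := stepQ 17419 Q17419 (allL N17419 (tt N14371 F31246) (tt N19078 (iv F35059)) (tt N20130 D20166) (tt N14370 (iv D17451)) (tt N20131 D20167) (tt N20129 (iv F37514)))
theorem Q17421 : ∀ i, i < 17421 → P i := stepQ 17420 Q17420 (allL N17420 (tt N14372 F31247) (tt N19062 (iv F35024)) (tt N17626 (iv F31667)) (tt N20129 (iv F37513)) (tt N20132 D20168) (tt N14370 (iv D17452)))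
theorem Q17422 : ∀ i, i < 17422 → P i := stepQ 17421 Q17421 (allL N17421 (tt N20130 (iv F37515)) (tt N20127 (iv F37509)) (tt N14371 (iv D17453)) (tt N20133 D20169) (tt N20134 D20170) (tt N20125 F37508))
theorem Q17423 : ∀ i, i < 17423 → P i := stepQ 17422 Q17422 (allL N17422 (tt N20131 (iv F37516)) (tt N14373 F31248) (tt N20134 (iv F37518)) (tt N17628 (iv F31672)) (tt N14371 (iv D17454)) (tt N20135 D20171))
theorem Q17424 : ∀ i, i < 17424 → P i := stepQ 17423 Q17423 (allL N17423 (tt N20132 (iv F37517)) (tt N14374 F31249) (tt N17629 (iv F31674)) (tt N20136 D20172) (tt N14372 (iv D17455)) (tt N17629 (iv F31675)))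
theorem Q17425 : ∀ i, i < 17425 → P i := stepQ 17424 Q17424 (allL N17424 (tt N19081 (iv F35065)) (tt N20135 (iv F37519)) (tt N19667 (iv F36472)) (tt N17630 (iv F31678)) (tt N19668 (iv F36477)) (tt N14373 (iv D17456)))
theorem Q17426 : ∀ i, i < 17426 → P i := stepQ 17425 Q17425 (allL N17425 (tt N19082 (iv F35069)) (tt N20136 (iv F37520)) (tt N19265 (iv F35485)) (tt N14374 (iv D17457)) (tt N19676 (iv F36495)) (tt N17631 (iv F31682)))
theorem Q17427 : ∀ i, i < 17427 → P i := stepQ 17426 Q17426 (allL N17426 (tt N14377 F31250) (tt N20137 D20173) (tt N14375 (iv D17458)) (tt N17662 (iv F31766)) (tt N20138 D20174) (tt N20139 D20175))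
theorem Q17428 : ∀ i, i < 17428 → P i := stepQ 17427 Q17427 (allL N17427 (tt N14378 F31251) (tt N19670 (iv F36483)) (tt N20138 (iv F37522)) (tt N14386 F31252) (tt N14375 (iv D17459)) (tt N20140 D20176))
theorem Q17429 : ∀ i, i < 17429 → P i := stepQ 17428 Q17428 (allL N17428 (tt N14379 F31253) (tt N20124 (iv F37505)) (tt N20139 (iv F37524)) (tt N14376 F31254) (tt N20141 D20177) (tt N14375 (iv D17460)))
theorem Q17430 : ∀ i, i < 17430 → P i := stepQ 17429 Q17429 (allL N17429 (tt N20142 D20178) (tt N14377 (iv D17461)) (tt N14380 F31255) (tt N20143 D20179) (tt N20144 D20180) (tt N19079 (iv F35062)))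
theorem Q17431 : ∀ i, i < 17431 → P i := stepQ 17430 Q17430 (allL N17430 (tt N17662 (iv F31765)) (tt N20143 (iv F37530)) (tt N17661 (iv F31764)) (tt N14377 (iv D17462)) (tt N20145 D20181) (tt N20146 D20182))
theorem Q17432 : ∀ i, i < 17432 → P i := stepQ 17431 Q17431 (allL N17431 (tt N20138 (iv F37521)) (tt N20144 (iv F37531)) (tt N14378 F31256) (tt N20147 D20183) (tt N14377 (iv D17463)) (tt N20148 D20184))
theorem Q17433 : ∀ i, i < 17433 → P i := stepQ 17432 Q17432 (allL N17432 (tt N20139 (iv F37523)) (tt N19079 (iv F35061)) (tt N14379 F31257) (tt N20146 (iv F37536)) (tt N20149 D20185) (tt N14377 (iv D17464)))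
theorem Q17434 : ∀ i, i < 17434 → P i := stepQ 17433 Q17433 (allL N17433 (tt N20140 (iv F37526)) (tt N14382 F31258) (tt N20148 (iv F37537)) (tt N14390 F31259) (tt N20150 D20186) (tt N14378 (iv D17465)))
theorem Q17435 : ∀ i, i < 17435 → P i := stepQ 17434 Q17434 (allL N17434 (tt N20141 (iv F37528)) (tt N14383 F31260) (tt N20149 (iv F37538)) (tt N18639 (iv F34024)) (tt N14379 (iv D17466)) (tt N20150 (iv F37541)))
theorem Q17436 : ∀ i, i < 17436 → P i := stepQ 17435 Q17435 (allL N17435 (tt N14380 (iv D17467)) (tt N20129 (iv F37512)) (tt N20142 (iv F37529)) (tt N19062 F35026) (tt N20151 D20187) (tt N19078 (iv F35060)))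
theorem Q17437 : ∀ i, i < 17437 → P i := stepQ 17436 Q17436 (allL N17436 (tt N20151 (iv F37542)) (tt N14381 F31261) (tt N20144 (iv F37532)) (tt N20152 D20188) (tt N14380 (iv D17468)) (tt N20153 D20189))
theorem Q17438 : ∀ i, i < 17438 → P i := stepQ 17437 Q17437 (allL N17437 (tt N19676 (iv F36493)) (tt N20152 (iv F37543)) (tt N19477 (iv F36002)) (tt N14381 (iv D17469)) (tt N19082 (iv F35070)) (tt N19482 (iv F36017)))
theorem Q17439 : ∀ i, i < 17439 → P i := stepQ 17438 Q17438 (allL N17438 (tt N19668 (iv F36475)) (tt N20153 (iv F37544)) (tt N14382 F31262) (tt N19482 (iv F36018)) (tt N19081 (iv F35068)) (tt N14381 (iv D17470)))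
theorem Q17440 : ∀ i, i < 17440 → P i := stepQ 17439 Q17439 (allL N17439 (tt N19667 (iv F36471)) (tt N20150 (iv F37539)) (tt N19081 (iv F35066)) (tt N18596 (iv F33906)) (tt N14382 (iv D17471)) (tt N14383 F31263))
theorem Q17441 : ∀ i, i < 17441 → P i := stepQ 17440 Q17440 (allL N17440 (tt N19666 (iv F36467)) (tt N18639 (iv F34023)) (tt N18597 (iv F33909)) (tt N14383 (iv D17472)) (tt N14384 F31264) (tt N18596 (iv F33907)))
theorem Q17442 : ∀ i, i < 17442 → P i := stepQ 17441 Q17441 (allL N17441 (tt N17590 (iv F31601)) (tt N20154 D20190) (tt N14384 (iv D17473)) (tt N17566 (iv F31549)) (tt N18597 (iv F33911)) (tt N14392 F31265))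
theorem Q17443 : ∀ i, i < 17443 → P i := stepQ 17442 Q17442 (allL N17442 (tt N14389 F31266) (tt N19712 (iv F36565)) (tt N14386 F31267) (tt N18757 (iv F34222)) (tt N14385 (iv D17474)) (tt N15291 F31268))
theorem Q17444 : ∀ i, i < 17444 → P i := stepQ 17443 Q17443 (allL N17443 (tt N14390 F31269) (tt N19660 (iv F36453)) (tt N15291 F31270) (tt N20140 (iv F37527)) (tt N15290 F31271) (tt N14386 (iv D17475)))
theorem Q17445 : ∀ i, i < 17445 → P i := stepQ 17444 Q17444 (allL N17444 (tt N14391 F31272) (tt N19658 (iv F36445)) (tt N15654 F31274) (tt N14387 (iv D17476)) (tt N15653 F31273) (tt N18636 (iv F34016)))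
theorem Q17446 : ∀ i, i < 17446 → P i := stepQ 17445 Q17445 (allL N17445 (tt N18757 (iv F34221)) (tt N15287 F31275) (tt N20155 D20191) (tt N14389 (iv D17477)) (tt N18752 (iv F34206)) (tt N15284 F31276))
theorem Q17447 : ∀ i, i < 17447 → P i := stepQ 17446 Q17446 (allL N17446 (tt N15654 F31277) (tt N20156 D20192) (tt N14391 (iv D17478)) (tt N16916 F31279) (tt N15651 F31278) (tt N18638 (iv F34022)))
theorem Q17448 : ∀ i, i < 17448 → P i := stepQ 17447 Q17447 (allL N17447 (tt N20157 D20193) (tt N14392 (iv D17479)) (tt N20156 (iv F37547)) (tt N20158 D20194) (tt N18594 F33898) (tt N20154 (iv F37545)))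
theorem Q17449 : ∀ i, i < 17449 → P i := stepQ 17448 Q17448 (allL N17448 (tt N17579 (iv F31575)) (tt N20158 (iv F37552)) (tt N17558 (iv F31529)) (tt N14392 (iv D17480)) (tt N18598 (iv F33914)) (tt N17566 (iv F31548)))
theorem Q17450 : ∀ i, i < 17450 → P i := stepQ 17449 Q17449 (allL N17449 (tt N14397 (iv D17481)) (tt N16983 F31280) (tt N14400 F31281) (tt N16740 F31282) (tt N14398 F31283) (tt N16591 F31284))
theorem Q17451 : ∀ i, i < 17451 → P i := stepQ 17450 Q17450 (allL N17450 (tt N14399 F31285) (tt N16633 F31286) (tt N18561 (iv F33809)) (tt N14398 (iv D17482)) (tt N18548 F33773) (tt N16583 F31287))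
theorem Q17452 : ∀ i, i < 17452 → P i := stepQ 17451 Q17451 (allL N17451 (tt N18561 (iv F33808)) (tt N16626 F31288) (tt N14399 (iv D17483)) (tt N19228 (iv F35392)) (tt N18552 F33781) (tt N16584 F31289))
theorem Q17453 : ∀ i, i < 17453 → P i := stepQ 17452 Q17452 (allL N17452 (tt N17529 (iv F31478)) (tt N16584 F31290) (tt N14403 (iv D17484)) (tt N20159 D20195) (tt N20160 D20196) (tt N16626 F31291))
theorem Q17454 : ∀ i, i < 17454 → P i := stepQ 17453 Q17453 (allL N17453 (tt N17530 (iv F31479)) (tt N14404 F31292) (tt N20160 (iv F37558)) (tt N20090 (iv F37407)) (tt N14403 (iv D17485)) (tt N20161 D20197))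
theorem Q17455 : ∀ i, i < 17455 → P i := stepQ 17454 Q17454 (allL N17454 (tt N14407 F31293) (tt N20161 (iv F37560)) (tt N16586 F31294) (tt N20091 (iv F37409)) (tt N16628 F31295) (tt N14404 (iv D17486)))
theorem Q17456 : ∀ i, i < 17456 → P i := stepQ 17455 Q17455 (allL N17455 (tt N14413 F31299) (tt N14408 (iv D17487)) (tt N14428 F31296) (tt N14408 (iv F31298)) (tt N16756 F31297) (tt N20063 (iv F37362)))
theorem Q17457 : ∀ i, i < 17457 → P i := stepQ 17456 Q17456 (allL N17456 (tt N14414 F31300) (tt N20063 (iv F37359)) (tt N14409 F31301) (tt N20063 (iv F37360)) (tt N20063 (iv F37361)) (tt N14408 (iv D17488)))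
theorem Q17458 : ∀ i, i < 17458 → P i := stepQ 17457 Q17457 (allL N17457 (tt N20162 D20198) (tt N14410 (iv D17489)) (tt N14418 F31302) (tt N20163 D20199) (tt N14412 F31303) (tt N20162 F37565))
theorem Q17459 : ∀ i, i < 17459 → P i := stepQ 17458 Q17458 (allL N17458 (tt N16757 F31304) (tt N20163 (iv F37566)) (tt N20164 D20200) (tt N14410 (iv D17490)) (tt N20164 F37569) (tt N20164 F37570))
theorem Q17460 : ∀ i, i < 17460 → P i := stepQ 17459 Q17459 (allL N17459 (tt N16756 F31305) (tt N20162 (iv F37562)) (tt N14411 F31306) (tt N20164 (iv F37568)) (tt N14413 (iv F31307)) (tt N14410 (iv D17491)))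
theorem Q17461 : ∀ i, i < 17461 → P i := stepQ 17460 Q17460 (allL N17460 (tt N14428 F31308) (tt N14421 F31309) (tt N14413 F31310) (tt N19566 (iv F36236)) (tt N14411 (iv D17492)) (tt N14415 F31311))
theorem Q17462 : ∀ i, i < 17462 → P i := stepQ 17461 Q17461 (allL N17461 (tt N14412 (iv D17493)) (tt N14413 F31312) (tt N14422 F31313) (tt N14412 (iv F31315)) (tt N20162 (iv F37564)) (tt N14483 F31314))
theorem Q17463 : ∀ i, i < 17463 → P i := stepQ 17462 Q17462 (allL N17462 (tt N20063 (iv F37358)) (tt N14483 F31316) (tt N14415 F31317) (tt N14414 F31318) (tt N14414 F31319) (tt N14413 (iv D17494)))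
theorem Q17464 : ∀ i, i < 17464 → P i := stepQ 17463 Q17463 (allL N17463 (tt N14418 (iv D17495)) (tt N14420 F31320) (tt N20162 (iv F37563)) (tt N20165 D20201) (tt N14422 F31321) (tt N14418 (iv F31322)))
theorem Q17465 : ∀ i, i < 17465 → P i := stepQ 17464 Q17464 (allL N17464 (tt N20165 (iv F37571)) (tt N14419 F31323) (tt N20166 D20202) (tt N14418 (iv D17496)) (tt N14485 F31324) (tt N20165 (iv F37574)))
theorem Q17466 : ∀ i, i < 17466 → P i := stepQ 17465 Q17465 (allL N17465 (tt N14438 F31325) (tt N20167 D20203) (tt N14419 (iv D17497)) (tt N14435 F31326) (tt N14486 F31327) (tt N14434 (iv F31328)))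
theorem Q17467 : ∀ i, i < 17467 → P i := stepQ 17466 Q17466 (allL N17466 (tt N14437 F31329) (tt N20165 (iv F37572)) (tt N14434 F31330) (tt N14420 F31331) (tt N15368 (iv F31332)) (tt N14419 (iv D17498)))
theorem Q17468 : ∀ i, i < 17468 → P i := stepQ 17467 Q17467 (allL N17467 (tt N18104 F32729) (tt N20168 D20204) (tt N14426 (iv D17499)) (tt N20169 D20205) (tt N19606 (iv F36333)) (tt N19952 (iv F37085)))
theorem Q17469 : ∀ i, i < 17469 → P i := stepQ 17468 Q17468 (allL N17468 (tt N20086 (iv F37396)) (tt N14427 (iv D17500)) (tt N20168 (iv F37580)) (tt N14448 F31333) (tt N19608 (iv F36336)) (tt N14450 F31334))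
theorem Q17470 : ∀ i, i < 17470 → P i := stepQ 17469 Q17469 (allL N17469 (tt N19570 (iv F36245)) (tt N19987 (iv F37181)) (tt N14430 (iv D17501)) (tt N20092 (iv F37412)) (tt N14440 F31335) (tt N14447 F31336))
theorem Q17471 : ∀ i, i < 17471 → P i := stepQ 17470 Q17470 (allL N17470 (tt N14433 F31337) (tt N14431 (iv D17502)) (tt N14433 F31338) (tt N15906 (iv F31340)) (tt N14960 F31339) (tt N20170 D20206))
theorem Q17472 : ∀ i, i < 17472 → P i := stepQ 17471 Q17471 (allL N17471 (tt N16746 F31341) (tt N15906 F31342) (tt N20171 D20207) (tt N14431 (iv D17503)) (tt N15903 F31343) (tt N20171 F37592))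
theorem Q17473 : ∀ i, i < 17473 → P i := stepQ 17472 Q17472 (allL N17472 (tt N16747 F31344) (tt N20170 (iv F37584)) (tt N14432 F31345) (tt N20171 (iv F37589)) (tt N20172 D20208) (tt N14431 (iv D17504)))
theorem Q17474 : ∀ i, i < 17474 → P i := stepQ 17473 Q17473 (allL N17473 (tt N16748 F31346) (tt N14436 F31347) (tt N20172 (iv F37595)) (tt N19555 (iv F36203)) (tt N14432 (iv D17505)) (tt N15373 F31348))
theorem Q17475 : ∀ i, i < 17475 → P i := stepQ 17474 Q17474 (allL N17474 (tt N15906 F31349) (tt N14434 F31350) (tt N20173 D20209) (tt N14433 (iv D17506)) (tt N14963 F31351) (tt N20167 (iv F37578)))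
theorem Q17476 : ∀ i, i < 17476 → P i := stepQ 17475 Q17475 (allL N17475 (tt N20170 (iv F37583)) (tt N14435 F31352) (tt N20170 (iv F37585)) (tt N20167 (iv F37576)) (tt N15395 F31353) (tt N14433 (iv D17507)))
theorem Q17477 : ∀ i, i < 17477 → P i := stepQ 17476 Q17476 (allL N17476 (tt N15376 F31354) (tt N15395 F31355) (tt N14436 F31356) (tt N20174 D20210) (tt N14435 (iv D17508)) (tt N15005 F31357))
theorem Q17478 : ∀ i, i < 17478 → P i := stepQ 17477 Q17477 (allL N17477 (tt N15368 F31358) (tt N14439 F31359) (tt N15366 F31360) (tt N14445 F31361) (tt N14437 (iv D17509)) (tt N20175 D20211))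
theorem Q17479 : ∀ i, i < 17479 → P i := stepQ 17478 Q17478 (allL N17478 (tt N20171 (iv F37588)) (tt N14438 (iv D17510)) (tt N16746 F31362) (tt N16747 F31363) (tt N19637 F36399) (tt N16746 F31364))
theorem Q17480 : ∀ i, i < 17480 → P i := stepQ 17479 Q17479 (allL N17479 (tt N14486 F31365) (tt N19637 (iv F36397)) (tt N14439 F31366) (tt N19636 F36394) (tt N14438 (iv D17511)) (tt N19939 (iv F37053)))
theorem Q17481 : ∀ i, i < 17481 → P i := stepQ 17480 Q17480 (allL N17480 (tt N14482 F31367) (tt N20175 (iv F37604)) (tt N19939 (iv F37051)) (tt N14446 F31368) (tt N20175 (iv F37607)) (tt N14439 (iv D17512)))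
theorem Q17482 : ∀ i, i < 17482 → P i := stepQ 17481 Q17481 (allL N17481 (tt N19989 (iv F37186)) (tt N14440 (iv D17513)) (tt N16647 F31369) (tt N19577 (iv F36260)) (tt N19987 (iv F37182)) (tt N14441 F31370))
theorem Q17483 : ∀ i, i < 17483 → P i := stepQ 17482 Q17482 (allL N17482 (tt N14441 (iv D17514)) (tt N19567 (iv F36238)) (tt N16645 F31371) (tt N20176 D20212) (tt N14449 F31372) (tt N19989 (iv F37189)))
theorem Q17484 : ∀ i, i < 17484 → P i := stepQ 17483 Q17483 (allL N17483 (tt N20176 (iv F37608)) (tt N14442 F31373) (tt N20177 D20213) (tt N14441 (iv D17515)) (tt N20178 D20214) (tt N19577 (iv F36261)))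
theorem Q17485 : ∀ i, i < 17485 → P i := stepQ 17484 Q17484 (allL N17484 (tt N19569 (iv F36243)) (tt N20178 (iv F37609)) (tt N19580 (iv F36266)) (tt N14451 F31374) (tt N14442 (iv D17516)) (tt N20179 D20215))
theorem Q17486 : ∀ i, i < 17486 → P i := stepQ 17485 Q17485 (allL N17485 (tt N14444 F31375) (tt N17266 F31376) (tt N14443 (iv D17517)) (tt N19964 (iv F37123)) (tt N17147 (iv F31378)) (tt N14464 F31377))
theorem Q17487 : ∀ i, i < 17487 → P i := stepQ 17486 Q17486 (allL N17486 (tt N14445 F31379) (tt N14484 F31380) (tt N17147 F31381) (tt N15368 F31382) (tt N14443 (iv D17518)) (tt N14481 F31383))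
theorem Q17488 : ∀ i, i < 17488 → P i := stepQ 17487 Q17487 (allL N17487 (tt N17147 F31384) (tt N14467 F31385) (tt N14445 F31386) (tt N15363 F31387) (tt N14444 (iv D17519)) (tt N14476 F31388))
theorem Q17489 : ∀ i, i < 17489 → P i := stepQ 17488 Q17488 (allL N17488 (tt N14481 F31389) (tt N14446 F31390) (tt N14476 F31391) (tt N20175 (iv F37606)) (tt N14468 F31392) (tt N14445 (iv D17520)))
theorem Q17490 : ∀ i, i < 17490 → P i := stepQ 17489 Q17489 (allL N17489 (tt N16909 F31393) (tt N20083 (iv F37392)) (tt N19964 (iv F37122)) (tt N14447 (iv D17521)) (tt N19609 (iv F36338)) (tt N20092 (iv F37414)))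
theorem Q17491 : ∀ i, i < 17491 → P i := stepQ 17490 Q17490 (allL N17490 (tt N14450 F31394) (tt N19960 (iv F37111)) (tt N20180 D20216) (tt N14449 (iv D17522)) (tt N20181 D20217) (tt N20086 (iv F37398)))
theorem Q17492 : ∀ i, i < 17492 → P i := stepQ 17491 Q17491 (allL N17491 (tt N20180 (iv F37613)) (tt N19952 (iv F37084)) (tt N14450 (iv D17523)) (tt N20182 D20218) (tt N20183 D20219) (tt N20168 (iv F37581)))
theorem Q17493 : ∀ i, i < 17493 → P i := stepQ 17492 Q17492 (allL N17492 (tt N20181 (iv F37615)) (tt N14451 F31395) (tt N20183 (iv F37618)) (tt N20178 (iv F37610)) (tt N14450 (iv D17524)) (tt N20184 D20220))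
theorem Q17494 : ∀ i, i < 17494 → P i := stepQ 17493 Q17493 (allL N17493 (tt N19959 (iv F37108)) (tt N20184 (iv F37619)) (tt N19611 (iv F36343)) (tt N20179 (iv F37611)) (tt N19610 (iv F36341)) (tt N14451 (iv D17525)))
theorem Q17495 : ∀ i, i < 17495 → P i := stepQ 17494 Q17494 (allL N17494 (tt N20087 (iv F37399)) (tt N14453 F31396) (tt N18099 (iv F32711)) (tt N16908 F31397) (tt N14452 (iv D17526)) (tt N18522 (iv F33721)))
theorem Q17496 : ∀ i, i < 17496 → P i := stepQ 17495 Q17495 (allL N17495 (tt N19609 (iv F36337)) (tt N16908 F31398) (tt N17166 F31400) (tt N14453 (iv D17527)) (tt N16909 F31399) (tt N17165 (iv F31401)))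
theorem Q17497 : ∀ i, i < 17497 → P i := stepQ 17496 Q17496 (allL N17496 (tt N19610 (iv F36339)) (tt N18522 (iv F33720)) (tt N14454 F31402) (tt N17165 F31403) (tt N19959 (iv F37109)) (tt N14453 (iv D17528)))
theorem Q17498 : ∀ i, i < 17498 → P i := stepQ 17497 Q17497 (allL N17497 (tt N14458 F31404) (tt N19736 (iv F36638)) (tt N14456 F31405) (tt N20185 D20221) (tt N14455 (iv D17529)) (tt N20186 D20222))
theorem Q17499 : ∀ i, i < 17499 → P i := stepQ 17498 Q17498 (allL N17498 (tt N14459 F31406) (tt N19605 (iv F36331)) (tt N20186 (iv F37623)) (tt N18112 (iv F32756)) (tt N14489 F31407) (tt N14456 (iv D17530)))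
theorem Q17500 : ∀ i, i < 17500 → P i := stepQ 17499 Q17499 (allL N17499 (tt N14500 F31408) (tt N19600 (iv F36316)) (tt N14499 F31409) (tt N20187 D20223) (tt N14457 (iv D17531)) (tt N17850 (iv F32186)))
theorem Q17501 : ∀ i, i < 17501 → P i := stepQ 17500 Q17500 (allL N17500 (tt N20185 (iv F37620)) (tt N19601 (iv F36317)) (tt N20188 D20224) (tt N14458 (iv D17532)) (tt N20187 (iv F37626)) (tt N20189 D20225))
theorem Q17502 : ∀ i, i < 17502 → P i := stepQ 17501 Q17501 (allL N17501 (tt N20186 (iv F37622)) (tt N19602 (iv F36319)) (tt N14459 F31410) (tt N20189 (iv F37629)) (tt N14494 F31411) (tt N14458 (iv D17533)))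
theorem Q17503 : ∀ i, i < 17503 → P i := stepQ 17502 Q17502 (allL N17502 (tt N19113 (iv F35130)) (tt N14473 F31412) (tt N14461 (iv D17534)) (tt N15008 F31413) (tt N20190 D20226) (tt N14471 F31414))
theorem Q17504 : ∀ i, i < 17504 → P i := stepQ 17503 Q17503 (allL N17503 (tt N19114 (iv F35133)) (tt N14477 F31415) (tt N20190 (iv F37632)) (tt N14466 F31416) (tt N14461 (iv D17535)) (tt N17138 F31417))
theorem Q17505 : ∀ i, i < 17505 → P i := stepQ 17504 Q17504 (allL N17504 (tt N17263 F31418) (tt N14476 F31419) (tt N14463 F31420) (tt N15362 F31421) (tt N14462 (iv D17536)) (tt N14467 F31422))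
theorem Q17506 : ∀ i, i < 17506 → P i := stepQ 17505 Q17505 (allL N17505 (tt N14465 F31423) (tt N19931 (iv F37022)) (tt N20092 (iv F37411)) (tt N14464 (iv D17537)) (tt N17150 F31424) (tt N19964 (iv F37125)))
theorem Q17507 : ∀ i, i < 17507 → P i := stepQ 17506 Q17506 (allL N17506 (tt N17150 F31425) (tt N14466 F31426) (tt N19655 (iv F36437)) (tt N14477 F31427) (tt N14465 (iv D17538)) (tt N17139 F31428))
theorem Q17508 : ∀ i, i < 17508 → P i := stepQ 17507 Q17507 (allL N17507 (tt N19934 (iv F37028)) (tt N17139 F31429) (tt N17283 F31430) (tt N17138 F31431) (tt N17163 F31432) (tt N14466 (iv D17539)))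
theorem Q17509 : ∀ i, i < 17509 → P i := stepQ 17508 Q17508 (allL N17508 (tt N17265 F31433) (tt N15363 F31434) (tt N14975 F31437) (tt N14467 (iv D17540)) (tt N17164 F31435) (tt N15362 F31436))
theorem Q17510 : ∀ i, i < 17510 → P i := stepQ 17509 Q17509 (allL N17509 (tt N14470 F31438) (tt N14489 F31439) (tt N19781 (iv F36734)) (tt N19951 (iv F37081)) (tt N19605 (iv F36332)) (tt N14469 (iv D17541)))
theorem Q17511 : ∀ i, i < 17511 → P i := stepQ 17510 Q17510 (allL N17510 (tt N17136 F31440) (tt N15008 F31441) (tt N15015 F31442) (tt N14473 F31443) (tt N20191 D20227) (tt N14472 (iv D17542)))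
theorem Q17512 : ∀ i, i < 17512 → P i := stepQ 17511 Q17511 (allL N17511 (tt N17117 F31444) (tt N20190 (iv F37631)) (tt N14474 F31445) (tt N20192 D20228) (tt N14473 (iv D17543)) (tt N17114 F31446))
theorem Q17513 : ∀ i, i < 17513 → P i := stepQ 17512 Q17512 (allL N17512 (tt N14479 F31447) (tt N14481 F31448) (tt N19117 F35147) (tt N20193 D20229) (tt N14478 (iv D17544)) (tt N14484 F31449))
theorem Q17514 : ∀ i, i < 17514 → P i := stepQ 17513 Q17513 (allL N17513 (tt N20193 (iv F37640)) (tt N14482 F31450) (tt N20194 D20230) (tt N14479 (iv D17545)) (tt N20193 (iv F37643)) (tt N14485 F31451))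
theorem Q17515 : ∀ i, i < 17515 → P i := stepQ 17514 Q17514 (allL N17514 (tt N20175 (iv F37603)) (tt N20193 (iv F37641)) (tt N15369 F31452) (tt N14481 (iv D17546)) (tt N14482 F31453) (tt N15368 F31454))
theorem Q17516 : ∀ i, i < 17516 → P i := stepQ 17515 Q17515 (allL N17515 (tt N19939 (iv F37050)) (tt N20195 D20231) (tt N14482 (iv D17547)) (tt N19936 (iv F37037)) (tt N15369 F31455) (tt N14486 F31456))
theorem Q17517 : ∀ i, i < 17517 → P i := stepQ 17516 Q17516 (allL N17516 (tt N14485 F31457) (tt N15368 F31458) (tt N19342 (iv F35654)) (tt N14484 (iv D17548)) (tt N20165 (iv F37573)) (tt N20193 (iv F37644)))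
theorem Q17518 : ∀ i, i < 17518 → P i := stepQ 17517 Q17517 (allL N17517 (tt N19342 (iv F35651)) (tt N20196 D20232) (tt N14485 (iv D17549)) (tt N19339 (iv F35643)) (tt N20166 (iv F37575)) (tt N20194 (iv F37648)))
theorem Q17519 : ∀ i, i < 17519 → P i := stepQ 17518 Q17518 (allL N17518 (tt N20197 D20233) (tt N14486 (iv D17550)) (tt N20196 (iv F37656)) (tt N20198 D20234) (tt N20167 (iv F37577)) (tt N20195 (iv F37653)))
theorem Q17520 : ∀ i, i < 17520 → P i := stepQ 17519 Q17519 (allL N17519 (tt N19636 F36392) (tt N20198 (iv F37662)) (tt N19631 (iv F36381)) (tt N14486 (iv D17551)) (tt N20174 (iv F37601)) (tt N19936 (iv F37039)))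
theorem Q17521 : ∀ i, i < 17521 → P i := stepQ 17520 Q17520 (allL N17520 (tt N15442 F31459) (tt N14488 F31460) (tt N15446 F31461) (tt N20199 D20235) (tt N14487 (iv D17552)) (tt N20200 D20236))
theorem Q17522 : ∀ i, i < 17522 → P i := stepQ 17521 Q17521 (allL N17521 (tt N14493 F31462) (tt N20199 (iv F37666)) (tt N17842 (iv F32167)) (tt N14488 (iv D17553)) (tt N17841 F32164) (tt N20201 D20237))
theorem Q17523 : ∀ i, i < 17523 → P i := stepQ 17522 Q17522 (allL N17522 (tt N14494 F31463) (tt N20200 (iv F37668)) (tt N14489 F31464) (tt N20201 (iv F37671)) (tt N20186 (iv F37624)) (tt N14488 (iv D17554)))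
theorem Q17524 : ∀ i, i < 17524 → P i := stepQ 17523 Q17523 (allL N17523 (tt N19414 (iv F35815)) (tt N19423 (iv F35848)) (tt N14490 (iv D17555)) (tt N15682 F31465) (tt N17934 (iv F32330)) (tt N19591 (iv F36293)))
theorem Q17525 : ∀ i, i < 17525 → P i := stepQ 17524 Q17524 (allL N17524 (tt N15444 F31466) (tt N14494 F31467) (tt N14495 F31468) (tt N17935 (iv F32333)) (tt N19602 (iv F36321)) (tt N14491 (iv D17556)))
theorem Q17526 : ∀ i, i < 17526 → P i := stepQ 17525 Q17525 (allL N17525 (tt N20201 (iv F37670)) (tt N17935 (iv F32331)) (tt N17846 (iv F32173)) (tt N14494 F31469) (tt N17845 (iv F32171)) (tt N14493 (iv D17557)))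
theorem Q17527 : ∀ i, i < 17527 → P i := stepQ 17526 Q17526 (allL N17526 (tt N15390 F31470) (tt N14496 (iv D17558)) (tt N15438 F31471) (tt N20202 D20238) (tt N15004 F31472) (tt N20203 D20239))
theorem Q17528 : ∀ i, i < 17528 → P i := stepQ 17527 Q17527 (allL N17527 (tt N15006 F31473) (tt N20202 (iv F37673)) (tt N19938 (iv F37047)) (tt N14496 (iv D17559)) (tt N15375 F31474) (tt N19937 F37044))
theorem Q17529 : ∀ i, i < 17529 → P i := stepQ 17528 Q17528 (allL N17528 (tt N15007 F31475) (tt N20203 (iv F37676)) (tt N14497 F31476) (tt N19937 (iv F37042)) (tt N15367 F31477) (tt N14496 (iv D17560)))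
theorem Q17530 : ∀ i, i < 17530 → P i := stepQ 17529 Q17529 (allL N17529 (tt N17452 F31478) (tt N19591 (iv F36291)) (tt N14498 (iv D17561)) (tt N19473 (iv F35990)) (tt N20204 D20240) (tt N19423 (iv F35849)))
theorem Q17531 : ∀ i, i < 17531 → P i := stepQ 17530 Q17530 (allL N17530 (tt N17453 F31479) (tt N14499 F31480) (tt N20204 (iv F37680)) (tt N20015 (iv F37253)) (tt N14498 (iv D17562)) (tt N20205 D20241))
theorem Q17532 : ∀ i, i < 17532 → P i := stepQ 17531 Q17531 (allL N17531 (tt N14501 F31481) (tt N20205 (iv F37682)) (tt N17850 (iv F32185)) (tt N20016 (iv F37256)) (tt N17849 F32183) (tt N14499 (iv D17563)))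
theorem Q17533 : ∀ i, i < 17533 → P i := stepQ 17532 Q17532 (allL N17532 (tt N20187 (iv F37625)) (tt N19787 (iv F36744)) (tt N19876 (iv F36905)) (tt N14500 (iv D17564)) (tt N20185 (iv F37621)) (tt N20206 D20242))
theorem Q17534 : ∀ i, i < 17534 → P i := stepQ 17533 Q17533 (allL N17533 (tt N17850 (iv F32184)) (tt N19788 (iv F36745)) (tt N14501 F31482) (tt N20206 (iv F37683)) (tt N17840 F32160) (tt N14500 (iv D17565)))
theorem Q17535 : ∀ i, i < 17535 → P i := stepQ 17534 Q17534 (allL N17534 (tt N14503 F31483) (tt N14507 F31484) (tt N20207 D20243) (tt N14502 (iv D17566)) (tt N20208 D20244) (tt N19687 (iv F36521)))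
theorem Q17536 : ∀ i, i < 17536 → P i := stepQ 17535 Q17535 (allL N17535 (tt N20207 (iv F37684)) (tt N19671 (iv F36485)) (tt N14503 (iv D17567)) (tt N20209 D20245) (tt N20210 D20246) (tt N20115 (iv F37487)))
theorem Q17537 : ∀ i, i < 17537 → P i := stepQ 17536 Q17536 (allL N17536 (tt N20208 (iv F37686)) (tt N14505 F31485) (tt N20210 (iv F37691)) (tt N16542 F31486) (tt N14503 (iv D17568)) (tt N20211 D20247))
theorem Q17538 : ∀ i, i < 17538 → P i := stepQ 17537 Q17537 (allL N17537 (tt N17131 F31487) (tt N14506 F31488) (tt N14526 F31489) (tt N20212 D20248) (tt N14504 (iv D17569)) (tt N16543 F31490))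
theorem Q17539 : ∀ i, i < 17539 → P i := stepQ 17538 Q17538 (allL N17538 (tt N14512 F31491) (tt N20211 (iv F37692)) (tt N20121 (iv F37499)) (tt N16544 F31492) (tt N20120 (iv F37497)) (tt N14505 (iv D17570)))
theorem Q17540 : ∀ i, i < 17540 → P i := stepQ 17539 Q17539 (allL N17539 (tt N14514 F31493) (tt N20212 (iv F37695)) (tt N20213 D20249) (tt N14506 (iv D17571)) (tt N20119 (iv F37492)) (tt N16545 F31494))
theorem Q17541 : ∀ i, i < 17541 → P i := stepQ 17540 Q17540 (allL N17540 (tt N14509 F31495) (tt N20208 (iv F37687)) (tt N19680 (iv F36505)) (tt N16546 F31496) (tt N14507 (iv D17572)) (tt N20214 D20250))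
theorem Q17542 : ∀ i, i < 17542 → P i := stepQ 17541 Q17541 (allL N17541 (tt N20215 D20251) (tt N14508 (iv D17573)) (tt N14510 F31497) (tt N17784 (iv F32050)) (tt N20216 D20252) (tt N17375 F31498))
theorem Q17543 : ∀ i, i < 17543 → P i := stepQ 17542 Q17542 (allL N17542 (tt N19680 (iv F36504)) (tt N20216 (iv F37708)) (tt N14509 F31499) (tt N20217 D20253) (tt N14508 (iv D17574)) (tt N20218 D20254))
theorem Q17544 : ∀ i, i < 17544 → P i := stepQ 17543 Q17543 (allL N17543 (tt N20214 (iv F37702)) (tt N14512 F31500) (tt N20218 (iv F37710)) (tt N16549 F31501) (tt N19690 (iv F36525)) (tt N14509 (iv D17575)))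
theorem Q17545 : ∀ i, i < 17545 → P i := stepQ 17544 Q17544 (allL N17544 (tt N14510 (iv D17576)) (tt N19669 (iv F36480)) (tt N20215 (iv F37705)) (tt N17369 F31502) (tt N20219 D20255) (tt N17374 F31503))
theorem Q17546 : ∀ i, i < 17546 → P i := stepQ 17545 Q17545 (allL N17545 (tt N20219 (iv F37711)) (tt N14511 F31504) (tt N20216 (iv F37709)) (tt N17812 (iv F32114)) (tt N14510 (iv D17577)) (tt N20220 D20256))
theorem Q17547 : ∀ i, i < 17547 → P i := stepQ 17546 Q17546 (allL N17546 (tt N20122 (iv F37501)) (tt N17812 (iv F32113)) (tt N20221 D20257) (tt N14511 (iv D17578)) (tt N17378 F31505) (tt N20222 D20258))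
theorem Q17548 : ∀ i, i < 17548 → P i := stepQ 17547 Q17547 (allL N17547 (tt N20121 (iv F37498)) (tt N20220 (iv F37713)) (tt N14512 F31506) (tt N20222 (iv F37722)) (tt N17377 F31507) (tt N14511 (iv D17579)))
theorem Q17549 : ∀ i, i < 17549 → P i := stepQ 17548 Q17548 (allL N17548 (tt N20120 (iv F37494)) (tt N19690 (iv F36524)) (tt N17377 F31508) (tt N20223 D20259) (tt N14512 (iv D17580)) (tt N14513 F31509))
theorem Q17550 : ∀ i, i < 17550 → P i := stepQ 17549 Q17549 (allL N17549 (tt N20119 (iv F37491)) (tt N17134 F31510) (tt N20224 D20260) (tt N14513 (iv D17581)) (tt N14514 F31511) (tt N20223 (iv F37727)))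
theorem Q17551 : ∀ i, i < 17551 → P i := stepQ 17550 Q17550 (allL N17550 (tt N20213 (iv F37698)) (tt N20225 D20261) (tt N14514 (iv D17582)) (tt N20226 D20262) (tt N20224 (iv F37728)) (tt N16555 F31512))
theorem Q17552 : ∀ i, i < 17552 → P i := stepQ 17551 Q17551 (allL N17551 (tt N14516 F31513) (tt N14531 F31514) (tt N20227 D20263) (tt N14515 (iv D17583)) (tt N20228 D20264) (tt N18067 (iv F32648)))
theorem Q17553 : ∀ i, i < 17553 → P i := stepQ 17552 Q17552 (allL N17552 (tt N20227 (iv F37735)) (tt N18048 (iv F32600)) (tt N14516 (iv D17584)) (tt N20229 D20265) (tt N20230 D20266) (tt N20231 D20267))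
theorem Q17554 : ∀ i, i < 17554 → P i := stepQ 17553 Q17553 (allL N17553 (tt N20228 (iv F37737)) (tt N14519 F31515) (tt N20230 (iv F37742)) (tt N14525 F31516) (tt N14516 (iv D17585)) (tt N20232 D20268))
theorem Q17555 : ∀ i, i < 17555 → P i := stepQ 17554 Q17554 (allL N17554 (tt N18067 (iv F32646)) (tt N14520 F31517) (tt N20231 (iv F37744)) (tt N14517 F31518) (tt N18051 (iv F32604)) (tt N14516 (iv D17586)))
theorem Q17556 : ∀ i, i < 17556 → P i := stepQ 17555 Q17555 (allL N17555 (tt N15571 F31519) (tt N14521 F31520) (tt N16543 F31521) (tt N20233 D20269) (tt N14517 (iv D17587)) (tt N14526 F31522))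
theorem Q17557 : ∀ i, i < 17557 → P i := stepQ 17556 Q17556 (allL N17556 (tt N14535 F31523) (tt N18049 (iv F32602)) (tt N14519 F31524) (tt N18042 (iv F32582)) (tt N14518 (iv D17588)) (tt N18043 (iv F32587)))
theorem Q17558 : ∀ i, i < 17558 → P i := stepQ 17557 Q17557 (allL N17557 (tt N14536 F31525) (tt N20232 (iv F37745)) (tt N18043 (iv F32585)) (tt N14527 F31526) (tt N18044 (iv F32590)) (tt N14519 (iv D17589)))
theorem Q17559 : ∀ i, i < 17559 → P i := stepQ 17558 Q17558 (allL N17558 (tt N14538 F31527) (tt N20233 (iv F37748)) (tt N17448 F31529) (tt N14521 (iv D17590)) (tt N18052 (iv F32606)) (tt N14528 F31528))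
theorem Q17560 : ∀ i, i < 17560 → P i := stepQ 17559 Q17559 (allL N17559 (tt N14524 F31530) (tt N20234 D20270) (tt N14522 (iv D17591)) (tt N20235 D20271) (tt N20236 D20272) (tt N14560 F31531))
theorem Q17561 : ∀ i, i < 17561 → P i := stepQ 17560 Q17560 (allL N17560 (tt N14525 F31532) (tt N14540 F31533) (tt N20236 (iv F37758)) (tt N20228 (iv F37739)) (tt N14522 (iv D17592)) (tt N20237 D20273))
theorem Q17562 : ∀ i, i < 17562 → P i := stepQ 17561 Q17561 (allL N17561 (tt N14526 F31534) (tt N14542 F31535) (tt N17131 F31536) (tt N20238 D20274) (tt N14523 (iv D17593)) (tt N15571 F31537))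
theorem Q17563 : ∀ i, i < 17563 → P i := stepQ 17562 Q17562 (allL N17562 (tt N20235 (iv F37754)) (tt N14564 F31538) (tt N20239 D20275) (tt N14524 (iv D17594)) (tt N20240 D20276) (tt N14561 F31539))
theorem Q17564 : ∀ i, i < 17564 → P i := stepQ 17563 Q17563 (allL N17563 (tt N20236 (iv F37757)) (tt N14567 F31540) (tt N14525 F31541) (tt N20241 D20277) (tt N14524 (iv D17595)) (tt N20242 D20278))
theorem Q17565 : ∀ i, i < 17565 → P i := stepQ 17564 Q17564 (allL N17564 (tt N20237 (iv F37759)) (tt N14527 F31542) (tt N20242 (iv F37772)) (tt N20232 (iv F37746)) (tt N14571 F31543) (tt N14525 (iv D17596)))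
theorem Q17566 : ∀ i, i < 17566 → P i := stepQ 17565 Q17565 (allL N17565 (tt N20238 (iv F37762)) (tt N14528 F31544) (tt N20243 D20279) (tt N14526 (iv D17597)) (tt N14570 F31545) (tt N20233 (iv F37749)))
theorem Q17567 : ∀ i, i < 17567 → P i := stepQ 17566 Q17566 (allL N17566 (tt N14550 F31546) (tt N20244 D20280) (tt N14528 (iv D17598)) (tt N17441 F31549) (tt N14572 F31547) (tt N17448 F31548))
theorem Q17568 : ∀ i, i < 17568 → P i := stepQ 17567 Q17567 (allL N17567 (tt N14530 F31550) (tt N16443 F31551) (tt N17941 (iv F32343)) (tt N14529 (iv D17599)) (tt N18047 (iv F32599)) (tt N18045 (iv F32594)))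
theorem Q17569 : ∀ i, i < 17569 → P i := stepQ 17568 Q17568 (allL N17568 (tt N17941 (iv F32342)) (tt N20231 (iv F37743)) (tt N14530 (iv D17600)) (tt N17939 (iv F32340)) (tt N18050 (iv F32603)) (tt N18048 (iv F32601)))
theorem Q17570 : ∀ i, i < 17570 → P i := stepQ 17569 Q17569 (allL N17569 (tt N14533 F31552) (tt N20228 (iv F37738)) (tt N18059 (iv F32624)) (tt N14540 F31553) (tt N14531 (iv D17601)) (tt N20245 D20281))
theorem Q17571 : ∀ i, i < 17571 → P i := stepQ 17570 Q17570 (allL N17570 (tt N20246 D20282) (tt N14532 (iv D17602)) (tt N14534 F31554) (tt N18054 (iv F32611)) (tt N20247 D20283) (tt N16445 F31555))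
theorem Q17572 : ∀ i, i < 17572 → P i := stepQ 17571 Q17571 (allL N17571 (tt N18059 (iv F32623)) (tt N20247 (iv F37784)) (tt N14533 F31556) (tt N18059 (iv F32625)) (tt N14532 (iv D17603)) (tt N20248 D20284))
theorem Q17573 : ∀ i, i < 17573 → P i := stepQ 17572 Q17572 (allL N17572 (tt N20245 (iv F37780)) (tt N14536 F31557) (tt N20248 (iv F37788)) (tt N14544 F31558) (tt N18070 (iv F32652)) (tt N14533 (iv D17604)))
theorem Q17574 : ∀ i, i < 17574 → P i := stepQ 17573 Q17573 (allL N17573 (tt N14534 (iv D17605)) (tt N18045 (iv F32593)) (tt N20246 (iv F37782)) (tt N16444 F31559) (tt N20249 D20285) (tt N16443 F31560))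
theorem Q17575 : ∀ i, i < 17575 → P i := stepQ 17574 Q17574 (allL N17574 (tt N20249 (iv F37790)) (tt N14535 F31561) (tt N20247 (iv F37785)) (tt N17072 (iv F31563)) (tt N14534 (iv D17606)) (tt N17071 F31562))
theorem Q17576 : ∀ i, i < 17576 → P i := stepQ 17575 Q17575 (allL N17575 (tt N18042 (iv F32581)) (tt N17072 F31564) (tt N18035 (iv F32569)) (tt N14535 (iv D17607)) (tt N16449 F31565) (tt N16942 F31566))
theorem Q17577 : ∀ i, i < 17577 → P i := stepQ 17576 Q17576 (allL N17576 (tt N18043 (iv F32584)) (tt N17071 F31567) (tt N14536 F31568) (tt N16942 F31569) (tt N16448 F31570) (tt N14535 (iv D17608)))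
theorem Q17578 : ∀ i, i < 17578 → P i := stepQ 17577 Q17577 (allL N17577 (tt N18044 (iv F32588)) (tt N18070 (iv F32651)) (tt N16448 F31571) (tt N17929 (iv F32323)) (tt N14536 (iv D17609)) (tt N14537 F31572))
theorem Q17579 : ∀ i, i < 17579 → P i := stepQ 17578 Q17578 (allL N17578 (tt N18052 (iv F32605)) (tt N15577 F31573) (tt N17921 (iv F32310)) (tt N14537 (iv D17610)) (tt N14538 F31574) (tt N17929 (iv F32322)))
theorem Q17580 : ∀ i, i < 17580 → P i := stepQ 17579 Q17579 (allL N17579 (tt N17448 F31575) (tt N18329 (iv F33269)) (tt N14538 (iv D17611)) (tt N16874 F31576) (tt N17921 (iv F32308)) (tt N14550 F31577))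
theorem Q17581 : ∀ i, i < 17581 → P i := stepQ 17580 Q17580 (allL N17580 (tt N17738 (iv F31931)) (tt N14539 (iv D17612)) (tt N20234 (iv F37751)) (tt N15633 F31578) (tt N20250 D20286) (tt N17736 F31925))
theorem Q17582 : ∀ i, i < 17582 → P i := stepQ 17581 Q17581 (allL N17581 (tt N14543 F31579) (tt N20250 (iv F37793)) (tt N14540 F31580) (tt N18770 (iv F34280)) (tt N14539 (iv D17613)) (tt N18770 (iv F34281)))
theorem Q17583 : ∀ i, i < 17583 → P i := stepQ 17582 Q17582 (allL N17582 (tt N14544 F31581) (tt N20237 (iv F37760)) (tt N18770 (iv F34279)) (tt N20245 (iv F37781)) (tt N18769 F34277) (tt N14540 (iv D17614)))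
theorem Q17584 : ∀ i, i < 17584 → P i := stepQ 17583 Q17583 (allL N17583 (tt N14545 F31582) (tt N14569 F31583) (tt N17735 (iv F31918)) (tt N20251 D20287) (tt N14541 (iv D17615)) (tt N18769 (iv F34275)))
theorem Q17585 : ∀ i, i < 17585 → P i := stepQ 17584 Q17584 (allL N17584 (tt N14546 F31584) (tt N20238 (iv F37763)) (tt N15560 F31586) (tt N14542 (iv D17616)) (tt N20251 (iv F37797)) (tt N15572 F31585))
theorem Q17586 : ∀ i, i < 17586 → P i := stepQ 17585 Q17585 (allL N17585 (tt N20251 (iv F37794)) (tt N14549 F31587) (tt N15643 F31589) (tt N14545 (iv D17617)) (tt N14546 F31588) (tt N18772 (iv F34288)))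
theorem Q17587 : ∀ i, i < 17587 → P i := stepQ 17586 Q17586 (allL N17586 (tt N15560 F31590) (tt N20252 D20288) (tt N14546 (iv D17618)) (tt N15557 F31593) (tt N15643 F31591) (tt N15576 F31592))
theorem Q17588 : ∀ i, i < 17588 → P i := stepQ 17587 Q17587 (allL N17587 (tt N14573 F31594) (tt N18772 (iv F34286)) (tt N15727 F31595) (tt N14548 (iv D17619)) (tt N17929 (iv F32321)) (tt N14549 F31596))
theorem Q17589 : ∀ i, i < 17589 → P i := stepQ 17588 Q17588 (allL N17588 (tt N14572 F31597) (tt N20253 D20289) (tt N14549 (iv D17620)) (tt N15728 F31598) (tt N14550 F31599) (tt N15727 F31600))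
theorem Q17590 : ∀ i, i < 17590 → P i := stepQ 17589 Q17589 (allL N17589 (tt N20254 D20290) (tt N14550 (iv D17621)) (tt N20252 (iv F37798)) (tt N18330 (iv F33273)) (tt N20253 (iv F37804)) (tt N18329 F33271))
theorem Q17591 : ∀ i, i < 17591 → P i := stepQ 17590 Q17590 (allL N17590 (tt N17441 F31601) (tt N18330 (iv F33272)) (tt N16875 F31602) (tt N14550 (iv D17622)) (tt N17920 (iv F32306)) (tt N16874 F31603))
theorem Q17592 : ∀ i, i < 17592 → P i := stepQ 17591 Q17591 (allL N17591 (tt N15625 F31604) (tt N14553 F31605) (tt N15735 F31606) (tt N15514 (iv F31608)) (tt N14551 (iv D17623)) (tt N15562 F31607))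
theorem Q17593 : ∀ i, i < 17593 → P i := stepQ 17592 Q17592 (allL N17592 (tt N14555 F31609) (tt N18765 (iv F34255)) (tt N18031 (iv F32559)) (tt N20255 D20291) (tt N14552 (iv D17624)) (tt N18766 (iv F34262)))
theorem Q17594 : ∀ i, i < 17594 → P i := stepQ 17593 Q17593 (allL N17593 (tt N14556 F31610) (tt N15514 F31611) (tt N15573 (iv F31614)) (tt N14553 (iv D17625)) (tt N20255 (iv F37808)) (tt N15564 F31612))
theorem Q17595 : ∀ i, i < 17595 → P i := stepQ 17594 Q17594 (allL N17594 (tt N18031 (iv F32557)) (tt N19713 (iv F36567)) (tt N14555 F31616) (tt N18771 (iv F34284)) (tt N14554 (iv D17626)) (tt N18771 (iv F34285)))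
theorem Q17596 : ∀ i, i < 17596 → P i := stepQ 17595 Q17595 (allL N17595 (tt N20255 (iv F37806)) (tt N15640 F31617) (tt N20256 D20292) (tt N14555 (iv D17627)) (tt N14556 F31618) (tt N15649 (iv F31619)))
theorem Q17597 : ∀ i, i < 17597 → P i := stepQ 17596 Q17596 (allL N17596 (tt N18766 (iv F34259)) (tt N15639 F31620) (tt N18771 (iv F34283)) (tt N15649 F31621) (tt N15634 F31622) (tt N14555 (iv D17628)))
theorem Q17598 : ∀ i, i < 17598 → P i := stepQ 17597 Q17597 (allL N17597 (tt N15573 F31623) (tt N20256 (iv F37812)) (tt N14556 (iv D17629)) (tt N15569 F31625) (tt N20256 (iv F37813)) (tt N15568 F31624))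
theorem Q17599 : ∀ i, i < 17599 → P i := stepQ 17598 Q17598 (allL N17598 (tt N14557 (iv D17630)) (tt N14560 F31626) (tt N17736 (iv F31923)) (tt N19496 (iv F36051)) (tt N17335 F31627) (tt N20234 (iv F37752)))
theorem Q17600 : ∀ i, i < 17600 → P i := stepQ 17599 Q17599 (allL N17599 (tt N20234 (iv F37750)) (tt N14558 F31628) (tt N17738 (iv F31933)) (tt N14577 F31629) (tt N20257 D20293) (tt N14557 (iv D17631)))
theorem Q17601 : ∀ i, i < 17601 → P i := stepQ 17600 Q17600 (allL N17600 (tt N14567 F31630) (tt N20257 (iv F37816)) (tt N14559 F31631) (tt N20258 D20294) (tt N14558 (iv D17632)) (tt N17339 F31632))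
theorem Q17602 : ∀ i, i < 17602 → P i := stepQ 17601 Q17601 (allL N17601 (tt N14561 F31633) (tt N19496 (iv F36049)) (tt N20209 (iv F37690)) (tt N14560 (iv D17633)) (tt N20259 D20295) (tt N20235 (iv F37756)))
theorem Q17603 : ∀ i, i < 17603 → P i := stepQ 17602 Q17602 (allL N17602 (tt N14562 F31634) (tt N17335 F31635) (tt N14569 F31636) (tt N20260 D20296) (tt N14560 (iv D17634)) (tt N20261 D20297))
theorem Q17604 : ∀ i, i < 17604 → P i := stepQ 17603 Q17603 (allL N17603 (tt N20209 (iv F37689)) (tt N19462 (iv F35965)) (tt N14561 (iv D17635)) (tt N20207 (iv F37685)) (tt N20262 D20298) (tt N20239 (iv F37768)))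
theorem Q17605 : ∀ i, i < 17605 → P i := stepQ 17604 Q17604 (allL N17604 (tt N20259 (iv F37821)) (tt N14563 F31637) (tt N20262 (iv F37829)) (tt N20263 D20299) (tt N14561 (iv D17636)) (tt N20264 D20300))
theorem Q17606 : ∀ i, i < 17606 → P i := stepQ 17605 Q17605 (allL N17605 (tt N20260 (iv F37822)) (tt N14565 F31638) (tt N20265 D20301) (tt N14562 (iv D17637)) (tt N20263 (iv F37831)) (tt N17345 (iv F31639)))
theorem Q17607 : ∀ i, i < 17607 → P i := stepQ 17606 Q17606 (allL N17606 (tt N20261 (iv F37825)) (tt N14566 F31640) (tt N14571 F31641) (tt N17345 F31642) (tt N20242 (iv F37773)) (tt N14562 (iv D17638)))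
theorem Q17608 : ∀ i, i < 17608 → P i := stepQ 17607 Q17607 (allL N17607 (tt N17338 F31643) (tt N20263 (iv F37830)) (tt N17348 (iv F31645)) (tt N14563 (iv D17639)) (tt N14565 F31644) (tt N20266 D20302))
theorem Q17609 : ∀ i, i < 17609 → P i := stepQ 17608 Q17608 (allL N17608 (tt N19487 (iv F36033)) (tt N20264 (iv F37832)) (tt N19486 F36032) (tt N20266 (iv F37837)) (tt N20267 D20303) (tt N14563 (iv D17640)))
theorem Q17610 : ∀ i, i < 17610 → P i := stepQ 17609 Q17609 (allL N17609 (tt N14578 F31646) (tt N20240 (iv F37769)) (tt N14576 F31647) (tt N20268 D20304) (tt N14564 (iv D17641)) (tt N20267 (iv F37841)))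
theorem Q17611 : ∀ i, i < 17611 → P i := stepQ 17610 Q17610 (allL N17610 (tt N17339 F31648) (tt N20242 (iv F37771)) (tt N14568 F31649) (tt N20269 D20305) (tt N14566 (iv D17642)) (tt N14567 F31650))
theorem Q17612 : ∀ i, i < 17612 → P i := stepQ 17611 Q17611 (allL N17611 (tt N20258 (iv F37818)) (tt N20241 (iv F37770)) (tt N20270 D20306) (tt N14567 (iv D17643)) (tt N20268 (iv F37843)) (tt N20269 (iv F37846)))
theorem Q17613 : ∀ i, i < 17613 → P i := stepQ 17612 Q17612 (allL N17612 (tt N14570 F31651) (tt N20251 (iv F37795)) (tt N20271 D20307) (tt N14569 (iv D17644)) (tt N20238 (iv F37764)) (tt N20272 D20308))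
theorem Q17614 : ∀ i, i < 17614 → P i := stepQ 17613 Q17613 (allL N17613 (tt N14571 F31652) (tt N18769 F34276) (tt N20261 (iv F37827)) (tt N20272 (iv F37854)) (tt N20237 (iv F37761)) (tt N14569 (iv D17645)))
theorem Q17615 : ∀ i, i < 17615 → P i := stepQ 17614 Q17614 (allL N17614 (tt N20271 (iv F37849)) (tt N20273 D20309) (tt N14570 (iv D17646)) (tt N20274 D20310) (tt N20243 (iv F37775)) (tt N20275 D20311))
theorem Q17616 : ∀ i, i < 17616 → P i := stepQ 17615 Q17615 (allL N17615 (tt N20272 (iv F37853)) (tt N14573 F31653) (tt N20275 (iv F37858)) (tt N14571 F31654) (tt N20276 D20312) (tt N14570 (iv D17647)))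
theorem Q17617 : ∀ i, i < 17617 → P i := stepQ 17616 Q17616 (allL N17616 (tt N20277 D20313) (tt N14572 (iv D17648)) (tt N20273 (iv F37855)) (tt N17956 (iv F32377)) (tt N20244 (iv F37778)) (tt N17955 F32374))
theorem Q17618 : ∀ i, i < 17618 → P i := stepQ 17617 Q17617 (allL N17617 (tt N17929 (iv F32320)) (tt N20276 (iv F37859)) (tt N15724 F31655) (tt N18044 (iv F32589)) (tt N14573 (iv D17649)) (tt N18052 (iv F32607)))
theorem Q17619 : ∀ i, i < 17619 → P i := stepQ 17618 Q17618 (allL N17618 (tt N19461 (iv F35961)) (tt N20239 (iv F37767)) (tt N14575 (iv D17650)) (tt N19693 (iv F36529)) (tt N20278 D20314) (tt N19462 (iv F35966)))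
theorem Q17620 : ∀ i, i < 17620 → P i := stepQ 17619 Q17619 (allL N17619 (tt N19445 (iv F35908)) (tt N14576 F31656) (tt N20278 (iv F37860)) (tt N17237 F31657) (tt N14575 (iv D17651)) (tt N19442 (iv F35904)))
theorem Q17621 : ∀ i, i < 17621 → P i := stepQ 17620 Q17620 (allL N17620 (tt N14579 F31658) (tt N19442 (iv F35903)) (tt N20267 (iv F37840)) (tt N17238 F31659) (tt N19486 (iv F36030)) (tt N14576 (iv D17652)))
theorem Q17622 : ∀ i, i < 17622 → P i := stepQ 17621 Q17621 (allL N17621 (tt N14577 (iv D17653)) (tt N20235 (iv F37755)) (tt N19460 F35960) (tt N20234 F37753) (tt N20279 D20315) (tt N19496 (iv F36052)))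
theorem Q17623 : ∀ i, i < 17623 → P i := stepQ 17622 Q17622 (allL N17622 (tt N20279 (iv F37861)) (tt N14578 F31660) (tt N19439 F35897) (tt N20280 D20316) (tt N14577 (iv D17654)) (tt N20281 D20317))
theorem Q17624 : ∀ i, i < 17624 → P i := stepQ 17623 Q17623 (allL N17623 (tt N20268 (iv F37842)) (tt N20280 (iv F37862)) (tt N20282 D20318) (tt N14578 (iv D17655)) (tt N20258 (iv F37819)) (tt N20283 D20319))
theorem Q17625 : ∀ i, i < 17625 → P i := stepQ 17624 Q17624 (allL N17624 (tt N20267 (iv F37839)) (tt N20281 (iv F37863)) (tt N14579 F31661) (tt N20283 (iv F37867)) (tt N19487 (iv F36034)) (tt N14578 (iv D17656)))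
theorem Q17626 : ∀ i, i < 17626 → P i := stepQ 17625 Q17625 (allL N17625 (tt N14581 F31662) (tt N16244 F31663) (tt N20284 D20320) (tt N14580 (iv D17657)) (tt N20285 D20321) (tt N16259 (iv F31664)))
theorem Q17627 : ∀ i, i < 17627 → P i := stepQ 17626 Q17626 (allL N17626 (tt N14582 F31665) (tt N16245 F31666) (tt N17420 F31667) (tt N16259 F31668) (tt N20286 D20322) (tt N14580 (iv D17658)))
theorem Q17628 : ∀ i, i < 17628 → P i := stepQ 17627 Q17627 (allL N17627 (tt N20284 (iv F37868)) (tt N16256 F31669) (tt N14581 (iv D17659)) (tt N20287 D20323) (tt N20288 D20324) (tt N16253 F31670))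
theorem Q17629 : ∀ i, i < 17629 → P i := stepQ 17628 Q17628 (allL N17628 (tt N20285 (iv F37870)) (tt N14583 F31671) (tt N20288 (iv F37880)) (tt N17422 F31672) (tt N14581 (iv D17660)) (tt N20289 D20325))
theorem Q17630 : ∀ i, i < 17630 → P i := stepQ 17629 Q17629 (allL N17629 (tt N20286 (iv F37873)) (tt N14584 F31673) (tt N17423 F31674) (tt N20290 D20326) (tt N14582 (iv D17661)) (tt N17423 F31675))
theorem Q17631 : ∀ i, i < 17631 → P i := stepQ 17630 Q17630 (allL N17630 (tt N16248 F31676) (tt N20289 (iv F37881)) (tt N16263 F31677) (tt N17424 F31678) (tt N16262 F31679) (tt N14583 (iv D17662)))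
theorem Q17632 : ∀ i, i < 17632 → P i := stepQ 17631 Q17631 (allL N17631 (tt N16249 F31680) (tt N20290 (iv F37884)) (tt N20291 D20327) (tt N14584 (iv D17663)) (tt N16261 F31681) (tt N17425 F31682))
theorem Q17633 : ∀ i, i < 17633 → P i := stepQ 17632 Q17632 (allL N17632 (tt N14585 (iv D17664)) (tt N16259 F31683) (tt N15784 F31684) (tt N16245 F31685) (tt N19198 (iv F35334)) (tt N16244 F31686))
theorem Q17634 : ∀ i, i < 17634 → P i := stepQ 17633 Q17633 (allL N17633 (tt N19198 (iv F35333)) (tt N14586 F31687) (tt N15782 F31688) (tt N19405 (iv F35788)) (tt N14585 (iv D17665)) (tt N19512 (iv F36091)))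
theorem Q17635 : ∀ i, i < 17635 → P i := stepQ 17634 Q17634 (allL N17634 (tt N16261 F31689) (tt N19405 (iv F35786)) (tt N18097 (iv F32704)) (tt N14586 (iv D17666)) (tt N16249 F31690) (tt N18096 F32702))
theorem Q17636 : ∀ i, i < 17636 → P i := stepQ 17635 Q17635 (allL N17635 (tt N16262 F31691) (tt N19512 (iv F36090)) (tt N14587 F31692) (tt N18096 (iv F32701)) (tt N16248 F31693) (tt N14586 (iv D17667)))
theorem Q17637 : ∀ i, i < 17637 → P i := stepQ 17636 Q17636 (allL N17636 (tt N16263 F31694) (tt N15783 F31695) (tt N16248 F31696) (tt N15729 F31697) (tt N14587 (iv D17668)) (tt N14588 F31698))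
theorem Q17638 : ∀ i, i < 17638 → P i := stepQ 17637 Q17637 (allL N17637 (tt N14590 F31699) (tt N14594 F31700) (tt N20292 D20328) (tt N14589 (iv D17669)) (tt N20293 D20329) (tt N16085 (iv F31701)))
theorem Q17639 : ∀ i, i < 17639 → P i := stepQ 17638 Q17638 (allL N17638 (tt N14591 F31702) (tt N14595 F31703) (tt N17414 F31704) (tt N16085 F31705) (tt N18883 (iv F34643)) (tt N14589 (iv D17670)))
theorem Q17640 : ∀ i, i < 17640 → P i := stepQ 17639 Q17639 (allL N17639 (tt N20292 (iv F37891)) (tt N16075 F31706) (tt N14590 (iv D17671)) (tt N20294 D20330) (tt N20295 D20331) (tt N16073 F31707))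
theorem Q17641 : ∀ i, i < 17641 → P i := stepQ 17640 Q17640 (allL N17640 (tt N20293 (iv F37893)) (tt N14592 F31708) (tt N20295 (iv F37899)) (tt N17407 F31709) (tt N14590 (iv D17672)) (tt N20296 D20332))
theorem Q17642 : ∀ i, i < 17642 → P i := stepQ 17641 Q17641 (allL N17641 (tt N18883 (iv F34641)) (tt N14593 F31710) (tt N16883 F31711) (tt N18882 F34640) (tt N14591 (iv D17673)) (tt N16882 F31712))
theorem Q17643 : ∀ i, i < 17643 → P i := stepQ 17642 Q17642 (allL N17642 (tt N14602 F31713) (tt N20296 (iv F37900)) (tt N16084 F31714) (tt N17410 F31715) (tt N16083 F31716) (tt N14592 (iv D17674)))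
theorem Q17644 : ∀ i, i < 17644 → P i := stepQ 17643 Q17643 (allL N17643 (tt N14604 F31717) (tt N18882 (iv F34639)) (tt N20226 (iv F37732)) (tt N14593 (iv D17675)) (tt N16082 F31718) (tt N17412 F31719))
theorem Q17645 : ∀ i, i < 17645 → P i := stepQ 17644 Q17644 (allL N17644 (tt N14596 F31720) (tt N19177 (iv F35278)) (tt N14594 (iv D17676)) (tt N14930 F31721) (tt N18831 (iv F34473)) (tt N14929 (iv F31722)))
theorem Q17646 : ∀ i, i < 17646 → P i := stepQ 17645 Q17645 (allL N17645 (tt N14597 F31723) (tt N20293 (iv F37894)) (tt N18831 (iv F34471)) (tt N20100 (iv F37437)) (tt N14594 (iv D17677)) (tt N18830 F34468))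
theorem Q17647 : ∀ i, i < 17647 → P i := stepQ 17646 Q17646 (allL N17646 (tt N14598 F31724) (tt N16085 F31725) (tt N14929 F31726) (tt N14595 F31727) (tt N14931 (iv F31728)) (tt N14594 (iv D17678)))
theorem Q17648 : ∀ i, i < 17648 → P i := stepQ 17647 Q17647 (allL N17647 (tt N20297 D20333) (tt N14596 (iv D17679)) (tt N14600 F31729) (tt N19346 (iv F35663)) (tt N20298 D20334) (tt N16067 (iv F31730)))
theorem Q17649 : ∀ i, i < 17649 → P i := stepQ 17648 Q17648 (allL N17648 (tt N14930 F31731) (tt N19346 (iv F35661)) (tt N15386 F31732) (tt N14596 (iv D17680)) (tt N18864 (iv F34579)) (tt N14927 F31733))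
theorem Q17650 : ∀ i, i < 17650 → P i := stepQ 17649 Q17649 (allL N17649 (tt N18831 (iv F34469)) (tt N20298 (iv F37906)) (tt N14597 F31734) (tt N18825 (iv F34450)) (tt N14596 (iv D17681)) (tt N18824 F34446))
theorem Q17651 : ∀ i, i < 17651 → P i := stepQ 17650 Q17650 (allL N17650 (tt N14929 F31735) (tt N16067 F31736) (tt N14598 F31737) (tt N14927 F31738) (tt N14928 (iv F31739)) (tt N14596 (iv D17682)))
theorem Q17652 : ∀ i, i < 17652 → P i := stepQ 17651 Q17651 (allL N17651 (tt N18830 (iv F34466)) (tt N14602 F31740) (tt N18824 (iv F34447)) (tt N20102 (iv F37442)) (tt N18826 (iv F34454)) (tt N14597 (iv D17683)))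
theorem Q17653 : ∀ i, i < 17653 → P i := stepQ 17652 Q17652 (allL N17652 (tt N14600 (iv D17684)) (tt N16070 F31741) (tt N20297 (iv F37903)) (tt N16064 F31742) (tt N20299 D20335) (tt N16063 F31743))
theorem Q17654 : ∀ i, i < 17654 → P i := stepQ 17653 Q17653 (allL N17653 (tt N20299 (iv F37908)) (tt N14601 F31744) (tt N20298 (iv F37907)) (tt N20300 D20336) (tt N14600 (iv D17685)) (tt N20301 D20337))
theorem Q17655 : ∀ i, i < 17655 → P i := stepQ 17654 Q17654 (allL N17654 (tt N16062 F31745) (tt N20300 (iv F37913)) (tt N20302 D20338) (tt N14601 (iv D17686)) (tt N16056 F31746) (tt N18926 (iv F34747)))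
theorem Q17656 : ∀ i, i < 17656 → P i := stepQ 17655 Q17655 (allL N17655 (tt N16084 F31747) (tt N20301 (iv F37916)) (tt N14602 F31748) (tt N18926 (iv F34746)) (tt N16068 F31749) (tt N14601 (iv D17687)))
theorem Q17657 : ∀ i, i < 17657 → P i := stepQ 17656 Q17656 (allL N17656 (tt N16083 F31750) (tt N18826 F34456) (tt N16068 F31751) (tt N18837 (iv F34491)) (tt N14602 (iv D17688)) (tt N14603 F31752))
theorem Q17658 : ∀ i, i < 17658 → P i := stepQ 17657 Q17657 (allL N17657 (tt N20226 (iv F37731)) (tt N18816 (iv F34422)) (tt N14604 (iv D17689)) (tt N20213 (iv F37700)) (tt N18818 (iv F34428)) (tt N20103 (iv F37445)))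
theorem Q17659 : ∀ i, i < 17659 → P i := stepQ 17658 Q17658 (allL N17658 (tt N14610 (iv D17690)) (tt N14614 F31753) (tt N15384 F31754) (tt N20303 D20339) (tt N15753 F31755) (tt N15383 F31756))
theorem Q17660 : ∀ i, i < 17660 → P i := stepQ 17659 Q17659 (allL N17659 (tt N20303 (iv F37920)) (tt N14611 F31757) (tt N16235 (iv F31759)) (tt N14610 (iv D17691)) (tt N20304 D20340) (tt N16411 F31758))
theorem Q17661 : ∀ i, i < 17661 → P i := stepQ 17660 Q17660 (allL N17660 (tt N14617 F31760) (tt N20304 (iv F37924)) (tt N16234 F31761) (tt N15755 F31762) (tt N14611 (iv D17692)) (tt N20305 D20341))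
theorem Q17662 : ∀ i, i < 17662 → P i := stepQ 17661 Q17661 (allL N17661 (tt N14615 F31763) (tt N20303 (iv F37921)) (tt N17430 F31764) (tt N14614 (iv D17693)) (tt N19703 (iv F36549)) (tt N20104 (iv F37451)))
theorem Q17663 : ∀ i, i < 17663 → P i := stepQ 17662 Q17662 (allL N17662 (tt N17430 F31765) (tt N20306 D20342) (tt N14615 (iv D17694)) (tt N17426 F31766) (tt N20307 D20343) (tt N20105 (iv F37453)))
theorem Q17664 : ∀ i, i < 17664 → P i := stepQ 17663 Q17663 (allL N17663 (tt N19703 (iv F36548)) (tt N14617 F31767) (tt N20307 (iv F37936)) (tt N15756 F31768) (tt N14615 (iv D17695)) (tt N20308 D20344))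
theorem Q17665 : ∀ i, i < 17665 → P i := stepQ 17664 Q17664 (allL N17664 (tt N16230 F31769) (tt N14616 (iv D17696)) (tt N20306 (iv F37931)) (tt N16229 F31770) (tt N20309 D20345) (tt N16409 F31771))
theorem Q17666 : ∀ i, i < 17666 → P i := stepQ 17665 Q17665 (allL N17665 (tt N16234 F31772) (tt N20309 (iv F37940)) (tt N14617 F31773) (tt N20310 D20346) (tt N14616 (iv D17697)) (tt N20311 D20347))
theorem Q17667 : ∀ i, i < 17667 → P i := stepQ 17666 Q17666 (allL N17666 (tt N20305 (iv F37927)) (tt N20308 (iv F37937)) (tt N20311 (iv F37945)) (tt N15759 F31774) (tt N20312 D20348) (tt N14617 (iv D17698)))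
theorem Q17668 : ∀ i, i < 17668 → P i := stepQ 17667 Q17667 (allL N17667 (tt N16412 F31775) (tt N20106 (iv F37454)) (tt N16410 F31776) (tt N20313 D20349) (tt N14618 (iv D17699)) (tt N20312 (iv F37949)))
theorem Q17669 : ∀ i, i < 17669 → P i := stepQ 17668 Q17668 (allL N17668 (tt N15379 F31777) (tt N15764 F31778) (tt N15586 (iv F31780)) (tt N14619 (iv D17700)) (tt N20313 (iv F37952)) (tt N15377 F31779))
theorem Q17670 : ∀ i, i < 17670 → P i := stepQ 17669 Q17669 (allL N17669 (tt N15874 F31781) (tt N18425 (iv F33469)) (tt N14620 (iv D17701)) (tt N20314 D20350) (tt N15893 F31782) (tt N19797 (iv F36763)))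
theorem Q17671 : ∀ i, i < 17671 → P i := stepQ 17670 Q17670 (allL N17670 (tt N14627 F31783) (tt N15894 F31784) (tt N18420 (iv F33448)) (tt N14623 F31785) (tt N19800 (iv F36772)) (tt N14622 (iv D17702)))
theorem Q17672 : ∀ i, i < 17672 → P i := stepQ 17671 Q17671 (allL N17671 (tt N14768 F31786) (tt N15414 F31787) (tt N14624 (iv D17703)) (tt N19848 (iv F36844)) (tt N14751 F31788) (tt N20315 D20351))
theorem Q17673 : ∀ i, i < 17673 → P i := stepQ 17672 Q17672 (allL N17672 (tt N14767 F31789) (tt N15405 F31790) (tt N20315 (iv F37957)) (tt N14625 F31791) (tt N18615 (iv F33958)) (tt N14624 (iv D17704)))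
theorem Q17674 : ∀ i, i < 17674 → P i := stepQ 17673 Q17673 (allL N17673 (tt N19800 (iv F36768)) (tt N15884 F31792) (tt N18186 (iv F32949)) (tt N15881 F31793) (tt N14627 (iv D17705)) (tt N14628 F31794))
theorem Q17675 : ∀ i, i < 17675 → P i := stepQ 17674 Q17674 (allL N17674 (tt N14775 F31795) (tt N15431 F31796) (tt N20316 D20352) (tt N14635 (iv D17706)) (tt N14752 F31797) (tt N20317 D20353))
theorem Q17676 : ∀ i, i < 17676 → P i := stepQ 17675 Q17675 (allL N17675 (tt N14776 F31798) (tt N15432 F31799) (tt N14636 F31800) (tt N20317 (iv F37966)) (tt N14782 F31801) (tt N14635 (iv D17707)))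
theorem Q17677 : ∀ i, i < 17677 → P i := stepQ 17676 Q17676 (allL N17676 (tt N14641 F31802) (tt N20318 D20354) (tt N14637 (iv D17708)) (tt N20319 D20355) (tt N19246 (iv F35429)) (tt N20320 D20356))
theorem Q17678 : ∀ i, i < 17678 → P i := stepQ 17677 Q17677 (allL N17677 (tt N14642 F31803) (tt N14652 F31804) (tt N20320 (iv F37971)) (tt N14638 F31805) (tt N20321 D20357) (tt N14637 (iv D17709)))
theorem Q17679 : ∀ i, i < 17679 → P i := stepQ 17678 Q17678 (allL N17678 (tt N19246 (iv F35428)) (tt N20322 D20358) (tt N14639 (iv D17710)) (tt N20323 D20359) (tt N14641 F31806) (tt N20324 D20360))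
theorem Q17680 : ∀ i, i < 17680 → P i := stepQ 17679 Q17679 (allL N17679 (tt N19247 (iv F35430)) (tt N14646 F31807) (tt N20324 (iv F37979)) (tt N14640 F31808) (tt N20325 D20361) (tt N14639 (iv D17711)))
theorem Q17681 : ∀ i, i < 17681 → P i := stepQ 17680 Q17680 (allL N17680 (tt N20326 D20362) (tt N14641 (iv D17712)) (tt N14647 F31809) (tt N19755 F36681) (tt N20322 (iv F37976)) (tt N14686 (iv F31810)))
theorem Q17682 : ∀ i, i < 17682 → P i := stepQ 17681 Q17681 (allL N17681 (tt N20319 (iv F37969)) (tt N19755 (iv F36679)) (tt N18153 F34239) (tt N14641 (iv D17713)) (tt N18151 (iv F34240)) (tt N20327 D20363))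
theorem Q17683 : ∀ i, i < 17683 → P i := stepQ 17682 Q17682 (allL N17682 (tt N20320 (iv F37970)) (tt N14686 F31811) (tt N14642 F31812) (tt N20327 (iv F37987)) (tt N20328 D20364) (tt N14641 (iv D17714)))
theorem Q17684 : ∀ i, i < 17684 → P i := stepQ 17683 Q17683 (allL N17683 (tt N20321 (iv F37972)) (tt N14648 F31813) (tt N20328 (iv F37989)) (tt N20329 D20365) (tt N14642 (iv D17715)) (tt N20325 (iv F37982)))
theorem Q17685 : ∀ i, i < 17685 → P i := stepQ 17684 Q17684 (allL N17684 (tt N15850 F31814) (tt N14649 F31815) (tt N20330 D20366) (tt N14643 (iv D17716)) (tt N20329 (iv F37992)) (tt N14644 F31816))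
theorem Q17686 : ∀ i, i < 17686 → P i := stepQ 17685 Q17685 (allL N17685 (tt N15849 F31817) (tt N20331 D20367) (tt N14644 (iv D17717)) (tt N20332 D20368) (tt N14716 F31818) (tt N20330 (iv F37997)))
theorem Q17687 : ∀ i, i < 17687 → P i := stepQ 17686 Q17686 (allL N17686 (tt N20333 D20369) (tt N14645 (iv D17718)) (tt N20322 (iv F37975)) (tt N14856 F31819) (tt N14647 F31820) (tt N14855 F31821))
theorem Q17688 : ∀ i, i < 17688 → P i := stepQ 17687 Q17687 (allL N17687 (tt N14663 F31822) (tt N20325 (iv F37980)) (tt N14689 F31823) (tt N14719 F31824) (tt N14646 (iv D17719)) (tt N14648 F31825))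
theorem Q17689 : ∀ i, i < 17689 → P i := stepQ 17688 Q17688 (allL N17688 (tt N14647 (iv D17720)) (tt N14666 F31826) (tt N20326 (iv F37983)) (tt N14685 F31827) (tt N20333 (iv F38006)) (tt N14684 F31828))
theorem Q17690 : ∀ i, i < 17690 → P i := stepQ 17689 Q17689 (allL N17689 (tt N14667 F31829) (tt N20329 (iv F37991)) (tt N14904 F31830) (tt N14648 (iv D17721)) (tt N14649 F31831) (tt N14719 F31832))
theorem Q17691 : ∀ i, i < 17691 → P i := stepQ 17690 Q17690 (allL N17690 (tt N20334 D20370) (tt N14650 (iv D17722)) (tt N20331 (iv F37998)) (tt N15426 F31833) (tt N14718 F31834) (tt N15437 F31835))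
theorem Q17692 : ∀ i, i < 17692 → P i := stepQ 17691 Q17691 (allL N17691 (tt N20335 D20371) (tt N14651 (iv D17723)) (tt N20318 (iv F37968)) (tt N20336 D20372) (tt N19248 (iv F35433)) (tt N20337 D20373))
theorem Q17693 : ∀ i, i < 17693 → P i := stepQ 17692 Q17692 (allL N17692 (tt N14656 F31836) (tt N20336 (iv F38014)) (tt N14678 F31837) (tt N14651 (iv D17724)) (tt N20338 D20374) (tt N14676 (iv F31838)))
theorem Q17694 : ∀ i, i < 17694 → P i := stepQ 17693 Q17693 (allL N17693 (tt N14657 F31839) (tt N20337 (iv F38017)) (tt N14652 F31840) (tt N14676 F31841) (tt N20339 D20375) (tt N14651 (iv D17725)))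
theorem Q17695 : ∀ i, i < 17695 → P i := stepQ 17694 Q17694 (allL N17694 (tt N14658 F31842) (tt N20321 (iv F37973)) (tt N20339 (iv F38022)) (tt N15854 F31843) (tt N14652 (iv D17726)) (tt N19251 (iv F35439)))
theorem Q17696 : ∀ i, i < 17696 → P i := stepQ 17695 Q17695 (allL N17695 (tt N20340 D20376) (tt N14653 (iv D17727)) (tt N14660 F31844) (tt N20341 D20377) (tt N14655 F31845) (tt N20342 D20378))
theorem Q17697 : ∀ i, i < 17697 → P i := stepQ 17696 Q17696 (allL N17696 (tt N19249 (iv F35434)) (tt N20341 (iv F38025)) (tt N19214 (iv F35369)) (tt N14653 (iv D17728)) (tt N20343 D20379) (tt N19213 F35368))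
theorem Q17698 : ∀ i, i < 17698 → P i := stepQ 17697 Q17697 (allL N17697 (tt N19250 (iv F35435)) (tt N20342 (iv F38026)) (tt N14654 F31846) (tt N19213 (iv F35367)) (tt N20344 D20380) (tt N14653 (iv D17729)))
theorem Q17699 : ∀ i, i < 17699 → P i := stepQ 17698 Q17698 (allL N17698 (tt N19251 (iv F35437)) (tt N14663 F31847) (tt N20344 (iv F38031)) (tt N15860 F31848) (tt N14654 (iv D17730)) (tt N14658 F31849))
theorem Q17700 : ∀ i, i < 17700 → P i := stepQ 17699 Q17699 (allL N17699 (tt N14655 (iv D17731)) (tt N20335 (iv F38012)) (tt N14666 F31850) (tt N20345 D20381) (tt N20340 (iv F38024)) (tt N15339 F31851))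
theorem Q17701 : ∀ i, i < 17701 → P i := stepQ 17700 Q17700 (allL N17700 (tt N20345 (iv F38034)) (tt N14656 F31852) (tt N19849 (iv F36848)) (tt N14655 (iv D17732)) (tt N20346 D20382) (tt N15342 F31853))
theorem Q17702 : ∀ i, i < 17702 → P i := stepQ 17701 Q17701 (allL N17701 (tt N14678 F31854) (tt N19411 (iv F35803)) (tt N14656 (iv D17733)) (tt N14673 F31855) (tt N20347 D20383) (tt N14672 (iv F31856)))
theorem Q17703 : ∀ i, i < 17703 → P i := stepQ 17702 Q17702 (allL N17702 (tt N20338 (iv F38019)) (tt N20346 (iv F38037)) (tt N20347 (iv F38040)) (tt N20343 (iv F38029)) (tt N14656 (iv D17734)) (tt N20348 D20384))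
theorem Q17704 : ∀ i, i < 17704 → P i := stepQ 17703 Q17703 (allL N17703 (tt N14676 F31857) (tt N15342 F31858) (tt N14672 F31859) (tt N14657 F31860) (tt N19175 (iv F35274)) (tt N14656 (iv D17735)))
theorem Q17705 : ∀ i, i < 17705 → P i := stepQ 17704 Q17704 (allL N17704 (tt N20339 (iv F38021)) (tt N15343 F31861) (tt N14658 F31862) (tt N20349 D20385) (tt N14657 (iv D17736)) (tt N20344 (iv F38033)))
theorem Q17706 : ∀ i, i < 17706 → P i := stepQ 17705 Q17705 (allL N17705 (tt N14660 (iv D17737)) (tt N20333 (iv F38004)) (tt N20340 (iv F38023)) (tt N20350 D20386) (tt N14666 F31863) (tt N20351 D20387))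
theorem Q17707 : ∀ i, i < 17707 → P i := stepQ 17706 Q17706 (allL N17706 (tt N20350 (iv F38045)) (tt N14661 F31864) (tt N20352 D20388) (tt N14660 (iv D17738)) (tt N14901 F31865) (tt N14826 (iv F31866)))
theorem Q17708 : ∀ i, i < 17708 → P i := stepQ 17707 Q17707 (allL N17707 (tt N20351 (iv F38049)) (tt N14662 F31867) (tt N20342 (iv F38027)) (tt N14826 F31868) (tt N14902 F31869) (tt N14660 (iv D17739)))
theorem Q17709 : ∀ i, i < 17709 → P i := stepQ 17708 Q17708 (allL N17708 (tt N20353 D20389) (tt N14665 (iv D17740)) (tt N15857 F31870) (tt N15448 F31871) (tt N14669 F31872) (tt N15447 F31873))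
theorem Q17710 : ∀ i, i < 17710 → P i := stepQ 17709 Q17709 (allL N17709 (tt N20354 D20390) (tt N14668 (iv D17741)) (tt N15863 F31874) (tt N14916 F31875) (tt N19735 (iv F36634)) (tt N14669 F31876))
theorem Q17711 : ∀ i, i < 17711 → P i := stepQ 17710 Q17710 (allL N17710 (tt N14669 (iv D17742)) (tt N20334 (iv F38008)) (tt N15861 F31877) (tt N20355 D20391) (tt N20353 (iv F38059)) (tt N20354 (iv F38064)))
theorem Q17712 : ∀ i, i < 17712 → P i := stepQ 17711 Q17711 (allL N17711 (tt N20355 (iv F38065)) (tt N14670 F31878) (tt N20356 D20392) (tt N14669 (iv D17743)) (tt N19734 (iv F36632)) (tt N14916 F31879))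
theorem Q17713 : ∀ i, i < 17713 → P i := stepQ 17712 Q17712 (allL N17712 (tt N19824 (iv F36805)) (tt N14677 F31880) (tt N19814 (iv F36787)) (tt N14699 F31881) (tt N14675 (iv D17744)) (tt N20357 D20393))
theorem Q17714 : ∀ i, i < 17714 → P i := stepQ 17713 Q17713 (allL N17713 (tt N20358 D20394) (tt N14676 (iv D17745)) (tt N19811 F36783) (tt N20337 (iv F38018)) (tt N20359 D20395) (tt N20336 F38015))
theorem Q17715 : ∀ i, i < 17715 → P i := stepQ 17714 Q17714 (allL N17714 (tt N19175 (iv F35272)) (tt N20359 (iv F38074)) (tt N14677 F31882) (tt N19173 (iv F35269)) (tt N14676 (iv D17746)) (tt N19172 F35267))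
theorem Q17716 : ∀ i, i < 17716 → P i := stepQ 17715 Q17715 (allL N17715 (tt N19176 (iv F35275)) (tt N20357 (iv F38070)) (tt N19172 (iv F35266)) (tt N15866 F31883) (tt N20360 D20396) (tt N14677 (iv D17747)))
theorem Q17717 : ∀ i, i < 17717 → P i := stepQ 17716 Q17716 (allL N17716 (tt N20347 (iv F38038)) (tt N19400 (iv F35777)) (tt N20338 (iv F38020)) (tt N19203 (iv F35348)) (tt N14678 (iv D17748)) (tt N20360 (iv F38075)))
theorem Q17718 : ∀ i, i < 17718 → P i := stepQ 17717 Q17717 (allL N17717 (tt N14681 F31884) (tt N18217 (iv F33032)) (tt N14685 F31885) (tt N19767 (iv F36707)) (tt N20361 D20397) (tt N14679 (iv D17749)))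
theorem Q17719 : ∀ i, i < 17719 → P i := stepQ 17718 Q17718 (allL N17718 (tt N20361 (iv F38076)) (tt N14683 F31886) (tt N14688 F31887) (tt N20362 D20398) (tt N14681 (iv D17750)) (tt N15141 F31888))
theorem Q17720 : ∀ i, i < 17720 → P i := stepQ 17719 Q17719 (allL N17719 (tt N15663 F31889) (tt N19727 (iv F36607)) (tt N15661 F31890) (tt N15307 F31891) (tt N19786 (iv F36743)) (tt N14682 (iv D17751)))
theorem Q17721 : ∀ i, i < 17721 → P i := stepQ 17720 Q17720 (allL N17720 (tt N18219 (iv F33037)) (tt N20362 (iv F38079)) (tt N20363 D20399) (tt N14683 (iv D17752)) (tt N19785 (iv F36740)) (tt N15309 F31892))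
theorem Q17722 : ∀ i, i < 17722 → P i := stepQ 17721 Q17721 (allL N17721 (tt N14686 F31893) (tt N20364 D20400) (tt N14684 (iv D17753)) (tt N20365 D20401) (tt N20366 D20402) (tt N20326 (iv F37984)))
theorem Q17723 : ∀ i, i < 17723 → P i := stepQ 17722 Q17722 (allL N17722 (tt N14687 F31894) (tt N15340 F31895) (tt N20366 (iv F38086)) (tt N15139 F31896) (tt N14684 (iv D17754)) (tt N20367 D20403))
theorem Q17724 : ∀ i, i < 17724 → P i := stepQ 17723 Q17723 (allL N17723 (tt N14688 F31897) (tt N15341 F31898) (tt N20361 (iv F38077)) (tt N20368 D20404) (tt N14685 (iv D17755)) (tt N15138 F31899))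
theorem Q17725 : ∀ i, i < 17725 → P i := stepQ 17724 Q17724 (allL N17724 (tt N20365 (iv F38084)) (tt N20327 (iv F37985)) (tt N19756 (iv F36684)) (tt N14686 (iv D17756)) (tt N20369 D20405) (tt N19755 (iv F36682)))
theorem Q17726 : ∀ i, i < 17726 → P i := stepQ 17725 Q17725 (allL N17725 (tt N20366 (iv F38085)) (tt N20328 (iv F37988)) (tt N14687 F31900) (tt N20370 D20406) (tt N14686 (iv D17757)) (tt N20371 D20407))
theorem Q17727 : ∀ i, i < 17727 → P i := stepQ 17726 Q17726 (allL N17726 (tt N20367 (iv F38087)) (tt N14689 F31901) (tt N20371 (iv F38095)) (tt N14863 F31902) (tt N14855 F31903) (tt N14687 (iv D17758)))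
theorem Q17728 : ∀ i, i < 17728 → P i := stepQ 17727 Q17727 (allL N17727 (tt N20368 (iv F38091)) (tt N14690 F31904) (tt N20372 D20408) (tt N14688 (iv D17759)) (tt N14856 F31905) (tt N14864 F31906))
theorem Q17729 : ∀ i, i < 17729 → P i := stepQ 17728 Q17728 (allL N17728 (tt N14692 (iv D17760)) (tt N19767 (iv F36705)) (tt N18412 (iv F33431)) (tt N18217 (iv F33034)) (tt N18411 (iv F33428)) (tt N18216 (iv F33029)))
theorem Q17730 : ∀ i, i < 17730 → P i := stepQ 17729 Q17729 (allL N17729 (tt N18411 (iv F33426)) (tt N14693 F31907) (tt N18408 (iv F33421)) (tt N20373 D20409) (tt N14692 (iv D17761)) (tt N18407 F33418))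
theorem Q17731 : ∀ i, i < 17731 → P i := stepQ 17730 Q17730 (allL N17730 (tt N19785 (iv F36739)) (tt N20373 (iv F38100)) (tt N20374 D20410) (tt N14693 (iv D17762)) (tt N18219 (iv F33038)) (tt N20375 D20411))
theorem Q17732 : ∀ i, i < 17732 → P i := stepQ 17731 Q17731 (allL N17731 (tt N19786 (iv F36741)) (tt N18407 (iv F33416)) (tt N14694 F31908) (tt N20375 (iv F38108)) (tt N15663 F31909) (tt N14693 (iv D17763)))
theorem Q17733 : ∀ i, i < 17733 → P i := stepQ 17732 Q17732 (allL N17732 (tt N14699 F31910) (tt N18571 (iv F33833)) (tt N14781 F31911) (tt N19824 (iv F36808)) (tt N14697 (iv D17764)) (tt N18569 F33829))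
theorem Q17734 : ∀ i, i < 17734 → P i := stepQ 17733 Q17733 (allL N17733 (tt N14781 F31912) (tt N14783 F31913) (tt N14699 F31914) (tt N15084 F31915) (tt N14698 (iv D17765)) (tt N20376 D20412))
theorem Q17735 : ∀ i, i < 17735 → P i := stepQ 17734 Q17734 (allL N17734 (tt N18569 (iv F33826)) (tt N15866 F31916) (tt N20376 (iv F38111)) (tt N20357 (iv F38071)) (tt N19204 (iv F35353)) (tt N14699 (iv D17766)))
theorem Q17736 : ∀ i, i < 17736 → P i := stepQ 17735 Q17735 (allL N17735 (tt N14700 (iv D17767)) (tt N14706 F31917) (tt N17583 F31918) (tt N15887 F31919) (tt N15033 F31920) (tt N15886 F31921))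
theorem Q17737 : ∀ i, i < 17737 → P i := stepQ 17736 Q17736 (allL N17736 (tt N14702 (iv D17768)) (tt N15033 F31922) (tt N17598 F31923) (tt N16928 F31926) (tt N14706 F31924) (tt N17580 (iv F31925)))
theorem Q17738 : ∀ i, i < 17738 → P i := stepQ 17737 Q17737 (allL N17737 (tt N16928 F31927) (tt N14703 F31928) (tt N16926 F31929) (tt N14702 (iv D17769)) (tt N20377 D20413) (tt N15038 F31930))
theorem Q17739 : ∀ i, i < 17739 → P i := stepQ 17738 Q17738 (allL N17738 (tt N17580 F31931) (tt N14704 F31932) (tt N17599 F31933) (tt N15038 F31934) (tt N20378 D20414) (tt N14702 (iv D17770)))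
theorem Q17740 : ∀ i, i < 17740 → P i := stepQ 17739 Q17739 (allL N17739 (tt N15035 F31935) (tt N20377 (iv F38115)) (tt N15039 F31936) (tt N14709 F31937) (tt N14703 (iv D17771)) (tt N14709 F31938))
theorem Q17741 : ∀ i, i < 17741 → P i := stepQ 17740 Q17740 (allL N17740 (tt N15036 F31939) (tt N20378 (iv F38120)) (tt N14705 F31940) (tt N14710 F31941) (tt N14704 (iv D17772)) (tt N14710 F31942))
theorem Q17742 : ∀ i, i < 17742 → P i := stepQ 17741 Q17741 (allL N17741 (tt N14707 F31943) (tt N15887 F31944) (tt N18534 (iv F33746)) (tt N14706 (iv D17773)) (tt N20379 D20415) (tt N15875 (iv F31945)))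
theorem Q17743 : ∀ i, i < 17743 → P i := stepQ 17742 Q17742 (allL N17742 (tt N14708 F31946) (tt N15886 F31947) (tt N20065 (iv F37365)) (tt N15875 F31948) (tt N20380 D20416) (tt N14706 (iv D17774)))
theorem Q17744 : ∀ i, i < 17744 → P i := stepQ 17743 Q17743 (allL N17743 (tt N18534 (iv F33744)) (tt N15871 F31949) (tt N14707 (iv D17775)) (tt N20381 D20417) (tt N20382 D20418) (tt N15869 F31950))
theorem Q17745 : ∀ i, i < 17745 → P i := stepQ 17744 Q17744 (allL N17744 (tt N20379 (iv F38124)) (tt N14709 F31951) (tt N20382 (iv F38137)) (tt N20377 (iv F38117)) (tt N14707 (iv D17776)) (tt N20377 (iv F38118)))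
theorem Q17746 : ∀ i, i < 17746 → P i := stepQ 17745 Q17745 (allL N17745 (tt N20380 (iv F38129)) (tt N14710 F31952) (tt N20068 (iv F37369)) (tt N20378 (iv F38122)) (tt N14708 (iv D17777)) (tt N20378 (iv F38123)))
theorem Q17747 : ∀ i, i < 17747 → P i := stepQ 17746 Q17746 (allL N17746 (tt N19266 (iv F35487)) (tt N20383 D20419) (tt N14712 (iv D17778)) (tt N20384 D20420) (tt N19245 (iv F35427)) (tt N20385 D20421))
theorem Q17748 : ∀ i, i < 17748 → P i := stepQ 17747 Q17747 (allL N17747 (tt N19267 (iv F35491)) (tt N15856 F31953) (tt N20385 (iv F38145)) (tt N14713 F31954) (tt N20386 D20422) (tt N14712 (iv D17779)))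
theorem Q17749 : ∀ i, i < 17749 → P i := stepQ 17748 Q17748 (allL N17748 (tt N14716 F31955) (tt N20387 D20423) (tt N14714 (iv D17780)) (tt N19707 (iv F36556)) (tt N15849 F31956) (tt N19706 (iv F36553)))
theorem Q17750 : ∀ i, i < 17750 → P i := stepQ 17749 Q17749 (allL N17749 (tt N14717 F31957) (tt N15852 F31958) (tt N19706 (iv F36552)) (tt N14715 F31959) (tt N20388 D20424) (tt N14714 (iv D17781)))
theorem Q17751 : ∀ i, i < 17751 → P i := stepQ 17750 Q17750 (allL N17750 (tt N20389 D20425) (tt N14716 (iv D17782)) (tt N14718 F31960) (tt N20011 (iv F37247)) (tt N20331 (iv F37999)) (tt N19782 (iv F36737)))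
theorem Q17752 : ∀ i, i < 17752 → P i := stepQ 17751 Q17751 (allL N17751 (tt N19707 (iv F36554)) (tt N20011 (iv F37245)) (tt N18109 (iv F32744)) (tt N14716 (iv D17783)) (tt N18107 F32745) (tt N19701 (iv F36544)))
theorem Q17753 : ∀ i, i < 17753 → P i := stepQ 17752 Q17752 (allL N17752 (tt N19706 (iv F36551)) (tt N19782 (iv F36736)) (tt N14717 F31961) (tt N19701 (iv F36545)) (tt N20390 D20426) (tt N14716 (iv D17784)))
theorem Q17754 : ∀ i, i < 17754 → P i := stepQ 17753 Q17753 (allL N17753 (tt N20388 (iv F38150)) (tt N14719 F31962) (tt N20390 (iv F38154)) (tt N20325 (iv F37981)) (tt N14717 (iv D17785)) (tt N20329 (iv F37993)))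
theorem Q17755 : ∀ i, i < 17755 → P i := stepQ 17754 Q17754 (allL N17754 (tt N14718 (iv D17786)) (tt N20353 (iv F38056)) (tt N20389 (iv F38153)) (tt N19781 (iv F36735)) (tt N20334 (iv F38010)) (tt N19780 F36731))
theorem Q17756 : ∀ i, i < 17756 → P i := stepQ 17755 Q17755 (allL N17755 (tt N14720 (iv D17787)) (tt N15024 F31963) (tt N14725 F31964) (tt N15500 (iv F31967)) (tt N15116 F31965) (tt N15401 F31966))
theorem Q17757 : ∀ i, i < 17757 → P i := stepQ 17756 Q17756 (allL N17756 (tt N15500 F31968) (tt N14721 F31969) (tt N15499 F31970) (tt N14720 (iv D17788)) (tt N15606 (iv F31972)) (tt N15314 F31971))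
theorem Q17758 : ∀ i, i < 17758 → P i := stepQ 17757 Q17757 (allL N17757 (tt N15026 F31973) (tt N15606 F31974) (tt N15897 F31975) (tt N15119 F31976) (tt N14721 (iv D17789)) (tt N15604 F31977))
theorem Q17759 : ∀ i, i < 17759 → P i := stepQ 17758 Q17758 (allL N17758 (tt N19986 (iv F37176)) (tt N17402 F31978) (tt N14727 F31979) (tt N19986 (iv F37178)) (tt N14726 (iv D17790)) (tt N20113 (iv F37483)))
theorem Q17760 : ∀ i, i < 17760 → P i := stepQ 17759 Q17759 (allL N17759 (tt N14730 (iv D17791)) (tt N15009 F31980) (tt N14732 F31981) (tt N15494 F31982) (tt N17123 F31983) (tt N15187 F31984))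
theorem Q17761 : ∀ i, i < 17761 → P i := stepQ 17760 Q17760 (allL N17760 (tt N14734 F31985) (tt N19420 (iv F35841)) (tt N19338 (iv F35640)) (tt N14733 (iv D17792)) (tt N20391 D20427) (tt N17158 F31986))
theorem Q17762 : ∀ i, i < 17762 → P i := stepQ 17761 Q17761 (allL N17761 (tt N14735 F31987) (tt N19421 (iv F35844)) (tt N15021 F31988) (tt N17158 F31989) (tt N15910 F31990) (tt N14733 (iv D17793)))
theorem Q17763 : ∀ i, i < 17763 → P i := stepQ 17762 Q17762 (allL N17762 (tt N19338 (iv F35639)) (tt N17156 F31991) (tt N14734 (iv D17794)) (tt N18842 (iv F34510)) (tt N20392 D20428) (tt N17154 F31992))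
theorem Q17764 : ∀ i, i < 17764 → P i := stepQ 17763 Q17763 (allL N17763 (tt N20391 (iv F38155)) (tt N14736 F31993) (tt N20392 (iv F38159)) (tt N14739 F31994) (tt N14734 (iv D17795)) (tt N18513 (iv F33698)))
theorem Q17765 : ∀ i, i < 17765 → P i := stepQ 17764 Q17764 (allL N17764 (tt N14738 F31995) (tt N15169 F31996) (tt N14737 (iv D17796)) (tt N18634 F34010) (tt N20393 D20429) (tt N15177 F31997))
theorem Q17766 : ∀ i, i < 17766 → P i := stepQ 17765 Q17765 (allL N17765 (tt N14739 F31998) (tt N15189 F31999) (tt N20393 (iv F38162)) (tt N20391 (iv F38157)) (tt N14737 (iv D17797)) (tt N18512 (iv F33695)))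
theorem Q17767 : ∀ i, i < 17767 → P i := stepQ 17766 Q17766 (allL N17766 (tt N18634 (iv F34006)) (tt N15144 F32000) (tt N17135 (iv F32002)) (tt N14738 (iv D17798)) (tt N18629 (iv F33994)) (tt N15178 F32001))
theorem Q17768 : ∀ i, i < 17768 → P i := stepQ 17767 Q17767 (allL N17767 (tt N20393 (iv F38160)) (tt N15180 F32003) (tt N14739 F32004) (tt N19223 (iv F35381)) (tt N14738 (iv D17799)) (tt N18347 (iv F33311)))
theorem Q17769 : ∀ i, i < 17769 → P i := stepQ 17768 Q17768 (allL N17768 (tt N14740 (iv D17800)) (tt N19612 (iv F36346)) (tt N14744 F32005) (tt N20394 D20430) (tt N18308 F33235) (tt N20395 D20431))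
theorem Q17770 : ∀ i, i < 17770 → P i := stepQ 17769 Q17769 (allL N17769 (tt N20394 (iv F38165)) (tt N14741 F32006) (tt N20396 D20432) (tt N14740 (iv D17801)) (tt N20397 D20433) (tt N19947 (iv F37073)))
theorem Q17771 : ∀ i, i < 17771 → P i := stepQ 17770 Q17770 (allL N17770 (tt N20395 (iv F38167)) (tt N14742 F32007) (tt N14746 F32008) (tt N19947 (iv F37072)) (tt N18313 (iv F33245)) (tt N14740 (iv D17802)))
theorem Q17772 : ∀ i, i < 17772 → P i := stepQ 17771 Q17771 (allL N17771 (tt N19615 (iv F36352)) (tt N20397 (iv F38172)) (tt N19950 (iv F37076)) (tt N18341 (iv F33299)) (tt N14741 (iv D17803)) (tt N20398 D20434))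
theorem Q17773 : ∀ i, i < 17773 → P i := stepQ 17772 Q17772 (allL N17772 (tt N19616 (iv F36354)) (tt N18313 (iv F33243)) (tt N14743 F32009) (tt N20399 D20435) (tt N14742 (iv D17804)) (tt N17128 F32010))
theorem Q17774 : ∀ i, i < 17774 → P i := stepQ 17773 Q17773 (allL N17773 (tt N14745 F32011) (tt N15909 F32012) (tt N14980 (iv F32014)) (tt N14744 (iv D17805)) (tt N15441 F32013) (tt N14966 (iv F32015)))
theorem Q17775 : ∀ i, i < 17775 → P i := stepQ 17774 Q17774 (allL N17774 (tt N14746 F32016) (tt N15908 F32017) (tt N20395 (iv F38168)) (tt N14966 F32018) (tt N18309 (iv F33238)) (tt N14744 (iv D17806)))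
theorem Q17776 : ∀ i, i < 17776 → P i := stepQ 17775 Q17775 (allL N17775 (tt N14797 F32019) (tt N14750 F32020) (tt N20400 D20436) (tt N14748 (iv D17807)) (tt N18613 (iv F33950)) (tt N14749 F32021))
theorem Q17777 : ∀ i, i < 17777 → P i := stepQ 17776 Q17776 (allL N17776 (tt N14796 F32022) (tt N15425 (iv F32024)) (tt N14749 (iv D17808)) (tt N20401 D20437) (tt N15389 F32023) (tt N20400 (iv F38176)))
theorem Q17778 : ∀ i, i < 17778 → P i := stepQ 17777 Q17777 (allL N17777 (tt N14771 F32025) (tt N20402 D20438) (tt N14750 (iv D17809)) (tt N14774 F32026) (tt N18614 (iv F33954)) (tt N14751 F32027))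
theorem Q17779 : ∀ i, i < 17779 → P i := stepQ 17778 Q17778 (allL N17778 (tt N15416 F32028) (tt N14751 (iv D17810)) (tt N15425 F32029) (tt N15100 F32030) (tt N15414 F32031) (tt N20402 (iv F38188)))
theorem Q17780 : ∀ i, i < 17780 → P i := stepQ 17779 Q17779 (allL N17779 (tt N14774 F32032) (tt N20403 D20439) (tt N14752 (iv D17811)) (tt N14771 F32033) (tt N20316 (iv F37961)) (tt N14773 F32034))
theorem Q17781 : ∀ i, i < 17781 → P i := stepQ 17780 Q17780 (allL N17780 (tt N16903 (iv F32037)) (tt N14753 (iv D17812)) (tt N16901 F32035) (tt N18868 (iv F34590)) (tt N16900 F32036) (tt N20404 D20440))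
theorem Q17782 : ∀ i, i < 17782 → P i := stepQ 17781 Q17781 (allL N17781 (tt N14759 F32038) (tt N20404 (iv F38195)) (tt N14754 F32039) (tt N14779 F32040) (tt N20405 D20441) (tt N14753 (iv D17813)))
theorem Q17783 : ∀ i, i < 17783 → P i := stepQ 17782 Q17782 (allL N17782 (tt N14760 F32041) (tt N18612 (iv F33944)) (tt N20405 (iv F38199)) (tt N14799 F32042) (tt N14754 (iv D17814)) (tt N20096 (iv F37427)))
theorem Q17784 : ∀ i, i < 17784 → P i := stepQ 17783 Q17783 (allL N17783 (tt N16891 F32043) (tt N14755 (iv D17815)) (tt N14763 F32044) (tt N16898 F32045) (tt N14757 F32046) (tt N16886 (iv F32047)))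
theorem Q17785 : ∀ i, i < 17785 → P i := stepQ 17784 Q17784 (allL N17784 (tt N20095 (iv F37421)) (tt N16886 F32048) (tt N14756 F32049) (tt N17541 F32050) (tt N20406 D20442) (tt N14755 (iv D17816)))
theorem Q17786 : ∀ i, i < 17786 → P i := stepQ 17785 Q17785 (allL N17785 (tt N20096 (iv F37424)) (tt N14766 F32051) (tt N20406 (iv F38201)) (tt N14805 F32052) (tt N14756 (iv D17817)) (tt N14760 F32053))
theorem Q17787 : ∀ i, i < 17787 → P i := stepQ 17786 Q17786 (allL N17786 (tt N14757 (iv D17818)) (tt N16903 F32054) (tt N14769 F32055) (tt N20407 D20443) (tt N16891 F32056) (tt N18609 (iv F33938)))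
theorem Q17788 : ∀ i, i < 17788 → P i := stepQ 17787 Q17787 (allL N17787 (tt N20407 (iv F38203)) (tt N14758 F32057) (tt N20408 D20444) (tt N14757 (iv D17819)) (tt N20409 D20445) (tt N18610 (iv F33940)))
theorem Q17789 : ∀ i, i < 17789 → P i := stepQ 17788 Q17788 (allL N17788 (tt N18867 (iv F34587)) (tt N20409 (iv F38205)) (tt N18828 F34462) (tt N20101 (iv F37440)) (tt N14758 (iv D17820)) (tt N20410 D20446))
theorem Q17790 : ∀ i, i < 17790 → P i := stepQ 17789 Q17789 (allL N17789 (tt N14779 F32058) (tt N18610 (iv F33939)) (tt N14778 F32059) (tt N14759 F32060) (tt N20411 D20447) (tt N14758 (iv D17821)))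
theorem Q17791 : ∀ i, i < 17791 → P i := stepQ 17790 Q17790 (allL N17790 (tt N20405 (iv F38198)) (tt N18611 (iv F33941)) (tt N14760 F32061) (tt N20412 D20448) (tt N14759 (iv D17822)) (tt N20406 (iv F38202)))
theorem Q17792 : ∀ i, i < 17792 → P i := stepQ 17791 Q17791 (allL N17791 (tt N15881 F32062) (tt N18283 F33163) (tt N18284 (iv F33164)) (tt N19800 (iv F36771)) (tt N14762 (iv D17823)) (tt N15879 F32063))
theorem Q17793 : ∀ i, i < 17793 → P i := stepQ 17792 Q17792 (allL N17792 (tt N18615 (iv F33955)) (tt N14805 F32064) (tt N20413 D20449) (tt N14766 (iv D17824)) (tt N14767 F32065) (tt N14770 F32066))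
theorem Q17794 : ∀ i, i < 17794 → P i := stepQ 17793 Q17793 (allL N17793 (tt N20315 (iv F37955)) (tt N15411 F32067) (tt N14767 (iv D17825)) (tt N19833 (iv F36816)) (tt N20413 (iv F38210)) (tt N14768 F32068))
theorem Q17795 : ∀ i, i < 17795 → P i := stepQ 17794 Q17794 (allL N17794 (tt N18614 (iv F33953)) (tt N20414 D20450) (tt N14770 (iv D17826)) (tt N20415 D20451) (tt N14771 F32069) (tt N20413 (iv F38211)))
theorem Q17796 : ∀ i, i < 17796 → P i := stepQ 17795 Q17795 (allL N17795 (tt N15420 (iv F32072)) (tt N14771 (iv D17827)) (tt N14806 F32070) (tt N20403 (iv F38191)) (tt N20414 (iv F38213)) (tt N14772 F32071))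
theorem Q17797 : ∀ i, i < 17797 → P i := stepQ 17796 Q17796 (allL N17796 (tt N15419 F32073) (tt N14773 F32074) (tt N18880 (iv F34634)) (tt N14772 (iv D17828)) (tt N18455 (iv F33555)) (tt N20403 (iv F38193)))
theorem Q17798 : ∀ i, i < 17798 → P i := stepQ 17797 Q17797 (allL N17797 (tt N15099 F32075) (tt N18455 (iv F33553)) (tt N15074 F32076) (tt N18453 (iv F33546)) (tt N14773 (iv D17829)) (tt N18452 (iv F33542)))
theorem Q17799 : ∀ i, i < 17799 → P i := stepQ 17798 Q17798 (allL N17798 (tt N16222 (iv F32079)) (tt N14774 (iv D17830)) (tt N16211 F32077) (tt N20402 (iv F38186)) (tt N16210 (iv F32080)) (tt N15100 F32078))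
theorem Q17800 : ∀ i, i < 17800 → P i := stepQ 17799 Q17799 (allL N17799 (tt N20316 (iv F37958)) (tt N16210 F32081) (tt N14775 F32082) (tt N16235 (iv F32083)) (tt N14774 (iv D17831)) (tt N16208 (iv F32084)))
theorem Q17801 : ∀ i, i < 17801 → P i := stepQ 17800 Q17800 (allL N17800 (tt N20317 (iv F37963)) (tt N15095 F32085) (tt N16208 F32086) (tt N14776 F32087) (tt N15094 F32088) (tt N14775 (iv D17832)))
theorem Q17802 : ∀ i, i < 17802 → P i := stepQ 17801 Q17801 (allL N17801 (tt N19126 (iv F35159)) (tt N14778 F32089) (tt N20416 D20452) (tt N14777 (iv D17833)) (tt N20417 D20453) (tt N18856 (iv F34551)))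
theorem Q17803 : ∀ i, i < 17803 → P i := stepQ 17802 Q17802 (allL N17802 (tt N14780 F32090) (tt N20417 (iv F38218)) (tt N20411 (iv F38208)) (tt N14802 F32091) (tt N14778 (iv D17834)) (tt N20418 D20454))
theorem Q17804 : ∀ i, i < 17804 → P i := stepQ 17803 Q17803 (allL N17803 (tt N20419 D20455) (tt N14779 (iv D17835)) (tt N19140 (iv F35187)) (tt N20404 (iv F38197)) (tt N20420 D20456) (tt N18868 (iv F34591)))
theorem Q17805 : ∀ i, i < 17805 → P i := stepQ 17804 Q17804 (allL N17804 (tt N20411 (iv F38207)) (tt N20420 (iv F38224)) (tt N14780 F32092) (tt N20421 D20457) (tt N14779 (iv D17836)) (tt N20422 D20458))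
theorem Q17806 : ∀ i, i < 17806 → P i := stepQ 17805 Q17805 (allL N17805 (tt N20418 (iv F38220)) (tt N19137 (iv F35181)) (tt N20422 (iv F38225)) (tt N14813 F32093) (tt N18866 (iv F34585)) (tt N14780 (iv D17837)))
theorem Q17807 : ∀ i, i < 17807 → P i := stepQ 17806 Q17806 (allL N17806 (tt N20376 (iv F38109)) (tt N14782 F32094) (tt N18569 (iv F33827)) (tt N15088 F32095) (tt N15432 F32096) (tt N14781 (iv D17838)))
theorem Q17808 : ∀ i, i < 17808 → P i := stepQ 17807 Q17807 (allL N17807 (tt N14785 F32097) (tt N20376 (iv F38110)) (tt N19163 (iv F35242)) (tt N15091 F32098) (tt N16204 F32099) (tt N14783 (iv D17839)))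
theorem Q17809 : ∀ i, i < 17809 → P i := stepQ 17808 Q17808 (allL N17808 (tt N19163 (iv F35240)) (tt N18864 (iv F34576)) (tt N14785 F32100) (tt N18863 (iv F34574)) (tt N19346 (iv F35664)) (tt N14784 (iv D17840)))
theorem Q17810 : ∀ i, i < 17810 → P i := stepQ 17809 Q17809 (allL N17809 (tt N15770 F32101) (tt N14787 F32102) (tt N15840 (iv F32105)) (tt N14786 (iv D17841)) (tt N14919 F32103) (tt N15767 F32104))
theorem Q17811 : ∀ i, i < 17811 → P i := stepQ 17810 Q17810 (allL N17810 (tt N15769 F32106) (tt N14788 F32107) (tt N18864 (iv F34577)) (tt N15767 F32108) (tt N15386 F32109) (tt N14786 (iv D17842)))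
theorem Q17812 : ∀ i, i < 17812 → P i := stepQ 17811 Q17811 (allL N17811 (tt N16882 F32110) (tt N14789 (iv D17843)) (tt N16879 F32111) (tt N18884 (iv F34647)) (tt N16878 F32112) (tt N18883 F34645))
theorem Q17813 : ∀ i, i < 17813 → P i := stepQ 17812 Q17812 (allL N17812 (tt N18885 (iv F34648)) (tt N17546 F32113) (tt N18836 (iv F34486)) (tt N17545 F32114) (tt N14791 (iv D17844)) (tt N18838 (iv F34493)))
theorem Q17814 : ∀ i, i < 17814 → P i := stepQ 17813 Q17813 (allL N17813 (tt N14793 F32115) (tt N18565 (iv F33819)) (tt N20423 D20459) (tt N14792 (iv D17845)) (tt N18491 (iv F33645)) (tt N18873 (iv F34611)))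
theorem Q17815 : ∀ i, i < 17815 → P i := stepQ 17814 Q17814 (allL N17814 (tt N20423 (iv F38226)) (tt N18855 (iv F34547)) (tt N14793 (iv D17846)) (tt N20423 (iv F38227)) (tt N20424 D20460) (tt N18874 (iv F34613)))
theorem Q17816 : ∀ i, i < 17816 → P i := stepQ 17815 Q17815 (allL N17815 (tt N18491 (iv F33643)) (tt N14794 F32116) (tt N20424 (iv F38228)) (tt N15839 F32117) (tt N14793 (iv D17847)) (tt N20425 D20461))
theorem Q17817 : ∀ i, i < 17817 → P i := stepQ 17816 Q17816 (allL N17816 (tt N18865 (iv F34580)) (tt N20425 (iv F38229)) (tt N18857 (iv F34553)) (tt N15840 F32118) (tt N18876 (iv F34617)) (tt N14794 (iv D17848)))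
theorem Q17818 : ∀ i, i < 17818 → P i := stepQ 17817 Q17817 (allL N17817 (tt N20401 (iv F38179)) (tt N14830 F32119) (tt N20426 D20462) (tt N14796 (iv D17849)) (tt N15410 F32120) (tt N14831 (iv F32121)))
theorem Q17819 : ∀ i, i < 17819 → P i := stepQ 17818 Q17818 (allL N17818 (tt N20400 (iv F38174)) (tt N14832 F32122) (tt N14797 F32123) (tt N14831 F32124) (tt N15409 F32125) (tt N14796 (iv D17850)))
theorem Q17820 : ∀ i, i < 17820 → P i := stepQ 17819 Q17819 (allL N17819 (tt N18613 (iv F33948)) (tt N14799 F32126) (tt N15409 F32127) (tt N18612 (iv F33946)) (tt N14797 (iv D17851)) (tt N15408 F32128))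
theorem Q17821 : ∀ i, i < 17821 → P i := stepQ 17820 Q17820 (allL N17820 (tt N14805 F32129) (tt N15408 F32130) (tt N15388 F32131) (tt N20096 (iv F37426)) (tt N14798 (iv D17852)) (tt N14799 F32132))
theorem Q17822 : ∀ i, i < 17822 → P i := stepQ 17821 Q17821 (allL N17821 (tt N14801 F32133) (tt N14808 F32134) (tt N20427 D20463) (tt N14800 (iv D17853)) (tt N20428 D20464) (tt N18852 (iv F34540)))
theorem Q17823 : ∀ i, i < 17823 → P i := stepQ 17822 Q17822 (allL N17822 (tt N20427 (iv F38236)) (tt N18874 (iv F34612)) (tt N14801 (iv D17854)) (tt N20429 D20465) (tt N20430 D20466) (tt N18855 (iv F34548)))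
theorem Q17824 : ∀ i, i < 17824 → P i := stepQ 17823 Q17823 (allL N17823 (tt N20428 (iv F38237)) (tt N14802 F32135) (tt N20430 (iv F38239)) (tt N20417 (iv F38219)) (tt N14801 (iv D17855)) (tt N20431 D20467))
theorem Q17825 : ∀ i, i < 17825 → P i := stepQ 17824 Q17824 (allL N17824 (tt N14813 F32136) (tt N20431 (iv F38240)) (tt N18876 (iv F34616)) (tt N20418 (iv F38221)) (tt N18857 (iv F34555)) (tt N14802 (iv D17856)))
theorem Q17826 : ∀ i, i < 17826 → P i := stepQ 17825 Q17825 (allL N17825 (tt N15388 F32137) (tt N15412 F32138) (tt N14805 F32139) (tt N19388 (iv F35744)) (tt N14804 (iv D17857)) (tt N14807 F32140))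
theorem Q17827 : ∀ i, i < 17827 → P i := stepQ 17826 Q17826 (allL N17826 (tt N15422 F32141) (tt N14807 F32142) (tt N20414 (iv F38212)) (tt N19387 (iv F35740)) (tt N14806 (iv D17858)) (tt N15412 F32143))
theorem Q17828 : ∀ i, i < 17828 → P i := stepQ 17827 Q17827 (allL N17827 (tt N14809 F32144) (tt N19004 (iv F34935)) (tt N14808 (iv D17859)) (tt N18871 (iv F34604)) (tt N20432 D20468) (tt N18858 (iv F34558)))
theorem Q17829 : ∀ i, i < 17829 → P i := stepQ 17828 Q17828 (allL N17828 (tt N14810 F32145) (tt N20428 (iv F38238)) (tt N20432 (iv F38242)) (tt N19129 (iv F35168)) (tt N14808 (iv D17860)) (tt N19174 (iv F35271)))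
theorem Q17830 : ∀ i, i < 17830 → P i := stepQ 17829 Q17829 (allL N17829 (tt N20433 D20469) (tt N14809 (iv D17861)) (tt N14811 F32146) (tt N20434 D20470) (tt N20435 D20471) (tt N18861 (iv F34567)))
theorem Q17831 : ∀ i, i < 17831 → P i := stepQ 17830 Q17830 (allL N17830 (tt N18871 (iv F34602)) (tt N20434 (iv F38244)) (tt N18870 (iv F34599)) (tt N14809 (iv D17862)) (tt N19213 (iv F35366)) (tt N18862 (iv F34569)))
theorem Q17832 : ∀ i, i < 17832 → P i := stepQ 17831 Q17831 (allL N17831 (tt N20432 (iv F38241)) (tt N20435 (iv F38245)) (tt N14810 F32147) (tt N20344 (iv F38032)) (tt N14809 (iv D17863)) (tt N20349 (iv F38043)))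
theorem Q17833 : ∀ i, i < 17833 → P i := stepQ 17832 Q17832 (allL N17832 (tt N19174 (iv F35270)) (tt N14813 F32148) (tt N20349 (iv F38044)) (tt N19137 (iv F35182)) (tt N18860 (iv F34565)) (tt N14810 (iv D17864)))
theorem Q17834 : ∀ i, i < 17834 → P i := stepQ 17833 Q17833 (allL N17833 (tt N14811 (iv D17865)) (tt N18873 (iv F34610)) (tt N20433 (iv F38243)) (tt N18566 (iv F33824)) (tt N20436 D20472) (tt N18565 F33821))
theorem Q17835 : ∀ i, i < 17835 → P i := stepQ 17834 Q17834 (allL N17834 (tt N20436 (iv F38249)) (tt N14812 F32149) (tt N20435 (iv F38246)) (tt N20437 D20473) (tt N14811 (iv D17866)) (tt N20438 D20474))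
theorem Q17836 : ∀ i, i < 17836 → P i := stepQ 17835 Q17835 (allL N17835 (tt N18686 (iv F34123)) (tt N20437 (iv F38250)) (tt N20439 D20475) (tt N14812 (iv D17867)) (tt N18684 (iv F34120)) (tt N20440 D20476))
theorem Q17837 : ∀ i, i < 17837 → P i := stepQ 17836 Q17836 (allL N17836 (tt N18876 (iv F34615)) (tt N20438 (iv F38254)) (tt N14813 F32150) (tt N20440 (iv F38256)) (tt N18865 (iv F34583)) (tt N14812 (iv D17868)))
theorem Q17838 : ∀ i, i < 17838 → P i := stepQ 17837 Q17837 (allL N17837 (tt N14818 F32151) (tt N20441 D20477) (tt N14814 (iv D17869)) (tt N20442 D20478) (tt N14816 F32152) (tt N20443 D20479))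
theorem Q17839 : ∀ i, i < 17839 → P i := stepQ 17838 Q17838 (allL N17838 (tt N14819 F32153) (tt N14834 F32154) (tt N20443 (iv F38264)) (tt N14815 F32155) (tt N20444 D20480) (tt N14814 (iv D17870)))
theorem Q17840 : ∀ i, i < 17840 → P i := stepQ 17839 Q17839 (allL N17839 (tt N20445 D20481) (tt N14816 (iv D17871)) (tt N14835 F32156) (tt N20446 D20482) (tt N20441 (iv F38258)) (tt N20447 D20483))
theorem Q17841 : ∀ i, i < 17841 → P i := stepQ 17840 Q17840 (allL N17840 (tt N14821 F32157) (tt N20446 (iv F38275)) (tt N16632 F32158) (tt N14816 (iv D17872)) (tt N17533 (iv F32160)) (tt N16631 F32159))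
theorem Q17842 : ∀ i, i < 17842 → P i := stepQ 17841 Q17841 (allL N17841 (tt N14822 F32161) (tt N20447 (iv F38280)) (tt N14817 F32162) (tt N16631 F32163) (tt N17521 (iv F32164)) (tt N14816 (iv D17873)))
theorem Q17843 : ∀ i, i < 17843 → P i := stepQ 17842 Q17842 (allL N17842 (tt N14823 F32165) (tt N14838 F32166) (tt N17521 F32167) (tt N18976 (iv F34858)) (tt N14817 (iv D17874)) (tt N20444 (iv F38271)))
theorem Q17844 : ∀ i, i < 17844 → P i := stepQ 17843 Q17843 (allL N17843 (tt N20448 D20484) (tt N14818 (iv D17875)) (tt N14826 F32168) (tt N20449 D20485) (tt N14820 F32169) (tt N20352 (iv F38055)))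
theorem Q17845 : ∀ i, i < 17845 → P i := stepQ 17844 Q17844 (allL N17844 (tt N20442 (iv F38259)) (tt N20449 (iv F38286)) (tt N20450 D20486) (tt N14818 (iv D17876)) (tt N20451 D20487) (tt N20452 D20488))
theorem Q17846 : ∀ i, i < 17846 → P i := stepQ 17845 Q17845 (allL N17845 (tt N20443 (iv F38263)) (tt N20352 (iv F38053)) (tt N14819 F32170) (tt N20452 (iv F38295)) (tt N17525 F32171) (tt N14818 (iv D17877)))
theorem Q17847 : ∀ i, i < 17847 → P i := stepQ 17846 Q17846 (allL N17846 (tt N20444 (iv F38267)) (tt N14827 F32172) (tt N17525 F32173) (tt N14973 F32174) (tt N14819 (iv D17878)) (tt N14823 F32175))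
theorem Q17848 : ∀ i, i < 17848 → P i := stepQ 17847 Q17847 (allL N17847 (tt N14820 (iv D17879)) (tt N20445 (iv F38272)) (tt N14828 F32176) (tt N20453 D20489) (tt N20448 (iv F38285)) (tt N14896 F32177))
theorem Q17849 : ∀ i, i < 17849 → P i := stepQ 17848 Q17848 (allL N17848 (tt N20453 (iv F38297)) (tt N14821 F32178) (tt N20454 D20490) (tt N14820 (iv D17880)) (tt N20455 D20491) (tt N14899 F32179))
theorem Q17850 : ∀ i, i < 17850 → P i := stepQ 17849 Q17849 (allL N17849 (tt N16632 F32180) (tt N20456 D20492) (tt N14821 (iv D17881)) (tt N16906 F32181) (tt N17531 (iv F32183)) (tt N16629 F32182))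
theorem Q17851 : ∀ i, i < 17851 → P i := stepQ 17850 Q17850 (allL N17850 (tt N17533 F32184) (tt N20455 (iv F38303)) (tt N17531 F32185) (tt N20451 (iv F38291)) (tt N14821 (iv D17882)) (tt N17499 F32186))
theorem Q17852 : ∀ i, i < 17852 → P i := stepQ 17851 Q17851 (allL N17851 (tt N18976 (iv F34856)) (tt N14829 F32187) (tt N17262 F32190) (tt N14823 (iv D17883)) (tt N14824 F32188) (tt N14973 F32189))
theorem Q17853 : ∀ i, i < 17853 → P i := stepQ 17852 Q17852 (allL N17852 (tt N18975 (iv F34853)) (tt N20426 (iv F38232)) (tt N14824 (iv D17884)) (tt N20426 (iv F38233)) (tt N17262 F32191) (tt N14825 F32192))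
theorem Q17854 : ∀ i, i < 17854 → P i := stepQ 17853 Q17853 (allL N17853 (tt N18974 (iv F34850)) (tt N14825 (iv D17885)) (tt N14831 F32193) (tt N14825 (iv F32195)) (tt N14972 F32194) (tt N20426 (iv F38235)))
theorem Q17855 : ∀ i, i < 17855 → P i := stepQ 17854 Q17854 (allL N17854 (tt N14826 (iv D17886)) (tt N14854 F32196) (tt N20448 (iv F38284)) (tt N20351 (iv F38051)) (tt N14828 F32197) (tt N20350 F38048))
theorem Q17856 : ∀ i, i < 17856 → P i := stepQ 17855 Q17855 (allL N17855 (tt N14831 (iv D17887)) (tt N14867 F32198) (tt N18974 F34852) (tt N20400 (iv F38177)) (tt N14974 F32199) (tt N20401 (iv F38183)))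
theorem Q17857 : ∀ i, i < 17857 → P i := stepQ 17856 Q17856 (allL N17856 (tt N20457 D20493) (tt N14833 (iv D17888)) (tt N20441 (iv F38257)) (tt N20458 D20494) (tt N14835 F32200) (tt N20459 D20495))
theorem Q17858 : ∀ i, i < 17858 → P i := stepQ 17857 Q17857 (allL N17857 (tt N14844 F32201) (tt N20458 (iv F38311)) (tt N20460 D20496) (tt N14833 (iv D17889)) (tt N20461 D20497) (tt N20462 D20498))
theorem Q17859 : ∀ i, i < 17859 → P i := stepQ 17858 Q17858 (allL N17858 (tt N14845 F32202) (tt N20459 (iv F38312)) (tt N14834 F32203) (tt N20462 (iv F38320)) (tt N20463 D20499) (tt N14833 (iv D17890)))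
theorem Q17860 : ∀ i, i < 17860 → P i := stepQ 17859 Q17859 (allL N17859 (tt N14846 F32204) (tt N20444 (iv F38268)) (tt N20463 (iv F38322)) (tt N18980 (iv F34870)) (tt N14834 (iv D17891)) (tt N14838 F32205))
theorem Q17861 : ∀ i, i < 17861 → P i := stepQ 17860 Q17860 (allL N17860 (tt N14835 (iv D17892)) (tt N14847 F32206) (tt N20445 (iv F38273)) (tt N20464 D20500) (tt N20457 (iv F38310)) (tt N20465 D20501))
theorem Q17862 : ∀ i, i < 17862 → P i := stepQ 17861 Q17861 (allL N17861 (tt N20464 (iv F38324)) (tt N14836 F32207) (tt N15108 (iv F32208)) (tt N14835 (iv D17893)) (tt N20466 D20502) (tt N14876 (iv F32209)))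
theorem Q17863 : ∀ i, i < 17863 → P i := stepQ 17862 Q17862 (allL N17862 (tt N20465 (iv F38328)) (tt N14837 F32210) (tt N20447 (iv F38281)) (tt N14876 F32211) (tt N20467 D20503) (tt N14835 (iv D17894)))
theorem Q17864 : ∀ i, i < 17864 → P i := stepQ 17863 Q17863 (allL N17863 (tt N14851 F32212) (tt N20466 (iv F38332)) (tt N14879 F32213) (tt N20461 (iv F38317)) (tt N14836 (iv D17895)) (tt N20468 D20504))
theorem Q17865 : ∀ i, i < 17865 → P i := stepQ 17864 Q17864 (allL N17864 (tt N14853 F32214) (tt N20467 (iv F38334)) (tt N14838 F32215) (tt N20469 D20505) (tt N14837 (iv D17896)) (tt N20463 (iv F38323)))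
theorem Q17866 : ∀ i, i < 17866 → P i := stepQ 17865 Q17865 (allL N17865 (tt N14993 F32216) (tt N20470 D20506) (tt N14839 (iv D17897)) (tt N20471 D20507) (tt N18941 (iv F34780)) (tt N20472 D20508))
theorem Q17867 : ∀ i, i < 17867 → P i := stepQ 17866 Q17866 (allL N17866 (tt N14994 F32217) (tt N14842 F32218) (tt N20472 (iv F38346)) (tt N14840 F32219) (tt N20473 D20509) (tt N14839 (iv D17898)))
theorem Q17868 : ∀ i, i < 17868 → P i := stepQ 17867 Q17867 (allL N17867 (tt N20474 D20510) (tt N14841 (iv D17899)) (tt N20470 (iv F38341)) (tt N20475 D20511) (tt N18943 (iv F34785)) (tt N20476 D20512))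
theorem Q17869 : ∀ i, i < 17869 → P i := stepQ 17868 Q17868 (allL N17868 (tt N18946 (iv F34793)) (tt N20475 (iv F38351)) (tt N20462 (iv F38319)) (tt N14841 (iv D17900)) (tt N18965 (iv F34832)) (tt N20460 F38315))
theorem Q17870 : ∀ i, i < 17870 → P i := stepQ 17869 Q17869 (allL N17869 (tt N18947 (iv F34796)) (tt N20476 (iv F38352)) (tt N14842 F32220) (tt N20460 (iv F38314)) (tt N18964 (iv F34831)) (tt N14841 (iv D17901)))
theorem Q17871 : ∀ i, i < 17871 → P i := stepQ 17870 Q17870 (allL N17870 (tt N18948 (iv F34799)) (tt N20473 (iv F38349)) (tt N18964 (iv F34830)) (tt N18985 (iv F34882)) (tt N14842 (iv D17902)) (tt N18944 (iv F34790)))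
theorem Q17872 : ∀ i, i < 17872 → P i := stepQ 17871 Q17871 (allL N17871 (tt N14843 (iv D17903)) (tt N20457 (iv F38309)) (tt N14854 F32221) (tt N20477 D20513) (tt N14847 F32222) (tt N20478 D20514))
theorem Q17873 : ∀ i, i < 17873 → P i := stepQ 17872 Q17872 (allL N17872 (tt N20477 (iv F38353)) (tt N14844 F32223) (tt N20479 D20515) (tt N14843 (iv D17904)) (tt N20479 (iv F40246)) (tt N20480 D20517))
theorem Q17874 : ∀ i, i < 17874 → P i := stepQ 17873 Q17873 (allL N17873 (tt N20478 (iv F38354)) (tt N14845 F32224) (tt N14856 F32225) (tt N20480 (iv F38359)) (tt N20372 (iv F38098)) (tt N14843 (iv D17905)))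
theorem Q17875 : ∀ i, i < 17875 → P i := stepQ 17874 Q17874 (allL N17874 (tt N20460 (iv F38313)) (tt N20481 D20518) (tt N14844 (iv D17906)) (tt N18947 (iv F34798)) (tt N20481 (iv F40242)) (tt N18946 F34795))
theorem Q17876 : ∀ i, i < 17876 → P i := stepQ 17875 Q17875 (allL N17875 (tt N20461 (iv F38316)) (tt N20479 (iv F40244)) (tt N20481 (iv F40241)) (tt N14851 F32226) (tt N14844 (iv D17907)) (tt N20482 D20520))
theorem Q17877 : ∀ i, i < 17877 → P i := stepQ 17876 Q17876 (allL N17876 (tt N20462 (iv F38318)) (tt N20480 (iv F38358)) (tt N18946 (iv F34794)) (tt N14845 F32227) (tt N20483 D20521) (tt N14844 (iv D17908)))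
theorem Q17878 : ∀ i, i < 17878 → P i := stepQ 17877 Q17877 (allL N17877 (tt N20463 (iv F38321)) (tt N20372 (iv F38097)) (tt N14846 F32228) (tt N20484 D20522) (tt N14845 (iv D17909)) (tt N14853 F32229))
theorem Q17879 : ∀ i, i < 17879 → P i := stepQ 17878 Q17878 (allL N17878 (tt N14848 F32230) (tt N20464 (iv F38325)) (tt N19754 (iv F36678)) (tt N14847 (iv D17910)) (tt N20485 D20523) (tt N20486 D20524))
theorem Q17880 : ∀ i, i < 17880 → P i := stepQ 17879 Q17879 (allL N17879 (tt N14849 F32231) (tt N20465 (iv F38329)) (tt N14862 F32232) (tt N20486 (iv F38366)) (tt N20487 D20525) (tt N14847 (iv D17911)))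
theorem Q17881 : ∀ i, i < 17881 → P i := stepQ 17880 Q17880 (allL N17880 (tt N19754 (iv F36677)) (tt N20488 D20526) (tt N14848 (iv D17912)) (tt N19752 (iv F36674)) (tt N20489 D20527) (tt N20490 D20528))
theorem Q17882 : ∀ i, i < 17882 → P i := stepQ 17881 Q17881 (allL N17881 (tt N20485 (iv F38363)) (tt N14851 F32233) (tt N20489 (iv F38372)) (tt N20479 (iv F40245)) (tt N14848 (iv D17913)) (tt N20491 D20529))
theorem Q17883 : ∀ i, i < 17883 → P i := stepQ 17882 Q17882 (allL N17882 (tt N20486 (iv F38364)) (tt N14852 F32234) (tt N20490 (iv F38374)) (tt N14849 F32235) (tt N20492 D20530) (tt N14848 (iv D17914)))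
theorem Q17884 : ∀ i, i < 17884 → P i := stepQ 17883 Q17883 (allL N17883 (tt N20487 (iv F38367)) (tt N14853 F32236) (tt N14864 F32237) (tt N20493 D20531) (tt N14849 (iv D17915)) (tt N20372 (iv F38099)))
theorem Q17885 : ∀ i, i < 17885 → P i := stepQ 17884 Q17884 (allL N17884 (tt N15106 F32238) (tt N14850 (iv D17916)) (tt N20488 (iv F38369)) (tt N14873 F32239) (tt N20494 D20532) (tt N14872 F32240))
theorem Q17886 : ∀ i, i < 17886 → P i := stepQ 17885 Q17885 (allL N17885 (tt N14879 F32241) (tt N20494 (iv F38379)) (tt N14851 F32242) (tt N18795 (iv F34351)) (tt N14850 (iv D17917)) (tt N20495 D20533))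
theorem Q17887 : ∀ i, i < 17887 → P i := stepQ 17886 Q17886 (allL N17886 (tt N20468 (iv F38336)) (tt N20491 (iv F38375)) (tt N20495 (iv F38381)) (tt N20482 (iv F38361)) (tt N20496 D20534) (tt N14851 (iv D17918)))
theorem Q17888 : ∀ i, i < 17888 → P i := stepQ 17887 Q17887 (allL N17887 (tt N14877 F32243) (tt N20492 (iv F38376)) (tt N14874 F32244) (tt N20497 D20535) (tt N14852 (iv D17919)) (tt N20496 (iv F38385)))
theorem Q17889 : ∀ i, i < 17889 → P i := stepQ 17888 Q17888 (allL N17888 (tt N20469 (iv F38339)) (tt N20493 (iv F38377)) (tt N20498 D20536) (tt N14853 (iv D17920)) (tt N20497 (iv F38387)) (tt N20484 (iv F38362)))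
theorem Q17890 : ∀ i, i < 17890 → P i := stepQ 17889 Q17889 (allL N17889 (tt N14855 F32245) (tt N20351 (iv F38050)) (tt N20499 D20537) (tt N14854 (iv D17921)) (tt N20367 (iv F38090)) (tt N20333 (iv F38007)))
theorem Q17891 : ∀ i, i < 17891 → P i := stepQ 17890 Q17890 (allL N17890 (tt N14856 F32246) (tt N20350 (iv F38046)) (tt N20478 (iv F38355)) (tt N20333 (iv F38005)) (tt N20368 (iv F38093)) (tt N14854 (iv D17922)))
theorem Q17892 : ∀ i, i < 17892 → P i := stepQ 17891 Q17891 (allL N17891 (tt N20499 (iv F38388)) (tt N20324 (iv F37978)) (tt N14855 (iv D17923)) (tt N20500 D20538) (tt N20371 (iv F38096)) (tt N20322 F37977))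
theorem Q17893 : ∀ i, i < 17893 → P i := stepQ 17892 Q17892 (allL N17892 (tt N20501 D20539) (tt N14858 (iv D17924)) (tt N18988 (iv F34888)) (tt N14983 F32247) (tt N15356 F32248) (tt N14859 F32249))
theorem Q17894 : ∀ i, i < 17894 → P i := stepQ 17893 Q17893 (allL N17893 (tt N14859 (iv D17925)) (tt N14974 F32250) (tt N18986 (iv F34884)) (tt N20502 D20540) (tt N14867 F32251) (tt N20501 (iv F38392)))
theorem Q17895 : ∀ i, i < 17895 → P i := stepQ 17894 Q17894 (allL N17894 (tt N20502 (iv F38393)) (tt N14860 F32252) (tt N20503 D20541) (tt N14859 (iv D17926)) (tt N15359 (iv F32254)) (tt N14983 F32253))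
theorem Q17896 : ∀ i, i < 17896 → P i := stepQ 17895 Q17895 (allL N17895 (tt N14863 F32255) (tt N14898 F32256) (tt N19750 (iv F36668)) (tt N20367 (iv F38089)) (tt N14861 (iv D17927)) (tt N15139 F32257))
theorem Q17897 : ∀ i, i < 17897 → P i := stepQ 17896 Q17896 (allL N17896 (tt N14864 F32258) (tt N14897 F32259) (tt N20487 (iv F38368)) (tt N15138 F32260) (tt N14862 (iv D17928)) (tt N20368 (iv F38094)))
theorem Q17898 : ∀ i, i < 17898 → P i := stepQ 17897 Q17897 (allL N17897 (tt N20504 D20542) (tt N14865 (iv D17929)) (tt N16466 F32261) (tt N15344 F32262) (tt N14866 F32263) (tt N15356 F32264))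
theorem Q17899 : ∀ i, i < 17899 → P i := stepQ 17898 Q17898 (allL N17898 (tt N14866 (iv D17930)) (tt N20401 (iv F38180)) (tt N18994 (iv F34907)) (tt N15425 F32265) (tt N20504 (iv F38403)) (tt N14867 F32266))
theorem Q17900 : ∀ i, i < 17900 → P i := stepQ 17899 Q17899 (allL N17899 (tt N14868 F32267) (tt N20400 F38178) (tt N20402 (iv F38185)) (tt N14867 (iv D17931)) (tt N20505 D20543) (tt N15425 F32268))
theorem Q17901 : ∀ i, i < 17901 → P i := stepQ 17900 Q17900 (allL N17900 (tt N20402 (iv F38184)) (tt N15420 F32269) (tt N14868 (iv D17932)) (tt N16222 (iv F32271)) (tt N20506 D20544) (tt N15416 F32270))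
theorem Q17902 : ∀ i, i < 17902 → P i := stepQ 17901 Q17901 (allL N17901 (tt N20505 (iv F38405)) (tt N14869 F32272) (tt N20506 (iv F38412)) (tt N15359 F32273) (tt N14868 (iv D17933)) (tt N15348 F32274))
theorem Q17903 : ∀ i, i < 17903 → P i := stepQ 17902 Q17902 (allL N17902 (tt N18621 F33972) (tt N20490 (iv F38373)) (tt N14872 (iv D17934)) (tt N20507 D20545) (tt N20508 D20546) (tt N20488 F38371))
theorem Q17904 : ∀ i, i < 17904 → P i := stepQ 17903 Q17903 (allL N17903 (tt N18624 (iv F33976)) (tt N14874 F32275) (tt N20508 (iv F38415)) (tt N18971 (iv F34842)) (tt N14872 (iv D17935)) (tt N20509 D20547))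
theorem Q17905 : ∀ i, i < 17905 → P i := stepQ 17904 Q17904 (allL N17904 (tt N14878 F32276) (tt N20509 (iv F38416)) (tt N20496 (iv F38384)) (tt N18972 (iv F34845)) (tt N20495 (iv F38382)) (tt N14874 (iv D17936)))
theorem Q17906 : ∀ i, i < 17906 → P i := stepQ 17905 Q17905 (allL N17905 (tt N18626 (iv F33980)) (tt N14878 F32277) (tt N18619 (iv F33967)) (tt N19001 (iv F34930)) (tt N15110 F32278) (tt N14875 (iv D17937)))
theorem Q17907 : ∀ i, i < 17907 → P i := stepQ 17906 Q17906 (allL N17906 (tt N14876 (iv D17938)) (tt N20486 (iv F38365)) (tt N18616 F33962) (tt N20465 (iv F38331)) (tt N20510 D20548) (tt N20464 F38327))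
theorem Q17908 : ∀ i, i < 17908 → P i := stepQ 17907 Q17907 (allL N17907 (tt N20510 (iv F38417)) (tt N14877 F32279) (tt N18617 (iv F33964)) (tt N20511 D20549) (tt N14876 (iv D17939)) (tt N20512 D20550))
theorem Q17909 : ∀ i, i < 17909 → P i := stepQ 17908 Q17908 (allL N17908 (tt N20497 (iv F38386)) (tt N20511 (iv F38418)) (tt N20513 D20551) (tt N14877 (iv D17940)) (tt N20469 (iv F38340)) (tt N20514 D20552))
theorem Q17910 : ∀ i, i < 17910 → P i := stepQ 17909 Q17909 (allL N17909 (tt N20496 (iv F38383)) (tt N20512 (iv F38419)) (tt N14878 F32280) (tt N20514 (iv F38420)) (tt N20468 (iv F38338)) (tt N14877 (iv D17941)))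
theorem Q17911 : ∀ i, i < 17911 → P i := stepQ 17910 Q17910 (allL N17910 (tt N20495 (iv F38380)) (tt N15110 F32281) (tt N20468 (iv F38337)) (tt N18815 (iv F34420)) (tt N14878 (iv D17942)) (tt N14879 F32282))
theorem Q17912 : ∀ i, i < 17912 → P i := stepQ 17911 Q17911 (allL N17911 (tt N19386 (iv F35735)) (tt N14907 F32283) (tt N14880 (iv D17943)) (tt N20515 D20553) (tt N20516 D20554) (tt N14883 F32284))
theorem Q17913 : ∀ i, i < 17913 → P i := stepQ 17912 Q17912 (allL N17912 (tt N19387 (iv F35738)) (tt N14881 F32285) (tt N20516 (iv F38426)) (tt N15422 F32286) (tt N14880 (iv D17944)) (tt N15423 F32287))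
theorem Q17914 : ∀ i, i < 17914 → P i := stepQ 17913 Q17913 (allL N17913 (tt N14883 F32288) (tt N19369 (iv F35707)) (tt N14882 (iv D17945)) (tt N20517 D20555) (tt N15429 F32289) (tt N19386 (iv F35736)))
theorem Q17915 : ∀ i, i < 17915 → P i := stepQ 17914 Q17914 (allL N17914 (tt N20518 D20556) (tt N14883 (iv D17946)) (tt N14884 F32290) (tt N20519 D20557) (tt N15434 F32291) (tt N14907 F32292))
theorem Q17916 : ∀ i, i < 17916 → P i := stepQ 17915 Q17915 (allL N17915 (tt N20517 (iv F38428)) (tt N20519 (iv F38438)) (tt N20520 D20558) (tt N14883 (iv D17947)) (tt N20521 D20559) (tt N20515 (iv F38423)))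
theorem Q17917 : ∀ i, i < 17917 → P i := stepQ 17916 Q17916 (allL N17916 (tt N14884 (iv D17948)) (tt N14915 F32293) (tt N20518 (iv F38433)) (tt N14905 F32294) (tt N15436 F32295) (tt N14906 F32296))
theorem Q17918 : ∀ i, i < 17918 → P i := stepQ 17917 Q17917 (allL N17917 (tt N14886 F32297) (tt N18591 (iv F33885)) (tt N15335 F32299) (tt N14885 (iv D17949)) (tt N20522 D20560) (tt N15350 F32298))
theorem Q17919 : ∀ i, i < 17919 → P i := stepQ 17918 Q17918 (allL N17918 (tt N15335 F32300) (tt N19662 (iv F36459)) (tt N14886 (iv D17950)) (tt N15331 F32302) (tt N20523 D20561) (tt N15352 F32301))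
theorem Q17920 : ∀ i, i < 17920 → P i := stepQ 17919 Q17919 (allL N17919 (tt N20522 (iv F38446)) (tt N14887 F32303) (tt N20523 (iv F38450)) (tt N14892 F32304) (tt N14886 (iv D17951)) (tt N20524 D20562))
theorem Q17921 : ∀ i, i < 17921 → P i := stepQ 17920 Q17920 (allL N17920 (tt N18597 (iv F33908)) (tt N20524 (iv F38451)) (tt N19666 (iv F36468)) (tt N14894 F32305) (tt N17590 F32306) (tt N14887 (iv D17952)))
theorem Q17922 : ∀ i, i < 17922 → P i := stepQ 17921 Q17921 (allL N17921 (tt N18598 (iv F33912)) (tt N15354 F32307) (tt N17578 F32310) (tt N14888 (iv D17953)) (tt N17579 F32308) (tt N14895 F32309))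
theorem Q17923 : ∀ i, i < 17923 → P i := stepQ 17922 Q17922 (allL N17922 (tt N14891 F32311) (tt N20525 D20563) (tt N14889 (iv D17954)) (tt N20454 (iv F38301)) (tt N20526 D20564) (tt N18559 (iv F33802)))
theorem Q17924 : ∀ i, i < 17924 → P i := stepQ 17923 Q17923 (allL N17923 (tt N14892 F32312) (tt N18600 (iv F33919)) (tt N20526 (iv F38455)) (tt N20522 (iv F38448)) (tt N14889 (iv D17955)) (tt N20527 D20565))
theorem Q17925 : ∀ i, i < 17925 → P i := stepQ 17924 Q17924 (allL N17924 (tt N14893 F32313) (tt N18601 (iv F33921)) (tt N14898 F32314) (tt N20528 D20566) (tt N14890 (iv D17956)) (tt N15351 F32315))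
theorem Q17926 : ∀ i, i < 17926 → P i := stepQ 17925 Q17925 (allL N17925 (tt N20454 (iv F38300)) (tt N18547 F33768) (tt N20453 (iv F38298)) (tt N14891 (iv D17957)) (tt N20529 D20567) (tt N18560 (iv F33806)))
theorem Q17927 : ∀ i, i < 17927 → P i := stepQ 17926 Q17926 (allL N17926 (tt N20526 (iv F38454)) (tt N18562 (iv F33811)) (tt N14892 F32316) (tt N20530 D20568) (tt N14891 (iv D17958)) (tt N20531 D20569))
theorem Q17928 : ∀ i, i < 17928 → P i := stepQ 17927 Q17927 (allL N17927 (tt N20527 (iv F38456)) (tt N14894 F32317) (tt N20531 (iv F38460)) (tt N20524 (iv F38452)) (tt N18608 (iv F33936)) (tt N14892 (iv D17959)))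
theorem Q17929 : ∀ i, i < 17929 → P i := stepQ 17928 Q17928 (allL N17928 (tt N20528 (iv F38457)) (tt N14895 F32318) (tt N20532 D20570) (tt N14893 (iv D17960)) (tt N18607 (iv F33934)) (tt N15354 F32319))
theorem Q17930 : ∀ i, i < 17930 → P i := stepQ 17929 Q17929 (allL N17929 (tt N17617 F32320) (tt N18504 (iv F33670)) (tt N14895 (iv D17961)) (tt N17577 F32323) (tt N17587 F32321) (tt N17578 F32322))
theorem Q17931 : ∀ i, i < 17931 → P i := stepQ 17930 Q17930 (allL N17930 (tt N20447 (iv F38279)) (tt N14896 (iv D17962)) (tt N20465 (iv F38330)) (tt N20533 D20571) (tt N18393 F33390) (tt N20445 F38274))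
theorem Q17932 : ∀ i, i < 17932 → P i := stepQ 17931 Q17931 (allL N17931 (tt N14899 F32324) (tt N20533 (iv F38463)) (tt N18560 (iv F33807)) (tt N14896 (iv D17963)) (tt N17009 F32325) (tt N20453 (iv F38299)))
theorem Q17933 : ∀ i, i < 17933 → P i := stepQ 17932 Q17932 (allL N17932 (tt N14901 F32326) (tt N20368 (iv F38092)) (tt N18395 (iv F33394)) (tt N15341 F32327) (tt N20350 (iv F38047)) (tt N14897 (iv D17964)))
theorem Q17934 : ∀ i, i < 17934 → P i := stepQ 17933 Q17933 (allL N17933 (tt N14902 F32328) (tt N20367 (iv F38088)) (tt N20534 D20572) (tt N14898 (iv D17965)) (tt N20351 (iv F38052)) (tt N15340 F32329))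
theorem Q17935 : ∀ i, i < 17935 → P i := stepQ 17934 Q17934 (allL N17934 (tt N18560 (iv F33804)) (tt N20535 D20573) (tt N14899 (iv D17966)) (tt N18559 F33803) (tt N17523 F32330) (tt N20454 (iv F38302)))
theorem Q17936 : ∀ i, i < 17936 → P i := stepQ 17935 Q17935 (allL N17935 (tt N18395 (iv F33393)) (tt N17525 F32331) (tt N14901 F32332) (tt N17524 F32333) (tt N20352 (iv F38054)) (tt N14900 (iv D17967)))
theorem Q17937 : ∀ i, i < 17937 → P i := stepQ 17936 Q17936 (allL N17936 (tt N20534 (iv F38466)) (tt N20344 (iv F38030)) (tt N14902 (iv D17968)) (tt N20435 F38247) (tt N20342 (iv F38028)) (tt N15343 F32334))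
theorem Q17938 : ∀ i, i < 17938 → P i := stepQ 17937 Q17937 (allL N17937 (tt N14903 (iv D17969)) (tt N19733 (iv F36627)) (tt N15059 F32335) (tt N20536 D20574) (tt N14905 F32336) (tt N19730 (iv F36619)))
theorem Q17939 : ∀ i, i < 17939 → P i := stepQ 17938 Q17938 (allL N17938 (tt N20536 (iv F38471)) (tt N14904 F32337) (tt N20537 D20575) (tt N14903 (iv D17970)) (tt N15437 F32338) (tt N19731 (iv F36622)))
theorem Q17940 : ∀ i, i < 17940 → P i := stepQ 17939 Q17939 (allL N17939 (tt N14907 F32339) (tt N20538 D20576) (tt N14906 (iv D17971)) (tt N17568 F32340) (tt N20539 D20577) (tt N20518 (iv F38435)))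
theorem Q17941 : ∀ i, i < 17941 → P i := stepQ 17940 Q17940 (allL N17940 (tt N14908 F32341) (tt N19732 (iv F36624)) (tt N20539 (iv F38477)) (tt N19603 (iv F36325)) (tt N14906 (iv D17972)) (tt N20540 D20578))
theorem Q17942 : ∀ i, i < 17942 → P i := stepQ 17941 Q17941 (allL N17941 (tt N17568 F32342) (tt N20515 (iv F38422)) (tt N17567 F32343) (tt N14907 (iv D17973)) (tt N20541 D20579) (tt N20519 (iv F38440)))
theorem Q17943 : ∀ i, i < 17943 → P i := stepQ 17942 Q17942 (allL N17942 (tt N20539 (iv F38476)) (tt N20516 (iv F38425)) (tt N14908 F32344) (tt N20542 D20580) (tt N14907 (iv D17974)) (tt N20543 D20581))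
theorem Q17944 : ∀ i, i < 17944 → P i := stepQ 17943 Q17943 (allL N17943 (tt N20540 (iv F38478)) (tt N14909 F32345) (tt N20543 (iv F38483)) (tt N19604 (iv F36328)) (tt N15426 F32346) (tt N14908 (iv D17975)))
theorem Q17945 : ∀ i, i < 17945 → P i := stepQ 17944 Q17944 (allL N17944 (tt N14914 F32347) (tt N15413 F32348) (tt N19374 (iv F35718)) (tt N14918 F32349) (tt N19388 (iv F35745)) (tt N14911 (iv D17976)))
theorem Q17946 : ∀ i, i < 17946 → P i := stepQ 17945 Q17945 (allL N17945 (tt N14912 (iv D17977)) (tt N19367 (iv F35704)) (tt N14915 F32350) (tt N19364 (iv F35698)) (tt N20544 D20582) (tt N19389 (iv F35747)))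
theorem Q17947 : ∀ i, i < 17947 → P i := stepQ 17946 Q17946 (allL N17946 (tt N20544 (iv F38485)) (tt N14913 F32351) (tt N14916 F32352) (tt N20545 D20583) (tt N14912 (iv D17978)) (tt N20356 (iv F38069)))
theorem Q17948 : ∀ i, i < 17948 → P i := stepQ 17947 Q17947 (allL N17947 (tt N19373 (iv F35714)) (tt N20545 (iv F38490)) (tt N20546 D20584) (tt N14913 (iv D17979)) (tt N18658 (iv F34070)) (tt N20547 D20585))
theorem Q17949 : ∀ i, i < 17949 → P i := stepQ 17948 Q17948 (allL N17948 (tt N19374 (iv F35717)) (tt N20356 (iv F38068)) (tt N14914 F32353) (tt N20547 (iv F38496)) (tt N19392 (iv F35751)) (tt N14913 (iv D17980)))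
theorem Q17950 : ∀ i, i < 17950 → P i := stepQ 17949 Q17949 (allL N17949 (tt N14916 F32354) (tt N15436 F32355) (tt N20544 (iv F38487)) (tt N20354 (iv F38063)) (tt N14915 (iv D17981)) (tt N20355 (iv F38067)))
theorem Q17951 : ∀ i, i < 17951 → P i := stepQ 17950 Q17950 (allL N17950 (tt N14919 F32356) (tt N15773 F32357) (tt N20548 D20586) (tt N14917 (iv D17982)) (tt N15770 F32358) (tt N15043 (iv F32359)))
theorem Q17952 : ∀ i, i < 17952 → P i := stepQ 17951 Q17951 (allL N17951 (tt N14920 F32360) (tt N15774 F32361) (tt N14918 F32362) (tt N15043 F32363) (tt N15044 F32364) (tt N14917 (iv D17983)))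
theorem Q17953 : ∀ i, i < 17953 → P i := stepQ 17952 Q17952 (allL N17952 (tt N20548 (iv F38497)) (tt N18486 (iv F33627)) (tt N14919 (iv D17984)) (tt N20549 D20587) (tt N15840 F32365) (tt N15841 (iv F32366)))
theorem Q17954 : ∀ i, i < 17954 → P i := stepQ 17953 Q17953 (allL N17953 (tt N15043 F32367) (tt N15385 F32368) (tt N15841 F32369) (tt N14920 F32370) (tt N15041 F32371) (tt N14919 (iv D17985)))
theorem Q17955 : ∀ i, i < 17955 → P i := stepQ 17954 Q17954 (allL N17954 (tt N14922 F32372) (tt N18606 (iv F33932)) (tt N19149 (iv F35211)) (tt N20550 D20588) (tt N14921 (iv D17986)) (tt N20551 D20589))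
theorem Q17956 : ∀ i, i < 17956 → P i := stepQ 17955 Q17955 (allL N17955 (tt N20550 (iv F38502)) (tt N14923 F32373) (tt N20552 D20590) (tt N14922 (iv D17987)) (tt N18605 (iv F33930)) (tt N17616 (iv F32374)))
theorem Q17957 : ∀ i, i < 17957 → P i := stepQ 17956 Q17956 (allL N17956 (tt N20551 (iv F38504)) (tt N14924 F32375) (tt N15862 F32376) (tt N17616 F32377) (tt N18604 (iv F33928)) (tt N14922 (iv D17988)))
theorem Q17958 : ∀ i, i < 17958 → P i := stepQ 17957 Q17957 (allL N17957 (tt N16160 F32378) (tt N14928 F32379) (tt N16065 F32380) (tt N14926 (iv D17989)) (tt N16067 F32381) (tt N18823 (iv F34443)))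
theorem Q17959 : ∀ i, i < 17959 → P i := stepQ 17958 Q17958 (allL N17958 (tt N16081 F32382) (tt N14931 (iv D17990)) (tt N19182 (iv F35288)) (tt N18834 (iv F34479)) (tt N16085 F32383) (tt N18832 (iv F34475)))
theorem Q17960 : ∀ i, i < 17960 → P i := stepQ 17959 Q17959 (allL N17959 (tt N20553 D20591) (tt N14932 (iv D17991)) (tt N15824 F32384) (tt N15192 F32385) (tt N14933 F32386) (tt N15184 F32387))
theorem Q17961 : ∀ i, i < 17961 → P i := stepQ 17960 Q17960 (allL N17960 (tt N14933 (iv D17992)) (tt N19700 (iv F36540)) (tt N15827 F32388) (tt N17130 F32389) (tt N20553 (iv F38512)) (tt N18519 F33714))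
theorem Q17962 : ∀ i, i < 17962 → P i := stepQ 17961 Q17961 (allL N17961 (tt N14935 F32390) (tt N15551 F32391) (tt N20554 D20592) (tt N14934 (iv D17993)) (tt N20555 D20593) (tt N17098 F32392))
theorem Q17963 : ∀ i, i < 17963 → P i := stepQ 17962 Q17962 (allL N17962 (tt N20554 (iv F38514)) (tt N19710 (iv F36560)) (tt N14935 (iv D17994)) (tt N20556 D20594) (tt N20557 D20595) (tt N17103 F32393))
theorem Q17964 : ∀ i, i < 17964 → P i := stepQ 17963 Q17963 (allL N17963 (tt N20555 (iv F38516)) (tt N14936 F32394) (tt N20557 (iv F38521)) (tt N14939 F32395) (tt N14935 (iv D17995)) (tt N17157 F32396))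
theorem Q17965 : ∀ i, i < 17965 → P i := stepQ 17964 Q17964 (allL N17964 (tt N14938 F32397) (tt N15214 F32398) (tt N14937 (iv D17996)) (tt N14938 F32399) (tt N20558 D20596) (tt N15253 F32400))
theorem Q17966 : ∀ i, i < 17966 → P i := stepQ 17965 Q17965 (allL N17965 (tt N14939 F32401) (tt N15257 F32402) (tt N20558 (iv F38525)) (tt N20555 (iv F38518)) (tt N14937 (iv D17997)) (tt N20559 D20597))
theorem Q17967 : ∀ i, i < 17967 → P i := stepQ 17966 Q17966 (allL N17966 (tt N20558 (iv F38523)) (tt N15245 F32403) (tt N14939 F32404) (tt N20560 D20598) (tt N14938 (iv D17998)) (tt N20561 D20599))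
theorem Q17968 : ∀ i, i < 17968 → P i := stepQ 17967 Q17967 (allL N17967 (tt N20559 (iv F38526)) (tt N14940 F32405) (tt N20561 (iv F38532)) (tt N17157 F32406) (tt N15256 F32407) (tt N14939 (iv D17999)))
theorem Q17969 : ∀ i, i < 17969 → P i := stepQ 17968 Q17968 (allL N17968 (tt N14948 F32408) (tt N18301 (iv F33213)) (tt N14943 F32409) (tt N20562 D20600) (tt N14942 (iv D18000)) (tt N15792 F32410))
theorem Q17970 : ∀ i, i < 17970 → P i := stepQ 17969 Q17969 (allL N17969 (tt N19867 (iv F36882)) (tt N14946 F32411) (tt N19863 (iv F36873)) (tt N15833 F32412) (tt N14945 (iv D18001)) (tt N20563 D20601))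
theorem Q17971 : ∀ i, i < 17971 → P i := stepQ 17970 Q17970 (allL N17970 (tt N18335 (iv F33280)) (tt N20563 (iv F38537)) (tt N18334 (iv F33279)) (tt N15836 F32413) (tt N20564 D20602) (tt N14946 (iv D18002)))
theorem Q17972 : ∀ i, i < 17972 → P i := stepQ 17971 Q17971 (allL N17971 (tt N18001 (iv F32491)) (tt N15845 F32414) (tt N18005 (iv F32500)) (tt N20565 D20603) (tt N14947 (iv D18003)) (tt N20564 (iv F38543)))
theorem Q17973 : ∀ i, i < 17973 → P i := stepQ 17972 Q17972 (allL N17972 (tt N20562 (iv F38534)) (tt N15846 F32415) (tt N20566 D20604) (tt N14948 (iv D18004)) (tt N20565 (iv F38545)) (tt N15808 F32416))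
theorem Q17974 : ∀ i, i < 17974 → P i := stepQ 17973 Q17973 (allL N17973 (tt N19194 (iv F35322)) (tt N20567 D20605) (tt N14949 (iv D18005)) (tt N20472 (iv F38347)) (tt N19192 (iv F35319)) (tt N20471 (iv F38344)))
theorem Q17975 : ∀ i, i < 17975 → P i := stepQ 17974 Q17974 (allL N17974 (tt N19195 (iv F35327)) (tt N15823 F32417) (tt N20471 (iv F38343)) (tt N14950 F32418) (tt N20568 D20606) (tt N14949 (iv D18006)))
theorem Q17976 : ∀ i, i < 17976 → P i := stepQ 17975 Q17975 (allL N17975 (tt N15220 F32419) (tt N15253 F32420) (tt N15216 F32421) (tt N14951 (iv D18007)) (tt N20569 D20607) (tt N15214 F32422))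
theorem Q17977 : ∀ i, i < 17977 → P i := stepQ 17976 Q17976 (allL N17976 (tt N15246 F32423) (tt N15255 F32424) (tt N14952 F32425) (tt N20570 D20608) (tt N14951 (iv D18008)) (tt N20571 D20609))
theorem Q17978 : ∀ i, i < 17978 → P i := stepQ 17977 Q17977 (allL N17977 (tt N15247 F32426) (tt N14953 F32427) (tt N20571 (iv F38558)) (tt N15242 F32428) (tt N15243 F32429) (tt N14952 (iv D18009)))
theorem Q17979 : ∀ i, i < 17979 → P i := stepQ 17978 Q17978 (allL N17978 (tt N14956 F32430) (tt N20572 D20610) (tt N14954 (iv D18010)) (tt N20573 D20611) (tt N15815 F32431) (tt N20574 D20612))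
theorem Q17980 : ∀ i, i < 17980 → P i := stepQ 17979 Q17979 (allL N17979 (tt N14957 F32432) (tt N15817 F32433) (tt N20574 (iv F38564)) (tt N14955 F32434) (tt N18508 (iv F33681)) (tt N14954 (iv D18011)))
theorem Q17981 : ∀ i, i < 17981 → P i := stepQ 17980 Q17980 (allL N17980 (tt N20575 D20613) (tt N14956 (iv D18012)) (tt N14958 F32435) (tt N18627 F33987) (tt N19699 (iv F36538)) (tt N15912 (iv F32436)))
theorem Q17982 : ∀ i, i < 17982 → P i := stepQ 17981 Q17981 (allL N17981 (tt N20573 (iv F38562)) (tt N18627 (iv F33984)) (tt N20576 D20614) (tt N14956 (iv D18013)) (tt N18623 (iv F33975)) (tt N18444 (iv F33515)))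
theorem Q17983 : ∀ i, i < 17983 → P i := stepQ 17982 Q17982 (allL N17982 (tt N20574 (iv F38563)) (tt N15912 F32437) (tt N14957 F32438) (tt N18444 F33514) (tt N18445 (iv F33517)) (tt N14956 (iv D18014)))
theorem Q17984 : ∀ i, i < 17984 → P i := stepQ 17983 Q17983 (allL N17983 (tt N14958 (iv D18015)) (tt N20553 (iv F38509)) (tt N20575 (iv F38565)) (tt N15910 F32439) (tt N19700 (iv F36541)) (tt N15911 F32440))
theorem Q17985 : ∀ i, i < 17985 → P i := stepQ 17984 Q17984 (allL N17984 (tt N19292 (iv F35549)) (tt N14961 (iv D18016)) (tt N18982 (iv F34875)) (tt N20577 D20615) (tt N19287 (iv F35534)) (tt N20578 D20616))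
theorem Q17986 : ∀ i, i < 17986 → P i := stepQ 17985 Q17985 (allL N17985 (tt N15899 F32441) (tt N20577 (iv F38569)) (tt N15907 F32442) (tt N14961 (iv D18017)) (tt N20577 (iv F38570)) (tt N15905 (iv F32443)))
theorem Q17987 : ∀ i, i < 17987 → P i := stepQ 17986 Q17986 (allL N17986 (tt N15900 F32444) (tt N20578 (iv F38573)) (tt N14962 F32445) (tt N15905 F32446) (tt N20579 D20617) (tt N14961 (iv D18018)))
theorem Q17988 : ∀ i, i < 17988 → P i := stepQ 17987 Q17987 (allL N17987 (tt N15901 F32447) (tt N18985 (iv F34881)) (tt N20579 (iv F38576)) (tt N20473 (iv F38350)) (tt N14962 (iv D18019)) (tt N19289 (iv F35541)))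
theorem Q17989 : ∀ i, i < 17989 → P i := stepQ 17988 Q17988 (allL N17988 (tt N15905 F32448) (tt N19342 (iv F35652)) (tt N14963 (iv D18020)) (tt N15900 F32449) (tt N20173 (iv F37598)) (tt N15899 (iv F32450)))
theorem Q17990 : ∀ i, i < 17990 → P i := stepQ 17989 Q17989 (allL N17989 (tt N15907 F32451) (tt N15369 F32452) (tt N15899 F32453) (tt N14964 F32454) (tt N20195 (iv F37652)) (tt N14963 (iv D18021)))
theorem Q17991 : ∀ i, i < 17991 → P i := stepQ 17990 Q17990 (allL N17990 (tt N14969 F32455) (tt N15451 F32456) (tt N17002 F32457) (tt N18309 (iv F33237)) (tt N14967 (iv D18022)) (tt N18303 (iv F33220)))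
theorem Q17992 : ∀ i, i < 17992 → P i := stepQ 17991 Q17991 (allL N17991 (tt N17002 F32458) (tt N15450 F32459) (tt N14969 F32460) (tt N20580 D20618) (tt N14968 (iv D18023)) (tt N18305 (iv F33225)))
theorem Q17993 : ∀ i, i < 17993 → P i := stepQ 17992 Q17992 (allL N17992 (tt N20581 D20619) (tt N14970 (iv D18024)) (tt N18977 (iv F34860)) (tt N17257 F32461) (tt N18973 (iv F34848)) (tt N17256 F32462))
theorem Q17994 : ∀ i, i < 17994 → P i := stepQ 17993 Q17993 (allL N17993 (tt N14973 F32463) (tt N18980 (iv F34868)) (tt N17198 F32464) (tt N20444 (iv F38270)) (tt N14971 (iv D18025)) (tt N18976 (iv F34859)))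
theorem Q17995 : ∀ i, i < 17995 → P i := stepQ 17994 Q17994 (allL N17994 (tt N14972 (iv D18026)) (tt N20581 (iv F38580)) (tt N14974 F32465) (tt N17258 F32466) (tt N18974 (iv F34851)) (tt N17259 F32467))
theorem Q17996 : ∀ i, i < 17996 → P i := stepQ 17995 Q17995 (allL N17995 (tt N14975 F32468) (tt N20502 (iv F38394)) (tt N17265 F32469) (tt N14974 (iv D18027)) (tt N20582 D20620) (tt N15364 F32470))
theorem Q17997 : ∀ i, i < 17997 → P i := stepQ 17996 Q17996 (allL N17996 (tt N14976 F32471) (tt N20501 (iv F38389)) (tt N17259 F32472) (tt N15364 F32473) (tt N17278 (iv F32474)) (tt N14974 (iv D18028)))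
theorem Q17998 : ∀ i, i < 17998 → P i := stepQ 17997 Q17997 (allL N17997 (tt N20582 (iv F38583)) (tt N14977 F32475) (tt N17164 F32476) (tt N15409 F32477) (tt N14975 (iv D18029)) (tt N15318 F32478))
theorem Q17999 : ∀ i, i < 17999 → P i := stepQ 17998 Q17998 (allL N17998 (tt N17278 F32479) (tt N14978 F32480) (tt N17260 F32481) (tt N15315 F32482) (tt N14976 (iv D18030)) (tt N15410 F32483))
theorem Q18000 : ∀ i, i < 18000 → P i := stepQ 17999 Q17999 (allL N17999 (tt N14981 F32484) (tt N17143 F32485) (tt N14979 (iv D18031)) (tt N20396 (iv F38171)) (tt N15321 F32486) (tt N20583 D20621))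
theorem Q18001 : ∀ i, i < 18001 → P i := stepQ 18000 Q18000 (allL N18000 (tt N14982 F32487) (tt N15360 F32488) (tt N20583 (iv F38590)) (tt N14980 F32489) (tt N17161 F32490) (tt N14979 (iv D18032)))
theorem Q18002 : ∀ i, i < 18002 → P i := stepQ 18001 Q18001 (allL N18001 (tt N17971 F32491) (tt N14981 (iv D18033)) (tt N14983 F32492) (tt N20584 D20622) (tt N15322 F32493) (tt N20503 (iv F38399)))
theorem Q18003 : ∀ i, i < 18003 → P i := stepQ 18002 Q18002 (allL N18002 (tt N20396 (iv F38169)) (tt N20584 (iv F38593)) (tt N20394 (iv F38166)) (tt N14981 (iv D18034)) (tt N20585 D20623) (tt N20586 D20624))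
theorem Q18004 : ∀ i, i < 18004 → P i := stepQ 18003 Q18003 (allL N18003 (tt N20583 (iv F38588)) (tt N20503 (iv F38397)) (tt N14982 F32494) (tt N20586 (iv F38597)) (tt N20587 D20625) (tt N14981 (iv D18035)))
theorem Q18005 : ∀ i, i < 18005 → P i := stepQ 18004 Q18004 (allL N18004 (tt N17161 F32495) (tt N14984 F32496) (tt N20587 (iv F38600)) (tt N15445 F32497) (tt N14982 (iv D18036)) (tt N15320 F32498))
theorem Q18006 : ∀ i, i < 18006 → P i := stepQ 18005 Q18005 (allL N18005 (tt N14983 (iv D18037)) (tt N15364 F32499) (tt N17971 F32500) (tt N20501 (iv F38390)) (tt N15324 F32501) (tt N20502 (iv F38395)))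
theorem Q18007 : ∀ i, i < 18007 → P i := stepQ 18006 Q18006 (allL N18006 (tt N20588 D20626) (tt N14985 (iv D18038)) (tt N14989 F32502) (tt N20589 D20627) (tt N14987 F32503) (tt N20191 (iv F37637)))
theorem Q18008 : ∀ i, i < 18008 → P i := stepQ 18007 Q18007 (allL N18007 (tt N15847 F32504) (tt N20589 (iv F38606)) (tt N20452 (iv F38294)) (tt N14985 (iv D18039)) (tt N20590 D20628) (tt N20450 F38289))
theorem Q18009 : ∀ i, i < 18009 → P i := stepQ 18008 Q18008 (allL N18008 (tt N15848 F32505) (tt N20191 (iv F37635)) (tt N14986 F32506) (tt N20450 (iv F38288)) (tt N15008 F32507) (tt N14985 (iv D18040)))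
theorem Q18010 : ∀ i, i < 18010 → P i := stepQ 18009 Q18009 (allL N18009 (tt N14987 (iv D18041)) (tt N15187 F32508) (tt N14992 F32509) (tt N17135 (iv F32511)) (tt N20588 (iv F38604)) (tt N15009 F32510))
theorem Q18011 : ∀ i, i < 18011 → P i := stepQ 18010 Q18010 (allL N18010 (tt N17135 F32512) (tt N14988 F32513) (tt N18634 (iv F34008)) (tt N14987 (iv D18042)) (tt N18633 (iv F34005)) (tt N15010 F32514))
theorem Q18012 : ∀ i, i < 18012 → P i := stepQ 18011 Q18011 (allL N18011 (tt N15897 F32515) (tt N18633 (iv F34003)) (tt N15026 F32516) (tt N20590 (iv F38609)) (tt N14988 (iv D18043)) (tt N18631 (iv F34002)))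
theorem Q18013 : ∀ i, i < 18013 → P i := stepQ 18012 Q18012 (allL N18012 (tt N14989 (iv D18044)) (tt N14999 F32517) (tt N20588 (iv F38603)) (tt N18841 (iv F34505)) (tt N14992 F32518) (tt N18840 F34502))
theorem Q18014 : ∀ i, i < 18014 → P i := stepQ 18013 Q18013 (allL N18013 (tt N18841 (iv F34503)) (tt N14990 F32519) (tt N18813 (iv F34411)) (tt N14989 (iv D18045)) (tt N15000 F32520) (tt N18812 (iv F34409)))
theorem Q18015 : ∀ i, i < 18015 → P i := stepQ 18014 Q18014 (allL N18014 (tt N18840 (iv F34499)) (tt N14991 F32521) (tt N20191 (iv F37636)) (tt N18812 (iv F34408)) (tt N15015 F32522) (tt N14989 (iv D18046)))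
theorem Q18016 : ∀ i, i < 18016 → P i := stepQ 18015 Q18015 (allL N18015 (tt N15002 F32523) (tt N18814 (iv F34414)) (tt N14990 (iv D18047)) (tt N14997 F32524) (tt N15002 F32525) (tt N14996 (iv F32526)))
theorem Q18017 : ∀ i, i < 18017 → P i := stepQ 18016 Q18016 (allL N18016 (tt N15003 F32527) (tt N18812 (iv F34406)) (tt N14996 F32528) (tt N14991 F32529) (tt N18811 F34404) (tt N14990 (iv D18048)))
theorem Q18018 : ∀ i, i < 18018 → P i := stepQ 18017 Q18017 (allL N18017 (tt N20591 D20629) (tt N14993 (iv D18049)) (tt N14995 F32530) (tt N19328 (iv F35621)) (tt N19297 (iv F35562)) (tt N19327 F35618))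
theorem Q18019 : ∀ i, i < 18019 → P i := stepQ 18018 Q18018 (allL N18018 (tt N20471 (iv F38342)) (tt N19328 (iv F35619)) (tt N19195 (iv F35329)) (tt N14993 (iv D18050)) (tt N20592 D20630) (tt N19194 (iv F35326)))
theorem Q18020 : ∀ i, i < 18020 → P i := stepQ 18019 Q18019 (allL N18019 (tt N20472 (iv F38345)) (tt N19327 (iv F35616)) (tt N14994 F32531) (tt N19194 F35325) (tt N20593 D20631) (tt N14993 (iv D18051)))
theorem Q18021 : ∀ i, i < 18021 → P i := stepQ 18020 Q18020 (allL N18020 (tt N20473 (iv F38348)) (tt N14998 F32532) (tt N20593 (iv F38612)) (tt N15901 F32533) (tt N14994 (iv D18052)) (tt N19295 (iv F35559)))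
theorem Q18022 : ∀ i, i < 18022 → P i := stepQ 18021 Q18021 (allL N18021 (tt N14995 (iv D18053)) (tt N18796 (iv F34353)) (tt N20591 (iv F38611)) (tt N18791 F34337) (tt N18792 (iv F34340)) (tt N20594 D20632))
theorem Q18023 : ∀ i, i < 18023 → P i := stepQ 18022 Q18022 (allL N18022 (tt N20594 (iv F38613)) (tt N14997 F32535) (tt N19327 (iv F35617)) (tt N18814 (iv F34416)) (tt N20595 D20633) (tt N14995 (iv D18055)))
theorem Q18024 : ∀ i, i < 18024 → P i := stepQ 18023 Q18023 (allL N18023 (tt N19320 (iv F35601)) (tt N20595 (iv F38614)) (tt N14998 F32536) (tt N19320 (iv F35602)) (tt N14997 (iv D18057)) (tt N19299 (iv F35565)))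
theorem Q18025 : ∀ i, i < 18025 → P i := stepQ 18024 Q18024 (allL N18024 (tt N15000 F32537) (tt N18841 (iv F34504)) (tt N18848 (iv F34525)) (tt N14999 (iv D18058)) (tt N18841 (iv F34506)) (tt N18839 F34498))
theorem Q18026 : ∀ i, i < 18026 → P i := stepQ 18025 Q18025 (allL N18025 (tt N15001 F32538) (tt N18840 (iv F34500)) (tt N15910 F32539) (tt N18839 (iv F34497)) (tt N15021 F32540) (tt N14999 (iv D18059)))
theorem Q18027 : ∀ i, i < 18027 → P i := stepQ 18026 Q18026 (allL N18026 (tt N18797 (iv F34355)) (tt N15002 (iv D18060)) (tt N18815 (iv F34419)) (tt N19321 (iv F35605)) (tt N18814 (iv F34417)) (tt N18787 F34318))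
theorem Q18028 : ∀ i, i < 18028 → P i := stepQ 18027 Q18027 (allL N18027 (tt N15375 F32541) (tt N15394 F32542) (tt N19958 (iv F37107)) (tt N15005 (iv D18061)) (tt N15006 F32543) (tt N20174 (iv F37602)))
theorem Q18029 : ∀ i, i < 18029 → P i := stepQ 18028 Q18028 (allL N18028 (tt N15025 F32544) (tt N15500 F32545) (tt N15172 F32546) (tt N15024 (iv D18062)) (tt N16919 (iv F32548)) (tt N15466 F32547))
theorem Q18030 : ∀ i, i < 18030 → P i := stepQ 18029 Q18029 (allL N18029 (tt N16919 F32549) (tt N15026 F32550) (tt N18630 (iv F33997)) (tt N15124 F32551) (tt N15025 (iv D18063)) (tt N16913 F32552))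
theorem Q18031 : ∀ i, i < 18031 → P i := stepQ 18030 Q18030 (allL N18030 (tt N15604 F32553) (tt N16913 F32554) (tt N18631 (iv F34001)) (tt N15129 F32555) (tt N15603 F32556) (tt N15026 (iv D18064)))
theorem Q18032 : ∀ i, i < 18032 → P i := stepQ 18031 Q18031 (allL N18031 (tt N17594 F32557) (tt N15035 F32558) (tt N17592 F32559) (tt N15890 F32560) (tt N15034 (iv D18065)) (tt N15890 F32561))
theorem Q18033 : ∀ i, i < 18033 → P i := stepQ 18032 Q18032 (allL N18032 (tt N15841 F32562) (tt N16864 F32563) (tt N15043 F32564) (tt N20546 (iv F38494)) (tt N15042 (iv D18066)) (tt N20548 (iv F38500)))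
theorem Q18034 : ∀ i, i < 18034 → P i := stepQ 18033 Q18033 (allL N18033 (tt N19506 (iv F36070)) (tt N15048 F32565) (tt N19842 (iv F36833)) (tt N15695 F32566) (tt N15046 (iv D18067)) (tt N20596 D20634))
theorem Q18035 : ∀ i, i < 18035 → P i := stepQ 18034 Q18034 (allL N18034 (tt N19500 (iv F36057)) (tt N15049 F32567) (tt N19547 (iv F36184)) (tt N20597 D20635) (tt N15047 (iv D18068)) (tt N15696 F32568))
theorem Q18036 : ∀ i, i < 18036 → P i := stepQ 18035 Q18035 (allL N18035 (tt N19476 (iv F35994)) (tt N20596 (iv F38615)) (tt N17575 F32569) (tt N15697 F32570) (tt N19261 (iv F35472)) (tt N15048 (iv D18069)))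
theorem Q18037 : ∀ i, i < 18037 → P i := stepQ 18036 Q18036 (allL N18036 (tt N19477 (iv F35998)) (tt N20597 (iv F38617)) (tt N19676 (iv F36494)) (tt N15049 (iv D18070)) (tt N19265 (iv F35486)) (tt N15698 F32571))
theorem Q18038 : ∀ i, i < 18038 → P i := stepQ 18037 Q18037 (allL N18037 (tt N20020 (iv F37268)) (tt N15054 F32572) (tt N17299 F32573) (tt N15061 F32574) (tt N20598 D20636) (tt N15050 (iv D18071)))
theorem Q18039 : ∀ i, i < 18039 → P i := stepQ 18038 Q18038 (allL N18038 (tt N19837 (iv F36820)) (tt N15055 F32575) (tt N19505 (iv F36069)) (tt N20599 D20637) (tt N15051 (iv D18072)) (tt N20598 (iv F38622)))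
theorem Q18040 : ∀ i, i < 18040 → P i := stepQ 18039 Q18039 (allL N18039 (tt N19838 (iv F36823)) (tt N15056 F32576) (tt N20600 D20638) (tt N15052 (iv D18073)) (tt N20599 (iv F38624)) (tt N15062 F32577))
theorem Q18041 : ∀ i, i < 18041 → P i := stepQ 18040 Q18040 (allL N18040 (tt N19265 (iv F35484)) (tt N17300 F32578) (tt N19082 (iv F35072)) (tt N15053 (iv D18074)) (tt N19477 (iv F36000)) (tt N19087 (iv F35079)))
theorem Q18042 : ∀ i, i < 18042 → P i := stepQ 18041 Q18041 (allL N18041 (tt N19261 (iv F35471)) (tt N17301 F32579) (tt N15054 F32580) (tt N19087 (iv F35080)) (tt N19476 (iv F35997)) (tt N15053 (iv D18075)))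
theorem Q18043 : ∀ i, i < 18043 → P i := stepQ 18042 Q18042 (allL N18042 (tt N17575 F32581) (tt N20598 (iv F38619)) (tt N19476 (iv F35995)) (tt N17556 F32582) (tt N15054 (iv D18076)) (tt N15055 F32583))
theorem Q18044 : ∀ i, i < 18044 → P i := stepQ 18043 Q18043 (allL N18043 (tt N17576 F32584) (tt N20599 (iv F38623)) (tt N17557 F32585) (tt N15055 (iv D18077)) (tt N15056 F32586) (tt N17556 F32587))
theorem Q18045 : ∀ i, i < 18045 → P i := stepQ 18044 Q18044 (allL N18044 (tt N17577 F32588) (tt N20601 D20639) (tt N15056 (iv D18078)) (tt N17617 F32589) (tt N17557 F32590) (tt N15063 F32591))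
theorem Q18046 : ∀ i, i < 18046 → P i := stepQ 18045 Q18045 (allL N18045 (tt N15060 F32592) (tt N17573 F32593) (tt N20519 (iv F38439)) (tt N15057 (iv D18079)) (tt N20602 D20640) (tt N17567 F32594))
theorem Q18047 : ∀ i, i < 18047 → P i := stepQ 18046 Q18046 (allL N18046 (tt N15061 F32595) (tt N19257 (iv F35457)) (tt N15058 F32596) (tt N20020 (iv F37270)) (tt N15057 (iv D18080)) (tt N15058 F32597))
theorem Q18048 : ∀ i, i < 18048 → P i := stepQ 18047 Q18047 (allL N18047 (tt N15062 F32598) (tt N19256 (iv F35453)) (tt N20541 (iv F38481)) (tt N15059 (iv D18081)) (tt N17567 F32599) (tt N19838 (iv F36825)))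
theorem Q18049 : ∀ i, i < 18049 → P i := stepQ 18048 Q18048 (allL N18048 (tt N20519 (iv F38437)) (tt N17552 F32600) (tt N15060 (iv D18082)) (tt N20518 F38436) (tt N20603 D20641) (tt N17568 F32601))
theorem Q18050 : ∀ i, i < 18050 → P i := stepQ 18049 Q18049 (allL N18049 (tt N20602 (iv F38630)) (tt N17556 F32602) (tt N20603 (iv F38633)) (tt N20598 (iv F38621)) (tt N15060 (iv D18083)) (tt N20599 (iv F38625)))
theorem Q18051 : ∀ i, i < 18051 → P i := stepQ 18050 Q18050 (allL N18050 (tt N20541 (iv F38480)) (tt N20604 D20642) (tt N15062 (iv D18084)) (tt N20605 D20643) (tt N17568 F32603) (tt N20600 (iv F38626)))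
theorem Q18052 : ∀ i, i < 18052 → P i := stepQ 18051 Q18051 (allL N18051 (tt N20606 D20644) (tt N15063 (iv D18085)) (tt N20604 (iv F38634)) (tt N20607 D20645) (tt N17554 F32604) (tt N20601 (iv F38629)))
theorem Q18053 : ∀ i, i < 18053 → P i := stepQ 18052 Q18052 (allL N18052 (tt N17578 F32605) (tt N20607 (iv F38638)) (tt N18598 (iv F33913)) (tt N15063 (iv D18086)) (tt N17558 F32606) (tt N17617 F32607))
theorem Q18054 : ∀ i, i < 18054 → P i := stepQ 18053 Q18053 (allL N18053 (tt N18449 (iv F33532)) (tt N15065 F32608) (tt N18532 (iv F33741)) (tt N15064 (iv D18087)) (tt N15098 F32609) (tt N18188 (iv F32959)))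
theorem Q18055 : ∀ i, i < 18055 → P i := stepQ 18054 Q18054 (allL N18054 (tt N20608 D20646) (tt N15066 (iv D18088)) (tt N15073 F32610) (tt N17570 F32611) (tt N15068 F32612) (tt N19258 (iv F35462)))
theorem Q18056 : ∀ i, i < 18056 → P i := stepQ 18055 Q18055 (allL N18055 (tt N15070 F32613) (tt N19258 (iv F35461)) (tt N15067 F32614) (tt N15081 F32615) (tt N20609 D20647) (tt N15066 (iv D18089)))
theorem Q18057 : ∀ i, i < 18057 → P i := stepQ 18056 Q18056 (allL N18056 (tt N15071 F32616) (tt N15076 F32617) (tt N20609 (iv F38648)) (tt N18498 (iv F33660)) (tt N15067 (iv D18090)) (tt N15071 F32618))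
theorem Q18058 : ∀ i, i < 18058 → P i := stepQ 18057 Q18057 (allL N18057 (tt N15068 (iv D18091)) (tt N20608 (iv F38641)) (tt N15072 F32619) (tt N20520 (iv F38443)) (tt N20608 (iv F38644)) (tt N15083 F32620))
theorem Q18059 : ∀ i, i < 18059 → P i := stepQ 18058 Q18058 (allL N18058 (tt N20520 (iv F38441)) (tt N15069 F32621) (tt N20517 (iv F38430)) (tt N15068 (iv D18092)) (tt N20610 D20648) (tt N15086 F32622))
theorem Q18060 : ∀ i, i < 18060 → P i := stepQ 18059 Q18059 (allL N18059 (tt N17571 F32623) (tt N20610 (iv F38650)) (tt N17569 F32624) (tt N17571 F32625) (tt N15069 (iv D18093)) (tt N20611 D20649))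
theorem Q18061 : ∀ i, i < 18061 → P i := stepQ 18060 Q18060 (allL N18060 (tt N15081 F32626) (tt N15086 F32627) (tt N15080 F32628) (tt N15070 F32629) (tt N20612 D20650) (tt N15069 (iv D18094)))
theorem Q18062 : ∀ i, i < 18062 → P i := stepQ 18061 Q18061 (allL N18061 (tt N20609 (iv F38646)) (tt N15087 F32630) (tt N15071 F32631) (tt N20613 D20651) (tt N15070 (iv D18095)) (tt N20609 (iv F38649)))
theorem Q18063 : ∀ i, i < 18063 → P i := stepQ 18062 Q18062 (allL N18062 (tt N15073 F32632) (tt N15092 F32633) (tt N20608 (iv F38642)) (tt N15104 (iv F32634)) (tt N15072 (iv D18096)) (tt N15090 (iv F32635)))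
theorem Q18064 : ∀ i, i < 18064 → P i := stepQ 18063 Q18063 (allL N18063 (tt N15104 F32636) (tt N15074 F32637) (tt N18879 (iv F34629)) (tt N15073 (iv D18097)) (tt N15089 F32638) (tt N18877 (iv F34622)))
theorem Q18065 : ∀ i, i < 18065 → P i := stepQ 18064 Q18064 (allL N18064 (tt N15090 F32639) (tt N15075 F32640) (tt N19258 (iv F35463)) (tt N18877 (iv F34620)) (tt N15088 F32641) (tt N15073 (iv D18098)))
theorem Q18066 : ∀ i, i < 18066 → P i := stepQ 18065 Q18065 (allL N18065 (tt N15094 F32642) (tt N18877 (iv F34618)) (tt N18452 (iv F33541)) (tt N15075 F32643) (tt N20317 (iv F37967)) (tt N15074 (iv D18099)))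
theorem Q18067 : ∀ i, i < 18067 → P i := stepQ 18066 Q18066 (allL N18066 (tt N15098 F32644) (tt N18498 (iv F33659)) (tt N18572 (iv F33838)) (tt N15076 (iv D18100)) (tt N18449 (iv F33534)) (tt N15077 F32645))
theorem Q18068 : ∀ i, i < 18068 → P i := stepQ 18067 Q18067 (allL N18067 (tt N17554 F32646) (tt N15080 F32647) (tt N20614 D20652) (tt N15079 (iv D18101)) (tt N20606 (iv F38637)) (tt N17551 F32648))
theorem Q18069 : ∀ i, i < 18069 → P i := stepQ 18068 Q18068 (allL N18068 (tt N15082 F32649) (tt N20606 (iv F38636)) (tt N20612 (iv F38657)) (tt N18500 (iv F33664)) (tt N15080 (iv D18102)) (tt N20615 D20653))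
theorem Q18070 : ∀ i, i < 18070 → P i := stepQ 18069 Q18069 (allL N18069 (tt N20612 (iv F38655)) (tt N19259 (iv F35465)) (tt N15082 F32650) (tt N20616 D20654) (tt N15081 (iv D18103)) (tt N19846 (iv F36841)))
theorem Q18071 : ∀ i, i < 18071 → P i := stepQ 18070 Q18070 (allL N18070 (tt N20615 (iv F38662)) (tt N17577 F32651) (tt N19846 (iv F36840)) (tt N18504 (iv F33671)) (tt N17572 F32652) (tt N15082 (iv D18104)))
theorem Q18072 : ∀ i, i < 18072 → P i := stepQ 18071 Q18071 (allL N18071 (tt N19258 (iv F35460)) (tt N15083 (iv D18105)) (tt N15090 F32653) (tt N19255 (iv F35450)) (tt N20617 D20655) (tt N20608 (iv F38645)))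
theorem Q18073 : ∀ i, i < 18073 → P i := stepQ 18072 Q18072 (allL N18072 (tt N15086 F32654) (tt N19255 F35451) (tt N20515 (iv F38424)) (tt N15083 (iv D18106)) (tt N20618 D20656) (tt N20520 (iv F38444)))
theorem Q18074 : ∀ i, i < 18074 → P i := stepQ 18073 Q18073 (allL N18073 (tt N15087 F32655) (tt N20617 (iv F38665)) (tt N15084 F32656) (tt N20619 D20657) (tt N15083 (iv D18107)) (tt N20617 (iv F38667)))
theorem Q18075 : ∀ i, i < 18075 → P i := stepQ 18074 Q18074 (allL N18074 (tt N15088 F32657) (tt N15091 F32658) (tt N20617 (iv F38666)) (tt N20376 (iv F38112)) (tt N15090 F32659) (tt N15084 (iv D18108)))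
theorem Q18076 : ∀ i, i < 18076 → P i := stepQ 18075 Q18075 (allL N18075 (tt N15089 F32660) (tt N15093 F32661) (tt N16251 F32664) (tt N15085 (iv D18109)) (tt N15104 F32662) (tt N15428 F32663))
theorem Q18077 : ∀ i, i < 18077 → P i := stepQ 18076 Q18076 (allL N18076 (tt N20515 (iv F38421)) (tt N20614 (iv F38660)) (tt N15086 (iv D18110)) (tt N19386 (iv F35737)) (tt N20620 D20658) (tt N20517 (iv F38431)))
theorem Q18078 : ∀ i, i < 18078 → P i := stepQ 18077 Q18077 (allL N18077 (tt N20618 (iv F38668)) (tt N20612 (iv F38656)) (tt N20620 (iv F38670)) (tt N20621 D20659) (tt N15086 (iv D18111)) (tt N20622 D20660))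
theorem Q18079 : ∀ i, i < 18079 → P i := stepQ 18078 Q18078 (allL N18078 (tt N20619 (iv F38669)) (tt N20613 (iv F38658)) (tt N20623 D20661) (tt N15087 (iv D18112)) (tt N20621 (iv F38671)) (tt N20624 D20662))
theorem Q18080 : ∀ i, i < 18080 → P i := stepQ 18079 Q18079 (allL N18079 (tt N20617 (iv F38664)) (tt N20609 (iv F38647)) (tt N15088 F32665) (tt N20624 (iv F38672)) (tt N19258 F35464) (tt N15087 (iv D18113)))
theorem Q18081 : ∀ i, i < 18081 → P i := stepQ 18080 Q18080 (allL N18080 (tt N16251 F32666) (tt N18880 (iv F34633)) (tt N15089 (iv D18114)) (tt N18880 (iv F34635)) (tt N18879 (iv F34631)) (tt N15433 F32667))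
theorem Q18082 : ∀ i, i < 18082 → P i := stepQ 18081 Q18081 (allL N18081 (tt N18452 (iv F33540)) (tt N16207 F32668) (tt N15094 (iv D18115)) (tt N18447 (iv F33525)) (tt N16208 F32669) (tt N15099 F32670))
theorem Q18083 : ∀ i, i < 18083 → P i := stepQ 18082 Q18082 (allL N18082 (tt N16215 F32671) (tt N15097 (iv D18116)) (tt N15100 F32672) (tt N18995 (iv F34911)) (tt N15101 F32673) (tt N16211 F32674))
theorem Q18084 : ∀ i, i < 18084 → P i := stepQ 18083 Q18083 (allL N18083 (tt N16214 (iv F32678)) (tt N15099 (iv D18117)) (tt N15101 F32675) (tt N19362 (iv F35692)) (tt N15100 F32676) (tt N16207 F32677))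
theorem Q18085 : ∀ i, i < 18085 → P i := stepQ 18084 Q18084 (allL N18084 (tt N18453 (iv F33543)) (tt N19362 (iv F35691)) (tt N18448 (iv F33529)) (tt N15099 (iv D18118)) (tt N19848 (iv F36845)) (tt N18447 F33526))
theorem Q18086 : ∀ i, i < 18086 → P i := stepQ 18085 Q18085 (allL N18085 (tt N15100 (iv D18119)) (tt N15419 F32679) (tt N16215 F32680) (tt N15416 F32681) (tt N16214 F32682) (tt N16222 F32683))
theorem Q18087 : ∀ i, i < 18087 → P i := stepQ 18086 Q18086 (allL N18086 (tt N16048 F32684) (tt N15103 F32685) (tt N18996 (iv F34916)) (tt N15102 (iv D18120)) (tt N18995 F34913) (tt N16043 F32686))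
theorem Q18088 : ∀ i, i < 18088 → P i := stepQ 18087 Q18087 (allL N18087 (tt N20488 F38370) (tt N18443 (iv F33511)) (tt N15106 (iv D18121)) (tt N20625 D20663) (tt N20626 D20664) (tt N18621 (iv F33971)))
theorem Q18089 : ∀ i, i < 18089 → P i := stepQ 18088 Q18088 (allL N18088 (tt N20494 (iv F38378)) (tt N15107 F32687) (tt N20626 (iv F38673)) (tt N18847 (iv F34523)) (tt N15106 (iv D18122)) (tt N20627 D20665))
theorem Q18090 : ∀ i, i < 18090 → P i := stepQ 18089 Q18089 (allL N18089 (tt N15110 F32688) (tt N20627 (iv F38674)) (tt N18627 (iv F33985)) (tt N18848 (iv F34526)) (tt N18626 (iv F33982)) (tt N15107 (iv D18123)))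
theorem Q18091 : ∀ i, i < 18091 → P i := stepQ 18090 Q18090 (allL N18090 (tt N15108 (iv D18124)) (tt N18441 (iv F33506)) (tt N20464 (iv F38326)) (tt N18440 F33504) (tt N20628 D20666) (tt N18616 (iv F33961)))
theorem Q18092 : ∀ i, i < 18092 → P i := stepQ 18091 Q18091 (allL N18091 (tt N20628 (iv F38675)) (tt N15109 F32689) (tt N20466 (iv F38333)) (tt N20629 D20667) (tt N15108 (iv D18125)) (tt N20630 D20668))
theorem Q18093 : ∀ i, i < 18093 → P i := stepQ 18092 Q18092 (allL N18092 (tt N15912 F32690) (tt N20629 (iv F38676)) (tt N15911 F32691) (tt N15109 (iv D18126)) (tt N18511 (iv F33692)) (tt N20575 (iv F38567)))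
theorem Q18094 : ∀ i, i < 18094 → P i := stepQ 18093 Q18093 (allL N18093 (tt N18627 (iv F33983)) (tt N20630 (iv F38677)) (tt N15110 F32692) (tt N20575 (iv F38566)) (tt N18619 (iv F33968)) (tt N15109 (iv D18127)))
theorem Q18095 : ∀ i, i < 18095 → P i := stepQ 18094 Q18094 (allL N18094 (tt N17387 F32693) (tt N15112 F32694) (tt N17349 F32695) (tt N15111 (iv D18128)) (tt N19481 (iv F36013)) (tt N17351 (iv F32696)))
theorem Q18096 : ∀ i, i < 18096 → P i := stepQ 18095 Q18095 (allL N18095 (tt N17388 F32697) (tt N15113 F32698) (tt N17384 F32699) (tt N17351 F32700) (tt N19480 (iv F36011)) (tt N15111 (iv D18129)))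
theorem Q18097 : ∀ i, i < 18097 → P i := stepQ 18096 Q18096 (allL N18096 (tt N19102 (iv F35109)) (tt N20631 D20669) (tt N15112 (iv D18130)) (tt N17635 F32701) (tt N19482 (iv F36016)) (tt N17634 (iv F32702)))
theorem Q18098 : ∀ i, i < 18098 → P i := stepQ 18097 Q18097 (allL N18097 (tt N19101 (iv F35106)) (tt N17351 F32703) (tt N17634 F32704) (tt N15113 F32705) (tt N19087 (iv F35078)) (tt N15112 (iv D18131)))
theorem Q18099 : ∀ i, i < 18099 → P i := stepQ 18098 Q18098 (allL N18098 (tt N15117 F32706) (tt N15121 F32707) (tt N17359 F32708) (tt N15116 (iv D18132)) (tt N20632 D20670) (tt N17282 F32709))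
theorem Q18100 : ∀ i, i < 18100 → P i := stepQ 18099 Q18099 (allL N18099 (tt N20632 (iv F38681)) (tt N15119 F32710) (tt N17494 F32711) (tt N15606 F32712) (tt N15117 (iv D18133)) (tt N15605 (iv F32713)))
theorem Q18101 : ∀ i, i < 18101 → P i := stepQ 18100 Q18100 (allL N18100 (tt N15129 F32714) (tt N15605 F32715) (tt N17281 F32716) (tt N15604 F32717) (tt N17280 F32718) (tt N15119 (iv D18134)))
theorem Q18102 : ∀ i, i < 18102 → P i := stepQ 18101 Q18101 (allL N18101 (tt N15123 F32719) (tt N20633 D20671) (tt N15121 (iv D18135)) (tt N15283 F32720) (tt N20634 D20672) (tt N20635 D20673))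
theorem Q18103 : ∀ i, i < 18103 → P i := stepQ 18102 Q18102 (allL N18102 (tt N15124 F32721) (tt N20632 (iv F38682)) (tt N20634 (iv F38691)) (tt N16919 F32722) (tt N15121 (iv D18136)) (tt N16918 (iv F32723)))
theorem Q18104 : ∀ i, i < 18104 → P i := stepQ 18103 Q18103 (allL N18103 (tt N15125 F32724) (tt N17282 F32725) (tt N20635 (iv F38695)) (tt N15122 F32726) (tt N16921 F32727) (tt N15121 (iv D18137)))
theorem Q18105 : ∀ i, i < 18105 → P i := stepQ 18104 Q18104 (allL N18104 (tt N17467 (iv F32729)) (tt N15123 (iv D18138)) (tt N15127 F32728) (tt N20636 D20674) (tt N20637 D20675) (tt N17272 (iv F32730)))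
theorem Q18106 : ∀ i, i < 18106 → P i := stepQ 18105 Q18105 (allL N18105 (tt N15283 F32731) (tt N20636 (iv F38699)) (tt N15282 F32732) (tt N15123 (iv D18139)) (tt N20638 D20676) (tt N20639 D20677))
theorem Q18107 : ∀ i, i < 18107 → P i := stepQ 18106 Q18106 (allL N18106 (tt N20634 (iv F38690)) (tt N20637 (iv F38703)) (tt N15124 F32733) (tt N20640 D20678) (tt N15123 (iv D18140)) (tt N20641 D20679))
theorem Q18108 : ∀ i, i < 18108 → P i := stepQ 18107 Q18107 (allL N18107 (tt N20635 (iv F38693)) (tt N17272 F32734) (tt N15125 F32735) (tt N20639 (iv F38710)) (tt N17751 (iv F32745)) (tt N15123 (iv D18141)))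
theorem Q18109 : ∀ i, i < 18109 → P i := stepQ 18108 Q18108 (allL N18108 (tt N16918 F32736) (tt N15129 F32737) (tt N20641 (iv F38713)) (tt N16913 F32738) (tt N16914 (iv F32739)) (tt N15124 (iv D18142)))
theorem Q18110 : ∀ i, i < 18110 → P i := stepQ 18109 Q18109 (allL N18109 (tt N16921 F32740) (tt N15130 F32741) (tt N17751 F32744) (tt N16915 (iv F32743)) (tt N15125 (iv D18143)) (tt N16914 F32742))
theorem Q18111 : ∀ i, i < 18111 → P i := stepQ 18110 Q18110 (allL N18110 (tt N15400 F32746) (tt N15131 F32747) (tt N15581 (iv F32750)) (tt N15126 (iv D18144)) (tt N16915 F32748) (tt N15398 F32749))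
theorem Q18112 : ∀ i, i < 18112 → P i := stepQ 18111 Q18111 (allL N18111 (tt N16823 F32751) (tt N15128 F32752) (tt N20637 (iv F38704)) (tt N16822 F32753) (tt N15127 (iv D18145)) (tt N20642 D20680))
theorem Q18113 : ∀ i, i < 18113 → P i := stepQ 18112 Q18112 (allL N18112 (tt N17281 F32754) (tt N20642 (iv F38716)) (tt N15129 F32755) (tt N17498 F32756) (tt N17273 F32757) (tt N15128 (iv D18146)))
theorem Q18114 : ∀ i, i < 18114 → P i := stepQ 18113 Q18113 (allL N18113 (tt N17280 F32758) (tt N16914 F32759) (tt N17273 F32760) (tt N16912 F32761) (tt N15129 (iv D18147)) (tt N15130 F32762))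
theorem Q18115 : ∀ i, i < 18115 → P i := stepQ 18114 Q18114 (allL N18114 (tt N15403 F32763) (tt N16915 F32764) (tt N15407 (iv F32767)) (tt N15130 (iv D18148)) (tt N15131 F32765) (tt N16912 F32766))
theorem Q18116 : ∀ i, i < 18116 → P i := stepQ 18115 Q18115 (allL N18115 (tt N15270 F32768) (tt N15132 (iv D18149)) (tt N15700 F32769) (tt N20643 D20681) (tt N19719 (iv F36590)) (tt N15268 F32770))
theorem Q18117 : ∀ i, i < 18117 → P i := stepQ 18116 Q18116 (allL N18116 (tt N15135 F32771) (tt N20643 (iv F38720)) (tt N20639 (iv F38709)) (tt N15132 (iv D18150)) (tt N18758 (iv F34226)) (tt N15282 F32772))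
theorem Q18118 : ∀ i, i < 18118 → P i := stepQ 18117 Q18117 (allL N18117 (tt N15136 F32773) (tt N19719 (iv F36588)) (tt N15133 F32774) (tt N18759 (iv F34229)) (tt N15132 (iv D18151)) (tt N15292 F32775))
theorem Q18119 : ∀ i, i < 18119 → P i := stepQ 18118 Q18118 (allL N18118 (tt N20639 (iv F38707)) (tt N19453 (iv F35934)) (tt N15135 (iv D18152)) (tt N20635 (iv F38696)) (tt N18730 F34214) (tt N15283 F32776))
theorem Q18120 : ∀ i, i < 18120 → P i := stepQ 18119 Q18119 (allL N18119 (tt N18758 (iv F34224)) (tt N15288 F32777) (tt N18730 (iv F34213)) (tt N18753 (iv F34211)) (tt N15135 (iv D18153)) (tt N18752 F34207))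
theorem Q18121 : ∀ i, i < 18121 → P i := stepQ 18120 Q18120 (allL N18120 (tt N18759 (iv F34227)) (tt N15289 F32778) (tt N18754 (iv F34217)) (tt N15136 (iv D18154)) (tt N18753 (iv F34212)) (tt N15294 F32779))
theorem Q18122 : ∀ i, i < 18122 → P i := stepQ 18121 Q18121 (allL N18121 (tt N15301 F32780) (tt N15137 (iv D18155)) (tt N15325 F32781) (tt N20644 D20682) (tt N20645 D20683) (tt N15299 F32782))
theorem Q18123 : ∀ i, i < 18123 → P i := stepQ 18122 Q18122 (allL N18122 (tt N15140 F32783) (tt N20644 (iv F38724)) (tt N19728 (iv F36613)) (tt N15137 (iv D18156)) (tt N20646 D20684) (tt N15304 F32784))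
theorem Q18124 : ∀ i, i < 18124 → P i := stepQ 18123 Q18123 (allL N18123 (tt N15141 F32785) (tt N20645 (iv F38728)) (tt N15138 F32786) (tt N20647 D20685) (tt N15137 (iv D18157)) (tt N20361 (iv F38078)))
theorem Q18125 : ∀ i, i < 18125 → P i := stepQ 18124 Q18124 (allL N18124 (tt N19728 (iv F36611)) (tt N15307 F32787) (tt N15140 (iv D18158)) (tt N19727 F36610) (tt N20648 D20686) (tt N15305 F32788))
theorem Q18126 : ∀ i, i < 18126 → P i := stepQ 18125 Q18125 (allL N18125 (tt N20646 (iv F38730)) (tt N15308 F32789) (tt N20648 (iv F38733)) (tt N20649 D20687) (tt N15140 (iv D18159)) (tt N20648 (iv F38734)))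
theorem Q18127 : ∀ i, i < 18127 → P i := stepQ 18126 Q18126 (allL N18126 (tt N20647 (iv F38731)) (tt N15309 F32790) (tt N20650 D20688) (tt N15141 (iv D18160)) (tt N20649 (iv F38736)) (tt N20362 (iv F38080)))
theorem Q18128 : ∀ i, i < 18128 → P i := stepQ 18127 Q18127 (allL N18127 (tt N15190 F32791) (tt N17135 F32792) (tt N15143 (iv D18161)) (tt N15187 F32793) (tt N17119 (iv F32795)) (tt N15494 F32794))
theorem Q18129 : ∀ i, i < 18129 → P i := stepQ 18128 Q18128 (allL N18128 (tt N15602 F32796) (tt N15145 F32797) (tt N17119 F32798) (tt N15733 F32799) (tt N15143 (iv D18162)) (tt N15599 F32800))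
theorem Q18130 : ∀ i, i < 18130 → P i := stepQ 18129 Q18129 (allL N18129 (tt N15469 F32801) (tt N18629 (iv F33993)) (tt N15145 F32802) (tt N20651 D20689) (tt N15144 (iv D18163)) (tt N18628 (iv F33991)))
theorem Q18131 : ∀ i, i < 18131 → P i := stepQ 18130 Q18130 (allL N18130 (tt N15502 F32803) (tt N15599 F32804) (tt N18628 (iv F33990)) (tt N15734 F32805) (tt N15598 F32806) (tt N15145 (iv D18164)))
theorem Q18132 : ∀ i, i < 18132 → P i := stepQ 18131 Q18131 (allL N18131 (tt N15149 F32807) (tt N15158 F32808) (tt N20652 D20690) (tt N15148 (iv D18165)) (tt N15493 F32809) (tt N20653 D20691))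
theorem Q18133 : ∀ i, i < 18133 → P i := stepQ 18132 Q18132 (allL N18132 (tt N15150 F32810) (tt N15159 F32811) (tt N15731 F32812) (tt N20653 (iv F38746)) (tt N15492 F32813) (tt N15148 (iv D18166)))
theorem Q18134 : ∀ i, i < 18134 → P i := stepQ 18133 Q18133 (allL N18133 (tt N20652 (iv F38741)) (tt N20654 D20692) (tt N15149 (iv D18167)) (tt N20655 D20693) (tt N15496 F32814) (tt N20656 D20694))
theorem Q18135 : ∀ i, i < 18135 → P i := stepQ 18134 Q18134 (allL N18134 (tt N20653 (iv F38744)) (tt N15152 F32815) (tt N20656 (iv F38754)) (tt N15150 F32816) (tt N20657 D20695) (tt N15149 (iv D18168)))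
theorem Q18136 : ∀ i, i < 18136 → P i := stepQ 18135 Q18135 (allL N18135 (tt N20658 D20696) (tt N15151 (iv D18169)) (tt N20654 (iv F38748)) (tt N15155 F32817) (tt N15497 F32818) (tt N15154 F32819))
theorem Q18137 : ∀ i, i < 18137 → P i := stepQ 18136 Q18136 (allL N18136 (tt N15167 F32820) (tt N20657 (iv F38757)) (tt N15156 F32821) (tt N15489 F32822) (tt N15152 (iv D18170)) (tt N15490 F32823))
theorem Q18138 : ∀ i, i < 18138 → P i := stepQ 18137 Q18137 (allL N18137 (tt N15154 F32824) (tt N16979 F32825) (tt N20659 D20697) (tt N15153 (iv D18171)) (tt N20660 D20698) (tt N20658 (iv F38764)))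
theorem Q18139 : ∀ i, i < 18139 → P i := stepQ 18138 Q18138 (allL N18138 (tt N15155 F32826) (tt N16978 F32827) (tt N15719 F32828) (tt N20658 (iv F38762)) (tt N20661 D20699) (tt N15153 (iv D18172)))
theorem Q18140 : ∀ i, i < 18140 → P i := stepQ 18139 Q18139 (allL N18139 (tt N20659 (iv F38765)) (tt N20656 (iv F38753)) (tt N15154 (iv D18173)) (tt N20662 D20700) (tt N17025 F32832) (tt N20654 F38750))
theorem Q18141 : ∀ i, i < 18141 → P i := stepQ 18140 Q18140 (allL N18140 (tt N20660 (iv F38768)) (tt N15156 F32829) (tt N17025 (iv F32831)) (tt N16611 F32830) (tt N15154 (iv D18174)) (tt N20663 D20701))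
theorem Q18142 : ∀ i, i < 18142 → P i := stepQ 18141 Q18141 (allL N18141 (tt N20661 (iv F38773)) (tt N15157 F32833) (tt N15722 F32834) (tt N20664 D20702) (tt N15155 (iv D18175)) (tt N16943 F32835))
theorem Q18143 : ∀ i, i < 18143 → P i := stepQ 18142 Q18142 (allL N18142 (tt N16982 F32836) (tt N20663 (iv F38781)) (tt N15490 F32837) (tt N16610 F32838) (tt N15491 F32839) (tt N15156 (iv D18176)))
theorem Q18144 : ∀ i, i < 18144 → P i := stepQ 18143 Q18143 (allL N18143 (tt N16977 F32840) (tt N20664 (iv F38785)) (tt N16990 F32841) (tt N15157 (iv D18177)) (tt N15498 F32842) (tt N16944 F32843))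
theorem Q18145 : ∀ i, i < 18145 → P i := stepQ 18144 Q18144 (allL N18144 (tt N15160 F32844) (tt N20665 D20703) (tt N15158 (iv D18178)) (tt N15747 F32845) (tt N20666 D20704) (tt N20667 D20705))
theorem Q18146 : ∀ i, i < 18146 → P i := stepQ 18145 Q18145 (allL N18145 (tt N15161 F32846) (tt N15493 F32847) (tt N20666 (iv F38792)) (tt N15170 F32848) (tt N15158 (iv D18179)) (tt N20668 D20706))
theorem Q18147 : ∀ i, i < 18147 → P i := stepQ 18146 Q18146 (allL N18146 (tt N15162 F32849) (tt N20653 (iv F38745)) (tt N20667 (iv F38795)) (tt N15159 F32850) (tt N20669 D20707) (tt N15158 (iv D18180)))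
theorem Q18148 : ∀ i, i < 18148 → P i := stepQ 18147 Q18147 (allL N18147 (tt N15163 F32851) (tt N15492 F32852) (tt N15506 F32853) (tt N20670 D20708) (tt N15159 (iv D18181)) (tt N15171 F32854))
theorem Q18149 : ∀ i, i < 18149 → P i := stepQ 18148 Q18148 (allL N18148 (tt N20671 D20709) (tt N15160 (iv D18182)) (tt N15164 F32855) (tt N20672 D20710) (tt N20673 D20711) (tt N16980 (iv F32856)))
theorem Q18150 : ∀ i, i < 18150 → P i := stepQ 18149 Q18149 (allL N18149 (tt N15747 F32857) (tt N20672 (iv F38817)) (tt N15746 F32858) (tt N15160 (iv D18183)) (tt N20674 D20712) (tt N20675 D20713))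
theorem Q18151 : ∀ i, i < 18151 → P i := stepQ 18150 Q18150 (allL N18150 (tt N20666 (iv F38791)) (tt N20673 (iv F38820)) (tt N15161 F32859) (tt N20676 D20714) (tt N15160 (iv D18184)) (tt N20677 D20715))
theorem Q18152 : ∀ i, i < 18152 → P i := stepQ 18151 Q18151 (allL N18151 (tt N20667 (iv F38793)) (tt N16980 F32860) (tt N15162 F32861) (tt N20675 (iv F38828)) (tt N17681 F34240) (tt N15160 (iv D18185)))
theorem Q18153 : ∀ i, i < 18153 → P i := stepQ 18152 Q18152 (allL N18152 (tt N20668 (iv F38798)) (tt N15166 F32862) (tt N20677 (iv F38831)) (tt N15174 F32863) (tt N18762 (iv F34242)) (tt N15161 (iv D18186)))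
theorem Q18154 : ∀ i, i < 18154 → P i := stepQ 18153 Q18153 (allL N18153 (tt N20669 (iv F38802)) (tt N15167 F32864) (tt N17681 (iv F34239)) (tt N18761 F34238) (tt N15162 (iv D18187)) (tt N18762 (iv F34243)))
theorem Q18155 : ∀ i, i < 18155 → P i := stepQ 18154 Q18154 (allL N18154 (tt N20670 (iv F38807)) (tt N15168 F32865) (tt N18760 (iv F34234)) (tt N15163 (iv D18188)) (tt N18761 (iv F34236)) (tt N15175 F32866))
theorem Q18156 : ∀ i, i < 18156 → P i := stepQ 18155 Q18155 (allL N18155 (tt N15164 (iv D18189)) (tt N20658 (iv F38761)) (tt N20671 (iv F38813)) (tt N16978 F32867) (tt N20678 D20716) (tt N16979 F32868))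
theorem Q18157 : ∀ i, i < 18157 → P i := stepQ 18156 Q18156 (allL N18156 (tt N20678 (iv F38833)) (tt N15165 F32869) (tt N20673 (iv F38821)) (tt N20679 D20717) (tt N15164 (iv D18190)) (tt N20680 D20718))
theorem Q18158 : ∀ i, i < 18158 → P i := stepQ 18157 Q18157 (allL N18157 (tt N15498 F32870) (tt N20679 (iv F38835)) (tt N15213 F32872) (tt N15165 (iv D18191)) (tt N16977 F32871) (tt N15228 (iv F32873)))
theorem Q18159 : ∀ i, i < 18159 → P i := stepQ 18158 Q18158 (allL N18158 (tt N15491 F32874) (tt N20680 (iv F38838)) (tt N15166 F32875) (tt N15228 F32876) (tt N16982 F32877) (tt N15165 (iv D18192)))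
theorem Q18160 : ∀ i, i < 18160 → P i := stepQ 18159 Q18159 (allL N18159 (tt N15490 F32878) (tt N18762 (iv F34241)) (tt N16982 F32879) (tt N15473 F32880) (tt N15166 (iv D18193)) (tt N15167 F32881))
theorem Q18161 : ∀ i, i < 18161 → P i := stepQ 18160 Q18160 (allL N18160 (tt N15489 F32882) (tt N18761 (iv F34235)) (tt N15474 F32883) (tt N15167 (iv D18194)) (tt N15168 F32884) (tt N15473 F32885))
theorem Q18162 : ∀ i, i < 18162 → P i := stepQ 18161 Q18161 (allL N18161 (tt N15488 F32886) (tt N18763 (iv F34245)) (tt N15168 (iv D18195)) (tt N15519 F32887) (tt N15474 F32888) (tt N15176 F32889))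
theorem Q18163 : ∀ i, i < 18163 → P i := stepQ 18162 Q18162 (allL N18162 (tt N15173 F32890) (tt N20393 (iv F38161)) (tt N15170 F32891) (tt N20681 D20719) (tt N15169 (iv D18196)) (tt N18637 (iv F34019)))
theorem Q18164 : ∀ i, i < 18164 → P i := stepQ 18163 Q18163 (allL N18163 (tt N15174 F32892) (tt N15479 F32893) (tt N18637 (iv F34018)) (tt N20668 (iv F38800)) (tt N15472 F32894) (tt N15170 (iv D18197)))
theorem Q18165 : ∀ i, i < 18165 → P i := stepQ 18164 Q18164 (allL N18164 (tt N15175 F32895) (tt N15477 F32896) (tt N18774 (iv F34292)) (tt N15171 (iv D18198)) (tt N15471 F32897) (tt N20670 (iv F38811)))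
theorem Q18166 : ∀ i, i < 18166 → P i := stepQ 18165 Q18165 (allL N18165 (tt N18630 (iv F33995)) (tt N15469 F32898) (tt N16919 F32899) (tt N20682 D20720) (tt N15172 (iv D18199)) (tt N16917 F32900))
theorem Q18167 : ∀ i, i < 18167 → P i := stepQ 18166 Q18166 (allL N18166 (tt N20681 (iv F38842)) (tt N15470 F32901) (tt N20683 D20721) (tt N15173 (iv D18200)) (tt N20682 (iv F38848)) (tt N20684 D20722))
theorem Q18168 : ∀ i, i < 18168 → P i := stepQ 18167 Q18167 (allL N18167 (tt N18637 (iv F34017)) (tt N15465 F32902) (tt N15174 F32903) (tt N20684 (iv F38852)) (tt N15464 F32904) (tt N15173 (iv D18201)))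
theorem Q18169 : ∀ i, i < 18169 → P i := stepQ 18168 Q18168 (allL N18168 (tt N15487 F32905) (tt N18768 (iv F34270)) (tt N15518 F32906) (tt N15176 (iv D18202)) (tt N15475 F32907) (tt N15519 F32908))
theorem Q18170 : ∀ i, i < 18170 → P i := stepQ 18169 Q18169 (allL N18169 (tt N15470 F32909) (tt N19223 (iv F35379)) (tt N20685 D20723) (tt N15180 (iv D18203)) (tt N20651 (iv F38739)) (tt N18348 (iv F33314)))
theorem Q18171 : ∀ i, i < 18171 → P i := stepQ 18170 Q18170 (allL N18170 (tt N15183 F32910) (tt N20686 D20724) (tt N15181 (iv D18204)) (tt N20687 D20725) (tt N20688 D20726) (tt N18516 (iv F33702)))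
theorem Q18172 : ∀ i, i < 18172 → P i := stepQ 18171 Q18171 (allL N18171 (tt N15184 F32911) (tt N15911 F32912) (tt N20688 (iv F38864)) (tt N15188 F32913) (tt N15181 (iv D18205)) (tt N20553 (iv F38513)))
theorem Q18173 : ∀ i, i < 18173 → P i := stepQ 18172 Q18172 (allL N18172 (tt N15185 F32914) (tt N18512 (iv F33694)) (tt N15479 F32915) (tt N20689 D20727) (tt N15182 (iv D18206)) (tt N15189 F32916))
theorem Q18174 : ∀ i, i < 18174 → P i := stepQ 18173 Q18173 (allL N18173 (tt N20687 (iv F38858)) (tt N18518 (iv F33709)) (tt N20690 D20728) (tt N15183 (iv D18207)) (tt N20691 D20729) (tt N18517 (iv F33707)))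
theorem Q18175 : ∀ i, i < 18175 → P i := stepQ 18174 Q18174 (allL N18174 (tt N20688 (iv F38863)) (tt N15826 F32917) (tt N15184 F32918) (tt N20692 D20730) (tt N15183 (iv D18208)) (tt N15824 F32919))
theorem Q18176 : ∀ i, i < 18176 → P i := stepQ 18175 Q18175 (allL N18175 (tt N20689 (iv F38866)) (tt N15186 F32920) (tt N20693 D20731) (tt N15185 (iv D18209)) (tt N15555 F32921) (tt N15193 F32922))
theorem Q18177 : ∀ i, i < 18177 → P i := stepQ 18176 Q18176 (allL N18176 (tt N15191 F32923) (tt N20588 (iv F38602)) (tt N15188 F32924) (tt N20694 D20732) (tt N15187 (iv D18210)) (tt N20695 D20733))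
theorem Q18178 : ∀ i, i < 18178 → P i := stepQ 18177 Q18177 (allL N18177 (tt N15192 F32925) (tt N15910 F32926) (tt N20695 (iv F38887)) (tt N20553 (iv F38511)) (tt N19421 (iv F35845)) (tt N15188 (iv D18211)))
theorem Q18179 : ∀ i, i < 18179 → P i := stepQ 18178 Q18178 (allL N18178 (tt N15193 F32927) (tt N20391 (iv F38156)) (tt N20696 D20734) (tt N15189 (iv D18212)) (tt N19420 (iv F35842)) (tt N20689 (iv F38868)))
theorem Q18180 : ∀ i, i < 18180 → P i := stepQ 18179 Q18179 (allL N18179 (tt N17119 F32928) (tt N15897 F32929) (tt N15602 F32930) (tt N20697 D20735) (tt N15190 (iv D18213)) (tt N15601 F32931))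
theorem Q18181 : ∀ i, i < 18181 → P i := stepQ 18180 Q18180 (allL N18180 (tt N20694 (iv F38882)) (tt N15847 F32932) (tt N20698 D20736) (tt N15191 (iv D18214)) (tt N20697 (iv F38893)) (tt N20699 D20737))
theorem Q18182 : ∀ i, i < 18182 → P i := stepQ 18181 Q18181 (allL N18181 (tt N20695 (iv F38885)) (tt N15848 F32933) (tt N15192 F32934) (tt N20699 (iv F38897)) (tt N19419 (iv F35839)) (tt N15191 (iv D18215)))
theorem Q18183 : ∀ i, i < 18183 → P i := stepQ 18182 Q18182 (allL N18182 (tt N20696 (iv F38890)) (tt N20700 D20738) (tt N15193 (iv D18216)) (tt N20701 D20739) (tt N19422 (iv F35846)) (tt N20693 (iv F38881)))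
theorem Q18184 : ∀ i, i < 18184 → P i := stepQ 18183 Q18183 (allL N18183 (tt N20702 D20740) (tt N15194 (iv D18217)) (tt N20700 (iv F38899)) (tt N15259 F32935) (tt N17124 F32936) (tt N15258 F32937))
theorem Q18185 : ∀ i, i < 18185 → P i := stepQ 18184 Q18184 (allL N18184 (tt N15200 F32938) (tt N15526 F32939) (tt N15512 F32940) (tt N17033 F32941) (tt N15511 F32942) (tt N15195 (iv D18218)))
theorem Q18186 : ∀ i, i < 18186 → P i := stepQ 18185 Q18185 (allL N18185 (tt N15201 F32943) (tt N15524 F32944) (tt N20703 D20741) (tt N15196 (iv D18219)) (tt N15510 F32945) (tt N17035 F32946))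
theorem Q18187 : ∀ i, i < 18187 → P i := stepQ 18186 Q18186 (allL N18186 (tt N17033 F32947) (tt N15518 F32948) (tt N17673 F32949) (tt N15200 F32950) (tt N17076 F32951) (tt N15197 (iv D18220)))
theorem Q18188 : ∀ i, i < 18188 → P i := stepQ 18187 Q18187 (allL N18187 (tt N17035 F32952) (tt N15261 F32953) (tt N20704 D20742) (tt N15198 (iv D18221)) (tt N17064 F32954) (tt N15201 F32955))
theorem Q18189 : ∀ i, i < 18189 → P i := stepQ 18188 Q18188 (allL N18188 (tt N15513 F32956) (tt N15509 F32957) (tt N20705 D20743) (tt N15199 (iv D18222)) (tt N15509 F32958) (tt N18053 F32959))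
theorem Q18190 : ∀ i, i < 18190 → P i := stepQ 18189 Q18189 (allL N18189 (tt N20703 (iv F38906)) (tt N20706 D20744) (tt N15201 (iv D18223)) (tt N20707 D20745) (tt N15515 F32960) (tt N20704 (iv F38912)))
theorem Q18191 : ∀ i, i < 18191 → P i := stepQ 18190 Q18190 (allL N18190 (tt N15203 F32961) (tt N15215 F32962) (tt N15257 F32963) (tt N17037 F32964) (tt N15202 (iv D18224)) (tt N20708 D20746))
theorem Q18192 : ∀ i, i < 18192 → P i := stepQ 18191 Q18191 (allL N18191 (tt N20708 (iv F38924)) (tt N15205 F32965) (tt N15259 F32966) (tt N17040 F32967) (tt N15250 F32968) (tt N15203 (iv D18225)))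
theorem Q18193 : ∀ i, i < 18193 → P i := stepQ 18192 Q18192 (allL N18192 (tt N15539 F32969) (tt N15206 F32970) (tt N20709 D20747) (tt N15204 (iv D18226)) (tt N15249 F32971) (tt N17041 F32972))
theorem Q18194 : ∀ i, i < 18194 → P i := stepQ 18193 Q18193 (allL N18193 (tt N15228 F32973) (tt N20710 D20748) (tt N15206 (iv D18227)) (tt N15491 F32974) (tt N15251 F32975) (tt N15498 F32976))
theorem Q18195 : ∀ i, i < 18195 → P i := stepQ 18194 Q18194 (allL N18194 (tt N15209 F32977) (tt N20711 D20749) (tt N15207 (iv D18228)) (tt N20712 D20750) (tt N20713 D20751) (tt N17049 F32978))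
theorem Q18196 : ∀ i, i < 18196 → P i := stepQ 18195 Q18195 (allL N18195 (tt N15210 F32979) (tt N17037 F32980) (tt N20713 (iv F38942)) (tt N15215 F32981) (tt N15207 (iv D18229)) (tt N20714 D20752))
theorem Q18197 : ∀ i, i < 18197 → P i := stepQ 18196 Q18196 (allL N18196 (tt N15211 F32982) (tt N15540 F32983) (tt N15238 F32984) (tt N20715 D20753) (tt N15208 (iv D18230)) (tt N15217 F32985))
theorem Q18198 : ∀ i, i < 18198 → P i := stepQ 18197 Q18197 (allL N18197 (tt N20712 (iv F38938)) (tt N17054 F32986) (tt N17084 F32988) (tt N15209 (iv D18231)) (tt N20716 D20754) (tt N17050 F32987))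
theorem Q18199 : ∀ i, i < 18199 → P i := stepQ 18198 Q18198 (allL N18198 (tt N20713 (iv F38941)) (tt N17057 F32989) (tt N15210 F32990) (tt N20717 D20755) (tt N15209 (iv D18232)) (tt N20718 D20756))
theorem Q18200 : ∀ i, i < 18200 → P i := stepQ 18199 Q18199 (allL N18199 (tt N20714 (iv F38943)) (tt N15212 F32991) (tt N20718 (iv F38955)) (tt N15221 F32992) (tt N17063 F32993) (tt N15210 (iv D18233)))
theorem Q18201 : ∀ i, i < 18201 → P i := stepQ 18200 Q18200 (allL N18200 (tt N20715 (iv F38947)) (tt N15213 F32994) (tt N20719 D20757) (tt N15211 (iv D18234)) (tt N17062 F32995) (tt N15223 F32996))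
theorem Q18202 : ∀ i, i < 18202 → P i := stepQ 18201 Q18201 (allL N18201 (tt N15219 F32997) (tt N20558 (iv F38524)) (tt N15215 F32998) (tt N20720 D20758) (tt N15214 (iv D18235)) (tt N20721 D20759))
theorem Q18203 : ∀ i, i < 18203 → P i := stepQ 18202 Q18202 (allL N18202 (tt N15221 F32999) (tt N20708 (iv F38925)) (tt N20721 (iv F38962)) (tt N20714 (iv F38945)) (tt N20722 D20760) (tt N15215 (iv D18236)))
theorem Q18204 : ∀ i, i < 18204 → P i := stepQ 18203 Q18203 (allL N18203 (tt N15222 F33000) (tt N15248 F33001) (tt N20569 (iv F38553)) (tt N20723 D20761) (tt N15216 (iv D18237)) (tt N20722 (iv F38965)))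
theorem Q18205 : ∀ i, i < 18205 → P i := stepQ 18204 Q18204 (allL N18204 (tt N15223 F33002) (tt N15539 F33003) (tt N20724 D20762) (tt N15217 (iv D18238)) (tt N20723 (iv F38968)) (tt N20715 (iv F38950)))
theorem Q18206 : ∀ i, i < 18206 → P i := stepQ 18205 Q18205 (allL N18205 (tt N15245 F33004) (tt N15219 F33005) (tt N15224 F33006) (tt N20725 D20763) (tt N15218 (iv D18239)) (tt N20726 D20764))
theorem Q18207 : ∀ i, i < 18207 → P i := stepQ 18206 Q18206 (allL N18206 (tt N20720 (iv F38959)) (tt N20725 (iv F38971)) (tt N20727 D20765) (tt N15219 (iv D18240)) (tt N20725 (iv F38972)) (tt N20728 D20766))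
theorem Q18208 : ∀ i, i < 18208 → P i := stepQ 18207 Q18207 (allL N18207 (tt N20721 (iv F38961)) (tt N20726 (iv F38974)) (tt N15221 F33007) (tt N20728 (iv F38977)) (tt N20729 D20767) (tt N15219 (iv D18241)))
theorem Q18209 : ∀ i, i < 18209 → P i := stepQ 18208 Q18208 (allL N18208 (tt N20569 (iv F38551)) (tt N15246 F33008) (tt N15222 F33009) (tt N20730 D20768) (tt N15220 (iv D18242)) (tt N20729 (iv F38980)))
theorem Q18210 : ∀ i, i < 18210 → P i := stepQ 18209 Q18209 (allL N18209 (tt N20722 (iv F38963)) (tt N15226 F33010) (tt N20729 (iv F38979)) (tt N20731 D20769) (tt N15221 (iv D18243)) (tt N15222 F33011))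
theorem Q18211 : ∀ i, i < 18211 → P i := stepQ 18210 Q18210 (allL N18210 (tt N20723 (iv F38966)) (tt N15227 F33012) (tt N20732 D20770) (tt N15222 (iv D18244)) (tt N15223 F33013) (tt N20731 (iv F38985)))
theorem Q18212 : ∀ i, i < 18212 → P i := stepQ 18211 Q18211 (allL N18211 (tt N20724 (iv F38969)) (tt N20733 D20771) (tt N15223 (iv D18245)) (tt N20734 D20772) (tt N20732 (iv F38986)) (tt N20719 (iv F38958)))
theorem Q18213 : ∀ i, i < 18213 → P i := stepQ 18212 Q18212 (allL N18212 (tt N15243 F33014) (tt N15225 F33015) (tt N20726 (iv F38975)) (tt N15238 F33016) (tt N15247 F33017) (tt N15224 (iv D18246)))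
theorem Q18214 : ∀ i, i < 18214 → P i := stepQ 18213 Q18213 (allL N18213 (tt N15252 F33018) (tt N20731 (iv F38983)) (tt N15461 F33019) (tt N15226 (iv D18247)) (tt N16993 F33020) (tt N15227 F33021))
theorem Q18215 : ∀ i, i < 18215 → P i := stepQ 18214 Q18214 (allL N18214 (tt N15251 F33022) (tt N20735 D20773) (tt N15227 (iv D18248)) (tt N15462 F33023) (tt N15228 F33024) (tt N15461 F33025))
theorem Q18216 : ∀ i, i < 18216 → P i := stepQ 18215 Q18215 (allL N18215 (tt N20736 D20774) (tt N15228 (iv D18249)) (tt N20733 (iv F38987)) (tt N20680 (iv F38840)) (tt N20735 (iv F38989)) (tt N20679 F38837))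
theorem Q18217 : ∀ i, i < 18217 → P i := stepQ 18216 Q18216 (allL N18216 (tt N15230 F33026) (tt N16997 F33027) (tt N16587 F33028) (tt N15229 (iv D18250)) (tt N16608 (iv F33030)) (tt N17728 F33029))
theorem Q18218 : ∀ i, i < 18218 → P i := stepQ 18217 Q18217 (allL N18217 (tt N15231 F33031) (tt N17717 F33032) (tt N15235 F33033) (tt N17728 F33034) (tt N20737 D20775) (tt N15229 (iv D18251)))
theorem Q18219 : ∀ i, i < 18219 → P i := stepQ 18218 Q18218 (allL N18218 (tt N20737 (iv F38991)) (tt N15233 F33035) (tt N15237 F33036) (tt N20738 D20776) (tt N15231 (iv D18252)) (tt N18290 (iv F33183)))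
theorem Q18220 : ∀ i, i < 18220 → P i := stepQ 18219 Q18219 (allL N18219 (tt N17720 F33037) (tt N20738 (iv F38995)) (tt N20739 D20777) (tt N15233 (iv D18253)) (tt N17730 F33038) (tt N18292 (iv F33188)))
theorem Q18221 : ∀ i, i < 18221 → P i := stepQ 18220 Q18220 (allL N18220 (tt N15236 F33039) (tt N18303 (iv F33218)) (tt N15457 F33040) (tt N17159 F33041) (tt N15234 (iv D18254)) (tt N15451 F33042))
theorem Q18222 : ∀ i, i < 18222 → P i := stepQ 18221 Q18221 (allL N18221 (tt N15237 F33043) (tt N15440 F33044) (tt N20737 (iv F38993)) (tt N15438 F33045) (tt N15235 (iv D18255)) (tt N18302 (iv F33216)))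
theorem Q18223 : ∀ i, i < 18223 → P i := stepQ 18222 Q18222 (allL N18222 (tt N17077 F33046) (tt N15240 F33047) (tt N18315 (iv F33247)) (tt N15239 (iv D18256)) (tt N20740 D20778) (tt N18304 (iv F33222)))
theorem Q18224 : ∀ i, i < 18224 → P i := stepQ 18223 Q18223 (allL N18223 (tt N17050 F33048) (tt N20741 D20779) (tt N15240 (iv D18257)) (tt N17049 F33049) (tt N20742 D20780) (tt N20712 (iv F38940)))
theorem Q18225 : ∀ i, i < 18225 → P i := stepQ 18224 Q18224 (allL N18224 (tt N17082 F33050) (tt N20740 (iv F39000)) (tt N20742 (iv F39006)) (tt N17081 F33051) (tt N15240 (iv D18258)) (tt N20743 D20781))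
theorem Q18226 : ∀ i, i < 18226 → P i := stepQ 18225 Q18225 (allL N18225 (tt N17084 F33052) (tt N18304 (iv F33221)) (tt N20712 (iv F38939)) (tt N15241 F33053) (tt N20744 D20782) (tt N15240 (iv D18259)))
theorem Q18227 : ∀ i, i < 18227 → P i := stepQ 18226 Q18226 (allL N18226 (tt N15455 F33054) (tt N18305 (iv F33223)) (tt N15242 F33055) (tt N20745 D20783) (tt N15241 (iv D18260)) (tt N15450 F33056))
theorem Q18228 : ∀ i, i < 18228 → P i := stepQ 18227 Q18227 (allL N18227 (tt N20726 (iv F38973)) (tt N20561 (iv F38531)) (tt N15243 (iv D18261)) (tt N20746 D20784) (tt N20571 (iv F38559)) (tt N15245 F33057))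
theorem Q18229 : ∀ i, i < 18229 → P i := stepQ 18228 Q18228 (allL N18228 (tt N20725 (iv F38970)) (tt N20560 (iv F38530)) (tt N20747 D20785) (tt N15245 (iv D18262)) (tt N20720 (iv F38960)) (tt N20746 (iv F39012)))
theorem Q18230 : ∀ i, i < 18230 → P i := stepQ 18229 Q18229 (allL N18229 (tt N20570 (iv F38554)) (tt N20730 (iv F38981)) (tt N20748 D20786) (tt N15246 (iv D18263)) (tt N20730 (iv F38982)) (tt N20749 D20787))
theorem Q18231 : ∀ i, i < 18231 → P i := stepQ 18230 Q18230 (allL N18230 (tt N20571 (iv F38556)) (tt N20729 (iv F38978)) (tt N15247 F33058) (tt N20749 (iv F39013)) (tt N20726 (iv F38976)) (tt N15246 (iv D18264)))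
theorem Q18232 : ∀ i, i < 18232 → P i := stepQ 18231 Q18231 (allL N18231 (tt N15249 F33059) (tt N20723 (iv F38967)) (tt N20750 D20788) (tt N15248 (iv D18265)) (tt N15539 F33060) (tt N20751 D20789))
theorem Q18233 : ∀ i, i < 18233 → P i := stepQ 18232 Q18232 (allL N18232 (tt N15250 F33061) (tt N20722 (iv F38964)) (tt N15554 F33062) (tt N20751 (iv F39020)) (tt N20708 (iv F38928)) (tt N15248 (iv D18266)))
theorem Q18234 : ∀ i, i < 18234 → P i := stepQ 18233 Q18233 (allL N18233 (tt N20750 (iv F39014)) (tt N20752 D20790) (tt N15249 (iv D18267)) (tt N20753 D20791) (tt N20709 (iv F38930)) (tt N20754 D20792))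
theorem Q18235 : ∀ i, i < 18235 → P i := stepQ 18234 Q18234 (allL N18234 (tt N20751 (iv F39018)) (tt N15252 F33063) (tt N20754 (iv F39028)) (tt N15250 F33064) (tt N20755 D20793) (tt N15249 (iv D18268)))
theorem Q18236 : ∀ i, i < 18236 → P i := stepQ 18235 Q18235 (allL N18235 (tt N20756 D20794) (tt N15251 (iv D18269)) (tt N20752 (iv F39021)) (tt N17001 F33065) (tt N20710 (iv F38933)) (tt N17000 F33066))
theorem Q18237 : ∀ i, i < 18237 → P i := stepQ 18236 Q18236 (allL N18236 (tt N16993 F33067) (tt N20755 (iv F39030)) (tt N16944 F33068) (tt N16975 F33069) (tt N15252 (iv D18270)) (tt N16990 F33070))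
theorem Q18238 : ∀ i, i < 18238 → P i := stepQ 18237 Q18237 (allL N18237 (tt N15255 F33071) (tt N20569 (iv F38552)) (tt N15254 F33072) (tt N20757 D20795) (tt N15253 (iv D18271)) (tt N20758 D20796))
theorem Q18239 : ∀ i, i < 18239 → P i := stepQ 18238 Q18238 (allL N18238 (tt N15256 F33073) (tt N15554 F33074) (tt N20758 (iv F39038)) (tt N17097 F33075) (tt N20559 (iv F38529)) (tt N15254 (iv D18272)))
theorem Q18240 : ∀ i, i < 18240 → P i := stepQ 18239 Q18239 (allL N18239 (tt N20757 (iv F39035)) (tt N20570 (iv F38555)) (tt N20759 D20797) (tt N15255 (iv D18273)) (tt N20757 (iv F39036)) (tt N20760 D20798))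
theorem Q18241 : ∀ i, i < 18241 → P i := stepQ 18240 Q18240 (allL N18240 (tt N20758 (iv F39037)) (tt N20571 (iv F38557)) (tt N15256 F33076) (tt N20760 (iv F39039)) (tt N20561 (iv F38533)) (tt N15255 (iv D18274)))
theorem Q18242 : ∀ i, i < 18242 → P i := stepQ 18241 Q18241 (allL N18241 (tt N15258 F33077) (tt N20555 (iv F38517)) (tt N20761 D20799) (tt N15257 (iv D18275)) (tt N15551 F33078) (tt N20702 (iv F38905)))
theorem Q18243 : ∀ i, i < 18243 → P i := stepQ 18242 Q18242 (allL N18242 (tt N15259 F33079) (tt N20559 (iv F38527)) (tt N20708 (iv F38926)) (tt N20702 (iv F38903)) (tt N15554 F33080) (tt N15257 (iv D18276)))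
theorem Q18244 : ∀ i, i < 18244 → P i := stepQ 18243 Q18243 (allL N18243 (tt N20761 (iv F39040)) (tt N20693 (iv F38879)) (tt N15258 (iv D18277)) (tt N20762 D20800) (tt N15552 F33081) (tt N20700 (iv F38901)))
theorem Q18245 : ∀ i, i < 18245 → P i := stepQ 18244 Q18244 (allL N18244 (tt N20763 D20801) (tt N15260 (iv D18278)) (tt N20706 (iv F38919)) (tt N17058 F33082) (tt N15517 F33083) (tt N17059 F33084))
theorem Q18246 : ∀ i, i < 18246 → P i := stepQ 18245 Q18245 (allL N18245 (tt N15263 F33085) (tt N15609 F33086) (tt N19534 (iv F36162)) (tt N15262 (iv D18279)) (tt N20764 D20802) (tt N19717 (iv F36580)))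
theorem Q18247 : ∀ i, i < 18247 → P i := stepQ 18246 Q18246 (allL N18246 (tt N19534 (iv F36160)) (tt N20765 D20803) (tt N15263 (iv D18280)) (tt N19533 F36159) (tt N20766 D20804) (tt N19721 (iv F36596)))
theorem Q18248 : ∀ i, i < 18248 → P i := stepQ 18247 Q18247 (allL N18247 (tt N20764 (iv F39046)) (tt N15265 F33087) (tt N20766 (iv F39054)) (tt N15702 F33088) (tt N15263 (iv D18281)) (tt N20764 (iv F39049)))
theorem Q18249 : ∀ i, i < 18249 → P i := stepQ 18248 Q18248 (allL N18248 (tt N20644 (iv F38723)) (tt N15264 (iv D18282)) (tt N20765 (iv F39051)) (tt N15301 F33089) (tt N20767 D20805) (tt N15300 F33090))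
theorem Q18250 : ∀ i, i < 18250 → P i := stepQ 18249 Q18249 (allL N18249 (tt N15308 F33091) (tt N20767 (iv F39055)) (tt N15265 F33092) (tt N20768 D20806) (tt N15264 (iv D18283)) (tt N20769 D20807))
theorem Q18251 : ∀ i, i < 18251 → P i := stepQ 18250 Q18250 (allL N18250 (tt N15610 F33093) (tt N20764 (iv F39047)) (tt N20769 (iv F39060)) (tt N15704 F33094) (tt N15609 (iv F33095)) (tt N15265 (iv D18284)))
theorem Q18252 : ∀ i, i < 18252 → P i := stepQ 18251 Q18251 (allL N18251 (tt N15306 F33096) (tt N19717 (iv F36579)) (tt N15302 F33097) (tt N15608 (iv F33099)) (tt N15266 (iv D18285)) (tt N15609 F33098))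
theorem Q18253 : ∀ i, i < 18253 → P i := stepQ 18252 Q18252 (allL N18252 (tt N15607 F33100) (tt N19718 (iv F36583)) (tt N15611 F33101) (tt N15267 (iv D18286)) (tt N15608 F33102) (tt N15705 F33103))
theorem Q18254 : ∀ i, i < 18254 → P i := stepQ 18253 Q18253 (allL N18253 (tt N15269 F33104) (tt N15282 F33105) (tt N20770 D20808) (tt N15268 (iv D18287)) (tt N19720 (iv F36593)) (tt N20643 (iv F38722)))
theorem Q18255 : ∀ i, i < 18255 → P i := stepQ 18254 Q18254 (allL N18254 (tt N20770 (iv F39062)) (tt N20771 D20809) (tt N15269 (iv D18288)) (tt N20772 D20810) (tt N19722 (iv F36597)) (tt N20773 D20811))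
theorem Q18256 : ∀ i, i < 18256 → P i := stepQ 18255 Q18255 (allL N18255 (tt N20643 (iv F38719)) (tt N15272 F33106) (tt N20773 (iv F39070)) (tt N15270 F33107) (tt N20774 D20812) (tt N15269 (iv D18289)))
theorem Q18257 : ∀ i, i < 18257 → P i := stepQ 18256 Q18256 (allL N18256 (tt N20775 D20813) (tt N15271 (iv D18290)) (tt N20771 (iv F39065)) (tt N15279 F33108) (tt N19723 (iv F36598)) (tt N15278 F33109))
theorem Q18258 : ∀ i, i < 18258 → P i := stepQ 18257 Q18257 (allL N18257 (tt N15288 F33110) (tt N20774 (iv F39072)) (tt N15280 F33111) (tt N15638 F33112) (tt N15272 (iv D18291)) (tt N15637 F33113))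
theorem Q18259 : ∀ i, i < 18259 → P i := stepQ 18258 Q18258 (allL N18258 (tt N15275 F33114) (tt N17081 F33115) (tt N15274 F33116) (tt N20740 (iv F39001)) (tt N15273 (iv D18292)) (tt N20776 D20814))
theorem Q18260 : ∀ i, i < 18260 → P i := stepQ 18259 Q18259 (allL N18259 (tt N15276 F33117) (tt N15296 F33118) (tt N20776 (iv F39080)) (tt N15677 F33119) (tt N17089 F33120) (tt N15274 (iv D18293)))
theorem Q18261 : ∀ i, i < 18261 → P i := stepQ 18260 Q18260 (allL N18260 (tt N20740 (iv F38999)) (tt N15297 F33121) (tt N18317 (iv F33250)) (tt N15275 (iv D18294)) (tt N17077 F33122) (tt N20777 D20815))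
theorem Q18262 : ∀ i, i < 18262 → P i := stepQ 18261 Q18261 (allL N18261 (tt N20776 (iv F39078)) (tt N15298 F33123) (tt N15276 F33124) (tt N20777 (iv F39083)) (tt N17091 F33125) (tt N15275 (iv D18295)))
theorem Q18263 : ∀ i, i < 18263 → P i := stepQ 18262 Q18262 (allL N18262 (tt N15278 F33126) (tt N19452 (iv F35932)) (tt N19998 (iv F37216)) (tt N15277 (iv D18296)) (tt N20778 D20816) (tt N20775 (iv F39077)))
theorem Q18264 : ∀ i, i < 18264 → P i := stepQ 18263 Q18263 (allL N18263 (tt N15279 F33127) (tt N19448 (iv F35918)) (tt N15694 F33128) (tt N20775 (iv F39076)) (tt N20779 D20817) (tt N15277 (iv D18297)))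
theorem Q18265 : ∀ i, i < 18265 → P i := stepQ 18264 Q18264 (allL N18264 (tt N19998 (iv F37215)) (tt N20773 (iv F39069)) (tt N15278 (iv D18298)) (tt N19995 (iv F37207)) (tt N20780 D20818) (tt N20771 F39066))
theorem Q18266 : ∀ i, i < 18266 → P i := stepQ 18265 Q18265 (allL N18265 (tt N20778 (iv F39084)) (tt N15280 F33129) (tt N20780 (iv F39088)) (tt N15691 F33130) (tt N15278 (iv D18299)) (tt N20781 D20819))
theorem Q18267 : ∀ i, i < 18267 → P i := stepQ 18266 Q18266 (allL N18266 (tt N20779 (iv F39086)) (tt N15281 F33131) (tt N15696 F33132) (tt N20782 D20820) (tt N15279 (iv D18300)) (tt N19547 (iv F36185)))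
theorem Q18268 : ∀ i, i < 18268 → P i := stepQ 18267 Q18267 (allL N18267 (tt N19455 (iv F35938)) (tt N20781 (iv F39090)) (tt N15637 F33133) (tt N15690 F33134) (tt N19716 (iv F36576)) (tt N15280 (iv D18301)))
theorem Q18269 : ∀ i, i < 18269 → P i := stepQ 18268 Q18268 (allL N18268 (tt N19456 (iv F35942)) (tt N20782 (iv F39092)) (tt N19724 (iv F36600)) (tt N15281 (iv D18302)) (tt N19724 (iv F36601)) (tt N19548 (iv F36188)))
theorem Q18270 : ∀ i, i < 18270 → P i := stepQ 18269 Q18269 (allL N18269 (tt N15284 F33135) (tt N19720 (iv F36592)) (tt N20638 (iv F38706)) (tt N15291 F33136) (tt N15282 (iv D18303)) (tt N18757 F34223))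
theorem Q18271 : ∀ i, i < 18271 → P i := stepQ 18270 Q18270 (allL N18270 (tt N20783 D20821) (tt N15283 (iv D18304)) (tt N15285 F33137) (tt N20633 (iv F38688)) (tt N20784 D20822) (tt N19453 (iv F35935)))
theorem Q18272 : ∀ i, i < 18272 → P i := stepQ 18271 Q18271 (allL N18271 (tt N20638 (iv F38705)) (tt N20784 (iv F39097)) (tt N15284 F33138) (tt N20785 D20823) (tt N15283 (iv D18305)) (tt N20155 (iv F37546)))
theorem Q18273 : ∀ i, i < 18273 → P i := stepQ 18272 Q18272 (allL N18272 (tt N15285 (iv D18306)) (tt N20775 (iv F39075)) (tt N20783 (iv F39094)) (tt N19448 F35920) (tt N20786 D20824) (tt N19452 (iv F35933)))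
theorem Q18274 : ∀ i, i < 18274 → P i := stepQ 18273 Q18273 (allL N18273 (tt N20786 (iv F39099)) (tt N15286 F33139) (tt N20784 (iv F39098)) (tt N20787 D20825) (tt N15285 (iv D18307)) (tt N20788 D20826))
theorem Q18275 : ∀ i, i < 18275 → P i := stepQ 18274 Q18274 (allL N18274 (tt N19724 (iv F36599)) (tt N20787 (iv F39100)) (tt N19456 (iv F35945)) (tt N15286 (iv D18308)) (tt N19456 (iv F35943)) (tt N19551 (iv F36194)))
theorem Q18276 : ∀ i, i < 18276 → P i := stepQ 18275 Q18275 (allL N18275 (tt N19716 (iv F36575)) (tt N20788 (iv F39101)) (tt N15287 F33140) (tt N19551 (iv F36195)) (tt N19455 (iv F35941)) (tt N15286 (iv D18309)))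
theorem Q18277 : ∀ i, i < 18277 → P i := stepQ 18276 Q18276 (allL N18276 (tt N15637 F33141) (tt N18752 (iv F34205)) (tt N19455 (iv F35939)) (tt N15626 F33142) (tt N15287 (iv D18310)) (tt N15288 F33143))
theorem Q18278 : ∀ i, i < 18278 → P i := stepQ 18277 Q18277 (allL N18277 (tt N15638 F33144) (tt N18753 (iv F34209)) (tt N15627 F33145) (tt N15288 (iv D18311)) (tt N15289 F33146) (tt N15626 F33147))
theorem Q18279 : ∀ i, i < 18279 → P i := stepQ 18278 Q18278 (allL N18278 (tt N15639 F33148) (tt N18764 (iv F34250)) (tt N15289 (iv D18312)) (tt N15630 F33149) (tt N15627 F33150) (tt N15295 F33151))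
theorem Q18280 : ∀ i, i < 18280 → P i := stepQ 18279 Q18279 (allL N18279 (tt N15293 F33152) (tt N19659 (iv F36449)) (tt N15621 F33153) (tt N15290 (iv D18313)) (tt N20789 D20827) (tt N15653 F33154))
theorem Q18281 : ∀ i, i < 18281 → P i := stepQ 18280 Q18280 (allL N18280 (tt N15294 F33155) (tt N19711 (iv F36562)) (tt N17381 F33157) (tt N15292 (iv D18314)) (tt N15631 F33156) (tt N18759 (iv F34230)))
theorem Q18282 : ∀ i, i < 18282 → P i := stepQ 18281 Q18281 (allL N18281 (tt N15621 F33158) (tt N18592 (iv F33889)) (tt N15293 (iv D18315)) (tt N15620 F33159) (tt N20790 D20828) (tt N15651 F33160))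
theorem Q18283 : ∀ i, i < 18283 → P i := stepQ 18282 Q18282 (allL N18282 (tt N20789 (iv F39102)) (tt N18596 (iv F33904)) (tt N20790 (iv F39105)) (tt N20150 (iv F37540)) (tt N15293 (iv D18316)) (tt N18639 (iv F34025)))
theorem Q18284 : ∀ i, i < 18284 → P i := stepQ 18283 Q18283 (allL N18283 (tt N17381 F33161) (tt N17791 (iv F33163)) (tt N15294 (iv D18317)) (tt N18774 (iv F34293)) (tt N15632 F33162) (tt N18754 (iv F34218)))
theorem Q18285 : ∀ i, i < 18285 → P i := stepQ 18284 Q18284 (allL N18284 (tt N18765 (iv F34254)) (tt N15295 (iv D18318)) (tt N17791 F33164) (tt N20705 (iv F38916)) (tt N15624 F33165) (tt N18764 (iv F34253)))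
theorem Q18286 : ∀ i, i < 18286 → P i := stepQ 18285 Q18285 (allL N18285 (tt N15640 F33166) (tt N20705 (iv F38915)) (tt N15628 F33167) (tt N15295 (iv D18319)) (tt N15628 F33168) (tt N15630 F33169))
theorem Q18287 : ∀ i, i < 18287 → P i := stepQ 18286 Q18286 (allL N18286 (tt N17085 F33170) (tt N16360 (iv F33173)) (tt N15297 (iv D18320)) (tt N16359 F33172) (tt N17079 F33171) (tt N18641 (iv F34031)))
theorem Q18288 : ∀ i, i < 18288 → P i := stepQ 18287 Q18287 (allL N18287 (tt N17086 F33174) (tt N20777 (iv F39082)) (tt N18641 (iv F34030)) (tt N15298 F33175) (tt N20791 D20829) (tt N15297 (iv D18321)))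
theorem Q18289 : ∀ i, i < 18289 → P i := stepQ 18288 Q18288 (allL N18288 (tt N15300 F33176) (tt N15304 F33177) (tt N16859 F33178) (tt N15299 (iv D18322)) (tt N19410 (iv F35800)) (tt N20644 (iv F38726)))
theorem Q18290 : ∀ i, i < 18290 → P i := stepQ 18289 Q18289 (allL N18289 (tt N16859 F33179) (tt N19721 (iv F36594)) (tt N15300 (iv D18323)) (tt N16856 F33180) (tt N19514 (iv F36097)) (tt N20765 (iv F39053)))
theorem Q18291 : ∀ i, i < 18291 → P i := stepQ 18290 Q18290 (allL N18290 (tt N20645 (iv F38727)) (tt N15303 F33181) (tt N15326 F33182) (tt N20792 D20830) (tt N15301 (iv D18324)) (tt N18218 F33183))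
theorem Q18292 : ∀ i, i < 18292 → P i := stepQ 18291 Q18291 (allL N18291 (tt N15307 F33184) (tt N19515 (iv F36100)) (tt N15609 F33185) (tt N15663 F33186) (tt N20769 (iv F39061)) (tt N15302 (iv D18325)))
theorem Q18293 : ∀ i, i < 18293 → P i := stepQ 18292 Q18292 (allL N18292 (tt N15309 F33187) (tt N20792 (iv F39110)) (tt N20793 D20831) (tt N15303 (iv D18326)) (tt N20768 (iv F39057)) (tt N18219 F33188))
theorem Q18294 : ∀ i, i < 18294 → P i := stepQ 18293 Q18293 (allL N18293 (tt N20769 (iv F39059)) (tt N20648 (iv F38732)) (tt N15610 F33189) (tt N20794 D20832) (tt N15307 (iv D18327)) (tt N15308 F33190))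
theorem Q18295 : ∀ i, i < 18295 → P i := stepQ 18294 Q18294 (allL N18294 (tt N20768 (iv F39056)) (tt N20649 (iv F38735)) (tt N20795 D20833) (tt N15308 (iv D18328)) (tt N15309 F33191) (tt N20794 (iv F39118)))
theorem Q18296 : ∀ i, i < 18296 → P i := stepQ 18295 Q18295 (allL N18295 (tt N20793 (iv F39112)) (tt N20796 D20834) (tt N15309 (iv D18329)) (tt N20797 D20835) (tt N20795 (iv F39120)) (tt N20363 (iv F38081)))
theorem Q18297 : ∀ i, i < 18297 → P i := stepQ 18296 Q18296 (allL N18296 (tt N16912 F33192) (tt N15310 (iv D18330)) (tt N15315 F33193) (tt N17280 (iv F33196)) (tt N15311 F33194) (tt N15403 F33195))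
theorem Q18298 : ∀ i, i < 18298 → P i := stepQ 18297 Q18297 (allL N18297 (tt N15579 F33197) (tt N17280 F33198) (tt N20798 D20836) (tt N15310 (iv D18331)) (tt N15605 F33199) (tt N15404 F33200))
theorem Q18299 : ∀ i, i < 18299 → P i := stepQ 18298 Q18298 (allL N18298 (tt N15315 (iv D18332)) (tt N15355 F33201) (tt N16912 F33202) (tt N17278 F33203) (tt N15316 F33204) (tt N15407 F33205))
theorem Q18300 : ∀ i, i < 18300 → P i := stepQ 18299 Q18299 (allL N18299 (tt N15318 F33206) (tt N15357 F33207) (tt N17162 F33208) (tt N15406 F33209) (tt N15317 (iv D18333)) (tt N20582 (iv F38587)))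
theorem Q18301 : ∀ i, i < 18301 → P i := stepQ 18300 Q18300 (allL N18300 (tt N17160 F33210) (tt N15358 F33211) (tt N15320 F33212) (tt N18694 (iv F34135)) (tt N15319 (iv D18334)) (tt N20587 (iv F38601)))
theorem Q18302 : ∀ i, i < 18302 → P i := stepQ 18301 Q18301 (allL N18301 (tt N18721 (iv F34174)) (tt N17968 F33213) (tt N18717 (iv F34163)) (tt N20585 (iv F38596)) (tt N15323 (iv D18335)) (tt N18654 (iv F34062)))
theorem Q18303 : ∀ i, i < 18303 → P i := stepQ 18302 Q18302 (allL N18302 (tt N15326 F33214) (tt N15334 F33215) (tt N20645 (iv F38729)) (tt N18392 (iv F33387)) (tt N15325 (iv D18336)) (tt N18221 F33216))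
theorem Q18304 : ∀ i, i < 18304 → P i := stepQ 18303 Q18303 (allL N18303 (tt N15330 F33217) (tt N18220 F33218) (tt N19772 (iv F36716)) (tt N15332 F33219) (tt N15327 (iv D18337)) (tt N17990 F33220))
theorem Q18305 : ∀ i, i < 18305 → P i := stepQ 18304 Q18304 (allL N18304 (tt N19849 (iv F36846)) (tt N18225 F33221) (tt N20345 (iv F38035)) (tt N15329 (iv D18338)) (tt N20799 D20837) (tt N18222 F33222))
theorem Q18306 : ∀ i, i < 18306 → P i := stepQ 18305 Q18305 (allL N18305 (tt N19772 (iv F36714)) (tt N18226 F33223) (tt N15330 F33224) (tt N20800 D20838) (tt N15329 (iv D18339)) (tt N17991 F33225))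
theorem Q18307 : ∀ i, i < 18307 → P i := stepQ 18306 Q18306 (allL N18306 (tt N16797 F33226) (tt N15331 (iv D18340)) (tt N16795 F33227) (tt N19662 (iv F36461)) (tt N20801 D20839) (tt N16831 (iv F33228)))
theorem Q18308 : ∀ i, i < 18308 → P i := stepQ 18307 Q18307 (allL N18307 (tt N15336 F33229) (tt N20801 (iv F39141)) (tt N15332 F33230) (tt N20802 D20840) (tt N15331 (iv D18341)) (tt N20803 D20841))
theorem Q18309 : ∀ i, i < 18309 → P i := stepQ 18308 Q18308 (allL N18308 (tt N15337 F33231) (tt N16831 F33232) (tt N15333 F33233) (tt N15352 F33234) (tt N17768 (iv F33235)) (tt N15331 (iv D18342)))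
theorem Q18310 : ∀ i, i < 18310 → P i := stepQ 18309 Q18309 (allL N18309 (tt N15338 F33236) (tt N18402 (iv F33406)) (tt N20803 (iv F39145)) (tt N17990 F33237) (tt N17774 F33238) (tt N15332 (iv D18343)))
theorem Q18311 : ∀ i, i < 18311 → P i := stepQ 18310 Q18310 (allL N18310 (tt N20523 (iv F38449)) (tt N19908 (iv F36963)) (tt N20522 (iv F38447)) (tt N20804 D20842) (tt N15335 (iv D18344)) (tt N20805 D20843))
theorem Q18312 : ∀ i, i < 18312 → P i := stepQ 18311 Q18311 (allL N18311 (tt N15352 F33239) (tt N15370 F33240) (tt N15350 F33241) (tt N15337 F33242) (tt N20806 D20844) (tt N15335 (iv D18345)))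
theorem Q18313 : ∀ i, i < 18313 → P i := stepQ 18312 Q18312 (allL N18312 (tt N20802 (iv F39143)) (tt N19900 (iv F36951)) (tt N20807 D20845) (tt N15336 (iv D18346)) (tt N20804 (iv F39147)) (tt N20808 D20846))
theorem Q18314 : ∀ i, i < 18314 → P i := stepQ 18313 Q18313 (allL N18313 (tt N20803 (iv F39144)) (tt N17772 F33243) (tt N15338 F33244) (tt N20808 (iv F39153)) (tt N17770 F33245) (tt N15336 (iv D18347)))
theorem Q18315 : ∀ i, i < 18315 → P i := stepQ 18314 Q18314 (allL N18314 (tt N20337 (iv F38016)) (tt N15339 (iv D18348)) (tt N20364 (iv F38083)) (tt N20358 (iv F38073)) (tt N20809 D20847) (tt N20335 F38013))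
theorem Q18316 : ∀ i, i < 18316 → P i := stepQ 18315 Q18315 (allL N18315 (tt N15342 F33246) (tt N20358 (iv F38072)) (tt N18222 F33247) (tt N15339 (iv D18349)) (tt N20810 D20848) (tt N20345 (iv F38036)))
theorem Q18317 : ∀ i, i < 18317 → P i := stepQ 18316 Q18316 (allL N18316 (tt N15343 F33248) (tt N20809 (iv F39154)) (tt N15340 F33249) (tt N20811 D20849) (tt N15339 (iv D18350)) (tt N20534 (iv F38467)))
theorem Q18318 : ∀ i, i < 18318 → P i := stepQ 18317 Q18317 (allL N18317 (tt N20810 (iv F39155)) (tt N19175 (iv F35273)) (tt N18260 F33250) (tt N20812 D20850) (tt N15342 (iv D18351)) (tt N20813 D20851))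
theorem Q18319 : ∀ i, i < 18319 → P i := stepQ 18318 Q18318 (allL N18318 (tt N20811 (iv F39157)) (tt N20349 (iv F38042)) (tt N20438 (iv F38255)) (tt N15343 (iv D18352)) (tt N20812 (iv F39158)) (tt N20435 F38248))
theorem Q18320 : ∀ i, i < 18320 → P i := stepQ 18319 Q18319 (allL N18319 (tt N15344 (iv D18353)) (tt N15407 F33251) (tt N15592 F33252) (tt N20504 (iv F38402)) (tt N15345 F33253) (tt N15355 F33254))
theorem Q18321 : ∀ i, i < 18321 → P i := stepQ 18320 Q18320 (allL N18320 (tt N15347 F33255) (tt N20315 (iv F37956)) (tt N15346 (iv D18354)) (tt N20814 D20852) (tt N20815 D20853) (tt N15414 F33256))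
theorem Q18322 : ∀ i, i < 18322 → P i := stepQ 18321 Q18321 (allL N18321 (tt N15348 F33257) (tt N15406 F33258) (tt N20815 (iv F39164)) (tt N15357 F33259) (tt N15346 (iv D18355)) (tt N20505 (iv F38409)))
theorem Q18323 : ∀ i, i < 18323 → P i := stepQ 18322 Q18322 (allL N18322 (tt N20814 (iv F39160)) (tt N15418 F33260) (tt N20816 D20854) (tt N15347 (iv D18356)) (tt N20817 D20855) (tt N15415 F33261))
theorem Q18324 : ∀ i, i < 18324 → P i := stepQ 18323 Q18323 (allL N18323 (tt N20815 (iv F39163)) (tt N15421 F33262) (tt N15348 F33263) (tt N20818 D20856) (tt N15347 (iv D18357)) (tt N20506 (iv F38414)))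
theorem Q18325 : ∀ i, i < 18325 → P i := stepQ 18324 Q18324 (allL N18324 (tt N18594 (iv F33894)) (tt N15350 F33264) (tt N19522 (iv F36127)) (tt N15349 (iv D18358)) (tt N20157 (iv F37551)) (tt N18591 (iv F33886)))
theorem Q18326 : ∀ i, i < 18326 → P i := stepQ 18325 Q18325 (allL N18325 (tt N18595 (iv F33899)) (tt N15351 F33265) (tt N19725 (iv F36603)) (tt N20819 D20857) (tt N15349 (iv D18359)) (tt N18601 (iv F33922)))
theorem Q18327 : ∀ i, i < 18327 → P i := stepQ 18326 Q18326 (allL N18326 (tt N15353 F33266) (tt N20157 (iv F37550)) (tt N20806 (iv F39150)) (tt N20820 D20858) (tt N15350 (iv D18360)) (tt N20821 D20859))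
theorem Q18328 : ∀ i, i < 18328 → P i := stepQ 18327 Q18327 (allL N18327 (tt N15354 F33267) (tt N20819 (iv F39178)) (tt N20437 (iv F38251)) (tt N15351 (iv D18361)) (tt N20820 (iv F39180)) (tt N20528 (iv F38458)))
theorem Q18329 : ∀ i, i < 18329 → P i := stepQ 18328 Q18328 (allL N18328 (tt N20806 (iv F39148)) (tt N19661 (iv F36456)) (tt N15353 F33268) (tt N20822 D20860) (tt N15352 (iv D18362)) (tt N20823 D20861))
theorem Q18330 : ∀ i, i < 18330 → P i := stepQ 18329 Q18329 (allL N18329 (tt N20820 (iv F39179)) (tt N17579 F33269) (tt N18502 (iv F33666)) (tt N15353 (iv D18363)) (tt N15354 F33270) (tt N17589 (iv F33271)))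
theorem Q18331 : ∀ i, i < 18331 → P i := stepQ 18330 Q18330 (allL N18330 (tt N20821 (iv F39182)) (tt N17590 F33272) (tt N20823 (iv F39187)) (tt N17589 F33273) (tt N20524 (iv F38453)) (tt N15353 (iv D18364)))
theorem Q18332 : ∀ i, i < 18332 → P i := stepQ 18331 Q18331 (allL N18331 (tt N20437 F38252) (tt N18503 (iv F33668)) (tt N15354 (iv D18365)) (tt N20436 (iv F38253)) (tt N18502 F33667) (tt N20532 (iv F38461)))
theorem Q18333 : ∀ i, i < 18333 → P i := stepQ 18332 Q18332 (allL N18332 (tt N15356 F33274) (tt N17278 F33275) (tt N20824 D20862) (tt N15355 (iv D18366)) (tt N20501 (iv F38391)) (tt N20504 (iv F38404)))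
theorem Q18334 : ∀ i, i < 18334 → P i := stepQ 18333 Q18333 (allL N18333 (tt N20824 (iv F39188)) (tt N18992 (iv F34897)) (tt N15356 (iv D18367)) (tt N16467 F33277) (tt N18988 (iv F34889)) (tt N16466 F33276))
theorem Q18335 : ∀ i, i < 18335 → P i := stepQ 18334 Q18334 (allL N18334 (tt N15359 F33278) (tt N20582 (iv F38584)) (tt N17970 F33279) (tt N20505 (iv F38408)) (tt N20502 F38396) (tt N15357 (iv D18368)))
theorem Q18336 : ∀ i, i < 18336 → P i := stepQ 18335 Q18335 (allL N18335 (tt N17970 F33280) (tt N20587 (iv F38599)) (tt N15359 F33281) (tt N18695 (iv F34137)) (tt N20503 (iv F38398)) (tt N15358 (iv D18369)))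
theorem Q18337 : ∀ i, i < 18337 → P i := stepQ 18336 Q18336 (allL N18336 (tt N15362 F33282) (tt N17140 F33283) (tt N15364 F33284) (tt N17263 F33285) (tt N15361 (iv D18370)) (tt N17265 (iv F33286)))
theorem Q18338 : ∀ i, i < 18338 → P i := stepQ 18337 Q18337 (allL N18337 (tt N15903 F33287) (tt N15366 F33288) (tt N19637 (iv F36398)) (tt N15365 (iv D18371)) (tt N16746 F33289) (tt N20825 D20863))
theorem Q18339 : ∀ i, i < 18339 → P i := stepQ 18338 Q18338 (allL N18338 (tt N15904 F33290) (tt N15367 F33291) (tt N15909 F33292) (tt N20825 (iv F39194)) (tt N20203 (iv F37678)) (tt N15365 (iv D18372)))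
theorem Q18340 : ∀ i, i < 18340 → P i := stepQ 18339 Q18339 (allL N18339 (tt N15369 F33293) (tt N20825 (iv F39193)) (tt N20175 (iv F37605)) (tt N15367 F33294) (tt N19939 (iv F37052)) (tt N15366 (iv D18373)))
theorem Q18341 : ∀ i, i < 18341 → P i := stepQ 18340 Q18340 (allL N18340 (tt N15616 F33295) (tt N19522 (iv F36126)) (tt N15370 (iv D18374)) (tt N15614 F33296) (tt N20826 D20864) (tt N15619 F33297))
theorem Q18342 : ∀ i, i < 18342 → P i := stepQ 18341 Q18341 (allL N18341 (tt N16833 F33298) (tt N20806 (iv F39149)) (tt N20826 (iv F39196)) (tt N17771 F33299) (tt N15370 (iv D18375)) (tt N20827 D20865))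
theorem Q18343 : ∀ i, i < 18343 → P i := stepQ 18342 Q18342 (allL N18342 (tt N15374 F33300) (tt N15391 F33301) (tt N15373 F33302) (tt N20828 D20866) (tt N15372 (iv D18376)) (tt N20172 (iv F37596)))
theorem Q18344 : ∀ i, i < 18344 → P i := stepQ 18343 Q18343 (allL N18343 (tt N20828 (iv F39200)) (tt N15375 F33303) (tt N19640 (iv F36407)) (tt N15374 (iv D18377)) (tt N20202 (iv F37674)) (tt N19638 F36403))
theorem Q18345 : ∀ i, i < 18345 → P i := stepQ 18344 Q18344 (allL N18344 (tt N20172 (iv F37593)) (tt N15376 F33304) (tt N16748 F33305) (tt N19638 (iv F36402)) (tt N16747 F33306) (tt N15374 (iv D18378)))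
theorem Q18346 : ∀ i, i < 18346 → P i := stepQ 18345 Q18345 (allL N18345 (tt N19958 (iv F37106)) (tt N19644 (iv F36416)) (tt N15375 (iv D18379)) (tt N19644 (iv F36418)) (tt N19938 (iv F37049)) (tt N19643 F36415))
theorem Q18347 : ∀ i, i < 18347 → P i := stepQ 18346 Q18346 (allL N18346 (tt N20174 (iv F37599)) (tt N19638 (iv F36400)) (tt N19643 (iv F36413)) (tt N15376 F33307) (tt N19636 (iv F36395)) (tt N15375 (iv D18380)))
theorem Q18348 : ∀ i, i < 18348 → P i := stepQ 18347 Q18347 (allL N18347 (tt N20313 (iv F37950)) (tt N15381 F33308) (tt N15588 F33309) (tt N16412 F33310) (tt N15379 (iv D18381)) (tt N17767 F33311))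
theorem Q18349 : ∀ i, i < 18349 → P i := stepQ 18348 Q18348 (allL N18348 (tt N18416 (iv F33440)) (tt N16412 F33312) (tt N20829 D20867) (tt N15381 (iv D18382)) (tt N16411 F33313) (tt N18169 F33314))
theorem Q18350 : ∀ i, i < 18350 → P i := stepQ 18349 Q18349 (allL N18349 (tt N16411 F33315) (tt N20104 (iv F37450)) (tt N20830 D20868) (tt N15383 (iv D18383)) (tt N18416 (iv F33441)) (tt N20303 (iv F37922)))
theorem Q18351 : ∀ i, i < 18351 → P i := stepQ 18350 Q18350 (allL N18350 (tt N20202 (iv F37672)) (tt N15392 F33316) (tt N20831 D20869) (tt N15390 (iv D18384)) (tt N20828 (iv F39202)) (tt N20832 D20870))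
theorem Q18352 : ∀ i, i < 18352 → P i := stepQ 18351 Q18351 (allL N18351 (tt N20203 (iv F37675)) (tt N15393 F33317) (tt N15439 F33318) (tt N20832 (iv F39214)) (tt N15904 F33319) (tt N15390 (iv D18385)))
theorem Q18353 : ∀ i, i < 18353 → P i := stepQ 18352 Q18352 (allL N18352 (tt N15394 F33320) (tt N20828 (iv F39201)) (tt N20833 D20871) (tt N15391 (iv D18386)) (tt N15392 F33321) (tt N20834 D20872))
theorem Q18354 : ∀ i, i < 18354 → P i := stepQ 18353 Q18353 (allL N18353 (tt N15395 F33322) (tt N20172 (iv F37594)) (tt N15395 F33323) (tt N20834 (iv F39218)) (tt N20170 (iv F37587)) (tt N15391 (iv D18387)))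
theorem Q18355 : ∀ i, i < 18355 → P i := stepQ 18354 Q18354 (allL N18354 (tt N15396 F33324) (tt N20835 D20873) (tt N15392 (iv D18388)) (tt N20385 (iv F38146)) (tt N20833 (iv F39216)) (tt N20384 (iv F38143)))
theorem Q18356 : ∀ i, i < 18356 → P i := stepQ 18355 Q18355 (allL N18355 (tt N15397 F33325) (tt N20832 (iv F39213)) (tt N20384 (iv F38142)) (tt N15393 F33326) (tt N20836 D20874) (tt N15392 (iv D18389)))
theorem Q18357 : ∀ i, i < 18357 → P i := stepQ 18356 Q18356 (allL N18356 (tt N20833 (iv F39215)) (tt N20837 D20875) (tt N15394 (iv D18390)) (tt N20838 D20876) (tt N15396 F33327) (tt N20839 D20877))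
theorem Q18358 : ∀ i, i < 18358 → P i := stepQ 18357 Q18357 (allL N18357 (tt N20834 (iv F39217)) (tt N20174 (iv F37600)) (tt N20839 (iv F39222)) (tt N15395 F33328) (tt N20198 (iv F37663)) (tt N15394 (iv D18391)))
theorem Q18359 : ∀ i, i < 18359 → P i := stepQ 18358 Q18358 (allL N18358 (tt N20840 D20878) (tt N15396 (iv D18392)) (tt N19957 (iv F37104)) (tt N20841 D20879) (tt N20837 (iv F39221)) (tt N19956 F37102))
theorem Q18360 : ∀ i, i < 18360 → P i := stepQ 18359 Q18359 (allL N18359 (tt N20385 (iv F38144)) (tt N20841 (iv F39223)) (tt N19267 (iv F35493)) (tt N15396 (iv D18393)) (tt N20842 D20880) (tt N19266 F35490))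
theorem Q18361 : ∀ i, i < 18361 → P i := stepQ 18360 Q18360 (allL N18360 (tt N20384 (iv F38141)) (tt N19956 (iv F37101)) (tt N15397 F33329) (tt N19266 (iv F35489)) (tt N20843 D20881) (tt N15396 (iv D18394)))
theorem Q18362 : ∀ i, i < 18362 → P i := stepQ 18361 Q18361 (allL N18361 (tt N20836 (iv F39219)) (tt N19936 F37040) (tt N20843 (iv F39224)) (tt N20195 (iv F37651)) (tt N15397 (iv D18395)) (tt N20198 (iv F37664)))
theorem Q18363 : ∀ i, i < 18363 → P i := stepQ 18362 Q18362 (allL N18362 (tt N15404 F33330) (tt N16921 F33331) (tt N20797 (iv F39131)) (tt N15402 (iv D18396)) (tt N17282 F33332) (tt N15579 F33333))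
theorem Q18364 : ∀ i, i < 18364 → P i := stepQ 18363 Q18363 (allL N18363 (tt N20797 (iv F39127)) (tt N17205 F33334) (tt N15404 (iv D18397)) (tt N20793 (iv F39113)) (tt N17206 F33335) (tt N20798 (iv F39136)))
theorem Q18365 : ∀ i, i < 18365 → P i := stepQ 18364 Q18364 (allL N18364 (tt N15409 F33336) (tt N20505 (iv F38406)) (tt N18613 F33952) (tt N20582 (iv F38586)) (tt N20400 (iv F38175)) (tt N15406 (iv D18398)))
theorem Q18366 : ∀ i, i < 18366 → P i := stepQ 18365 Q18365 (allL N18365 (tt N15410 F33337) (tt N20504 (iv F38400)) (tt N17279 F33338) (tt N15407 (iv D18399)) (tt N20401 (iv F38182)) (tt N17278 F33339))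
theorem Q18367 : ∀ i, i < 18367 → P i := stepQ 18366 Q18366 (allL N18366 (tt N17279 F33340) (tt N17262 F33341) (tt N15410 (iv D18400)) (tt N17261 F33342) (tt N20426 (iv F38234)) (tt N17260 F33343))
theorem Q18368 : ∀ i, i < 18368 → P i := stepQ 18367 Q18367 (allL N18367 (tt N15421 F33344) (tt N20413 (iv F38209)) (tt N15412 F33345) (tt N20844 D20882) (tt N15411 (iv D18401)) (tt N20414 (iv F38214)))
theorem Q18369 : ∀ i, i < 18369 → P i := stepQ 18368 Q18368 (allL N18368 (tt N15423 F33346) (tt N19388 (iv F35743)) (tt N20845 D20883) (tt N15412 (iv D18402)) (tt N15413 F33347) (tt N19387 (iv F35741)))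
theorem Q18370 : ∀ i, i < 18370 → P i := stepQ 18369 Q18369 (allL N18369 (tt N15424 F33348) (tt N20846 D20884) (tt N15413 (iv D18403)) (tt N20074 (iv F37380)) (tt N20845 (iv F39227)) (tt N15429 F33349))
theorem Q18371 : ∀ i, i < 18371 → P i := stepQ 18370 Q18370 (allL N18370 (tt N15415 F33350) (tt N19848 (iv F36842)) (tt N15594 F33351) (tt N15414 (iv D18404)) (tt N19362 (iv F35693)) (tt N20814 (iv F39162)))
theorem Q18372 : ∀ i, i < 18372 → P i := stepQ 18371 Q18371 (allL N18371 (tt N15594 F33352) (tt N19743 (iv F36653)) (tt N15415 (iv D18405)) (tt N15590 F33353) (tt N18662 (iv F34083)) (tt N20816 (iv F39169)))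
theorem Q18373 : ∀ i, i < 18373 → P i := stepQ 18372 Q18372 (allL N18372 (tt N19362 (iv F35690)) (tt N15417 F33354) (tt N18662 (iv F34084)) (tt N16214 F33355) (tt N15415 (iv D18406)) (tt N16213 (iv F33356)))
theorem Q18374 : ∀ i, i < 18374 → P i := stepQ 18373 Q18373 (allL N18373 (tt N18451 F33539) (tt N16213 F33357) (tt N18454 (iv F33549)) (tt N16212 F33358) (tt N20847 D20885) (tt N15417 (iv D18407)))
theorem Q18375 : ∀ i, i < 18375 → P i := stepQ 18374 Q18374 (allL N18374 (tt N19832 (iv F36813)) (tt N20817 (iv F39170)) (tt N19819 F36797) (tt N20848 D20886) (tt N15418 (iv D18408)) (tt N20847 (iv F39234)))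
theorem Q18376 : ∀ i, i < 18376 → P i := stepQ 18375 Q18375 (allL N18375 (tt N20403 (iv F38189)) (tt N16222 F33359) (tt N16228 F33360) (tt N15420 F33361) (tt N16218 F33362) (tt N15419 (iv D18409)))
theorem Q18377 : ∀ i, i < 18377 → P i := stepQ 18376 Q18376 (allL N18376 (tt N20414 F38215) (tt N20506 (iv F38411)) (tt N15422 F33363) (tt N20849 D20887) (tt N15420 (iv D18410)) (tt N15421 F33364))
theorem Q18378 : ∀ i, i < 18378 → P i := stepQ 18377 Q18377 (allL N18377 (tt N20844 (iv F39225)) (tt N20818 (iv F39174)) (tt N20850 D20888) (tt N15421 (iv D18411)) (tt N20848 (iv F39236)) (tt N20849 (iv F39240)))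
theorem Q18379 : ∀ i, i < 18379 → P i := stepQ 18378 Q18378 (allL N18378 (tt N20845 (iv F39226)) (tt N20543 (iv F38482)) (tt N15423 (iv D18412)) (tt N20851 D20889) (tt N15424 F33365) (tt N20516 (iv F38427)))
theorem Q18380 : ∀ i, i < 18380 → P i := stepQ 18379 Q18379 (allL N18379 (tt N20852 D20890) (tt N15424 (iv D18413)) (tt N15426 F33366) (tt N20853 D20891) (tt N20543 (iv F38484)) (tt N15434 F33367))
theorem Q18381 : ∀ i, i < 18381 → P i := stepQ 18380 Q18380 (allL N18380 (tt N20074 (iv F37378)) (tt N20853 (iv F39243)) (tt N20071 (iv F37372)) (tt N15424 (iv D18414)) (tt N20854 D20892) (tt N15435 F33368))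
theorem Q18382 : ∀ i, i < 18382 → P i := stepQ 18381 Q18381 (allL N18381 (tt N15426 (iv D18415)) (tt N20355 (iv F38066)) (tt N20852 (iv F39241)) (tt N20334 (iv F38009)) (tt N20540 (iv F38479)) (tt N15436 F33369))
theorem Q18383 : ∀ i, i < 18383 → P i := stepQ 18382 Q18382 (allL N18382 (tt N15432 F33370) (tt N16204 F33371) (tt N19204 (iv F35351)) (tt N16203 F33372) (tt N20376 (iv F38113)) (tt N15427 (iv D18416)))
theorem Q18384 : ∀ i, i < 18384 → P i := stepQ 18383 Q18383 (allL N18383 (tt N20855 D20893) (tt N15429 (iv D18417)) (tt N19370 (iv F35710)) (tt N20072 (iv F37375)) (tt N19369 F35708) (tt N20846 (iv F39229)))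
theorem Q18385 : ∀ i, i < 18385 → P i := stepQ 18384 Q18384 (allL N18384 (tt N19204 (iv F35349)) (tt N15766 F33373) (tt N15432 F33374) (tt N15785 F33375) (tt N18569 (iv F33828)) (tt N15430 (iv D18418)))
theorem Q18386 : ∀ i, i < 18386 → P i := stepQ 18385 Q18385 (allL N18385 (tt N16203 F33376) (tt N20317 (iv F37964)) (tt N16206 F33377) (tt N15432 F33378) (tt N18877 (iv F34621)) (tt N15431 (iv D18419)))
theorem Q18387 : ∀ i, i < 18387 → P i := stepQ 18386 Q18386 (allL N18386 (tt N16228 F33379) (tt N15433 (iv D18420)) (tt N20403 (iv F38190)) (tt N15433 (iv F33381)) (tt N16225 F33380) (tt N18880 (iv F34636)))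
theorem Q18388 : ∀ i, i < 18388 → P i := stepQ 18387 Q18387 (allL N18387 (tt N15434 (iv D18421)) (tt N20855 (iv F39245)) (tt N15436 F33382) (tt N20856 D20894) (tt N20518 (iv F38434)) (tt N20852 (iv F39242)))
theorem Q18389 : ∀ i, i < 18389 → P i := stepQ 18388 Q18388 (allL N18388 (tt N20856 (iv F39248)) (tt N15435 F33383) (tt N20857 D20895) (tt N15434 (iv D18422)) (tt N20858 D20896) (tt N20853 (iv F39244)))
theorem Q18390 : ∀ i, i < 18390 → P i := stepQ 18389 Q18389 (allL N18389 (tt N20073 (iv F37376)) (tt N20858 (iv F39249)) (tt N19843 F36836) (tt N20521 (iv F38445)) (tt N15435 (iv D18423)) (tt N20859 D20897))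
theorem Q18391 : ∀ i, i < 18391 → P i := stepQ 18390 Q18390 (allL N18390 (tt N15437 F33384) (tt N20354 (iv F38061)) (tt N20860 D20898) (tt N15436 (iv D18424)) (tt N20536 (iv F38472)) (tt N20334 (iv F38011)))
theorem Q18392 : ∀ i, i < 18392 → P i := stepQ 18391 Q18391 (allL N18391 (tt N20860 (iv F39250)) (tt N20330 (iv F37995)) (tt N15437 (iv D18425)) (tt N20861 D20899) (tt N20537 (iv F38473)) (tt N20331 (iv F38000)))
theorem Q18393 : ∀ i, i < 18393 → P i := stepQ 18392 Q18392 (allL N18392 (tt N15439 F33385) (tt N15441 F33386) (tt N20203 (iv F37677)) (tt N18302 F33387) (tt N15909 F33388) (tt N15438 (iv D18426)))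
theorem Q18394 : ∀ i, i < 18394 → P i := stepQ 18393 Q18393 (allL N18393 (tt N20199 (iv F37665)) (tt N15443 F33389) (tt N20862 D20900) (tt N15442 (iv D18427)) (tt N17930 (iv F33390)) (tt N20863 D20901))
theorem Q18395 : ∀ i, i < 18395 → P i := stepQ 18394 Q18394 (allL N18394 (tt N20200 (iv F37667)) (tt N15444 F33391) (tt N15448 F33392) (tt N20863 (iv F39256)) (tt N19741 (iv F36648)) (tt N15442 (iv D18428)))
theorem Q18396 : ∀ i, i < 18396 → P i := stepQ 18395 Q18395 (allL N18395 (tt N17935 F33393) (tt N20863 (iv F39255)) (tt N17932 F33394) (tt N15444 F33395) (tt N20864 D20902) (tt N15443 (iv D18429)))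
theorem Q18397 : ∀ i, i < 18397 → P i := stepQ 18396 Q18396 (allL N18396 (tt N19602 (iv F36318)) (tt N19741 (iv F36646)) (tt N15445 F33396) (tt N20865 D20903) (tt N15444 (iv D18430)) (tt N19599 (iv F36315)))
theorem Q18398 : ∀ i, i < 18398 → P i := stepQ 18397 Q18397 (allL N18397 (tt N15447 F33397) (tt N19780 (iv F36730)) (tt N20866 D20904) (tt N15446 (iv D18431)) (tt N19738 (iv F36643)) (tt N20353 (iv F38060)))
theorem Q18399 : ∀ i, i < 18399 → P i := stepQ 18398 Q18398 (allL N18398 (tt N15448 F33398) (tt N19781 (iv F36733)) (tt N20200 (iv F37669)) (tt N20353 (iv F38058)) (tt N19737 (iv F36641)) (tt N15446 (iv D18432)))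
theorem Q18400 : ∀ i, i < 18400 → P i := stepQ 18399 Q18399 (allL N18399 (tt N20866 (iv F39260)) (tt N15859 F33399) (tt N15447 (iv D18433)) (tt N20867 D20905) (tt N19742 (iv F36650)) (tt N15857 F33400))
theorem Q18401 : ∀ i, i < 18401 → P i := stepQ 18400 Q18400 (allL N18400 (tt N15453 F33401) (tt N17088 F33402) (tt N15453 F33403) (tt N20868 D20906) (tt N15449 (iv D18434)) (tt N20869 D20907))
theorem Q18402 : ∀ i, i < 18402 → P i := stepQ 18401 Q18401 (allL N18401 (tt N15454 F33404) (tt N20580 (iv F38578)) (tt N20870 D20908) (tt N15450 (iv D18435)) (tt N20868 (iv F39266)) (tt N20745 (iv F39011)))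
theorem Q18403 : ∀ i, i < 18403 → P i := stepQ 18402 Q18402 (allL N18402 (tt N15452 F33405) (tt N18309 F33406) (tt N19635 (iv F36389)) (tt N15451 (iv D18436)) (tt N15908 F33407) (tt N17159 F33408))
theorem Q18404 : ∀ i, i < 18404 → P i := stepQ 18403 Q18403 (allL N18403 (tt N20868 (iv F39264)) (tt N17005 F33409) (tt N20871 D20909) (tt N15453 (iv D18437)) (tt N15454 F33410) (tt N20872 D20910))
theorem Q18405 : ∀ i, i < 18405 → P i := stepQ 18404 Q18404 (allL N18404 (tt N20869 (iv F39267)) (tt N17006 F33411) (tt N20869 (iv F39269)) (tt N20872 (iv F39274)) (tt N17083 F33412) (tt N15453 (iv D18438)))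
theorem Q18406 : ∀ i, i < 18406 → P i := stepQ 18405 Q18405 (allL N18405 (tt N20870 (iv F39271)) (tt N20873 D20911) (tt N15454 (iv D18439)) (tt N20874 D20912) (tt N20871 (iv F39272)) (tt N20875 D20913))
theorem Q18407 : ∀ i, i < 18407 → P i := stepQ 18406 Q18406 (allL N18406 (tt N20745 (iv F39010)) (tt N17008 F33413) (tt N20875 (iv F39276)) (tt N15455 F33414) (tt N20876 D20914) (tt N15454 (iv D18440)))
theorem Q18408 : ∀ i, i < 18408 → P i := stepQ 18407 Q18407 (allL N18407 (tt N15458 F33415) (tt N17731 F33416) (tt N15456 (iv D18441)) (tt N19653 (iv F36435)) (tt N16725 F33417) (tt N17729 (iv F33418)))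
theorem Q18409 : ∀ i, i < 18409 → P i := stepQ 18408 Q18408 (allL N18408 (tt N15459 F33419) (tt N16726 F33420) (tt N17729 F33421) (tt N15457 F33422) (tt N16723 F33423) (tt N15456 (iv D18442)))
theorem Q18410 : ∀ i, i < 18410 → P i := stepQ 18409 Q18409 (allL N18409 (tt N20877 D20915) (tt N15458 (iv D18443)) (tt N15460 F33424) (tt N20878 D20916) (tt N16946 F33425) (tt N20879 D20917))
theorem Q18411 : ∀ i, i < 18411 → P i := stepQ 18410 Q18410 (allL N18410 (tt N19653 (iv F36434)) (tt N20878 (iv F39283)) (tt N19651 (iv F36432)) (tt N15458 (iv D18444)) (tt N20880 D20918) (tt N20881 D20919))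
theorem Q18412 : ∀ i, i < 18412 → P i := stepQ 18411 Q18411 (allL N18411 (tt N17729 F33426) (tt N20879 (iv F39285)) (tt N15459 F33427) (tt N20881 (iv F39290)) (tt N17728 F33428) (tt N15458 (iv D18445)))
theorem Q18413 : ∀ i, i < 18413 → P i := stepQ 18412 Q18412 (allL N18412 (tt N16723 F33429) (tt N15463 F33430) (tt N17728 F33431) (tt N16588 F33432) (tt N15459 (iv D18446)) (tt N16587 F33433))
theorem Q18414 : ∀ i, i < 18414 → P i := stepQ 18413 Q18413 (allL N18413 (tt N15460 (iv D18447)) (tt N16999 F33434) (tt N20877 (iv F39280)) (tt N20882 D20920) (tt N16948 F33435) (tt N20883 D20921))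
theorem Q18415 : ∀ i, i < 18415 → P i := stepQ 18414 Q18414 (allL N18414 (tt N20882 (iv F39291)) (tt N15461 F33436) (tt N20884 D20922) (tt N15460 (iv D18448)) (tt N16992 F33437) (tt N20735 (iv F38990)))
theorem Q18416 : ∀ i, i < 18416 → P i := stepQ 18415 Q18415 (allL N18415 (tt N20883 (iv F39294)) (tt N15462 F33438) (tt N20879 (iv F39286)) (tt N20735 (iv F38988)) (tt N16998 F33439) (tt N15460 (iv D18449)))
theorem Q18417 : ∀ i, i < 18417 → P i := stepQ 18416 Q18416 (allL N18416 (tt N18348 F33440) (tt N20684 (iv F38851)) (tt N20707 (iv F38922)) (tt N15465 (iv D18450)) (tt N18349 F33441) (tt N15470 F33442))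
theorem Q18418 : ∀ i, i < 18418 → P i := stepQ 18417 Q18417 (allL N18417 (tt N18628 (iv F33988)) (tt N16917 F33443) (tt N15502 F33444) (tt N20885 D20923) (tt N15468 (iv D18451)) (tt N15469 F33445))
theorem Q18419 : ∀ i, i < 18419 → P i := stepQ 18418 Q18418 (allL N18418 (tt N20651 (iv F38737)) (tt N20682 (iv F38847)) (tt N20886 D20924) (tt N15469 (iv D18452)) (tt N15470 F33446) (tt N20885 (iv F39302)))
theorem Q18420 : ∀ i, i < 18420 → P i := stepQ 18419 Q18419 (allL N18419 (tt N20685 (iv F38854)) (tt N20887 D20925) (tt N15470 (iv D18453)) (tt N20704 (iv F38913)) (tt N20886 (iv F39305)) (tt N20707 (iv F38923)))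
theorem Q18421 : ∀ i, i < 18421 → P i := stepQ 18420 Q18420 (allL N18420 (tt N17076 F33447) (tt N15476 (iv D18454)) (tt N17670 F33448) (tt N17075 (iv F33451)) (tt N17033 F33450) (tt N17034 (iv F33449)))
theorem Q18422 : ∀ i, i < 18422 → P i := stepQ 18421 Q18421 (allL N18421 (tt N15481 F33452) (tt N17075 F33453) (tt N18517 (iv F33708)) (tt N15476 (iv D18455)) (tt N15525 (iv F33454)) (tt N20690 (iv F38871)))
theorem Q18423 : ∀ i, i < 18423 → P i := stepQ 18422 Q18422 (allL N18422 (tt N15482 F33455) (tt N17033 F33456) (tt N15477 F33457) (tt N15526 F33458) (tt N15476 (iv D18456)) (tt N15538 (iv F33459)))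
theorem Q18424 : ∀ i, i < 18424 → P i := stepQ 18423 Q18423 (allL N18423 (tt N15483 F33460) (tt N17034 F33461) (tt N15478 F33462) (tt N20690 (iv F38870)) (tt N17030 F33463) (tt N15476 (iv D18457)))
theorem Q18425 : ∀ i, i < 18425 → P i := stepQ 18424 Q18424 (allL N18424 (tt N15484 F33464) (tt N20670 (iv F38808)) (tt N15538 F33465) (tt N15492 F33466) (tt N17029 (iv F33467)) (tt N15477 (iv D18458)))
theorem Q18426 : ∀ i, i < 18426 → P i := stepQ 18425 Q18425 (allL N18425 (tt N15485 F33468) (tt N17669 F33469) (tt N17030 F33470) (tt N20888 D20926) (tt N15478 (iv D18459)) (tt N17029 F33471))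
theorem Q18427 : ∀ i, i < 18427 → P i := stepQ 18426 Q18426 (allL N18426 (tt N15486 F33472) (tt N20668 (iv F38799)) (tt N20889 D20927) (tt N15479 (iv D18460)) (tt N20888 (iv F39314)) (tt N15493 F33473))
theorem Q18428 : ∀ i, i < 18428 → P i := stepQ 18427 Q18427 (allL N18427 (tt N18517 (iv F33704)) (tt N16972 F33474) (tt N15481 (iv D18461)) (tt N18516 F33703) (tt N15530 F33475) (tt N20687 (iv F38861)))
theorem Q18429 : ∀ i, i < 18429 → P i := stepQ 18428 Q18428 (allL N18428 (tt N20690 (iv F38869)) (tt N15536 F33476) (tt N20687 (iv F38860)) (tt N15483 F33477) (tt N15531 F33478) (tt N15481 (iv D18462)))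
theorem Q18430 : ∀ i, i < 18430 → P i := stepQ 18429 Q18429 (allL N18429 (tt N17030 F33479) (tt N15543 F33480) (tt N15485 F33481) (tt N15541 F33482) (tt N15483 (iv D18463)) (tt N15542 F33483))
theorem Q18431 : ∀ i, i < 18431 → P i := stepQ 18430 Q18430 (allL N18430 (tt N17029 F33484) (tt N15489 F33485) (tt N15542 F33486) (tt N20657 (iv F38759)) (tt N15484 (iv D18464)) (tt N15485 F33487))
theorem Q18432 : ∀ i, i < 18432 → P i := stepQ 18431 Q18431 (allL N18431 (tt N20888 (iv F39311)) (tt N15490 F33488) (tt N17038 F33490) (tt N15485 (iv D18465)) (tt N15486 F33489) (tt N20657 (iv F38760)))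
theorem Q18433 : ∀ i, i < 18433 → P i := stepQ 18432 Q18432 (allL N18432 (tt N20889 (iv F39316)) (tt N20890 D20928) (tt N15486 (iv D18466)) (tt N20891 D20929) (tt N17038 F33491) (tt N15496 F33492))
theorem Q18434 : ∀ i, i < 18434 → P i := stepQ 18433 Q18433 (allL N18433 (tt N20892 D20930) (tt N15491 (iv D18467)) (tt N20890 (iv F39319)) (tt N20710 (iv F38932)) (tt N20663 (iv F38784)) (tt N15497 F33493))
theorem Q18435 : ∀ i, i < 18435 → P i := stepQ 18434 Q18434 (allL N18434 (tt N15496 F33494) (tt N20893 D20931) (tt N15493 (iv D18468)) (tt N20894 D20932) (tt N20652 (iv F38742)) (tt N20889 (iv F39318)))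
theorem Q18436 : ∀ i, i < 18436 → P i := stepQ 18435 Q18435 (allL N18435 (tt N20895 D20933) (tt N15496 (iv D18469)) (tt N15497 F33495) (tt N20896 D20934) (tt N20654 (iv F38749)) (tt N20890 (iv F39321)))
theorem Q18437 : ∀ i, i < 18437 → P i := stepQ 18436 Q18436 (allL N18436 (tt N20894 (iv F39326)) (tt N20896 (iv F39328)) (tt N20897 D20935) (tt N15496 (iv D18470)) (tt N20898 D20936) (tt N20891 (iv F39323)))
theorem Q18438 : ∀ i, i < 18438 → P i := stepQ 18437 Q18437 (allL N18437 (tt N15497 (iv D18471)) (tt N20678 (iv F38834)) (tt N20895 (iv F39327)) (tt N20899 D20937) (tt N20658 (iv F38763)) (tt N20892 (iv F39325)))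
theorem Q18439 : ∀ i, i < 18439 → P i := stepQ 18438 Q18438 (allL N18438 (tt N20899 (iv F39329)) (tt N15498 F33496) (tt N20900 D20938) (tt N15497 (iv D18472)) (tt N20664 (iv F38786)) (tt N20710 (iv F38934)))
theorem Q18440 : ∀ i, i < 18440 → P i := stepQ 18439 Q18439 (allL N18439 (tt N15606 F33497) (tt N16919 F33498) (tt N15501 F33499) (tt N20632 (iv F38684)) (tt N15500 (iv D18473)) (tt N15578 F33500))
theorem Q18441 : ∀ i, i < 18441 → P i := stepQ 18440 Q18440 (allL N18440 (tt N15743 F33501) (tt N15504 (iv D18474)) (tt N15740 F33502) (tt N18090 (iv F33504)) (tt N19758 (iv F36690)) (tt N15741 F33503))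
theorem Q18442 : ∀ i, i < 18442 → P i := stepQ 18441 Q18441 (allL N18441 (tt N15507 F33505) (tt N18090 F33506) (tt N20675 (iv F38827)) (tt N15504 (iv D18475)) (tt N20901 D20939) (tt N15746 F33507))
theorem Q18443 : ∀ i, i < 18443 → P i := stepQ 18442 Q18442 (allL N18442 (tt N15508 F33508) (tt N19758 (iv F36689)) (tt N15505 F33509) (tt N20902 D20940) (tt N15504 (iv D18476)) (tt N15652 F33510))
theorem Q18444 : ∀ i, i < 18444 → P i := stepQ 18443 Q18443 (allL N18443 (tt N20675 (iv F38825)) (tt N18087 F33511) (tt N15507 (iv D18477)) (tt N20667 (iv F38796)) (tt N20903 D20941) (tt N15747 F33512))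
theorem Q18445 : ∀ i, i < 18445 → P i := stepQ 18444 Q18444 (allL N18444 (tt N20901 (iv F39331)) (tt N15752 F33513) (tt N20903 (iv F39342)) (tt N17982 (iv F33514)) (tt N15507 (iv D18478)) (tt N17981 F33515))
theorem Q18446 : ∀ i, i < 18446 → P i := stepQ 18445 Q18445 (allL N18445 (tt N20902 (iv F39336)) (tt N15587 F33516) (tt N15583 F33519) (tt N15508 (iv D18479)) (tt N17982 F33517) (tt N15582 F33518))
theorem Q18447 : ∀ i, i < 18447 → P i := stepQ 18446 Q18446 (allL N18446 (tt N15514 F33520) (tt N15628 (iv F33523)) (tt N15509 (iv D18480)) (tt N15625 F33521) (tt N20705 (iv F38917)) (tt N15629 F33522))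
theorem Q18448 : ∀ i, i < 18448 → P i := stepQ 18447 Q18447 (allL N18447 (tt N15515 F33524) (tt N19046 (iv F34991)) (tt N15510 (iv D18481)) (tt N18081 F33525) (tt N20703 (iv F38907)) (tt N18084 (iv F33526)))
theorem Q18449 : ∀ i, i < 18449 → P i := stepQ 18448 Q18448 (allL N18448 (tt N15516 F33527) (tt N15525 F33528) (tt N18084 F33529) (tt N15511 F33530) (tt N17075 (iv F33531)) (tt N15510 (iv D18482)))
theorem Q18450 : ∀ i, i < 18450 → P i := stepQ 18449 Q18449 (allL N18449 (tt N18053 F33532) (tt N15570 F33533) (tt N18767 (iv F34268)) (tt N15512 (iv D18483)) (tt N18066 F33534) (tt N15513 F33535))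
theorem Q18451 : ∀ i, i < 18451 → P i := stepQ 18450 Q18450 (allL N18450 (tt N20705 (iv F38914)) (tt N20255 (iv F37807)) (tt N15513 (iv D18484)) (tt N18765 (iv F34257)) (tt N15514 F33536) (tt N18767 (iv F34267)))
theorem Q18452 : ∀ i, i < 18452 → P i := stepQ 18451 Q18451 (allL N18451 (tt N18373 (iv F33539)) (tt N15515 (iv D18485)) (tt N15517 F33537) (tt N19050 (iv F35002)) (tt N20706 (iv F38920)) (tt N15522 (iv F33538)))
theorem Q18453 : ∀ i, i < 18453 → P i := stepQ 18452 Q18452 (allL N18452 (tt N18081 F33540) (tt N19050 (iv F35000)) (tt N18065 F33541) (tt N15515 (iv D18486)) (tt N19047 (iv F34994)) (tt N17797 F33542))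
theorem Q18454 : ∀ i, i < 18454 → P i := stepQ 18453 Q18453 (allL N18453 (tt N18084 F33543) (tt N15522 F33544) (tt N15516 F33545) (tt N17797 F33546) (tt N17074 (iv F33547)) (tt N15515 (iv D18487)))
theorem Q18455 : ∀ i, i < 18455 → P i := stepQ 18454 Q18454 (allL N18454 (tt N15517 (iv D18488)) (tt N15532 F33548) (tt N18373 F33549) (tt N15521 F33550) (tt N20763 (iv F39044)) (tt N15520 F33551))
theorem Q18456 : ∀ i, i < 18456 → P i := stepQ 18455 Q18455 (allL N18455 (tt N16030 F33552) (tt N17797 F33553) (tt N16028 F33554) (tt N15522 (iv D18489)) (tt N17796 F33555) (tt N19050 (iv F35004)))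
theorem Q18457 : ∀ i, i < 18457 → P i := stepQ 18456 Q18456 (allL N18456 (tt N19051 (iv F35005)) (tt N15523 (iv D18490)) (tt N19046 (iv F34992)) (tt N16547 F33556) (tt N20904 D20942) (tt N16556 (iv F33557)))
theorem Q18458 : ∀ i, i < 18458 → P i := stepQ 18457 Q18457 (allL N18457 (tt N15529 F33558) (tt N20904 (iv F39345)) (tt N15524 F33559) (tt N20905 D20943) (tt N15523 (iv D18491)) (tt N20691 (iv F38876)))
theorem Q18459 : ∀ i, i < 18459 → P i := stepQ 18458 Q18458 (allL N18458 (tt N15530 F33560) (tt N16556 F33561) (tt N15525 F33562) (tt N15548 F33563) (tt N18517 (iv F33706)) (tt N15523 (iv D18492)))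
theorem Q18460 : ∀ i, i < 18460 → P i := stepQ 18459 Q18459 (allL N18459 (tt N15531 F33564) (tt N17035 F33565) (tt N20691 (iv F38875)) (tt N15537 F33566) (tt N20690 F38873) (tt N15524 (iv D18493)))
theorem Q18461 : ∀ i, i < 18461 → P i := stepQ 18460 Q18460 (allL N18460 (tt N15527 (iv D18494)) (tt N19051 (iv F35006)) (tt N15532 F33567) (tt N20906 D20944) (tt N20907 D20945) (tt N16968 F33568))
theorem Q18462 : ∀ i, i < 18462 → P i := stepQ 18461 Q18461 (allL N18461 (tt N20906 (iv F39348)) (tt N15528 F33569) (tt N20908 D20946) (tt N15527 (iv D18495)) (tt N20909 D20947) (tt N16971 F33570))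
theorem Q18463 : ∀ i, i < 18463 → P i := stepQ 18462 Q18462 (allL N18462 (tt N20907 (iv F39352)) (tt N15529 F33571) (tt N15533 F33572) (tt N20910 D20948) (tt N15527 (iv D18496)) (tt N20911 D20949))
theorem Q18464 : ∀ i, i < 18464 → P i := stepQ 18463 Q18463 (allL N18463 (tt N16548 F33573) (tt N20909 (iv F39358)) (tt N16546 F33574) (tt N20912 D20950) (tt N15528 (iv D18497)) (tt N20913 D20951))
theorem Q18465 : ∀ i, i < 18465 → P i := stepQ 18464 Q18464 (allL N18464 (tt N15548 F33575) (tt N16971 F33576) (tt N15546 F33577) (tt N15530 F33578) (tt N20914 D20952) (tt N15528 (iv D18498)))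
theorem Q18466 : ∀ i, i < 18466 → P i := stepQ 18465 Q18465 (allL N18465 (tt N20905 (iv F39346)) (tt N20910 (iv F39359)) (tt N20915 D20953) (tt N15529 (iv D18499)) (tt N20912 (iv F39364)) (tt N20916 D20954))
theorem Q18467 : ∀ i, i < 18467 → P i := stepQ 18466 Q18466 (allL N18466 (tt N20691 (iv F38874)) (tt N20911 (iv F39360)) (tt N15531 F33579) (tt N20916 (iv F39374)) (tt N20687 F38862) (tt N15529 (iv D18500)))
theorem Q18468 : ∀ i, i < 18468 → P i := stepQ 18467 Q18467 (allL N18467 (tt N15533 F33580) (tt N20763 (iv F39042)) (tt N20907 (iv F39353)) (tt N20917 D20955) (tt N15532 (iv D18501)) (tt N20918 D20956))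
theorem Q18469 : ∀ i, i < 18469 → P i := stepQ 18468 Q18468 (allL N18468 (tt N20917 (iv F39375)) (tt N15534 F33581) (tt N20919 D20957) (tt N15533 (iv D18502)) (tt N16974 F33582) (tt N17027 (iv F33583)))
theorem Q18470 : ∀ i, i < 18470 → P i := stepQ 18469 Q18469 (allL N18469 (tt N20918 (iv F39379)) (tt N15535 F33584) (tt N20911 (iv F39361)) (tt N17027 F33585) (tt N16973 F33586) (tt N15533 (iv D18503)))
theorem Q18471 : ∀ i, i < 18471 → P i := stepQ 18470 Q18470 (allL N18470 (tt N20709 (iv F38929)) (tt N20920 D20958) (tt N15539 (iv D18504)) (tt N20921 D20959) (tt N20750 (iv F39015)) (tt N20922 D20960))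
theorem Q18472 : ∀ i, i < 18472 → P i := stepQ 18471 Q18471 (allL N18471 (tt N17041 F33587) (tt N20715 (iv F38948)) (tt N20922 (iv F39387)) (tt N15540 F33588) (tt N20923 D20961) (tt N15539 (iv D18505)))
theorem Q18473 : ∀ i, i < 18473 → P i := stepQ 18472 Q18472 (allL N18472 (tt N16543 F33589) (tt N15547 F33590) (tt N15571 F33591) (tt N20924 D20962) (tt N15545 (iv D18506)) (tt N17131 F33592))
theorem Q18474 : ∀ i, i < 18474 → P i := stepQ 18473 Q18473 (allL N18473 (tt N15549 F33593) (tt N16570 F33594) (tt N20914 (iv F39370)) (tt N20925 D20963) (tt N15546 (iv D18507)) (tt N20926 D20964))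
theorem Q18475 : ∀ i, i < 18475 → P i := stepQ 18474 Q18474 (allL N18474 (tt N15550 F33595) (tt N20924 (iv F39392)) (tt N17127 F33597) (tt N15547 (iv D18508)) (tt N20925 (iv F39398)) (tt N17132 F33596))
theorem Q18476 : ∀ i, i < 18476 → P i := stepQ 18475 Q18475 (allL N18475 (tt N20914 (iv F39368)) (tt N15788 F33598) (tt N15549 F33599) (tt N15829 (iv F33600)) (tt N15548 (iv D18509)) (tt N15828 (iv F33601)))
theorem Q18477 : ∀ i, i < 18477 → P i := stepQ 18476 Q18476 (allL N18476 (tt N20925 (iv F39396)) (tt N16554 F33602) (tt N20927 D20965) (tt N15549 (iv D18510)) (tt N15550 F33603) (tt N20928 D20966))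
theorem Q18478 : ∀ i, i < 18478 → P i := stepQ 18477 Q18477 (allL N18477 (tt N20926 (iv F39400)) (tt N16553 F33604) (tt N15828 F33605) (tt N20928 (iv F39408)) (tt N16549 F33606) (tt N15549 (iv D18511)))
theorem Q18479 : ∀ i, i < 18479 → P i := stepQ 18478 Q18478 (allL N18478 (tt N17127 F33607) (tt N20929 D20967) (tt N15550 (iv D18512)) (tt N17113 F33609) (tt N20927 (iv F39405)) (tt N17133 F33608))
theorem Q18480 : ∀ i, i < 18480 → P i := stepQ 18479 Q18479 (allL N18479 (tt N15552 F33610) (tt N20930 D20968) (tt N15551 (iv D18513)) (tt N17133 F33611) (tt N20761 (iv F39041)) (tt N17113 F33612))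
theorem Q18481 : ∀ i, i < 18481 → P i := stepQ 18480 Q18480 (allL N18480 (tt N20931 D20969) (tt N15552 (iv D18514)) (tt N15555 F33613) (tt N20932 D20970) (tt N20693 (iv F38880)) (tt N17126 F33614))
theorem Q18482 : ∀ i, i < 18482 → P i := stepQ 18481 Q18481 (allL N18481 (tt N17133 F33615) (tt N20932 (iv F39417)) (tt N17132 F33616) (tt N15552 (iv D18515)) (tt N20933 D20971) (tt N17127 F33617))
theorem Q18483 : ∀ i, i < 18483 → P i := stepQ 18482 Q18482 (allL N18482 (tt N15555 (iv D18516)) (tt N19709 (iv F36559)) (tt N20931 (iv F39415)) (tt N18519 F33713) (tt N20689 (iv F38867)) (tt N17130 F33618))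
theorem Q18484 : ∀ i, i < 18484 → P i := stepQ 18483 Q18483 (allL N18483 (tt N18717 (iv F34161)) (tt N15557 F33619) (tt N18721 (iv F34176)) (tt N20252 (iv F37799)) (tt N15556 (iv D18517)) (tt N20934 D20972))
theorem Q18485 : ∀ i, i < 18485 → P i := stepQ 18484 Q18484 (allL N18484 (tt N15561 F33620) (tt N20934 (iv F39422)) (tt N15558 F33621) (tt N15576 F33622) (tt N16020 F33623) (tt N15557 (iv D18518)))
theorem Q18486 : ∀ i, i < 18486 → P i := stepQ 18485 Q18485 (allL N18485 (tt N15643 F33624) (tt N18720 (iv F34172)) (tt N20251 (iv F37796)) (tt N15559 (iv D18519)) (tt N15560 F33625) (tt N20935 D20973))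
theorem Q18487 : ∀ i, i < 18487 → P i := stepQ 18486 Q18486 (allL N18486 (tt N15644 F33626) (tt N17952 F33627) (tt N15641 F33628) (tt N20935 (iv F39427)) (tt N18719 (iv F34171)) (tt N15559 (iv D18520)))
theorem Q18488 : ∀ i, i < 18488 → P i := stepQ 18487 Q18487 (allL N18487 (tt N15576 F33629) (tt N15813 F33630) (tt N15572 F33631) (tt N15561 F33632) (tt N20936 D20974) (tt N15560 (iv D18521)))
theorem Q18489 : ∀ i, i < 18489 → P i := stepQ 18488 Q18488 (allL N18488 (tt N15566 F33633) (tt N15687 F33634) (tt N20937 D20975) (tt N15563 (iv D18522)) (tt N15564 F33635) (tt N20938 D20976))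
theorem Q18490 : ∀ i, i < 18490 → P i := stepQ 18489 Q18489 (allL N18489 (tt N15567 F33636) (tt N15688 F33637) (tt N18719 (iv F34170)) (tt N20938 (iv F39437)) (tt N15641 F33638) (tt N15563 (iv D18523)))
theorem Q18491 : ∀ i, i < 18491 → P i := stepQ 18490 Q18490 (allL N18490 (tt N15568 F33639) (tt N15574 F33640) (tt N15564 (iv D18524)) (tt N15574 F33641) (tt N20937 (iv F39434)) (tt N15573 F33642))
theorem Q18492 : ∀ i, i < 18492 → P i := stepQ 18491 Q18491 (allL N18491 (tt N17815 F33643) (tt N15680 F33644) (tt N20939 D20977) (tt N15565 (iv D18525)) (tt N17813 F33645) (tt N20940 D20978))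
theorem Q18493 : ∀ i, i < 18493 → P i := stepQ 18492 Q18492 (allL N18492 (tt N18719 (iv F34168)) (tt N15681 F33646) (tt N15567 F33647) (tt N20940 (iv F39443)) (tt N15644 F33648) (tt N15565 (iv D18526)))
theorem Q18494 : ∀ i, i < 18494 → P i := stepQ 18493 Q18493 (allL N18493 (tt N20937 (iv F39432)) (tt N20941 D20979) (tt N15566 (iv D18527)) (tt N20942 D20980) (tt N15568 F33649) (tt N20941 F39446))
theorem Q18495 : ∀ i, i < 18495 → P i := stepQ 18494 Q18494 (allL N18494 (tt N20938 (iv F39435)) (tt N15648 F33650) (tt N20941 (iv F39444)) (tt N15567 F33651) (tt N15649 F33652) (tt N15566 (iv D18528)))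
theorem Q18496 : ∀ i, i < 18496 → P i := stepQ 18495 Q18495 (allL N18495 (tt N20943 D20981) (tt N15568 (iv D18529)) (tt N15649 F33653) (tt N20943 F39450) (tt N20941 (iv F39445)) (tt N20256 (iv F37814)))
theorem Q18497 : ∀ i, i < 18497 → P i := stepQ 18496 Q18496 (allL N18496 (tt N15574 F33654) (tt N20943 (iv F39447)) (tt N15570 F33655) (tt N15568 (iv D18530)) (tt N20944 D20982) (tt N15569 F33656))
theorem Q18498 : ∀ i, i < 18498 → P i := stepQ 18497 Q18497 (allL N18497 (tt N20256 (iv F37811)) (tt N15569 (iv D18531)) (tt N20255 F37810) (tt N20256 (iv F37815)) (tt N15573 F33657) (tt N20943 (iv F39449)))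
theorem Q18499 : ∀ i, i < 18499 → P i := stepQ 18498 Q18498 (allL N18498 (tt N15575 F33658) (tt N18066 F33659) (tt N20944 (iv F39452)) (tt N18056 F33660) (tt N15570 (iv D18532)) (tt N15575 F33661))
theorem Q18500 : ∀ i, i < 18500 → P i := stepQ 18499 Q18499 (allL N18499 (tt N20233 (iv F37747)) (tt N15572 F33662) (tt N20945 D20983) (tt N15571 (iv D18533)) (tt N20946 D20984) (tt N20238 (iv F37765)))
theorem Q18501 : ∀ i, i < 18501 → P i := stepQ 18500 Q18500 (allL N18500 (tt N15577 F33663) (tt N20946 (iv F39458)) (tt N20936 (iv F39430)) (tt N18068 F33664) (tt N15572 (iv D18534)) (tt N20947 D20985))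
theorem Q18502 : ∀ i, i < 18502 → P i := stepQ 18501 Q18501 (allL N18501 (tt N20944 (iv F39451)) (tt N20937 (iv F39433)) (tt N15575 F33665) (tt N20948 D20986) (tt N15574 (iv D18535)) (tt N20944 (iv F39453)))
theorem Q18503 : ∀ i, i < 18503 → P i := stepQ 18502 Q18502 (allL N18502 (tt N20949 D20987) (tt N15576 (iv D18536)) (tt N18329 F33666) (tt N20934 (iv F39423)) (tt N18331 (iv F33667)) (tt N20252 (iv F37801)))
theorem Q18504 : ∀ i, i < 18504 → P i := stepQ 18503 Q18503 (allL N18503 (tt N20936 (iv F39428)) (tt N18331 F33668) (tt N15577 F33669) (tt N20950 D20988) (tt N15576 (iv D18537)) (tt N20951 D20989))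
theorem Q18505 : ∀ i, i < 18505 → P i := stepQ 18504 Q18504 (allL N18504 (tt N20947 (iv F39460)) (tt N17929 F33670) (tt N20951 (iv F39470)) (tt N18070 F33671) (tt N18772 (iv F34287)) (tt N15577 (iv D18538)))
theorem Q18506 : ∀ i, i < 18506 → P i := stepQ 18505 Q18505 (allL N18505 (tt N15605 F33672) (tt N16918 F33673) (tt N20952 D20990) (tt N15578 (iv D18539)) (tt N15579 F33674) (tt N20632 (iv F38685)))
theorem Q18507 : ∀ i, i < 18507 → P i := stepQ 18506 Q18506 (allL N18506 (tt N20798 (iv F39132)) (tt N20953 D20991) (tt N15579 (iv D18540)) (tt N20363 (iv F38082)) (tt N20952 (iv F39474)) (tt N20797 (iv F39130)))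
theorem Q18508 : ∀ i, i < 18508 → P i := stepQ 18507 Q18507 (allL N18507 (tt N15582 F33675) (tt N20954 D20992) (tt N15580 (iv D18541)) (tt N15652 F33676) (tt N16916 F33677) (tt N20902 (iv F39339)))
theorem Q18509 : ∀ i, i < 18509 → P i := stepQ 18508 Q18508 (allL N18508 (tt N15583 F33678) (tt N15591 F33679) (tt N20902 (iv F39337)) (tt N15581 F33680) (tt N17979 F33681) (tt N15580 (iv D18542)))
theorem Q18510 : ∀ i, i < 18510 → P i := stepQ 18509 Q18509 (allL N18509 (tt N20955 D20993) (tt N15582 (iv D18543)) (tt N15584 F33682) (tt N15617 F33683) (tt N16922 F33684) (tt N15587 F33685))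
theorem Q18511 : ∀ i, i < 18511 → P i := stepQ 18510 Q18510 (allL N18510 (tt N15584 (iv D18544)) (tt N15596 F33686) (tt N20955 (iv F39482)) (tt N15586 F33687) (tt N16923 F33688) (tt N15585 F33689))
theorem Q18512 : ∀ i, i < 18512 → P i := stepQ 18511 Q18511 (allL N18511 (tt N15587 F33690) (tt N20956 D20994) (tt N15585 (iv D18545)) (tt N15745 F33691) (tt N18092 F33692) (tt N20955 (iv F39485)))
theorem Q18513 : ∀ i, i < 18513 → P i := stepQ 18512 Q18512 (allL N18512 (tt N15588 F33693) (tt N18172 F33694) (tt N20313 F37953) (tt N20957 D20995) (tt N15586 (iv D18546)) (tt N17765 F33695))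
theorem Q18514 : ∀ i, i < 18514 → P i := stepQ 18513 Q18513 (allL N18513 (tt N20957 (iv F39489)) (tt N15589 F33696) (tt N20958 D20996) (tt N15588 (iv D18547)) (tt N16924 F33697) (tt N17763 F33698))
theorem Q18515 : ∀ i, i < 18515 → P i := stepQ 18514 Q18514 (allL N18514 (tt N19746 (iv F36662)) (tt N15590 (iv D18548)) (tt N20954 (iv F39479)) (tt N19743 (iv F36655)) (tt N18668 F34096) (tt N20959 D20997))
theorem Q18516 : ∀ i, i < 18516 → P i := stepQ 18515 Q18515 (allL N18515 (tt N15595 F33699) (tt N20959 (iv F39497)) (tt N15591 F33700) (tt N20816 (iv F39168)) (tt N18690 (iv F34130)) (tt N15590 (iv D18549)))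
theorem Q18517 : ∀ i, i < 18517 → P i := stepQ 18516 Q18516 (allL N18516 (tt N15593 (iv D18550)) (tt N19746 (iv F36663)) (tt N15596 F33701) (tt N18427 (iv F33703)) (tt N18706 F34146) (tt N18170 F33702))
theorem Q18518 : ∀ i, i < 18518 → P i := stepQ 18517 Q18517 (allL N18517 (tt N18427 F33704) (tt N15594 F33705) (tt N18421 F33708) (tt N15593 (iv D18551)) (tt N18458 F33706) (tt N18173 F33707))
theorem Q18519 : ∀ i, i < 18519 → P i := stepQ 18518 Q18518 (allL N18518 (tt N20816 (iv F39167)) (tt N18173 F33709) (tt N20814 (iv F39161)) (tt N15595 F33710) (tt N20960 D20998) (tt N15594 (iv D18552)))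
theorem Q18520 : ∀ i, i < 18520 → P i := stepQ 18519 Q18519 (allL N18519 (tt N15597 F33711) (tt N16923 F33712) (tt N18706 (iv F34145)) (tt N18482 (iv F33713)) (tt N15596 (iv D18553)) (tt N17960 (iv F33714)))
theorem Q18521 : ∀ i, i < 18521 → P i := stepQ 18520 Q18520 (allL N18520 (tt N18631 (iv F33999)) (tt N15601 F33715) (tt N15604 F33716) (tt N20961 D20999) (tt N15600 (iv D18554)) (tt N15897 F33717))
theorem Q18522 : ∀ i, i < 18522 → P i := stepQ 18521 Q18521 (allL N18521 (tt N17118 F33718) (tt N20961 (iv F39501)) (tt N20962 D21000) (tt N15601 (iv D18555)) (tt N17108 F33719) (tt N20697 (iv F38894)))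
theorem Q18523 : ∀ i, i < 18523 → P i := stepQ 18522 Q18522 (allL N18522 (tt N20952 (iv F39472)) (tt N17496 F33720) (tt N15605 (iv D18556)) (tt N19698 (iv F36536)) (tt N20798 (iv F39135)) (tt N17494 F33721))
theorem Q18524 : ∀ i, i < 18524 → P i := stepQ 18523 Q18523 (allL N18523 (tt N15617 F33722) (tt N19523 (iv F36130)) (tt N15615 F33723) (tt N20955 (iv F39483)) (tt N15614 (iv D18557)) (tt N15745 F33724))
theorem Q18525 : ∀ i, i < 18525 → P i := stepQ 18524 Q18524 (allL N18524 (tt N20826 (iv F39195)) (tt N15654 F33725) (tt N16833 F33726) (tt N16922 F33727) (tt N15616 (iv D18558)) (tt N20963 D21001))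
theorem Q18526 : ∀ i, i < 18526 → P i := stepQ 18525 Q18525 (allL N18525 (tt N15618 (iv D18559)) (tt N15620 F33728) (tt N15657 F33729) (tt N18592 (iv F33890)) (tt N15741 F33730) (tt N15650 F33731))
theorem Q18527 : ∀ i, i < 18527 → P i := stepQ 18526 Q18526 (allL N18526 (tt N18592 (iv F33888)) (tt N15619 F33732) (tt N18591 (iv F33887)) (tt N15618 (iv D18560)) (tt N20964 D21002) (tt N19522 (iv F36128)))
theorem Q18528 : ∀ i, i < 18528 → P i := stepQ 18527 Q18527 (allL N18527 (tt N15623 F33733) (tt N20964 (iv F39511)) (tt N19908 (iv F36964)) (tt N15744 F33734) (tt N15619 (iv D18561)) (tt N20965 D21003))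
theorem Q18529 : ∀ i, i < 18529 → P i := stepQ 18528 Q18528 (allL N18528 (tt N20790 (iv F39104)) (tt N15623 F33735) (tt N20789 (iv F39103)) (tt N15748 F33736) (tt N15621 (iv D18562)) (tt N20966 D21004))
theorem Q18530 : ∀ i, i < 18530 → P i := stepQ 18529 Q18529 (allL N18529 (tt N19662 (iv F36458)) (tt N15622 (iv D18563)) (tt N19659 (iv F36450)) (tt N16797 F33737) (tt N20967 D21005) (tt N16832 F33738))
theorem Q18531 : ∀ i, i < 18531 → P i := stepQ 18530 Q18530 (allL N18530 (tt N19908 (iv F36962)) (tt N20967 (iv F39518)) (tt N15623 F33739) (tt N20968 D21006) (tt N15622 (iv D18564)) (tt N20969 D21007))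
theorem Q18532 : ∀ i, i < 18532 → P i := stepQ 18531 Q18531 (allL N18531 (tt N20965 (iv F39513)) (tt N20966 (iv F39515)) (tt N20969 (iv F39520)) (tt N15751 F33740) (tt N20963 (iv F39510)) (tt N15623 (iv D18565)))
theorem Q18533 : ∀ i, i < 18533 → P i := stepQ 18532 Q18532 (allL N18532 (tt N18767 (iv F34264)) (tt N15630 (iv D18566)) (tt N18053 F33741) (tt N18764 (iv F34252)) (tt N15689 F33742) (tt N20705 (iv F38918)))
theorem Q18534 : ∀ i, i < 18534 → P i := stepQ 18533 Q18533 (allL N18533 (tt N18755 (iv F34219)) (tt N15637 F33743) (tt N20970 D21008) (tt N15636 (iv D18567)) (tt N19715 (iv F36573)) (tt N20774 (iv F39074)))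
theorem Q18535 : ∀ i, i < 18535 → P i := stepQ 18534 Q18534 (allL N18534 (tt N17743 F33744) (tt N15638 F33745) (tt N17741 F33746) (tt N20774 (iv F39073)) (tt N19714 (iv F36571)) (tt N15636 (iv D18568)))
theorem Q18536 : ∀ i, i < 18536 → P i := stepQ 18535 Q18535 (allL N18535 (tt N19656 (iv F36440)) (tt N15643 F33747) (tt N20253 (iv F37802)) (tt N15642 (iv D18569)) (tt N20252 (iv F37800)) (tt N20971 D21009))
theorem Q18537 : ∀ i, i < 18537 → P i := stepQ 18536 Q18536 (allL N18536 (tt N19657 (iv F36441)) (tt N15644 F33748) (tt N15646 F33749) (tt N20971 (iv F39525)) (tt N15681 F33750) (tt N15642 (iv D18570)))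
theorem Q18538 : ∀ i, i < 18538 → P i := stepQ 18537 Q18537 (allL N18537 (tt N20935 (iv F39425)) (tt N20971 (iv F39523)) (tt N18772 (iv F34289)) (tt N15644 F33751) (tt N20951 (iv F39471)) (tt N15643 (iv D18571)))
theorem Q18539 : ∀ i, i < 18539 → P i := stepQ 18538 Q18538 (allL N18538 (tt N19415 (iv F35819)) (tt N19589 (iv F36286)) (tt N15645 (iv D18572)) (tt N20972 D21010) (tt N15682 F33752) (tt N20973 D21011))
theorem Q18540 : ∀ i, i < 18540 → P i := stepQ 18539 Q18539 (allL N18539 (tt N19416 (iv F35824)) (tt N15647 F33753) (tt N20973 (iv F39532)) (tt N15646 F33754) (tt N19593 (iv F36299)) (tt N15645 (iv D18573)))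
theorem Q18541 : ∀ i, i < 18541 → P i := stepQ 18540 Q18540 (allL N18540 (tt N15649 (iv D18574)) (tt N18767 (iv F34265)) (tt N20943 (iv F39448)) (tt N18766 F34263) (tt N20938 (iv F39438)) (tt N20255 (iv F37809)))
theorem Q18542 : ∀ i, i < 18542 → P i := stepQ 18541 Q18541 (allL N18541 (tt N19522 (iv F36125)) (tt N15651 F33755) (tt N18594 (iv F33896)) (tt N15650 (iv D18575)) (tt N20156 (iv F37549)) (tt N18592 F33891))
theorem Q18543 : ∀ i, i < 18543 → P i := stepQ 18542 Q18542 (allL N18542 (tt N19523 (iv F36129)) (tt N15652 F33756) (tt N19520 (iv F36117)) (tt N20954 (iv F39480)) (tt N15650 (iv D18576)) (tt N19758 (iv F36691)))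
theorem Q18544 : ∀ i, i < 18544 → P i := stepQ 18543 Q18543 (allL N18543 (tt N18638 (iv F34020)) (tt N20963 (iv F39507)) (tt N18636 (iv F34015)) (tt N16910 F33757) (tt N20966 (iv F39517)) (tt N15654 (iv D18577)))
theorem Q18545 : ∀ i, i < 18545 → P i := stepQ 18544 Q18544 (allL N18544 (tt N15658 F33758) (tt N15662 F33759) (tt N15741 F33760) (tt N19431 (iv F35877)) (tt N15657 (iv D18578)) (tt N15740 (iv F33761)))
theorem Q18546 : ∀ i, i < 18546 → P i := stepQ 18545 Q18545 (allL N18545 (tt N19431 (iv F35875)) (tt N15659 F33762) (tt N20974 D21012) (tt N15658 (iv D18579)) (tt N19525 (iv F36140)) (tt N19430 F35874))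
theorem Q18547 : ∀ i, i < 18547 → P i := stepQ 18546 Q18546 (allL N18546 (tt N15740 F33763) (tt N15660 F33764) (tt N15743 F33765) (tt N19430 F35873) (tt N19524 (iv F36137)) (tt N15658 (iv D18580)))
theorem Q18548 : ∀ i, i < 18548 → P i := stepQ 18547 Q18547 (allL N18547 (tt N15666 F33766) (tt N17925 (iv F33768)) (tt N15659 (iv D18581)) (tt N15674 F33767) (tt N19526 (iv F36143)) (tt N15673 (iv F33769)))
theorem Q18549 : ∀ i, i < 18549 → P i := stepQ 18548 Q18548 (allL N18548 (tt N15667 F33770) (tt N19430 (iv F35872)) (tt N15673 F33771) (tt N15660 F33772) (tt N17450 (iv F33773)) (tt N15659 (iv D18582)))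
theorem Q18550 : ∀ i, i < 18550 → P i := stepQ 18549 Q18549 (allL N18549 (tt N19526 (iv F36142)) (tt N20975 D21013) (tt N15665 (iv D18583)) (tt N19778 (iv F36727)) (tt N15666 F33774) (tt N19396 (iv F35763)))
theorem Q18551 : ∀ i, i < 18551 → P i := stepQ 18550 Q18550 (allL N18550 (tt N20976 D21014) (tt N15666 (iv D18584)) (tt N19427 (iv F35863)) (tt N20977 D21015) (tt N20975 (iv F39538)) (tt N19426 F35861))
theorem Q18552 : ∀ i, i < 18552 → P i := stepQ 18551 Q18551 (allL N18551 (tt N15674 F33775) (tt N20977 (iv F39545)) (tt N15669 F33776) (tt N15666 (iv D18585)) (tt N20978 D21016) (tt N15668 F33777))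
theorem Q18553 : ∀ i, i < 18553 → P i := stepQ 18552 Q18552 (allL N18552 (tt N15673 F33778) (tt N19426 (iv F35858)) (tt N15667 F33779) (tt N15668 F33780) (tt N17451 (iv F33781)) (tt N15666 (iv D18586)))
theorem Q18554 : ∀ i, i < 18554 → P i := stepQ 18553 Q18553 (allL N18553 (tt N20979 D21017) (tt N15668 (iv D18587)) (tt N16317 F33782) (tt N19426 (iv F35860)) (tt N16414 F33783) (tt N20977 (iv F39546)))
theorem Q18555 : ∀ i, i < 18555 → P i := stepQ 18554 Q18554 (allL N18554 (tt N15675 F33784) (tt N16318 F33785) (tt N20978 (iv F39549)) (tt N15781 F33786) (tt N15669 (iv D18588)) (tt N16417 F33787))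
theorem Q18556 : ∀ i, i < 18556 → P i := stepQ 18555 Q18555 (allL N18555 (tt N20972 (iv F39527)) (tt N15670 (iv D18589)) (tt N15726 F33788) (tt N19415 (iv F35822)) (tt N15672 F33789) (tt N20980 D21018))
theorem Q18557 : ∀ i, i < 18557 → P i := stepQ 18556 Q18556 (allL N18556 (tt N16415 F33790) (tt N19415 (iv F35820)) (tt N16430 F33791) (tt N15670 (iv D18590)) (tt N16722 (iv F33792)) (tt N16428 (iv F33793)))
theorem Q18558 : ∀ i, i < 18558 → P i := stepQ 18557 Q18557 (allL N18557 (tt N16416 F33794) (tt N20980 (iv F39556)) (tt N15671 F33795) (tt N16428 F33796) (tt N20981 D21019) (tt N15670 (iv D18591)))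
theorem Q18559 : ∀ i, i < 18559 → P i := stepQ 18558 Q18558 (allL N18558 (tt N16417 F33797) (tt N15729 F33798) (tt N20981 (iv F39562)) (tt N15783 F33799) (tt N15671 (iv D18592)) (tt N15675 F33800))
theorem Q18560 : ∀ i, i < 18560 → P i := stepQ 18559 Q18559 (allL N18559 (tt N15672 (iv D18593)) (tt N20979 (iv F39551)) (tt N15725 F33801) (tt N17934 (iv F33803)) (tt N20972 (iv F39529)) (tt N17922 F33802))
theorem Q18561 : ∀ i, i < 18561 → P i := stepQ 18560 Q18560 (allL N18560 (tt N17934 F33804) (tt N15673 F33805) (tt N17931 F33807) (tt N15672 (iv D18594)) (tt N19414 F35818) (tt N17925 F33806))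
theorem Q18562 : ∀ i, i < 18562 → P i := stepQ 18561 Q18561 (allL N18561 (tt N17451 F33808) (tt N19414 (iv F35816)) (tt N17450 F33809) (tt N16722 F33810) (tt N15673 (iv D18595)) (tt N19393 (iv F35754)))
theorem Q18563 : ∀ i, i < 18563 → P i := stepQ 18562 Q18562 (allL N18562 (tt N20978 (iv F39548)) (tt N17926 F33811) (tt N15675 F33812) (tt N20982 D21020) (tt N15674 (iv D18596)) (tt N20981 (iv F39563)))
theorem Q18564 : ∀ i, i < 18564 → P i := stepQ 18563 Q18563 (allL N18563 (tt N15680 F33813) (tt N16011 F33814) (tt N20983 D21021) (tt N15676 (iv D18597)) (tt N16015 F33815) (tt N20984 D21022))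
theorem Q18565 : ∀ i, i < 18565 → P i := stepQ 18564 Q18564 (allL N18564 (tt N15681 F33816) (tt N18640 (iv F34027)) (tt N15677 F33817) (tt N20984 (iv F39573)) (tt N19657 (iv F36443)) (tt N15676 (iv D18598)))
theorem Q18566 : ∀ i, i < 18566 → P i := stepQ 18565 Q18565 (allL N18565 (tt N16015 F33818) (tt N17813 F33819) (tt N20985 D21023) (tt N15679 (iv D18599)) (tt N15680 F33820) (tt N17833 (iv F33821)))
theorem Q18567 : ∀ i, i < 18567 → P i := stepQ 18566 Q18566 (allL N18566 (tt N16019 F33822) (tt N16020 F33823) (tt N18656 (iv F34065)) (tt N17833 F33824) (tt N20934 (iv F39424)) (tt N15679 (iv D18600)))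
theorem Q18568 : ∀ i, i < 18568 → P i := stepQ 18567 Q18567 (allL N18567 (tt N20983 (iv F39565)) (tt N20986 D21024) (tt N15680 (iv D18601)) (tt N20987 D21025) (tt N20985 (iv F39576)) (tt N20988 D21026))
theorem Q18569 : ∀ i, i < 18569 → P i := stepQ 18568 Q18568 (allL N18568 (tt N20984 (iv F39570)) (tt N20940 (iv F39442)) (tt N20988 (iv F39582)) (tt N15681 F33825) (tt N20989 D21027) (tt N15680 (iv D18602)))
theorem Q18570 : ∀ i, i < 18570 → P i := stepQ 18569 Q18569 (allL N18569 (tt N17734 F33826) (tt N15685 (iv D18603)) (tt N17806 F33827) (tt N20990 D21028) (tt N18384 F33828) (tt N17732 (iv F33829)))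
theorem Q18571 : ∀ i, i < 18571 → P i := stepQ 18570 Q18570 (allL N18570 (tt N18641 (iv F34029)) (tt N20990 (iv F39590)) (tt N17086 F33830) (tt N15685 (iv D18604)) (tt N18650 (iv F34053)) (tt N17085 F33831))
theorem Q18572 : ∀ i, i < 18572 → P i := stepQ 18571 Q18571 (allL N18571 (tt N16359 F33832) (tt N17732 F33833) (tt N15686 F33834) (tt N17085 F33835) (tt N16365 F33836) (tt N15685 (iv D18605)))
theorem Q18573 : ∀ i, i < 18573 → P i := stepQ 18572 Q18572 (allL N18572 (tt N15689 F33837) (tt N20938 (iv F39436)) (tt N18066 F33838) (tt N15688 F33839) (tt N18767 (iv F34266)) (tt N15687 (iv D18606)))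
theorem Q18574 : ∀ i, i < 18574 → P i := stepQ 18573 Q18573 (allL N18573 (tt N20991 D21029) (tt N15690 (iv D18607)) (tt N19418 (iv F35835)) (tt N20781 (iv F39091)) (tt N19596 (iv F36305)) (tt N15691 F33840))
theorem Q18575 : ∀ i, i < 18575 → P i := stepQ 18574 Q18574 (allL N18574 (tt N15691 (iv D18608)) (tt N19588 (iv F36283)) (tt N19417 (iv F35830)) (tt N20778 (iv F39085)) (tt N15692 F33841) (tt N20991 (iv F39594)))
theorem Q18576 : ∀ i, i < 18576 → P i := stepQ 18575 Q18575 (allL N18575 (tt N15695 F33842) (tt N19478 (iv F36004)) (tt N19997 (iv F37213)) (tt N19506 (iv F36073)) (tt N15693 (iv D18609)) (tt N20992 D21030))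
theorem Q18577 : ∀ i, i < 18577 → P i := stepQ 18576 Q18576 (allL N18576 (tt N15696 F33843) (tt N19479 (iv F36007)) (tt N20779 (iv F39087)) (tt N20993 D21031) (tt N15694 (iv D18610)) (tt N19500 (iv F36059)))
theorem Q18578 : ∀ i, i < 18578 → P i := stepQ 18577 Q18577 (allL N18577 (tt N20992 (iv F39595)) (tt N15697 F33844) (tt N19992 (iv F37197)) (tt N20596 (iv F38616)) (tt N19504 (iv F36066)) (tt N15695 (iv D18611)))
theorem Q18579 : ∀ i, i < 18579 → P i := stepQ 18578 Q18578 (allL N18578 (tt N20993 (iv F39599)) (tt N15698 F33845) (tt N20994 D21032) (tt N15696 (iv D18612)) (tt N19503 (iv F36063)) (tt N20597 (iv F38618)))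
theorem Q18580 : ∀ i, i < 18580 → P i := stepQ 18579 Q18579 (allL N18579 (tt N19482 (iv F36015)) (tt N20995 D21033) (tt N15698 (iv D18613)) (tt N19668 (iv F36476)) (tt N19102 F35112) (tt N19676 (iv F36496)))
theorem Q18581 : ∀ i, i < 18581 → P i := stepQ 18580 Q18580 (allL N18580 (tt N15701 F33846) (tt N17403 F33847) (tt N15699 (iv D18614)) (tt N20996 D21034) (tt N20997 D21035) (tt N17404 F33848))
theorem Q18582 : ∀ i, i < 18582 → P i := stepQ 18581 Q18581 (allL N18581 (tt N15702 F33849) (tt N15704 F33850) (tt N20997 (iv F39607)) (tt N20764 (iv F39048)) (tt N15699 (iv D18615)) (tt N15702 F33851))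
theorem Q18583 : ∀ i, i < 18583 → P i := stepQ 18582 Q18582 (allL N18582 (tt N15703 F33852) (tt N15705 F33853) (tt N19719 (iv F36589)) (tt N15703 F33854) (tt N15700 (iv D18616)) (tt N19718 (iv F36586)))
theorem Q18584 : ∀ i, i < 18584 → P i := stepQ 18583 Q18583 (allL N18583 (tt N20996 (iv F39602)) (tt N17293 F33855) (tt N20998 D21036) (tt N15701 (iv D18617)) (tt N20999 D21037) (tt N17294 F33856))
theorem Q18585 : ∀ i, i < 18585 → P i := stepQ 18584 Q18584 (allL N18584 (tt N20997 (iv F39605)) (tt N17321 F33857) (tt N15702 F33858) (tt N21000 D21038) (tt N15701 (iv D18618)) (tt N20997 (iv F39608)))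
theorem Q18586 : ∀ i, i < 18586 → P i := stepQ 18585 Q18585 (allL N18585 (tt N15706 (iv D18619)) (tt N17392 F33859) (tt N15708 F33860) (tt N17391 F33861) (tt N19432 (iv F35881)) (tt N17390 F33862))
theorem Q18587 : ∀ i, i < 18587 → P i := stepQ 18586 Q18586 (allL N18586 (tt N19432 (iv F35879)) (tt N15707 F33863) (tt N15709 F33864) (tt N16782 F33865) (tt N15706 (iv D18620)) (tt N15709 F33866))
theorem Q18588 : ∀ i, i < 18588 → P i := stepQ 18587 Q18587 (allL N18587 (tt N17326 F33867) (tt N16782 F33868) (tt N16784 (iv F33871)) (tt N15707 (iv D18621)) (tt N17354 F33869) (tt N15710 F33870))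
theorem Q18589 : ∀ i, i < 18589 → P i := stepQ 18588 Q18588 (allL N18588 (tt N15709 F33872) (tt N17253 F33873) (tt N19432 (iv F35880)) (tt N17252 F33874) (tt N15708 (iv D18622)) (tt N19432 (iv F35882)))
theorem Q18590 : ∀ i, i < 18590 → P i := stepQ 18589 Q18589 (allL N18589 (tt N17252 F33875) (tt N15710 F33876) (tt N16783 F33879) (tt N15709 (iv D18623)) (tt N17251 F33877) (tt N16782 F33878))
theorem Q18591 : ∀ i, i < 18591 → P i := stepQ 18590 Q18590 (allL N18590 (tt N17325 F33880) (tt N16786 F33881) (tt N15710 (iv D18624)) (tt N21001 D21039) (tt N17323 F33882) (tt N16784 F33883))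
theorem Q18592 : ∀ i, i < 18592 → P i := stepQ 18591 Q18591 (allL N18591 (tt N15712 F33884) (tt N17917 F33885) (tt N18526 F33887) (tt N15711 (iv D18625)) (tt N21002 D21040) (tt N18324 F33886))
theorem Q18593 : ∀ i, i < 18593 → P i := stepQ 18592 Q18592 (allL N18592 (tt N18526 F33888) (tt N18281 F33889) (tt N15712 (iv D18626)) (tt N18525 F33890) (tt N21003 D21041) (tt N18541 (iv F33891)))
theorem Q18594 : ∀ i, i < 18594 → P i := stepQ 18593 Q18593 (allL N18593 (tt N21002 (iv F39617)) (tt N15715 F33892) (tt N21003 (iv F39623)) (tt N15721 F33893) (tt N15712 (iv D18627)) (tt N21004 D21042))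
theorem Q18595 : ∀ i, i < 18595 → P i := stepQ 18594 Q18594 (allL N18594 (tt N18324 F33894) (tt N15716 F33895) (tt N18541 F33896) (tt N15713 F33897) (tt N17447 (iv F33898)) (tt N15712 (iv D18628)))
theorem Q18596 : ∀ i, i < 18596 → P i := stepQ 18595 Q18595 (allL N18595 (tt N18325 F33899) (tt N15717 F33900) (tt N16943 F33901) (tt N21005 D21043) (tt N15713 (iv D18629)) (tt N15722 F33902))
theorem Q18597 : ∀ i, i < 18597 → P i := stepQ 18596 Q18596 (allL N18596 (tt N16876 F33903) (tt N18282 F33904) (tt N15715 F33905) (tt N17439 F33906) (tt N15714 (iv D18630)) (tt N17440 F33907))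
theorem Q18598 : ∀ i, i < 18598 → P i := stepQ 18597 Q18597 (allL N18597 (tt N17920 F33908) (tt N21004 (iv F39624)) (tt N17440 F33909) (tt N15723 F33910) (tt N17441 F33911) (tt N15715 (iv D18631)))
theorem Q18599 : ∀ i, i < 18599 → P i := stepQ 18598 Q18598 (allL N18598 (tt N17921 F33912) (tt N21005 (iv F39628)) (tt N18052 F33913) (tt N15717 (iv D18632)) (tt N17448 F33914) (tt N15724 F33915))
theorem Q18600 : ∀ i, i < 18600 → P i := stepQ 18599 Q18599 (allL N18599 (tt N15720 F33916) (tt N21006 D21044) (tt N15718 (iv D18633)) (tt N21007 D21045) (tt N21008 D21046) (tt N16324 F33917))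
theorem Q18601 : ∀ i, i < 18601 → P i := stepQ 18600 Q18600 (allL N18600 (tt N15721 F33918) (tt N17923 F33919) (tt N21008 (iv F39639)) (tt N21002 (iv F39620)) (tt N15718 (iv D18634)) (tt N21009 D21047))
theorem Q18602 : ∀ i, i < 18602 → P i := stepQ 18601 Q18601 (allL N18601 (tt N15722 F33920) (tt N17924 F33921) (tt N20661 (iv F38775)) (tt N21010 D21048) (tt N15719 (iv D18635)) (tt N18325 F33922))
theorem Q18603 : ∀ i, i < 18603 → P i := stepQ 18602 Q18602 (allL N18602 (tt N21007 (iv F39635)) (tt N16304 F33923) (tt N21011 D21049) (tt N15720 (iv D18636)) (tt N21012 D21050) (tt N16325 F33924))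
theorem Q18604 : ∀ i, i < 18604 → P i := stepQ 18603 Q18603 (allL N18603 (tt N21008 (iv F39638)) (tt N16327 F33925) (tt N15721 F33926) (tt N21013 D21051) (tt N15720 (iv D18637)) (tt N18750 (iv F34202)))
theorem Q18605 : ∀ i, i < 18605 → P i := stepQ 18604 Q18604 (allL N18604 (tt N21009 (iv F39640)) (tt N15723 F33927) (tt N18750 (iv F34201)) (tt N21004 (iv F39625)) (tt N17956 F33928) (tt N15721 (iv D18638)))
theorem Q18606 : ∀ i, i < 18606 → P i := stepQ 18605 Q18605 (allL N18605 (tt N21010 (iv F39643)) (tt N15724 F33929) (tt N21014 D21052) (tt N15722 (iv D18639)) (tt N17955 F33930) (tt N21005 (iv F39630)))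
theorem Q18607 : ∀ i, i < 18607 → P i := stepQ 18606 Q18606 (allL N18606 (tt N15726 F33931) (tt N17954 F33932) (tt N20972 F39530) (tt N21015 D21053) (tt N15725 (iv D18640)) (tt N21016 D21054))
theorem Q18608 : ∀ i, i < 18608 → P i := stepQ 18607 Q18607 (allL N18607 (tt N21015 (iv F39652)) (tt N15727 F33933) (tt N20971 (iv F39524)) (tt N15726 (iv D18641)) (tt N17928 F33934) (tt N20253 (iv F37805)))
theorem Q18609 : ∀ i, i < 18609 → P i := stepQ 18608 Q18608 (allL N18608 (tt N21016 (iv F39655)) (tt N15728 F33935) (tt N20980 (iv F39557)) (tt N20253 (iv F37803)) (tt N17927 F33936) (tt N15726 (iv D18642)))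
theorem Q18610 : ∀ i, i < 18610 → P i := stepQ 18609 Q18609 (allL N18609 (tt N15732 F33937) (tt N19696 (iv F36532)) (tt N15730 (iv D18643)) (tt N21017 D21055) (tt N19683 (iv F36512)) (tt N17786 F33938))
theorem Q18611 : ∀ i, i < 18611 → P i := stepQ 18610 Q18610 (allL N18610 (tt N21017 (iv F39658)) (tt N17789 F33939) (tt N21018 D21056) (tt N15732 (iv D18644)) (tt N21019 D21057) (tt N17787 F33940))
theorem Q18612 : ∀ i, i < 18612 → P i := stepQ 18611 Q18611 (allL N18611 (tt N19683 (iv F36510)) (tt N17790 F33941) (tt N15733 F33942) (tt N21020 D21058) (tt N15732 (iv D18645)) (tt N19677 (iv F36499)))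
theorem Q18613 : ∀ i, i < 18613 → P i := stepQ 18612 Q18612 (allL N18612 (tt N15737 F33943) (tt N17782 F33944) (tt N17372 F33945) (tt N17819 F33946) (tt N15736 (iv D18646)) (tt N17368 F33947))
theorem Q18614 : ∀ i, i < 18614 → P i := stepQ 18613 Q18613 (allL N18613 (tt N17819 F33948) (tt N15738 F33949) (tt N18364 (iv F33952)) (tt N15737 (iv D18647)) (tt N17775 F33950) (tt N17373 F33951))
theorem Q18615 : ∀ i, i < 18615 → P i := stepQ 18614 Q18614 (allL N18614 (tt N17794 F33953) (tt N19073 (iv F35049)) (tt N15738 (iv D18648)) (tt N19072 (iv F35048)) (tt N17777 F33954) (tt N21021 D21059))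
theorem Q18616 : ∀ i, i < 18616 → P i := stepQ 18615 Q18615 (allL N18615 (tt N17792 F33955) (tt N17373 F33956) (tt N21021 (iv F39667)) (tt N15739 F33957) (tt N17672 F33958) (tt N15738 (iv D18649)))
theorem Q18617 : ∀ i, i < 18617 → P i := stepQ 18616 Q18616 (allL N18616 (tt N15742 F33959) (tt N15746 F33960) (tt N17906 (iv F33962)) (tt N15741 (iv D18650)) (tt N21022 D21060) (tt N18090 F33961))
theorem Q18618 : ∀ i, i < 18618 → P i := stepQ 18617 Q18617 (allL N18617 (tt N21022 (iv F39669)) (tt N15744 F33963) (tt N17907 F33964) (tt N20964 (iv F39512)) (tt N15742 (iv D18651)) (tt N21023 D21061))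
theorem Q18619 : ∀ i, i < 18619 → P i := stepQ 18618 Q18618 (allL N18618 (tt N19758 (iv F36688)) (tt N15745 F33965) (tt N19524 (iv F36135)) (tt N20956 (iv F39487)) (tt N15743 (iv D18652)) (tt N19523 (iv F36132)))
theorem Q18620 : ∀ i, i < 18620 → P i := stepQ 18619 Q18619 (allL N18619 (tt N15751 F33966) (tt N21023 (iv F39673)) (tt N17905 F33967) (tt N20965 (iv F39514)) (tt N18093 F33968) (tt N15744 (iv D18653)))
theorem Q18621 : ∀ i, i < 18621 → P i := stepQ 18620 Q18620 (allL N18620 (tt N15748 F33969) (tt N21022 (iv F39670)) (tt N20674 (iv F38824)) (tt N20790 (iv F39106)) (tt N15746 (iv D18654)) (tt N21024 D21062))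
theorem Q18622 : ∀ i, i < 18622 → P i := stepQ 18621 Q18621 (allL N18621 (tt N17902 (iv F33972)) (tt N15747 (iv D18655)) (tt N15749 F33970) (tt N20665 (iv F38788)) (tt N21025 D21063) (tt N18087 F33971))
theorem Q18623 : ∀ i, i < 18623 → P i := stepQ 18622 Q18622 (allL N18622 (tt N20674 (iv F38823)) (tt N21025 (iv F39679)) (tt N15748 F33973) (tt N21026 D21064) (tt N15747 (iv D18656)) (tt N21027 D21065))
theorem Q18624 : ∀ i, i < 18624 → P i := stepQ 18623 Q18623 (allL N18623 (tt N21024 (iv F39676)) (tt N15751 F33974) (tt N21027 (iv F39681)) (tt N20966 (iv F39516)) (tt N17981 F33975) (tt N15748 (iv D18657)))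
theorem Q18625 : ∀ i, i < 18625 → P i := stepQ 18624 Q18624 (allL N18624 (tt N17903 F33976) (tt N15750 F33977) (tt N21025 (iv F39680)) (tt N21028 D21066) (tt N15749 (iv D18658)) (tt N21029 D21067))
theorem Q18626 : ∀ i, i < 18626 → P i := stepQ 18625 Q18625 (allL N18625 (tt N16145 F33978) (tt N21028 (iv F39684)) (tt N21030 D21068) (tt N15750 (iv D18659)) (tt N16143 F33979) (tt N21031 D21069))
theorem Q18627 : ∀ i, i < 18627 → P i := stepQ 18626 Q18626 (allL N18626 (tt N17905 F33980) (tt N21029 (iv F39687)) (tt N15751 F33981) (tt N21031 (iv F39692)) (tt N18089 F33982) (tt N15750 (iv D18660)))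
theorem Q18628 : ∀ i, i < 18628 → P i := stepQ 18627 Q18627 (allL N18627 (tt N18093 F33983) (tt N17981 F33984) (tt N18089 F33985) (tt N17980 (iv F33987)) (tt N15751 (iv D18661)) (tt N15752 F33986))
theorem Q18629 : ∀ i, i < 18629 → P i := stepQ 18628 Q18628 (allL N18628 (tt N18417 F33988) (tt N15755 F33989) (tt N18130 F33990) (tt N20304 (iv F37926)) (tt N15754 (iv D18662)) (tt N18129 F33991))
theorem Q18630 : ∀ i, i < 18630 → P i := stepQ 18629 Q18629 (allL N18629 (tt N15759 F33992) (tt N18129 F33993) (tt N19886 (iv F36929)) (tt N20305 (iv F37929)) (tt N17766 F33994) (tt N15755 (iv D18663)))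
theorem Q18631 : ∀ i, i < 18631 → P i := stepQ 18630 Q18630 (allL N18630 (tt N18165 F33995) (tt N15759 F33996) (tt N18029 F33997) (tt N20308 (iv F37938)) (tt N15763 F33998) (tt N15756 (iv D18664)))
theorem Q18632 : ∀ i, i < 18632 → P i := stepQ 18631 Q18631 (allL N18631 (tt N18520 F33999) (tt N15758 F34000) (tt N18030 F34001) (tt N20188 (iv F37627)) (tt N15757 (iv D18665)) (tt N18011 F34002))
theorem Q18633 : ∀ i, i < 18633 → P i := stepQ 18632 Q18632 (allL N18632 (tt N19885 (iv F36924)) (tt N20188 F37628) (tt N21032 D21070) (tt N15758 (iv D18666)) (tt N19884 (iv F36923)) (tt N21033 D21071))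
theorem Q18634 : ∀ i, i < 18634 → P i := stepQ 18633 Q18633 (allL N18633 (tt N19886 (iv F36927)) (tt N18011 F34003) (tt N15759 F34004) (tt N21033 (iv F39695)) (tt N18010 F34005) (tt N15758 (iv D18667)))
theorem Q18635 : ∀ i, i < 18635 → P i := stepQ 18634 Q18634 (allL N18634 (tt N17766 F34006) (tt N15763 F34007) (tt N18010 F34008) (tt N17764 (iv F34010)) (tt N15759 (iv D18668)) (tt N15760 F34009))
theorem Q18636 : ∀ i, i < 18636 → P i := stepQ 18635 Q18635 (allL N18635 (tt N16883 F34011) (tt N15761 (iv D18669)) (tt N18883 F34644) (tt N21034 D21072) (tt N17414 F34012) (tt N16879 F34013))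
theorem Q18637 : ∀ i, i < 18637 → P i := stepQ 18636 Q18636 (allL N18636 (tt N15765 F34014) (tt N21034 (iv F39698)) (tt N18543 F34015) (tt N15761 (iv D18670)) (tt N21035 D21073) (tt N17444 F34016))
theorem Q18638 : ∀ i, i < 18638 → P i := stepQ 18637 Q18637 (allL N18637 (tt N18167 F34017) (tt N20313 (iv F37951)) (tt N18163 F34018) (tt N20106 (iv F37455)) (tt N15764 (iv D18671)) (tt N18162 F34019))
theorem Q18639 : ∀ i, i < 18639 → P i := stepQ 18638 Q18638 (allL N18638 (tt N18543 F34020) (tt N21036 D21074) (tt N15765 (iv D18672)) (tt N15815 F34021) (tt N21037 D21075) (tt N17446 F34022))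
theorem Q18640 : ∀ i, i < 18640 → P i := stepQ 18639 Q18639 (allL N18639 (tt N21035 (iv F39700)) (tt N17440 F34023) (tt N21037 (iv F39708)) (tt N17434 F34024) (tt N15765 (iv D18673)) (tt N18282 F34025))
theorem Q18641 : ∀ i, i < 18641 → P i := stepQ 18640 Q18640 (allL N18640 (tt N15840 F34026) (tt N18564 F34027) (tt N15770 F34028) (tt N18865 (iv F34582)) (tt N20548 (iv F38499)) (tt N15768 (iv D18674)))
theorem Q18642 : ∀ i, i < 18642 → P i := stepQ 18641 Q18641 (allL N18641 (tt N18570 F34029) (tt N19176 (iv F35276)) (tt N18287 F34030) (tt N15771 (iv D18675)) (tt N21038 D21076) (tt N18286 F34031))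
theorem Q18643 : ∀ i, i < 18643 → P i := stepQ 18642 Q18642 (allL N18642 (tt N19202 (iv F35345)) (tt N15776 F34032) (tt N21039 D21077) (tt N15775 (iv D18676)) (tt N21040 D21078) (tt N15780 F34033))
theorem Q18644 : ∀ i, i < 18644 → P i := stepQ 18643 Q18643 (allL N18643 (tt N15786 F34034) (tt N21040 (iv F39718)) (tt N15781 F34035) (tt N21038 (iv F39713)) (tt N15776 (iv D18677)) (tt N16606 F34036))
theorem Q18645 : ∀ i, i < 18645 → P i := stepQ 18644 Q18644 (allL N18644 (tt N19201 (iv F35342)) (tt N15778 (iv D18678)) (tt N15780 F34037) (tt N21041 D21079) (tt N16384 F34038) (tt N21039 (iv F39716)))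
theorem Q18646 : ∀ i, i < 18646 → P i := stepQ 18645 Q18645 (allL N18645 (tt N16254 F34039) (tt N21041 (iv F39720)) (tt N16090 F34040) (tt N15778 (iv D18679)) (tt N21042 D21080) (tt N16266 (iv F34041)))
theorem Q18647 : ∀ i, i < 18647 → P i := stepQ 18646 Q18646 (allL N18646 (tt N16256 F34042) (tt N21039 (iv F39715)) (tt N15779 F34043) (tt N16266 F34044) (tt N21043 D21081) (tt N15778 (iv D18680)))
theorem Q18648 : ∀ i, i < 18648 → P i := stepQ 18647 Q18647 (allL N18647 (tt N16258 F34045) (tt N15781 F34046) (tt N21043 (iv F39727)) (tt N16318 F34047) (tt N15779 (iv D18681)) (tt N16387 F34048))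
theorem Q18649 : ∀ i, i < 18649 → P i := stepQ 18648 Q18648 (allL N18648 (tt N15785 F34049) (tt N19202 (iv F35346)) (tt N16244 F34050) (tt N19204 (iv F35352)) (tt N21044 D21082) (tt N15784 (iv D18682)))
theorem Q18650 : ∀ i, i < 18650 → P i := stepQ 18649 Q18649 (allL N18649 (tt N21044 (iv F39729)) (tt N15786 F34051) (tt N16246 F34052) (tt N21045 D21083) (tt N15785 (iv D18683)) (tt N19513 (iv F36095)))
theorem Q18651 : ∀ i, i < 18651 → P i := stepQ 18650 Q18650 (allL N18650 (tt N21038 (iv F39711)) (tt N21045 (iv F39731)) (tt N19854 (iv F36857)) (tt N15786 (iv D18684)) (tt N18570 F34053) (tt N19511 (iv F36089)))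
theorem Q18652 : ∀ i, i < 18652 → P i := stepQ 18651 Q18651 (allL N18651 (tt N15804 F34054) (tt N16552 F34055) (tt N15830 F34056) (tt N21046 D21084) (tt N15789 (iv D18685)) (tt N16550 F34057))
theorem Q18653 : ∀ i, i < 18653 → P i := stepQ 18652 Q18652 (allL N18652 (tt N15805 F34058) (tt N18821 (iv F34436)) (tt N21047 D21085) (tt N15790 (iv D18686)) (tt N21046 (iv F39735)) (tt N15791 F34059))
theorem Q18654 : ∀ i, i < 18654 → P i := stepQ 18653 Q18653 (allL N18653 (tt N15806 F34060) (tt N21048 D21086) (tt N15791 (iv D18687)) (tt N20566 (iv F38548)) (tt N18892 (iv F34672)) (tt N21047 (iv F39739)))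
theorem Q18655 : ∀ i, i < 18655 → P i := stepQ 18654 Q18654 (allL N18654 (tt N21049 D21087) (tt N15792 (iv D18688)) (tt N18683 (iv F34117)) (tt N21050 D21088) (tt N15793 F34061) (tt N18301 F34062))
theorem Q18656 : ∀ i, i < 18656 → P i := stepQ 18655 Q18655 (allL N18655 (tt N15808 F34063) (tt N21050 (iv F39744)) (tt N21051 D21089) (tt N15792 (iv D18689)) (tt N19285 (iv F35529)) (tt N20562 (iv F38535)))
theorem Q18657 : ∀ i, i < 18657 → P i := stepQ 18656 Q18656 (allL N18656 (tt N15793 (iv D18690)) (tt N15809 F34064) (tt N18566 F34065) (tt N19283 (iv F35525)) (tt N21049 (iv F39742)) (tt N15819 F34066))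
theorem Q18658 : ∀ i, i < 18658 → P i := stepQ 18657 Q18657 (allL N18657 (tt N21052 D21090) (tt N15795 (iv D18691)) (tt N15801 F34067) (tt N21053 D21091) (tt N16558 F34068) (tt N21054 D21092))
theorem Q18659 : ∀ i, i < 18659 → P i := stepQ 18658 Q18658 (allL N18658 (tt N16566 F34069) (tt N21053 (iv F39752)) (tt N18718 (iv F34166)) (tt N15795 (iv D18692)) (tt N17947 F34070) (tt N21055 D21093))
theorem Q18660 : ∀ i, i < 18660 → P i := stepQ 18659 Q18659 (allL N18659 (tt N16567 F34071) (tt N21054 (iv F39754)) (tt N15796 F34072) (tt N21055 (iv F39758)) (tt N21056 D21094) (tt N15795 (iv D18693)))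
theorem Q18661 : ∀ i, i < 18661 → P i := stepQ 18660 Q18660 (allL N18660 (tt N16569 F34073) (tt N15804 F34074) (tt N21056 (iv F39761)) (tt N16036 F34075) (tt N15796 (iv D18694)) (tt N16560 F34076))
theorem Q18662 : ∀ i, i < 18662 → P i := stepQ 18661 Q18661 (allL N18661 (tt N16971 F34077) (tt N15797 (iv D18695)) (tt N16558 F34078) (tt N16968 (iv F34080)) (tt N15801 F34079) (tt N20906 (iv F39351)))
theorem Q18663 : ∀ i, i < 18663 → P i := stepQ 18662 Q18662 (allL N18662 (tt N16556 F34081) (tt N16968 F34082) (tt N18372 F34084) (tt N15797 (iv D18696)) (tt N18371 F34083) (tt N19051 (iv F35007)))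
theorem Q18664 : ∀ i, i < 18664 → P i := stepQ 18663 Q18663 (allL N18663 (tt N16547 F34085) (tt N20906 (iv F39349)) (tt N15798 F34086) (tt N19051 (iv F35008)) (tt N21057 D21095) (tt N15797 (iv D18697)))
theorem Q18665 : ∀ i, i < 18665 → P i := stepQ 18664 Q18664 (allL N18664 (tt N16550 F34087) (tt N16560 F34088) (tt N21057 (iv F39764)) (tt N21058 D21096) (tt N15798 (iv D18698)) (tt N15804 F34089))
theorem Q18666 : ∀ i, i < 18666 → P i := stepQ 18665 Q18665 (allL N18665 (tt N16557 F34090) (tt N15969 F34091) (tt N21059 D21097) (tt N15799 (iv D18699)) (tt N21058 (iv F39768)) (tt N15800 F34092))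
theorem Q18667 : ∀ i, i < 18667 → P i := stepQ 18666 Q18666 (allL N18666 (tt N18892 (iv F34671)) (tt N21060 D21098) (tt N15800 (iv D18700)) (tt N21061 D21099) (tt N15806 F34093) (tt N21059 (iv F39771)))
theorem Q18668 : ∀ i, i < 18668 → P i := stepQ 18667 Q18667 (allL N18667 (tt N15801 (iv D18701)) (tt N20914 (iv F39369)) (tt N21052 (iv F39750)) (tt N21062 D21100) (tt N16971 F34094) (tt N21063 D21101))
theorem Q18669 : ∀ i, i < 18669 → P i := stepQ 18668 Q18668 (allL N18668 (tt N21062 (iv F39774)) (tt N15802 F34095) (tt N19702 (iv F36546)) (tt N15801 (iv D18702)) (tt N18514 (iv F34096)) (tt N15818 (iv F34097)))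
theorem Q18670 : ∀ i, i < 18670 → P i := stepQ 18669 Q18669 (allL N18669 (tt N21063 (iv F39778)) (tt N15803 F34098) (tt N21054 (iv F39755)) (tt N15818 F34099) (tt N21064 D21102) (tt N15801 (iv D18703)))
theorem Q18671 : ∀ i, i < 18671 → P i := stepQ 18670 Q18670 (allL N18670 (tt N15830 F34100) (tt N21064 (iv F39781)) (tt N15804 F34101) (tt N21065 D21103) (tt N15803 (iv D18704)) (tt N21057 (iv F39765)))
theorem Q18672 : ∀ i, i < 18672 → P i := stepQ 18671 Q18671 (allL N18671 (tt N21046 (iv F39733)) (tt N16036 F34102) (tt N21066 D21104) (tt N15804 (iv D18705)) (tt N15805 F34103) (tt N21058 (iv F39769)))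
theorem Q18673 : ∀ i, i < 18673 → P i := stepQ 18672 Q18672 (allL N18672 (tt N21047 (iv F39737)) (tt N21067 D21105) (tt N15805 (iv D18706)) (tt N21051 (iv F39747)) (tt N21066 (iv F39784)) (tt N15806 F34104))
theorem Q18674 : ∀ i, i < 18674 → P i := stepQ 18673 Q18673 (allL N18673 (tt N21068 D21106) (tt N15806 (iv D18707)) (tt N16033 F34105) (tt N21069 D21107) (tt N21060 (iv F39773)) (tt N21067 (iv F39786)))
theorem Q18675 : ∀ i, i < 18675 → P i := stepQ 18674 Q18674 (allL N18674 (tt N20566 (iv F38546)) (tt N21069 (iv F39788)) (tt N20562 (iv F38536)) (tt N15806 (iv D18708)) (tt N21070 D21108) (tt N21051 (iv F39748)))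
theorem Q18676 : ∀ i, i < 18676 → P i := stepQ 18675 Q18675 (allL N18675 (tt N15807 (iv D18709)) (tt N21049 (iv F39740)) (tt N15814 F34106) (tt N21071 D21109) (tt N15809 F34107) (tt N15844 F34108))
theorem Q18677 : ∀ i, i < 18677 → P i := stepQ 18676 Q18676 (allL N18676 (tt N21071 (iv F39790)) (tt N15808 F34109) (tt N21072 D21110) (tt N15807 (iv D18710)) (tt N21073 D21111) (tt N15846 F34110))
theorem Q18678 : ∀ i, i < 18678 → P i := stepQ 18677 Q18677 (allL N18677 (tt N21051 (iv F39746)) (tt N21074 D21112) (tt N15808 (iv D18711)) (tt N21047 (iv F39738)) (tt N21075 D21113) (tt N20566 (iv F38547)))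
theorem Q18679 : ∀ i, i < 18679 → P i := stepQ 18678 Q18678 (allL N18678 (tt N19285 (iv F35528)) (tt N21073 (iv F39796)) (tt N21075 (iv F39798)) (tt N15811 F34111) (tt N15808 (iv D18712)) (tt N21076 D21114))
theorem Q18680 : ∀ i, i < 18680 → P i := stepQ 18679 Q18679 (allL N18679 (tt N15810 F34112) (tt N19283 (iv F35524)) (tt N21077 D21115) (tt N15809 (iv D18713)) (tt N21078 D21116) (tt N15831 F34113))
theorem Q18681 : ∀ i, i < 18681 → P i := stepQ 18680 Q18680 (allL N18680 (tt N21077 (iv F39800)) (tt N19276 (iv F35510)) (tt N15810 (iv D18714)) (tt N21077 (iv F39801)) (tt N21079 D21117) (tt N15832 F34114))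
theorem Q18682 : ∀ i, i < 18682 → P i := stepQ 18681 Q18681 (allL N18681 (tt N21078 (iv F39803)) (tt N15811 F34115) (tt N21079 (iv F39804)) (tt N21073 (iv F39797)) (tt N15810 (iv D18715)) (tt N21080 D21118))
theorem Q18683 : ∀ i, i < 18683 → P i := stepQ 18682 Q18682 (allL N18682 (tt N19286 (iv F35530)) (tt N21080 (iv F39805)) (tt N19278 (iv F35514)) (tt N21076 (iv F39799)) (tt N15836 F34116) (tt N15811 (iv D18716)))
theorem Q18684 : ∀ i, i < 18684 → P i := stepQ 18683 Q18683 (allL N18683 (tt N20934 (iv F39421)) (tt N15812 (iv D18717)) (tt N18654 F34117) (tt N20949 (iv F39464)) (tt N16019 F34118) (tt N18717 (iv F34164)))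
theorem Q18685 : ∀ i, i < 18685 → P i := stepQ 18684 Q18684 (allL N18684 (tt N15813 F34119) (tt N20949 (iv F39462)) (tt N21055 (iv F39757)) (tt N15812 (iv D18718)) (tt N17835 F34120) (tt N18718 (iv F34167)))
theorem Q18686 : ∀ i, i < 18686 → P i := stepQ 18685 Q18685 (allL N18685 (tt N21055 (iv F39756)) (tt N20945 (iv F39454)) (tt N15813 (iv D18719)) (tt N16567 F34122) (tt N21081 D21119) (tt N16566 F34121))
theorem Q18687 : ∀ i, i < 18687 → P i := stepQ 18686 Q18686 (allL N18686 (tt N17835 F34123) (tt N20936 (iv F39429)) (tt N21081 (iv F39808)) (tt N16022 F34124) (tt N15813 (iv D18720)) (tt N21082 D21120))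
theorem Q18688 : ∀ i, i < 18688 → P i := stepQ 18687 Q18687 (allL N18687 (tt N21083 D21121) (tt N15815 (iv D18721)) (tt N15818 F34125) (tt N21036 (iv F39705)) (tt N20572 (iv F38561)) (tt N19702 (iv F36547)))
theorem Q18689 : ∀ i, i < 18689 → P i := stepQ 18688 Q18688 (allL N18688 (tt N21084 D21122) (tt N15816 (iv D18722)) (tt N20572 (iv F38560)) (tt N21085 D21123) (tt N15818 F34126) (tt N21086 D21124))
theorem Q18690 : ∀ i, i < 18690 → P i := stepQ 18689 Q18689 (allL N18689 (tt N15825 F34127) (tt N21085 (iv F39815)) (tt N21087 D21125) (tt N15816 (iv D18723)) (tt N21065 (iv F39783)) (tt N21088 D21126))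
theorem Q18691 : ∀ i, i < 18691 → P i := stepQ 18690 Q18690 (allL N18690 (tt N15826 F34128) (tt N21086 (iv F39816)) (tt N15817 F34129) (tt N21088 (iv F39823)) (tt N18515 F34130) (tt N15816 (iv D18724)))
theorem Q18692 : ∀ i, i < 18692 → P i := stepQ 18691 Q18691 (allL N18691 (tt N15818 (iv D18725)) (tt N15827 F34131) (tt N21083 (iv F39812)) (tt N21063 (iv F39780)) (tt N21084 (iv F39814)) (tt N21062 F39777))
theorem Q18693 : ∀ i, i < 18693 → P i := stepQ 18692 Q18692 (allL N18692 (tt N15820 F34132) (tt N15831 F34133) (tt N21089 D21127) (tt N15819 (iv D18726)) (tt N19927 (iv F37014)) (tt N19283 (iv F35526)))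
theorem Q18694 : ∀ i, i < 18694 → P i := stepQ 18693 Q18693 (allL N18693 (tt N21089 (iv F39824)) (tt N18888 (iv F34660)) (tt N15820 (iv D18727)) (tt N19026 (iv F34962)) (tt N21090 D21128) (tt N19042 (iv F34987)))
theorem Q18695 : ∀ i, i < 18695 → P i := stepQ 18694 Q18694 (allL N18694 (tt N19927 (iv F37012)) (tt N15821 F34134) (tt N21090 (iv F39825)) (tt N18300 F34135) (tt N15820 (iv D18728)) (tt N21091 D21129))
theorem Q18696 : ∀ i, i < 18696 → P i := stepQ 18695 Q18695 (allL N18695 (tt N15836 F34136) (tt N21091 (iv F39826)) (tt N18890 (iv F34666)) (tt N18335 F34137) (tt N19286 (iv F35532)) (tt N15821 (iv D18729)))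
theorem Q18697 : ∀ i, i < 18697 → P i := stepQ 18696 Q18696 (allL N18696 (tt N21092 D21130) (tt N15822 (iv D18730)) (tt N20567 (iv F38549)) (tt N21093 D21131) (tt N19205 (iv F35354)) (tt N21094 D21132))
theorem Q18698 : ∀ i, i < 18698 → P i := stepQ 18697 Q18697 (allL N18697 (tt N19210 (iv F35359)) (tt N21093 (iv F39828)) (tt N21088 (iv F39822)) (tt N15822 (iv D18731)) (tt N21095 D21133) (tt N21087 F39820))
theorem Q18699 : ∀ i, i < 18699 → P i := stepQ 18698 Q18698 (allL N18698 (tt N19211 (iv F35362)) (tt N21094 (iv F39829)) (tt N15823 F34138) (tt N21087 (iv F39819)) (tt N21096 D21134) (tt N15822 (iv D18732)))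
theorem Q18700 : ∀ i, i < 18700 → P i := stepQ 18699 Q18699 (allL N18699 (tt N19191 (iv F35314)) (tt N20568 (iv F38550)) (tt N21096 (iv F39830)) (tt N19275 (iv F35508)) (tt N15823 (iv D18733)) (tt N19188 (iv F35309)))
theorem Q18701 : ∀ i, i < 18701 → P i := stepQ 18700 Q18700 (allL N18700 (tt N15824 (iv D18734)) (tt N21084 (iv F39813)) (tt N20553 (iv F38510)) (tt N21097 D21135) (tt N15827 F34139) (tt N20688 (iv F38865)))
theorem Q18702 : ∀ i, i < 18702 → P i := stepQ 18701 Q18701 (allL N18701 (tt N21097 (iv F39831)) (tt N15825 F34140) (tt N21098 D21136) (tt N15824 (iv D18735)) (tt N21099 D21137) (tt N20692 (iv F38878)))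
theorem Q18703 : ∀ i, i < 18703 → P i := stepQ 18702 Q18702 (allL N18702 (tt N21087 (iv F39818)) (tt N21100 D21138) (tt N15825 (iv D18736)) (tt N19211 (iv F35364)) (tt N21101 D21139) (tt N19210 F35361))
theorem Q18704 : ∀ i, i < 18704 → P i := stepQ 18703 Q18703 (allL N18703 (tt N21065 (iv F39782)) (tt N21099 (iv F39832)) (tt N21101 (iv F39835)) (tt N15830 F34141) (tt N15825 (iv D18737)) (tt N21102 D21140))
theorem Q18705 : ∀ i, i < 18705 → P i := stepQ 18704 Q18704 (allL N18704 (tt N21088 (iv F39821)) (tt N20692 (iv F38877)) (tt N19210 (iv F35360)) (tt N15826 F34142) (tt N21103 D21141) (tt N15825 (iv D18738)))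
theorem Q18706 : ∀ i, i < 18706 → P i := stepQ 18705 Q18705 (allL N18705 (tt N15828 F34143) (tt N21063 (iv F39779)) (tt N20926 (iv F39402)) (tt N15827 (iv D18739)) (tt N20913 F39367) (tt N20914 (iv F39372)))
theorem Q18707 : ∀ i, i < 18707 → P i := stepQ 18706 Q18706 (allL N18706 (tt N15829 F34144) (tt N21062 (iv F39775)) (tt N18519 F34145) (tt N20914 (iv F39371)) (tt N18516 (iv F34146)) (tt N15827 (iv D18740)))
theorem Q18708 : ∀ i, i < 18708 → P i := stepQ 18707 Q18707 (allL N18707 (tt N20913 (iv F39365)) (tt N15830 F34147) (tt N16549 F34148) (tt N21099 (iv F39833)) (tt N15828 (iv D18741)) (tt N16548 F34149))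
theorem Q18709 : ∀ i, i < 18709 → P i := stepQ 18708 Q18708 (allL N18708 (tt N21057 (iv F39763)) (tt N16548 F34150) (tt N16550 F34151) (tt N21102 (iv F39837)) (tt N16547 F34152) (tt N15830 (iv D18742)))
theorem Q18710 : ∀ i, i < 18710 → P i := stepQ 18709 Q18709 (allL N18709 (tt N15832 F34153) (tt N21104 D21142) (tt N15831 (iv D18743)) (tt N15832 F34154) (tt N21105 D21143) (tt N21077 (iv F39802)))
theorem Q18711 : ∀ i, i < 18711 → P i := stepQ 18710 Q18710 (allL N18710 (tt N15833 F34155) (tt N19927 (iv F37013)) (tt N21105 (iv F39841)) (tt N19867 (iv F36885)) (tt N15831 (iv D18744)) (tt N21106 D21144))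
theorem Q18712 : ∀ i, i < 18712 → P i := stepQ 18711 Q18711 (allL N18711 (tt N21107 D21145) (tt N15832 (iv D18745)) (tt N15834 F34156) (tt N21104 (iv F39839)) (tt N21108 D21146) (tt N19276 (iv F35511)))
theorem Q18713 : ∀ i, i < 18713 → P i := stepQ 18712 Q18712 (allL N18712 (tt N21105 (iv F39840)) (tt N21108 (iv F39844)) (tt N15833 F34157) (tt N21109 D21147) (tt N15832 (iv D18746)) (tt N21110 D21148))
theorem Q18714 : ∀ i, i < 18714 → P i := stepQ 18713 Q18713 (allL N18713 (tt N21106 (iv F39842)) (tt N15836 F34158) (tt N21110 (iv F39846)) (tt N20563 (iv F38538)) (tt N21080 (iv F39806)) (tt N15833 (iv D18747)))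
theorem Q18715 : ∀ i, i < 18715 → P i := stepQ 18714 Q18714 (allL N18714 (tt N15834 (iv D18748)) (tt N18887 (iv F34656)) (tt N21107 (iv F39843)) (tt N18886 (iv F34652)) (tt N21111 D21149) (tt N19040 (iv F34984)))
theorem Q18716 : ∀ i, i < 18716 → P i := stepQ 18715 Q18715 (allL N18715 (tt N21111 (iv F39847)) (tt N15835 F34159) (tt N21108 (iv F39845)) (tt N19066 (iv F35035)) (tt N15834 (iv D18749)) (tt N21112 D21150))
theorem Q18717 : ∀ i, i < 18717 → P i := stepQ 18716 Q18716 (allL N18716 (tt N18890 (iv F34665)) (tt N21112 (iv F39850)) (tt N15836 F34160) (tt N19068 (iv F35041)) (tt N19278 (iv F35515)) (tt N15835 (iv D18750)))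
theorem Q18718 : ∀ i, i < 18718 → P i := stepQ 18717 Q18717 (allL N18717 (tt N18483 F34161) (tt N15838 F34162) (tt N18301 F34163) (tt N21113 D21151) (tt N15837 (iv D18751)) (tt N18683 F34164))
theorem Q18719 : ∀ i, i < 18719 → P i := stepQ 18718 Q18718 (allL N18718 (tt N15842 F34165) (tt N21113 (iv F39852)) (tt N18658 F34166) (tt N15838 (iv D18752)) (tt N20546 (iv F38493)) (tt N18684 F34167))
theorem Q18720 : ∀ i, i < 18720 → P i := stepQ 18719 Q18719 (allL N18719 (tt N18492 F34168) (tt N15840 F34169) (tt N18489 F34170) (tt N20425 (iv F38230)) (tt N18486 F34171) (tt N15839 (iv D18753)))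
theorem Q18721 : ∀ i, i < 18721 → P i := stepQ 18720 Q18720 (allL N18720 (tt N20546 (iv F38492)) (tt N18485 F34172) (tt N19373 (iv F35716)) (tt N15841 (iv D18754)) (tt N15842 F34173) (tt N20549 (iv F38501)))
theorem Q18722 : ∀ i, i < 18722 → P i := stepQ 18721 Q18721 (allL N18721 (tt N18301 F34174) (tt N15844 F34175) (tt N18483 F34176) (tt N21114 D21152) (tt N15843 (iv D18755)) (tt N21049 (iv F39743)))
theorem Q18723 : ∀ i, i < 18723 → P i := stepQ 18722 Q18722 (allL N18722 (tt N15846 F34177) (tt N21114 (iv F39857)) (tt N19873 (iv F36896)) (tt N15844 (iv D18756)) (tt N19911 (iv F36974)) (tt N21071 (iv F39792)))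
theorem Q18724 : ∀ i, i < 18724 → P i := stepQ 18723 Q18723 (allL N18723 (tt N19911 (iv F36973)) (tt N20565 (iv F38544)) (tt N21115 D21153) (tt N15845 (iv D18757)) (tt N15846 F34178) (tt N21116 D21154))
theorem Q18725 : ∀ i, i < 18725 → P i := stepQ 18724 Q18724 (allL N18724 (tt N19912 (iv F36975)) (tt N20564 (iv F38541)) (tt N19910 (iv F36971)) (tt N21116 (iv F39866)) (tt N20563 (iv F38539)) (tt N15845 (iv D18758)))
theorem Q18726 : ∀ i, i < 18726 → P i := stepQ 18725 Q18725 (allL N18725 (tt N19873 (iv F36895)) (tt N21117 D21155) (tt N15846 (iv D18759)) (tt N19866 (iv F36881)) (tt N21115 (iv F39862)) (tt N21072 (iv F39795)))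
theorem Q18727 : ∀ i, i < 18727 → P i := stepQ 18726 Q18726 (allL N18726 (tt N20452 (iv F38293)) (tt N21118 D21156) (tt N15847 (iv D18760)) (tt N20443 (iv F38265)) (tt N21119 D21157) (tt N20442 F38262))
theorem Q18728 : ∀ i, i < 18728 → P i := stepQ 18727 Q18727 (allL N18727 (tt N20590 (iv F38607)) (tt N20697 (iv F38892)) (tt N21119 (iv F39868)) (tt N15897 F34179) (tt N15847 (iv D18761)) (tt N20961 (iv F39504)))
theorem Q18729 : ∀ i, i < 18729 → P i := stepQ 18728 Q18728 (allL N18728 (tt N20450 (iv F38287)) (tt N20699 (iv F38896)) (tt N20442 (iv F38261)) (tt N15848 F34180) (tt N21120 D21158) (tt N15847 (iv D18762)))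
theorem Q18730 : ∀ i, i < 18730 → P i := stepQ 18729 Q18729 (allL N18729 (tt N21121 D21159) (tt N15849 (iv D18763)) (tt N15853 F34181) (tt N21122 D21160) (tt N20387 (iv F38149)) (tt N19233 (iv F35404)))
theorem Q18731 : ∀ i, i < 18731 → P i := stepQ 18730 Q18730 (allL N18730 (tt N20332 (iv F38001)) (tt N21122 (iv F39876)) (tt N18119 F34213) (tt N15849 (iv D18764)) (tt N18118 (iv F34214)) (tt N21123 D21161))
theorem Q18732 : ∀ i, i < 18732 → P i := stepQ 18731 Q18731 (allL N18731 (tt N20330 (iv F37994)) (tt N19233 (iv F35403)) (tt N15850 F34182) (tt N21123 (iv F39881)) (tt N21124 D21162) (tt N15849 (iv D18765)))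
theorem Q18733 : ∀ i, i < 18733 → P i := stepQ 18732 Q18732 (allL N18732 (tt N20329 (iv F37990)) (tt N15854 F34183) (tt N21124 (iv F39883)) (tt N20321 (iv F37974)) (tt N15850 (iv D18766)) (tt N20388 (iv F38152)))
theorem Q18734 : ∀ i, i < 18734 → P i := stepQ 18733 Q18733 (allL N18733 (tt N21125 D21163) (tt N15851 (iv D18767)) (tt N20387 (iv F38148)) (tt N21126 D21164) (tt N15853 F34184) (tt N21127 D21165))
theorem Q18735 : ∀ i, i < 18735 → P i := stepQ 18734 Q18734 (allL N18734 (tt N15858 F34185) (tt N21126 (iv F39886)) (tt N21128 D21166) (tt N15851 (iv D18768)) (tt N19237 (iv F35411)) (tt N21129 D21167))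
theorem Q18736 : ∀ i, i < 18736 → P i := stepQ 18735 Q18735 (allL N18735 (tt N15859 F34186) (tt N21127 (iv F39887)) (tt N15852 F34187) (tt N21129 (iv F39893)) (tt N19236 (iv F35409)) (tt N15851 (iv D18769)))
theorem Q18737 : ∀ i, i < 18737 → P i := stepQ 18736 Q18736 (allL N18736 (tt N15860 F34188) (tt N20388 (iv F38151)) (tt N19236 (iv F35408)) (tt N19251 (iv F35438)) (tt N15852 (iv D18770)) (tt N15854 F34189))
theorem Q18738 : ∀ i, i < 18738 → P i := stepQ 18737 Q18737 (allL N18737 (tt N15853 (iv D18771)) (tt N15861 F34190) (tt N21121 (iv F39875)) (tt N19232 (iv F35402)) (tt N21125 (iv F39885)) (tt N19231 F35399))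
theorem Q18739 : ∀ i, i < 18739 → P i := stepQ 18738 Q18738 (allL N18738 (tt N21130 D21168) (tt N15855 (iv D18772)) (tt N20383 (iv F38140)) (tt N21131 D21169) (tt N19184 F35297) (tt N21132 D21170))
theorem Q18740 : ∀ i, i < 18740 → P i := stepQ 18739 Q18739 (allL N18739 (tt N19254 (iv F35446)) (tt N21131 (iv F39896)) (tt N21129 (iv F39892)) (tt N15855 (iv D18773)) (tt N19180 (iv F35283)) (tt N21128 F39890))
theorem Q18741 : ∀ i, i < 18741 → P i := stepQ 18740 Q18740 (allL N18740 (tt N19252 (iv F35440)) (tt N21132 (iv F39897)) (tt N15856 F34191) (tt N21128 (iv F39889)) (tt N21133 D21171) (tt N15855 (iv D18774)))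
theorem Q18742 : ∀ i, i < 18742 → P i := stepQ 18741 Q18741 (allL N18741 (tt N19186 (iv F35300)) (tt N20386 (iv F38147)) (tt N21133 (iv F39898)) (tt N19162 (iv F35238)) (tt N15856 (iv D18775)) (tt N19161 F35235))
theorem Q18743 : ∀ i, i < 18743 → P i := stepQ 18742 Q18742 (allL N18742 (tt N15857 (iv D18776)) (tt N21125 (iv F39884)) (tt N20353 (iv F38057)) (tt N21134 D21172) (tt N15861 F34192) (tt N20866 (iv F39261)))
theorem Q18744 : ∀ i, i < 18744 → P i := stepQ 18743 Q18743 (allL N18743 (tt N21134 (iv F39899)) (tt N15858 F34193) (tt N21135 D21173) (tt N15857 (iv D18777)) (tt N21136 D21174) (tt N20867 (iv F39263)))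
theorem Q18745 : ∀ i, i < 18745 → P i := stepQ 18744 Q18744 (allL N18744 (tt N21128 (iv F39888)) (tt N21137 D21175) (tt N15858 (iv D18778)) (tt N19252 (iv F35442)) (tt N21138 D21176) (tt N19254 (iv F35447)))
theorem Q18746 : ∀ i, i < 18746 → P i := stepQ 18745 Q18745 (allL N18745 (tt N19237 (iv F35410)) (tt N21136 (iv F39903)) (tt N21138 (iv F39911)) (tt N15864 F34194) (tt N15858 (iv D18779)) (tt N19154 (iv F35219)))
theorem Q18747 : ∀ i, i < 18747 → P i := stepQ 18746 Q18746 (allL N18746 (tt N21129 (iv F39891)) (tt N20867 (iv F39262)) (tt N19254 (iv F35448)) (tt N15859 F34195) (tt N21139 D21177) (tt N15858 (iv D18780)))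
theorem Q18748 : ∀ i, i < 18748 → P i := stepQ 18747 Q18747 (allL N18747 (tt N19236 (iv F35407)) (tt N19742 (iv F36649)) (tt N15860 F34196) (tt N19153 (iv F35218)) (tt N15859 (iv D18781)) (tt N15865 F34197))
theorem Q18749 : ∀ i, i < 18749 → P i := stepQ 18748 Q18748 (allL N18748 (tt N15862 F34198) (tt N19232 (iv F35401)) (tt N20551 (iv F38505)) (tt N15861 (iv D18782)) (tt N21140 D21178) (tt N19149 (iv F35214)))
theorem Q18750 : ∀ i, i < 18750 → P i := stepQ 18749 Q18749 (allL N18749 (tt N15863 F34199) (tt N19231 (iv F35398)) (tt N20354 (iv F38062)) (tt N19149 (iv F35212)) (tt N21141 D21179) (tt N15861 (iv D18783)))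
theorem Q18751 : ∀ i, i < 18751 → P i := stepQ 18750 Q18750 (allL N18750 (tt N21140 (iv F39912)) (tt N15864 F34200) (tt N18604 F34201) (tt N21136 (iv F39905)) (tt N15862 (iv D18784)) (tt N18603 F34202))
theorem Q18752 : ∀ i, i < 18752 → P i := stepQ 18751 Q18751 (allL N18751 (tt N21141 (iv F39915)) (tt N15865 F34203) (tt N19735 F36636) (tt N19152 (iv F35217)) (tt N15863 (iv D18785)) (tt N19742 (iv F36651)))
theorem Q18753 : ∀ i, i < 18753 → P i := stepQ 18752 Q18752 (allL N18752 (tt N15870 F34204) (tt N18276 F34205) (tt N21123 (iv F39880)) (tt N15867 (iv D18786)) (tt N17445 F34206) (tt N18119 (iv F34207)))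
theorem Q18754 : ∀ i, i < 18754 → P i := stepQ 18753 Q18753 (allL N18753 (tt N15871 F34208) (tt N18277 F34209) (tt N15868 F34210) (tt N18119 F34211) (tt N18120 F34212) (tt N15867 (iv D18787)))
theorem Q18755 : ∀ i, i < 18755 → P i := stepQ 18754 Q18754 (allL N18754 (tt N15872 F34215) (tt N15879 F34216) (tt N18120 F34217) (tt N19799 (iv F36766)) (tt N15868 (iv D18788)) (tt N18283 F34218))
theorem Q18756 : ∀ i, i < 18756 → P i := stepQ 18755 Q18755 (allL N18755 (tt N18533 F34219) (tt N15870 F34220) (tt N21142 D21180) (tt N15869 (iv D18789)) (tt N21143 D21181) (tt N20381 (iv F38134)))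
theorem Q18757 : ∀ i, i < 18757 → P i := stepQ 18756 Q18756 (allL N18756 (tt N21123 (iv F39879)) (tt N20861 (iv F39251)) (tt N15870 (iv D18790)) (tt N20330 (iv F37996)) (tt N21144 D21182) (tt N20332 (iv F38002)))
theorem Q18758 : ∀ i, i < 18758 → P i := stepQ 18757 Q18757 (allL N18757 (tt N17445 F34221) (tt N21143 (iv F39918)) (tt N21144 (iv F39922)) (tt N17442 F34222) (tt N15870 (iv D18791)) (tt N18269 (iv F34223)))
theorem Q18759 : ∀ i, i < 18759 → P i := stepQ 18758 Q18758 (allL N18758 (tt N18119 F34224) (tt N20381 (iv F38133)) (tt N20332 (iv F38003)) (tt N15871 F34225) (tt N18116 F34226) (tt N15870 (iv D18792)))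
theorem Q18760 : ∀ i, i < 18760 → P i := stepQ 18759 Q18759 (allL N18759 (tt N18120 F34227) (tt N20382 (iv F38136)) (tt N15872 F34228) (tt N18117 F34229) (tt N15871 (iv D18793)) (tt N18280 F34230))
theorem Q18761 : ∀ i, i < 18761 → P i := stepQ 18760 Q18760 (allL N18760 (tt N19799 (iv F36764)) (tt N15876 F34231) (tt N18154 F34234) (tt N15872 (iv D18794)) (tt N15873 F34232) (tt N15895 F34233))
theorem Q18762 : ∀ i, i < 18762 → P i := stepQ 18761 Q18761 (allL N18761 (tt N19797 (iv F36761)) (tt N18160 F34235) (tt N15873 (iv D18795)) (tt N18153 (iv F34238)) (tt N18154 F34236) (tt N15874 F34237))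
theorem Q18763 : ∀ i, i < 18763 → P i := stepQ 18762 Q18762 (allL N18762 (tt N20314 (iv F37954)) (tt N18159 F34241) (tt N20327 (iv F37986)) (tt N15874 (iv D18796)) (tt N18152 F34242) (tt N18153 F34243))
theorem Q18764 : ∀ i, i < 18764 → P i := stepQ 18763 Q18763 (allL N18763 (tt N15891 F34244) (tt N18161 F34245) (tt N15876 (iv D18797)) (tt N15891 F34248) (tt N15877 F34246) (tt N15896 F34247))
theorem Q18765 : ∀ i, i < 18765 → P i := stepQ 18764 Q18764 (allL N18764 (tt N15883 F34249) (tt N18278 F34250) (tt N15879 F34251) (tt N18532 F34252) (tt N15878 (iv D18798)) (tt N18284 F34253))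
theorem Q18766 : ∀ i, i < 18766 → P i := stepQ 18765 Q18765 (allL N18765 (tt N18284 F34254) (tt N17592 F34255) (tt N15881 F34256) (tt N18450 F34257) (tt N15880 (iv D18799)) (tt N15883 F34258))
theorem Q18767 : ∀ i, i < 18767 → P i := stepQ 18766 Q18766 (allL N18766 (tt N17596 F34259) (tt N15883 F34260) (tt N15890 F34261) (tt N18540 (iv F34263)) (tt N15882 (iv D18800)) (tt N17592 F34262))
theorem Q18768 : ∀ i, i < 18768 → P i := stepQ 18767 Q18767 (allL N18767 (tt N18532 F34264) (tt N18540 F34265) (tt N18449 F34268) (tt N15883 (iv D18801)) (tt N18572 F34266) (tt N18450 F34267))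
theorem Q18769 : ∀ i, i < 18769 → P i := stepQ 18768 Q18768 (allL N18768 (tt N15896 F34269) (tt N18168 F34270) (tt N15884 (iv D18802)) (tt N15896 F34271) (tt N15885 F34272) (tt N15891 F34273))
theorem Q18770 : ∀ i, i < 18770 → P i := stepQ 18769 Q18769 (allL N18769 (tt N15888 F34274) (tt N17613 (iv F34276)) (tt N15886 (iv D18803)) (tt N21145 D21183) (tt N17582 (iv F34277)) (tt N17583 F34275))
theorem Q18771 : ∀ i, i < 18771 → P i := stepQ 18770 Q18770 (allL N18770 (tt N15889 F34278) (tt N20380 (iv F38130)) (tt N17582 F34279) (tt N17581 F34280) (tt N15886 (iv D18804)) (tt N17581 F34281))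
theorem Q18772 : ∀ i, i < 18772 → P i := stepQ 18771 Q18771 (allL N18771 (tt N15890 F34282) (tt N20379 (iv F38125)) (tt N17596 F34283) (tt N17594 F34284) (tt N15887 (iv D18805)) (tt N17594 F34285))
theorem Q18773 : ∀ i, i < 18773 → P i := stepQ 18772 Q18772 (allL N18772 (tt N21145 (iv F39924)) (tt N17587 F34286) (tt N18537 F34289) (tt N15888 (iv D18806)) (tt N18504 F34287) (tt N17585 F34288))
theorem Q18774 : ∀ i, i < 18774 → P i := stepQ 18773 Q18773 (allL N18773 (tt N19240 (iv F35417)) (tt N15892 (iv D18807)) (tt N20058 (iv F37351)) (tt N16617 F34290) (tt N19510 (iv F36084)) (tt N19238 F35415))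
theorem Q18775 : ∀ i, i < 18775 → P i := stepQ 18774 Q18774 (allL N18774 (tt N15895 F34291) (tt N19800 (iv F36769)) (tt N18164 F34292) (tt N18283 F34293) (tt N15894 (iv D18808)) (tt N19799 (iv F36767)))
theorem Q18776 : ∀ i, i < 18776 → P i := stepQ 18775 Q18775 (allL N18775 (tt N15898 (iv D18809)) (tt N19292 (iv F35550)) (tt N15902 F34294) (tt N20194 (iv F37646)) (tt N19290 (iv F35544)) (tt N19339 (iv F35642)))
theorem Q18777 : ∀ i, i < 18777 → P i := stepQ 18776 Q18776 (allL N18776 (tt N20194 (iv F37645)) (tt N15899 F34295) (tt N20193 (iv F37642)) (tt N15898 (iv D18810)) (tt N20194 (iv F37647)) (tt N19342 (iv F35653)))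
theorem Q18778 : ∀ i, i < 18778 → P i := stepQ 18777 Q18777 (allL N18777 (tt N20577 (iv F38568)) (tt N20194 F37649) (tt N20195 (iv F37650)) (tt N19292 (iv F35551)) (tt N15899 (iv D18811)) (tt N20196 (iv F37657)))
theorem Q18779 : ∀ i, i < 18779 → P i := stepQ 18778 Q18778 (allL N18778 (tt N20579 (iv F38575)) (tt N19343 (iv F35655)) (tt N15901 F34296) (tt N21146 D21184) (tt N15900 (iv D18812)) (tt N19294 (iv F35556)))
theorem Q18780 : ∀ i, i < 18780 → P i := stepQ 18779 Q18779 (allL N18779 (tt N19637 (iv F36396)) (tt N20197 (iv F37658)) (tt N15903 (iv D18813)) (tt N19632 (iv F36383)) (tt N20171 (iv F37590)) (tt N21147 D21185))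
theorem Q18781 : ∀ i, i < 18781 → P i := stepQ 18780 Q18780 (allL N18780 (tt N20825 (iv F39192)) (tt N15907 F34297) (tt N21147 (iv F39930)) (tt N15904 F34298) (tt N21147 (iv F39931)) (tt N15903 (iv D18814)))
theorem Q18782 : ∀ i, i < 18782 → P i := stepQ 18781 Q18781 (allL N18781 (tt N20196 (iv F37655)) (tt N15905 (iv D18815)) (tt N20197 (iv F37659)) (tt N20578 (iv F38574)) (tt N21148 D21186) (tt N20577 (iv F38572)))
theorem Q18783 : ∀ i, i < 18783 → P i := stepQ 18782 Q18782 (allL N18782 (tt N20173 (iv F37597)) (tt N21148 (iv F39932)) (tt N15906 F34299) (tt N21149 D21187) (tt N15905 (iv D18816)) (tt N21148 (iv F39934)))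
theorem Q18784 : ∀ i, i < 18784 → P i := stepQ 18783 Q18783 (allL N18783 (tt N20167 F37579) (tt N20171 F37591) (tt N21148 (iv F39933)) (tt N20170 (iv F37586)) (tt N20197 (iv F37660)) (tt N15906 (iv D18817)))
theorem Q18785 : ∀ i, i < 18785 → P i := stepQ 18784 Q18784 (allL N18784 (tt N20195 F37654) (tt N21147 (iv F39929)) (tt N20577 F38571) (tt N20836 (iv F39220)) (tt N15907 (iv D18818)) (tt N20197 (iv F37661)))
theorem Q18786 : ∀ i, i < 18786 → P i := stepQ 18785 Q18785 (allL N18785 (tt N15916 (iv D18819)) (tt N15919 F34300) (tt N16293 F34301) (tt N15950 (iv F34305)) (tt N16294 F34302) (tt N15916 (iv F34304)))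
theorem Q18787 : ∀ i, i < 18787 → P i := stepQ 18786 Q18786 (allL N18786 (tt N15950 F34309) (tt N15917 F34310) (tt N15993 F34313) (tt N15916 (iv D18820)) (tt N16508 F34311) (tt N15950 F34312))
theorem Q18788 : ∀ i, i < 18788 → P i := stepQ 18787 Q18787 (allL N18787 (tt N15925 F34314) (tt N16508 F34315) (tt N15953 F34316) (tt N16507 F34317) (tt N15917 (iv D18821)) (tt N18026 (iv F34318)))
theorem Q18789 : ∀ i, i < 18789 → P i := stepQ 18788 Q18788 (allL N18788 (tt N15927 F34319) (tt N16486 F34320) (tt N15920 F34321) (tt N16515 F34322) (tt N16516 (iv F34323)) (tt N15918 (iv D18822)))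
theorem Q18790 : ∀ i, i < 18790 → P i := stepQ 18789 Q18789 (allL N18789 (tt N15923 F34324) (tt N16294 F34325) (tt N15921 F34326) (tt N16485 F34327) (tt N15919 (iv D18823)) (tt N16516 F34328))
theorem Q18791 : ∀ i, i < 18791 → P i := stepQ 18790 Q18790 (allL N18790 (tt N15928 F34329) (tt N16335 F34330) (tt N16516 F34331) (tt N16154 F34332) (tt N15920 (iv D18824)) (tt N15921 F34333))
theorem Q18792 : ∀ i, i < 18792 → P i := stepQ 18791 Q18791 (allL N18791 (tt N15951 F34334) (tt N15925 F34335) (tt N15946 F34336) (tt N18021 (iv F34337)) (tt N15922 (iv D18825)) (tt N21150 D21188))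
theorem Q18793 : ∀ i, i < 18793 → P i := stepQ 18792 Q18792 (allL N18792 (tt N16485 F34338) (tt N15926 F34339) (tt N21151 D21189) (tt N15923 (iv D18826)) (tt N18021 F34340) (tt N21152 D21190))
theorem Q18794 : ∀ i, i < 18794 → P i := stepQ 18793 Q18793 (allL N18793 (tt N16516 F34341) (tt N15927 F34342) (tt N15928 F34343) (tt N21152 (iv F39944)) (tt N15927 F34344) (tt N15923 (iv D18827)))
theorem Q18795 : ∀ i, i < 18795 → P i := stepQ 18794 Q18794 (allL N18794 (tt N15990 F34345) (tt N15924 (iv D18828)) (tt N15944 F34346) (tt N15945 F34347) (tt N21153 D21191) (tt N15944 F34348))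
theorem Q18796 : ∀ i, i < 18796 → P i := stepQ 18795 Q18795 (allL N18795 (tt N15953 F34349) (tt N21153 (iv F39946)) (tt N15925 F34350) (tt N17885 F34351) (tt N15924 (iv D18829)) (tt N21154 D21192))
theorem Q18797 : ∀ i, i < 18797 → P i := stepQ 18796 Q18796 (allL N18796 (tt N16507 F34352) (tt N18021 F34353) (tt N21155 D21193) (tt N15925 (iv D18830)) (tt N15926 F34354) (tt N21156 D21194))
theorem Q18798 : ∀ i, i < 18798 → P i := stepQ 18797 Q18797 (allL N18797 (tt N18026 F34355) (tt N21150 (iv F39936)) (tt N21154 (iv F39950)) (tt N21156 (iv F39958)) (tt N21150 (iv F39939)) (tt N15925 (iv D18831)))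
theorem Q18799 : ∀ i, i < 18799 → P i := stepQ 18798 Q18798 (allL N18798 (tt N16101 F34356) (tt N21157 D21195) (tt N15926 (iv D18832)) (tt N16113 F34357) (tt N21155 (iv F39954)) (tt N16112 (iv F34358)))
theorem Q18800 : ∀ i, i < 18800 → P i := stepQ 18799 Q18799 (allL N18799 (tt N16515 F34359) (tt N21152 (iv F39943)) (tt N16112 F34360) (tt N15927 F34361) (tt N21158 D21196) (tt N15926 (iv D18833)))
theorem Q18801 : ∀ i, i < 18801 → P i := stepQ 18800 Q18800 (allL N18800 (tt N16198 F34362) (tt N15929 (iv D18834)) (tt N16177 F34363) (tt N16197 F34364) (tt N15931 F34365) (tt N18806 (iv F34388)))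
theorem Q18802 : ∀ i, i < 18802 → P i := stepQ 18801 Q18801 (allL N18801 (tt N15931 (iv D18835)) (tt N16200 F34366) (tt N16174 F34367) (tt N15942 F34368) (tt N16198 F34369) (tt N15942 F34370))
theorem Q18803 : ∀ i, i < 18803 → P i := stepQ 18802 Q18802 (allL N18802 (tt N18924 (iv F34737)) (tt N15935 F34371) (tt N16106 F34372) (tt N15933 F34373) (tt N21159 D21197) (tt N15932 (iv D18836)))
theorem Q18804 : ∀ i, i < 18804 → P i := stepQ 18803 Q18803 (allL N18803 (tt N16112 F34374) (tt N16103 F34375) (tt N16515 F34376) (tt N15934 (iv D18837)) (tt N21160 D21198) (tt N16101 F34377))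
theorem Q18805 : ∀ i, i < 18805 → P i := stepQ 18804 Q18804 (allL N18804 (tt N16113 F34378) (tt N16102 F34379) (tt N15935 F34380) (tt N16101 F34381) (tt N21161 D21199) (tt N15934 (iv D18838)))
theorem Q18806 : ∀ i, i < 18806 → P i := stepQ 18805 Q18805 (allL N18805 (tt N16114 F34382) (tt N21159 (iv F39965)) (tt N21161 (iv F39975)) (tt N16165 F34383) (tt N15935 (iv D18839)) (tt N16107 F34384))
theorem Q18807 : ∀ i, i < 18807 → P i := stepQ 18806 Q18806 (allL N18806 (tt N16195 F34385) (tt N15941 F34386) (tt N19013 (iv F34947)) (tt N15940 (iv D18840)) (tt N16197 F34387) (tt N18800 F34388))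
theorem Q18808 : ∀ i, i < 18808 → P i := stepQ 18807 Q18807 (allL N18807 (tt N15944 F34389) (tt N15947 F34390) (tt N15990 F34391) (tt N15943 (iv D18841)) (tt N21162 D21200) (tt N15990 F34392))
theorem Q18809 : ∀ i, i < 18809 → P i := stepQ 18808 Q18808 (allL N18808 (tt N21162 (iv F39977)) (tt N15946 F34393) (tt N21153 (iv F39947)) (tt N16158 F34394) (tt N15944 (iv D18842)) (tt N21163 D21201))
theorem Q18810 : ∀ i, i < 18810 → P i := stepQ 18809 Q18809 (allL N18809 (tt N15952 F34395) (tt N21163 (iv F39981)) (tt N21150 (iv F39937)) (tt N16159 F34396) (tt N21154 (iv F39952)) (tt N15946 (iv D18843)))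
theorem Q18811 : ∀ i, i < 18811 → P i := stepQ 18810 Q18810 (allL N18810 (tt N15949 F34397) (tt N21162 (iv F39978)) (tt N15982 F34398) (tt N16181 F34399) (tt N15947 (iv D18844)) (tt N21164 D21202))
theorem Q18812 : ∀ i, i < 18812 → P i := stepQ 18811 Q18811 (allL N18811 (tt N15993 F34400) (tt N15948 (iv D18845)) (tt N15950 F34401) (tt N15977 F34402) (tt N18016 (iv F34404)) (tt N15993 F34403))
theorem Q18813 : ∀ i, i < 18813 → P i := stepQ 18812 Q18812 (allL N18812 (tt N15982 F34405) (tt N18016 F34406) (tt N15949 F34407) (tt N18014 F34408) (tt N15948 (iv D18846)) (tt N18013 F34409))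
theorem Q18814 : ∀ i, i < 18814 → P i := stepQ 18813 Q18813 (allL N18813 (tt N21164 (iv F39983)) (tt N15952 F34410) (tt N18013 F34411) (tt N16185 F34412) (tt N15995 F34413) (tt N15949 (iv D18847)))
theorem Q18815 : ∀ i, i < 18815 → P i := stepQ 18814 Q18814 (allL N18814 (tt N21150 (iv F39935)) (tt N18015 F34414) (tt N15952 F34415) (tt N18022 F34416) (tt N18026 F34417) (tt N15951 (iv D18848)))
theorem Q18816 : ∀ i, i < 18816 → P i := stepQ 18815 Q18815 (allL N18815 (tt N21154 (iv F39949)) (tt N15995 F34418) (tt N18026 F34419) (tt N17910 F34420) (tt N15952 (iv D18849)) (tt N15953 F34421))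
theorem Q18817 : ∀ i, i < 18817 → P i := stepQ 18816 Q18816 (allL N18816 (tt N18820 (iv F34433)) (tt N17657 F34422) (tt N15954 (iv D18850)) (tt N19382 (iv F35730)) (tt N15956 F34423) (tt N19381 (iv F35728)))
theorem Q18818 : ∀ i, i < 18818 → P i := stepQ 18817 Q18817 (allL N18817 (tt N18821 (iv F34435)) (tt N15971 F34424) (tt N19381 (iv F35727)) (tt N15955 F34425) (tt N16575 F34426) (tt N15954 (iv D18851)))
theorem Q18819 : ∀ i, i < 18819 → P i := stepQ 18818 Q18818 (allL N18818 (tt N18929 (iv F34753)) (tt N15956 (iv D18852)) (tt N15972 F34427) (tt N18925 (iv F34744)) (tt N17657 F34428) (tt N16577 F34429))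
theorem Q18820 : ∀ i, i < 18820 → P i := stepQ 18819 Q18819 (allL N18819 (tt N16061 F34430) (tt N18925 (iv F34742)) (tt N16056 F34431) (tt N15956 (iv D18853)) (tt N20302 (iv F37919)) (tt N16055 F34432))
theorem Q18821 : ∀ i, i < 18821 → P i := stepQ 18820 Q18820 (allL N18820 (tt N18816 F34433) (tt N21165 D21203) (tt N15957 (iv D18854)) (tt N21166 D21204) (tt N16268 F34434) (tt N21167 D21205))
theorem Q18822 : ∀ i, i < 18822 → P i := stepQ 18821 Q18821 (allL N18821 (tt N18817 F34435) (tt N18652 F34436) (tt N21167 (iv F39993)) (tt N15958 F34437) (tt N19357 (iv F35684)) (tt N15957 (iv D18855)))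
theorem Q18823 : ∀ i, i < 18823 → P i := stepQ 18822 Q18822 (allL N18822 (tt N16307 F34438) (tt N15961 F34439) (tt N16307 F34440) (tt N21168 D21206) (tt N15959 (iv D18856)) (tt N21169 D21207))
theorem Q18824 : ∀ i, i < 18824 → P i := stepQ 18823 Q18823 (allL N18823 (tt N16344 F34441) (tt N15962 F34442) (tt N18909 (iv F34704)) (tt N15960 (iv D18857)) (tt N21168 (iv F39997)) (tt N17957 F34443))
theorem Q18825 : ∀ i, i < 18825 → P i := stepQ 18824 Q18824 (allL N18824 (tt N15965 F34444) (tt N21168 (iv F39996)) (tt N17651 F34447) (tt N15961 (iv D18858)) (tt N15962 F34445) (tt N17649 (iv F34446)))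
theorem Q18826 : ∀ i, i < 18826 → P i := stepQ 18825 Q18825 (allL N18825 (tt N15966 F34448) (tt N21169 (iv F40001)) (tt N16013 F34449) (tt N17649 F34450) (tt N16010 F34451) (tt N15961 (iv D18859)))
theorem Q18827 : ∀ i, i < 18827 → P i := stepQ 18826 Q18826 (allL N18826 (tt N15967 F34452) (tt N17656 (iv F34456)) (tt N15962 (iv D18860)) (tt N15974 F34453) (tt N17651 F34454) (tt N15973 F34455))
theorem Q18828 : ∀ i, i < 18828 → P i := stepQ 18827 Q18827 (allL N18827 (tt N16299 F34457) (tt N15964 F34458) (tt N16299 F34459) (tt N21170 D21208) (tt N15963 (iv D18861)) (tt N21171 D21209))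
theorem Q18829 : ∀ i, i < 18829 → P i := stepQ 18828 Q18828 (allL N18828 (tt N16014 F34460) (tt N21170 (iv F40006)) (tt N17788 (iv F34462)) (tt N15964 (iv D18862)) (tt N16003 F34461) (tt N21172 D21210))
theorem Q18830 : ∀ i, i < 18830 → P i := stepQ 18829 Q18829 (allL N18829 (tt N16013 F34463) (tt N21171 (iv F40009)) (tt N15966 F34464) (tt N21172 (iv F40014)) (tt N16002 F34465) (tt N15964 (iv D18863)))
theorem Q18831 : ∀ i, i < 18831 → P i := stepQ 18830 Q18830 (allL N18830 (tt N17651 F34466) (tt N21173 D21211) (tt N15965 (iv D18864)) (tt N21174 D21212) (tt N15967 F34467) (tt N17645 (iv F34468)))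
theorem Q18832 : ∀ i, i < 18832 → P i := stepQ 18831 Q18831 (allL N18831 (tt N17649 F34469) (tt N16363 F34470) (tt N17645 F34471) (tt N15966 F34472) (tt N17644 F34473) (tt N15965 (iv D18865)))
theorem Q18833 : ∀ i, i < 18833 → P i := stepQ 18832 Q18832 (allL N18832 (tt N18928 (iv F34751)) (tt N15967 (iv D18866)) (tt N16370 F34474) (tt N21175 D21213) (tt N21173 (iv F40018)) (tt N17958 F34475))
theorem Q18834 : ∀ i, i < 18834 → P i := stepQ 18833 Q18833 (allL N18833 (tt N15974 F34476) (tt N21175 (iv F40022)) (tt N15969 F34477) (tt N15967 (iv D18867)) (tt N21176 D21214) (tt N15968 F34478))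
theorem Q18835 : ∀ i, i < 18835 → P i := stepQ 18834 Q18834 (allL N18834 (tt N18927 (iv F34748)) (tt N15968 (iv D18868)) (tt N21060 (iv F39772)) (tt N17958 F34479) (tt N16033 F34480) (tt N21175 (iv F40023)))
theorem Q18836 : ∀ i, i < 18836 → P i := stepQ 18835 Q18835 (allL N18835 (tt N15975 F34481) (tt N21058 (iv F39767)) (tt N21176 (iv F40025)) (tt N16560 F34482) (tt N15969 (iv D18869)) (tt N16036 F34483))
theorem Q18837 : ∀ i, i < 18837 → P i := stepQ 18836 Q18836 (allL N18836 (tt N16036 F34484) (tt N16575 F34485) (tt N17812 F34486) (tt N16569 F34487) (tt N15971 (iv D18870)) (tt N15975 F34488))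
theorem Q18838 : ∀ i, i < 18838 → P i := stepQ 18837 Q18837 (allL N18837 (tt N18930 (iv F34756)) (tt N15974 F34489) (tt N16577 F34490) (tt N17656 F34491) (tt N20222 (iv F37723)) (tt N15972 (iv D18871)))
theorem Q18839 : ∀ i, i < 18839 → P i := stepQ 18838 Q18838 (allL N18838 (tt N21176 (iv F40024)) (tt N20222 (iv F37720)) (tt N15975 F34492) (tt N20220 (iv F37714)) (tt N15974 (iv D18872)) (tt N17812 F34493))
theorem Q18840 : ∀ i, i < 18840 → P i := stepQ 18839 Q18839 (allL N18839 (tt N15994 F34494) (tt N15982 F34495) (tt N15991 F34496) (tt N18025 F34497) (tt N15980 (iv D18873)) (tt N18024 (iv F34498)))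
theorem Q18841 : ∀ i, i < 18841 → P i := stepQ 18840 Q18840 (allL N18840 (tt N18014 F34499) (tt N18025 F34500) (tt N19907 (iv F36961)) (tt N15982 (iv D18874)) (tt N15983 F34501) (tt N18012 (iv F34502)))
theorem Q18842 : ∀ i, i < 18842 → P i := stepQ 18841 Q18841 (allL N18841 (tt N18013 F34503) (tt N18024 F34504) (tt N21164 (iv F39984)) (tt N18012 F34505) (tt N18024 F34506) (tt N15982 (iv D18875)))
theorem Q18843 : ∀ i, i < 18843 → P i := stepQ 18842 Q18842 (allL N18842 (tt N16526 F34507) (tt N19925 (iv F37007)) (tt N15986 (iv D18876)) (tt N17762 F34510) (tt N15987 F34508) (tt N17187 F34509))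
theorem Q18844 : ∀ i, i < 18844 → P i := stepQ 18843 Q18843 (allL N18843 (tt N21177 D21215) (tt N15987 (iv D18877)) (tt N15989 F34511) (tt N21178 D21216) (tt N19925 (iv F37010)) (tt N16270 F34512))
theorem Q18845 : ∀ i, i < 18845 → P i := stepQ 18844 Q18844 (allL N18844 (tt N16297 F34513) (tt N21178 (iv F40030)) (tt N16296 F34514) (tt N15987 (iv D18878)) (tt N21179 D21217) (tt N16271 F34515))
theorem Q18846 : ∀ i, i < 18846 → P i := stepQ 18845 Q18845 (allL N18845 (tt N19914 (iv F36982)) (tt N15988 (iv D18879)) (tt N19925 (iv F37008)) (tt N16286 F34516) (tt N15989 F34517) (tt N16285 F34518))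
theorem Q18847 : ∀ i, i < 18847 → P i := stepQ 18846 Q18846 (allL N18846 (tt N15989 (iv D18880)) (tt N16280 F34519) (tt N21177 (iv F40028)) (tt N16272 F34520) (tt N19914 (iv F36984)) (tt N16272 F34521))
theorem Q18848 : ∀ i, i < 18848 → P i := stepQ 18847 Q18847 (allL N18847 (tt N21153 (iv F39945)) (tt N15991 F34522) (tt N21162 (iv F39979)) (tt N18088 F34523) (tt N15990 (iv D18881)) (tt N21180 D21218))
theorem Q18849 : ∀ i, i < 18849 → P i := stepQ 18848 Q18848 (allL N18848 (tt N15995 F34524) (tt N21180 (iv F40035)) (tt N18024 F34525) (tt N18089 F34526) (tt N21164 (iv F39986)) (tt N15991 (iv D18882)))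
theorem Q18850 : ∀ i, i < 18850 → P i := stepQ 18849 Q18849 (allL N18849 (tt N16405 F34527) (tt N15992 (iv D18883)) (tt N16306 F34528) (tt N21181 D21219) (tt N16190 F34529) (tt N16295 F34530))
theorem Q18851 : ∀ i, i < 18851 → P i := stepQ 18850 Q18850 (allL N18850 (tt N15996 F34531) (tt N21181 (iv F40038)) (tt N16271 F34532) (tt N15992 (iv D18884)) (tt N21182 D21220) (tt N16296 F34533))
theorem Q18852 : ∀ i, i < 18852 → P i := stepQ 18851 Q18851 (allL N18851 (tt N21182 (iv F40040)) (tt N16408 F34534) (tt N16525 F34535) (tt N16193 F34536) (tt N15996 (iv D18885)) (tt N21183 D21221))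
theorem Q18853 : ∀ i, i < 18853 → P i := stepQ 18852 Q18852 (allL N18852 (tt N15999 F34537) (tt N16004 F34538) (tt N21184 D21222) (tt N15997 (iv D18886)) (tt N16355 F34539) (tt N17821 F34540))
theorem Q18854 : ∀ i, i < 18854 → P i := stepQ 18853 Q18853 (allL N18853 (tt N16355 F34541) (tt N16001 F34542) (tt N21185 D21223) (tt N15998 (iv D18887)) (tt N15999 F34543) (tt N21186 D21224))
theorem Q18855 : ∀ i, i < 18855 → P i := stepQ 18854 Q18854 (allL N18854 (tt N16356 F34544) (tt N16002 F34545) (tt N16356 F34546) (tt N21186 (iv F40055)) (tt N21171 (iv F40011)) (tt N15998 (iv D18888)))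
theorem Q18856 : ∀ i, i < 18856 → P i := stepQ 18855 Q18855 (allL N18855 (tt N21184 (iv F40047)) (tt N17814 F34547) (tt N15999 (iv D18889)) (tt N21187 D21225) (tt N21185 (iv F40052)) (tt N17822 F34548))
theorem Q18857 : ∀ i, i < 18857 → P i := stepQ 18856 Q18856 (allL N18856 (tt N16300 F34549) (tt N16003 F34550) (tt N21188 D21226) (tt N16000 (iv D18890)) (tt N21170 (iv F40007)) (tt N17801 F34551))
theorem Q18858 : ∀ i, i < 18858 → P i := stepQ 18857 Q18857 (allL N18857 (tt N16012 F34552) (tt N21186 (iv F40054)) (tt N17816 F34553) (tt N16002 F34554) (tt N17824 F34555) (tt N16001 (iv D18891)))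
theorem Q18859 : ∀ i, i < 18859 → P i := stepQ 18858 Q18858 (allL N18858 (tt N16007 F34556) (tt N21189 D21227) (tt N16004 (iv D18892)) (tt N16120 F34559) (tt N16357 F34557) (tt N17827 F34558))
theorem Q18860 : ∀ i, i < 18860 → P i := stepQ 18859 Q18859 (allL N18859 (tt N16357 F34560) (tt N20983 (iv F39566)) (tt N16005 (iv D18893)) (tt N21190 D21228) (tt N16007 F34561) (tt N21191 D21229))
theorem Q18861 : ∀ i, i < 18861 → P i := stepQ 18860 Q18860 (allL N18860 (tt N16358 F34562) (tt N16012 F34563) (tt N21191 (iv F40072)) (tt N16006 F34564) (tt N17832 F34565) (tt N16005 (iv D18894)))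
theorem Q18862 : ∀ i, i < 18862 → P i := stepQ 18861 Q18861 (allL N18861 (tt N20985 (iv F39575)) (tt N16007 (iv D18895)) (tt N16015 F34566) (tt N21192 D21230) (tt N20983 (iv F39567)) (tt N17829 F34567))
theorem Q18863 : ∀ i, i < 18863 → P i := stepQ 18862 Q18862 (allL N18862 (tt N16120 F34568) (tt N21192 (iv F40075)) (tt N16119 F34570) (tt N16007 (iv D18896)) (tt N21193 D21231) (tt N17830 F34569))
theorem Q18864 : ∀ i, i < 18864 → P i := stepQ 18863 Q18863 (allL N18863 (tt N16341 F34571) (tt N16010 F34572) (tt N16341 F34573) (tt N17808 F34574) (tt N21169 (iv F40004)) (tt N16008 (iv D18897)))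
theorem Q18865 : ∀ i, i < 18865 → P i := stepQ 18864 Q18864 (allL N18864 (tt N16353 F34575) (tt N17808 F34576) (tt N17810 F34577) (tt N16010 F34578) (tt N17648 F34579) (tt N16009 (iv D18898)))
theorem Q18866 : ∀ i, i < 18866 → P i := stepQ 18865 Q18865 (allL N18865 (tt N17816 F34580) (tt N20984 (iv F39571)) (tt N16012 F34581) (tt N18640 F34582) (tt N17836 F34583) (tt N16011 (iv D18899)))
theorem Q18867 : ∀ i, i < 18867 → P i := stepQ 18866 Q18866 (allL N18866 (tt N21172 (iv F40012)) (tt N16311 F34584) (tt N21194 D21232) (tt N16013 (iv D18900)) (tt N17805 F34585) (tt N16014 F34586))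
theorem Q18868 : ∀ i, i < 18868 → P i := stepQ 18867 Q18867 (allL N18867 (tt N17788 F34587) (tt N21195 D21233) (tt N16014 (iv D18901)) (tt N21196 D21234) (tt N16016 F34588) (tt N21194 (iv F40083)))
theorem Q18869 : ∀ i, i < 18869 → P i := stepQ 18868 Q18868 (allL N18868 (tt N19695 (iv F36530)) (tt N16016 (iv D18902)) (tt N16312 F34589) (tt N17780 F34590) (tt N21195 (iv F40085)) (tt N17803 F34591))
theorem Q18870 : ∀ i, i < 18870 → P i := stepQ 18869 Q18869 (allL N18869 (tt N16098 F34592) (tt N16017 (iv D18903)) (tt N16190 F34593) (tt N16186 (iv F34596)) (tt N16306 F34594) (tt N16108 F34595))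
theorem Q18871 : ∀ i, i < 18871 → P i := stepQ 18870 Q18870 (allL N18870 (tt N16018 F34597) (tt N16186 F34598) (tt N17830 F34599) (tt N16017 (iv D18904)) (tt N16403 F34600) (tt N16119 F34601))
theorem Q18872 : ∀ i, i < 18872 → P i := stepQ 18871 Q18871 (allL N18871 (tt N17830 F34602) (tt N16157 F34603) (tt N16018 (iv D18905)) (tt N17827 F34604) (tt N21197 D21235) (tt N16120 F34605))
theorem Q18873 : ∀ i, i < 18873 → P i := stepQ 18872 Q18872 (allL N18872 (tt N16403 F34606) (tt N16105 F34607) (tt N21197 (iv F40091)) (tt N16316 F34608) (tt N16018 (iv D18906)) (tt N21198 D21236))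
theorem Q18874 : ∀ i, i < 18874 → P i := stepQ 18873 Q18873 (allL N18873 (tt N16021 F34609) (tt N17833 F34610) (tt N21199 D21237) (tt N16020 (iv D18907)) (tt N20950 (iv F39468)) (tt N17813 F34611))
theorem Q18875 : ∀ i, i < 18875 → P i := stepQ 18874 Q18874 (allL N18874 (tt N21199 (iv F40099)) (tt N17822 F34612) (tt N16021 (iv D18908)) (tt N21199 (iv F40100)) (tt N21200 D21238) (tt N17814 F34613))
theorem Q18876 : ∀ i, i < 18876 → P i := stepQ 18875 Q18875 (allL N18875 (tt N20950 (iv F39466)) (tt N16022 F34614) (tt N21200 (iv F40104)) (tt N20936 (iv F39431)) (tt N16021 (iv D18909)) (tt N21201 D21239))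
theorem Q18877 : ∀ i, i < 18877 → P i := stepQ 18876 Q18876 (allL N18876 (tt N17836 F34615) (tt N21201 (iv F40105)) (tt N17824 F34616) (tt N21082 (iv F39810)) (tt N17816 F34617) (tt N16022 (iv D18910)))
theorem Q18878 : ∀ i, i < 18878 → P i := stepQ 18877 Q18877 (allL N18877 (tt N16023 (iv D18911)) (tt N18065 F34618) (tt N16024 F34619) (tt N18064 F34620) (tt N18385 F34621) (tt N18063 F34622))
theorem Q18879 : ∀ i, i < 18879 → P i := stepQ 18878 Q18878 (allL N18878 (tt N16025 F34623) (tt N16029 F34624) (tt N16444 (iv F34625)) (tt N16024 (iv D18912)) (tt N19088 (iv F35083)) (tt N16027 (iv F34626)))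
theorem Q18880 : ∀ i, i < 18880 → P i := stepQ 18879 Q18879 (allL N18879 (tt N16026 F34627) (tt N16028 F34628) (tt N18063 F34629) (tt N16027 F34630) (tt N18080 F34631) (tt N16024 (iv D18913)))
theorem Q18881 : ∀ i, i < 18881 → P i := stepQ 18880 Q18880 (allL N18880 (tt N16031 F34632) (tt N18080 F34633) (tt N17796 F34634) (tt N18080 F34635) (tt N16028 (iv D18914)) (tt N18386 F34636))
theorem Q18882 : ∀ i, i < 18882 → P i := stepQ 18881 Q18881 (allL N18881 (tt N16032 F34637) (tt N19088 (iv F35082)) (tt N16451 F34638) (tt N19063 (iv F35029)) (tt N16029 (iv D18915)) (tt N19088 (iv F35084)))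
theorem Q18883 : ∀ i, i < 18883 → P i := stepQ 18882 Q18882 (allL N18882 (tt N16033 (iv D18916)) (tt N17643 F34639) (tt N21068 (iv F39787)) (tt N17641 (iv F34640)) (tt N18927 (iv F34750)) (tt N19673 (iv F36490)))
theorem Q18884 : ∀ i, i < 18884 → P i := stepQ 18883 Q18883 (allL N18883 (tt N17641 F34641) (tt N16034 F34642) (tt N18635 (iv F34644)) (tt N16033 (iv D18917)) (tt N17638 F34643) (tt N17811 (iv F34645)))
theorem Q18885 : ∀ i, i < 18885 → P i := stepQ 18884 Q18884 (allL N18884 (tt N19673 (iv F36488)) (tt N16035 F34646) (tt N21067 (iv F39785)) (tt N17811 F34647) (tt N21202 D21240) (tt N16033 (iv D18918)))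
theorem Q18886 : ∀ i, i < 18886 → P i := stepQ 18885 Q18885 (allL N18885 (tt N17812 F34648) (tt N21202 (iv F40107)) (tt N16036 F34649) (tt N20219 (iv F37712)) (tt N16035 (iv D18919)) (tt N21176 (iv F40026)))
theorem Q18887 : ∀ i, i < 18887 → P i := stepQ 18886 Q18886 (allL N18886 (tt N16037 (iv D18920)) (tt N16038 F34650) (tt N16108 F34651) (tt N18714 F34652) (tt N16229 F34653) (tt N16190 F34654))
theorem Q18888 : ∀ i, i < 18888 → P i := stepQ 18887 Q18887 (allL N18887 (tt N16039 F34655) (tt N18714 F34656) (tt N16183 F34658) (tt N16038 (iv D18921)) (tt N20310 (iv F37942)) (tt N16191 F34657))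
theorem Q18889 : ∀ i, i < 18889 → P i := stepQ 18888 Q18888 (allL N18888 (tt N16183 F34659) (tt N18693 F34660) (tt N16039 (iv D18922)) (tt N16180 F34662) (tt N21203 D21241) (tt N16192 F34661))
theorem Q18890 : ∀ i, i < 18890 → P i := stepQ 18889 Q18889 (allL N18889 (tt N20310 (iv F37941)) (tt N16040 F34663) (tt N21203 (iv F40110)) (tt N16234 F34664) (tt N16039 (iv D18923)) (tt N21204 D21242))
theorem Q18891 : ∀ i, i < 18891 → P i := stepQ 18890 Q18890 (allL N18890 (tt N18716 F34665) (tt N21204 (iv F40111)) (tt N18695 F34666) (tt N16237 F34667) (tt N16473 F34668) (tt N16040 (iv D18924)))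
theorem Q18892 : ∀ i, i < 18892 → P i := stepQ 18891 Q18891 (allL N18891 (tt N16047 F34669) (tt N18997 (iv F34919)) (tt N16043 (iv D18925)) (tt N21205 D21243) (tt N16044 F34670) (tt N18996 (iv F34917)))
theorem Q18893 : ∀ i, i < 18893 → P i := stepQ 18892 Q18892 (allL N18892 (tt N18666 F34671) (tt N21206 D21244) (tt N16046 (iv D18926)) (tt N21207 D21245) (tt N18653 F34672) (tt N19363 (iv F35695)))
theorem Q18894 : ∀ i, i < 18894 → P i := stepQ 18893 Q18893 (allL N18893 (tt N19013 (iv F34945)) (tt N16047 (iv D18927)) (tt N16195 F34673) (tt N21208 D21246) (tt N16049 F34674) (tt N19021 (iv F34958)))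
theorem Q18895 : ∀ i, i < 18895 → P i := stepQ 18894 Q18894 (allL N18894 (tt N21205 (iv F40114)) (tt N21208 (iv F40119)) (tt N21209 D21247) (tt N16047 (iv D18928)) (tt N21210 D21248) (tt N21211 D21249))
theorem Q18896 : ∀ i, i < 18896 → P i := stepQ 18895 Q18895 (allL N18895 (tt N18996 (iv F34914)) (tt N19021 (iv F34956)) (tt N16048 F34675) (tt N21211 (iv F40125)) (tt N18993 F34903) (tt N16047 (iv D18929)))
theorem Q18897 : ∀ i, i < 18897 → P i := stepQ 18896 Q18896 (allL N18896 (tt N18995 (iv F34909)) (tt N16196 F34676) (tt N18993 (iv F34902)) (tt N16215 F34677) (tt N16048 (iv D18930)) (tt N16052 F34678))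
theorem Q18898 : ∀ i, i < 18898 → P i := stepQ 18897 Q18897 (allL N18897 (tt N19012 (iv F34942)) (tt N16050 F34679) (tt N21212 D21250) (tt N16049 (iv D18931)) (tt N21213 D21251) (tt N16460 F34680))
theorem Q18899 : ∀ i, i < 18899 → P i := stepQ 18898 Q18898 (allL N18898 (tt N16470 F34681) (tt N21213 (iv F40128)) (tt N16461 F34682) (tt N21210 (iv F40123)) (tt N16050 (iv D18932)) (tt N21214 D21252))
theorem Q18900 : ∀ i, i < 18900 → P i := stepQ 18899 Q18899 (allL N18899 (tt N16106 F34683) (tt N16056 F34684) (tt N18924 (iv F34739)) (tt N16054 F34685) (tt N20300 (iv F37914)) (tt N16053 (iv D18933)))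
theorem Q18901 : ∀ i, i < 18901 → P i := stepQ 18900 Q18900 (allL N18900 (tt N16059 F34686) (tt N16057 (iv D18934)) (tt N16111 F34687) (tt N21215 D21253) (tt N16059 F34688) (tt N21216 D21254))
theorem Q18902 : ∀ i, i < 18902 → P i := stepQ 18901 Q18901 (allL N18901 (tt N16577 F34689) (tt N21215 (iv F40133)) (tt N18930 (iv F34757)) (tt N16057 (iv D18935)) (tt N21217 D21255) (tt N18929 F34755))
theorem Q18903 : ∀ i, i < 18903 → P i := stepQ 18902 Q18902 (allL N18902 (tt N18925 (iv F34741)) (tt N21216 (iv F40135)) (tt N16058 F34690) (tt N18929 (iv F34754)) (tt N21218 D21256) (tt N16057 (iv D18936)))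
theorem Q18904 : ∀ i, i < 18904 → P i := stepQ 18903 Q18903 (allL N18903 (tt N18926 (iv F34745)) (tt N16114 F34691) (tt N21218 (iv F40139)) (tt N16084 F34692) (tt N16058 (iv D18937)) (tt N16062 F34693))
theorem Q18905 : ∀ i, i < 18905 → P i := stepQ 18904 Q18904 (allL N18904 (tt N21215 (iv F40132)) (tt N16060 F34694) (tt N21219 D21257) (tt N16059 (iv D18938)) (tt N21220 D21258) (tt N19108 (iv F35119)))
theorem Q18906 : ∀ i, i < 18906 → P i := stepQ 18905 Q18905 (allL N18905 (tt N21216 (iv F40134)) (tt N16061 F34695) (tt N16116 F34696) (tt N19108 (iv F35118)) (tt N21221 D21259) (tt N16059 (iv D18939)))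
theorem Q18907 : ∀ i, i < 18907 → P i := stepQ 18906 Q18906 (allL N18906 (tt N16576 F34697) (tt N21220 (iv F40144)) (tt N16551 F34698) (tt N21217 (iv F40138)) (tt N16060 (iv D18940)) (tt N21222 D21260))
theorem Q18908 : ∀ i, i < 18908 → P i := stepQ 18907 Q18907 (allL N18907 (tt N20302 (iv F37918)) (tt N21221 (iv F40145)) (tt N16062 F34699) (tt N21223 D21261) (tt N16061 (iv D18941)) (tt N21218 (iv F40141)))
theorem Q18909 : ∀ i, i < 18909 → P i := stepQ 18908 Q18908 (allL N18908 (tt N16067 F34700) (tt N19166 (iv F35255)) (tt N16063 (iv D18942)) (tt N19164 (iv F35248)) (tt N16160 F34701) (tt N20297 (iv F37905)))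
theorem Q18910 : ∀ i, i < 18910 → P i := stepQ 18909 Q18909 (allL N18909 (tt N16161 F34702) (tt N16068 F34703) (tt N18823 F34704) (tt N16066 F34705) (tt N20301 (iv F37917)) (tt N16065 (iv D18943)))
theorem Q18911 : ∀ i, i < 18911 → P i := stepQ 18910 Q18910 (allL N18910 (tt N19181 (iv F35284)) (tt N16069 (iv D18944)) (tt N19166 F35257) (tt N21224 D21262) (tt N16162 F34706) (tt N21225 D21263))
theorem Q18912 : ∀ i, i < 18912 → P i := stepQ 18911 Q18911 (allL N18911 (tt N16074 F34707) (tt N21224 (iv F40153)) (tt N16093 F34708) (tt N16069 (iv D18945)) (tt N21226 D21264) (tt N16091 (iv F34709)))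
theorem Q18913 : ∀ i, i < 18913 → P i := stepQ 18912 Q18912 (allL N18912 (tt N16075 F34710) (tt N21225 (iv F40156)) (tt N16070 F34711) (tt N16091 F34712) (tt N21227 D21265) (tt N16069 (iv D18946)))
theorem Q18914 : ∀ i, i < 18914 → P i := stepQ 18913 Q18913 (allL N18913 (tt N16076 F34713) (tt N20299 (iv F37909)) (tt N21227 (iv F40162)) (tt N16107 F34714) (tt N16070 (iv D18947)) (tt N16165 F34715))
theorem Q18915 : ∀ i, i < 18915 → P i := stepQ 18914 Q18914 (allL N18914 (tt N19182 (iv F35287)) (tt N16071 (iv D18948)) (tt N16081 F34716) (tt N21228 D21266) (tt N16073 F34717) (tt N19183 (iv F35293)))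
theorem Q18916 : ∀ i, i < 18916 → P i := stepQ 18915 Q18915 (allL N18915 (tt N16163 F34718) (tt N21228 (iv F40164)) (tt N16171 F34719) (tt N16071 (iv D18949)) (tt N21229 D21267) (tt N16169 F34720))
theorem Q18917 : ∀ i, i < 18917 → P i := stepQ 18916 Q18916 (allL N18916 (tt N16164 F34721) (tt N19183 (iv F35291)) (tt N16072 F34722) (tt N16169 F34723) (tt N21230 D21268) (tt N16071 (iv D18950)))
theorem Q18918 : ∀ i, i < 18918 → P i := stepQ 18917 Q18917 (allL N18917 (tt N16165 F34724) (tt N16084 F34725) (tt N21230 (iv F40170)) (tt N16114 F34726) (tt N16072 (iv D18951)) (tt N16076 F34727))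
theorem Q18919 : ∀ i, i < 18919 → P i := stepQ 18918 Q18918 (allL N18918 (tt N16073 (iv D18952)) (tt N19181 (iv F35285)) (tt N16085 F34728) (tt N21231 D21269) (tt N19182 (iv F35289)) (tt N20292 (iv F37892)))
theorem Q18920 : ∀ i, i < 18920 → P i := stepQ 18919 Q18919 (allL N18919 (tt N21231 (iv F40172)) (tt N16074 F34729) (tt N21232 D21270) (tt N16073 (iv D18953)) (tt N21233 D21271) (tt N20294 (iv F37897)))
theorem Q18921 : ∀ i, i < 18921 → P i := stepQ 18920 Q18920 (allL N18920 (tt N16093 F34730) (tt N21234 D21272) (tt N16074 (iv D18954)) (tt N16088 F34731) (tt N21235 D21273) (tt N16087 (iv F34732)))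
theorem Q18922 : ∀ i, i < 18922 → P i := stepQ 18921 Q18921 (allL N18921 (tt N21226 (iv F40158)) (tt N21233 (iv F40176)) (tt N21235 (iv F40181)) (tt N21229 (iv F40168)) (tt N16074 (iv D18955)) (tt N21236 D21274))
theorem Q18923 : ∀ i, i < 18923 → P i := stepQ 18922 Q18922 (allL N18922 (tt N16091 F34733) (tt N20294 (iv F37896)) (tt N16087 F34734) (tt N16075 F34735) (tt N21237 D21275) (tt N16074 (iv D18956)))
theorem Q18924 : ∀ i, i < 18924 → P i := stepQ 18923 Q18923 (allL N18923 (tt N21227 (iv F40161)) (tt N20295 (iv F37898)) (tt N16076 F34736) (tt N21238 D21276) (tt N16075 (iv D18957)) (tt N21230 (iv F40171)))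
theorem Q18925 : ∀ i, i < 18925 → P i := stepQ 18924 Q18924 (allL N18924 (tt N18802 F34737) (tt N16080 F34738) (tt N18899 F34739) (tt N16078 F34740) (tt N21239 D21277) (tt N16077 (iv D18958)))
theorem Q18926 : ∀ i, i < 18926 → P i := stepQ 18925 Q18925 (allL N18925 (tt N18902 F34741) (tt N18819 F34742) (tt N16080 F34743) (tt N18818 F34744) (tt N21240 D21278) (tt N16079 (iv D18959)))
theorem Q18927 : ∀ i, i < 18927 → P i := stepQ 18926 Q18926 (allL N18926 (tt N18903 F34745) (tt N21239 (iv F40186)) (tt N21240 (iv F40192)) (tt N17655 F34746) (tt N16080 (iv D18960)) (tt N17654 F34747))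
theorem Q18928 : ∀ i, i < 18928 → P i := stepQ 18927 Q18927 (allL N18927 (tt N18834 F34748) (tt N16082 F34749) (tt N21241 D21279) (tt N16081 (iv D18961)) (tt N18882 F34750) (tt N21242 D21280))
theorem Q18929 : ∀ i, i < 18929 → P i := stepQ 18928 Q18928 (allL N18928 (tt N18832 F34751) (tt N16083 F34752) (tt N19183 (iv F35292)) (tt N21242 (iv F40198)) (tt N20296 (iv F37902)) (tt N16081 (iv D18962)))
theorem Q18930 : ∀ i, i < 18930 → P i := stepQ 18929 Q18929 (allL N18929 (tt N18818 F34753) (tt N21243 D21281) (tt N16082 (iv D18963)) (tt N18902 F34754) (tt N20226 F37734) (tt N18901 (iv F34755)))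
theorem Q18931 : ∀ i, i < 18931 → P i := stepQ 18930 Q18930 (allL N18930 (tt N18837 F34756) (tt N21242 (iv F40197)) (tt N18901 F34757) (tt N16083 F34758) (tt N21244 D21282) (tt N16082 (iv D18964)))
theorem Q18932 : ∀ i, i < 18932 → P i := stepQ 18931 Q18931 (allL N18931 (tt N16086 (iv D18965)) (tt N16089 F34759) (tt N16229 F34760) (tt N21245 D21283) (tt N16108 F34761) (tt N16264 (iv F34762)))
theorem Q18933 : ∀ i, i < 18933 → P i := stepQ 18932 Q18932 (allL N18932 (tt N21245 (iv F40206)) (tt N16087 F34763) (tt N21246 D21284) (tt N16086 (iv D18966)) (tt N21247 D21285) (tt N21234 (iv F40179)))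
theorem Q18934 : ∀ i, i < 18934 → P i := stepQ 18933 Q18933 (allL N18933 (tt N16264 F34764) (tt N16088 F34765) (tt N16231 F34766) (tt N21234 (iv F40178)) (tt N16319 F34767) (tt N16086 (iv D18967)))
theorem Q18935 : ∀ i, i < 18935 → P i := stepQ 18934 Q18934 (allL N18934 (tt N16092 F34768) (tt N21247 (iv F40209)) (tt N21237 (iv F40184)) (tt N16110 F34769) (tt N16087 (iv D18968)) (tt N21248 D21286))
theorem Q18936 : ∀ i, i < 18936 → P i := stepQ 18935 Q18935 (allL N18935 (tt N16090 F34770) (tt N21245 (iv F40207)) (tt N16254 F34771) (tt N16089 (iv D18969)) (tt N21249 D21287) (tt N16265 F34772))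
theorem Q18937 : ∀ i, i < 18937 → P i := stepQ 18936 Q18936 (allL N18936 (tt N21249 (iv F40213)) (tt N16092 F34773) (tt N21042 (iv F39724)) (tt N16121 F34774) (tt N16090 (iv D18970)) (tt N21250 D21288))
theorem Q18938 : ∀ i, i < 18938 → P i := stepQ 18937 Q18937 (allL N18937 (tt N21251 D21289) (tt N16091 (iv D18971)) (tt N21041 F39722) (tt N21225 (iv F40157)) (tt N21252 D21290) (tt N21224 F40155))
theorem Q18939 : ∀ i, i < 18939 → P i := stepQ 18938 Q18938 (allL N18938 (tt N21237 (iv F40183)) (tt N21252 (iv F40219)) (tt N16092 F34775) (tt N21253 D21291) (tt N16091 (iv D18972)) (tt N21254 D21292))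
theorem Q18940 : ∀ i, i < 18940 → P i := stepQ 18939 Q18939 (allL N18939 (tt N21248 (iv F40211)) (tt N21250 (iv F40216)) (tt N21254 (iv F40222)) (tt N16124 F34776) (tt N21255 D21293) (tt N16092 (iv D18973)))
theorem Q18941 : ∀ i, i < 18941 → P i := stepQ 18940 Q18940 (allL N18940 (tt N21235 (iv F40180)) (tt N16267 F34777) (tt N21226 (iv F40159)) (tt N16330 F34778) (tt N16093 (iv D18974)) (tt N21255 (iv F40226)))
theorem Q18942 : ∀ i, i < 18942 → P i := stepQ 18941 Q18941 (allL N18941 (tt N16481 F34779) (tt N21256 D21294) (tt N16094 (iv D18975)) (tt N21257 D21295) (tt N17865 F34780) (tt N21258 D21296))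
theorem Q18943 : ∀ i, i < 18943 → P i := stepQ 18942 Q18942 (allL N18942 (tt N16480 F34781) (tt N16097 F34782) (tt N21258 (iv F40233)) (tt N16095 F34783) (tt N21259 D21297) (tt N16094 (iv D18976)))
theorem Q18944 : ∀ i, i < 18944 → P i := stepQ 18943 Q18943 (allL N18943 (tt N21157 (iv F39959)) (tt N16096 (iv D18977)) (tt N21256 (iv F40227)) (tt N16116 F34784) (tt N17867 F34785) (tt N16115 F34786))
theorem Q18945 : ∀ i, i < 18945 → P i := stepQ 18944 Q18944 (allL N18944 (tt N16104 F34787) (tt N21259 (iv F40235)) (tt N16117 F34788) (tt N16489 F34789) (tt N16097 (iv D18978)) (tt N17870 F34790))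
theorem Q18946 : ∀ i, i < 18946 → P i := stepQ 18945 Q18945 (allL N18945 (tt N21155 (iv F39953)) (tt N16099 (iv D18979)) (tt N16507 F34791) (tt N21260 D21298) (tt N16101 F34792) (tt N21261 D21299))
theorem Q18947 : ∀ i, i < 18947 → P i := stepQ 18946 Q18946 (allL N18946 (tt N17868 F34793) (tt N21260 (iv F40238)) (tt N17876 F34794) (tt N16099 (iv D18980)) (tt N21262 D21300) (tt N17874 (iv F34795)))
theorem Q18948 : ∀ i, i < 18948 → P i := stepQ 18947 Q18947 (allL N18947 (tt N17869 F34796) (tt N21261 (iv F40247)) (tt N16100 F34797) (tt N17874 F34798) (tt N21263 D21301) (tt N16099 (iv D18981)))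
theorem Q18949 : ∀ i, i < 18949 → P i := stepQ 18948 Q18948 (allL N18948 (tt N17870 F34799) (tt N16505 F34800) (tt N21263 (iv F40254)) (tt N16493 F34801) (tt N16100 (iv D18982)) (tt N16104 F34802))
theorem Q18950 : ∀ i, i < 18950 → P i := stepQ 18949 Q18949 (allL N18949 (tt N16118 F34803) (tt N21161 (iv F39974)) (tt N16107 F34804) (tt N21262 (iv F40252)) (tt N16102 (iv D18983)) (tt N21161 (iv F39976)))
theorem Q18951 : ∀ i, i < 18951 → P i := stepQ 18950 Q18950 (allL N18950 (tt N16117 F34805) (tt N21160 (iv F39970)) (tt N16104 F34806) (tt N21160 (iv F39972)) (tt N16103 (iv D18984)) (tt N21263 (iv F40255)))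
theorem Q18952 : ∀ i, i < 18952 → P i := stepQ 18951 Q18951 (allL N18951 (tt N16189 F34807) (tt N21198 (iv F40095)) (tt N16159 F34808) (tt N16518 F34809) (tt N16124 F34810) (tt N16105 (iv D18985)))
theorem Q18953 : ∀ i, i < 18953 → P i := stepQ 18952 Q18952 (allL N18952 (tt N20300 (iv F37912)) (tt N16107 F34811) (tt N21159 (iv F39966)) (tt N20299 (iv F37910)) (tt N16106 (iv D18986)) (tt N21159 (iv F39968)))
theorem Q18954 : ∀ i, i < 18954 → P i := stepQ 18953 Q18953 (allL N18953 (tt N16109 F34812) (tt N16119 F34813) (tt N21264 D21302) (tt N16108 (iv D18987)) (tt N21265 D21303) (tt N16186 F34814))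
theorem Q18955 : ∀ i, i < 18955 → P i := stepQ 18954 Q18954 (allL N18954 (tt N21264 (iv F40256)) (tt N16144 F34815) (tt N16109 (iv D18988)) (tt N21266 D21304) (tt N21267 D21305) (tt N16182 F34816))
theorem Q18956 : ∀ i, i < 18956 → P i := stepQ 18955 Q18955 (allL N18955 (tt N21265 (iv F40258)) (tt N16110 F34817) (tt N21267 (iv F40263)) (tt N21247 (iv F40210)) (tt N16109 (iv D18989)) (tt N21268 D21306))
theorem Q18957 : ∀ i, i < 18957 → P i := stepQ 18956 Q18956 (allL N18956 (tt N16124 F34818) (tt N21268 (iv F40264)) (tt N16146 F34819) (tt N21248 (iv F40212)) (tt N16189 F34820) (tt N16110 (iv D18990)))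
theorem Q18958 : ∀ i, i < 18958 → P i := stepQ 18957 Q18957 (allL N18957 (tt N16115 F34821) (tt N16112 F34822) (tt N21269 D21307) (tt N16111 (iv D18991)) (tt N21270 D21308) (tt N21157 (iv F39962)))
theorem Q18959 : ∀ i, i < 18959 → P i := stepQ 18958 Q18958 (allL N18958 (tt N16116 F34823) (tt N16113 F34824) (tt N21216 (iv F40136)) (tt N21157 (iv F39960)) (tt N21271 D21309) (tt N16111 (iv D18992)))
theorem Q18960 : ∀ i, i < 18960 → P i := stepQ 18959 Q18959 (allL N18959 (tt N21160 (iv F39969)) (tt N21270 (iv F40268)) (tt N21158 (iv F39964)) (tt N16117 F34825) (tt N16112 (iv D18993)) (tt N21272 D21310))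
theorem Q18961 : ∀ i, i < 18961 → P i := stepQ 18960 Q18960 (allL N18960 (tt N21161 (iv F39973)) (tt N21271 (iv F40271)) (tt N16114 F34826) (tt N21273 D21311) (tt N16113 (iv D18994)) (tt N16118 F34827))
theorem Q18962 : ∀ i, i < 18962 → P i := stepQ 18961 Q18961 (allL N18961 (tt N21269 (iv F40266)) (tt N21258 (iv F40232)) (tt N16115 (iv D18995)) (tt N21274 D21312) (tt N21275 D21313) (tt N21256 F40229))
theorem Q18963 : ∀ i, i < 18963 → P i := stepQ 18962 Q18962 (allL N18962 (tt N21270 (iv F40267)) (tt N16117 F34828) (tt N21275 (iv F40275)) (tt N21270 (iv F40269)) (tt N16115 (iv D18996)) (tt N21276 D21314))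
theorem Q18964 : ∀ i, i < 18964 → P i := stepQ 18963 Q18963 (allL N18963 (tt N21271 (iv F40270)) (tt N16118 F34829) (tt N21221 (iv F40146)) (tt N21277 D21315) (tt N16116 (iv D18997)) (tt N21271 (iv F40272)))
theorem Q18965 : ∀ i, i < 18965 → P i := stepQ 18964 Q18964 (allL N18964 (tt N21263 (iv F40253)) (tt N21276 (iv F40276)) (tt N17870 F34830) (tt N21272 (iv F40273)) (tt N17869 F34831) (tt N16117 (iv D18998)))
theorem Q18966 : ∀ i, i < 18966 → P i := stepQ 18965 Q18965 (allL N18965 (tt N21262 (iv F40250)) (tt N21277 (iv F40278)) (tt N21278 D21316) (tt N16118 (iv D18999)) (tt N17868 F34832) (tt N21273 (iv F40274)))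
theorem Q18967 : ∀ i, i < 18967 → P i := stepQ 18966 Q18966 (allL N18966 (tt N16121 F34833) (tt N21265 (iv F40259)) (tt N21193 (iv F40078)) (tt N21249 (iv F40215)) (tt N16119 (iv D19000)) (tt N21279 D21317))
theorem Q18968 : ∀ i, i < 18968 → P i := stepQ 18967 Q18967 (allL N18967 (tt N21280 D21318) (tt N16120 (iv D19001)) (tt N16122 F34834) (tt N21189 (iv F40062)) (tt N21281 D21319) (tt N16157 F34835))
theorem Q18969 : ∀ i, i < 18969 → P i := stepQ 18968 Q18968 (allL N18968 (tt N21193 (iv F40077)) (tt N21281 (iv F40287)) (tt N16121 F34836) (tt N21282 D21320) (tt N16120 (iv D19002)) (tt N21283 D21321))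
theorem Q18970 : ∀ i, i < 18970 → P i := stepQ 18969 Q18969 (allL N18969 (tt N21279 (iv F40282)) (tt N16124 F34837) (tt N21283 (iv F40294)) (tt N21250 (iv F40217)) (tt N21198 (iv F40098)) (tt N16121 (iv D19003)))
theorem Q18971 : ∀ i, i < 18971 → P i := stepQ 18970 Q18970 (allL N18970 (tt N16122 (iv D19004)) (tt N16143 F34838) (tt N21280 (iv F40285)) (tt N16131 F34839) (tt N21028 (iv F39685)) (tt N16156 F34840))
theorem Q18972 : ∀ i, i < 18972 → P i := stepQ 18971 Q18971 (allL N18971 (tt N21028 (iv F39683)) (tt N16123 F34841) (tt N21281 (iv F40288)) (tt N17903 F34842) (tt N16122 (iv D19005)) (tt N21284 D21322))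
theorem Q18973 : ∀ i, i < 18973 → P i := stepQ 18972 Q18972 (allL N18972 (tt N16146 F34843) (tt N21284 (iv F40297)) (tt N16124 F34844) (tt N17904 F34845) (tt N16159 F34846) (tt N16123 (iv D19006)))
theorem Q18974 : ∀ i, i < 18974 → P i := stepQ 18973 Q18973 (allL N18973 (tt N21285 D21323) (tt N16125 (iv D19007)) (tt N16129 F34847) (tt N21285 F40304) (tt N17992 F34848) (tt N16175 (iv F34849)))
theorem Q18975 : ∀ i, i < 18975 → P i := stepQ 18974 Q18974 (allL N18974 (tt N17853 F34850) (tt N21285 (iv F40300)) (tt N17855 (iv F34852)) (tt N16125 (iv D19008)) (tt N17994 F34851) (tt N20019 (iv F37267)))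
theorem Q18976 : ∀ i, i < 18976 → P i := stepQ 18975 Q18975 (allL N18975 (tt N17852 F34853) (tt N16175 F34854) (tt N16126 F34855) (tt N20019 (iv F37266)) (tt N19955 (iv F37100)) (tt N16125 (iv D19009)))
theorem Q18977 : ∀ i, i < 18977 → P i := stepQ 18976 Q18976 (allL N18976 (tt N17851 F34856) (tt N16130 F34857) (tt N19955 (iv F37098)) (tt N17842 F34858) (tt N16126 (iv D19010)) (tt N17993 F34859))
theorem Q18978 : ∀ i, i < 18978 → P i := stepQ 18977 Q18977 (allL N18977 (tt N21286 D21324) (tt N16127 (iv D19011)) (tt N17992 F34860) (tt N21287 D21325) (tt N16129 F34861) (tt N20007 (iv F37238)))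
theorem Q18979 : ∀ i, i < 18979 → P i := stepQ 18978 Q18978 (allL N18978 (tt N16135 F34862) (tt N21287 (iv F40308)) (tt N21288 D21326) (tt N16127 (iv D19012)) (tt N16179 F34863) (tt N21289 D21327))
theorem Q18980 : ∀ i, i < 18980 → P i := stepQ 18979 Q18979 (allL N18979 (tt N16136 F34864) (tt N20007 (iv F37236)) (tt N16128 F34865) (tt N21289 (iv F40316)) (tt N16178 F34866) (tt N16127 (iv D19013)))
theorem Q18981 : ∀ i, i < 18981 → P i := stepQ 18980 Q18980 (allL N18980 (tt N16137 F34867) (tt N17993 F34868) (tt N16178 F34869) (tt N17859 F34870) (tt N16128 (iv D19014)) (tt N16130 F34871))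
theorem Q18982 : ∀ i, i < 18982 → P i := stepQ 18981 Q18981 (allL N18981 (tt N16129 (iv D19015)) (tt N16138 F34872) (tt N21285 (iv F40301)) (tt N16174 F34873) (tt N21286 (iv F40307)) (tt N16173 F34874))
theorem Q18983 : ∀ i, i < 18983 → P i := stepQ 18982 Q18982 (allL N18982 (tt N21290 D21328) (tt N16132 (iv D19016)) (tt N17984 F34875) (tt N21291 D21329) (tt N16487 F34876) (tt N21292 D21330))
theorem Q18984 : ∀ i, i < 18984 → P i := stepQ 18983 Q18983 (allL N18983 (tt N16491 F34877) (tt N21291 (iv F40320)) (tt N21289 (iv F40315)) (tt N16132 (iv D19017)) (tt N21293 D21331) (tt N21288 F40313))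
theorem Q18985 : ∀ i, i < 18985 → P i := stepQ 18984 Q18984 (allL N18984 (tt N16492 F34878) (tt N21292 (iv F40321)) (tt N16133 F34879) (tt N21288 (iv F40311)) (tt N21294 D21332) (tt N16132 (iv D19018)))
theorem Q18986 : ∀ i, i < 18986 → P i := stepQ 18985 Q18985 (allL N18985 (tt N16493 F34880) (tt N17987 F34881) (tt N21294 (iv F40326)) (tt N17870 F34882) (tt N16133 (iv D19019)) (tt N16489 F34883))
theorem Q18987 : ∀ i, i < 18987 → P i := stepQ 18986 Q18986 (allL N18986 (tt N16134 (iv D19020)) (tt N21286 (iv F40305)) (tt N17893 F34884) (tt N21295 D21333) (tt N16138 F34885) (tt N21296 D21334))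
theorem Q18988 : ∀ i, i < 18988 → P i := stepQ 18987 Q18987 (allL N18987 (tt N21295 (iv F40328)) (tt N16135 F34886) (tt N21297 D21335) (tt N16134 (iv D19021)) (tt N21298 D21336) (tt N21299 D21337))
theorem Q18989 : ∀ i, i < 18989 → P i := stepQ 18988 Q18988 (allL N18988 (tt N21296 (iv F40330)) (tt N16136 F34887) (tt N17892 F34888) (tt N21299 (iv F40340)) (tt N18333 F34889) (tt N16134 (iv D19022)))
theorem Q18990 : ∀ i, i < 18990 → P i := stepQ 18989 Q18989 (allL N18989 (tt N21288 (iv F40310)) (tt N21300 D21338) (tt N16135 (iv D19023)) (tt N16492 F34890) (tt N21301 D21339) (tt N16491 (iv F34891)))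
theorem Q18991 : ∀ i, i < 18991 → P i := stepQ 18990 Q18990 (allL N18990 (tt N16179 F34892) (tt N21298 (iv F40334)) (tt N21301 (iv F40344)) (tt N16141 F34893) (tt N16135 (iv D19024)) (tt N21302 D21340))
theorem Q18992 : ∀ i, i < 18992 → P i := stepQ 18991 Q18991 (allL N18991 (tt N21289 (iv F40314)) (tt N21299 (iv F40339)) (tt N16491 F34894) (tt N16136 F34895) (tt N21303 D21341) (tt N16135 (iv D19025)))
theorem Q18993 : ∀ i, i < 18993 → P i := stepQ 18992 Q18992 (allL N18992 (tt N16178 F34896) (tt N18333 F34897) (tt N16137 F34898) (tt N19279 (iv F35518)) (tt N16136 (iv D19026)) (tt N16142 F34899))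
theorem Q18994 : ∀ i, i < 18994 → P i := stepQ 18993 Q18993 (allL N18993 (tt N16139 F34900) (tt N16174 F34901) (tt N18896 F34902) (tt N16138 (iv D19027)) (tt N18895 (iv F34903)) (tt N16155 (iv F34904)))
theorem Q18995 : ∀ i, i < 18995 → P i := stepQ 18994 Q18994 (allL N18994 (tt N16140 F34905) (tt N16173 F34906) (tt N17898 F34907) (tt N16155 F34908) (tt N19273 (iv F35504)) (tt N16138 (iv D19028)))
theorem Q18996 : ∀ i, i < 18996 → P i := stepQ 18995 Q18995 (allL N18995 (tt N18896 F34909) (tt N16151 F34910) (tt N16139 (iv D19029)) (tt N18082 F34911) (tt N18086 (iv F34913)) (tt N16149 F34912))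
theorem Q18997 : ∀ i, i < 18997 → P i := stepQ 18996 Q18996 (allL N18996 (tt N18895 F34914) (tt N16141 F34915) (tt N18086 F34916) (tt N21298 (iv F40335)) (tt N16139 (iv D19030)) (tt N18891 F34917))
theorem Q18998 : ∀ i, i < 18998 → P i := stepQ 18997 Q18997 (allL N18997 (tt N16172 F34918) (tt N18891 F34919) (tt N16154 F34920) (tt N21302 (iv F40347)) (tt N16153 F34921) (tt N16141 (iv D19031)))
theorem Q18999 : ∀ i, i < 18999 → P i := stepQ 18998 Q18998 (allL N18998 (tt N16144 F34922) (tt N21304 D21342) (tt N16143 (iv D19032)) (tt N16192 F34923) (tt N21030 (iv F39690)) (tt N16180 F34924))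
theorem Q19000 : ∀ i, i < 19000 → P i := stepQ 18999 Q18999 (allL N18999 (tt N16192 F34925) (tt N21266 (iv F40260)) (tt N16191 F34926) (tt N16144 (iv D19033)) (tt N21305 D21343) (tt N16183 F34927))
theorem Q19001 : ∀ i, i < 19001 → P i := stepQ 19000 Q19000 (allL N19000 (tt N21030 (iv F39689)) (tt N21267 (iv F40262)) (tt N16145 F34928) (tt N21306 D21344) (tt N16144 (iv D19034)) (tt N21307 D21345))
theorem Q19002 : ∀ i, i < 19002 → P i := stepQ 19001 Q19001 (allL N19001 (tt N21031 (iv F39691)) (tt N16146 F34929) (tt N21307 (iv F40353)) (tt N17905 F34930) (tt N16185 F34931) (tt N16145 (iv D19035)))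
theorem Q19003 : ∀ i, i < 19003 → P i := stepQ 19002 Q19002 (allL N19002 (tt N16157 F34932) (tt N21308 D21346) (tt N16156 (iv D19036)) (tt N21309 D21347) (tt N21310 D21348) (tt N21280 (iv F40286)))
theorem Q19004 : ∀ i, i < 19004 → P i := stepQ 19003 Q19003 (allL N19003 (tt N16158 F34933) (tt N16181 F34934) (tt N21310 (iv F40362)) (tt N21162 (iv F39980)) (tt N16156 (iv D19037)) (tt N21311 D21349))
theorem Q19005 : ∀ i, i < 19005 → P i := stepQ 19004 Q19004 (allL N19004 (tt N21309 (iv F40358)) (tt N17827 F34935) (tt N21312 D21350) (tt N16157 (iv D19038)) (tt N21313 D21351) (tt N21189 (iv F40064)))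
theorem Q19006 : ∀ i, i < 19006 → P i := stepQ 19005 Q19005 (allL N19005 (tt N21310 (iv F40361)) (tt N21197 (iv F40090)) (tt N16158 F34936) (tt N21314 D21352) (tt N16157 (iv D19039)) (tt N21315 D21353))
theorem Q19007 : ∀ i, i < 19007 → P i := stepQ 19006 Q19006 (allL N19006 (tt N21311 (iv F40363)) (tt N16159 F34937) (tt N21315 (iv F40372)) (tt N21163 (iv F39982)) (tt N21284 (iv F40299)) (tt N16158 (iv D19040)))
theorem Q19008 : ∀ i, i < 19008 → P i := stepQ 19007 Q19007 (allL N19007 (tt N20301 (iv F37915)) (tt N16165 F34938) (tt N19130 F35171) (tt N21159 (iv F39967)) (tt N16161 (iv D19041)) (tt N20299 (iv F37911)))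
theorem Q19009 : ∀ i, i < 19009 → P i := stepQ 19008 Q19008 (allL N19008 (tt N21229 (iv F40166)) (tt N19185 (iv F35298)) (tt N19281 (iv F35523)) (tt N21226 (iv F40160)) (tt N16163 (iv D19042)) (tt N21316 D21354))
theorem Q19010 : ∀ i, i < 19010 → P i := stepQ 19009 Q19009 (allL N19009 (tt N21230 (iv F40169)) (tt N19132 (iv F35175)) (tt N16165 F34939) (tt N21317 D21355) (tt N16164 (iv D19043)) (tt N21227 (iv F40163)))
theorem Q19011 : ∀ i, i < 19011 → P i := stepQ 19010 Q19010 (allL N19010 (tt N19268 F35496) (tt N21318 D21356) (tt N16167 (iv D19044)) (tt N21319 D21357) (tt N21320 D21358) (tt N21321 D21359))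
theorem Q19012 : ∀ i, i < 19012 → P i := stepQ 19011 Q19011 (allL N19011 (tt N19272 (iv F35499)) (tt N16170 F34940) (tt N21320 (iv F40375)) (tt N16176 F34941) (tt N16167 (iv D19045)) (tt N21322 D21360))
theorem Q19013 : ∀ i, i < 19013 → P i := stepQ 19012 Q19012 (allL N19012 (tt N18897 F34942) (tt N16171 F34943) (tt N21321 (iv F40377)) (tt N16168 F34944) (tt N21323 D21361) (tt N16167 (iv D19046)))
theorem Q19014 : ∀ i, i < 19014 → P i := stepQ 19013 Q19013 (allL N19013 (tt N18893 F34945) (tt N16172 F34946) (tt N18806 F34947) (tt N21324 D21362) (tt N16168 (iv D19047)) (tt N16177 F34948))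
theorem Q19015 : ∀ i, i < 19015 → P i := stepQ 19014 Q19014 (allL N19014 (tt N19184 (iv F35295)) (tt N16169 (iv D19048)) (tt N21318 (iv F40374)) (tt N19183 F35294) (tt N21130 (iv F39895)) (tt N21228 (iv F40165)))
theorem Q19016 : ∀ i, i < 19016 → P i := stepQ 19015 Q19015 (allL N19015 (tt N19253 F35445) (tt N21130 (iv F39894)) (tt N16170 F34949) (tt N21325 D21363) (tt N16169 (iv D19049)) (tt N21326 D21364))
theorem Q19017 : ∀ i, i < 19017 → P i := stepQ 19016 Q19016 (allL N19016 (tt N19279 (iv F35516)) (tt N21322 (iv F40378)) (tt N21326 (iv F40387)) (tt N16178 F34950) (tt N21327 D21365) (tt N16170 (iv D19050)))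
theorem Q19018 : ∀ i, i < 19018 → P i := stepQ 19017 Q19017 (allL N19017 (tt N19281 (iv F35521)) (tt N21323 (iv F40381)) (tt N21229 (iv F40167)) (tt N21328 D21366) (tt N16171 (iv D19051)) (tt N21327 (iv F40389)))
theorem Q19019 : ∀ i, i < 19019 → P i := stepQ 19018 Q19018 (allL N19018 (tt N21302 (iv F40345)) (tt N21324 (iv F40383)) (tt N21329 D21367) (tt N16172 (iv D19052)) (tt N21328 (iv F40390)) (tt N16179 F34951))
theorem Q19020 : ∀ i, i < 19020 → P i := stepQ 19019 Q19019 (allL N19019 (tt N16175 F34952) (tt N20019 (iv F37265)) (tt N16173 (iv D19053)) (tt N16175 F34953) (tt N20018 F37264) (tt N21285 (iv F40303)))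
theorem Q19021 : ∀ i, i < 19021 → P i := stepQ 19020 Q19020 (allL N19020 (tt N16176 F34954) (tt N19273 (iv F35503)) (tt N20018 (iv F37262)) (tt N19272 F35501) (tt N16173 (iv D19054)) (tt N20017 F37259))
theorem Q19022 : ∀ i, i < 19022 → P i := stepQ 19021 Q19021 (allL N19021 (tt N16177 F34955) (tt N18895 F34956) (tt N16198 F34957) (tt N21330 D21368) (tt N16174 (iv D19055)) (tt N18893 F34958))
theorem Q19023 : ∀ i, i < 19023 → P i := stepQ 19022 Q19022 (allL N19022 (tt N20018 (iv F37260)) (tt N19955 (iv F37097)) (tt N16176 F34959) (tt N19954 (iv F37094)) (tt N16175 (iv D19056)) (tt N19953 F37089))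
theorem Q19024 : ∀ i, i < 19024 → P i := stepQ 19023 Q19023 (allL N19023 (tt N20017 (iv F37258)) (tt N16178 F34960) (tt N19953 (iv F37090)) (tt N21322 (iv F40379)) (tt N20007 (iv F37237)) (tt N16176 (iv D19057)))
theorem Q19025 : ∀ i, i < 19025 → P i := stepQ 19024 Q19024 (allL N19024 (tt N21330 (iv F40394)) (tt N16179 F34961) (tt N21331 D21369) (tt N16177 (iv D19058)) (tt N21287 (iv F40309)) (tt N21324 (iv F40384)))
theorem Q19026 : ∀ i, i < 19026 → P i := stepQ 19025 Q19025 (allL N19025 (tt N21301 (iv F40343)) (tt N21332 D21370) (tt N16179 (iv D19059)) (tt N21333 D21371) (tt N21288 (iv F40312)) (tt N21329 (iv F40391)))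
theorem Q19027 : ∀ i, i < 19027 → P i := stepQ 19026 Q19026 (allL N19026 (tt N21334 D21372) (tt N16180 (iv D19060)) (tt N21308 (iv F40356)) (tt N18693 F34962) (tt N21335 D21373) (tt N21304 (iv F40350)))
theorem Q19028 : ∀ i, i < 19028 → P i := stepQ 19027 Q19027 (allL N19027 (tt N16184 F34963) (tt N21335 (iv F40410)) (tt N16181 F34964) (tt N21336 D21374) (tt N16180 (iv D19061)) (tt N21337 D21375))
theorem Q19029 : ∀ i, i < 19029 → P i := stepQ 19028 Q19028 (allL N19028 (tt N16185 F34965) (tt N21311 (iv F40364)) (tt N21337 (iv F40414)) (tt N21164 (iv F39985)) (tt N21031 (iv F39693)) (tt N16181 (iv D19062)))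
theorem Q19030 : ∀ i, i < 19030 → P i := stepQ 19029 Q19029 (allL N19029 (tt N16182 (iv D19063)) (tt N21334 (iv F40407)) (tt N16186 F34966) (tt N21338 D21376) (tt N21339 D21377) (tt N21264 (iv F40257)))
theorem Q19031 : ∀ i, i < 19031 → P i := stepQ 19030 Q19030 (allL N19030 (tt N21338 (iv F40415)) (tt N16183 F34967) (tt N21340 D21378) (tt N16182 (iv D19064)) (tt N21341 D21379) (tt N21266 (iv F40261)))
theorem Q19032 : ∀ i, i < 19032 → P i := stepQ 19031 Q19031 (allL N19031 (tt N21339 (iv F40418)) (tt N16184 F34968) (tt N16187 F34969) (tt N21342 D21380) (tt N16182 (iv D19065)) (tt N21343 D21381))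
theorem Q19033 : ∀ i, i < 19033 → P i := stepQ 19032 Q19032 (allL N19032 (tt N21203 (iv F40108)) (tt N21341 (iv F40423)) (tt N20310 F37943) (tt N21344 D21382) (tt N16183 (iv D19066)) (tt N21345 D21383))
theorem Q19034 : ∀ i, i < 19034 → P i := stepQ 19033 Q19033 (allL N19033 (tt N21336 (iv F40411)) (tt N21342 (iv F40424)) (tt N21346 D21384) (tt N16184 (iv D19067)) (tt N21344 (iv F40427)) (tt N21347 D21385))
theorem Q19035 : ∀ i, i < 19035 → P i := stepQ 19034 Q19034 (allL N19034 (tt N21337 (iv F40413)) (tt N21343 (iv F40425)) (tt N16185 F34970) (tt N21347 (iv F40431)) (tt N21307 (iv F40354)) (tt N16184 (iv D19068)))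
theorem Q19036 : ∀ i, i < 19036 → P i := stepQ 19035 Q19035 (allL N19035 (tt N16187 F34971) (tt N16403 F34972) (tt N21339 (iv F40419)) (tt N16402 F34973) (tt N16186 (iv D19069)) (tt N21348 D21386))
theorem Q19037 : ∀ i, i < 19037 → P i := stepQ 19036 Q19036 (allL N19036 (tt N16402 F34974) (tt N16188 F34975) (tt N21349 D21387) (tt N16187 (iv D19070)) (tt N16401 F34976) (tt N21350 D21388))
theorem Q19038 : ∀ i, i < 19038 → P i := stepQ 19037 Q19037 (allL N19037 (tt N21348 (iv F40432)) (tt N16189 F34977) (tt N21343 (iv F40426)) (tt N21350 (iv F40440)) (tt N21268 (iv F40265)) (tt N16187 (iv D19071)))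
theorem Q19039 : ∀ i, i < 19039 → P i := stepQ 19038 Q19038 (allL N19038 (tt N16517 F34978) (tt N21351 D21389) (tt N16188 (iv D19072)) (tt N21352 D21390) (tt N16498 F34979) (tt N21353 D21391))
theorem Q19040 : ∀ i, i < 19040 → P i := stepQ 19039 Q19039 (allL N19039 (tt N16518 F34980) (tt N21350 (iv F40439)) (tt N21353 (iv F40449)) (tt N16189 F34981) (tt N21354 D21392) (tt N16188 (iv D19073)))
theorem Q19041 : ∀ i, i < 19041 → P i := stepQ 19040 Q19040 (allL N19040 (tt N16462 F34982) (tt N16191 F34983) (tt N21355 D21393) (tt N16190 (iv D19074)) (tt N21356 D21394) (tt N18714 F34984))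
theorem Q19042 : ∀ i, i < 19042 → P i := stepQ 19041 Q19041 (allL N19041 (tt N16193 F34985) (tt N21356 (iv F40458)) (tt N21305 (iv F40352)) (tt N21182 (iv F40042)) (tt N16191 (iv D19075)) (tt N21357 D21395))
theorem Q19043 : ∀ i, i < 19043 → P i := stepQ 19042 Q19042 (allL N19042 (tt N21358 D21396) (tt N16192 (iv D19076)) (tt N16471 F34986) (tt N21304 (iv F40349)) (tt N21359 D21397) (tt N18693 F34987))
theorem Q19044 : ∀ i, i < 19044 → P i := stepQ 19043 Q19043 (allL N19043 (tt N21305 (iv F40351)) (tt N21359 (iv F40462)) (tt N16193 F34988) (tt N21360 D21398) (tt N16192 (iv D19077)) (tt N21361 D21399))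
theorem Q19045 : ∀ i, i < 19045 → P i := stepQ 19044 Q19044 (allL N19044 (tt N21357 (iv F40459)) (tt N16473 F34989) (tt N21361 (iv F40464)) (tt N21183 (iv F40045)) (tt N21204 (iv F40113)) (tt N16193 (iv D19078)))
theorem Q19046 : ∀ i, i < 19046 → P i := stepQ 19045 Q19045 (allL N19045 (tt N19346 (iv F35660)) (tt N19165 (iv F35251)) (tt N16204 (iv D19079)) (tt N20297 (iv F37904)) (tt N19163 F35244) (tt N19164 (iv F35249)))
theorem Q19047 : ∀ i, i < 19047 → P i := stepQ 19046 Q19046 (allL N19046 (tt N16213 F34990) (tt N18447 F34991) (tt N18456 F34992) (tt N16207 (iv D19080)) (tt N21362 D21400) (tt N19362 (iv F35694)))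
theorem Q19048 : ∀ i, i < 19048 → P i := stepQ 19047 Q19047 (allL N19047 (tt N16208 (iv D19081)) (tt N16216 F34993) (tt N20317 (iv F37965)) (tt N20830 (iv F39209)) (tt N18452 F34994) (tt N20316 F37962))
theorem Q19049 : ∀ i, i < 19049 → P i := stepQ 19048 Q19048 (allL N19048 (tt N20830 (iv F39208)) (tt N16209 F34995) (tt N16411 F34997) (tt N16208 (iv D19082)) (tt N20829 (iv F39206)) (tt N16235 F34996))
theorem Q19050 : ∀ i, i < 19050 → P i := stepQ 19049 Q19049 (allL N19049 (tt N16220 F34998) (tt N20829 (iv F39204)) (tt N16238 F34999) (tt N21362 (iv F40468)) (tt N16209 (iv D19083)) (tt N21363 D21401))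
theorem Q19051 : ∀ i, i < 19051 → P i := stepQ 19050 Q19050 (allL N19050 (tt N16212 (iv D19084)) (tt N18452 F35000) (tt N16223 F35001) (tt N18451 F35002) (tt N16216 F35003) (tt N18455 F35004))
theorem Q19052 : ∀ i, i < 19052 → P i := stepQ 19051 Q19051 (allL N19051 (tt N18456 F35005) (tt N18460 F35006) (tt N16213 (iv D19085)) (tt N18663 F35008) (tt N21364 D21402) (tt N18662 F35007))
theorem Q19053 : ∀ i, i < 19053 → P i := stepQ 19052 Q19052 (allL N19052 (tt N21362 (iv F40465)) (tt N20847 (iv F39231)) (tt N21364 (iv F40475)) (tt N16220 F35009) (tt N16213 (iv D19086)) (tt N20817 (iv F39171)))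
theorem Q19054 : ∀ i, i < 19054 → P i := stepQ 19053 Q19053 (allL N19053 (tt N16217 F35010) (tt N20830 F39212) (tt N21365 D21403) (tt N16216 (iv D19087)) (tt N21366 D21404) (tt N21367 D21405))
theorem Q19055 : ∀ i, i < 19055 → P i := stepQ 19054 Q19054 (allL N19054 (tt N16218 F35011) (tt N20316 (iv F37959)) (tt N16225 F35012) (tt N21367 (iv F40487)) (tt N20403 (iv F38192)) (tt N16216 (iv D19088)))
theorem Q19056 : ∀ i, i < 19056 → P i := stepQ 19055 Q19055 (allL N19055 (tt N21365 (iv F40476)) (tt N21368 D21406) (tt N16217 (iv D19089)) (tt N21369 D21407) (tt N21370 D21408) (tt N21371 D21409))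
theorem Q19057 : ∀ i, i < 19057 → P i := stepQ 19056 Q19056 (allL N19056 (tt N21366 (iv F40480)) (tt N16220 F35013) (tt N21370 (iv F40494)) (tt N20847 (iv F39233)) (tt N16217 (iv D19090)) (tt N20848 (iv F39237)))
theorem Q19058 : ∀ i, i < 19058 → P i := stepQ 19057 Q19057 (allL N19057 (tt N21367 (iv F40484)) (tt N16221 F35014) (tt N21371 (iv F40497)) (tt N16218 F35015) (tt N20849 (iv F39239)) (tt N16217 (iv D19091)))
theorem Q19059 : ∀ i, i < 19059 → P i := stepQ 19058 Q19058 (allL N19058 (tt N16409 F35016) (tt N16219 (iv D19092)) (tt N21368 (iv F40489)) (tt N16231 F35017) (tt N21372 D21410) (tt N16230 F35018))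
theorem Q19060 : ∀ i, i < 19060 → P i := stepQ 19059 Q19059 (allL N19059 (tt N16238 F35019) (tt N21372 (iv F40500)) (tt N16220 F35020) (tt N21373 D21411) (tt N16219 (iv D19093)) (tt N21374 D21412))
theorem Q19061 : ∀ i, i < 19061 → P i := stepQ 19060 Q19060 (allL N19060 (tt N21363 (iv F40469)) (tt N20848 (iv F39235)) (tt N21374 (iv F40505)) (tt N20817 F39172) (tt N20818 (iv F39176)) (tt N16220 (iv D19094)))
theorem Q19062 : ∀ i, i < 19062 → P i := stepQ 19061 Q19061 (allL N19061 (tt N16236 F35021) (tt N20849 (iv F39238)) (tt N16232 F35022) (tt N20506 (iv F38413)) (tt N16221 (iv D19095)) (tt N20818 (iv F39177)))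
theorem Q19063 : ∀ i, i < 19063 → P i := stepQ 19062 Q19062 (allL N19062 (tt N16226 F35023) (tt N17420 F35024) (tt N16224 (iv D19096)) (tt N17435 (iv F35026)) (tt N21375 D21413) (tt N16240 F35025))
theorem Q19064 : ∀ i, i < 19064 → P i := stepQ 19063 Q19063 (allL N19063 (tt N16227 F35027) (tt N16250 F35028) (tt N21375 (iv F40509)) (tt N18881 F35029) (tt N16224 (iv D19097)) (tt N16250 F35030))
theorem Q19065 : ∀ i, i < 19065 → P i := stepQ 19064 Q19064 (allL N19064 (tt N21375 (iv F40507)) (tt N16243 F35031) (tt N16227 F35032) (tt N21376 D21414) (tt N16226 (iv D19098)) (tt N16247 F35033))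
theorem Q19066 : ∀ i, i < 19066 → P i := stepQ 19065 Q19065 (allL N19065 (tt N20306 F37934) (tt N21371 (iv F40496)) (tt N16230 (iv D19099)) (tt N21377 D21415) (tt N21378 D21416) (tt N21368 F40490))
theorem Q19067 : ∀ i, i < 19067 → P i := stepQ 19066 Q19066 (allL N19066 (tt N20309 (iv F37939)) (tt N16232 F35034) (tt N21378 (iv F40516)) (tt N18715 F35035) (tt N16230 (iv D19100)) (tt N21379 D21417))
theorem Q19068 : ∀ i, i < 19068 → P i := stepQ 19067 Q19067 (allL N19067 (tt N16295 F35036) (tt N16233 F35037) (tt N16319 F35038) (tt N21380 D21418) (tt N16231 (iv D19101)) (tt N16405 F35039))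
theorem Q19069 : ∀ i, i < 19069 → P i := stepQ 19068 Q19068 (allL N19068 (tt N16237 F35040) (tt N21379 (iv F40517)) (tt N20818 (iv F39175)) (tt N18716 F35041) (tt N21374 (iv F40506)) (tt N16232 (iv D19102)))
theorem Q19070 : ∀ i, i < 19070 → P i := stepQ 19069 Q19069 (allL N19069 (tt N16239 F35042) (tt N21380 (iv F40520)) (tt N16398 F35044) (tt N16233 (iv D19103)) (tt N21373 (iv F40502)) (tt N16406 F35043))
theorem Q19071 : ∀ i, i < 19071 → P i := stepQ 19070 Q19070 (allL N19070 (tt N20311 (iv F37944)) (tt N16237 F35045) (tt N20305 (iv F37928)) (tt N21204 (iv F40112)) (tt N16413 F35046) (tt N16234 (iv D19104)))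
theorem Q19072 : ∀ i, i < 19072 → P i := stepQ 19071 Q19071 (allL N19071 (tt N16235 (iv D19105)) (tt N21367 (iv F40485)) (tt N20303 F37923) (tt N20316 (iv F37960)) (tt N20415 (iv F38217)) (tt N20830 (iv F39211)))
theorem Q19073 : ∀ i, i < 19073 → P i := stepQ 19072 Q19072 (allL N19072 (tt N20415 (iv F38216)) (tt N16236 F35047) (tt N20304 (iv F37925)) (tt N18614 F35048) (tt N16235 (iv D19106)) (tt N21381 D21419))
theorem Q19074 : ∀ i, i < 19074 → P i := stepQ 19073 Q19073 (allL N19073 (tt N20506 (iv F38410)) (tt N18614 F35049) (tt N20505 (iv F38407)) (tt N16236 (iv D19107)) (tt N20402 (iv F38187)) (tt N20815 (iv F39165)))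
theorem Q19075 : ∀ i, i < 19075 → P i := stepQ 19074 Q19074 (allL N19074 (tt N20818 (iv F39173)) (tt N21381 (iv F40523)) (tt N16237 F35050) (tt N20815 F39166) (tt N21363 (iv F40472)) (tt N16236 (iv D19108)))
theorem Q19076 : ∀ i, i < 19076 → P i := stepQ 19075 Q19075 (allL N19075 (tt N21374 (iv F40504)) (tt N16413 F35051) (tt N21363 (iv F40471)) (tt N21382 D21420) (tt N16237 (iv D19109)) (tt N16238 F35052))
theorem Q19077 : ∀ i, i < 19077 → P i := stepQ 19076 Q19076 (allL N19076 (tt N21373 (iv F40501)) (tt N16298 F35053) (tt N21383 D21421) (tt N16238 (iv D19110)) (tt N16239 F35054) (tt N21382 (iv F40529)))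
theorem Q19078 : ∀ i, i < 19078 → P i := stepQ 19077 Q19077 (allL N19077 (tt N16398 F35055) (tt N21384 D21422) (tt N16239 (iv D19111)) (tt N16396 F35057) (tt N21383 (iv F40531)) (tt N16407 F35056))
theorem Q19079 : ∀ i, i < 19079 → P i := stepQ 19078 Q19078 (allL N19078 (tt N16241 F35058) (tt N17419 F35059) (tt N21369 (iv F40492)) (tt N16240 (iv D19112)) (tt N21385 D21423) (tt N17435 F35060))
theorem Q19080 : ∀ i, i < 19080 → P i := stepQ 19079 Q19079 (allL N19079 (tt N21369 (iv F40491)) (tt N17432 F35061) (tt N16241 (iv D19113)) (tt N21365 (iv F40478)) (tt N21386 D21424) (tt N17429 F35062))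
theorem Q19081 : ∀ i, i < 19081 → P i := stepQ 19080 Q19080 (allL N19080 (tt N21385 (iv F40536)) (tt N16242 F35063) (tt N21386 (iv F40540)) (tt N16246 F35064) (tt N16241 (iv D19114)) (tt N21387 D21425))
theorem Q19082 : ∀ i, i < 19082 → P i := stepQ 19081 Q19081 (allL N19081 (tt N17424 F35065) (tt N21387 (iv F40541)) (tt N17439 F35066) (tt N16248 F35067) (tt N17438 F35068) (tt N16242 (iv D19115)))
theorem Q19083 : ∀ i, i < 19083 → P i := stepQ 19082 Q19082 (allL N19082 (tt N17425 F35069) (tt N21376 (iv F40511)) (tt N18040 F35072) (tt N16243 (iv D19116)) (tt N17437 F35070) (tt N16249 F35071))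
theorem Q19084 : ∀ i, i < 19084 → P i := stepQ 19083 Q19083 (allL N19083 (tt N16246 F35073) (tt N20285 (iv F37871)) (tt N21044 (iv F39730)) (tt N21385 (iv F40538)) (tt N16244 (iv D19117)) (tt N21388 D21426))
theorem Q19085 : ∀ i, i < 19085 → P i := stepQ 19084 Q19084 (allL N19084 (tt N16247 F35074) (tt N20286 (iv F37874)) (tt N16250 F35075) (tt N21389 D21427) (tt N16245 (iv D19118)) (tt N21375 (iv F40510)))
theorem Q19086 : ∀ i, i < 19086 → P i := stepQ 19085 Q19085 (allL N19085 (tt N21388 (iv F40544)) (tt N16248 F35076) (tt N19513 (iv F36094)) (tt N21387 (iv F40542)) (tt N19512 F36092) (tt N16246 (iv D19119)))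
theorem Q19087 : ∀ i, i < 19087 → P i := stepQ 19086 Q19086 (allL N19086 (tt N21389 (iv F40545)) (tt N16249 F35077) (tt N19403 (iv F35783)) (tt N16247 (iv D19120)) (tt N19405 (iv F35787)) (tt N21376 (iv F40513)))
theorem Q19088 : ∀ i, i < 19088 → P i := stepQ 19087 Q19087 (allL N19087 (tt N20291 (iv F37887)) (tt N20026 (iv F37281)) (tt N16249 (iv D19121)) (tt N18041 F35080) (tt N18097 F35078) (tt N18040 F35079))
theorem Q19089 : ∀ i, i < 19089 → P i := stepQ 19088 Q19088 (allL N19088 (tt N16252 F35081) (tt N18881 F35082) (tt N19257 (iv F35458)) (tt N16250 (iv D19122)) (tt N18878 F35083) (tt N18881 F35084))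
theorem Q19090 : ∀ i, i < 19090 → P i := stepQ 19089 Q19089 (allL N19089 (tt N16253 (iv D19123)) (tt N19201 (iv F35343)) (tt N16259 F35085) (tt N21390 D21428) (tt N19200 F35341) (tt N20284 (iv F37869)))
theorem Q19091 : ∀ i, i < 19091 → P i := stepQ 19090 Q19090 (allL N19090 (tt N21390 (iv F40546)) (tt N16254 F35086) (tt N21391 D21429) (tt N16253 (iv D19124)) (tt N21392 D21430) (tt N20287 (iv F37878)))
theorem Q19092 : ∀ i, i < 19092 → P i := stepQ 19091 Q19091 (allL N19091 (tt N19200 (iv F35339)) (tt N16255 F35087) (tt N16260 F35088) (tt N21393 D21431) (tt N16253 (iv D19125)) (tt N21394 D21432))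
theorem Q19093 : ∀ i, i < 19093 → P i := stepQ 19092 Q19092 (allL N19092 (tt N21042 (iv F39723)) (tt N21392 (iv F40550)) (tt N21249 (iv F40214)) (tt N21395 D21433) (tt N16254 (iv D19126)) (tt N21396 D21434))
theorem Q19094 : ∀ i, i < 19094 → P i := stepQ 19093 Q19093 (allL N19093 (tt N16266 F35089) (tt N20287 (iv F37877)) (tt N16265 F35090) (tt N16256 F35091) (tt N21397 D21435) (tt N16254 (iv D19127)))
theorem Q19095 : ∀ i, i < 19095 → P i := stepQ 19094 Q19094 (allL N19094 (tt N16385 F35092) (tt N21393 (iv F40551)) (tt N16393 F35093) (tt N16255 (iv D19128)) (tt N21395 (iv F40558)) (tt N16391 F35094))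
theorem Q19096 : ∀ i, i < 19096 → P i := stepQ 19095 Q19095 (allL N19095 (tt N16386 F35095) (tt N21394 (iv F40554)) (tt N16257 F35096) (tt N16391 F35097) (tt N21398 D21436) (tt N16255 (iv D19129)))
theorem Q19097 : ∀ i, i < 19097 → P i := stepQ 19096 Q19096 (allL N19096 (tt N21043 (iv F39726)) (tt N20288 (iv F37879)) (tt N16258 F35098) (tt N21399 D21437) (tt N16256 (iv D19130)) (tt N21398 (iv F40564)))
theorem Q19098 : ∀ i, i < 19098 → P i := stepQ 19097 Q19097 (allL N19097 (tt N16387 F35099) (tt N16263 F35100) (tt N21398 (iv F40563)) (tt N16323 F35101) (tt N16257 (iv D19131)) (tt N16258 F35102))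
theorem Q19099 : ∀ i, i < 19099 → P i := stepQ 19098 Q19098 (allL N19098 (tt N16260 F35103) (tt N19198 F35335) (tt N19200 (iv F35340)) (tt N21400 D21438) (tt N16259 (iv D19132)) (tt N21401 D21439))
theorem Q19100 : ∀ i, i < 19100 → P i := stepQ 19099 Q19099 (allL N19099 (tt N21400 (iv F40565)) (tt N16261 F35104) (tt N21402 D21440) (tt N16260 (iv D19133)) (tt N20290 (iv F37885)) (tt N21403 D21441))
theorem Q19101 : ∀ i, i < 19101 → P i := stepQ 19100 Q19100 (allL N19100 (tt N21401 (iv F40566)) (tt N16262 F35105) (tt N21394 (iv F40555)) (tt N21403 (iv F40570)) (tt N20289 (iv F37883)) (tt N16260 (iv D19134)))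
theorem Q19102 : ∀ i, i < 19102 → P i := stepQ 19101 Q19101 (allL N19101 (tt N18097 F35106) (tt N21404 D21442) (tt N16261 (iv D19135)) (tt N16706 F35107) (tt N20291 (iv F37889)) (tt N16705 (iv F35108)))
theorem Q19103 : ∀ i, i < 19103 → P i := stepQ 19102 Q19102 (allL N19102 (tt N18096 F35109) (tt N21403 (iv F40569)) (tt N16705 F35110) (tt N16262 F35111) (tt N18579 (iv F35112)) (tt N16261 (iv D19136)))
theorem Q19104 : ∀ i, i < 19104 → P i := stepQ 19103 Q19103 (allL N19103 (tt N21234 (iv F40177)) (tt N16265 F35113) (tt N21405 D21443) (tt N16264 (iv D19137)) (tt N21406 D21444) (tt N21245 (iv F40208)))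
theorem Q19105 : ∀ i, i < 19105 → P i := stepQ 19104 Q19104 (allL N19104 (tt N16267 F35114) (tt N21406 (iv F40574)) (tt N21397 (iv F40561)) (tt N16321 F35115) (tt N16265 (iv D19138)) (tt N21407 D21445))
theorem Q19106 : ∀ i, i < 19106 → P i := stepQ 19105 Q19105 (allL N19105 (tt N21408 D21446) (tt N16266 (iv D19139)) (tt N21224 (iv F40154)) (tt N21039 F39717) (tt N21409 D21447) (tt N21041 (iv F39721)))
theorem Q19107 : ∀ i, i < 19107 → P i := stepQ 19106 Q19106 (allL N19106 (tt N21397 (iv F40560)) (tt N21409 (iv F40578)) (tt N16267 F35116) (tt N21410 D21448) (tt N16266 (iv D19140)) (tt N21411 D21449))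
theorem Q19108 : ∀ i, i < 19108 → P i := stepQ 19107 Q19107 (allL N19107 (tt N21407 (iv F40576)) (tt N21255 (iv F40224)) (tt N21411 (iv F40579)) (tt N16333 F35117) (tt N21250 (iv F40218)) (tt N16267 (iv D19141)))
theorem Q19109 : ∀ i, i < 19109 → P i := stepQ 19108 Q19108 (allL N19108 (tt N21243 (iv F40199)) (tt N16268 (iv D19142)) (tt N21206 (iv F40116)) (tt N18905 F35118) (tt N21165 (iv F39988)) (tt N18904 F35119))
theorem Q19110 : ∀ i, i < 19110 → P i := stepQ 19109 Q19109 (allL N19109 (tt N16270 (iv D19143)) (tt N16523 F35120) (tt N16272 F35121) (tt N21412 D21450) (tt N17181 F35122) (tt N21177 (iv F40029)))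
theorem Q19111 : ∀ i, i < 19111 → P i := stepQ 19110 Q19110 (allL N19110 (tt N21412 (iv F40580)) (tt N16271 F35123) (tt N21413 D21451) (tt N16270 (iv D19144)) (tt N21414 D21452) (tt N21178 (iv F40031)))
theorem Q19112 : ∀ i, i < 19112 → P i := stepQ 19111 Q19111 (allL N19111 (tt N16525 F35124) (tt N21414 (iv F40582)) (tt N21182 (iv F40041)) (tt N17185 F35125) (tt N16271 (iv D19145)) (tt N21415 D21453))
theorem Q19113 : ∀ i, i < 19113 → P i := stepQ 19112 Q19112 (allL N19112 (tt N16279 (iv D19146)) (tt N19914 (iv F36983)) (tt N16535 F35126) (tt N17191 F35127) (tt N16280 F35128) (tt N17192 F35129))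
theorem Q19114 : ∀ i, i < 19114 → P i := stepQ 19113 Q19113 (allL N19113 (tt N17502 F35130) (tt N19880 (iv F36913)) (tt N16282 (iv D19147)) (tt N16621 F35131) (tt N19877 (iv F36908)) (tt N16620 F35132))
theorem Q19115 : ∀ i, i < 19115 → P i := stepQ 19114 Q19114 (allL N19114 (tt N17503 F35133) (tt N19865 (iv F36876)) (tt N19877 (iv F36907)) (tt N17169 F35134) (tt N16282 (iv D19148)) (tt N19862 (iv F36870)))
theorem Q19116 : ∀ i, i < 19116 → P i := stepQ 19115 Q19115 (allL N19115 (tt N16285 F35135) (tt N17192 F35136) (tt N19921 (iv F37000)) (tt N16284 (iv D19149)) (tt N17189 F35137) (tt N19914 (iv F36985)))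
theorem Q19117 : ∀ i, i < 19117 → P i := stepQ 19116 Q19116 (allL N19116 (tt N16287 (iv D19150)) (tt N17189 F35138) (tt N16529 F35139) (tt N17180 F35140) (tt N17192 F35141) (tt N16288 F35142))
theorem Q19118 : ∀ i, i < 19118 → P i := stepQ 19117 Q19117 (allL N19117 (tt N16289 F35143) (tt N17188 F35144) (tt N17512 (iv F35147)) (tt N16288 (iv D19151)) (tt N17191 F35145) (tt N17180 F35146))
theorem Q19119 : ∀ i, i < 19119 → P i := stepQ 19118 Q19118 (allL N19118 (tt N21380 (iv F40519)) (tt N16296 F35148) (tt N21416 D21454) (tt N16295 (iv D19152)) (tt N21417 D21455) (tt N21181 (iv F40039)))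
theorem Q19120 : ∀ i, i < 19120 → P i := stepQ 19119 Q19119 (allL N19119 (tt N16298 F35149) (tt N21417 (iv F40586)) (tt N21179 (iv F40033)) (tt N16410 F35150) (tt N16296 (iv D19153)) (tt N21418 D21456))
theorem Q19121 : ∀ i, i < 19121 → P i := stepQ 19120 Q19120 (allL N19120 (tt N21419 D21457) (tt N16297 (iv D19154)) (tt N21384 (iv F40533)) (tt N16511 F35151) (tt N21420 D21458) (tt N16524 F35152))
theorem Q19122 : ∀ i, i < 19122 → P i := stepQ 19121 Q19121 (allL N19121 (tt N21179 (iv F40032)) (tt N21420 (iv F40592)) (tt N16298 F35153) (tt N21421 D21459) (tt N16297 (iv D19155)) (tt N21422 D21460))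
theorem Q19123 : ∀ i, i < 19123 → P i := stepQ 19122 Q19122 (allL N19122 (tt N21418 (iv F40588)) (tt N21382 (iv F40527)) (tt N21422 (iv F40596)) (tt N16413 F35154) (tt N21183 (iv F40046)) (tt N16298 (iv D19156)))
theorem Q19124 : ∀ i, i < 19124 → P i := stepQ 19123 Q19123 (allL N19123 (tt N21170 (iv F40005)) (tt N16302 F35155) (tt N21423 D21461) (tt N16299 (iv D19157)) (tt N16300 F35156) (tt N21424 D21462))
theorem Q19125 : ∀ i, i < 19125 → P i := stepQ 19124 Q19124 (allL N19124 (tt N21171 (iv F40008)) (tt N16303 F35157) (tt N21171 (iv F40010)) (tt N21424 (iv F40600)) (tt N16356 F35158) (tt N16299 (iv D19158)))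
theorem Q19126 : ∀ i, i < 19126 → P i := stepQ 19125 Q19125 (allL N19125 (tt N21188 (iv F40059)) (tt N21011 (iv F39647)) (tt N16300 (iv D19159)) (tt N21425 D21463) (tt N21423 (iv F40598)) (tt N21426 D21464))
theorem Q19127 : ∀ i, i < 19127 → P i := stepQ 19126 Q19126 (allL N19126 (tt N17801 F35159) (tt N16305 F35160) (tt N21426 (iv F40604)) (tt N16301 F35161) (tt N21427 D21465) (tt N16300 (iv D19160)))
theorem Q19128 : ∀ i, i < 19128 → P i := stepQ 19127 Q19127 (allL N19127 (tt N16310 F35162) (tt N21012 (iv F39649)) (tt N16302 (iv D19161)) (tt N21428 D21466) (tt N16304 F35163) (tt N21429 D21467))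
theorem Q19129 : ∀ i, i < 19129 → P i := stepQ 19128 Q19128 (allL N19128 (tt N16311 F35164) (tt N21424 (iv F40599)) (tt N21429 (iv F40612)) (tt N16303 F35165) (tt N21430 D21468) (tt N16302 (iv D19162)))
theorem Q19130 : ∀ i, i < 19130 → P i := stepQ 19129 Q19129 (allL N19129 (tt N16315 F35166) (tt N21427 (iv F40606)) (tt N16326 F35167) (tt N17828 F35168) (tt N16305 (iv D19163)) (tt N21430 (iv F40618)))
theorem Q19131 : ∀ i, i < 19131 → P i := stepQ 19130 Q19130 (allL N19130 (tt N21168 (iv F39995)) (tt N16308 F35169) (tt N19007 (iv F35171)) (tt N16307 (iv D19164)) (tt N16344 F35170) (tt N21431 D21469))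
theorem Q19132 : ∀ i, i < 19132 → P i := stepQ 19131 Q19131 (allL N19131 (tt N21169 (iv F40000)) (tt N16309 F35172) (tt N21169 (iv F40002)) (tt N21431 (iv F40622)) (tt N16341 F35173) (tt N16307 (iv D19165)))
theorem Q19133 : ∀ i, i < 19133 → P i := stepQ 19132 Q19132 (allL N19132 (tt N16364 F35174) (tt N19009 F35175) (tt N16308 (iv D19166)) (tt N21432 D21470) (tt N16348 F35176) (tt N21433 D21471))
theorem Q19134 : ∀ i, i < 19134 → P i := stepQ 19133 Q19133 (allL N19133 (tt N16363 F35177) (tt N21431 (iv F40620)) (tt N21433 (iv F40630)) (tt N16309 F35178) (tt N21434 D21472) (tt N16308 (iv D19167)))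
theorem Q19135 : ∀ i, i < 19135 → P i := stepQ 19134 Q19134 (allL N19134 (tt N21435 D21473) (tt N16310 (iv D19168)) (tt N21195 (iv F40084)) (tt N21436 D21474) (tt N16312 F35179) (tt N21437 D21475))
theorem Q19136 : ∀ i, i < 19136 → P i := stepQ 19135 Q19135 (allL N19135 (tt N21428 (iv F40608)) (tt N21436 (iv F40638)) (tt N21438 D21476) (tt N16310 (iv D19169)) (tt N21439 D21477) (tt N21440 D21478))
theorem Q19137 : ∀ i, i < 19137 → P i := stepQ 19136 Q19136 (allL N19136 (tt N21429 (iv F40611)) (tt N21437 (iv F40639)) (tt N16311 F35180) (tt N21440 (iv F40647)) (tt N21441 D21479) (tt N16310 (iv D19170)))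
theorem Q19138 : ∀ i, i < 19138 → P i := stepQ 19137 Q19137 (allL N19137 (tt N21430 (iv F40615)) (tt N17805 F35181) (tt N21441 (iv F40650)) (tt N17832 F35182) (tt N16311 (iv D19171)) (tt N16315 F35183))
theorem Q19139 : ∀ i, i < 19139 → P i := stepQ 19138 Q19138 (allL N19138 (tt N16312 (iv D19172)) (tt N21007 (iv F39636)) (tt N19695 F36531) (tt N21006 F39634) (tt N21435 (iv F40637)) (tt N21442 D21480))
theorem Q19140 : ∀ i, i < 19140 → P i := stepQ 19139 Q19139 (allL N19139 (tt N21006 (iv F39631)) (tt N16313 F35184) (tt N20977 (iv F39547)) (tt N16312 (iv D19173)) (tt N21443 D21481) (tt N16317 (iv F35185)))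
theorem Q19141 : ∀ i, i < 19141 → P i := stepQ 19140 Q19140 (allL N19140 (tt N21442 (iv F40653)) (tt N16314 F35186) (tt N17803 F35187) (tt N16317 F35188) (tt N21444 D21482) (tt N16312 (iv D19174)))
theorem Q19142 : ∀ i, i < 19142 → P i := stepQ 19141 Q19141 (allL N19141 (tt N16327 F35189) (tt N21443 (iv F40657)) (tt N16318 F35190) (tt N21439 (iv F40643)) (tt N16313 (iv D19175)) (tt N16422 F35191))
theorem Q19143 : ∀ i, i < 19143 → P i := stepQ 19142 Q19142 (allL N19142 (tt N16326 F35192) (tt N21444 (iv F40659)) (tt N16315 F35193) (tt N16421 F35194) (tt N16314 (iv D19176)) (tt N21441 (iv F40652)))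
theorem Q19144 : ∀ i, i < 19144 → P i := stepQ 19143 Q19143 (allL N19143 (tt N16404 F35195) (tt N16518 F35196) (tt N16383 F35197) (tt N21198 (iv F40097)) (tt N16333 F35198) (tt N16316 (iv D19177)))
theorem Q19145 : ∀ i, i < 19145 → P i := stepQ 19144 Q19144 (allL N19144 (tt N16317 (iv D19178)) (tt N16324 F35199) (tt N20979 (iv F39552)) (tt N21442 (iv F40656)) (tt N16418 F35200) (tt N21006 (iv F39633)))
theorem Q19146 : ∀ i, i < 19146 → P i := stepQ 19145 Q19145 (allL N19145 (tt N16320 F35201) (tt N16328 F35202) (tt N21445 D21483) (tt N16319 (iv D19179)) (tt N21446 D21484) (tt N16401 F35203))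
theorem Q19147 : ∀ i, i < 19147 → P i := stepQ 19146 Q19146 (allL N19146 (tt N21445 (iv F40662)) (tt N16375 F35204) (tt N16320 (iv D19180)) (tt N21447 D21485) (tt N21448 D21486) (tt N16397 F35205))
theorem Q19148 : ∀ i, i < 19148 → P i := stepQ 19147 Q19147 (allL N19147 (tt N21446 (iv F40665)) (tt N16321 F35206) (tt N21448 (iv F40670)) (tt N21406 (iv F40575)) (tt N16320 (iv D19181)) (tt N21449 D21487))
theorem Q19149 : ∀ i, i < 19149 → P i := stepQ 19148 Q19148 (allL N19148 (tt N16333 F35207) (tt N21449 (iv F40671)) (tt N16377 F35208) (tt N21407 (iv F40577)) (tt N16404 F35209) (tt N16321 (iv D19182)))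
theorem Q19150 : ∀ i, i < 19150 → P i := stepQ 19149 Q19149 (allL N19149 (tt N16322 (iv D19183)) (tt N16418 F35210) (tt N17954 F35211) (tt N18749 F35212) (tt N16324 F35213) (tt N18748 F35214))
theorem Q19151 : ∀ i, i < 19151 → P i := stepQ 19150 Q19150 (allL N19150 (tt N16325 F35215) (tt N21442 (iv F40654)) (tt N20662 (iv F38779)) (tt N16324 (iv D19184)) (tt N21450 D21488) (tt N21007 (iv F39637)))
theorem Q19152 : ∀ i, i < 19152 → P i := stepQ 19151 Q19151 (allL N19151 (tt N20662 (iv F38777)) (tt N21426 (iv F40603)) (tt N16325 (iv D19185)) (tt N20659 (iv F38766)) (tt N21451 D21489) (tt N21011 (iv F39648)))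
theorem Q19153 : ∀ i, i < 19153 → P i := stepQ 19152 Q19152 (allL N19152 (tt N21450 (iv F40673)) (tt N16326 F35216) (tt N21451 (iv F40677)) (tt N18751 F35217) (tt N16325 (iv D19186)) (tt N21452 D21490))
theorem Q19154 : ∀ i, i < 19154 → P i := stepQ 19153 Q19153 (allL N19153 (tt N21441 (iv F40649)) (tt N21452 (iv F40679)) (tt N21430 (iv F40616)) (tt N18747 F35218) (tt N21429 (iv F40614)) (tt N16326 (iv D19187)))
theorem Q19155 : ∀ i, i < 19155 → P i := stepQ 19154 Q19154 (allL N19154 (tt N21439 (iv F40642)) (tt N21013 (iv F39650)) (tt N21453 D21491) (tt N16327 (iv D19188)) (tt N21428 (iv F40609)) (tt N18745 F35219))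
theorem Q19156 : ∀ i, i < 19156 → P i := stepQ 19155 Q19155 (allL N19155 (tt N16330 F35220) (tt N21446 (iv F40666)) (tt N16497 F35221) (tt N21235 (iv F40182)) (tt N16328 (iv D19189)) (tt N21354 (iv F40454)))
theorem Q19157 : ∀ i, i < 19157 → P i := stepQ 19156 Q19156 (allL N19156 (tt N21454 D21492) (tt N16329 (iv D19190)) (tt N16331 F35222) (tt N16487 F35223) (tt N21455 D21493) (tt N16381 F35224))
theorem Q19158 : ∀ i, i < 19158 → P i := stepQ 19157 Q19157 (allL N19157 (tt N16497 F35225) (tt N21455 (iv F40688)) (tt N16330 F35226) (tt N21293 (iv F40324)) (tt N16329 (iv D19191)) (tt N21456 D21494))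
theorem Q19159 : ∀ i, i < 19159 → P i := stepQ 19158 Q19158 (allL N19158 (tt N21354 (iv F40452)) (tt N16333 F35227) (tt N21456 (iv F40693)) (tt N21255 (iv F40225)) (tt N16518 F35228) (tt N16330 (iv D19192)))
theorem Q19160 : ∀ i, i < 19160 → P i := stepQ 19159 Q19159 (allL N19159 (tt N16331 (iv D19193)) (tt N16374 F35229) (tt N21454 (iv F40685)) (tt N16351 F35230) (tt N21457 D21495) (tt N16380 F35231))
theorem Q19161 : ∀ i, i < 19161 → P i := stepQ 19160 Q19160 (allL N19160 (tt N21457 (iv F40695)) (tt N16332 F35232) (tt N21455 (iv F40689)) (tt N21458 D21496) (tt N16331 (iv D19194)) (tt N21459 D21497))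
theorem Q19162 : ∀ i, i < 19162 → P i := stepQ 19161 Q19161 (allL N19161 (tt N16373 F35233) (tt N21458 (iv F40700)) (tt N21460 D21498) (tt N16332 (iv D19195)) (tt N16350 F35234) (tt N18741 (iv F35235)))
theorem Q19163 : ∀ i, i < 19163 → P i := stepQ 19162 Q19162 (allL N19162 (tt N16377 F35236) (tt N21459 (iv F40704)) (tt N16333 F35237) (tt N18741 F35238) (tt N16383 F35239) (tt N16332 (iv D19196)))
theorem Q19164 : ∀ i, i < 19164 → P i := stepQ 19163 Q19163 (allL N19163 (tt N17808 F35240) (tt N16345 F35241) (tt N17807 F35242) (tt N16341 F35243) (tt N19045 (iv F35244)) (tt N16340 (iv D19197)))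
theorem Q19165 : ∀ i, i < 19165 → P i := stepQ 19164 Q19164 (allL N19164 (tt N16538 F35245) (tt N16346 F35246) (tt N16537 F35247) (tt N18908 F35248) (tt N16342 (iv D19198)) (tt N19045 F35249))
theorem Q19166 : ∀ i, i < 19166 → P i := stepQ 19165 Q19165 (allL N19165 (tt N16362 F35250) (tt N19045 F35251) (tt N16395 F35252) (tt N21434 (iv F40635)) (tt N16345 (iv D19199)) (tt N16346 F35253))
theorem Q19167 : ∀ i, i < 19167 → P i := stepQ 19166 Q19166 (allL N19166 (tt N16368 F35254) (tt N18908 F35255) (tt N18910 (iv F35257)) (tt N16346 (iv D19200)) (tt N16347 F35256) (tt N21434 (iv F40636)))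
theorem Q19168 : ∀ i, i < 19168 → P i := stepQ 19167 Q19167 (allL N19167 (tt N16457 F35258) (tt N16350 F35259) (tt N21461 D21499) (tt N16349 (iv D19201)) (tt N21458 (iv F40701)) (tt N16435 F35260))
theorem Q19169 : ∀ i, i < 19169 → P i := stepQ 19168 Q19168 (allL N19168 (tt N16372 F35261) (tt N21462 D21500) (tt N16350 (iv D19202)) (tt N16369 F35262) (tt N21460 (iv F40709)) (tt N16371 F35263))
theorem Q19170 : ∀ i, i < 19170 → P i := stepQ 19169 Q19169 (allL N19169 (tt N21185 (iv F40050)) (tt N21463 D21501) (tt N16355 (iv D19203)) (tt N21464 D21502) (tt N21184 (iv F40048)) (tt N21465 D21503))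
theorem Q19171 : ∀ i, i < 19171 → P i := stepQ 19170 Q19170 (allL N19170 (tt N21186 (iv F40053)) (tt N16358 F35264) (tt N21465 (iv F40717)) (tt N16356 F35265) (tt N21466 D21504) (tt N16355 (iv D19204)))
theorem Q19172 : ∀ i, i < 19172 → P i := stepQ 19171 Q19171 (allL N19171 (tt N20986 (iv F39578)) (tt N16357 (iv D19205)) (tt N21463 (iv F40716)) (tt N21467 D21505) (tt N21189 (iv F40063)) (tt N21468 D21506))
theorem Q19173 : ∀ i, i < 19173 → P i := stepQ 19172 Q19172 (allL N19172 (tt N21190 (iv F40065)) (tt N21467 (iv F40721)) (tt N17715 F35266) (tt N16357 (iv D19206)) (tt N21282 (iv F40290)) (tt N17714 (iv F35267)))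
theorem Q19174 : ∀ i, i < 19174 → P i := stepQ 19173 Q19173 (allL N19173 (tt N21191 (iv F40070)) (tt N21468 (iv F40723)) (tt N16358 F35268) (tt N17714 F35269) (tt N21469 D21507) (tt N16357 (iv D19207)))
theorem Q19175 : ∀ i, i < 19175 → P i := stepQ 19174 Q19174 (allL N19174 (tt N17832 F35270) (tt N21466 (iv F40719)) (tt N21469 (iv F40726)) (tt N21430 (iv F40617)) (tt N16358 (iv D19208)) (tt N17828 F35271))
theorem Q19176 : ∀ i, i < 19176 → P i := stepQ 19175 Q19175 (allL N19175 (tt N17714 F35272) (tt N18317 F35273) (tt N16360 (iv D19209)) (tt N21191 (iv F40073)) (tt N17703 F35274) (tt N21190 (iv F40068)))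
theorem Q19177 : ∀ i, i < 19177 → P i := stepQ 19176 Q19176 (allL N19176 (tt N17715 F35275) (tt N18641 F35276) (tt N21190 (iv F40067)) (tt N16361 F35277) (tt N21470 D21508) (tt N16360 (iv D19210)))
theorem Q19178 : ∀ i, i < 19178 → P i := stepQ 19177 Q19177 (allL N19177 (tt N21434 (iv F40632)) (tt N17644 F35278) (tt N21471 D21509) (tt N16362 (iv D19211)) (tt N16363 F35279) (tt N16368 F35280))
theorem Q19179 : ∀ i, i < 19179 → P i := stepQ 19178 Q19178 (allL N19178 (tt N21433 (iv F40628)) (tt N21472 D21510) (tt N16363 (iv D19212)) (tt N21438 (iv F40640)) (tt N21471 (iv F40736)) (tt N16364 F35281))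
theorem Q19180 : ∀ i, i < 19180 → P i := stepQ 19179 Q19179 (allL N19179 (tt N21473 D21511) (tt N16364 (iv D19213)) (tt N21173 (iv F40017)) (tt N21474 D21512) (tt N16370 F35282) (tt N21472 (iv F40742)))
theorem Q19181 : ∀ i, i < 19181 → P i := stepQ 19180 Q19180 (allL N19180 (tt N21432 (iv F40624)) (tt N21474 (iv F40747)) (tt N21440 (iv F40646)) (tt N16364 (iv D19214)) (tt N18739 F35283) (tt N21438 F40641))
theorem Q19182 : ∀ i, i < 19182 → P i := stepQ 19181 Q19181 (allL N19181 (tt N18910 F35284) (tt N18918 F35285) (tt N16368 (iv D19215)) (tt N21475 D21513) (tt N16369 F35286) (tt N21471 (iv F40737)))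
theorem Q19183 : ∀ i, i < 19183 → P i := stepQ 19182 Q19182 (allL N19182 (tt N18914 F35287) (tt N16369 (iv D19216)) (tt N17958 F35288) (tt N21462 (iv F40714)) (tt N18918 F35289) (tt N16370 F35290))
theorem Q19184 : ∀ i, i < 19184 → P i := stepQ 19183 Q19183 (allL N19183 (tt N16370 (iv D19217)) (tt N18916 F35291) (tt N18928 F35292) (tt N19014 (iv F35294)) (tt N21473 (iv F40745)) (tt N18914 F35293))
theorem Q19185 : ∀ i, i < 19185 → P i := stepQ 19184 Q19184 (allL N19184 (tt N19014 F35295) (tt N16371 F35296) (tt N21476 D21514) (tt N16370 (iv D19218)) (tt N18738 (iv F35297)) (tt N21462 (iv F40715)))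
theorem Q19186 : ∀ i, i < 19186 → P i := stepQ 19185 Q19185 (allL N19185 (tt N21460 (iv F40708)) (tt N19008 F35298) (tt N16373 F35299) (tt N21477 D21515) (tt N16372 (iv D19219)) (tt N21478 D21516))
theorem Q19187 : ∀ i, i < 19187 → P i := stepQ 19186 Q19186 (allL N19186 (tt N18741 F35300) (tt N16468 F35301) (tt N21478 (iv F40764)) (tt N16377 F35302) (tt N16440 F35303) (tt N16373 (iv D19220)))
theorem Q19188 : ∀ i, i < 19188 → P i := stepQ 19187 Q19187 (allL N19187 (tt N16375 F35304) (tt N21479 D21517) (tt N16374 (iv D19221)) (tt N16407 F35305) (tt N21480 D21518) (tt N16396 F35306))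
theorem Q19189 : ∀ i, i < 19189 → P i := stepQ 19188 Q19188 (allL N19188 (tt N16376 F35307) (tt N21457 (iv F40696)) (tt N21480 (iv F40771)) (tt N16461 F35308) (tt N16374 (iv D19222)) (tt N18699 F35309))
theorem Q19190 : ∀ i, i < 19190 → P i := stepQ 19189 Q19189 (allL N19189 (tt N16407 F35310) (tt N21447 (iv F40667)) (tt N16406 F35311) (tt N16375 (iv D19223)) (tt N21481 D21519) (tt N16398 F35312))
theorem Q19191 : ∀ i, i < 19191 → P i := stepQ 19190 Q19190 (allL N19190 (tt N21480 (iv F40770)) (tt N21448 (iv F40669)) (tt N16376 F35313) (tt N21482 D21520) (tt N16375 (iv D19224)) (tt N21483 D21521))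
theorem Q19192 : ∀ i, i < 19192 → P i := stepQ 19191 Q19191 (allL N19191 (tt N18699 F35314) (tt N16377 F35315) (tt N21483 (iv F40776)) (tt N16468 F35316) (tt N16400 F35317) (tt N16376 (iv D19225)))
theorem Q19193 : ∀ i, i < 19193 → P i := stepQ 19192 Q19192 (allL N19192 (tt N16381 F35318) (tt N21484 D21522) (tt N16380 (iv D19226)) (tt N21485 D21523) (tt N17973 F35319) (tt N21454 (iv F40687)))
theorem Q19194 : ∀ i, i < 19194 → P i := stepQ 19193 Q19193 (allL N19193 (tt N21485 (iv F40783)) (tt N16488 F35320) (tt N21486 D21524) (tt N16381 (iv D19227)) (tt N21487 D21525) (tt N16487 F35321))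
theorem Q19195 : ∀ i, i < 19195 → P i := stepQ 19194 Q19194 (allL N19194 (tt N17973 F35322) (tt N16517 F35323) (tt N16382 F35324) (tt N18019 (iv F35325)) (tt N16381 (iv D19228)) (tt N18018 F35326))
theorem Q19196 : ∀ i, i < 19196 → P i := stepQ 19195 Q19195 (allL N19195 (tt N17974 F35327) (tt N16383 F35328) (tt N18018 F35329) (tt N16434 F35330) (tt N21459 (iv F40707)) (tt N16382 (iv D19229)))
theorem Q19197 : ∀ i, i < 19197 → P i := stepQ 19196 Q19196 (allL N19196 (tt N21395 (iv F40557)) (tt N19197 (iv F35331)) (tt N19408 (iv F35797)) (tt N21042 (iv F39725)) (tt N16385 (iv D19230)) (tt N21488 D21526))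
theorem Q19198 : ∀ i, i < 19198 → P i := stepQ 19197 Q19197 (allL N19197 (tt N21398 (iv F40562)) (tt N19196 F35331) (tt N16387 F35332) (tt N21489 D21527) (tt N16386 (iv D19231)) (tt N21043 (iv F39728)))
theorem Q19199 : ∀ i, i < 19199 → P i := stepQ 19198 Q19198 (allL N19198 (tt N17633 F35333) (tt N19098 (iv F35335)) (tt N16389 (iv D19232)) (tt N21490 D21528) (tt N17632 F35334) (tt N21491 D21529))
theorem Q19200 : ∀ i, i < 19200 → P i := stepQ 19199 Q19199 (allL N19199 (tt N16718 F35336) (tt N16393 F35337) (tt N21491 (iv F40805)) (tt N16390 F35338) (tt N21492 D21530) (tt N16389 (iv D19233)))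
theorem Q19201 : ∀ i, i < 19201 → P i := stepQ 19200 Q19200 (allL N19200 (tt N19091 F35339) (tt N16391 (iv D19234)) (tt N19098 F35340) (tt N21394 (iv F40556)) (tt N19089 (iv F35341)) (tt N21393 F40552))
theorem Q19202 : ∀ i, i < 19202 → P i := stepQ 19201 Q19201 (allL N19201 (tt N18644 F35342) (tt N19089 F35343) (tt N16392 F35344) (tt N21493 D21531) (tt N16391 (iv D19235)) (tt N21494 D21532))
theorem Q19203 : ∀ i, i < 19203 → P i := stepQ 19202 Q19202 (allL N19202 (tt N18642 F35345) (tt N18648 F35346) (tt N21494 (iv F40818)) (tt N16395 F35347) (tt N21495 D21533) (tt N16392 (iv D19236)))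
theorem Q19204 : ∀ i, i < 19204 → P i := stepQ 19203 Q19203 (allL N19203 (tt N19408 (iv F35795)) (tt N21492 (iv F40808)) (tt N21395 (iv F40559)) (tt N17716 F35348) (tt N16393 (iv D19237)) (tt N21495 (iv F40823)))
theorem Q19205 : ∀ i, i < 19205 → P i := stepQ 19204 Q19204 (allL N19204 (tt N18384 F35349) (tt N16395 F35350) (tt N18382 F35351) (tt N18648 F35352) (tt N17734 F35353) (tt N16394 (iv D19238)))
theorem Q19206 : ∀ i, i < 19206 → P i := stepQ 19205 Q19205 (allL N19205 (tt N21496 D21534) (tt N16396 (iv D19239)) (tt N21484 (iv F40779)) (tt N21384 (iv F40534)) (tt N18696 F35354) (tt N21479 (iv F40769)))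
theorem Q19207 : ∀ i, i < 19207 → P i := stepQ 19206 Q19206 (allL N19206 (tt N16397 (iv D19240)) (tt N21496 (iv F40824)) (tt N16401 F35355) (tt N21497 D21535) (tt N21349 (iv F40436)) (tt N21445 (iv F40664)))
theorem Q19208 : ∀ i, i < 19208 → P i := stepQ 19207 Q19207 (allL N19207 (tt N21497 (iv F40828)) (tt N16398 F35356) (tt N21498 D21536) (tt N16397 (iv D19241)) (tt N21499 D21537) (tt N21447 (iv F40668)))
theorem Q19209 : ∀ i, i < 19209 → P i := stepQ 19208 Q19208 (allL N19208 (tt N21349 (iv F40435)) (tt N16399 F35357) (tt N16402 F35358) (tt N21500 D21538) (tt N16397 (iv D19242)) (tt N21501 D21539))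
theorem Q19210 : ∀ i, i < 19210 → P i := stepQ 19209 Q19209 (allL N19209 (tt N21383 (iv F40530)) (tt N21499 (iv F40829)) (tt N21373 F40503) (tt N21502 D21540) (tt N16398 (iv D19243)) (tt N21503 D21541))
theorem Q19211 : ∀ i, i < 19211 → P i := stepQ 19210 Q19210 (allL N19210 (tt N18697 F35359) (tt N21500 (iv F40830)) (tt N18704 F35360) (tt N16399 (iv D19244)) (tt N21502 (iv F40836)) (tt N18702 (iv F35361)))
theorem Q19212 : ∀ i, i < 19212 → P i := stepQ 19211 Q19211 (allL N19211 (tt N18698 F35362) (tt N21501 (iv F40832)) (tt N16400 F35363) (tt N18702 F35364) (tt N21483 (iv F40777)) (tt N16399 (iv D19245)))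
theorem Q19213 : ∀ i, i < 19213 → P i := stepQ 19212 Q19212 (allL N19212 (tt N21350 (iv F40438)) (tt N16404 F35365) (tt N21501 (iv F40833)) (tt N21348 (iv F40434)) (tt N21449 (iv F40672)) (tt N16402 (iv D19246)))
theorem Q19214 : ∀ i, i < 19214 → P i := stepQ 19213 Q19213 (allL N19213 (tt N21197 (iv F40089)) (tt N21504 D21542) (tt N16403 (iv D19247)) (tt N17697 F35367) (tt N17830 F35366) (tt N17696 (iv F35368)))
theorem Q19215 : ∀ i, i < 19215 → P i := stepQ 19214 Q19214 (allL N19214 (tt N21198 (iv F40094)) (tt N21348 (iv F40433)) (tt N17696 F35369) (tt N16404 F35370) (tt N21279 (iv F40284)) (tt N16403 (iv D19248)))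
theorem Q19216 : ∀ i, i < 19216 → P i := stepQ 19215 Q19215 (allL N19215 (tt N21181 (iv F40037)) (tt N16406 F35371) (tt N21505 D21543) (tt N16405 (iv D19249)) (tt N21506 D21544) (tt N21380 (iv F40521)))
theorem Q19217 : ∀ i, i < 19217 → P i := stepQ 19216 Q19216 (allL N19216 (tt N16408 F35372) (tt N21506 (iv F40841)) (tt N21481 (iv F40774)) (tt N16463 F35373) (tt N16406 (iv D19250)) (tt N21507 D21545))
theorem Q19218 : ∀ i, i < 19218 → P i := stepQ 19217 Q19217 (allL N19217 (tt N21508 D21546) (tt N16407 (iv D19251)) (tt N16524 F35374) (tt N21479 (iv F40768)) (tt N21509 D21547) (tt N21384 (iv F40535)))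
theorem Q19219 : ∀ i, i < 19219 → P i := stepQ 19218 Q19218 (allL N19218 (tt N21481 (iv F40773)) (tt N21509 (iv F40847)) (tt N16408 F35375) (tt N21510 D21548) (tt N16407 (iv D19252)) (tt N21511 D21549))
theorem Q19220 : ∀ i, i < 19220 → P i := stepQ 19219 Q19219 (allL N19219 (tt N21507 (iv F40843)) (tt N21183 (iv F40043)) (tt N21511 (iv F40849)) (tt N16473 F35376) (tt N21382 (iv F40528)) (tt N16408 (iv D19253)))
theorem Q19221 : ∀ i, i < 19221 → P i := stepQ 19220 Q19220 (allL N19220 (tt N21368 (iv F40488)) (tt N20105 (iv F37452)) (tt N16409 (iv D19254)) (tt N21512 D21550) (tt N21513 D21551) (tt N20306 (iv F37933)))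
theorem Q19222 : ∀ i, i < 19222 → P i := stepQ 19221 Q19221 (allL N19221 (tt N21372 (iv F40499)) (tt N16410 F35377) (tt N21513 (iv F40852)) (tt N21417 (iv F40587)) (tt N16409 (iv D19255)) (tt N21514 D21552))
theorem Q19223 : ∀ i, i < 19223 → P i := stepQ 19222 Q19222 (allL N19222 (tt N16413 F35378) (tt N21514 (iv F40853)) (tt N20312 (iv F37948)) (tt N21418 (iv F40589)) (tt N20311 (iv F37946)) (tt N16410 (iv D19256)))
theorem Q19224 : ∀ i, i < 19224 → P i := stepQ 19223 Q19223 (allL N19223 (tt N20312 (iv F37947)) (tt N18169 F35379) (tt N16413 F35380) (tt N17767 F35381) (tt N20305 (iv F37930)) (tt N16412 (iv D19257)))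
theorem Q19225 : ∀ i, i < 19225 → P i := stepQ 19224 Q19224 (allL N19224 (tt N16414 (iv D19258)) (tt N20972 (iv F39528)) (tt N16418 F35382) (tt N19589 F36288) (tt N20979 (iv F39554)) (tt N21515 D21553))
theorem Q19226 : ∀ i, i < 19226 → P i := stepQ 19225 Q19225 (allL N19225 (tt N19589 (iv F36285)) (tt N16415 F35383) (tt N19588 (iv F36284)) (tt N16414 (iv D19259)) (tt N19425 F35857) (tt N21516 D21554))
theorem Q19227 : ∀ i, i < 19227 → P i := stepQ 19226 Q19226 (allL N19226 (tt N21515 (iv F40854)) (tt N16416 F35384) (tt N16420 F35385) (tt N21516 (iv F40857)) (tt N21517 D21555) (tt N16414 (iv D19260)))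
theorem Q19228 : ∀ i, i < 19228 → P i := stepQ 19227 Q19227 (allL N19227 (tt N16430 F35386) (tt N19417 (iv F35829)) (tt N16415 (iv D19261)) (tt N16425 F35387) (tt N16721 (iv F35388)) (tt N16424 (iv F35389)))
theorem Q19229 : ∀ i, i < 19229 → P i := stepQ 19228 Q19228 (allL N19228 (tt N16722 F35390) (tt N19425 (iv F35855)) (tt N16721 F35391) (tt N17451 F35392) (tt N16415 (iv D19262)) (tt N19395 (iv F35761)))
theorem Q19230 : ∀ i, i < 19230 → P i := stepQ 19229 Q19229 (allL N19229 (tt N16428 F35393) (tt N21516 (iv F40856)) (tt N16424 F35394) (tt N16416 F35395) (tt N19530 (iv F36154)) (tt N16415 (iv D19263)))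
theorem Q19231 : ∀ i, i < 19231 → P i := stepQ 19230 Q19230 (allL N19230 (tt N20981 (iv F39560)) (tt N21517 (iv F40858)) (tt N16417 F35396) (tt N21518 D21556) (tt N16416 (iv D19264)) (tt N20978 (iv F39550)))
theorem Q19232 : ∀ i, i < 19232 → P i := stepQ 19231 Q19231 (allL N19231 (tt N16419 F35397) (tt N18749 F35398) (tt N21519 D21557) (tt N16418 (iv D19265)) (tt N21520 D21558) (tt N18737 (iv F35399)))
theorem Q19233 : ∀ i, i < 19233 → P i := stepQ 19232 Q19232 (allL N19232 (tt N16420 F35400) (tt N18748 F35401) (tt N21515 (iv F40855)) (tt N18737 F35402) (tt N21521 D21559) (tt N16418 (iv D19266)))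
theorem Q19234 : ∀ i, i < 19234 → P i := stepQ 19233 Q19233 (allL N19233 (tt N21519 (iv F40860)) (tt N18731 F35403) (tt N16419 (iv D19267)) (tt N21522 D21560) (tt N21523 D21561) (tt N18729 F35404))
theorem Q19235 : ∀ i, i < 19235 → P i := stepQ 19234 Q19234 (allL N19234 (tt N21520 (iv F40863)) (tt N16421 F35405) (tt N21523 (iv F40870)) (tt N21444 (iv F40661)) (tt N16419 (iv D19268)) (tt N21524 D21562))
theorem Q19236 : ∀ i, i < 19236 → P i := stepQ 19235 Q19235 (allL N19235 (tt N21521 (iv F40865)) (tt N16422 F35406) (tt N21517 (iv F40859)) (tt N21525 D21563) (tt N16420 (iv D19269)) (tt N21443 (iv F40658)))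
theorem Q19237 : ∀ i, i < 19237 → P i := stepQ 19236 Q19236 (allL N19236 (tt N18747 F35407) (tt N21524 (iv F40871)) (tt N18736 F35408) (tt N21441 (iv F40651)) (tt N18735 F35409) (tt N16421 (iv D19270)))
theorem Q19238 : ∀ i, i < 19238 → P i := stepQ 19237 Q19237 (allL N19237 (tt N18745 F35410) (tt N21525 (iv F40873)) (tt N21526 D21564) (tt N16422 (iv D19271)) (tt N18734 F35411) (tt N21439 F40644))
theorem Q19239 : ∀ i, i < 19239 → P i := stepQ 19238 Q19238 (allL N19238 (tt N16423 (iv D19272)) (tt N16426 F35412) (tt N17327 F35413) (tt N19418 (iv F35836)) (tt N16600 F35414) (tt N18773 (iv F35415)))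
theorem Q19240 : ∀ i, i < 19240 → P i := stepQ 19239 Q19239 (allL N19239 (tt N19418 (iv F35833)) (tt N16424 F35416) (tt N20991 (iv F39593)) (tt N16423 (iv D19273)) (tt N19528 (iv F36147)) (tt N19417 F35832))
theorem Q19241 : ∀ i, i < 19241 → P i := stepQ 19240 Q19240 (allL N19240 (tt N18773 F35417) (tt N16425 F35418) (tt N17329 F35419) (tt N19417 F35831) (tt N19508 (iv F36076)) (tt N16423 (iv D19274)))
theorem Q19242 : ∀ i, i < 19242 → P i := stepQ 19241 Q19241 (allL N19241 (tt N20973 (iv F39531)) (tt N16428 (iv D19275)) (tt N19416 (iv F35826)) (tt N20980 (iv F39558)) (tt N21527 D21565) (tt N19415 F35823))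
theorem Q19243 : ∀ i, i < 19243 → P i := stepQ 19242 Q19242 (allL N19242 (tt N19530 (iv F36153)) (tt N21527 (iv F40877)) (tt N16429 F35420) (tt N19860 (iv F36866)) (tt N16428 (iv D19276)) (tt N19407 (iv F35793)))
theorem Q19244 : ∀ i, i < 19244 → P i := stepQ 19243 Q19243 (allL N19243 (tt N16433 F35421) (tt N21528 D21566) (tt N16432 (iv D19277)) (tt N21529 D21567) (tt N17341 F35422) (tt N16596 F35423))
theorem Q19245 : ∀ i, i < 19245 → P i := stepQ 19244 Q19244 (allL N19244 (tt N21529 (iv F40884)) (tt N17349 F35424) (tt N20631 (iv F38678)) (tt N16433 (iv D19278)) (tt N21530 D21568) (tt N16599 F35425))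
theorem Q19246 : ∀ i, i < 19246 → P i := stepQ 19245 Q19245 (allL N19245 (tt N16456 F35426) (tt N21476 (iv F40754)) (tt N16435 (iv D19279)) (tt N21531 D21569) (tt N17746 F35427) (tt N21461 (iv F40712)))
theorem Q19247 : ∀ i, i < 19247 → P i := stepQ 19246 Q19246 (allL N19246 (tt N17678 F35428) (tt N21532 D21570) (tt N16436 (iv D19280)) (tt N20903 (iv F39343)) (tt N17676 F35429) (tt N21533 D21571))
theorem Q19248 : ∀ i, i < 19248 → P i := stepQ 19247 Q19247 (allL N19247 (tt N17679 F35430) (tt N16439 F35431) (tt N21533 (iv F40893)) (tt N16437 F35432) (tt N21534 D21572) (tt N16436 (iv D19281)))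
theorem Q19249 : ∀ i, i < 19249 → P i := stepQ 19248 Q19248 (allL N19248 (tt N21535 D21573) (tt N16438 (iv D19282)) (tt N21532 (iv F40889)) (tt N21315 (iv F40373)) (tt N17691 F35433) (tt N21314 F40370))
theorem Q19250 : ∀ i, i < 19250 → P i := stepQ 19249 Q19249 (allL N19249 (tt N17696 F35434) (tt N21315 (iv F40371)) (tt N21198 (iv F40096)) (tt N16438 (iv D19283)) (tt N21283 (iv F40296)) (tt N21197 (iv F40093)))
theorem Q19251 : ∀ i, i < 19251 → P i := stepQ 19250 Q19250 (allL N19250 (tt N17697 F35435) (tt N21314 (iv F40369)) (tt N16439 F35436) (tt N21197 F40092) (tt N21536 D21574) (tt N16438 (iv D19284)))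
theorem Q19252 : ∀ i, i < 19252 → P i := stepQ 19251 Q19251 (allL N19251 (tt N17698 F35437) (tt N21534 (iv F40896)) (tt N21536 (iv F40902)) (tt N18736 F35438) (tt N16439 (iv D19285)) (tt N17694 F35439))
theorem Q19253 : ∀ i, i < 19253 → P i := stepQ 19252 Q19252 (allL N19252 (tt N18740 F35440) (tt N21537 D21575) (tt N16440 (iv D19286)) (tt N18744 F35442) (tt N21478 (iv F40765)) (tt N16441 F35441))
theorem Q19254 : ∀ i, i < 19254 → P i := stepQ 19253 Q19253 (allL N19253 (tt N19015 (iv F35445)) (tt N16441 (iv D19287)) (tt N16465 F35443) (tt N21538 D21576) (tt N16442 F35444) (tt N21537 (iv F40908)))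
theorem Q19255 : ∀ i, i < 19255 → P i := stepQ 19254 Q19254 (allL N19254 (tt N18739 F35446) (tt N21538 (iv F40911)) (tt N18746 F35448) (tt N16441 (iv D19288)) (tt N21432 (iv F40626)) (tt N18744 F35447))
theorem Q19256 : ∀ i, i < 19256 → P i := stepQ 19255 Q19255 (allL N19255 (tt N16445 F35449) (tt N18072 (iv F35451)) (tt N16443 (iv D19289)) (tt N18071 F35450) (tt N21539 D21577) (tt N20246 (iv F37783)))
theorem Q19257 : ∀ i, i < 19257 → P i := stepQ 19256 Q19256 (allL N19256 (tt N16446 F35452) (tt N18047 F35453) (tt N21539 (iv F40916)) (tt N16450 F35454) (tt N16443 (iv D19290)) (tt N17068 (iv F35455)))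
theorem Q19258 : ∀ i, i < 19258 → P i := stepQ 19257 Q19257 (allL N19257 (tt N16447 F35456) (tt N18046 F35457) (tt N19088 F35458) (tt N21540 D21578) (tt N16444 (iv D19291)) (tt N16451 F35459))
theorem Q19259 : ∀ i, i < 19259 → P i := stepQ 19258 Q19258 (allL N19258 (tt N18071 F35460) (tt N18055 F35461) (tt N18064 F35463) (tt N16445 (iv D19292)) (tt N18079 (iv F35464)) (tt N18054 F35462))
theorem Q19260 : ∀ i, i < 19260 → P i := stepQ 19259 Q19259 (allL N19259 (tt N21539 (iv F40914)) (tt N18069 F35465) (tt N16446 F35466) (tt N21541 D21579) (tt N16445 (iv D19293)) (tt N17073 (iv F35467)))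
theorem Q19261 : ∀ i, i < 19261 → P i := stepQ 19260 Q19260 (allL N19260 (tt N21540 (iv F40919)) (tt N16449 F35468) (tt N21542 D21580) (tt N16447 (iv D19294)) (tt N17072 F35469) (tt N16452 F35470))
theorem Q19262 : ∀ i, i < 19262 → P i := stepQ 19261 Q19261 (allL N19261 (tt N18041 F35471) (tt N21543 D21581) (tt N16449 (iv D19295)) (tt N20291 (iv F37888)) (tt N18035 F35472) (tt N16453 F35473))
theorem Q19263 : ∀ i, i < 19263 → P i := stepQ 19262 Q19262 (allL N19262 (tt N16452 F35474) (tt N17284 F35475) (tt N16598 (iv F35477)) (tt N16451 (iv D19296)) (tt N16597 F35476) (tt N21540 (iv F40922)))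
theorem Q19264 : ∀ i, i < 19264 → P i := stepQ 19263 Q19263 (allL N19263 (tt N16598 F35478) (tt N17303 (iv F35480)) (tt N16452 (iv D19297)) (tt N21544 D21582) (tt N16595 F35479) (tt N21542 (iv F40931)))
theorem Q19265 : ∀ i, i < 19265 → P i := stepQ 19264 Q19264 (allL N19264 (tt N17296 F35481) (tt N16453 (iv D19298)) (tt N17303 F35482) (tt N21545 D21583) (tt N16941 F35483) (tt N21543 (iv F40936)))
theorem Q19266 : ∀ i, i < 19266 → P i := stepQ 19265 Q19265 (allL N19265 (tt N18040 F35484) (tt N21545 (iv F40942)) (tt N17425 F35485) (tt N16453 (iv D19299)) (tt N18036 F35486) (tt N20291 (iv F37890)))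
theorem Q19267 : ∀ i, i < 19267 → P i := stepQ 19266 Q19266 (allL N19266 (tt N17746 F35487) (tt N21546 D21584) (tt N16454 (iv D19300)) (tt N18360 F35489) (tt N16456 F35488) (tt N18359 (iv F35490)))
theorem Q19268 : ∀ i, i < 19268 → P i := stepQ 19267 Q19267 (allL N19267 (tt N17747 F35491) (tt N16459 F35492) (tt N18359 F35493) (tt N16455 F35494) (tt N21547 D21585) (tt N16454 (iv D19301)))
theorem Q19269 : ∀ i, i < 19269 → P i := stepQ 19268 Q19268 (allL N19268 (tt N19010 (iv F35496)) (tt N16456 (iv D19302)) (tt N16460 F35495) (tt N21331 (iv F40399)) (tt N21546 (iv F40946)) (tt N21212 (iv F40127)))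
theorem Q19270 : ∀ i, i < 19270 → P i := stepQ 19269 Q19269 (allL N19269 (tt N21531 (iv F40888)) (tt N21331 F40400) (tt N21332 (iv F40401)) (tt N16456 (iv D19303)) (tt N21548 D21586) (tt N21549 D21587))
theorem Q19271 : ∀ i, i < 19271 → P i := stepQ 19270 Q19270 (allL N19270 (tt N21461 (iv F40711)) (tt N21212 (iv F40126)) (tt N16457 F35497) (tt N21549 (iv F40956)) (tt N21550 D21588) (tt N16456 (iv D19304)))
theorem Q19272 : ∀ i, i < 19272 → P i := stepQ 19271 Q19271 (allL N19271 (tt N21458 (iv F40699)) (tt N16461 F35498) (tt N21550 (iv F40957)) (tt N21457 (iv F40697)) (tt N16457 (iv D19305)) (tt N21547 (iv F40953)))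
theorem Q19273 : ∀ i, i < 19273 → P i := stepQ 19272 Q19272 (allL N19272 (tt N19011 F35499) (tt N16458 (iv D19306)) (tt N21546 (iv F40944)) (tt N19020 (iv F35501)) (tt N16460 F35500) (tt N21551 D21589))
theorem Q19274 : ∀ i, i < 19274 → P i := stepQ 19273 Q19273 (allL N19273 (tt N16466 F35502) (tt N19020 F35503) (tt N20504 (iv F38401)) (tt N16458 (iv D19307)) (tt N18994 F35504) (tt N20824 (iv F39191)))
theorem Q19275 : ∀ i, i < 19275 → P i := stepQ 19274 Q19274 (allL N19274 (tt N16467 F35505) (tt N21551 (iv F40960)) (tt N16459 F35506) (tt N20824 (iv F39190)) (tt N21214 (iv F40131)) (tt N16458 (iv D19308)))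
theorem Q19276 : ∀ i, i < 19276 → P i := stepQ 19275 Q19275 (allL N19275 (tt N16468 F35507) (tt N21547 (iv F40950)) (tt N21214 (iv F40130)) (tt N18699 F35508) (tt N16459 (iv D19309)) (tt N16461 F35509))
theorem Q19277 : ∀ i, i < 19277 → P i := stepQ 19276 Q19276 (allL N19276 (tt N21355 (iv F40455)) (tt N18680 F35510) (tt N16462 (iv D19310)) (tt N21552 D21590) (tt N21553 D21591) (tt N18711 F35511))
theorem Q19278 : ∀ i, i < 19278 → P i := stepQ 19277 Q19277 (allL N19277 (tt N21356 (iv F40457)) (tt N16463 F35512) (tt N21553 (iv F40966)) (tt N21506 (iv F40842)) (tt N16462 (iv D19311)) (tt N21554 D21592))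
theorem Q19279 : ∀ i, i < 19279 → P i := stepQ 19278 Q19278 (allL N19278 (tt N16473 F35513) (tt N21554 (iv F40967)) (tt N18682 F35514) (tt N21507 (iv F40844)) (tt N18716 F35515) (tt N16463 (iv D19312)))
theorem Q19280 : ∀ i, i < 19280 → P i := stepQ 19279 Q19279 (allL N19279 (tt N19016 F35516) (tt N16467 F35517) (tt N21537 (iv F40905)) (tt N18992 F35518) (tt N21555 D21593) (tt N16465 (iv D19313)))
theorem Q19281 : ∀ i, i < 19281 → P i := stepQ 19280 Q19280 (allL N19280 (tt N21214 (iv F40129)) (tt N21555 (iv F40970)) (tt N16468 F35519) (tt N21556 D21594) (tt N16467 (iv D19314)) (tt N16470 F35520))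
theorem Q19282 : ∀ i, i < 19282 → P i := stepQ 19281 Q19281 (allL N19281 (tt N19017 F35521) (tt N16470 F35522) (tt N19008 F35523) (tt N21557 D21595) (tt N16469 (iv D19315)) (tt N21555 (iv F40973)))
theorem Q19283 : ∀ i, i < 19283 → P i := stepQ 19282 Q19282 (allL N19282 (tt N21210 (iv F40122)) (tt N21557 (iv F40978)) (tt N21558 D21596) (tt N16470 (iv D19316)) (tt N21205 (iv F40115)) (tt N21556 (iv F40976)))
theorem Q19284 : ∀ i, i < 19284 → P i := stepQ 19283 Q19283 (allL N19283 (tt N16471 (iv D19317)) (tt N18679 F35524) (tt N21358 (iv F40460)) (tt N18656 F35525) (tt N21559 D21597) (tt N18692 F35526))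
theorem Q19285 : ∀ i, i < 19285 → P i := stepQ 19284 Q19284 (allL N19284 (tt N21559 (iv F40981)) (tt N16472 F35527) (tt N21359 (iv F40463)) (tt N21560 D21598) (tt N16471 (iv D19318)) (tt N21561 D21599))
theorem Q19286 : ∀ i, i < 19286 → P i := stepQ 19285 Q19285 (allL N19285 (tt N18678 F35528) (tt N21560 (iv F40983)) (tt N21562 D21600) (tt N16472 (iv D19319)) (tt N18655 F35529) (tt N21563 D21601))
theorem Q19287 : ∀ i, i < 19287 → P i := stepQ 19286 Q19286 (allL N19286 (tt N18682 F35530) (tt N21561 (iv F40985)) (tt N16473 F35531) (tt N21563 (iv F40990)) (tt N18695 F35532) (tt N16472 (iv D19320)))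
theorem Q19288 : ∀ i, i < 19288 → P i := stepQ 19287 Q19287 (allL N19287 (tt N16477 F35536) (tt N16474 (iv D19321)) (tt N16487 F35533) (tt N16474 (iv F35535)) (tt N17984 F35534) (tt N21486 (iv F40790)))
theorem Q19289 : ∀ i, i < 19289 → P i := stepQ 19288 Q19288 (allL N19288 (tt N16478 F35537) (tt N21486 (iv F40788)) (tt N16475 F35538) (tt N21486 (iv F40789)) (tt N21564 D21602) (tt N16474 (iv D19322)))
theorem Q19290 : ∀ i, i < 19290 → P i := stepQ 19289 Q19289 (allL N19289 (tt N16479 F35539) (tt N16489 F35540) (tt N21564 (iv F40992)) (tt N21259 (iv F40236)) (tt N16475 (iv D19323)) (tt N17987 F35541))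
theorem Q19291 : ∀ i, i < 19291 → P i := stepQ 19290 Q19290 (allL N19290 (tt N16476 (iv D19324)) (tt N16477 F35542) (tt N16482 F35543) (tt N16476 (iv F35546)) (tt N18775 F35544) (tt N16533 F35545))
theorem Q19292 : ∀ i, i < 19292 → P i := stepQ 19291 Q19291 (allL N19291 (tt N16487 F35547) (tt N16494 F35548) (tt N16477 (iv D19325)) (tt N21454 (iv F40686)) (tt N21290 (iv F40319)) (tt N21485 (iv F40786)))
theorem Q19293 : ∀ i, i < 19293 → P i := stepQ 19292 Q19292 (allL N19292 (tt N17984 F35549) (tt N18775 F35550) (tt N21290 (iv F40318)) (tt N18777 F35551) (tt N16477 (iv D19326)) (tt N21565 D21603))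
theorem Q19294 : ∀ i, i < 19294 → P i := stepQ 19293 Q19293 (allL N19293 (tt N21486 (iv F40787)) (tt N16533 F35552) (tt N21485 (iv F40785)) (tt N16478 F35553) (tt N21566 D21604) (tt N16477 (iv D19327)))
theorem Q19295 : ∀ i, i < 19295 → P i := stepQ 19294 Q19294 (allL N19294 (tt N21564 (iv F40991)) (tt N16536 F35554) (tt N16479 F35555) (tt N21567 D21605) (tt N16478 (iv D19328)) (tt N18778 F35556))
theorem Q19296 : ∀ i, i < 19296 → P i := stepQ 19295 Q19295 (allL N19295 (tt N21259 (iv F40234)) (tt N16483 F35557) (tt N21568 D21606) (tt N16479 (iv D19329)) (tt N16480 F35558) (tt N18020 F35559))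
theorem Q19297 : ∀ i, i < 19297 → P i := stepQ 19296 Q19296 (allL N19296 (tt N21258 (iv F40231)) (tt N21333 (iv F40404)) (tt N16480 (iv D19330)) (tt N21332 F40403) (tt N21568 (iv F41000)) (tt N16481 F35560))
theorem Q19298 : ∀ i, i < 19298 → P i := stepQ 19297 Q19297 (allL N19297 (tt N21151 (iv F39940)) (tt N16481 (iv D19331)) (tt N16485 F35561) (tt N21329 (iv F40392)) (tt N18017 F35562) (tt N21333 (iv F40405)))
theorem Q19299 : ∀ i, i < 19299 → P i := stepQ 19298 Q19298 (allL N19298 (tt N21257 (iv F40230)) (tt N21329 F40393) (tt N21549 (iv F40955)) (tt N16481 (iv D19332)) (tt N21569 D21607) (tt N21332 (iv F40402)))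
theorem Q19300 : ∀ i, i < 19300 → P i := stepQ 19299 Q19299 (allL N19299 (tt N16514 F35563) (tt N21570 D21608) (tt N16483 (iv D19333)) (tt N16514 F35566) (tt N16484 F35564) (tt N18023 F35565))
theorem Q19301 : ∀ i, i < 19301 → P i := stepQ 19300 Q19300 (allL N19300 (tt N21152 (iv F39942)) (tt N16484 (iv D19334)) (tt N21333 (iv F40406)) (tt N16516 F35567) (tt N21570 (iv F41004)) (tt N16485 F35568))
theorem Q19302 : ∀ i, i < 19302 → P i := stepQ 19301 Q19301 (allL N19301 (tt N16499 F35569) (tt N21487 (iv F40791)) (tt N16489 F35570) (tt N21571 D21609) (tt N16488 (iv D19335)) (tt N21294 (iv F40327)))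
theorem Q19303 : ∀ i, i < 19303 → P i := stepQ 19302 Q19302 (allL N19302 (tt N16490 (iv D19336)) (tt N21290 (iv F40317)) (tt N16500 F35571) (tt N21572 D21610) (tt N16494 F35572) (tt N21573 D21611))
theorem Q19304 : ∀ i, i < 19304 → P i := stepQ 19303 Q19303 (allL N19303 (tt N21572 (iv F41010)) (tt N16491 F35573) (tt N21574 D21612) (tt N16490 (iv D19337)) (tt N21575 D21613) (tt N21300 (iv F40342)))
theorem Q19305 : ∀ i, i < 19305 → P i := stepQ 19304 Q19304 (allL N19304 (tt N21573 (iv F41011)) (tt N16492 F35574) (tt N16502 F35575) (tt N21300 (iv F40341)) (tt N21576 D21614) (tt N16490 (iv D19338)))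
theorem Q19306 : ∀ i, i < 19306 → P i := stepQ 19305 Q19305 (allL N19305 (tt N21293 (iv F40323)) (tt N21575 (iv F41013)) (tt N21303 (iv F40348)) (tt N16497 F35576) (tt N16491 (iv D19339)) (tt N21577 D21615))
theorem Q19307 : ∀ i, i < 19307 → P i := stepQ 19306 Q19306 (allL N19306 (tt N21294 (iv F40325)) (tt N21576 (iv F41015)) (tt N16493 F35577) (tt N21578 D21616) (tt N16492 (iv D19340)) (tt N16499 F35578))
theorem Q19308 : ∀ i, i < 19308 → P i := stepQ 19307 Q19307 (allL N19307 (tt N16495 F35579) (tt N21454 (iv F40684)) (tt N21479 (iv F40767)) (tt N16494 (iv D19341)) (tt N21579 D21617) (tt N21484 (iv F40781)))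
theorem Q19309 : ∀ i, i < 19309 → P i := stepQ 19308 Q19308 (allL N19308 (tt N16496 F35580) (tt N21485 (iv F40784)) (tt N16510 F35581) (tt N21484 F40782) (tt N21580 D21618) (tt N16494 (iv D19342)))
theorem Q19310 : ∀ i, i < 19310 → P i := stepQ 19309 Q19309 (allL N19309 (tt N21479 (iv F40766)) (tt N21445 (iv F40663)) (tt N16495 (iv D19343)) (tt N21508 (iv F40846)) (tt N21581 D21619) (tt N21496 (iv F40827)))
theorem Q19311 : ∀ i, i < 19311 → P i := stepQ 19310 Q19310 (allL N19310 (tt N21579 (iv F41021)) (tt N16497 F35582) (tt N21581 (iv F41024)) (tt N21575 (iv F41014)) (tt N16495 (iv D19344)) (tt N21582 D21620))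
theorem Q19312 : ∀ i, i < 19312 → P i := stepQ 19311 Q19311 (allL N19311 (tt N21484 (iv F40778)) (tt N16498 F35583) (tt N21496 (iv F40825)) (tt N16496 F35584) (tt N21351 (iv F40443)) (tt N16495 (iv D19345)))
theorem Q19313 : ∀ i, i < 19313 → P i := stepQ 19312 Q19312 (allL N19312 (tt N21580 (iv F41022)) (tt N16499 F35585) (tt N16513 F35586) (tt N21583 D21621) (tt N16496 (iv D19346)) (tt N21576 (iv F41017)))
theorem Q19314 : ∀ i, i < 19314 → P i := stepQ 19313 Q19313 (allL N19313 (tt N21456 (iv F40691)) (tt N21582 (iv F41025)) (tt N21354 (iv F40453)) (tt N21577 (iv F41019)) (tt N21353 (iv F40451)) (tt N16497 (iv D19347)))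
theorem Q19315 : ∀ i, i < 19315 → P i := stepQ 19314 Q19314 (allL N19314 (tt N21571 (iv F41006)) (tt N21583 (iv F41026)) (tt N21584 D21622) (tt N16499 (iv D19348)) (tt N21352 (iv F40446)) (tt N21578 (iv F41020)))
theorem Q19316 : ∀ i, i < 19316 → P i := stepQ 19315 Q19315 (allL N19315 (tt N16501 F35587) (tt N16529 F35588) (tt N21585 D21623) (tt N16500 (iv D19349)) (tt N21586 D21624) (tt N16527 (iv F35589)))
theorem Q19317 : ∀ i, i < 19317 → P i := stepQ 19316 Q19316 (allL N19316 (tt N16502 F35590) (tt N16528 F35591) (tt N21573 (iv F41012)) (tt N16527 F35592) (tt N21587 D21625) (tt N16500 (iv D19350)))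
theorem Q19318 : ∀ i, i < 19318 → P i := stepQ 19317 Q19317 (allL N19317 (tt N21585 (iv F41029)) (tt N16521 F35593) (tt N16501 (iv D19351)) (tt N21588 D21626) (tt N21589 D21627) (tt N16519 F35594))
theorem Q19319 : ∀ i, i < 19319 → P i := stepQ 19318 Q19318 (allL N19318 (tt N21586 (iv F41032)) (tt N16503 F35595) (tt N21589 (iv F41043)) (tt N16512 F35596) (tt N16501 (iv D19352)) (tt N16512 F35597))
theorem Q19320 : ∀ i, i < 19320 → P i := stepQ 19319 Q19319 (allL N19319 (tt N21587 (iv F41036)) (tt N16504 F35598) (tt N21576 (iv F41016)) (tt N16513 F35599) (tt N16502 (iv D19353)) (tt N16513 F35600))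
theorem Q19321 : ∀ i, i < 19321 → P i := stepQ 19320 Q19320 (allL N19320 (tt N18023 F35601) (tt N21590 D21628) (tt N16505 (iv D19354)) (tt N18023 F35602) (tt N16506 F35603) (tt N16514 F35604))
theorem Q19322 : ∀ i, i < 19322 → P i := stepQ 19321 Q19321 (allL N19321 (tt N21156 (iv F39956)) (tt N16506 (iv D19355)) (tt N21261 (iv F40248)) (tt N18026 F35605) (tt N21590 (iv F41046)) (tt N16507 F35606))
theorem Q19323 : ∀ i, i < 19323 → P i := stepQ 19322 Q19322 (allL N19322 (tt N16511 F35607) (tt N21177 (iv F40027)) (tt N16509 (iv D19356)) (tt N21419 (iv F40590)) (tt N21591 D21629) (tt N16523 F35608))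
theorem Q19324 : ∀ i, i < 19324 → P i := stepQ 19323 Q19323 (allL N19323 (tt N16512 F35609) (tt N16535 F35610) (tt N21591 (iv F41049)) (tt N21586 (iv F41034)) (tt N16509 (iv D19357)) (tt N21586 (iv F41035)))
theorem Q19325 : ∀ i, i < 19325 → P i := stepQ 19324 Q19324 (allL N19324 (tt N16513 F35611) (tt N16534 F35612) (tt N21580 (iv F41023)) (tt N21587 (iv F41038)) (tt N16510 (iv D19358)) (tt N21587 (iv F41039)))
theorem Q19326 : ∀ i, i < 19326 → P i := stepQ 19325 Q19325 (allL N19325 (tt N21591 (iv F41048)) (tt N16526 F35613) (tt N16512 F35614) (tt N21592 D21630) (tt N16511 (iv D19359)) (tt N21589 (iv F41044)))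
theorem Q19327 : ∀ i, i < 19327 → P i := stepQ 19326 Q19326 (allL N19326 (tt N21158 (iv F39963)) (tt N16514 (iv D19360)) (tt N21160 (iv F39971)) (tt N21570 (iv F41003)) (tt N16515 F35615) (tt N21590 (iv F41047)))
theorem Q19328 : ∀ i, i < 19328 → P i := stepQ 19327 Q19327 (allL N19327 (tt N21352 (iv F40444)) (tt N18019 F35616) (tt N18022 F35617) (tt N16517 (iv D19361)) (tt N21571 (iv F41008)) (tt N18017 (iv F35618)))
theorem Q19329 : ∀ i, i < 19329 → P i := stepQ 19328 Q19328 (allL N19328 (tt N21353 (iv F40448)) (tt N18018 F35619) (tt N16518 F35620) (tt N18017 F35621) (tt N21456 (iv F40694)) (tt N16517 (iv D19362)))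
theorem Q19330 : ∀ i, i < 19330 → P i := stepQ 19329 Q19329 (allL N19329 (tt N16519 (iv D19363)) (tt N17181 F35622) (tt N16527 F35623) (tt N21593 D21631) (tt N16523 F35624) (tt N21585 (iv F41031)))
theorem Q19331 : ∀ i, i < 19331 → P i := stepQ 19330 Q19330 (allL N19330 (tt N21593 (iv F41051)) (tt N16520 F35625) (tt N21594 D21632) (tt N16519 (iv D19364)) (tt N21595 D21633) (tt N21588 (iv F41041)))
theorem Q19332 : ∀ i, i < 19332 → P i := stepQ 19331 Q19331 (allL N19331 (tt N17184 F35626) (tt N21596 D21634) (tt N16520 (iv D19365)) (tt N16829 F35627) (tt N21597 D21635) (tt N16828 (iv F35628)))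
theorem Q19333 : ∀ i, i < 19333 → P i := stepQ 19332 Q19332 (allL N19332 (tt N17185 F35629) (tt N21595 (iv F41053)) (tt N21597 (iv F41058)) (tt N16525 F35630) (tt N16520 (iv D19366)) (tt N21598 D21636))
theorem Q19334 : ∀ i, i < 19334 → P i := stepQ 19333 Q19333 (allL N19333 (tt N17186 F35631) (tt N21588 (iv F41040)) (tt N16828 F35632) (tt N16521 F35633) (tt N21599 D21637) (tt N16520 (iv D19367)))
theorem Q19335 : ∀ i, i < 19335 → P i := stepQ 19334 Q19334 (allL N19334 (tt N17187 F35634) (tt N21589 (iv F41042)) (tt N16522 F35635) (tt N19924 (iv F37005)) (tt N16521 (iv D19368)) (tt N16526 F35636))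
theorem Q19336 : ∀ i, i < 19336 → P i := stepQ 19335 Q19335 (allL N19335 (tt N16524 F35637) (tt N21412 (iv F40581)) (tt N21508 (iv F40845)) (tt N16523 (iv D19369)) (tt N21600 D21638) (tt N21419 (iv F40591)))
theorem Q19337 : ∀ i, i < 19337 → P i := stepQ 19336 Q19336 (allL N19336 (tt N21600 (iv F41063)) (tt N16525 F35638) (tt N21509 (iv F40848)) (tt N21595 (iv F41054)) (tt N16524 (iv D19370)) (tt N21601 D21639))
theorem Q19338 : ∀ i, i < 19338 → P i := stepQ 19337 Q19337 (allL N19337 (tt N21415 (iv F40584)) (tt N21601 (iv F41064)) (tt N21183 (iv F40044)) (tt N21598 (iv F41060)) (tt N21422 (iv F40597)) (tt N16525 (iv D19371)))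
theorem Q19339 : ∀ i, i < 19339 → P i := stepQ 19338 Q19338 (allL N19338 (tt N17762 F35639) (tt N21592 (iv F41050)) (tt N17760 F35640) (tt N16526 (iv D19372)) (tt N21421 (iv F40594)) (tt N19924 (iv F37006)))
theorem Q19340 : ∀ i, i < 19340 → P i := stepQ 19339 Q19339 (allL N19339 (tt N16530 F35641) (tt N21565 (iv F40995)) (tt N16528 (iv D19373)) (tt N17517 F35643) (tt N21602 D21640) (tt N18775 F35642))
theorem Q19341 : ∀ i, i < 19341 → P i := stepQ 19340 Q19340 (allL N19340 (tt N16531 F35644) (tt N21587 (iv F41037)) (tt N21602 (iv F41066)) (tt N16534 F35645) (tt N16528 (iv D19374)) (tt N16534 F35646))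
theorem Q19342 : ∀ i, i < 19342 → P i := stepQ 19341 Q19341 (allL N19341 (tt N16532 F35647) (tt N21586 (iv F41033)) (tt N17192 F35648) (tt N16535 F35649) (tt N16529 (iv D19375)) (tt N16535 F35650))
theorem Q19343 : ∀ i, i < 19343 → P i := stepQ 19342 Q19342 (allL N19342 (tt N17517 F35651) (tt N17988 F35652) (tt N17516 F35654) (tt N16530 (iv D19376)) (tt N21603 D21641) (tt N18776 F35653))
theorem Q19344 : ∀ i, i < 19344 → P i := stepQ 19343 Q19343 (allL N19343 (tt N21602 (iv F41065)) (tt N18778 F35655) (tt N16531 F35656) (tt N21604 D21642) (tt N16530 (iv D19377)) (tt N16536 F35657))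
theorem Q19345 : ∀ i, i < 19345 → P i := stepQ 19344 Q19344 (allL N19344 (tt N16536 F35658) (tt N21566 (iv F40997)) (tt N16534 F35659) (tt N21605 D21643) (tt N16533 (iv D19378)) (tt N21602 (iv F41067)))
theorem Q19346 : ∀ i, i < 19346 → P i := stepQ 19345 Q19345 (allL N19345 (tt N21605 (iv F41074)) (tt N21567 (iv F40998)) (tt N21606 D21644) (tt N16536 (iv D19379)) (tt N21605 (iv F41075)) (tt N21604 (iv F41073)))
theorem Q19347 : ∀ i, i < 19347 → P i := stepQ 19346 Q19346 (allL N19346 (tt N19045 F35660) (tt N17648 F35661) (tt N16539 F35662) (tt N17647 F35663) (tt N17808 F35664) (tt N16538 (iv D19380)))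
theorem Q19348 : ∀ i, i < 19348 → P i := stepQ 19347 Q19347 (allL N19347 (tt N16541 F35665) (tt N20908 (iv F39355)) (tt N16540 (iv D19381)) (tt N21607 D21645) (tt N21608 D21646) (tt N16561 F35666))
theorem Q19349 : ∀ i, i < 19349 → P i := stepQ 19348 Q19348 (allL N19348 (tt N16542 F35667) (tt N16546 F35668) (tt N21608 (iv F41081)) (tt N20208 (iv F37688)) (tt N16540 (iv D19382)) (tt N21609 D21647))
theorem Q19350 : ∀ i, i < 19350 → P i := stepQ 19349 Q19349 (allL N19349 (tt N21607 (iv F41076)) (tt N16565 F35669) (tt N21610 D21648) (tt N16541 (iv D19383)) (tt N21611 D21649) (tt N16562 F35670))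
theorem Q19351 : ∀ i, i < 19351 → P i := stepQ 19350 Q19350 (allL N19350 (tt N21608 (iv F41080)) (tt N16568 F35671) (tt N16542 F35672) (tt N21612 D21650) (tt N16541 (iv D19384)) (tt N21613 D21651))
theorem Q19352 : ∀ i, i < 19352 → P i := stepQ 19351 Q19351 (allL N19351 (tt N21609 (iv F41082)) (tt N16544 F35673) (tt N21613 (iv F41092)) (tt N20211 (iv F37693)) (tt N16572 F35674) (tt N16542 (iv D19385)))
theorem Q19353 : ∀ i, i < 19353 → P i := stepQ 19352 Q19352 (allL N19352 (tt N20924 (iv F39391)) (tt N16545 F35675) (tt N16571 F37448) (tt N16543 (iv D19386)) (tt N16571 F35676) (tt N20212 (iv F37696)))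
theorem Q19354 : ∀ i, i < 19354 → P i := stepQ 19353 Q19353 (allL N19353 (tt N16555 F35677) (tt N16573 F37447) (tt N16545 (iv D19387)) (tt N20103 (iv F37446)) (tt N16573 F35678) (tt N20213 (iv F37701)))
theorem Q19355 : ∀ i, i < 19355 → P i := stepQ 19354 Q19354 (allL N19354 (tt N16549 F35679) (tt N21609 (iv F41083)) (tt N20913 (iv F39366)) (tt N20214 (iv F37703)) (tt N20926 (iv F39403)) (tt N16546 (iv D19388)))
theorem Q19356 : ∀ i, i < 19356 → P i := stepQ 19355 Q19355 (allL N19355 (tt N20912 (iv F39363)) (tt N21102 (iv F39836)) (tt N21614 D21652) (tt N16548 (iv D19389)) (tt N20905 (iv F39347)) (tt N21099 F39834))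
theorem Q19357 : ∀ i, i < 19357 → P i := stepQ 19356 Q19356 (allL N19356 (tt N21058 (iv F39766)) (tt N16551 F35680) (tt N21615 D21653) (tt N16550 (iv D19390)) (tt N16557 F35681) (tt N21046 (iv F39736)))
theorem Q19358 : ∀ i, i < 19358 → P i := stepQ 19357 Q19357 (allL N19357 (tt N16575 F35682) (tt N21046 (iv F39734)) (tt N21222 (iv F40148)) (tt N16552 F35683) (tt N18821 F35684) (tt N16551 (iv D19391)))
theorem Q19359 : ∀ i, i < 19359 → P i := stepQ 19358 Q19358 (allL N19358 (tt N16574 F35685) (tt N20928 (iv F39407)) (tt N21166 (iv F39990)) (tt N16553 (iv D19392)) (tt N20223 (iv F37726)) (tt N16554 F35686))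
theorem Q19360 : ∀ i, i < 19360 → P i := stepQ 19359 Q19359 (allL N19359 (tt N16573 F35687) (tt N21616 D21654) (tt N16554 (iv D19393)) (tt N21167 (iv F39994)) (tt N16555 F35688) (tt N21166 (iv F39991)))
theorem Q19361 : ∀ i, i < 19361 → P i := stepQ 19360 Q19360 (allL N19360 (tt N21616 (iv F41095)) (tt N16555 (iv D19394)) (tt N20929 (iv F39410)) (tt N21617 D21655) (tt N21616 (iv F41096)) (tt N20225 (iv F37730)))
theorem Q19362 : ∀ i, i < 19362 → P i := stepQ 19361 Q19361 (allL N19361 (tt N20103 (iv F37443)) (tt N21617 (iv F41097)) (tt N17412 F35689) (tt N16555 (iv D19395)) (tt N21618 D21656) (tt N20226 (iv F37733)))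
theorem Q19363 : ∀ i, i < 19363 → P i := stepQ 19362 Q19362 (allL N19362 (tt N18372 F35690) (tt N18084 F35691) (tt N16556 (iv D19396)) (tt N18083 F35692) (tt N18370 F35693) (tt N19046 F35694))
theorem Q19364 : ∀ i, i < 19364 → P i := stepQ 19363 Q19363 (allL N19363 (tt N21059 (iv F39770)) (tt N21219 (iv F40142)) (tt N16557 (iv D19397)) (tt N21619 D21657) (tt N21615 (iv F41094)) (tt N18892 F35695))
theorem Q19365 : ∀ i, i < 19365 → P i := stepQ 19364 Q19364 (allL N19364 (tt N16558 (iv D19398)) (tt N16561 F35696) (tt N16971 F35697) (tt N17945 F35698) (tt N21052 (iv F39751)) (tt N20908 (iv F39357)))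
theorem Q19366 : ∀ i, i < 19366 → P i := stepQ 19365 Q19365 (allL N19365 (tt N20908 (iv F39354)) (tt N16559 F35699) (tt N20906 (iv F39350)) (tt N16580 F35700) (tt N21620 D21658) (tt N16558 (iv D19399)))
theorem Q19367 : ∀ i, i < 19367 → P i := stepQ 19366 Q19366 (allL N19366 (tt N16568 F35701) (tt N21620 (iv F41106)) (tt N16560 F35702) (tt N21621 D21659) (tt N16559 (iv D19400)) (tt N21056 (iv F39762)))
theorem Q19368 : ∀ i, i < 19368 → P i := stepQ 19367 Q19367 (allL N19367 (tt N16562 F35703) (tt N17945 F35704) (tt N20229 (iv F37741)) (tt N16561 (iv D19401)) (tt N20274 (iv F37857)) (tt N21607 (iv F41079)))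
theorem Q19369 : ∀ i, i < 19369 → P i := stepQ 19368 Q19368 (allL N19368 (tt N16563 F35705) (tt N21052 (iv F39749)) (tt N16570 F35706) (tt N20243 F37776) (tt N16561 (iv D19402)) (tt N21622 D21660))
theorem Q19370 : ∀ i, i < 19370 → P i := stepQ 19369 Q19369 (allL N19369 (tt N20229 (iv F37740)) (tt N17913 F35707) (tt N16562 (iv D19403)) (tt N20227 (iv F37736)) (tt N18383 (iv F35708)) (tt N21610 (iv F41088)))
theorem Q19371 : ∀ i, i < 19371 → P i := stepQ 19370 Q19370 (allL N19370 (tt N20274 (iv F37856)) (tt N16564 F35709) (tt N18383 F35710) (tt N20271 (iv F37852)) (tt N16562 (iv D19404)) (tt N21623 D21661))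
theorem Q19372 : ∀ i, i < 19372 → P i := stepQ 19371 Q19371 (allL N19371 (tt N20243 (iv F37774)) (tt N16566 F35711) (tt N20238 (iv F37766)) (tt N16563 (iv D19405)) (tt N20271 (iv F37851)) (tt N20945 (iv F39456)))
theorem Q19373 : ∀ i, i < 19373 → P i := stepQ 19372 Q19372 (allL N19372 (tt N21622 (iv F41109)) (tt N16567 F35712) (tt N16572 F35713) (tt N20945 (iv F39455)) (tt N21613 (iv F41093)) (tt N16563 (iv D19406)))
theorem Q19374 : ∀ i, i < 19374 → P i := stepQ 19373 Q19373 (allL N19373 (tt N17947 F35714) (tt N20271 (iv F37850)) (tt N18720 F35716) (tt N16564 (iv D19407)) (tt N16566 F35715) (tt N21624 D21662))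
theorem Q19375 : ∀ i, i < 19375 → P i := stepQ 19374 Q19374 (allL N19374 (tt N17948 F35717) (tt N21623 (iv F41111)) (tt N17944 F35718) (tt N21624 (iv F41115)) (tt N21625 D21663) (tt N16564 (iv D19408)))
theorem Q19376 : ∀ i, i < 19376 → P i := stepQ 19375 Q19375 (allL N19375 (tt N16581 F35719) (tt N21611 (iv F41089)) (tt N16579 F35720) (tt N21626 D21664) (tt N16565 (iv D19409)) (tt N21625 (iv F41118)))
theorem Q19377 : ∀ i, i < 19377 → P i := stepQ 19376 Q19376 (allL N19376 (tt N21056 (iv F39760)) (tt N21613 (iv F41091)) (tt N16569 F35721) (tt N21627 D21665) (tt N16567 (iv D19410)) (tt N16568 F35722))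
theorem Q19378 : ∀ i, i < 19378 → P i := stepQ 19377 Q19377 (allL N19377 (tt N21621 (iv F41107)) (tt N21612 (iv F41090)) (tt N21628 D21666) (tt N16568 (iv D19411)) (tt N21626 (iv F41120)) (tt N21627 (iv F41121)))
theorem Q19379 : ∀ i, i < 19379 → P i := stepQ 19378 Q19378 (allL N19378 (tt N16571 F35723) (tt N20925 (iv F39397)) (tt N20924 (iv F39395)) (tt N16570 (iv D19412)) (tt N20924 (iv F39393)) (tt N21629 D21667))
theorem Q19380 : ∀ i, i < 19380 → P i := stepQ 19379 Q19379 (allL N19379 (tt N16572 F35724) (tt N20926 (iv F39401)) (tt N21622 (iv F41110)) (tt N21629 (iv F41124)) (tt N21609 (iv F41084)) (tt N16570 (iv D19413)))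
theorem Q19381 : ∀ i, i < 19381 → P i := stepQ 19380 Q19380 (allL N19380 (tt N21629 (iv F41122)) (tt N16574 F35725) (tt N20212 F37697) (tt N16572 F35726) (tt N21630 D21668) (tt N16571 (iv D19415)))
theorem Q19382 : ∀ i, i < 19382 → P i := stepQ 19381 Q19381 (allL N19381 (tt N21167 (iv F39992)) (tt N20103 (iv F37444)) (tt N18817 F35727) (tt N16573 (iv D19417)) (tt N19384 (iv F35731)) (tt N18816 F35728))
theorem Q19383 : ∀ i, i < 19383 → P i := stepQ 19382 Q19382 (allL N19382 (tt N21166 (iv F39989)) (tt N20213 (iv F37699)) (tt N16574 F35729) (tt N18816 F35730) (tt N21631 D21669) (tt N16573 (iv D19418)))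
theorem Q19384 : ∀ i, i < 19384 → P i := stepQ 19383 Q19383 (allL N19383 (tt N20223 (iv F37724)) (tt N21630 (iv F41125)) (tt N21631 (iv F41127)) (tt N20120 (iv F37496)) (tt N16574 (iv D19419)) (tt N20119 F37493))
theorem Q19385 : ∀ i, i < 19385 → P i := stepQ 19384 Q19384 (allL N19384 (tt N21222 (iv F40147)) (tt N20221 (iv F37716)) (tt N16575 (iv D19420)) (tt N20221 (iv F37718)) (tt N19381 F35731) (tt N16576 F35732))
theorem Q19386 : ∀ i, i < 19386 → P i := stepQ 19385 Q19385 (allL N19385 (tt N21217 (iv F40137)) (tt N16576 (iv D19421)) (tt N20222 (iv F37721)) (tt N16576 (iv F35734)) (tt N16577 F35733) (tt N20221 F37719))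
theorem Q19387 : ∀ i, i < 19387 → P i := stepQ 19386 Q19386 (allL N19386 (tt N17911 F35735) (tt N21610 (iv F41086)) (tt N16578 (iv D19422)) (tt N18076 F35737) (tt N21632 D21670) (tt N17913 F35736))
theorem Q19388 : ∀ i, i < 19388 → P i := stepQ 19387 Q19387 (allL N19387 (tt N17912 F35738) (tt N16579 F35739) (tt N21632 (iv F41130)) (tt N17826 F35740) (tt N16578 (iv D19423)) (tt N18368 F35741))
theorem Q19389 : ∀ i, i < 19389 → P i := stepQ 19388 Q19388 (allL N19388 (tt N16582 F35742) (tt N18368 F35743) (tt N21625 (iv F41117)) (tt N17825 F35744) (tt N17944 F35745) (tt N16579 (iv D19424)))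
theorem Q19390 : ∀ i, i < 19390 → P i := stepQ 19389 Q19389 (allL N19389 (tt N16580 (iv D19425)) (tt N21607 (iv F41077)) (tt N16952 F35746) (tt N20908 (iv F39356)) (tt N21633 D21671) (tt N17945 F35747))
theorem Q19391 : ∀ i, i < 19391 → P i := stepQ 19390 Q19390 (allL N19390 (tt N21633 (iv F41132)) (tt N16581 F35748) (tt N16954 F35749) (tt N21634 D21672) (tt N16580 (iv D19426)) (tt N21635 D21673))
theorem Q19392 : ∀ i, i < 19392 → P i := stepQ 19391 Q19391 (allL N19391 (tt N21626 (iv F41119)) (tt N21634 (iv F41134)) (tt N21636 D21674) (tt N16581 (iv D19427)) (tt N21621 (iv F41108)) (tt N21637 D21675))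
theorem Q19393 : ∀ i, i < 19393 → P i := stepQ 19392 Q19392 (allL N19392 (tt N21625 (iv F41116)) (tt N21635 (iv F41135)) (tt N16582 F35750) (tt N21637 (iv F41141)) (tt N17948 F35751) (tt N16581 (iv D19428)))
theorem Q19394 : ∀ i, i < 19394 → P i := stepQ 19393 Q19393 (allL N19393 (tt N16584 F35752) (tt N19516 (iv F36103)) (tt N16583 (iv D19429)) (tt N16602 F35753) (tt N21638 D21676) (tt N18561 F35754))
theorem Q19395 : ∀ i, i < 19395 → P i := stepQ 19394 Q19394 (allL N19394 (tt N16585 F35755) (tt N17019 F35756) (tt N21638 (iv F41143)) (tt N16734 F35757) (tt N16583 (iv D19430)) (tt N16741 F35758))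
theorem Q19396 : ∀ i, i < 19396 → P i := stepQ 19395 Q19395 (allL N19395 (tt N16602 F35759) (tt N20159 (iv F37554)) (tt N16601 F35760) (tt N16584 (iv D19431)) (tt N21639 D21677) (tt N19228 F35761))
theorem Q19397 : ∀ i, i < 19397 → P i := stepQ 19396 Q19396 (allL N19396 (tt N21638 (iv F41142)) (tt N20160 (iv F37557)) (tt N16585 F35762) (tt N17007 (iv F35764)) (tt N16584 (iv D19432)) (tt N18549 F35763))
theorem Q19398 : ∀ i, i < 19398 → P i := stepQ 19397 Q19397 (allL N19397 (tt N16987 F35765) (tt N16591 (iv D19433)) (tt N16984 F35766) (tt N16738 F35767) (tt N16732 F35768) (tt N16983 F35769))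
theorem Q19399 : ∀ i, i < 19399 → P i := stepQ 19398 Q19398 (allL N19398 (tt N16593 F35770) (tt N16716 F35771) (tt N17054 F35772) (tt N16592 (iv D19434)) (tt N21640 D21678) (tt N17052 F35773))
theorem Q19400 : ∀ i, i < 19400 → P i := stepQ 19399 Q19399 (allL N19399 (tt N17054 F35774) (tt N21641 D21679) (tt N16593 (iv D19435)) (tt N17045 F35775) (tt N21642 D21680) (tt N17043 F35776))
theorem Q19401 : ∀ i, i < 19401 → P i := stepQ 19400 Q19400 (allL N19400 (tt N21640 (iv F41150)) (tt N17716 F35777) (tt N21642 (iv F41159)) (tt N21492 (iv F40810)) (tt N16593 (iv D19436)) (tt N21643 D21681))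
theorem Q19402 : ∀ i, i < 19402 → P i := stepQ 19401 Q19401 (allL N19401 (tt N17313 F35778) (tt N16596 F35779) (tt N19509 (iv F36079)) (tt N21644 D21682) (tt N16594 (iv D19437)) (tt N21528 (iv F40883)))
theorem Q19403 : ∀ i, i < 19403 → P i := stepQ 19402 Q19402 (allL N19402 (tt N16599 F35780) (tt N21644 (iv F41165)) (tt N21490 (iv F40801)) (tt N16596 (iv D19438)) (tt N21544 (iv F40939)) (tt N21529 (iv F40885)))
theorem Q19404 : ∀ i, i < 19404 → P i := stepQ 19403 Q19403 (allL N19403 (tt N21544 (iv F40937)) (tt N17289 F35781) (tt N19086 F35783) (tt N16598 (iv D19439)) (tt N16599 F35782) (tt N21645 D21683))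
theorem Q19405 : ∀ i, i < 19405 → P i := stepQ 19404 Q19404 (allL N19404 (tt N21542 (iv F40929)) (tt N17290 F35784) (tt N21540 F40923) (tt N21645 (iv F41169)) (tt N17350 F35785) (tt N16598 (iv D19440)))
theorem Q19406 : ∀ i, i < 19406 → P i := stepQ 19405 Q19405 (allL N19405 (tt N21490 (iv F40799)) (tt N17634 F35786) (tt N16599 (iv D19441)) (tt N17633 F35788) (tt N19086 F35787) (tt N20631 (iv F38680)))
theorem Q19407 : ∀ i, i < 19407 → P i := stepQ 19406 Q19406 (allL N19406 (tt N16603 F35789) (tt N19527 (iv F36145)) (tt N21639 (iv F41147)) (tt N16745 F35790) (tt N16601 (iv D19442)) (tt N16744 F35791))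
theorem Q19408 : ∀ i, i < 19408 → P i := stepQ 19407 Q19407 (allL N19407 (tt N21639 (iv F41146)) (tt N19517 (iv F36105)) (tt N16603 F35792) (tt N17092 (iv F35794)) (tt N16602 (iv D19443)) (tt N19242 F35793))
theorem Q19409 : ∀ i, i < 19409 → P i := stepQ 19408 Q19408 (allL N19408 (tt N19203 F35795) (tt N16606 F35796) (tt N19196 F35797) (tt N20347 (iv F38041)) (tt N16605 (iv D19444)) (tt N21040 (iv F39719)))
theorem Q19410 : ∀ i, i < 19410 → P i := stepQ 19409 Q19409 (allL N19409 (tt N19511 (iv F36086)) (tt N20347 (iv F38039)) (tt N19850 (iv F36851)) (tt N16606 (iv D19445)) (tt N19411 (iv F35805)) (tt N21038 (iv F39714)))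
theorem Q19411 : ∀ i, i < 19411 → P i := stepQ 19410 Q19410 (allL N19410 (tt N16724 F35798) (tt N16996 F35799) (tt N19559 (iv F36213)) (tt N16608 (iv D19446)) (tt N18288 F35800) (tt N16947 F35801))
theorem Q19412 : ∀ i, i < 19412 → P i := stepQ 19411 Q19411 (allL N19411 (tt N16716 F35802) (tt N17701 F35803) (tt N17080 F35804) (tt N16609 (iv D19447)) (tt N19409 F35805) (tt N17079 F35806))
theorem Q19413 : ∀ i, i < 19413 → P i := stepQ 19412 Q19412 (allL N19412 (tt N17013 F35810) (tt N16610 (iv D19448)) (tt N16733 F35807) (tt N20663 (iv F38783)) (tt N17001 F35808) (tt N16611 F35809))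
theorem Q19414 : ∀ i, i < 19414 → P i := stepQ 19413 Q19413 (allL N19413 (tt N16611 (iv D19449)) (tt N16995 F35811) (tt N16731 F35812) (tt N20660 (iv F38771)) (tt N16612 F35813) (tt N17013 F35814))
theorem Q19415 : ∀ i, i < 19415 → P i := stepQ 19414 Q19414 (allL N19414 (tt N17523 F35815) (tt N18561 F35816) (tt N17009 F35817) (tt N16613 (iv D19450)) (tt N18560 (iv F35818)) (tt N19516 (iv F36104)))
theorem Q19416 : ∀ i, i < 19416 → P i := stepQ 19415 Q19415 (allL N19415 (tt N18538 F35819) (tt N18556 F35820) (tt N16614 F35821) (tt N18555 F35822) (tt N16613 (iv D19451)) (tt N19241 (iv F35823)))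
theorem Q19417 : ∀ i, i < 19417 → P i := stepQ 19416 Q19416 (allL N19416 (tt N18539 F35824) (tt N16615 F35825) (tt N19241 F35826) (tt N16865 F35827) (tt N19518 (iv F36109)) (tt N16614 (iv D19452)))
theorem Q19418 : ∀ i, i < 19418 → P i := stepQ 19417 Q19417 (allL N19417 (tt N16617 F35828) (tt N19227 F35829) (tt N18574 F35830) (tt N19240 (iv F35831)) (tt N16616 (iv D19453)) (tt N19239 (iv F35832)))
theorem Q19419 : ∀ i, i < 19419 → P i := stepQ 19418 Q19418 (allL N19418 (tt N19239 F35833) (tt N16618 F35834) (tt N18573 F35835) (tt N19238 F35836) (tt N19529 (iv F36152)) (tt N16617 (iv D19454)))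
theorem Q19420 : ∀ i, i < 19420 → P i := stepQ 19419 Q19419 (allL N19419 (tt N19895 (iv F36936)) (tt N16621 F35837) (tt N16624 F35838) (tt N19880 F36916) (tt N18181 F35839) (tt N16619 (iv D19455)))
theorem Q19421 : ∀ i, i < 19421 → P i := stepQ 19420 Q19420 (allL N19420 (tt N16623 F35840) (tt N17760 F35841) (tt N21646 D21684) (tt N16622 (iv D19456)) (tt N18178 F35842) (tt N19901 (iv F36955)))
theorem Q19422 : ∀ i, i < 19422 → P i := stepQ 19421 Q19421 (allL N19421 (tt N16624 F35843) (tt N17761 F35844) (tt N19895 F36939) (tt N19901 (iv F36953)) (tt N18177 F35845) (tt N16622 (iv D19457)))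
theorem Q19423 : ∀ i, i < 19423 → P i := stepQ 19422 Q19422 (allL N19422 (tt N21646 (iv F41170)) (tt N19896 (iv F36940)) (tt N16623 (iv D19458)) (tt N19896 (iv F36942)) (tt N18182 F35846) (tt N19897 (iv F36945)))
theorem Q19424 : ∀ i, i < 19424 → P i := stepQ 19423 Q19423 (allL N19423 (tt N16626 F35847) (tt N17523 F35848) (tt N16625 (iv D19459)) (tt N16804 F35850) (tt N20535 (iv F38470)) (tt N17529 F35849))
theorem Q19425 : ∀ i, i < 19425 → P i := stepQ 19424 Q19424 (allL N19424 (tt N16627 F35851) (tt N16629 F35852) (tt N20535 (iv F38469)) (tt N16901 F35853) (tt N16625 (iv D19460)) (tt N20456 (iv F38308)))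
theorem Q19426 : ∀ i, i < 19426 → P i := stepQ 19425 Q19425 (allL N19425 (tt N16804 F35854) (tt N19228 F35855) (tt N16803 F35856) (tt N16626 (iv D19461)) (tt N19225 (iv F35857)) (tt N20159 (iv F37556)))
theorem Q19427 : ∀ i, i < 19427 → P i := stepQ 19426 Q19426 (allL N19426 (tt N20535 (iv F38468)) (tt N18552 F35858) (tt N16627 F35859) (tt N18553 F35860) (tt N16626 (iv D19462)) (tt N18550 (iv F35861)))
theorem Q19428 : ∀ i, i < 19428 → P i := stepQ 19427 Q19427 (allL N19427 (tt N20456 (iv F38305)) (tt N16628 F35862) (tt N18550 F35863) (tt N16904 F35864) (tt N20161 (iv F37561)) (tt N16627 (iv D19463)))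
theorem Q19429 : ∀ i, i < 19429 → P i := stepQ 19428 Q19428 (allL N19428 (tt N16630 (iv D19464)) (tt N17009 F35865) (tt N16633 F35866) (tt N16964 F35867) (tt N20533 (iv F38465)) (tt N16962 F35868))
theorem Q19430 : ∀ i, i < 19430 → P i := stepQ 19429 Q19429 (allL N19429 (tt N20533 (iv F38462)) (tt N16631 F35869) (tt N16634 F35870) (tt N20447 (iv F38282)) (tt N16630 (iv D19465)) (tt N20446 F38278))
theorem Q19431 : ∀ i, i < 19431 → P i := stepQ 19430 Q19430 (allL N19430 (tt N16634 F35871) (tt N18548 F35872) (tt N20533 (iv F38464)) (tt N18546 (iv F35873)) (tt N16633 (iv D19466)) (tt N18545 (iv F35874)))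
theorem Q19432 : ∀ i, i < 19432 → P i := stepQ 19431 Q19431 (allL N19431 (tt N18545 F35875) (tt N16635 F35876) (tt N20446 (iv F38276)) (tt N18544 F35877) (tt N17021 F35878) (tt N16634 (iv D19467)))
theorem Q19433 : ∀ i, i < 19433 → P i := stepQ 19432 Q19432 (allL N19432 (tt N18586 F35879) (tt N20004 (iv F37226)) (tt N18588 F35880) (tt N16636 (iv D19468)) (tt N18585 F35881) (tt N18588 F35882))
theorem Q19434 : ∀ i, i < 19434 → P i := stepQ 19433 Q19433 (allL N19433 (tt N16648 F35883) (tt N21647 D21685) (tt N16638 (iv D19469)) (tt N16643 F35884) (tt N16687 F35885) (tt N16642 F35886))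
theorem Q19435 : ∀ i, i < 19435 → P i := stepQ 19434 Q19434 (allL N19434 (tt N21648 D21686) (tt N16639 (iv D19470)) (tt N16641 F35887) (tt N21649 D21687) (tt N16751 F35888) (tt N21650 D21688))
theorem Q19436 : ∀ i, i < 19436 → P i := stepQ 19435 Q19435 (allL N19435 (tt N19553 (iv F36198)) (tt N21649 (iv F41178)) (tt N21651 D21689) (tt N16639 (iv D19471)) (tt N21652 D21690) (tt N21651 F41182))
theorem Q19437 : ∀ i, i < 19437 → P i := stepQ 19436 Q19436 (allL N19436 (tt N19554 (iv F36199)) (tt N21650 (iv F41179)) (tt N16640 F35889) (tt N21651 (iv F41181)) (tt N21653 D21691) (tt N16639 (iv D19472)))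
theorem Q19438 : ∀ i, i < 19438 → P i := stepQ 19437 Q19437 (allL N19437 (tt N19555 (iv F36201)) (tt N16644 F35890) (tt N21653 (iv F41184)) (tt N16748 F35891) (tt N16640 (iv D19473)) (tt N16749 F35892))
theorem Q19439 : ∀ i, i < 19439 → P i := stepQ 19438 Q19438 (allL N19438 (tt N16641 (iv D19474)) (tt N16760 F35893) (tt N21648 (iv F41176)) (tt N21654 D21692) (tt N16755 F35894) (tt N21655 D21693))
theorem Q19440 : ∀ i, i < 19440 → P i := stepQ 19439 Q19439 (allL N19439 (tt N21654 (iv F41186)) (tt N16642 F35895) (tt N17622 (iv F35897)) (tt N16641 (iv D19475)) (tt N16663 F35896) (tt N21647 (iv F41175)))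
theorem Q19441 : ∀ i, i < 19441 → P i := stepQ 19440 Q19440 (allL N19440 (tt N21655 (iv F41190)) (tt N16643 F35898) (tt N21650 (iv F41180)) (tt N21647 (iv F41173)) (tt N21656 D21694) (tt N16641 (iv D19476)))
theorem Q19442 : ∀ i, i < 19442 → P i := stepQ 19441 Q19441 (allL N19441 (tt N16758 F35899) (tt N21656 (iv F41192)) (tt N16644 F35900) (tt N21657 D21695) (tt N16643 (iv D19477)) (tt N16753 F35901))
theorem Q19443 : ∀ i, i < 19443 → P i := stepQ 19442 Q19442 (allL N19442 (tt N16646 F35902) (tt N17620 F35903) (tt N21658 D21696) (tt N16645 (iv D19478)) (tt N21659 D21697) (tt N17619 F35904))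
theorem Q19444 : ∀ i, i < 19444 → P i := stepQ 19443 Q19443 (allL N19443 (tt N21658 (iv F41198)) (tt N21660 D21698) (tt N16646 (iv D19479)) (tt N21661 D21699) (tt N21662 D21700) (tt N21663 D21701))
theorem Q19445 : ∀ i, i < 19445 → P i := stepQ 19444 Q19444 (allL N19444 (tt N21659 (iv F41200)) (tt N16649 F35905) (tt N21662 (iv F41206)) (tt N16653 F35906) (tt N16646 (iv D19480)) (tt N16667 (iv F35907)))
theorem Q19446 : ∀ i, i < 19446 → P i := stepQ 19445 Q19445 (allL N19445 (tt N17619 F35908) (tt N16650 F35909) (tt N21663 (iv F41210)) (tt N16647 F35910) (tt N16664 F35911) (tt N16646 (iv D19481)))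
theorem Q19447 : ∀ i, i < 19447 → P i := stepQ 19446 Q19446 (allL N19446 (tt N21664 D21702) (tt N16648 (iv D19482)) (tt N21660 (iv F41204)) (tt N16759 F35912) (tt N21665 D21703) (tt N16693 F35913))
theorem Q19448 : ∀ i, i < 19448 → P i := stepQ 19447 Q19447 (allL N19447 (tt N16687 F35914) (tt N21665 (iv F41214)) (tt N16649 F35915) (tt N21666 D21704) (tt N16648 (iv D19483)) (tt N16669 F35916))
theorem Q19449 : ∀ i, i < 19449 → P i := stepQ 19448 Q19448 (allL N19448 (tt N16652 F35917) (tt N18263 F35918) (tt N16651 (iv D19484)) (tt N18272 (iv F35920)) (tt N21667 D21705) (tt N16656 F35919))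
theorem Q19450 : ∀ i, i < 19450 → P i := stepQ 19449 Q19449 (allL N19449 (tt N16653 F35921) (tt N16685 F35922) (tt N21667 (iv F41222)) (tt N21659 (iv F41202)) (tt N16651 (iv D19485)) (tt N16671 F35923))
theorem Q19451 : ∀ i, i < 19451 → P i := stepQ 19450 Q19450 (allL N19450 (tt N21667 (iv F41220)) (tt N16659 F35924) (tt N16653 F35925) (tt N21668 D21706) (tt N16652 (iv D19486)) (tt N16673 F35926))
theorem Q19452 : ∀ i, i < 19452 → P i := stepQ 19451 Q19451 (allL N19451 (tt N16710 F35927) (tt N16674 F35928) (tt N16708 F35929) (tt N16678 F35930) (tt N16655 (iv D19487)) (tt N20034 (iv F37307)))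
theorem Q19453 : ∀ i, i < 19453 → P i := stepQ 19452 Q19452 (allL N19452 (tt N16657 F35931) (tt N18262 F35932) (tt N20182 (iv F37617)) (tt N16656 (iv D19488)) (tt N21669 D21707) (tt N18272 F35933))
theorem Q19454 : ∀ i, i < 19454 → P i := stepQ 19453 Q19453 (allL N19453 (tt N20182 (iv F37616)) (tt N18118 F35934) (tt N16657 (iv D19489)) (tt N20180 (iv F37614)) (tt N21122 F39878) (tt N18270 F35935))
theorem Q19455 : ∀ i, i < 19455 → P i := stepQ 19454 Q19454 (allL N19454 (tt N21669 (iv F41227)) (tt N16658 F35936) (tt N21122 (iv F39877)) (tt N16805 F35937) (tt N16657 (iv D19490)) (tt N21670 D21708))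
theorem Q19456 : ∀ i, i < 19456 → P i := stepQ 19455 Q19455 (allL N19455 (tt N18267 F35938) (tt N21670 (iv F41230)) (tt N18276 F35939) (tt N16806 F35940) (tt N18275 F35941) (tt N16658 (iv D19491)))
theorem Q19457 : ∀ i, i < 19457 → P i := stepQ 19456 Q19456 (allL N19456 (tt N18268 F35942) (tt N21668 (iv F41224)) (tt N18274 F35945) (tt N16659 (iv D19492)) (tt N18274 F35943) (tt N16770 F35944))
theorem Q19458 : ∀ i, i < 19458 → P i := stepQ 19457 Q19457 (allL N19457 (tt N21671 D21709) (tt N16660 (iv D19493)) (tt N16930 F35946) (tt N21672 D21710) (tt N16661 F35947) (tt N16765 F35948))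
theorem Q19459 : ∀ i, i < 19459 → P i := stepQ 19458 Q19458 (allL N19458 (tt N16689 F35949) (tt N21672 (iv F41238)) (tt N16699 F35952) (tt N16660 (iv D19494)) (tt N16699 F35950) (tt N16766 F35951))
theorem Q19460 : ∀ i, i < 19460 → P i := stepQ 19459 Q19459 (allL N19459 (tt N16661 (iv D19495)) (tt N16690 F35953) (tt N16927 F35954) (tt N16697 F35955) (tt N21671 (iv F41236)) (tt N16662 F35956))
theorem Q19461 : ∀ i, i < 19461 → P i := stepQ 19460 Q19460 (allL N19460 (tt N16663 F35957) (tt N16691 F35958) (tt N17621 (iv F35960)) (tt N16662 (iv D19496)) (tt N21654 (iv F41188)) (tt N16697 F35959))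
theorem Q19462 : ∀ i, i < 19462 → P i := stepQ 19461 Q19461 (allL N19461 (tt N17618 F35961) (tt N16692 F35962) (tt N16664 (iv D19497)) (tt N21673 D21711) (tt N21663 (iv F41211)) (tt N16666 F35963))
theorem Q19463 : ∀ i, i < 19463 → P i := stepQ 19462 Q19462 (allL N19462 (tt N16666 F35964) (tt N17603 F35965) (tt N16665 (iv D19498)) (tt N21674 D21712) (tt N21675 D21713) (tt N17618 F35966))
theorem Q19464 : ∀ i, i < 19464 → P i := stepQ 19463 Q19463 (allL N19463 (tt N16667 F35967) (tt N16694 F35968) (tt N21675 (iv F41251)) (tt N16671 F35969) (tt N16665 (iv D19499)) (tt N21659 (iv F41203)))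
theorem Q19465 : ∀ i, i < 19465 → P i := stepQ 19464 Q19464 (allL N19464 (tt N21676 D21714) (tt N16666 (iv D19500)) (tt N16668 F35970) (tt N21677 D21715) (tt N21678 D21716) (tt N16692 F35971))
theorem Q19466 : ∀ i, i < 19466 → P i := stepQ 19465 Q19465 (allL N19465 (tt N21674 (iv F41245)) (tt N21677 (iv F41257)) (tt N20097 (iv F37429)) (tt N16666 (iv D19501)) (tt N21679 D21717) (tt N21673 (iv F41243)))
theorem Q19467 : ∀ i, i < 19467 → P i := stepQ 19466 Q19466 (allL N19466 (tt N21675 (iv F41249)) (tt N21678 (iv F41260)) (tt N16667 F35972) (tt N21680 D21718) (tt N16666 (iv D19502)) (tt N21662 F41207))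
theorem Q19468 : ∀ i, i < 19468 → P i := stepQ 19467 Q19467 (allL N19467 (tt N16668 (iv D19503)) (tt N16697 F35973) (tt N21676 (iv F41253)) (tt N16690 F35974) (tt N21681 D21719) (tt N16691 F35975))
theorem Q19469 : ∀ i, i < 19469 → P i := stepQ 19468 Q19468 (allL N19468 (tt N21681 (iv F41262)) (tt N16669 F35976) (tt N21678 (iv F41261)) (tt N21682 D21720) (tt N16668 (iv D19504)) (tt N21665 (iv F41215)))
theorem Q19470 : ∀ i, i < 19470 → P i := stepQ 19469 Q19469 (allL N19469 (tt N16699 F35977) (tt N21682 (iv F41264)) (tt N16689 F35979) (tt N16669 (iv D19505)) (tt N16689 F35978) (tt N21666 (iv F41219)))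
theorem Q19471 : ∀ i, i < 19471 → P i := stepQ 19470 Q19470 (allL N19470 (tt N16767 F35980) (tt N16670 (iv D19506)) (tt N16700 F35981) (tt N16810 (iv F35983)) (tt N21683 D21721) (tt N16802 F35982))
theorem Q19472 : ∀ i, i < 19472 → P i := stepQ 19471 Q19471 (allL N19471 (tt N16672 F35984) (tt N16810 F35985) (tt N20159 (iv F37555)) (tt N16670 (iv D19507)) (tt N21684 D21722) (tt N16803 F35986))
theorem Q19473 : ∀ i, i < 19473 → P i := stepQ 19472 Q19472 (allL N19472 (tt N16673 F35987) (tt N21683 (iv F41267)) (tt N16671 F35988) (tt N21685 D21723) (tt N16670 (iv D19508)) (tt N21667 (iv F41223)))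
theorem Q19474 : ∀ i, i < 19474 → P i := stepQ 19473 Q19473 (allL N19473 (tt N20159 (iv F37553)) (tt N16807 F35989) (tt N16672 (iv D19509)) (tt N17529 F35990) (tt N21686 D21724) (tt N16804 F35991))
theorem Q19475 : ∀ i, i < 19475 → P i := stepQ 19474 Q19474 (allL N19474 (tt N21684 (iv F41270)) (tt N16769 F35992) (tt N21686 (iv F41274)) (tt N21687 D21725) (tt N16672 (iv D19510)) (tt N21688 D21726))
theorem Q19476 : ∀ i, i < 19476 → P i := stepQ 19475 Q19475 (allL N19475 (tt N21685 (iv F41272)) (tt N16770 F35993) (tt N21689 D21727) (tt N16673 (iv D19511)) (tt N21687 (iv F41276)) (tt N21668 (iv F41226)))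
theorem Q19477 : ∀ i, i < 19477 → P i := stepQ 19476 Q19476 (allL N19476 (tt N18035 F35994) (tt N20034 (iv F37304)) (tt N18042 F35995) (tt N16680 F35996) (tt N18041 F35997) (tt N16674 (iv D19512)))
theorem Q19478 : ∀ i, i < 19478 → P i := stepQ 19477 Q19477 (allL N19477 (tt N18036 F35998) (tt N16702 F35999) (tt N17437 F36002) (tt N16675 (iv D19513)) (tt N18040 F36000) (tt N16681 F36001))
theorem Q19479 : ∀ i, i < 19479 → P i := stepQ 19478 Q19478 (allL N19478 (tt N16678 F36003) (tt N18575 F36004) (tt N20109 (iv F37467)) (tt N16710 F36005) (tt N16676 (iv D19514)) (tt N20112 (iv F37478)))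
theorem Q19480 : ∀ i, i < 19480 → P i := stepQ 19479 Q19479 (allL N19479 (tt N16679 F36006) (tt N18576 F36007) (tt N16685 F36008) (tt N20111 (iv F37473)) (tt N16677 (iv D19515)) (tt N16701 F36009))
theorem Q19481 : ∀ i, i < 19481 → P i := stepQ 19480 Q19480 (allL N19480 (tt N20112 (iv F37475)) (tt N16680 F36010) (tt N20108 (iv F37464)) (tt N20034 (iv F37306)) (tt N18095 F36011) (tt N16678 (iv D19516)))
theorem Q19482 : ∀ i, i < 19482 → P i := stepQ 19481 Q19481 (allL N19481 (tt N20111 (iv F37472)) (tt N16681 F36012) (tt N20082 (iv F37390)) (tt N16679 (iv D19517)) (tt N18094 F36013) (tt N16702 F36014))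
theorem Q19483 : ∀ i, i < 19483 → P i := stepQ 19482 Q19482 (allL N19482 (tt N18579 F36015) (tt N21690 D21728) (tt N16681 (iv D19518)) (tt N17438 F36018) (tt N18096 F36016) (tt N17437 F36017))
theorem Q19484 : ∀ i, i < 19484 → P i := stepQ 19483 Q19483 (allL N19483 (tt N21691 D21729) (tt N16682 (iv D19519)) (tt N16873 F36019) (tt N21692 D21730) (tt N16683 F36020) (tt N16688 F36021))
theorem Q19485 : ∀ i, i < 19485 → P i := stepQ 19484 Q19484 (allL N19484 (tt N16766 F36022) (tt N21692 (iv F41287)) (tt N21666 (iv F41217)) (tt N16682 (iv D19520)) (tt N16762 F36023) (tt N16689 F36024))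
theorem Q19486 : ∀ i, i < 19486 → P i := stepQ 19485 Q19485 (allL N19485 (tt N16683 (iv D19521)) (tt N16764 F36025) (tt N16869 F36026) (tt N16763 F36027) (tt N21691 (iv F41285)) (tt N16684 F36028))
theorem Q19487 : ∀ i, i < 19487 → P i := stepQ 19486 Q19486 (allL N19486 (tt N16686 F36029) (tt N21659 (iv F41201)) (tt N17608 (iv F36032)) (tt N16685 (iv D19522)) (tt N17620 F36030) (tt N16694 F36031))
theorem Q19488 : ∀ i, i < 19488 → P i := stepQ 19487 Q19487 (allL N19487 (tt N17608 F36033) (tt N21693 D21731) (tt N16686 (iv D19523)) (tt N20069 (iv F37370)) (tt N17624 F36034) (tt N16696 F36035))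
theorem Q19489 : ∀ i, i < 19489 → P i := stepQ 19488 Q19488 (allL N19488 (tt N21694 D21732) (tt N16687 (iv D19524)) (tt N21693 (iv F41290)) (tt N21695 D21733) (tt N21647 (iv F41174)) (tt N16698 F36036))
theorem Q19490 : ∀ i, i < 19490 → P i := stepQ 19489 Q19489 (allL N19489 (tt N21666 (iv F41216)) (tt N21695 (iv F41294)) (tt N16766 F36037) (tt N16687 (iv D19525)) (tt N21657 (iv F41196)) (tt N16699 F36038))
theorem Q19491 : ∀ i, i < 19491 → P i := stepQ 19490 Q19490 (allL N19490 (tt N16688 (iv D19526)) (tt N21671 (iv F41234)) (tt N16880 F36039) (tt N21696 D21734) (tt N16690 F36040) (tt N21691 (iv F41286)))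
theorem Q19492 : ∀ i, i < 19492 → P i := stepQ 19491 Q19491 (allL N19491 (tt N21696 (iv F41296)) (tt N16689 F36041) (tt N21697 D21735) (tt N16688 (iv D19527)) (tt N21682 (iv F41265)) (tt N21692 (iv F41289)))
theorem Q19493 : ∀ i, i < 19493 → P i := stepQ 19492 Q19492 (allL N19492 (tt N16692 F36042) (tt N21698 D21736) (tt N16691 (iv D19528)) (tt N17406 F36043) (tt N21699 D21737) (tt N21676 (iv F41254)))
theorem Q19494 : ∀ i, i < 19494 → P i := stepQ 19493 Q19493 (allL N19493 (tt N16693 F36044) (tt N21654 (iv F41187)) (tt N21699 (iv F41302)) (tt N16760 F36045) (tt N16691 (iv D19529)) (tt N21664 (iv F41213)))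
theorem Q19495 : ∀ i, i < 19495 → P i := stepQ 19494 Q19494 (allL N19494 (tt N17406 F36046) (tt N21673 (iv F41242)) (tt N17405 F36047) (tt N16692 (iv D19530)) (tt N21700 D21738) (tt N21677 (iv F41259)))
theorem Q19496 : ∀ i, i < 19496 → P i := stepQ 19495 Q19495 (allL N19495 (tt N21699 (iv F41301)) (tt N21663 (iv F41209)) (tt N16693 F36048) (tt N21701 D21739) (tt N16692 (iv D19531)) (tt N21660 F41205))
theorem Q19497 : ∀ i, i < 19497 → P i := stepQ 19496 Q19496 (allL N19496 (tt N16695 (iv D19532)) (tt N17601 F36049) (tt N16697 F36050) (tt N17598 F36051) (tt N21702 D21740) (tt N17621 F36052))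
theorem Q19498 : ∀ i, i < 19498 → P i := stepQ 19497 Q19497 (allL N19497 (tt N21702 (iv F41305)) (tt N16696 F36053) (tt N16698 F36054) (tt N20067 (iv F37367)) (tt N16695 (iv D19533)) (tt N21693 (iv F41292)))
theorem Q19499 : ∀ i, i < 19499 → P i := stepQ 19498 Q19498 (allL N19498 (tt N16698 F36055) (tt N21681 (iv F41263)) (tt N21702 (iv F41307)) (tt N21703 D21741) (tt N16697 (iv D19534)) (tt N21694 (iv F41293)))
theorem Q19500 : ∀ i, i < 19500 → P i := stepQ 19499 Q19499 (allL N19499 (tt N21703 (iv F41308)) (tt N16699 F36056) (tt N21704 D21742) (tt N16698 (iv D19535)) (tt N21672 (iv F41239)) (tt N21695 (iv F41295)))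
theorem Q19501 : ∀ i, i < 19501 → P i := stepQ 19500 Q19500 (allL N19500 (tt N18034 F36057) (tt N16701 F36058) (tt N21683 (iv F41268)) (tt N21705 D21743) (tt N16700 (iv D19536)) (tt N18576 F36059))
theorem Q19502 : ∀ i, i < 19502 → P i := stepQ 19501 Q19501 (allL N19501 (tt N16702 F36060) (tt N21705 (iv F41310)) (tt N20044 (iv F37326)) (tt N16701 (iv D19537)) (tt N17297 F36061) (tt N20111 (iv F37474)))
theorem Q19503 : ∀ i, i < 19503 → P i := stepQ 19502 Q19502 (allL N19502 (tt N20044 (iv F37325)) (tt N21706 D21744) (tt N16702 (iv D19538)) (tt N20081 (iv F37386)) (tt N20027 F37288) (tt N20082 (iv F37389)))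
theorem Q19504 : ∀ i, i < 19504 → P i := stepQ 19503 Q19503 (allL N19503 (tt N20110 (iv F37470)) (tt N16705 F36062) (tt N21707 D21745) (tt N16704 (iv D19539)) (tt N18578 F36063) (tt N21404 (iv F40573)))
theorem Q19505 : ∀ i, i < 19505 → P i := stepQ 19504 Q19504 (allL N19504 (tt N19990 (iv F37190)) (tt N16706 F36064) (tt N17240 F36065) (tt N21404 (iv F40572)) (tt N18577 F36066) (tt N16704 (iv D19540)))
theorem Q19506 : ∀ i, i < 19506 → P i := stepQ 19505 Q19505 (allL N19505 (tt N17286 F36067) (tt N16708 F36068) (tt N18038 F36069) (tt N19970 (iv F37134)) (tt N16707 (iv D19541)) (tt N20033 (iv F37302)))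
theorem Q19507 : ∀ i, i < 19507 → P i := stepQ 19506 Q19506 (allL N19506 (tt N18033 F36070) (tt N16710 F36071) (tt N17314 F36072) (tt N18575 F36073) (tt N16709 (iv D19542)) (tt N21708 D21746))
theorem Q19508 : ∀ i, i < 19508 → P i := stepQ 19507 Q19507 (allL N19507 (tt N20034 (iv F37303)) (tt N21708 (iv F41319)) (tt N16711 F36074) (tt N20112 (iv F37477)) (tt N17298 F36075) (tt N16710 (iv D19543)))
theorem Q19509 : ∀ i, i < 19509 → P i := stepQ 19508 Q19508 (allL N19508 (tt N19510 (iv F36082)) (tt N16712 (iv D19544)) (tt N20047 (iv F37332)) (tt N19509 F36081) (tt N19240 F36076) (tt N16713 F36077))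
theorem Q19510 : ∀ i, i < 19510 → P i := stepQ 19509 Q19509 (allL N19509 (tt N16713 (iv D19545)) (tt N16720 F36078) (tt N19401 F36079) (tt N19508 (iv F36081)) (tt N16715 F36080) (tt N19510 (iv F36085)))
theorem Q19511 : ∀ i, i < 19511 → P i := stepQ 19510 Q19510 (allL N19510 (tt N19508 F36082) (tt N16714 F36083) (tt N21528 (iv F40881)) (tt N16713 (iv D19546)) (tt N18773 F36084) (tt N19509 F36085))
theorem Q19512 : ∀ i, i < 19512 → P i := stepQ 19511 Q19511 (allL N19511 (tt N19409 F36086) (tt N21640 (iv F41151)) (tt N17087 F36087) (tt N16719 F36088) (tt N16716 (iv D19547)) (tt N18650 F36089))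
theorem Q19513 : ∀ i, i < 19513 → P i := stepQ 19512 Q19512 (allL N19512 (tt N21491 (iv F40803)) (tt N17635 F36090) (tt N16718 (iv D19548)) (tt N20631 (iv F38679)) (tt N19085 (iv F36092)) (tt N17633 F36091))
theorem Q19514 : ∀ i, i < 19514 → P i := stepQ 19513 Q19513 (allL N19513 (tt N21492 (iv F40807)) (tt N16719 F36093) (tt N19085 F36094) (tt N21640 (iv F41153)) (tt N16718 (iv D19549)) (tt N18649 F36095))
theorem Q19515 : ∀ i, i < 19515 → P i := stepQ 19514 Q19514 (allL N19514 (tt N19559 (iv F36211)) (tt N21709 D21747) (tt N16724 (iv D19550)) (tt N16750 F36096) (tt N18289 F36097) (tt N16752 (iv F36098)))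
theorem Q19516 : ∀ i, i < 19516 → P i := stepQ 19515 Q19515 (allL N19515 (tt N16947 F36099) (tt N18291 F36100) (tt N16752 F36101) (tt N16725 F36102) (tt N21710 D21748) (tt N16724 (iv D19551)))
theorem Q19517 : ∀ i, i < 19517 → P i := stepQ 19516 Q19516 (allL N19516 (tt N19591 (iv F36290)) (tt N19393 F36103) (tt N19598 (iv F36310)) (tt N16728 (iv D19552)) (tt N21711 D21749) (tt N19414 F36104))
theorem Q19518 : ∀ i, i < 19518 → P i := stepQ 19517 Q19517 (allL N19517 (tt N19592 (iv F36294)) (tt N19407 F36105) (tt N16729 F36106) (tt N19859 (iv F36864)) (tt N16728 (iv D19553)) (tt N21527 (iv F40879)))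
theorem Q19519 : ∀ i, i < 19519 → P i := stepQ 19518 Q19518 (allL N19518 (tt N19593 (iv F36296)) (tt N16730 F36107) (tt N21527 (iv F40878)) (tt N17089 F36108) (tt N19416 F36109) (tt N16729 (iv D19554)))
theorem Q19520 : ∀ i, i < 19520 → P i := stepQ 19519 Q19519 (allL N19519 (tt N17014 F36110) (tt N16734 F36111) (tt N17001 F36112) (tt N17019 F36113) (tt N16733 (iv D19555)) (tt N16739 F36114))
theorem Q19521 : ∀ i, i < 19521 → P i := stepQ 19520 Q19520 (allL N19520 (tt N16738 F36115) (tt N17018 F36116) (tt N18542 F36117) (tt N16987 F36118) (tt N16735 (iv D19556)) (tt N16986 F36119))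
theorem Q19522 : ∀ i, i < 19522 → P i := stepQ 19521 Q19521 (allL N19521 (tt N16739 F36120) (tt N17017 F36121) (tt N16999 F36122) (tt N17021 F36123) (tt N16736 (iv D19557)) (tt N17014 F36124))
theorem Q19523 : ∀ i, i < 19523 → P i := stepQ 19522 Q19522 (allL N19522 (tt N18541 F36125) (tt N18340 F36126) (tt N18324 F36127) (tt N16737 (iv D19558)) (tt N21712 D21750) (tt N18526 F36128))
theorem Q19524 : ∀ i, i < 19524 → P i := stepQ 19523 Q19523 (allL N19523 (tt N18542 F36129) (tt N18523 F36130) (tt N16738 F36131) (tt N21713 D21751) (tt N16737 (iv D19559)) (tt N18618 F36132))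
theorem Q19525 : ∀ i, i < 19525 → P i := stepQ 19524 Q19524 (allL N19524 (tt N16986 F36133) (tt N16740 F36134) (tt N18618 F36135) (tt N16983 F36136) (tt N18546 F36137) (tt N16738 (iv D19560)))
theorem Q19526 : ∀ i, i < 19526 → P i := stepQ 19525 Q19525 (allL N19525 (tt N17021 F36138) (tt N16741 F36139) (tt N21714 D21752) (tt N16739 (iv D19561)) (tt N18545 F36140) (tt N17019 F36141))
theorem Q19527 : ∀ i, i < 19527 → P i := stepQ 19526 Q19526 (allL N19526 (tt N18549 F36142) (tt N20529 (iv F38459)) (tt N16741 (iv D19562)) (tt N21715 D21753) (tt N18547 F36143) (tt N21638 (iv F41145)))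
theorem Q19528 : ∀ i, i < 19528 → P i := stepQ 19527 Q19527 (allL N19527 (tt N16743 F36144) (tt N19406 F36145) (tt N19594 (iv F36301)) (tt N19529 (iv F36151)) (tt N16742 (iv D19563)) (tt N19528 F36148))
theorem Q19529 : ∀ i, i < 19529 → P i := stepQ 19528 Q19528 (allL N19528 (tt N19529 (iv F36149)) (tt N16744 F36146) (tt N21716 D21754) (tt N16743 (iv D19564)) (tt N19239 F36147) (tt N19527 (iv F36148)))
theorem Q19530 : ∀ i, i < 19530 → P i := stepQ 19529 Q19529 (allL N19529 (tt N19528 F36149) (tt N16745 F36150) (tt N19596 (iv F36304)) (tt N19527 F36151) (tt N19418 F36152) (tt N16743 (iv D19565)))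
theorem Q19531 : ∀ i, i < 19531 → P i := stepQ 19530 Q19530 (allL N19530 (tt N19242 F36153) (tt N21717 D21755) (tt N16744 (iv D19566)) (tt N21718 D21756) (tt N19229 F36154) (tt N21639 (iv F41149)))
theorem Q19532 : ∀ i, i < 19532 → P i := stepQ 19531 Q19531 (allL N19531 (tt N19560 (iv F36216)) (tt N21719 D21757) (tt N16749 (iv D19567)) (tt N19649 (iv F36429)) (tt N16750 F36155) (tt N21653 (iv F41185)))
theorem Q19533 : ∀ i, i < 19533 → P i := stepQ 19532 Q19532 (allL N19532 (tt N19648 (iv F36424)) (tt N16750 (iv D19568)) (tt N16754 F36156) (tt N21709 (iv F41325)) (tt N21719 (iv F41357)) (tt N16751 F36157))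
theorem Q19534 : ∀ i, i < 19534 → P i := stepQ 19533 Q19533 (allL N19533 (tt N16751 (iv D19569)) (tt N19556 (iv F36205)) (tt N16755 F36158) (tt N18246 (iv F36159)) (tt N21648 (iv F41177)) (tt N19648 (iv F36426)))
theorem Q19535 : ∀ i, i < 19535 → P i := stepQ 19534 Q19534 (allL N19534 (tt N18246 F36160) (tt N16752 F36161) (tt N18245 F36162) (tt N16751 (iv D19570)) (tt N21720 D21758) (tt N21709 (iv F41327)))
theorem Q19536 : ∀ i, i < 19536 → P i := stepQ 19535 Q19535 (allL N19535 (tt N19558 (iv F36210)) (tt N21720 (iv F41359)) (tt N21710 (iv F41330)) (tt N21652 (iv F41183)) (tt N16752 (iv D19571)) (tt N21721 D21759))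
theorem Q19537 : ∀ i, i < 19537 → P i := stepQ 19536 Q19536 (allL N19536 (tt N21722 D21760) (tt N16753 (iv D19572)) (tt N21719 (iv F41356)) (tt N21723 D21761) (tt N16754 F36163) (tt N21656 (iv F41193)))
theorem Q19538 : ∀ i, i < 19538 → P i := stepQ 19537 Q19537 (allL N19537 (tt N16762 F36164) (tt N21723 (iv F41367)) (tt N21657 (iv F41195)) (tt N16753 (iv D19573)) (tt N16766 F36165) (tt N21657 (iv F41197)))
theorem Q19539 : ∀ i, i < 19539 → P i := stepQ 19538 Q19538 (allL N19538 (tt N16754 (iv D19574)) (tt N16763 F36166) (tt N19648 (iv F36425)) (tt N16764 F36167) (tt N21722 (iv F41366)) (tt N16755 F36168))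
theorem Q19540 : ∀ i, i < 19540 → P i := stepQ 19539 Q19539 (allL N19539 (tt N20164 (iv F37567)) (tt N16757 F36169) (tt N16757 F36172) (tt N16756 (iv D19575)) (tt N16757 F36170) (tt N16757 F36171))
theorem Q19541 : ∀ i, i < 19541 → P i := stepQ 19540 Q19540 (allL N19540 (tt N21724 D21762) (tt N16758 (iv D19576)) (tt N19576 (iv F36258)) (tt N21725 D21763) (tt N16759 F36173) (tt N16761 F36174))
theorem Q19542 : ∀ i, i < 19542 → P i := stepQ 19541 Q19541 (allL N19541 (tt N21657 (iv F41194)) (tt N21725 (iv F41371)) (tt N16762 F36176) (tt N16758 (iv D19577)) (tt N21666 (iv F41218)) (tt N16762 F36175))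
theorem Q19543 : ∀ i, i < 19543 → P i := stepQ 19542 Q19542 (allL N19542 (tt N16759 (iv D19578)) (tt N21655 (iv F41191)) (tt N19572 (iv F36252)) (tt N21664 (iv F41212)) (tt N21724 (iv F41369)) (tt N16760 F36177))
theorem Q19544 : ∀ i, i < 19544 → P i := stepQ 19543 Q19543 (allL N19543 (tt N16761 (iv D19579)) (tt N21722 (iv F41365)) (tt N19583 (iv F36273)) (tt N21726 D21764) (tt N16763 F36178) (tt N21724 (iv F41370)))
theorem Q19545 : ∀ i, i < 19545 → P i := stepQ 19544 Q19544 (allL N19544 (tt N21726 (iv F41373)) (tt N16762 F36179) (tt N21727 D21765) (tt N16761 (iv D19580)) (tt N21692 (iv F41288)) (tt N21725 (iv F41372)))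
theorem Q19546 : ∀ i, i < 19546 → P i := stepQ 19545 Q19545 (allL N19545 (tt N16765 F36180) (tt N21691 (iv F41283)) (tt N16935 F36181) (tt N21728 D21766) (tt N16764 (iv D19581)) (tt N21671 (iv F41237)))
theorem Q19547 : ∀ i, i < 19547 → P i := stepQ 19546 Q19546 (allL N19546 (tt N21728 (iv F41374)) (tt N16766 F36182) (tt N21729 D21767) (tt N16765 (iv D19582)) (tt N21723 (iv F41368)) (tt N21672 (iv F41240)))
theorem Q19548 : ∀ i, i < 19548 → P i := stepQ 19547 Q19547 (allL N19547 (tt N21683 (iv F41266)) (tt N16768 F36183) (tt N18034 F36184) (tt N21730 D21768) (tt N16767 (iv D19583)) (tt N18266 F36185))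
theorem Q19549 : ∀ i, i < 19549 → P i := stepQ 19548 Q19548 (allL N19548 (tt N16770 F36186) (tt N21730 (iv F41375)) (tt N21731 D21769) (tt N16768 (iv D19584)) (tt N16812 F36187) (tt N18268 F36188))
theorem Q19550 : ∀ i, i < 19550 → P i := stepQ 19549 Q19549 (allL N19549 (tt N16812 F36189) (tt N21687 (iv F41275)) (tt N21732 D21770) (tt N16769 (iv D19585)) (tt N16770 F36190) (tt N21732 F41385))
theorem Q19551 : ∀ i, i < 19551 → P i := stepQ 19550 Q19550 (allL N19550 (tt N16813 F36191) (tt N21688 (iv F41277)) (tt N16809 F36192) (tt N21732 (iv F41383)) (tt N16806 F36193) (tt N16769 (iv D19586)))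
theorem Q19552 : ∀ i, i < 19552 → P i := stepQ 19551 Q19551 (allL N19551 (tt N21731 (iv F41378)) (tt N21733 D21771) (tt N16770 (iv D19587)) (tt N18275 F36195) (tt N21732 (iv F41384)) (tt N18274 F36194))
theorem Q19553 : ∀ i, i < 19553 → P i := stepQ 19552 Q19552 (allL N19552 (tt N21734 D21772) (tt N16771 (iv D19588)) (tt N16777 F36196) (tt N21735 D21773) (tt N16773 F36197) (tt N21736 D21774))
theorem Q19554 : ∀ i, i < 19554 → P i := stepQ 19553 Q19553 (allL N19553 (tt N19435 F36198) (tt N21735 (iv F41391)) (tt N21737 D21775) (tt N16771 (iv D19589)) (tt N21738 D21776) (tt N21737 F41397))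
theorem Q19555 : ∀ i, i < 19555 → P i := stepQ 19554 Q19554 (allL N19554 (tt N19436 F36199) (tt N21736 (iv F41392)) (tt N16772 F36200) (tt N21737 (iv F41396)) (tt N21739 D21777) (tt N16771 (iv D19590)))
theorem Q19556 : ∀ i, i < 19556 → P i := stepQ 19555 Q19555 (allL N19555 (tt N19437 F36201) (tt N16780 F36202) (tt N21739 (iv F41402)) (tt N17473 F36203) (tt N16772 (iv D19591)) (tt N16776 F36204))
theorem Q19557 : ∀ i, i < 19557 → P i := stepQ 19556 Q19556 (allL N19556 (tt N16773 (iv D19592)) (tt N19533 F36205) (tt N16781 F36206) (tt N20765 (iv F39052)) (tt N21734 (iv F41390)) (tt N16856 F36207))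
theorem Q19558 : ∀ i, i < 19558 → P i := stepQ 19557 Q19557 (allL N19557 (tt N20765 (iv F39050)) (tt N16774 F36208) (tt N20644 (iv F38725)) (tt N16773 (iv D19593)) (tt N21740 D21778) (tt N16859 F36209))
theorem Q19559 : ∀ i, i < 19559 → P i := stepQ 19558 Q19558 (allL N19558 (tt N19535 F36210) (tt N21740 (iv F41406)) (tt N19729 (iv F36615)) (tt N21738 (iv F41399)) (tt N16774 (iv D19594)) (tt N21740 (iv F41407)))
theorem Q19560 : ∀ i, i < 19560 → P i := stepQ 19559 Q19559 (allL N19559 (tt N19514 F36211) (tt N16859 F36212) (tt N19410 F36213) (tt N16775 F36214) (tt N16859 (iv F36215)) (tt N16774 (iv D19595)))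
theorem Q19561 : ∀ i, i < 19561 → P i := stepQ 19560 Q19560 (allL N19560 (tt N19531 F36216) (tt N16860 F36217) (tt N16776 F36218) (tt N16860 F36219) (tt N16775 (iv D19596)) (tt N21739 (iv F41403)))
theorem Q19562 : ∀ i, i < 19562 → P i := stepQ 19561 Q19561 (allL N19561 (tt N16777 (iv D19597)) (tt N16788 F36220) (tt N21734 (iv F41389)) (tt N21741 D21779) (tt N16781 F36221) (tt N21742 D21780))
theorem Q19563 : ∀ i, i < 19563 → P i := stepQ 19562 Q19562 (allL N19562 (tt N21741 (iv F41408)) (tt N16778 F36222) (tt N21743 D21781) (tt N16777 (iv D19598)) (tt N16862 F36223) (tt N21744 D21782))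
theorem Q19564 : ∀ i, i < 19564 → P i := stepQ 19563 Q19563 (allL N19563 (tt N21742 (iv F41412)) (tt N16779 F36224) (tt N21736 (iv F41393)) (tt N21744 (iv F41419)) (tt N16861 F36225) (tt N16777 (iv D19599)))
theorem Q19565 : ∀ i, i < 19565 → P i := stepQ 19564 Q19564 (allL N19564 (tt N16791 F36226) (tt N21001 (iv F39614)) (tt N16778 (iv D19600)) (tt N16786 F36227) (tt N16863 F36228) (tt N16785 (iv F36229)))
theorem Q19566 : ∀ i, i < 19566 → P i := stepQ 19565 Q19565 (allL N19565 (tt N16793 F36230) (tt N21744 (iv F41418)) (tt N16785 F36231) (tt N16779 F36232) (tt N21745 D21783) (tt N16778 (iv D19601)))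
theorem Q19567 : ∀ i, i < 19567 → P i := stepQ 19566 Q19566 (allL N19566 (tt N17250 F36233) (tt N16787 F36234) (tt N17251 F36235) (tt N17460 F36236) (tt N16783 (iv D19602)) (tt N17332 F36237))
theorem Q19568 : ∀ i, i < 19568 → P i := stepQ 19567 Q19567 (allL N19567 (tt N16784 (iv D19603)) (tt N17482 F36238) (tt N17326 F36239) (tt N20795 (iv F39122)) (tt N17360 F36240) (tt N17325 F36241))
theorem Q19569 : ∀ i, i < 19569 → P i := stepQ 19568 Q19568 (allL N19568 (tt N20795 (iv F39119)) (tt N16785 F36242) (tt N20768 (iv F39058)) (tt N16784 (iv D19604)) (tt N20793 (iv F39114)) (tt N21001 (iv F39616)))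
theorem Q19570 : ∀ i, i < 19570 → P i := stepQ 19569 Q19569 (allL N19569 (tt N17484 F36243) (tt N20793 F39116) (tt N21745 (iv F41421)) (tt N17205 F36244) (tt N16785 (iv D19605)) (tt N21746 D21784))
theorem Q19571 : ∀ i, i < 19571 → P i := stepQ 19570 Q19570 (allL N19570 (tt N17469 F36245) (tt N17323 F36246) (tt N16787 F36247) (tt N17363 (iv F36249)) (tt N16786 (iv D19606)) (tt N17352 F36248))
theorem Q19572 : ∀ i, i < 19572 → P i := stepQ 19571 Q19571 (allL N19571 (tt N16789 F36250) (tt N21741 (iv F41409)) (tt N21747 D21785) (tt N16788 (iv D19607)) (tt N21748 D21786) (tt N21749 D21787))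
theorem Q19573 : ∀ i, i < 19573 → P i := stepQ 19572 Q19572 (allL N19572 (tt N16790 F36251) (tt N21742 (iv F41413)) (tt N19542 F36252) (tt N21749 (iv F41434)) (tt N21750 D21788) (tt N16788 (iv D19608)))
theorem Q19574 : ∀ i, i < 19574 → P i := stepQ 19573 Q19573 (allL N19573 (tt N21747 (iv F41429)) (tt N21751 D21789) (tt N16789 (iv D19609)) (tt N21752 D21790) (tt N21753 D21791) (tt N21754 D21792))
theorem Q19575 : ∀ i, i < 19575 → P i := stepQ 19574 Q19574 (allL N19574 (tt N21748 (iv F41430)) (tt N16792 F36253) (tt N21753 (iv F41441)) (tt N16798 F36254) (tt N16789 (iv D19610)) (tt N21755 D21793))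
theorem Q19576 : ∀ i, i < 19576 → P i := stepQ 19575 Q19575 (allL N19575 (tt N21749 (iv F41433)) (tt N16793 F36255) (tt N21754 (iv F41443)) (tt N16790 F36256) (tt N21756 D21794) (tt N16789 (iv D19611)))
theorem Q19577 : ∀ i, i < 19577 → P i := stepQ 19576 Q19576 (allL N19576 (tt N21750 (iv F41435)) (tt N16794 F36257) (tt N19540 F36258) (tt N21757 D21795) (tt N16790 (iv D19612)) (tt N16799 F36259))
theorem Q19578 : ∀ i, i < 19578 → P i := stepQ 19577 Q19577 (allL N19577 (tt N21758 D21796) (tt N16791 (iv D19613)) (tt N21751 (iv F41439)) (tt N17481 F36260) (tt N21759 D21797) (tt N17483 F36261))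
theorem Q19579 : ∀ i, i < 19579 → P i := stepQ 19578 Q19578 (allL N19578 (tt N16863 F36262) (tt N21759 (iv F41452)) (tt N16792 F36263) (tt N19917 (iv F36994)) (tt N16791 (iv D19614)) (tt N19919 (iv F36998)))
theorem Q19580 : ∀ i, i < 19580 → P i := stepQ 19579 Q19579 (allL N19579 (tt N16855 F36264) (tt N21755 (iv F41444)) (tt N19919 (iv F36997)) (tt N16800 F36265) (tt N21760 D21798) (tt N16792 (iv D19615)))
theorem Q19581 : ∀ i, i < 19581 → P i := stepQ 19580 Q19580 (allL N19580 (tt N21745 (iv F41420)) (tt N21756 (iv F41446)) (tt N17484 F36266) (tt N21761 D21799) (tt N16793 (iv D19616)) (tt N21760 (iv F41456)))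
theorem Q19582 : ∀ i, i < 19582 → P i := stepQ 19581 Q19581 (allL N19581 (tt N16853 F36267) (tt N21757 (iv F41447)) (tt N21762 D21800) (tt N16794 (iv D19617)) (tt N21761 (iv F41459)) (tt N16801 F36268))
theorem Q19583 : ∀ i, i < 19583 → P i := stepQ 19582 Q19582 (allL N19582 (tt N16798 F36269) (tt N16858 F36270) (tt N20801 (iv F39142)) (tt N21748 (iv F41432)) (tt N16795 (iv D19618)) (tt N21763 D21801))
theorem Q19584 : ∀ i, i < 19584 → P i := stepQ 19583 Q19583 (allL N19583 (tt N16799 F36271) (tt N16857 F36272) (tt N19543 F36273) (tt N21764 D21802) (tt N16796 (iv D19619)) (tt N21750 (iv F41438)))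
theorem Q19585 : ∀ i, i < 19585 → P i := stepQ 19584 Q19584 (allL N19584 (tt N20801 (iv F39140)) (tt N16834 F36274) (tt N16798 F36275) (tt N21765 D21803) (tt N16797 (iv D19620)) (tt N21766 D21804))
theorem Q19586 : ∀ i, i < 19586 → P i := stepQ 19585 Q19585 (allL N19585 (tt N21763 (iv F41465)) (tt N16800 F36276) (tt N21766 (iv F41473)) (tt N21755 (iv F41445)) (tt N16837 F36277) (tt N16798 (iv D19621)))
theorem Q19587 : ∀ i, i < 19587 → P i := stepQ 19586 Q19586 (allL N19586 (tt N21764 (iv F41468)) (tt N16801 F36278) (tt N21767 D21805) (tt N16799 (iv D19622)) (tt N16836 F36279) (tt N21757 (iv F41448)))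
theorem Q19588 : ∀ i, i < 19588 → P i := stepQ 19587 Q19587 (allL N19587 (tt N16852 F36280) (tt N21768 D21806) (tt N16801 (iv D19623)) (tt N21769 D21807) (tt N16838 F36281) (tt N21762 (iv F41464)))
theorem Q19589 : ∀ i, i < 19589 → P i := stepQ 19588 Q19588 (allL N19588 (tt N16805 F36282) (tt N18574 F36283) (tt N19225 F36284) (tt N21669 (iv F41229)) (tt N16803 (iv D19624)) (tt N21770 D21808))
theorem Q19590 : ∀ i, i < 19590 → P i := stepQ 19589 Q19589 (allL N19589 (tt N19225 F36285) (tt N18538 F36286) (tt N16805 F36287) (tt N19224 (iv F36288)) (tt N16804 (iv D19625)) (tt N21771 D21809))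
theorem Q19591 : ∀ i, i < 19591 → P i := stepQ 19590 Q19590 (allL N19590 (tt N21770 (iv F41481)) (tt N16806 F36289) (tt N21771 (iv F41486)) (tt N21670 (iv F41232)) (tt N21688 (iv F41278)) (tt N16805 (iv D19626)))
theorem Q19592 : ∀ i, i < 19592 → P i := stepQ 19591 Q19591 (allL N19591 (tt N19516 F36290) (tt N17529 F36291) (tt N16816 F36292) (tt N16807 (iv D19627)) (tt N21772 D21810) (tt N17523 F36293))
theorem Q19593 : ∀ i, i < 19593 → P i := stepQ 19592 Q19592 (allL N19592 (tt N19517 F36294) (tt N21686 (iv F41273)) (tt N16808 F36295) (tt N21773 D21811) (tt N16807 (iv D19628)) (tt N21774 D21812))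
theorem Q19594 : ∀ i, i < 19594 → P i := stepQ 19593 Q19593 (allL N19593 (tt N19518 F36296) (tt N16809 F36297) (tt N21774 (iv F41493)) (tt N16925 F36298) (tt N18539 F36299) (tt N16808 (iv D19629)))
theorem Q19595 : ∀ i, i < 19595 → P i := stepQ 19594 Q19594 (allL N19594 (tt N16811 F36300) (tt N21684 (iv F41271)) (tt N19527 F36301) (tt N21775 D21813) (tt N16810 (iv D19630)) (tt N21716 (iv F41350)))
theorem Q19596 : ∀ i, i < 19596 → P i := stepQ 19595 Q19595 (allL N19595 (tt N21775 (iv F41495)) (tt N16812 F36302) (tt N21776 D21814) (tt N16811 (iv D19631)) (tt N21730 (iv F41376)) (tt N21777 D21815))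
theorem Q19597 : ∀ i, i < 19597 → P i := stepQ 19596 Q19596 (allL N19596 (tt N21716 (iv F41348)) (tt N16813 F36303) (tt N19529 F36304) (tt N21777 (iv F41498)) (tt N18573 F36305) (tt N16811 (iv D19632)))
theorem Q19598 : ∀ i, i < 19598 → P i := stepQ 19597 Q19597 (allL N19597 (tt N21732 (iv F41382)) (tt N21777 (iv F41497)) (tt N16812 (iv D19633)) (tt N16813 F36306) (tt N21731 (iv F41380)) (tt N16812 (iv F36307)))
theorem Q19599 : ∀ i, i < 19599 → P i := stepQ 19598 Q19598 (allL N19598 (tt N16816 F36308) (tt N16962 F36309) (tt N19516 F36310) (tt N16814 (iv D19634)) (tt N21778 D21816) (tt N17009 F36311))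
theorem Q19600 : ∀ i, i < 19600 → P i := stepQ 19599 Q19599 (allL N19599 (tt N16817 F36312) (tt N16963 F36313) (tt N16815 F36314) (tt N21779 D21817) (tt N16814 (iv D19635)) (tt N18396 F36315))
theorem Q19601 : ∀ i, i < 19601 → P i := stepQ 19600 Q19600 (allL N19600 (tt N21778 (iv F41499)) (tt N17499 F36316) (tt N21772 (iv F41490)) (tt N21780 D21818) (tt N16816 (iv D19636)) (tt N20455 (iv F38304)))
theorem Q19602 : ∀ i, i < 19602 → P i := stepQ 19601 Q19601 (allL N19601 (tt N21779 (iv F41502)) (tt N17500 F36317) (tt N21781 D21819) (tt N16817 (iv D19637)) (tt N21780 (iv F41506)) (tt N21782 D21820))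
theorem Q19603 : ∀ i, i < 19603 → P i := stepQ 19602 Q19602 (allL N19602 (tt N18396 F36318) (tt N17501 F36319) (tt N16818 F36320) (tt N21782 (iv F41510)) (tt N17524 F36321) (tt N16817 (iv D19638)))
theorem Q19604 : ∀ i, i < 19604 → P i := stepQ 19603 Q19603 (allL N19603 (tt N16820 F36322) (tt N16959 F36323) (tt N16822 F36324) (tt N17940 F36325) (tt N16819 (iv D19639)) (tt N21783 D21821))
theorem Q19605 : ∀ i, i < 19605 → P i := stepQ 19604 Q19604 (allL N19604 (tt N21783 (iv F41511)) (tt N16821 F36326) (tt N16824 F36327) (tt N17943 F36328) (tt N17012 F36329) (tt N16820 (iv D19640)))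
theorem Q19606 : ∀ i, i < 19606 → P i := stepQ 19605 Q19605 (allL N19605 (tt N16824 F36330) (tt N17498 F36331) (tt N21783 (iv F41513)) (tt N20642 (iv F38717)) (tt N17509 F36332) (tt N16822 (iv D19641)))
theorem Q19607 : ∀ i, i < 19607 → P i := stepQ 19606 Q19606 (allL N19606 (tt N20637 (iv F38702)) (tt N21784 D21822) (tt N16823 (iv D19642)) (tt N21785 D21823) (tt N17467 F36333) (tt N21786 D21824))
theorem Q19608 : ∀ i, i < 19608 → P i := stepQ 19607 Q19607 (allL N19607 (tt N20642 (iv F38715)) (tt N16826 F36334) (tt N21786 (iv F41518)) (tt N16824 F36335) (tt N21787 D21825) (tt N16823 (iv D19643)))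
theorem Q19609 : ∀ i, i < 19609 → P i := stepQ 19608 Q19608 (allL N19608 (tt N21788 D21826) (tt N16825 (iv D19644)) (tt N21784 (iv F41516)) (tt N21789 D21827) (tt N17468 F36336) (tt N21790 D21828))
theorem Q19610 : ∀ i, i < 19610 → P i := stepQ 19609 Q19609 (allL N19609 (tt N17495 F36337) (tt N21789 (iv F41527)) (tt N19915 (iv F36987)) (tt N16825 (iv D19645)) (tt N17489 F36338) (tt N19916 (iv F36992)))
theorem Q19611 : ∀ i, i < 19611 → P i := stepQ 19610 Q19610 (allL N19610 (tt N17496 F36339) (tt N21790 (iv F41529)) (tt N16826 F36340) (tt N19916 (iv F36990)) (tt N17493 F36341) (tt N16825 (iv D19646)))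
theorem Q19612 : ∀ i, i < 19612 → P i := stepQ 19611 Q19611 (allL N19611 (tt N17204 F36342) (tt N21787 (iv F41520)) (tt N17493 F36343) (tt N17178 F36344) (tt N16826 (iv D19647)) (tt N17177 F36345))
theorem Q19613 : ∀ i, i < 19613 → P i := stepQ 19612 Q19612 (allL N19612 (tt N16827 (iv D19648)) (tt N17768 F36346) (tt N16835 F36347) (tt N21791 D21829) (tt N16831 F36348) (tt N21792 D21830))
theorem Q19614 : ∀ i, i < 19614 → P i := stepQ 19613 Q19613 (allL N19613 (tt N21791 (iv F41531)) (tt N16828 F36349) (tt N21793 D21831) (tt N16827 (iv D19649)) (tt N21794 D21832) (tt N21596 (iv F41056)))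
theorem Q19615 : ∀ i, i < 19615 → P i := stepQ 19614 Q19614 (allL N19614 (tt N21792 (iv F41533)) (tt N16829 F36350) (tt N16837 F36351) (tt N21596 (iv F41055)) (tt N21766 (iv F41474)) (tt N16827 (iv D19650)))
theorem Q19616 : ∀ i, i < 19616 → P i := stepQ 19615 Q19615 (allL N19615 (tt N17771 F36352) (tt N21794 (iv F41536)) (tt N21599 (iv F41062)) (tt N16833 F36353) (tt N16828 (iv D19651)) (tt N21795 D21833))
theorem Q19617 : ∀ i, i < 19617 → P i := stepQ 19616 Q19616 (allL N19616 (tt N17772 F36354) (tt N21766 (iv F41472)) (tt N16830 F36355) (tt N21796 D21834) (tt N16829 (iv D19652)) (tt N16834 F36356))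
theorem Q19618 : ∀ i, i < 19618 → P i := stepQ 19617 Q19617 (allL N19617 (tt N19661 (iv F36455)) (tt N16833 F36357) (tt N19658 (iv F36446)) (tt N21794 (iv F41537)) (tt N16832 (iv D19653)) (tt N21797 D21835))
theorem Q19619 : ∀ i, i < 19619 → P i := stepQ 19618 Q19618 (allL N19618 (tt N20827 (iv F39198)) (tt N21797 (iv F41542)) (tt N20963 (iv F39508)) (tt N21795 (iv F41539)) (tt N20969 (iv F39521)) (tt N16833 (iv D19654)))
theorem Q19620 : ∀ i, i < 19620 → P i := stepQ 19619 Q19619 (allL N19619 (tt N19900 (iv F36950)) (tt N21765 (iv F41471)) (tt N21798 D21836) (tt N16834 (iv D19655)) (tt N20968 (iv F39519)) (tt N21796 (iv F41541)))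
theorem Q19621 : ∀ i, i < 19621 → P i := stepQ 19620 Q19620 (allL N19620 (tt N16836 F36358) (tt N16845 F36359) (tt N21799 D21837) (tt N16835 (iv D19656)) (tt N21764 (iv F41470)) (tt N21800 D21838))
theorem Q19622 : ∀ i, i < 19622 → P i := stepQ 19621 Q19621 (allL N19621 (tt N16837 F36360) (tt N16846 F36361) (tt N21792 (iv F41535)) (tt N21800 (iv F41547)) (tt N21763 (iv F41467)) (tt N16835 (iv D19657)))
theorem Q19623 : ∀ i, i < 19623 → P i := stepQ 19622 Q19622 (allL N19622 (tt N21799 (iv F41544)) (tt N21801 D21839) (tt N16836 (iv D19658)) (tt N21802 D21840) (tt N21767 (iv F41475)) (tt N21803 D21841))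
theorem Q19624 : ∀ i, i < 19624 → P i := stepQ 19623 Q19623 (allL N19623 (tt N21800 (iv F41545)) (tt N16839 F36362) (tt N21803 (iv F41551)) (tt N16837 F36363) (tt N21804 D21842) (tt N16836 (iv D19659)))
theorem Q19625 : ∀ i, i < 19625 → P i := stepQ 19624 Q19624 (allL N19624 (tt N21805 D21843) (tt N16838 (iv D19660)) (tt N21801 (iv F41548)) (tt N16842 F36364) (tt N21768 (iv F41476)) (tt N16841 F36365))
theorem Q19626 : ∀ i, i < 19626 → P i := stepQ 19625 Q19625 (allL N19625 (tt N16854 F36366) (tt N21804 (iv F41552)) (tt N16843 F36367) (tt N21760 (iv F41455)) (tt N16839 (iv D19661)) (tt N21761 (iv F41460)))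
theorem Q19627 : ∀ i, i < 19627 → P i := stepQ 19626 Q19626 (allL N19626 (tt N16841 F36368) (tt N17172 F36369) (tt N21806 D21844) (tt N16840 (iv D19662)) (tt N17200 F36370) (tt N21805 (iv F41555)))
theorem Q19628 : ∀ i, i < 19628 → P i := stepQ 19627 Q19627 (allL N19627 (tt N16842 F36371) (tt N16844 F36372) (tt N20006 (iv F37234)) (tt N21805 (iv F41554)) (tt N16842 F36373) (tt N16840 (iv D19663)))
theorem Q19629 : ∀ i, i < 19629 → P i := stepQ 19628 Q19628 (allL N19628 (tt N21806 (iv F41556)) (tt N21803 (iv F41550)) (tt N16841 (iv D19664)) (tt N21807 D21845) (tt N21808 D21846) (tt N21801 F41549))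
theorem Q19630 : ∀ i, i < 19630 → P i := stepQ 19629 Q19629 (allL N19629 (tt N17200 F36374) (tt N16843 F36375) (tt N21808 (iv F41560)) (tt N17170 F36376) (tt N16841 (iv D19665)) (tt N21809 D21847))
theorem Q19631 : ∀ i, i < 19631 → P i := stepQ 19630 Q19630 (allL N19630 (tt N17179 F36377) (tt N21809 (iv F41565)) (tt N21761 (iv F41458)) (tt N17171 F36378) (tt N21762 (iv F41463)) (tt N16843 (iv D19666)))
theorem Q19632 : ∀ i, i < 19632 → P i := stepQ 19631 Q19631 (allL N19631 (tt N16851 F36379) (tt N21805 (iv F41553)) (tt N17519 F36381) (tt N16844 (iv D19667)) (tt N21769 (iv F41479)) (tt N17172 F36380))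
theorem Q19633 : ∀ i, i < 19633 → P i := stepQ 19632 Q19632 (allL N19632 (tt N16847 F36382) (tt N21810 D21848) (tt N16845 (iv D19668)) (tt N18779 F36383) (tt N21811 D21849) (tt N21812 D21850))
theorem Q19634 : ∀ i, i < 19634 → P i := stepQ 19633 Q19633 (allL N19633 (tt N16848 F36384) (tt N21764 (iv F41469)) (tt N21811 (iv F41574)) (tt N16857 F36385) (tt N16845 (iv D19669)) (tt N21813 D21851))
theorem Q19635 : ∀ i, i < 19635 → P i := stepQ 19634 Q19634 (allL N19634 (tt N16849 F36386) (tt N21800 (iv F41546)) (tt N21812 (iv F41579)) (tt N16846 F36387) (tt N21814 D21852) (tt N16845 (iv D19670)))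
theorem Q19636 : ∀ i, i < 19636 → P i := stepQ 19635 Q19635 (allL N19635 (tt N16850 F36388) (tt N21763 (iv F41466)) (tt N18402 F36389) (tt N21815 D21853) (tt N16846 (iv D19671)) (tt N16858 F36390))
theorem Q19637 : ∀ i, i < 19637 → P i := stepQ 19636 Q19636 (allL N19636 (tt N17519 (iv F36392)) (tt N16847 (iv D19672)) (tt N16851 F36391) (tt N17479 (iv F36394)) (tt N18346 F36395) (tt N17175 (iv F36393)))
theorem Q19638 : ∀ i, i < 19638 → P i := stepQ 19637 Q19637 (allL N19637 (tt N18779 F36396) (tt N17479 F36397) (tt N18337 F36398) (tt N16847 (iv D19673)) (tt N17478 (iv F36399)) (tt N21816 D21854))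
theorem Q19639 : ∀ i, i < 19639 → P i := stepQ 19638 Q19638 (allL N19638 (tt N21811 (iv F41572)) (tt N18346 F36400) (tt N16848 F36401) (tt N18344 F36402) (tt N16847 (iv D19674)) (tt N18343 (iv F36403)))
theorem Q19640 : ∀ i, i < 19640 → P i := stepQ 19639 Q19639 (allL N19639 (tt N21812 (iv F41577)) (tt N17175 F36404) (tt N16849 F36405) (tt N21816 (iv F41595)) (tt N21817 D21855) (tt N16847 (iv D19675)))
theorem Q19641 : ∀ i, i < 19641 → P i := stepQ 19640 Q19640 (allL N19640 (tt N21813 (iv F41582)) (tt N16853 F36406) (tt N18343 F36407) (tt N16861 F36408) (tt N21818 D21856) (tt N16848 (iv D19676)))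
theorem Q19642 : ∀ i, i < 19642 → P i := stepQ 19641 Q19641 (allL N19641 (tt N21814 (iv F41586)) (tt N16854 F36409) (tt N21817 (iv F41599)) (tt N21819 D21857) (tt N16849 (iv D19677)) (tt N21818 (iv F41605)))
theorem Q19643 : ∀ i, i < 19643 → P i := stepQ 19642 Q19642 (allL N19642 (tt N21815 (iv F41589)) (tt N16855 F36410) (tt N20373 (iv F38101)) (tt N16850 (iv D19678)) (tt N21819 (iv F41607)) (tt N16862 F36411))
theorem Q19644 : ∀ i, i < 19644 → P i := stepQ 19643 Q19643 (allL N19643 (tt N21769 (iv F41477)) (tt N16852 F36412) (tt N18346 F36413) (tt N16852 F36414) (tt N16851 (iv D19679)) (tt N18345 (iv F36415)))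
theorem Q19645 : ∀ i, i < 19645 → P i := stepQ 19644 Q19644 (allL N19644 (tt N21762 (iv F41461)) (tt N18345 F36416) (tt N16853 F36417) (tt N18345 F36418) (tt N17179 F36419) (tt N16852 (iv D19680)))
theorem Q19646 : ∀ i, i < 19646 → P i := stepQ 19645 Q19645 (allL N19645 (tt N21761 (iv F41457)) (tt N21818 (iv F41603)) (tt N17179 F36420) (tt N21745 (iv F41422)) (tt N16853 (iv D19681)) (tt N16854 F36421))
theorem Q19647 : ∀ i, i < 19647 → P i := stepQ 19646 Q19646 (allL N19646 (tt N21760 (iv F41453)) (tt N21819 (iv F41606)) (tt N21746 (iv F41426)) (tt N16854 (iv D19682)) (tt N16855 F36422) (tt N21745 (iv F41423)))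
theorem Q19648 : ∀ i, i < 19648 → P i := stepQ 19647 Q19647 (allL N19647 (tt N19919 (iv F36996)) (tt N20374 (iv F38103)) (tt N16855 (iv D19683)) (tt N19909 (iv F36968)) (tt N21746 (iv F41428)) (tt N16863 F36423))
theorem Q19649 : ∀ i, i < 19649 → P i := stepQ 19648 Q19648 (allL N19648 (tt N19532 F36424) (tt N16856 (iv D19684)) (tt N19538 F36425) (tt N19721 (iv F36595)) (tt N21820 D21858) (tt N19533 F36426))
theorem Q19650 : ∀ i, i < 19650 → P i := stepQ 19649 Q19649 (allL N19649 (tt N16860 F36427) (tt N21820 (iv F41610)) (tt N16857 F36428) (tt N19531 F36429) (tt N16856 (iv D19685)) (tt N21821 D21859))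
theorem Q19651 : ∀ i, i < 19651 → P i := stepQ 19650 Q19650 (allL N19650 (tt N16861 F36430) (tt N21750 (iv F41436)) (tt N21821 (iv F41614)) (tt N21813 (iv F41584)) (tt N21742 (iv F41414)) (tt N16857 (iv D19686)))
theorem Q19652 : ∀ i, i < 19652 → P i := stepQ 19651 Q19651 (allL N19651 (tt N16862 F36431) (tt N21748 (iv F41431)) (tt N18410 F36432) (tt N16858 (iv D19687)) (tt N21741 (iv F41410)) (tt N21815 (iv F41591)))
theorem Q19653 : ∀ i, i < 19653 → P i := stepQ 19652 Q19652 (allL N19652 (tt N21821 (iv F41613)) (tt N21739 (iv F41401)) (tt N16861 F36433) (tt N21739 F41404) (tt N21736 (iv F41394)) (tt N16860 (iv D19688)))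
theorem Q19654 : ∀ i, i < 19654 → P i := stepQ 19653 Q19653 (allL N19653 (tt N18410 F36434) (tt N20375 (iv F38106)) (tt N16862 (iv D19689)) (tt N18407 F36435) (tt N21743 (iv F41416)) (tt N20373 (iv F38102)))
theorem Q19655 : ∀ i, i < 19655 → P i := stepQ 19654 Q19654 (allL N19654 (tt N21822 D21860) (tt N16863 (iv D19690)) (tt N20375 (iv F38107)) (tt N17364 F36439) (tt N21001 (iv F39615)) (tt N20374 F38105))
theorem Q19656 : ∀ i, i < 19656 → P i := stepQ 19655 Q19655 (allL N19655 (tt N19917 (iv F36993)) (tt N17364 (iv F36438)) (tt N17506 F36437) (tt N16863 (iv D19691)) (tt N17363 F36436) (tt N19909 (iv F36967)))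
theorem Q19657 : ∀ i, i < 19657 → P i := stepQ 19656 Q19656 (allL N19656 (tt N18535 F36440) (tt N20546 F38495) (tt N21823 D21861) (tt N16864 (iv D19692)) (tt N21113 (iv F39853)) (tt N21824 D21862))
theorem Q19658 : ∀ i, i < 19658 → P i := stepQ 19657 Q19657 (allL N19657 (tt N18536 F36441) (tt N20548 (iv F38498)) (tt N16865 F36442) (tt N21824 (iv F41625)) (tt N18564 F36443) (tt N16864 (iv D19693)))
theorem Q19659 : ∀ i, i < 19659 → P i := stepQ 19658 Q19658 (allL N19658 (tt N16871 F36444) (tt N17444 F36445) (tt N19617 F36446) (tt N16879 F36447) (tt N16868 (iv D19694)) (tt N21034 (iv F39699)))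
theorem Q19660 : ∀ i, i < 19660 → P i := stepQ 19659 Q19659 (allL N19659 (tt N16872 F36448) (tt N18279 F36449) (tt N18529 F36450) (tt N16869 F36451) (tt N21825 D21863) (tt N16868 (iv D19695)))
theorem Q19661 : ∀ i, i < 19661 → P i := stepQ 19660 Q19660 (allL N19660 (tt N16873 F36452) (tt N17443 F36453) (tt N21691 (iv F41284)) (tt N21826 D21864) (tt N16869 (iv D19696)) (tt N16880 F36454))
theorem Q19662 : ∀ i, i < 19662 → P i := stepQ 19661 Q19661 (allL N19661 (tt N19617 F36455) (tt N18328 F36456) (tt N16871 F36457) (tt N21827 D21865) (tt N16870 (iv D19697)) (tt N21828 D21866))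
theorem Q19663 : ∀ i, i < 19663 → P i := stepQ 19662 Q19662 (allL N19662 (tt N18529 F36458) (tt N17918 F36459) (tt N16872 F36460) (tt N18306 F36461) (tt N21829 D21867) (tt N16870 (iv D19698)))
theorem Q19664 : ∀ i, i < 19664 → P i := stepQ 19663 Q19663 (allL N19663 (tt N21034 (iv F39697)) (tt N16875 F36462) (tt N21828 (iv F41638)) (tt N16883 F36463) (tt N21830 D21868) (tt N16871 (iv D19699)))
theorem Q19665 : ∀ i, i < 19665 → P i := stepQ 19664 Q19664 (allL N19664 (tt N21825 (iv F41626)) (tt N16876 F36464) (tt N21829 (iv F41641)) (tt N21831 D21869) (tt N16872 (iv D19700)) (tt N21830 (iv F41644)))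
theorem Q19666 : ∀ i, i < 19666 → P i := stepQ 19665 Q19665 (allL N19665 (tt N21826 (iv F41629)) (tt N16877 F36465) (tt N21832 D21870) (tt N16873 (iv D19701)) (tt N21831 (iv F41646)) (tt N16884 F36466))
theorem Q19667 : ∀ i, i < 19667 → P i := stepQ 19666 Q19666 (allL N19666 (tt N17440 F36467) (tt N21830 (iv F41642)) (tt N17920 F36468) (tt N17418 F36469) (tt N16875 (iv D19702)) (tt N16876 F36470))
theorem Q19668 : ∀ i, i < 19668 → P i := stepQ 19667 Q19667 (allL N19667 (tt N17439 F36471) (tt N21831 (iv F41645)) (tt N17424 F36472) (tt N16876 (iv D19703)) (tt N16877 F36473) (tt N17418 F36474))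
theorem Q19669 : ∀ i, i < 19669 → P i := stepQ 19668 Q19668 (allL N19668 (tt N17438 F36475) (tt N21833 D21871) (tt N16877 (iv D19704)) (tt N18579 F36476) (tt N17424 F36477) (tt N16885 F36478))
theorem Q19670 : ∀ i, i < 19670 → P i := stepQ 19669 Q19669 (allL N19669 (tt N16881 F36479) (tt N17544 F36480) (tt N21677 (iv F41258)) (tt N16878 (iv D19705)) (tt N21834 D21872) (tt N17405 F36481))
theorem Q19671 : ∀ i, i < 19671 → P i := stepQ 19670 Q19670 (allL N19670 (tt N16884 F36482) (tt N17427 F36483) (tt N21835 D21873) (tt N16880 (iv D19706)) (tt N17413 F36484) (tt N21826 (iv F41631)))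
theorem Q19672 : ∀ i, i < 19672 → P i := stepQ 19671 Q19671 (allL N19671 (tt N21677 (iv F41256)) (tt N17535 F36485) (tt N16881 (iv D19707)) (tt N21676 F41255) (tt N21836 D21874) (tt N17406 F36486))
theorem Q19673 : ∀ i, i < 19673 → P i := stepQ 19672 Q19672 (allL N19672 (tt N21834 (iv F41652)) (tt N17411 F36487) (tt N21836 (iv F41658)) (tt N21837 D21875) (tt N16881 (iv D19708)) (tt N21838 D21876))
theorem Q19674 : ∀ i, i < 19674 → P i := stepQ 19673 Q19673 (allL N19673 (tt N18884 F36488) (tt N17412 F36489) (tt N21839 D21877) (tt N16882 (iv D19709)) (tt N21837 (iv F41661)) (tt N18882 F36490))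
theorem Q19675 : ∀ i, i < 19675 → P i := stepQ 19674 Q19674 (allL N19674 (tt N21835 (iv F41655)) (tt N21840 D21878) (tt N16884 (iv D19710)) (tt N21841 D21879) (tt N17415 F36491) (tt N21832 (iv F41648)))
theorem Q19676 : ∀ i, i < 19676 → P i := stepQ 19675 Q19675 (allL N19675 (tt N21842 D21880) (tt N16885 (iv D19711)) (tt N21840 (iv F41666)) (tt N21843 D21881) (tt N17417 F36492) (tt N21833 (iv F41651)))
theorem Q19677 : ∀ i, i < 19677 → P i := stepQ 19676 Q19676 (allL N19676 (tt N17437 F36493) (tt N21843 (iv F41670)) (tt N18036 F36494) (tt N16885 (iv D19712)) (tt N17425 F36495) (tt N18579 F36496))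
theorem Q19678 : ∀ i, i < 19678 → P i := stepQ 19677 Q19677 (allL N19677 (tt N16890 F36497) (tt N20406 (iv F38200)) (tt N16887 F36498) (tt N21844 D21882) (tt N16886 (iv D19713)) (tt N18611 F36499))
theorem Q19679 : ∀ i, i < 19679 → P i := stepQ 19678 Q19678 (allL N19678 (tt N20097 (iv F37428)) (tt N16889 F36500) (tt N21674 (iv F41247)) (tt N16888 (iv D19714)) (tt N21845 D21883) (tt N16902 F36501))
theorem Q19680 : ∀ i, i < 19680 → P i := stepQ 19679 Q19679 (allL N19679 (tt N20098 (iv F37431)) (tt N16890 F36502) (tt N16893 F36503) (tt N21846 D21884) (tt N16888 (iv D19715)) (tt N21847 D21885))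
theorem Q19681 : ∀ i, i < 19681 → P i := stepQ 19680 Q19680 (allL N19680 (tt N17542 F36504) (tt N21845 (iv F41677)) (tt N17540 F36505) (tt N21848 D21886) (tt N16889 (iv D19716)) (tt N21849 D21887))
theorem Q19682 : ∀ i, i < 19682 → P i := stepQ 19681 Q19681 (allL N19681 (tt N16898 F36506) (tt N16902 F36507) (tt N16897 F36508) (tt N16891 F36509) (tt N21850 D21888) (tt N16889 (iv D19717)))
theorem Q19683 : ∀ i, i < 19683 → P i := stepQ 19682 Q19682 (allL N19682 (tt N21844 (iv F41673)) (tt N21846 (iv F41678)) (tt N21851 D21889) (tt N16890 (iv D19718)) (tt N21848 (iv F41683)) (tt N21852 D21890))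
theorem Q19684 : ∀ i, i < 19684 → P i := stepQ 19683 Q19683 (allL N19683 (tt N18611 F36510) (tt N21847 (iv F41679)) (tt N16892 F36511) (tt N21852 (iv F41690)) (tt N18609 F36512) (tt N16890 (iv D19719)))
theorem Q19685 : ∀ i, i < 19685 → P i := stepQ 19684 Q19684 (allL N19684 (tt N19962 (iv F37116)) (tt N16894 F36513) (tt N21853 D21891) (tt N16893 (iv D19720)) (tt N16905 F36514) (tt N21854 D21892))
theorem Q19686 : ∀ i, i < 19686 → P i := stepQ 19685 Q19685 (allL N19685 (tt N20099 (iv F37433)) (tt N16895 F36515) (tt N21847 (iv F41680)) (tt N21854 (iv F41693)) (tt N16904 F36516) (tt N16893 (iv D19721)))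
theorem Q19687 : ∀ i, i < 19687 → P i := stepQ 19686 Q19686 (allL N19686 (tt N16907 F36517) (tt N21854 (iv F41692)) (tt N20088 (iv F37402)) (tt N16895 F36518) (tt N20091 (iv F37410)) (tt N16894 (iv D19722)))
theorem Q19688 : ∀ i, i < 19688 → P i := stepQ 19687 Q19687 (allL N19687 (tt N17408 F36519) (tt N16897 F36520) (tt N21855 D21893) (tt N16896 (iv D19723)) (tt N21856 D21894) (tt N17534 F36521))
theorem Q19689 : ∀ i, i < 19689 → P i := stepQ 19688 Q19688 (allL N19688 (tt N16899 F36522) (tt N21856 (iv F41699)) (tt N21850 (iv F41688)) (tt N19903 (iv F36958)) (tt N16897 (iv D19724)) (tt N21857 D21895))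
theorem Q19690 : ∀ i, i < 19690 → P i := stepQ 19689 Q19689 (allL N19689 (tt N21850 (iv F41686)) (tt N20101 (iv F37438)) (tt N16899 F36523) (tt N20409 (iv F38206)) (tt N16898 (iv D19725)) (tt N21858 D21896))
theorem Q19691 : ∀ i, i < 19691 → P i := stepQ 19690 Q19690 (allL N19690 (tt N21857 (iv F41700)) (tt N17548 F36524) (tt N21858 (iv F41702)) (tt N19906 (iv F36960)) (tt N17543 F36525) (tt N16899 (iv D19726)))
theorem Q19692 : ∀ i, i < 19692 → P i := stepQ 19691 Q19691 (allL N19691 (tt N16902 F36526) (tt N20094 (iv F37419)) (tt N21673 (iv F41244)) (tt N16900 (iv D19727)) (tt N21859 D21897) (tt N20097 (iv F37430)))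
theorem Q19693 : ∀ i, i < 19693 → P i := stepQ 19692 Q19692 (allL N19692 (tt N16904 F36527) (tt N16906 F36528) (tt N20404 (iv F38196)) (tt N20456 (iv F38306)) (tt N20099 (iv F37435)) (tt N16901 (iv D19728)))
theorem Q19694 : ∀ i, i < 19694 → P i := stepQ 19693 Q19693 (allL N19693 (tt N21673 (iv F41241)) (tt N21855 (iv F41695)) (tt N16902 (iv D19729)) (tt N17618 F36529) (tt N21860 D21898) (tt N21674 (iv F41248)))
theorem Q19695 : ∀ i, i < 19695 → P i := stepQ 19694 Q19694 (allL N19694 (tt N21859 (iv F41704)) (tt N21850 (iv F41687)) (tt N21860 (iv F41707)) (tt N21861 D21899) (tt N16902 (iv D19730)) (tt N21862 D21900))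
theorem Q19696 : ∀ i, i < 19696 → P i := stepQ 19695 Q19695 (allL N19695 (tt N18868 F36530) (tt N20407 (iv F38204)) (tt N19138 (iv F36531)) (tt N16903 (iv D19731)) (tt N21861 (iv F41709)) (tt N20419 (iv F38223)))
theorem Q19697 : ∀ i, i < 19697 → P i := stepQ 19696 Q19696 (allL N19696 (tt N20404 (iv F38194)) (tt N18609 F36532) (tt N16904 F36533) (tt N20419 (iv F38222)) (tt N21847 (iv F41681)) (tt N16903 (iv D19732)))
theorem Q19698 : ∀ i, i < 19698 → P i := stepQ 19697 Q19697 (allL N19697 (tt N19961 (iv F37115)) (tt N20084 (iv F37393)) (tt N16905 (iv D19733)) (tt N20084 (iv F37394)) (tt N21853 (iv F41691)) (tt N20089 (iv F37404)))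
theorem Q19699 : ∀ i, i < 19699 → P i := stepQ 19698 Q19698 (allL N19698 (tt N20088 (iv F37401)) (tt N17165 F36534) (tt N16907 (iv D19734)) (tt N18522 F36536) (tt N20093 (iv F37417)) (tt N16908 F36535))
theorem Q19700 : ∀ i, i < 19700 → P i := stepQ 19699 Q19699 (allL N19699 (tt N21863 D21901) (tt N16910 (iv D19735)) (tt N16911 F36537) (tt N20963 (iv F39509)) (tt N17980 F36538) (tt N16922 F36539))
theorem Q19701 : ∀ i, i < 19701 → P i := stepQ 19700 Q19700 (allL N19700 (tt N16911 (iv D19736)) (tt N17960 F36540) (tt N21863 (iv F41712)) (tt N19874 (iv F36898)) (tt N17983 F36541) (tt N16923 F36542))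
theorem Q19702 : ∀ i, i < 19702 → P i := stepQ 19701 Q19701 (allL N19701 (tt N16920 F36543) (tt N21864 D21902) (tt N16914 (iv D19737)) (tt N17752 F36545) (tt N20641 (iv F38714)) (tt N17751 F36544))
theorem Q19703 : ∀ i, i < 19703 → P i := stepQ 19702 Q19702 (allL N19702 (tt N21865 D21903) (tt N16916 (iv D19738)) (tt N18668 F36546) (tt N20156 (iv F37548)) (tt N20954 (iv F39481)) (tt N18687 F36547))
theorem Q19704 : ∀ i, i < 19704 → P i := stepQ 19703 Q19703 (allL N19703 (tt N17663 F36548) (tt N20885 (iv F39300)) (tt N20145 (iv F37533)) (tt N16917 (iv D19739)) (tt N17661 F36549) (tt N20682 (iv F38849)))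
theorem Q19705 : ∀ i, i < 19705 → P i := stepQ 19704 Q19704 (allL N19704 (tt N20641 (iv F38712)) (tt N21866 D21904) (tt N16918 (iv D19740)) (tt N21867 D21905) (tt N16920 F36550) (tt N20634 F38692))
theorem Q19706 : ∀ i, i < 19706 → P i := stepQ 19705 Q19705 (allL N19705 (tt N21868 D21906) (tt N16920 (iv D19741)) (tt N20953 (iv F39477)) (tt N21869 D21907) (tt N21866 (iv F41723)) (tt N21870 D21908))
theorem Q19707 : ∀ i, i < 19707 → P i := stepQ 19706 Q19706 (allL N19706 (tt N17752 F36551) (tt N21869 (iv F41726)) (tt N17749 F36552) (tt N16920 (iv D19742)) (tt N21871 D21909) (tt N17748 F36553))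
theorem Q19708 : ∀ i, i < 19708 → P i := stepQ 19707 Q19707 (allL N19707 (tt N17751 F36554) (tt N21870 (iv F41730)) (tt N16921 F36555) (tt N17748 F36556) (tt N20635 (iv F38697)) (tt N16920 (iv D19743)))
theorem Q19709 : ∀ i, i < 19709 → P i := stepQ 19708 Q19708 (allL N19708 (tt N16922 (iv D19744)) (tt N21865 (iv F41718)) (tt N16923 F36557) (tt N20826 F39197) (tt N20955 (iv F39484)) (tt N21863 (iv F41714)))
theorem Q19710 : ∀ i, i < 19710 → P i := stepQ 19709 Q19709 (allL N19709 (tt N16924 F36558) (tt N18482 F36559) (tt N21872 D21910) (tt N16923 (iv D19745)) (tt N20957 (iv F39491)) (tt N19874 (iv F36900)))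
theorem Q19711 : ∀ i, i < 19711 → P i := stepQ 19710 Q19710 (allL N19710 (tt N21872 (iv F41737)) (tt N17962 F36560) (tt N16924 (iv D19746)) (tt N21873 D21911) (tt N20958 (iv F39494)) (tt N19872 (iv F36894)))
theorem Q19712 : ∀ i, i < 19712 → P i := stepQ 19711 Q19711 (allL N19711 (tt N16929 F36561) (tt N18280 F36562) (tt N20377 (iv F38116)) (tt N16934 F36563) (tt N16926 (iv D19747)) (tt N20382 (iv F38138)))
theorem Q19713 : ∀ i, i < 19713 → P i := stepQ 19712 Q19712 (allL N19712 (tt N16930 F36564) (tt N17442 F36565) (tt N21671 (iv F41235)) (tt N21143 (iv F39919)) (tt N16927 (iv D19748)) (tt N16935 F36566))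
theorem Q19714 : ∀ i, i < 19714 → P i := stepQ 19713 Q19713 (allL N19713 (tt N20377 (iv F38114)) (tt N17594 F36567) (tt N16929 F36568) (tt N20379 (iv F38127)) (tt N16928 (iv D19749)) (tt N20379 (iv F38128)))
theorem Q19715 : ∀ i, i < 19715 → P i := stepQ 19714 Q19714 (allL N19714 (tt N20382 (iv F38135)) (tt N16931 F36569) (tt N20379 (iv F38126)) (tt N16938 F36570) (tt N18534 F36571) (tt N16929 (iv D19750)))
theorem Q19716 : ∀ i, i < 19716 → P i := stepQ 19715 Q19715 (allL N19715 (tt N21143 (iv F39917)) (tt N16932 F36572) (tt N21874 D21912) (tt N16930 (iv D19751)) (tt N18533 F36573) (tt N16939 F36574))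
theorem Q19717 : ∀ i, i < 19717 → P i := stepQ 19716 Q19716 (allL N19716 (tt N18275 F36575) (tt N21875 D21913) (tt N16932 (iv D19752)) (tt N21731 (iv F41379)) (tt N18267 F36576) (tt N16940 F36577))
theorem Q19718 : ∀ i, i < 19718 → P i := stepQ 19717 Q19717 (allL N19717 (tt N16936 F36578) (tt N18251 F36579) (tt N21709 (iv F41324)) (tt N16933 (iv D19753)) (tt N16936 (iv F36581)) (tt N18245 F36580))
theorem Q19719 : ∀ i, i < 19719 → P i := stepQ 19718 Q19718 (allL N19718 (tt N16937 F36582) (tt N18252 F36583) (tt N16934 F36584) (tt N16937 F36585) (tt N16933 (iv D19754)) (tt N18582 F36586))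
theorem Q19720 : ∀ i, i < 19720 → P i := stepQ 19719 Q19719 (allL N19719 (tt N16938 F36587) (tt N18117 F36588) (tt N18582 F36589) (tt N20382 F38139) (tt N18115 F36590) (tt N16934 (iv D19755)))
theorem Q19721 : ∀ i, i < 19721 → P i := stepQ 19720 Q19720 (allL N19720 (tt N16939 F36591) (tt N18269 F36592) (tt N21876 D21914) (tt N16935 (iv D19756)) (tt N18253 F36593) (tt N21143 (iv F39920)))
theorem Q19722 : ∀ i, i < 19722 → P i := stepQ 19721 Q19721 (allL N19721 (tt N21709 (iv F41323)) (tt N18289 F36594) (tt N16936 (iv D19757)) (tt N19648 F36595) (tt N21709 (iv F41326)) (tt N18246 F36596))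
theorem Q19723 : ∀ i, i < 19723 → P i := stepQ 19722 Q19722 (allL N19722 (tt N21876 (iv F41746)) (tt N21877 D21915) (tt N16939 (iv D19758)) (tt N21878 D21916) (tt N18254 F36597) (tt N21874 (iv F41743)))
theorem Q19724 : ∀ i, i < 19724 → P i := stepQ 19723 Q19723 (allL N19723 (tt N21879 D21917) (tt N16940 (iv D19759)) (tt N21877 (iv F41748)) (tt N21880 D21918) (tt N18256 F36598) (tt N21875 (iv F41745)))
theorem Q19725 : ∀ i, i < 19725 → P i := stepQ 19724 Q19724 (allL N19724 (tt N18274 F36599) (tt N21880 (iv F41752)) (tt N18268 F36600) (tt N16940 (iv D19760)) (tt N18268 F36601) (tt N21731 (iv F41381)))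
theorem Q19726 : ∀ i, i < 19726 → P i := stepQ 19725 Q19725 (allL N19725 (tt N16943 (iv D19761)) (tt N16991 F36602) (tt N18325 F36603) (tt N21881 D21919) (tt N16945 F36604) (tt N20661 (iv F38776)))
theorem Q19727 : ∀ i, i < 19727 → P i := stepQ 19726 Q19726 (allL N19726 (tt N21881 (iv F41754)) (tt N16944 F36605) (tt N21882 D21920) (tt N16943 (iv D19762)) (tt N17000 F36606) (tt N20664 (iv F38787)))
theorem Q19728 : ∀ i, i < 19728 → P i := stepQ 19727 Q19727 (allL N19727 (tt N16946 (iv D19763)) (tt N17719 F36607) (tt N16948 F36608) (tt N18124 (iv F36610)) (tt N20877 (iv F39281)) (tt N16994 F36609))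
theorem Q19729 : ∀ i, i < 19729 → P i := stepQ 19728 Q19728 (allL N19728 (tt N18124 F36611) (tt N16947 F36612) (tt N18122 F36613) (tt N16946 (iv D19764)) (tt N21883 D21921) (tt N16996 F36614))
theorem Q19730 : ∀ i, i < 19730 → P i := stepQ 19729 Q19729 (allL N19729 (tt N21710 (iv F41328)) (tt N21883 (iv F41759)) (tt N19558 F36615) (tt N20880 (iv F39288)) (tt N16947 (iv D19765)) (tt N21884 D21922))
theorem Q19731 : ∀ i, i < 19731 → P i := stepQ 19730 Q19730 (allL N19730 (tt N16950 F36616) (tt N16961 F36617) (tt N17066 F36618) (tt N21885 D21923) (tt N16949 (iv D19766)) (tt N17937 F36619))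
theorem Q19732 : ∀ i, i < 19732 → P i := stepQ 19731 Q19731 (allL N19731 (tt N21885 (iv F41766)) (tt N16951 F36620) (tt N21886 D21924) (tt N16950 (iv D19767)) (tt N17011 F36621) (tt N17938 F36622))
theorem Q19733 : ∀ i, i < 19733 → P i := stepQ 19732 Q19732 (allL N19732 (tt N16954 F36623) (tt N17940 F36624) (tt N21633 (iv F41133)) (tt N16959 F36625) (tt N16952 (iv D19768)) (tt N21887 D21925))
theorem Q19734 : ∀ i, i < 19734 → P i := stepQ 19733 Q19733 (allL N19733 (tt N16955 F36626) (tt N17937 F36627) (tt N16970 F36628) (tt N21888 D21926) (tt N16953 (iv D19769)) (tt N16961 F36629))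
theorem Q19735 : ∀ i, i < 19735 → P i := stepQ 19734 Q19734 (allL N19734 (tt N21887 (iv F41773)) (tt N16956 F36630) (tt N21635 (iv F41136)) (tt N16965 F36631) (tt N17711 F36632) (tt N16954 (iv D19770)))
theorem Q19736 : ∀ i, i < 19736 → P i := stepQ 19735 Q19735 (allL N19735 (tt N21888 (iv F41777)) (tt N16957 F36633) (tt N18751 (iv F36636)) (tt N16955 (iv D19771)) (tt N17709 F36634) (tt N16966 F36635))
theorem Q19737 : ∀ i, i < 19737 → P i := stepQ 19736 Q19736 (allL N19736 (tt N16963 F36637) (tt N17497 F36638) (tt N16959 F36639) (tt N21889 D21927) (tt N16958 (iv D19772)) (tt N21890 D21928))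
theorem Q19738 : ∀ i, i < 19738 → P i := stepQ 19737 Q19737 (allL N19737 (tt N16965 F36640) (tt N21783 (iv F41512)) (tt N21890 (iv F41787)) (tt N21887 (iv F41775)) (tt N18398 F36641) (tt N16959 (iv D19773)))
theorem Q19739 : ∀ i, i < 19739 → P i := stepQ 19738 Q19738 (allL N19738 (tt N16966 F36642) (tt N21885 (iv F41767)) (tt N21891 D21929) (tt N16961 (iv D19774)) (tt N18397 F36643) (tt N21888 (iv F41780)))
theorem Q19740 : ∀ i, i < 19740 → P i := stepQ 19739 Q19739 (allL N19739 (tt N17020 F36644) (tt N21778 (iv F41500)) (tt N17019 F36645) (tt N21892 D21930) (tt N16962 (iv D19775)) (tt N21714 (iv F41343)))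
theorem Q19741 : ∀ i, i < 19741 → P i := stepQ 19740 Q19740 (allL N19740 (tt N21889 (iv F41782)) (tt N21779 (iv F41503)) (tt N21893 D21931) (tt N16963 (iv D19776)) (tt N21892 (iv F41793)) (tt N21894 D21932))
theorem Q19742 : ∀ i, i < 19742 → P i := stepQ 19741 Q19741 (allL N19741 (tt N21890 (iv F41785)) (tt N18396 F36646) (tt N16965 F36647) (tt N21894 (iv F41795)) (tt N18394 F36648) (tt N16963 (iv D19777)))
theorem Q19743 : ∀ i, i < 19743 → P i := stepQ 19742 Q19742 (allL N19742 (tt N21891 (iv F41789)) (tt N18747 F36649) (tt N16966 (iv D19778)) (tt N21452 (iv F40680)) (tt N18399 F36650) (tt N18751 F36651))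
theorem Q19744 : ∀ i, i < 19744 → P i := stepQ 19743 Q19743 (allL N19743 (tt N16972 F36652) (tt N18371 F36653) (tt N16969 F36654) (tt N18514 F36655) (tt N16968 (iv D19779)) (tt N21895 D21933))
theorem Q19745 : ∀ i, i < 19745 → P i := stepQ 19744 Q19744 (allL N19744 (tt N16973 F36656) (tt N17048 F36657) (tt N21895 (iv F41798)) (tt N16984 F36658) (tt N20918 (iv F39382)) (tt N16969 (iv D19780)))
theorem Q19746 : ∀ i, i < 19746 → P i := stepQ 19745 Q19745 (allL N19745 (tt N16974 F36659) (tt N17046 F36660) (tt N21896 D21934) (tt N16970 (iv D19781)) (tt N20917 (iv F39377)) (tt N16985 F36661))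
theorem Q19747 : ∀ i, i < 19747 → P i := stepQ 19746 Q19746 (allL N19746 (tt N18514 F36662) (tt N18516 F36663) (tt N21713 (iv F41340)) (tt N16972 (iv D19782)) (tt N21062 (iv F39776)) (tt N20686 (iv F38856)))
theorem Q19748 : ∀ i, i < 19748 → P i := stepQ 19747 Q19747 (allL N19747 (tt N21895 (iv F41796)) (tt N20687 (iv F38859)) (tt N16973 F36664) (tt N20686 F38857) (tt N20911 (iv F39362)) (tt N16972 (iv D19783)))
theorem Q19749 : ∀ i, i < 19749 → P i := stepQ 19748 Q19748 (allL N19748 (tt N21896 (iv F41800)) (tt N21897 D21935) (tt N16974 (iv D19784)) (tt N21898 D21936) (tt N20919 (iv F39384)) (tt N16988 F36665))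
theorem Q19750 : ∀ i, i < 19750 → P i := stepQ 19749 Q19749 (allL N19749 (tt N21899 D21937) (tt N16975 (iv D19785)) (tt N21897 (iv F41802)) (tt N20755 (iv F39031)) (tt N17040 F36666) (tt N16989 F36667))
theorem Q19751 : ∀ i, i < 19751 → P i := stepQ 19750 Q19750 (allL N19750 (tt N16976 (iv D19786)) (tt N20661 (iv F38774)) (tt N17895 F36668) (tt N21900 D21938) (tt N16978 F36669) (tt N16991 F36670))
theorem Q19752 : ∀ i, i < 19752 → P i := stepQ 19751 Q19751 (allL N19751 (tt N21900 (iv F41809)) (tt N16977 F36671) (tt N21901 D21939) (tt N16976 (iv D19787)) (tt N20679 (iv F38836)) (tt N16992 F36672))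
theorem Q19753 : ∀ i, i < 19753 → P i := stepQ 19752 Q19752 (allL N19752 (tt N16980 F36673) (tt N21902 D21940) (tt N16979 (iv D19788)) (tt N17880 F36674) (tt N21903 D21941) (tt N20671 (iv F38814)))
theorem Q19754 : ∀ i, i < 19754 → P i := stepQ 19753 Q19753 (allL N19753 (tt N16981 F36675) (tt N20660 (iv F38769)) (tt N21903 (iv F41817)) (tt N16995 F36676) (tt N16979 (iv D19789)) (tt N21904 D21942))
theorem Q19755 : ∀ i, i < 19755 → P i := stepQ 19754 Q19754 (allL N19754 (tt N17880 F36677) (tt N20675 (iv F38826)) (tt N17878 F36678) (tt N16980 (iv D19790)) (tt N21905 D21943) (tt N20672 (iv F38819)))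
theorem Q19756 : ∀ i, i < 19756 → P i := stepQ 19755 Q19755 (allL N19755 (tt N21903 (iv F41816)) (tt N17681 F36679) (tt N16981 F36680) (tt N17680 (iv F36681)) (tt N16980 (iv D19791)) (tt N17724 F36682))
theorem Q19757 : ∀ i, i < 19757 → P i := stepQ 19756 Q19756 (allL N19756 (tt N21904 (iv F41820)) (tt N16982 F36683) (tt N17724 F36684) (tt N16998 F36685) (tt N20680 (iv F38841)) (tt N16981 (iv D19792)))
theorem Q19758 : ∀ i, i < 19758 → P i := stepQ 19757 Q19757 (allL N19757 (tt N16988 F36686) (tt N21906 D21944) (tt N16985 (iv D19793)) (tt N21451 (iv F40678)) (tt N17022 F36687) (tt N21896 (iv F41801)))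
theorem Q19759 : ∀ i, i < 19759 → P i := stepQ 19758 Q19758 (allL N19758 (tt N18618 F36688) (tt N18442 F36689) (tt N16986 (iv D19794)) (tt N21907 D21945) (tt N18440 F36690) (tt N18542 F36691))
theorem Q19760 : ∀ i, i < 19760 → P i := stepQ 19759 Q19759 (allL N19759 (tt N21908 D21946) (tt N16988 (iv D19795)) (tt N16989 F36692) (tt N21909 D21947) (tt N17024 F36693) (tt N21897 (iv F41804)))
theorem Q19761 : ∀ i, i < 19761 → P i := stepQ 19760 Q19760 (allL N19760 (tt N21451 (iv F40676)) (tt N21909 (iv F41837)) (tt N21450 (iv F40674)) (tt N16988 (iv D19796)) (tt N20662 (iv F38778)) (tt N21898 (iv F41805)))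
theorem Q19762 : ∀ i, i < 19762 → P i := stepQ 19761 Q19761 (allL N19761 (tt N16989 (iv D19797)) (tt N17061 F36694) (tt N21908 (iv F41835)) (tt N20923 (iv F39390)) (tt N17028 F36695) (tt N21899 (iv F41808)))
theorem Q19763 : ∀ i, i < 19763 → P i := stepQ 19762 Q19762 (allL N19762 (tt N20923 (iv F39388)) (tt N16990 F36696) (tt N21910 D21948) (tt N16989 (iv D19798)) (tt N17041 F36697) (tt N20755 (iv F39032)))
theorem Q19764 : ∀ i, i < 19764 → P i := stepQ 19763 Q19763 (allL N19763 (tt N16992 F36698) (tt N21881 (iv F41755)) (tt N21911 D21949) (tt N16991 (iv D19799)) (tt N20882 (iv F39293)) (tt N21900 (iv F41810)))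
theorem Q19765 : ∀ i, i < 19765 → P i := stepQ 19764 Q19764 (allL N19764 (tt N21911 (iv F41839)) (tt N21912 D21950) (tt N16992 (iv D19800)) (tt N21913 D21951) (tt N20884 (iv F39298)) (tt N21901 (iv F41812)))
theorem Q19766 : ∀ i, i < 19766 → P i := stepQ 19765 Q19765 (allL N19765 (tt N21914 D21952) (tt N16993 (iv D19801)) (tt N21912 (iv F41840)) (tt N17063 F36699) (tt N20731 (iv F38984)) (tt N17062 F36700))
theorem Q19767 : ∀ i, i < 19767 → P i := stepQ 19766 Q19766 (allL N19766 (tt N16998 F36701) (tt N17013 F36702) (tt N17015 F36703) (tt N21904 (iv F41823)) (tt N20883 (iv F39297)) (tt N16995 (iv D19802)))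
theorem Q19768 : ∀ i, i < 19768 → P i := stepQ 19767 Q19767 (allL N19767 (tt N17015 F36704) (tt N17728 F36705) (tt N16998 F36706) (tt N17717 F36707) (tt N20879 (iv F39287)) (tt N16997 (iv D19803)))
theorem Q19769 : ∀ i, i < 19769 → P i := stepQ 19768 Q19768 (allL N19768 (tt N17000 F36708) (tt N20882 (iv F39292)) (tt N21915 D21953) (tt N16999 (iv D19804)) (tt N21881 (iv F41756)) (tt N20756 (iv F39034)))
theorem Q19770 : ∀ i, i < 19770 → P i := stepQ 19769 Q19769 (allL N19769 (tt N17001 F36709) (tt N20883 (iv F39295)) (tt N17014 F36710) (tt N20756 (iv F39033)) (tt N17013 F36711) (tt N16999 (iv D19805)))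
theorem Q19771 : ∀ i, i < 19771 → P i := stepQ 19770 Q19770 (allL N19770 (tt N21915 (iv F41844)) (tt N20754 (iv F39027)) (tt N17000 (iv D19806)) (tt N21916 D21954) (tt N21882 (iv F41757)) (tt N20752 F39022))
theorem Q19772 : ∀ i, i < 19772 → P i := stepQ 19771 Q19771 (allL N19771 (tt N20580 (iv F38577)) (tt N17003 F36712) (tt N21917 D21955) (tt N17002 (iv D19807)) (tt N17090 F36713) (tt N21918 D21956))
theorem Q19773 : ∀ i, i < 19773 → P i := stepQ 19772 Q19772 (allL N19772 (tt N18305 F36714) (tt N17004 F36715) (tt N18303 F36716) (tt N21918 (iv F41851)) (tt N17078 F36717) (tt N17002 (iv D19808)))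
theorem Q19774 : ∀ i, i < 19774 → P i := stepQ 19773 Q19773 (allL N19773 (tt N17007 F36718) (tt N21919 D21957) (tt N17003 (iv D19809)) (tt N21638 (iv F41144)) (tt N17092 F36719) (tt N21715 (iv F41347)))
theorem Q19775 : ∀ i, i < 19775 → P i := stepQ 19774 Q19774 (allL N19774 (tt N17008 F36720) (tt N21918 (iv F41850)) (tt N21715 (iv F41345)) (tt N17004 F36721) (tt N21920 D21958) (tt N17003 (iv D19810)))
theorem Q19776 : ∀ i, i < 19776 → P i := stepQ 19775 Q19775 (allL N19775 (tt N17092 F36722) (tt N21921 D21959) (tt N17005 (iv D19811)) (tt N21639 (iv F41148)) (tt N17007 F36723) (tt N21718 (iv F41355)))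
theorem Q19777 : ∀ i, i < 19777 → P i := stepQ 19776 Q19776 (allL N19776 (tt N17093 F36724) (tt N20872 (iv F39273)) (tt N21718 (iv F41353)) (tt N17006 F36725) (tt N21922 D21960) (tt N17005 (iv D19812)))
theorem Q19778 : ∀ i, i < 19778 → P i := stepQ 19777 Q19777 (allL N19777 (tt N21923 D21961) (tt N17007 (iv D19813)) (tt N20873 (iv F39275)) (tt N20160 F37559) (tt N21921 (iv F41858)) (tt N21924 D21962))
theorem Q19779 : ∀ i, i < 19779 → P i := stepQ 19778 Q19778 (allL N19778 (tt N21715 (iv F41344)) (tt N21924 (iv F41864)) (tt N17008 F36726) (tt N18549 F36727) (tt N21925 D21963) (tt N17007 (iv D19814)))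
theorem Q19780 : ∀ i, i < 19780 → P i := stepQ 19779 Q19779 (allL N19779 (tt N21920 (iv F41854)) (tt N20876 (iv F39277)) (tt N21925 (iv F41867)) (tt N17087 F36728) (tt N17008 (iv D19815)) (tt N21922 (iv F41862)))
theorem Q19781 : ∀ i, i < 19781 → P i := stepQ 19780 Q19780 (allL N19780 (tt N17011 F36729) (tt N18397 F36730) (tt N21926 D21964) (tt N17010 (iv D19816)) (tt N21885 (iv F41768)) (tt N17754 (iv F36731)))
theorem Q19782 : ∀ i, i < 19782 → P i := stepQ 19781 Q19781 (allL N19781 (tt N17012 F36732) (tt N18398 F36733) (tt N17509 F36734) (tt N17754 F36735) (tt N21783 (iv F41515)) (tt N17010 (iv D19817)))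
theorem Q19783 : ∀ i, i < 19783 → P i := stepQ 19782 Q19782 (allL N19782 (tt N21926 (iv F41870)) (tt N17752 F36736) (tt N17011 (iv D19818)) (tt N21864 (iv F41716)) (tt N21886 (iv F41771)) (tt N17750 F36737))
theorem Q19784 : ∀ i, i < 19784 → P i := stepQ 19783 Q19783 (allL N19783 (tt N20663 (iv F38780)) (tt N21904 (iv F41821)) (tt N21927 D21965) (tt N17013 (iv D19819)) (tt N20892 (iv F39324)) (tt N20660 F38772))
theorem Q19785 : ∀ i, i < 19785 → P i := stepQ 19784 Q19784 (allL N19784 (tt N20879 (iv F39284)) (tt N17016 F36738) (tt N20883 (iv F39296)) (tt N21928 D21966) (tt N17015 (iv D19820)) (tt N20877 F39282))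
theorem Q19786 : ∀ i, i < 19786 → P i := stepQ 19785 Q19785 (allL N19785 (tt N17730 F36739) (tt N21928 (iv F41875)) (tt N21929 D21967) (tt N17016 (iv D19821)) (tt N17720 F36740) (tt N21930 D21968))
theorem Q19787 : ∀ i, i < 19787 → P i := stepQ 19786 Q19786 (allL N19786 (tt N17731 F36741) (tt N20877 (iv F39279)) (tt N17017 F36742) (tt N21930 (iv F41882)) (tt N17719 F36743) (tt N17016 (iv D19822)))
theorem Q19788 : ∀ i, i < 19788 → P i := stepQ 19787 Q19787 (allL N19787 (tt N21892 (iv F41792)) (tt N17532 F36744) (tt N21916 (iv F41846)) (tt N17020 (iv D19823)) (tt N21889 (iv F41784)) (tt N21931 D21969))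
theorem Q19789 : ∀ i, i < 19789 → P i := stepQ 19788 Q19788 (allL N19788 (tt N21714 (iv F41341)) (tt N17533 F36745) (tt N17021 F36746) (tt N21931 (iv F41885)) (tt N20446 F38277) (tt N17020 (iv D19824)))
theorem Q19790 : ∀ i, i < 19790 → P i := stepQ 19789 Q19789 (allL N19789 (tt N21932 D21970) (tt N17022 (iv D19825)) (tt N17042 F36747) (tt N21933 D21971) (tt N21906 (iv F41830)) (tt N21934 D21972))
theorem Q19791 : ∀ i, i < 19791 → P i := stepQ 19790 Q19790 (allL N19790 (tt N17025 F36748) (tt N21933 (iv F41889)) (tt N20660 (iv F38770)) (tt N17022 (iv D19826)) (tt N20659 F38767) (tt N21927 (iv F41874)))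
theorem Q19792 : ∀ i, i < 19792 → P i := stepQ 19791 Q19791 (allL N19791 (tt N17026 F36749) (tt N21934 (iv F41891)) (tt N17023 F36750) (tt N21927 (iv F41873)) (tt N21935 D21973) (tt N17022 (iv D19827)))
theorem Q19793 : ∀ i, i < 19793 → P i := stepQ 19792 Q19792 (allL N19792 (tt N17027 F36751) (tt N17047 F36752) (tt N21935 (iv F41894)) (tt N20918 (iv F39381)) (tt N17023 (iv D19828)) (tt N20917 F39378))
theorem Q19794 : ∀ i, i < 19794 → P i := stepQ 19793 Q19793 (allL N19793 (tt N17024 (iv D19829)) (tt N21932 (iv F41886)) (tt N17028 F36753) (tt N21936 D21974) (tt N21908 (iv F41836)) (tt N17036 F36754))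
theorem Q19795 : ∀ i, i < 19795 → P i := stepQ 19794 Q19794 (allL N19794 (tt N21936 (iv F41895)) (tt N17025 F36755) (tt N20657 (iv F38758)) (tt N17024 (iv D19830)) (tt N20656 (iv F38755)) (tt N17038 F36756))
theorem Q19796 : ∀ i, i < 19796 → P i := stepQ 19795 Q19795 (allL N19795 (tt N21927 (iv F41872)) (tt N17038 F36757) (tt N20663 (iv F38782)) (tt N17026 F36758) (tt N20890 (iv F39320)) (tt N17025 (iv D19831)))
theorem Q19797 : ∀ i, i < 19797 → P i := stepQ 19796 Q19796 (allL N19796 (tt N21935 (iv F41893)) (tt N17039 F36759) (tt N17027 F36760) (tt N21937 D21975) (tt N17026 (iv D19832)) (tt N20919 (iv F39385)))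
theorem Q19798 : ∀ i, i < 19798 → P i := stepQ 19797 Q19797 (allL N19797 (tt N18761 F36761) (tt N17029 (iv D19833)) (tt N17031 F36762) (tt N20669 F38806) (tt N20670 (iv F38810)) (tt N17669 F36763))
theorem Q19799 : ∀ i, i < 19799 → P i := stepQ 19798 Q19798 (allL N19798 (tt N20657 (iv F38756)) (tt N20669 (iv F38803)) (tt N21936 (iv F41896)) (tt N17029 (iv D19834)) (tt N20653 F38747) (tt N20888 (iv F39315)))
theorem Q19800 : ∀ i, i < 19800 → P i := stepQ 19799 Q19799 (allL N19799 (tt N18760 F36764) (tt N17032 F36765) (tt N20670 (iv F38809)) (tt N18754 F36766) (tt N17031 (iv D19835)) (tt N18774 F36767))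
theorem Q19801 : ∀ i, i < 19801 → P i := stepQ 19800 Q19800 (allL N19800 (tt N17673 F36768) (tt N18774 F36769) (tt N17033 F36770) (tt N17791 F36771) (tt N17670 F36772) (tt N17032 (iv D19836)))
theorem Q19802 : ∀ i, i < 19802 → P i := stepQ 19801 Q19801 (allL N19801 (tt N17064 F36773) (tt N20690 F38872) (tt N21938 D21976) (tt N17034 (iv D19837)) (tt N17035 F36774) (tt N17075 F36775))
theorem Q19803 : ∀ i, i < 19803 → P i := stepQ 19802 Q19802 (allL N19802 (tt N20704 (iv F38909)) (tt N21939 D21977) (tt N17035 (iv D19838)) (tt N20685 (iv F38855)) (tt N21938 (iv F41902)) (tt N20703 (iv F38908)))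
theorem Q19804 : ∀ i, i < 19804 → P i := stepQ 19803 Q19803 (allL N19803 (tt N21934 (iv F41890)) (tt N17036 (iv D19839)) (tt N20711 (iv F38936)) (tt N21940 D21978) (tt N21941 D21979) (tt N21932 F41888))
theorem Q19805 : ∀ i, i < 19805 → P i := stepQ 19804 Q19804 (allL N19804 (tt N17038 F36776) (tt N21940 (iv F41909)) (tt N20888 (iv F39313)) (tt N17036 (iv D19840)) (tt N20889 (iv F39317)) (tt N21936 (iv F41897)))
theorem Q19806 : ∀ i, i < 19806 → P i := stepQ 19805 Q19805 (allL N19805 (tt N17039 F36777) (tt N21941 (iv F41910)) (tt N17037 F36778) (tt N21942 D21980) (tt N17036 (iv D19841)) (tt N21943 D21981))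
theorem Q19807 : ∀ i, i < 19807 → P i := stepQ 19806 Q19806 (allL N19806 (tt N17040 F36779) (tt N20714 (iv F38944)) (tt N21943 (iv F41913)) (tt N20708 (iv F38927)) (tt N21899 (iv F41807)) (tt N17037 (iv D19842)))
theorem Q19808 : ∀ i, i < 19808 → P i := stepQ 19807 Q19807 (allL N19807 (tt N21942 (iv F41911)) (tt N21937 (iv F41898)) (tt N21944 D21982) (tt N17039 (iv D19843)) (tt N20891 (iv F39322)) (tt N21945 D21983))
theorem Q19809 : ∀ i, i < 19809 → P i := stepQ 19808 Q19808 (allL N19808 (tt N21943 (iv F41912)) (tt N20919 (iv F39383)) (tt N17040 F36780) (tt N21945 (iv F41914)) (tt N21897 (iv F41803)) (tt N17039 (iv D19844)))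
theorem Q19810 : ∀ i, i < 19810 → P i := stepQ 19809 Q19809 (allL N19809 (tt N20922 (iv F39386)) (tt N20900 (iv F39330)) (tt N17041 (iv D19845)) (tt N20915 (iv F39373)) (tt N21910 (iv F41838)) (tt N20709 (iv F38931)))
theorem Q19811 : ∀ i, i < 19811 → P i := stepQ 19810 Q19810 (allL N19810 (tt N17042 (iv D19846)) (tt N17049 F36781) (tt N21932 (iv F41887)) (tt N20741 (iv F39004)) (tt N21946 D21984) (tt N20711 (iv F38937)))
theorem Q19812 : ∀ i, i < 19812 → P i := stepQ 19811 Q19811 (allL N19811 (tt N20741 (iv F39002)) (tt N17043 F36782) (tt N17713 (iv F36783)) (tt N17042 (iv D19847)) (tt N21947 D21985) (tt N21641 (iv F41157)))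
theorem Q19813 : ∀ i, i < 19813 → P i := stepQ 19812 Q19812 (allL N19812 (tt N21946 (iv F41915)) (tt N17044 F36784) (tt N21906 (iv F41829)) (tt N21948 D21986) (tt N17042 (iv D19848)) (tt N21949 D21987))
theorem Q19814 : ∀ i, i < 19814 → P i := stepQ 19813 Q19813 (allL N19813 (tt N20711 (iv F38935)) (tt N17045 F36785) (tt N21934 (iv F41892)) (tt N21641 (iv F41156)) (tt N21950 D21988) (tt N17042 (iv D19849)))
theorem Q19815 : ∀ i, i < 19815 → P i := stepQ 19814 Q19814 (allL N19814 (tt N17053 F36786) (tt N21947 (iv F41917)) (tt N17712 F36787) (tt N21951 D21989) (tt N17043 (iv D19850)) (tt N21952 D21990))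
theorem Q19816 : ∀ i, i < 19816 → P i := stepQ 19815 Q19815 (allL N19815 (tt N17055 F36788) (tt N21948 (iv F41919)) (tt N21541 (iv F40928)) (tt N17044 (iv D19851)) (tt N21951 (iv F41923)) (tt N21953 D21991))
theorem Q19817 : ∀ i, i < 19817 → P i := stepQ 19816 Q19816 (allL N19816 (tt N17056 F36789) (tt N21949 (iv F41920)) (tt N17046 F36790) (tt N21953 (iv F41931)) (tt N21954 D21992) (tt N17044 (iv D19852)))
theorem Q19818 : ∀ i, i < 19818 → P i := stepQ 19817 Q19817 (allL N19817 (tt N17057 F36791) (tt N21950 (iv F41921)) (tt N17047 F36792) (tt N21955 D21993) (tt N17045 (iv D19853)) (tt N21954 (iv F41934)))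
theorem Q19819 : ∀ i, i < 19819 → P i := stepQ 19818 Q19818 (allL N19818 (tt N17058 F36793) (tt N20917 (iv F39376)) (tt N21954 (iv F41933)) (tt N20763 (iv F39043)) (tt N17046 (iv D19854)) (tt N17047 F36794))
theorem Q19820 : ∀ i, i < 19820 → P i := stepQ 19819 Q19819 (allL N19819 (tt N17059 F36795) (tt N20918 (iv F39380)) (tt N18374 (iv F36797)) (tt N17047 (iv D19855)) (tt N17048 F36796) (tt N20763 (iv F39045)))
theorem Q19821 : ∀ i, i < 19821 → P i := stepQ 19820 Q19820 (allL N19820 (tt N17051 F36798) (tt N21946 (iv F41916)) (tt N17061 F36799) (tt N21956 D21994) (tt N17049 (iv D19856)) (tt N21957 D21995))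
theorem Q19822 : ∀ i, i < 19822 → P i := stepQ 19821 Q19821 (allL N19821 (tt N20742 (iv F39005)) (tt N17053 F36800) (tt N17082 F36801) (tt N21958 D21996) (tt N17050 (iv D19857)) (tt N21959 D21997))
theorem Q19823 : ∀ i, i < 19823 → P i := stepQ 19822 Q19822 (allL N19822 (tt N21956 (iv F41936)) (tt N17055 F36802) (tt N21960 D21998) (tt N17051 (iv D19858)) (tt N21958 (iv F41940)) (tt N21961 D21999))
theorem Q19824 : ∀ i, i < 19824 → P i := stepQ 19823 Q19823 (allL N19823 (tt N21957 (iv F41937)) (tt N17056 F36803) (tt N17063 F36804) (tt N21961 (iv F41944)) (tt N20718 (iv F38956)) (tt N17051 (iv D19859)))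
theorem Q19825 : ∀ i, i < 19825 → P i := stepQ 19824 Q19824 (allL N19824 (tt N17712 F36805) (tt N17085 F36806) (tt N17053 F36807) (tt N17732 F36808) (tt N17052 (iv D19860)) (tt N20990 (iv F39591)))
theorem Q19826 : ∀ i, i < 19826 → P i := stepQ 19825 Q19825 (allL N19825 (tt N21951 (iv F41922)) (tt N21958 (iv F41939)) (tt N21962 D22000) (tt N17053 (iv D19861)) (tt N17055 F36809) (tt N21963 D22001))
theorem Q19827 : ∀ i, i < 19827 → P i := stepQ 19826 Q19826 (allL N19826 (tt N21952 (iv F41926)) (tt N21959 (iv F41941)) (tt N20990 F39592) (tt N21963 (iv F41952)) (tt N21964 D22002) (tt N17053 (iv D19862)))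
theorem Q19828 : ∀ i, i < 19828 → P i := stepQ 19827 Q19827 (allL N19827 (tt N21642 (iv F41158)) (tt N20716 (iv F38951)) (tt N21640 (iv F41152)) (tt N21965 D22003) (tt N17054 (iv D19863)) (tt N21964 (iv F41954)))
theorem Q19829 : ∀ i, i < 19829 → P i := stepQ 19828 Q19828 (allL N19828 (tt N21541 (iv F40924)) (tt N21966 D22004) (tt N17055 (iv D19864)) (tt N21539 F40918) (tt N21962 (iv F41947)) (tt N21967 D22005))
theorem Q19830 : ∀ i, i < 19830 → P i := stepQ 19829 Q19829 (allL N19829 (tt N21953 (iv F41929)) (tt N21961 (iv F41943)) (tt N21967 (iv F41960)) (tt N17056 F36810) (tt N21968 D22006) (tt N17055 (iv D19865)))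
theorem Q19831 : ∀ i, i < 19831 → P i := stepQ 19830 Q19830 (allL N19830 (tt N21954 (iv F41932)) (tt N20718 (iv F38954)) (tt N17058 F36811) (tt N21969 D22007) (tt N17056 (iv D19866)) (tt N17057 F36812))
theorem Q19832 : ∀ i, i < 19832 → P i := stepQ 19831 Q19831 (allL N19831 (tt N21955 (iv F41935)) (tt N20717 (iv F38953)) (tt N21970 D22008) (tt N17057 (iv D19867)) (tt N21965 (iv F41955)) (tt N21969 (iv F41962)))
theorem Q19833 : ∀ i, i < 19833 → P i := stepQ 19832 Q19832 (allL N19832 (tt N18374 F36813) (tt N20704 (iv F38910)) (tt N17059 (iv D19868)) (tt N20887 (iv F39308)) (tt N17060 F36814) (tt N20706 (iv F38921)))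
theorem Q19834 : ∀ i, i < 19834 → P i := stepQ 19833 Q19833 (allL N19833 (tt N21938 (iv F41899)) (tt N17060 (iv D19869)) (tt N17064 F36815) (tt N17793 F36816) (tt N20704 (iv F38911)) (tt N17074 F36817))
theorem Q19835 : ∀ i, i < 19835 → P i := stepQ 19834 Q19834 (allL N19834 (tt N17062 F36818) (tt N20923 (iv F39389)) (tt N21971 D22009) (tt N17061 (iv D19870)) (tt N20715 (iv F38949)) (tt N21914 (iv F41843)))
theorem Q19836 : ∀ i, i < 19836 → P i := stepQ 19835 Q19835 (allL N19835 (tt N17063 F36819) (tt N21899 (iv F41806)) (tt N21957 (iv F41938)) (tt N21914 (iv F41842)) (tt N20714 (iv F38946)) (tt N17061 (iv D19871)))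
theorem Q19837 : ∀ i, i < 19837 → P i := stepQ 19836 Q19836 (allL N19836 (tt N21971 (iv F41964)) (tt N21901 (iv F41811)) (tt N17062 (iv D19872)) (tt N21972 D22010) (tt N20719 (iv F38957)) (tt N21912 (iv F41841)))
theorem Q19838 : ∀ i, i < 19838 → P i := stepQ 19837 Q19837 (allL N19837 (tt N18038 F36820) (tt N17067 F36821) (tt N17286 F36822) (tt N21973 D22011) (tt N17065 (iv D19873)) (tt N21974 D22012))
theorem Q19839 : ∀ i, i < 19839 → P i := stepQ 19838 Q19838 (allL N19838 (tt N18039 F36823) (tt N17068 F36824) (tt N21975 D22013) (tt N17066 (iv D19874)) (tt N21973 (iv F41967)) (tt N18047 F36825))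
theorem Q19840 : ∀ i, i < 19840 → P i := stepQ 19839 Q19839 (allL N19839 (tt N17071 F36826) (tt N21973 (iv F41966)) (tt N21976 D22014) (tt N17067 (iv D19875)) (tt N17068 F36827) (tt N20249 (iv F37791)))
theorem Q19841 : ∀ i, i < 19841 → P i := stepQ 19840 Q19840 (allL N19840 (tt N17072 F36828) (tt N21974 (iv F41970)) (tt N17350 F36829) (tt N20249 F37792) (tt N21540 (iv F40921)) (tt N17067 (iv D19876)))
theorem Q19842 : ∀ i, i < 19842 → P i := stepQ 19841 Q19841 (allL N19841 (tt N17073 F36830) (tt N21977 D22015) (tt N17068 (iv D19877)) (tt N21967 (iv F41961)) (tt N21976 (iv F41977)) (tt N21539 F40917))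
theorem Q19843 : ∀ i, i < 19843 → P i := stepQ 19842 Q19842 (allL N19842 (tt N17314 F36831) (tt N17070 F36832) (tt N18033 F36833) (tt N21978 D22016) (tt N17069 (iv D19878)) (tt N21979 D22017))
theorem Q19844 : ∀ i, i < 19844 → P i := stepQ 19843 Q19843 (allL N19843 (tt N17343 F36834) (tt N21978 (iv F41981)) (tt N18389 (iv F36836)) (tt N17070 (iv D19879)) (tt N17340 F36835) (tt N21980 D22018))
theorem Q19845 : ∀ i, i < 19845 → P i := stepQ 19844 Q19844 (allL N19844 (tt N17350 F36837) (tt N21979 (iv F41984)) (tt N17072 F36838) (tt N21980 (iv F41989)) (tt N21542 (iv F40930)) (tt N17070 (iv D19880)))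
theorem Q19846 : ∀ i, i < 19846 → P i := stepQ 19845 Q19845 (allL N19845 (tt N21976 (iv F41976)) (tt N20248 (iv F37787)) (tt N17071 (iv D19881)) (tt N21981 D22019) (tt N17073 F36839) (tt N20247 (iv F37786)))
theorem Q19847 : ∀ i, i < 19847 → P i := stepQ 19846 Q19846 (allL N19846 (tt N21982 D22020) (tt N17073 (iv D19882)) (tt N18070 F36840) (tt N21983 D22021) (tt N20248 (iv F37789)) (tt N18069 F36841))
theorem Q19848 : ∀ i, i < 19848 → P i := stepQ 19847 Q19847 (allL N19847 (tt N21967 (iv F41959)) (tt N21983 (iv F41997)) (tt N21953 (iv F41930)) (tt N17073 (iv D19883)) (tt N21984 D22022) (tt N21541 (iv F40927)))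
theorem Q19849 : ∀ i, i < 19849 → P i := stepQ 19848 Q19848 (allL N19848 (tt N17074 (iv D19884)) (tt N18370 F36842) (tt N17075 F36843) (tt N17671 F36844) (tt N18084 F36845) (tt N21938 (iv F41903)))
theorem Q19850 : ∀ i, i < 19850 → P i := stepQ 19849 Q19849 (allL N19849 (tt N18304 F36846) (tt N17080 F36847) (tt N17700 F36848) (tt N17078 F36849) (tt N21985 D22023) (tt N17077 (iv D19885)))
theorem Q19851 : ∀ i, i < 19851 → P i := stepQ 19850 Q19850 (allL N19850 (tt N17087 F36850) (tt N21985 (iv F42002)) (tt N19409 F36851) (tt N21920 (iv F41856)) (tt N17080 (iv D19886)) (tt N20791 (iv F39109)))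
theorem Q19852 : ∀ i, i < 19852 → P i := stepQ 19851 Q19851 (allL N19851 (tt N17083 F36852) (tt N20776 (iv F39079)) (tt N17083 F36853) (tt N20743 (iv F39008)) (tt N20869 (iv F39270)) (tt N17081 (iv D19887)))
theorem Q19853 : ∀ i, i < 19853 → P i := stepQ 19852 Q19852 (allL N19852 (tt N20743 (iv F39007)) (tt N17086 F36854) (tt N21959 (iv F41942)) (tt N17083 F36855) (tt N21986 D22024) (tt N17082 (iv D19888)))
theorem Q19854 : ∀ i, i < 19854 → P i := stepQ 19853 Q19853 (allL N19853 (tt N20744 (iv F39009)) (tt N17087 F36856) (tt N20716 (iv F38952)) (tt N20876 (iv F39278)) (tt N17084 (iv D19889)) (tt N21986 (iv F42005)))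
theorem Q19855 : ∀ i, i < 19855 → P i := stepQ 19854 Q19854 (allL N19854 (tt N20791 (iv F39107)) (tt N21986 (iv F42004)) (tt N18650 F36857) (tt N21922 (iv F41861)) (tt N17086 (iv D19890)) (tt N17087 F36858))
theorem Q19856 : ∀ i, i < 19856 → P i := stepQ 19855 Q19855 (allL N19855 (tt N17090 F36859) (tt N20868 (iv F39265)) (tt N21987 D22025) (tt N17088 (iv D19891)) (tt N20580 (iv F38579)) (tt N21988 D22026))
theorem Q19857 : ∀ i, i < 19857 → P i := stepQ 19856 Q19856 (allL N19856 (tt N17091 F36860) (tt N20869 (iv F39268)) (tt N17089 F36861) (tt N21988 (iv F42008)) (tt N20776 (iv F39081)) (tt N17088 (iv D19892)))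
theorem Q19858 : ∀ i, i < 19858 → P i := stepQ 19857 Q19857 (allL N19857 (tt N21987 (iv F42006)) (tt N21989 D22027) (tt N17090 (iv D19893)) (tt N21990 D22028) (tt N21917 (iv F41847)) (tt N21991 D22029))
theorem Q19859 : ∀ i, i < 19859 → P i := stepQ 19858 Q19858 (allL N19858 (tt N21988 (iv F42007)) (tt N17093 F36862) (tt N21991 (iv F42010)) (tt N17091 F36863) (tt N21992 D22030) (tt N17090 (iv D19894)))
theorem Q19860 : ∀ i, i < 19860 → P i := stepQ 19859 Q19859 (allL N19859 (tt N21773 (iv F41491)) (tt N17092 (iv D19895)) (tt N21989 (iv F42009)) (tt N19517 F36864) (tt N21919 (iv F41853)) (tt N21993 D22031))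
theorem Q19861 : ∀ i, i < 19861 → P i := stepQ 19860 Q19860 (allL N19860 (tt N21718 (iv F41352)) (tt N21993 (iv F42015)) (tt N17093 F36865) (tt N19242 F36866) (tt N21994 D22032) (tt N17092 (iv D19896)))
theorem Q19862 : ∀ i, i < 19862 → P i := stepQ 19861 Q19861 (allL N19861 (tt N21922 (iv F41859)) (tt N21992 (iv F42014)) (tt N21994 (iv F42019)) (tt N20791 (iv F39108)) (tt N17093 (iv D19897)) (tt N21920 (iv F41857)))
theorem Q19863 : ∀ i, i < 19863 → P i := stepQ 19862 Q19862 (allL N19862 (tt N17138 F36867) (tt N17096 F36868) (tt N17106 F36869) (tt N19934 (iv F37030)) (tt N17094 (iv D19898)) (tt N19114 F36870))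
theorem Q19864 : ∀ i, i < 19864 → P i := stepQ 19863 Q19863 (allL N19863 (tt N17100 F36871) (tt N17162 F36872) (tt N17969 F36873) (tt N21995 D22033) (tt N17095 (iv D19899)) (tt N21996 D22034))
theorem Q19865 : ∀ i, i < 19865 → P i := stepQ 19864 Q19864 (allL N19864 (tt N17101 F36874) (tt N19934 (iv F37029)) (tt N21997 D22035) (tt N17096 (iv D19900)) (tt N21995 (iv F42024)) (tt N19933 F37027))
theorem Q19866 : ∀ i, i < 19866 → P i := stepQ 19865 Q19865 (allL N19865 (tt N17102 F36875) (tt N19114 F36876) (tt N17097 F36877) (tt N19933 (iv F37026)) (tt N17142 F36878) (tt N17096 (iv D19901)))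
theorem Q19867 : ∀ i, i < 19867 → P i := stepQ 19866 Q19866 (allL N19866 (tt N17103 F36879) (tt N21998 D22036) (tt N17098 (iv D19902)) (tt N18725 F36881) (tt N17152 F36880) (tt N20554 (iv F38515)))
theorem Q19868 : ∀ i, i < 19868 → P i := stepQ 19867 Q19867 (allL N19867 (tt N17969 F36882) (tt N17160 F36883) (tt N17100 F36884) (tt N18710 F36885) (tt N17099 (iv D19903)) (tt N21999 D22037))
theorem Q19869 : ∀ i, i < 19869 → P i := stepQ 19868 Q19868 (allL N19868 (tt N21995 (iv F42022)) (tt N17149 F36886) (tt N22000 D22038) (tt N17100 (iv D19904)) (tt N17101 F36887) (tt N22001 D22039))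
theorem Q19870 : ∀ i, i < 19870 → P i := stepQ 19869 Q19869 (allL N19869 (tt N21996 (iv F42026)) (tt N17148 F36888) (tt N21999 (iv F42037)) (tt N22001 (iv F42043)) (tt N17145 F36889) (tt N17100 (iv D19905)))
theorem Q19871 : ∀ i, i < 19871 → P i := stepQ 19870 Q19870 (allL N19870 (tt N21997 (iv F42031)) (tt N22002 D22040) (tt N17101 (iv D19906)) (tt N22003 D22041) (tt N22000 (iv F42040)) (tt N22004 D22042))
theorem Q19872 : ∀ i, i < 19872 → P i := stepQ 19871 Q19871 (allL N19871 (tt N19933 (iv F37024)) (tt N17150 F36890) (tt N22004 (iv F42046)) (tt N17102 F36891) (tt N19931 (iv F37023)) (tt N17101 (iv D19907)))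
theorem Q19873 : ∀ i, i < 19873 → P i := stepQ 19872 Q19872 (allL N19872 (tt N22005 D22043) (tt N17103 (iv D19908)) (tt N17104 F36892) (tt N19950 (iv F37077)) (tt N17154 F36893) (tt N19710 F36894))
theorem Q19874 : ∀ i, i < 19874 → P i := stepQ 19873 Q19873 (allL N19873 (tt N18725 F36895) (tt N19950 (iv F37075)) (tt N18722 F36896) (tt N17103 (iv D19909)) (tt N19946 F37071) (tt N20556 (iv F38520)))
theorem Q19875 : ∀ i, i < 19875 → P i := stepQ 19874 Q19874 (allL N19874 (tt N17104 (iv D19910)) (tt N17130 F36897) (tt N22005 (iv F42047)) (tt N19700 F36898) (tt N17158 F36899) (tt N19709 F36900))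
theorem Q19876 : ∀ i, i < 19876 → P i := stepQ 19875 Q19875 (allL N19875 (tt N17106 F36901) (tt N17114 F36902) (tt N17138 F36903) (tt N22006 D22044) (tt N17105 (iv D19911)) (tt N20190 (iv F37633)))
theorem Q19877 : ∀ i, i < 19877 → P i := stepQ 19876 Q19876 (allL N19876 (tt N22006 (iv F42051)) (tt N17108 F36904) (tt N17532 F36905) (tt N17106 (iv D19912)) (tt N20961 (iv F39503)) (tt N21120 (iv F39874)))
theorem Q19878 : ∀ i, i < 19878 → P i := stepQ 19877 Q19877 (allL N19877 (tt N20190 (iv F37630)) (tt N17109 F36906) (tt N19114 F36907) (tt N21120 (iv F39873)) (tt N19113 F36908) (tt N17106 (iv D19913)))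
theorem Q19879 : ∀ i, i < 19879 → P i := stepQ 19878 Q19878 (allL N19878 (tt N17120 F36909) (tt N21916 (iv F41845)) (tt N17108 (iv D19914)) (tt N20754 (iv F39029)) (tt N20962 (iv F39506)) (tt N20753 (iv F39025)))
theorem Q19880 : ∀ i, i < 19880 → P i := stepQ 19879 Q19879 (allL N19879 (tt N17121 F36910) (tt N21120 (iv F39871)) (tt N20753 (iv F39024)) (tt N17109 F36911) (tt N20699 (iv F38898)) (tt N17108 (iv D19915)))
theorem Q19881 : ∀ i, i < 19881 → P i := stepQ 19880 Q19880 (allL N19880 (tt N17122 F36912) (tt N19113 F36913) (tt N17111 F36914) (tt N19419 (iv F36916)) (tt N17109 (iv D19916)) (tt N17110 F36915))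
theorem Q19882 : ∀ i, i < 19882 → P i := stepQ 19881 Q19881 (allL N19881 (tt N17124 F36917) (tt N17153 F36918) (tt N22007 D22045) (tt N17111 (iv D19917)) (tt N20702 (iv F38904)) (tt N17112 F36919))
theorem Q19883 : ∀ i, i < 19883 → P i := stepQ 19882 Q19882 (allL N19882 (tt N17125 F36920) (tt N22008 D22046) (tt N17112 (iv D19918)) (tt N22009 D22047) (tt N17113 F36921) (tt N22007 (iv F42057)))
theorem Q19884 : ∀ i, i < 19884 → P i := stepQ 19883 Q19883 (allL N19883 (tt N22010 D22048) (tt N17113 (iv D19919)) (tt N21998 (iv F42032)) (tt N20929 (iv F39411)) (tt N22008 (iv F42059)) (tt N20930 (iv F39414)))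
theorem Q19885 : ∀ i, i < 19885 → P i := stepQ 19884 Q19884 (allL N19884 (tt N17116 F36922) (tt N22006 (iv F42052)) (tt N22011 D22049) (tt N17114 (iv D19920)) (tt N18632 F36923) (tt N20192 (iv F37639)))
theorem Q19886 : ∀ i, i < 19886 → P i := stepQ 19885 Q19885 (allL N19885 (tt N18632 F36924) (tt N17118 F36925) (tt N22012 D22050) (tt N17115 (iv D19921)) (tt N17116 F36926) (tt N22013 D22051))
theorem Q19887 : ∀ i, i < 19887 → P i := stepQ 19886 Q19886 (allL N19886 (tt N18633 F36927) (tt N17119 F36928) (tt N18629 F36929) (tt N22013 (iv F42074)) (tt N17135 F36930) (tt N17115 (iv D19922)))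
theorem Q19888 : ∀ i, i < 19888 → P i := stepQ 19887 Q19887 (allL N19887 (tt N22011 (iv F42065)) (tt N22014 D22052) (tt N17116 (iv D19923)) (tt N22015 D22053) (tt N22012 (iv F42068)) (tt N22016 D22054))
theorem Q19889 : ∀ i, i < 19889 → P i := stepQ 19888 Q19888 (allL N19888 (tt N20192 (iv F37638)) (tt N17121 F36931) (tt N22016 (iv F42079)) (tt N17117 F36932) (tt N22017 D22055) (tt N17116 (iv D19924)))
theorem Q19890 : ∀ i, i < 19890 → P i := stepQ 19889 Q19889 (allL N19889 (tt N20962 (iv F39505)) (tt N22018 D22056) (tt N17118 (iv D19925)) (tt N22019 D22057) (tt N17120 F36933) (tt N22020 D22058))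
theorem Q19891 : ∀ i, i < 19891 → P i := stepQ 19890 Q19890 (allL N19890 (tt N20697 (iv F38891)) (tt N22013 (iv F42072)) (tt N22020 (iv F42089)) (tt N17119 F36934) (tt N20694 (iv F38883)) (tt N17118 (iv D19926)))
theorem Q19892 : ∀ i, i < 19892 → P i := stepQ 19891 Q19891 (allL N19891 (tt N22021 D22059) (tt N17120 (iv D19927)) (tt N22014 (iv F42076)) (tt N22022 D22060) (tt N22018 (iv F42086)) (tt N22023 D22061))
theorem Q19893 : ∀ i, i < 19893 → P i := stepQ 19892 Q19892 (allL N19892 (tt N20754 (iv F39026)) (tt N22022 (iv F42091)) (tt N20751 (iv F39019)) (tt N17120 (iv D19928)) (tt N22024 D22062) (tt N20750 F39017))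
theorem Q19894 : ∀ i, i < 19894 → P i := stepQ 19893 Q19893 (allL N19893 (tt N20753 (iv F39023)) (tt N22023 (iv F42092)) (tt N17121 F36935) (tt N20750 (iv F39016)) (tt N22025 D22063) (tt N17120 (iv D19929)))
theorem Q19895 : ∀ i, i < 19895 → P i := stepQ 19894 Q19894 (allL N19894 (tt N20699 (iv F38895)) (tt N22017 (iv F42082)) (tt N22025 (iv F42093)) (tt N20695 (iv F38888)) (tt N17121 (iv D19930)) (tt N20694 F38884))
theorem Q19896 : ∀ i, i < 19896 → P i := stepQ 19895 Q19895 (allL N19895 (tt N19419 F36936) (tt N17136 F36937) (tt N19421 (iv F36939)) (tt N17122 (iv D19931)) (tt N20695 (iv F38889)) (tt N17123 F36938))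
theorem Q19897 : ∀ i, i < 19897 → P i := stepQ 19896 Q19896 (allL N19896 (tt N22007 (iv F42055)) (tt N19422 F36940) (tt N17124 (iv D19932)) (tt N19422 F36942) (tt N20700 (iv F38900)) (tt N17125 F36941))
theorem Q19898 : ∀ i, i < 19898 → P i := stepQ 19897 Q19897 (allL N19897 (tt N22009 (iv F42060)) (tt N17125 (iv D19933)) (tt N17129 F36943) (tt N17125 (iv F36946)) (tt N17126 F36944) (tt N19422 F36945))
theorem Q19899 : ∀ i, i < 19899 → P i := stepQ 19898 Q19898 (allL N19898 (tt N17126 (iv D19934)) (tt N22010 (iv F42064)) (tt N17130 F36947) (tt N20927 (iv F39406)) (tt N22009 (iv F42062)) (tt N20931 (iv F39416)))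
theorem Q19900 : ∀ i, i < 19900 → P i := stepQ 19899 Q19899 (allL N19899 (tt N20927 (iv F39404)) (tt N17127 F36948) (tt N20925 (iv F39399)) (tt N17126 (iv D19935)) (tt N17127 F36949) (tt N20932 (iv F39418)))
theorem Q19901 : ∀ i, i < 19901 → P i := stepQ 19900 Q19900 (allL N19900 (tt N19619 F36950) (tt N18312 F36951) (tt N22026 D22064) (tt N17128 (iv D19936)) (tt N22027 D22065) (tt N20399 (iv F38173)))
theorem Q19902 : ∀ i, i < 19902 → P i := stepQ 19901 Q19901 (allL N19901 (tt N17129 (iv D19937)) (tt N17158 F36952) (tt N22009 (iv F42061)) (tt N19421 F36953) (tt N17130 F36954) (tt N19420 F36955))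
theorem Q19903 : ∀ i, i < 19903 → P i := stepQ 19902 Q19902 (allL N19902 (tt N20212 (iv F37694)) (tt N17132 F36956) (tt N21629 (iv F41123)) (tt N17131 (iv D19938)) (tt N22028 D22066) (tt N20924 (iv F39394)))
theorem Q19904 : ∀ i, i < 19904 → P i := stepQ 19903 Q19903 (allL N19903 (tt N17134 F36957) (tt N22028 (iv F42098)) (tt N20933 (iv F39420)) (tt N19688 F36958) (tt N17132 (iv D19939)) (tt N22029 D22067))
theorem Q19905 : ∀ i, i < 19905 → P i := stepQ 19904 Q19904 (allL N19904 (tt N22030 D22068) (tt N17133 (iv D19940)) (tt N20225 (iv F37729)) (tt N20930 (iv F39413)) (tt N22031 D22069) (tt N20929 (iv F39412)))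
theorem Q19906 : ∀ i, i < 19906 → P i := stepQ 19905 Q19905 (allL N19905 (tt N20933 (iv F39419)) (tt N22031 (iv F42102)) (tt N17134 F36959) (tt N22032 D22070) (tt N17133 (iv D19941)) (tt N22033 D22071))
theorem Q19907 : ∀ i, i < 19907 → P i := stepQ 19906 Q19906 (allL N19906 (tt N22029 (iv F42100)) (tt N20223 (iv F37725)) (tt N22033 (iv F42103)) (tt N19690 F36960) (tt N20928 (iv F39409)) (tt N17134 (iv D19942)))
theorem Q19908 : ∀ i, i < 19908 → P i := stepQ 19907 Q19907 (allL N19907 (tt N20191 (iv F37634)) (tt N20695 (iv F38886)) (tt N18840 F36961) (tt N22017 (iv F42084)) (tt N17136 (iv D19943)) (tt N20588 (iv F38605)))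
theorem Q19909 : ∀ i, i < 19909 → P i := stepQ 19908 Q19908 (allL N19908 (tt N18530 F36962) (tt N18310 F36963) (tt N18527 F36964) (tt N22027 (iv F42097)) (tt N17137 (iv D19944)) (tt N22034 D22072))
theorem Q19910 : ∀ i, i < 19910 → P i := stepQ 19909 Q19909 (allL N19909 (tt N17151 F36965) (tt N20093 (iv F37415)) (tt N17139 (iv D19945)) (tt N19647 F36968) (tt N17165 F36966) (tt N19655 F36967))
theorem Q19911 : ∀ i, i < 19911 → P i := stepQ 19910 Q19910 (allL N19910 (tt N17145 F36969) (tt N17265 F36970) (tt N18724 F36971) (tt N17264 F36972) (tt N21996 (iv F42030)) (tt N17140 (iv D19946)))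
theorem Q19912 : ∀ i, i < 19912 → P i := stepQ 19911 Q19911 (allL N19911 (tt N18723 F36973) (tt N20396 (iv F38170)) (tt N19946 (iv F37069)) (tt N17143 (iv D19947)) (tt N18722 F36974) (tt N19944 F37066))
theorem Q19913 : ∀ i, i < 19913 → P i := stepQ 19912 Q19912 (allL N19912 (tt N18724 F36975) (tt N20583 (iv F38589)) (tt N17145 F36976) (tt N19944 (iv F37065)) (tt N21999 (iv F42039)) (tt N17143 (iv D19948)))
theorem Q19914 : ∀ i, i < 19914 → P i := stepQ 19913 Q19913 (allL N19913 (tt N17264 F36977) (tt N17147 F36978) (tt N17269 F36979) (tt N17145 F36980) (tt N17266 F36981) (tt N17144 (iv D19949)))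
theorem Q19915 : ∀ i, i < 19915 → P i := stepQ 19914 Q19914 (allL N19914 (tt N18845 F36982) (tt N19112 F36983) (tt N22035 D22073) (tt N17146 (iv D19950)) (tt N18846 F36984) (tt N19115 F36985))
theorem Q19916 : ∀ i, i < 19916 → P i := stepQ 19915 Q19915 (allL N19915 (tt N17166 F36986) (tt N22001 (iv F42042)) (tt N19609 F36987) (tt N17148 (iv D19951)) (tt N19964 (iv F37124)) (tt N17149 F36988))
theorem Q19917 : ∀ i, i < 19917 → P i := stepQ 19916 Q19916 (allL N19916 (tt N17165 F36989) (tt N22036 D22074) (tt N17149 (iv D19952)) (tt N19610 F36990) (tt N17151 F36991) (tt N19609 F36992))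
theorem Q19918 : ∀ i, i < 19918 → P i := stepQ 19917 Q19917 (allL N19917 (tt N19655 F36993) (tt N22037 D22075) (tt N17150 (iv D19953)) (tt N19578 F36994) (tt N20092 (iv F37413)) (tt N17151 F36995))
theorem Q19919 : ∀ i, i < 19919 → P i := stepQ 19918 Q19918 (allL N19918 (tt N22038 D22076) (tt N17151 (iv D19954)) (tt N22002 (iv F42045)) (tt N22039 D22077) (tt N22036 (iv F42114)) (tt N22037 (iv F42117)))
theorem Q19920 : ∀ i, i < 19920 → P i := stepQ 19919 Q19919 (allL N19919 (tt N19647 F36996) (tt N22039 (iv F42118)) (tt N19579 F36997) (tt N17151 (iv D19955)) (tt N20179 (iv F37612)) (tt N19578 F36998))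
theorem Q19921 : ∀ i, i < 19921 → P i := stepQ 19920 Q19920 (allL N19920 (tt N22040 D22078) (tt N17152 (iv D19956)) (tt N22008 (iv F42058)) (tt N22041 D22079) (tt N21998 (iv F42034)) (tt N22042 D22080))
theorem Q19922 : ∀ i, i < 19922 → P i := stepQ 19921 Q19921 (allL N19921 (tt N17155 F36999) (tt N22041 (iv F42124)) (tt N19115 F37000) (tt N17152 (iv D19957)) (tt N19943 F37064) (tt N22035 (iv F42112)))
theorem Q19923 : ∀ i, i < 19923 → P i := stepQ 19922 Q19922 (allL N19922 (tt N17156 F37001) (tt N22042 (iv F42129)) (tt N17153 F37002) (tt N22035 (iv F42110)) (tt N22043 D22081) (tt N17152 (iv D19958)))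
theorem Q19924 : ∀ i, i < 19924 → P i := stepQ 19923 Q19923 (allL N19923 (tt N17157 F37003) (tt N20702 (iv F38902)) (tt N22043 (iv F42132)) (tt N20559 (iv F38528)) (tt N17153 (iv D19959)) (tt N20555 (iv F38519)))
theorem Q19925 : ∀ i, i < 19925 → P i := stepQ 19924 Q19924 (allL N19924 (tt N17154 (iv D19960)) (tt N22040 (iv F42120)) (tt N17158 F37004) (tt N19334 F37005) (tt N22005 (iv F42049)) (tt N19338 F37006))
theorem Q19926 : ∀ i, i < 19926 → P i := stepQ 19925 Q19925 (allL N19925 (tt N22035 (iv F42108)) (tt N18842 F37007) (tt N18845 F37008) (tt N17156 F37009) (tt N18843 F37010) (tt N17155 (iv D19961)))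
theorem Q19927 : ∀ i, i < 19927 → P i := stepQ 19926 Q19926 (allL N19926 (tt N22043 (iv F42131)) (tt N20392 (iv F38158)) (tt N17157 F37011) (tt N22044 D22082) (tt N17156 (iv D19962)) (tt N20557 (iv F38522)))
theorem Q19928 : ∀ i, i < 19928 → P i := stepQ 19927 Q19927 (allL N19927 (tt N18694 F37012) (tt N18710 F37013) (tt N22045 D22083) (tt N17160 (iv D19963)) (tt N18692 F37014) (tt N22046 D22084))
theorem Q19929 : ∀ i, i < 19929 → P i := stepQ 19928 Q19928 (allL N19928 (tt N20587 (iv F38598)) (tt N21999 (iv F42036)) (tt N17161 F37015) (tt N22046 (iv F42139)) (tt N20583 (iv F38591)) (tt N17160 (iv D19964)))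
theorem Q19930 : ∀ i, i < 19930 → P i := stepQ 19929 Q19929 (allL N19929 (tt N17163 F37016) (tt N21995 (iv F42023)) (tt N19963 (iv F37120)) (tt N17162 (iv D19965)) (tt N19934 (iv F37031)) (tt N17268 F37017))
theorem Q19931 : ∀ i, i < 19931 → P i := stepQ 19930 Q19930 (allL N19930 (tt N17164 F37018) (tt N21996 (iv F42027)) (tt N20582 (iv F38585)) (tt N17268 F37019) (tt N17265 F37020) (tt N17162 (iv D19966)))
theorem Q19932 : ∀ i, i < 19932 → P i := stepQ 19931 Q19931 (allL N19931 (tt N17168 F37021) (tt N17505 F37022) (tt N22047 D22085) (tt N17167 (iv D19967)) (tt N19871 F37023) (tt N20008 (iv F37241)))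
theorem Q19933 : ∀ i, i < 19933 → P i := stepQ 19932 Q19932 (allL N19932 (tt N22047 (iv F42140)) (tt N20014 (iv F37250)) (tt N17168 (iv D19968)) (tt N22047 (iv F42142)) (tt N22048 D22086) (tt N20009 (iv F37243)))
theorem Q19934 : ∀ i, i < 19934 → P i := stepQ 19933 Q19933 (allL N19933 (tt N19871 F37024) (tt N17169 F37025) (tt N22048 (iv F42144)) (tt N19865 F37026) (tt N17168 (iv D19969)) (tt N19864 (iv F37027)))
theorem Q19935 : ∀ i, i < 19935 → P i := stepQ 19934 Q19934 (allL N19934 (tt N17507 F37028) (tt N19864 F37029) (tt N20016 (iv F37255)) (tt N19862 F37030) (tt N19929 F37031) (tt N17169 (iv D19970)))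
theorem Q19936 : ∀ i, i < 19936 → P i := stepQ 19935 Q19935 (allL N19935 (tt N17201 F37032) (tt N17171 F37033) (tt N17277 F37034) (tt N21809 (iv F41567)) (tt N17201 F37035) (tt N17170 (iv D19971)))
theorem Q19937 : ∀ i, i < 19937 → P i := stepQ 19936 Q19936 (allL N19936 (tt N17175 F37036) (tt N18361 (iv F37040)) (tt N17172 (iv D19972)) (tt N17515 F37037) (tt N17202 F37038) (tt N17519 F37039))
theorem Q19938 : ∀ i, i < 19938 → P i := stepQ 19937 Q19937 (allL N19937 (tt N17202 F37041) (tt N21817 (iv F41598)) (tt N17173 (iv D19973)) (tt N17528 F37042) (tt N17175 F37043) (tt N17527 (iv F37044)))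
theorem Q19939 : ∀ i, i < 19939 → P i := stepQ 19938 Q19938 (allL N19938 (tt N17203 F37045) (tt N17179 F37046) (tt N17527 F37047) (tt N17174 F37048) (tt N18345 F37049) (tt N17173 (iv D19974)))
theorem Q19940 : ∀ i, i < 19940 → P i := stepQ 19939 Q19939 (allL N19939 (tt N17515 F37050) (tt N21816 (iv F41593)) (tt N17480 F37051) (tt N17175 (iv D19975)) (tt N18339 F37052) (tt N17479 F37053))
theorem Q19941 : ∀ i, i < 19941 → P i := stepQ 19940 Q19940 (allL N19940 (tt N17270 F37054) (tt N17177 F37055) (tt N22049 D22087) (tt N17176 (iv D19976)) (tt N17195 F37056) (tt N21787 (iv F41522)))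
theorem Q19942 : ∀ i, i < 19942 → P i := stepQ 19941 Q19941 (allL N19941 (tt N17271 F37057) (tt N17178 F37058) (tt N17194 F37059) (tt N21787 (iv F41521)) (tt N17194 F37060) (tt N17176 (iv D19977)))
theorem Q19943 : ∀ i, i < 19943 → P i := stepQ 19942 Q19942 (allL N19942 (tt N17182 F37061) (tt N21593 (iv F41052)) (tt N21116 (iv F39865)) (tt N17181 (iv D19978)) (tt N22050 D22088) (tt N21115 F39863))
theorem Q19944 : ∀ i, i < 19944 → P i := stepQ 19943 Q19943 (allL N19943 (tt N17183 F37062) (tt N21585 (iv F41030)) (tt N17189 F37063) (tt N21115 (iv F39861)) (tt N19921 (iv F37064)) (tt N17181 (iv D19979)))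
theorem Q19945 : ∀ i, i < 19945 → P i := stepQ 19944 Q19944 (allL N19944 (tt N21116 (iv F39864)) (tt N22051 D22089) (tt N17182 (iv D19980)) (tt N19912 F37065) (tt N22052 D22090) (tt N19911 (iv F37066)))
theorem Q19946 : ∀ i, i < 19946 → P i := stepQ 19945 Q19945 (allL N19945 (tt N22050 (iv F42151)) (tt N17185 F37067) (tt N22052 (iv F42156)) (tt N21414 (iv F40583)) (tt N17182 (iv D19981)) (tt N22053 D22091))
theorem Q19947 : ∀ i, i < 19947 → P i := stepQ 19946 Q19946 (allL N19946 (tt N21115 (iv F39860)) (tt N17186 F37068) (tt N19911 F37069) (tt N17183 F37070) (tt N19873 (iv F37071)) (tt N17182 (iv D19982)))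
theorem Q19948 : ∀ i, i < 19948 → P i := stepQ 19947 Q19947 (allL N19947 (tt N22054 D22092) (tt N17184 (iv D19983)) (tt N22051 (iv F42152)) (tt N17770 F37072) (tt N22055 D22093) (tt N17769 F37073))
theorem Q19949 : ∀ i, i < 19949 → P i := stepQ 19948 Q19948 (allL N19948 (tt N21597 (iv F41057)) (tt N22055 (iv F42162)) (tt N17185 F37074) (tt N22056 D22094) (tt N17184 (iv D19984)) (tt N22057 D22095))
theorem Q19950 : ∀ i, i < 19950 → P i := stepQ 19949 Q19949 (allL N19949 (tt N21598 (iv F41059)) (tt N22053 (iv F42157)) (tt N22057 (iv F42164)) (tt N21415 (iv F40585)) (tt N21873 F41741) (tt N17185 (iv D19985)))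
theorem Q19951 : ∀ i, i < 19951 → P i := stepQ 19950 Q19950 (allL N19950 (tt N21599 (iv F41061)) (tt N19873 F37075) (tt N17771 F37076) (tt N19872 F37077) (tt N17186 (iv D19986)) (tt N21873 (iv F41739)))
theorem Q19952 : ∀ i, i < 19952 → P i := stepQ 19951 Q19951 (allL N19951 (tt N17194 F37078) (tt N17196 F37079) (tt N17271 F37080) (tt N17509 F37081) (tt N17271 F37082) (tt N17193 (iv D19987)))
theorem Q19953 : ∀ i, i < 19953 → P i := stepQ 19952 Q19952 (allL N19952 (tt N17272 F37083) (tt N17491 F37084) (tt N17195 (iv D19988)) (tt N22058 D22096) (tt N22049 (iv F42150)) (tt N17467 F37085))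
theorem Q19954 : ∀ i, i < 19954 → P i := stepQ 19953 Q19953 (allL N19953 (tt N17276 F37086) (tt N17198 F37087) (tt N19023 F37090) (tt N17197 (iv D19989)) (tt N17256 F37088) (tt N19022 (iv F37089)))
theorem Q19955 : ∀ i, i < 19955 → P i := stepQ 19954 Q19954 (allL N19954 (tt N17277 F37091) (tt N17199 F37092) (tt N17201 F37093) (tt N19022 F37094) (tt N17277 F37095) (tt N17197 (iv D19990)))
theorem Q19956 : ∀ i, i < 19956 → P i := stepQ 19955 Q19955 (allL N19955 (tt N17262 F37096) (tt N19022 F37097) (tt N18976 F37098) (tt N17199 F37099) (tt N18975 F37100) (tt N17198 (iv D19991)))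
theorem Q19957 : ∀ i, i < 19957 → P i := stepQ 19956 Q19956 (allL N19956 (tt N21808 (iv F41559)) (tt N18360 F37101) (tt N17200 (iv D19992)) (tt N21546 (iv F40945)) (tt N21806 (iv F41558)) (tt N18358 (iv F37102)))
theorem Q19958 : ∀ i, i < 19958 → P i := stepQ 19957 Q19957 (allL N19957 (tt N21809 (iv F41564)) (tt N17203 F37103) (tt N18358 F37104) (tt N17201 F37105) (tt N22059 D22097) (tt N17200 (iv D19993)))
theorem Q19959 : ∀ i, i < 19959 → P i := stepQ 19958 Q19958 (allL N19958 (tt N18345 F37106) (tt N22059 (iv F42169)) (tt N18027 F37107) (tt N21762 (iv F41462)) (tt N17203 (iv D19994)) (tt N21769 (iv F41480)))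
theorem Q19960 : ∀ i, i < 19960 → P i := stepQ 19959 Q19959 (allL N19959 (tt N17493 F37108) (tt N20798 (iv F39133)) (tt N17204 (iv D19995)) (tt N21746 (iv F41427)) (tt N17496 F37109) (tt N17205 F37110))
theorem Q19961 : ∀ i, i < 19961 → P i := stepQ 19960 Q19960 (allL N19960 (tt N17206 (iv D19996)) (tt N17490 F37111) (tt N17282 F37112) (tt N17360 F37113) (tt N20797 (iv F39129)) (tt N17359 F37114))
theorem Q19962 : ∀ i, i < 19962 → P i := stepQ 19961 Q19961 (allL N19961 (tt N19697 F37115) (tt N20009 (iv F37242)) (tt N17207 (iv D19997)) (tt N22060 D22098) (tt N22061 D22099) (tt N20014 (iv F37251)))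
theorem Q19963 : ∀ i, i < 19963 → P i := stepQ 19962 Q19962 (allL N19962 (tt N19684 F37116) (tt N17208 F37117) (tt N22061 (iv F42174)) (tt N17371 F37118) (tt N17207 (iv D19998)) (tt N22062 D22100))
theorem Q19964 : ∀ i, i < 19964 → P i := stepQ 19963 Q19963 (allL N19963 (tt N17211 F37119) (tt N22062 (iv F42176)) (tt N19929 F37120) (tt N17372 F37121) (tt N20016 (iv F37257)) (tt N17208 (iv D19999)))
theorem Q19965 : ∀ i, i < 19965 → P i := stepQ 19964 Q19964 (allL N19964 (tt N17209 (iv D20000)) (tt N20008 (iv F37240)) (tt N17489 F37122) (tt N17485 F37123) (tt N19915 F37124) (tt N17505 F37125))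
theorem Q19966 : ∀ i, i < 19966 → P i := stepQ 19965 Q19965 (allL N19965 (tt N19976 (iv F37148)) (tt N22063 D22101) (tt N17212 (iv D20001)) (tt N22064 D22102) (tt N17214 F37126) (tt N22065 D22103))
theorem Q19967 : ∀ i, i < 19967 → P i := stepQ 19966 Q19966 (allL N19966 (tt N19977 (iv F37150)) (tt N17217 F37127) (tt N22065 (iv F42180)) (tt N17213 F37128) (tt N22066 D22104) (tt N17212 (iv D20002)))
theorem Q19968 : ∀ i, i < 19968 → P i := stepQ 19967 Q19967 (allL N19967 (tt N22067 D22105) (tt N17214 (iv D20003)) (tt N17218 F37129) (tt N22068 D22106) (tt N22063 (iv F42179)) (tt N17245 (iv F37130)))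
theorem Q19969 : ∀ i, i < 19969 → P i := stepQ 19968 Q19968 (allL N19968 (tt N20025 (iv F37279)) (tt N22068 (iv F42189)) (tt N20169 (iv F37582)) (tt N17214 (iv D20004)) (tt N22069 D22107) (tt N22070 D22108))
theorem Q19970 : ∀ i, i < 19970 → P i := stepQ 19969 Q19969 (allL N19969 (tt N20023 (iv F37276)) (tt N17245 F37131) (tt N17215 F37132) (tt N22070 (iv F42194)) (tt N22071 D22109) (tt N17214 (iv D20005)))
theorem Q19971 : ∀ i, i < 19971 → P i := stepQ 19970 Q19970 (allL N19970 (tt N20022 (iv F37273)) (tt N17219 F37133) (tt N22071 (iv F42196)) (tt N19505 F37134) (tt N17215 (iv D20006)) (tt N22066 (iv F42183)))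
theorem Q19972 : ∀ i, i < 19972 → P i := stepQ 19971 Q19971 (allL N19971 (tt N22072 D22110) (tt N17216 (iv D20007)) (tt N22063 (iv F42178)) (tt N22073 D22111) (tt N17218 F37135) (tt N22074 D22112))
theorem Q19973 : ∀ i, i < 19973 → P i := stepQ 19972 Q19972 (allL N19972 (tt N17225 F37136) (tt N22073 (iv F42199)) (tt N22075 D22113) (tt N17216 (iv D20008)) (tt N17249 F37137) (tt N19982 (iv F37164)))
theorem Q19974 : ∀ i, i < 19974 → P i := stepQ 19973 Q19973 (allL N19973 (tt N17226 F37138) (tt N22074 (iv F42203)) (tt N17217 F37139) (tt N19982 (iv F37162)) (tt N17248 F37140) (tt N17216 (iv D20009)))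
theorem Q19975 : ∀ i, i < 19975 → P i := stepQ 19974 Q19974 (allL N19974 (tt N17227 F37141) (tt N22066 (iv F42181)) (tt N17248 F37142) (tt N17302 F37143) (tt N17217 (iv D20010)) (tt N17219 F37144))
theorem Q19976 : ∀ i, i < 19976 → P i := stepQ 19975 Q19975 (allL N19975 (tt N17218 (iv D20011)) (tt N17228 F37145) (tt N22067 (iv F42185)) (tt N17244 F37146) (tt N22072 (iv F42198)) (tt N17243 F37147))
theorem Q19977 : ∀ i, i < 19977 → P i := stepQ 19976 Q19976 (allL N19976 (tt N19965 F37148) (tt N22076 D22114) (tt N17220 (iv D20012)) (tt N22077 D22115) (tt N17288 F37149) (tt N22078 D22116))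
theorem Q19978 : ∀ i, i < 19978 → P i := stepQ 19977 Q19977 (allL N19977 (tt N19966 F37150) (tt N17223 F37151) (tt N22078 (iv F42214)) (tt N17221 F37152) (tt N22079 D22117) (tt N17220 (iv D20013)))
theorem Q19979 : ∀ i, i < 19979 → P i := stepQ 19978 Q19978 (allL N19978 (tt N22080 D22118) (tt N17222 (iv D20014)) (tt N22076 (iv F42210)) (tt N22080 F42221) (tt N17294 F37153) (tt N22081 D22119))
theorem Q19980 : ∀ i, i < 19980 → P i := stepQ 19979 Q19979 (allL N19979 (tt N17312 F37154) (tt N22080 (iv F42219)) (tt N19982 (iv F37161)) (tt N17222 (iv D20015)) (tt N17319 F37155) (tt N22075 (iv F42209)))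
theorem Q19981 : ∀ i, i < 19981 → P i := stepQ 19980 Q19980 (allL N19980 (tt N17311 F37156) (tt N22081 (iv F42222)) (tt N17223 F37157) (tt N22075 (iv F42207)) (tt N22082 D22120) (tt N17222 (iv D20016)))
theorem Q19982 : ∀ i, i < 19982 → P i := stepQ 19981 Q19981 (allL N19981 (tt N17310 F37158) (tt N22079 (iv F42216)) (tt N22082 (iv F42224)) (tt N17291 F37159) (tt N17223 (iv D20017)) (tt N17292 F37160))
theorem Q19983 : ∀ i, i < 19983 → P i := stepQ 19982 Q19982 (allL N19982 (tt N17224 (iv D20018)) (tt N22072 (iv F42197)) (tt N19979 F37161) (tt N19973 F37162) (tt N17228 F37163) (tt N19972 F37164))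
theorem Q19984 : ∀ i, i < 19984 → P i := stepQ 19983 Q19983 (allL N19983 (tt N22075 (iv F42206)) (tt N17311 F37165) (tt N17225 (iv D20019)) (tt N17311 F37166) (tt N22083 D22121) (tt N17312 F37167))
theorem Q19985 : ∀ i, i < 19985 → P i := stepQ 19984 Q19984 (allL N19984 (tt N17249 F37168) (tt N19985 (iv F37172)) (tt N22083 (iv F42228)) (tt N17231 F37169) (tt N17225 (iv D20020)) (tt N17400 F37170))
theorem Q19986 : ∀ i, i < 19986 → P i := stepQ 19985 Q19985 (allL N19985 (tt N17248 F37171) (tt N19984 F37172) (tt N17227 F37173) (tt N17399 F37174) (tt N17226 (iv D20021)) (tt N17232 F37175))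
theorem Q19987 : ∀ i, i < 19987 → P i := stepQ 19986 Q19986 (allL N19986 (tt N17758 F37176) (tt N20107 (iv F37457)) (tt N17234 F37177) (tt N17758 F37178) (tt N17233 (iv D20022)) (tt N17398 F37179))
theorem Q19988 : ∀ i, i < 19988 → P i := stepQ 19987 Q19987 (allL N19987 (tt N17236 F37180) (tt N17469 F37181) (tt N17235 (iv D20023)) (tt N22084 D22122) (tt N17481 F37182) (tt N17355 F37183))
theorem Q19989 : ∀ i, i < 19989 → P i := stepQ 19988 Q19988 (allL N19988 (tt N22084 (iv F42230)) (tt N17324 F37184) (tt N22085 D22123) (tt N17236 (iv D20024)) (tt N22086 D22124) (tt N17356 F37185))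
theorem Q19990 : ∀ i, i < 19990 → P i := stepQ 19989 Q19989 (allL N19989 (tt N17481 F37186) (tt N17325 F37187) (tt N17237 F37188) (tt N21758 (iv F41450)) (tt N17236 (iv D20025)) (tt N17482 F37189))
theorem Q19991 : ∀ i, i < 19991 → P i := stepQ 19990 Q19990 (allL N19990 (tt N19504 F37190) (tt N17388 F37191) (tt N17239 (iv D20026)) (tt N22087 D22125) (tt N20992 (iv F39598)) (tt N17386 F37192))
theorem Q19992 : ∀ i, i < 19992 → P i := stepQ 19991 Q19991 (allL N19991 (tt N19992 (iv F37195)) (tt N17241 F37193) (tt N20992 (iv F39597)) (tt N17246 F37194) (tt N17239 (iv D20027)) (tt N19997 (iv F37214)))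
theorem Q19993 : ∀ i, i < 19993 → P i := stepQ 19992 Q19992 (allL N19992 (tt N19991 F37195) (tt N17242 F37196) (tt N18577 F37197) (tt N19996 (iv F37210)) (tt N17240 (iv D20028)) (tt N17247 F37198))
theorem Q19994 : ∀ i, i < 19994 → P i := stepQ 19993 Q19993 (allL N19993 (tt N17399 F37199) (tt N19997 (iv F37212)) (tt N17395 F37200) (tt N17248 F37201) (tt N17394 F37202) (tt N17241 (iv D20029)))
theorem Q19995 : ∀ i, i < 19995 → P i := stepQ 19994 Q19994 (allL N19994 (tt N17400 F37203) (tt N19996 (iv F37209)) (tt N22088 D22126) (tt N17242 (iv D20030)) (tt N17393 F37204) (tt N17249 F37205))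
theorem Q19996 : ∀ i, i < 19996 → P i := stepQ 19995 Q19995 (allL N19995 (tt N17245 F37206) (tt N22089 D22127) (tt N17243 (iv D20031)) (tt N18264 F37207) (tt N22090 D22128) (tt N22067 (iv F42186)))
theorem Q19997 : ∀ i, i < 19997 → P i := stepQ 19996 Q19996 (allL N19996 (tt N17246 F37208) (tt N19994 F37209) (tt N22090 (iv F42252)) (tt N19992 F37210) (tt N17243 (iv D20032)) (tt N20001 (iv F37222)))
theorem Q19998 : ∀ i, i < 19998 → P i := stepQ 19997 Q19997 (allL N19997 (tt N17247 F37211) (tt N19993 F37212) (tt N18575 F37213) (tt N20000 (iv F37219)) (tt N17244 (iv D20033)) (tt N19991 F37214))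
theorem Q19999 : ∀ i, i < 19999 → P i := stepQ 19998 Q19998 (allL N19998 (tt N18264 F37215) (tt N22070 (iv F42192)) (tt N18262 F37216) (tt N17245 (iv D20034)) (tt N22091 D22129) (tt N22068 (iv F42191)))
theorem Q20000 : ∀ i, i < 20000 → P i := stepQ 19999 Q19999 (allL N19999 (tt N22090 (iv F42251)) (tt N22071 (iv F42195)) (tt N17246 F37217) (tt N22092 D22130) (tt N17245 (iv D20035)) (tt N22093 D22131))
theorem Q20001 : ∀ i, i < 20001 → P i := stepQ 20000 Q20000 (allL N20000 (tt N20001 (iv F37220)) (tt N17248 F37218) (tt N22093 (iv F42256)) (tt N19997 F37219) (tt N22074 (iv F42205)) (tt N17246 (iv D20036)))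
theorem Q20002 : ∀ i, i < 20002 → P i := stepQ 20001 Q20001 (allL N20001 (tt N20000 F37220) (tt N17249 F37221) (tt N22094 D22132) (tt N17247 (iv D20037)) (tt N22073 (iv F42200)) (tt N19996 F37222))
theorem Q20003 : ∀ i, i < 20003 → P i := stepQ 20002 Q20002 (allL N20002 (tt N22083 (iv F42226)) (tt N22095 D22133) (tt N17249 (iv D20038)) (tt N22096 D22134) (tt N22075 (iv F42208)) (tt N22088 (iv F42246)))
theorem Q20004 : ∀ i, i < 20004 → P i := stepQ 20003 Q20003 (allL N20003 (tt N17321 F37223) (tt N22097 D22135) (tt N17253 (iv D20039)) (tt N22098 D22136) (tt N17295 F37224) (tt N22097 F42263))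
theorem Q20005 : ∀ i, i < 20005 → P i := stepQ 20004 Q20004 (allL N20004 (tt N17322 F37225) (tt N19432 F37226) (tt N22097 (iv F42261)) (tt N17254 F37227) (tt N17392 F37228) (tt N17253 (iv D20040)))
theorem Q20006 : ∀ i, i < 20006 → P i := stepQ 20005 Q20005 (allL N20005 (tt N17256 F37229) (tt N17259 F37230) (tt N22099 D22137) (tt N17255 (iv D20041)) (tt N17276 F37231) (tt N20581 (iv F38582)))
theorem Q20007 : ∀ i, i < 20007 → P i := stepQ 20006 Q20006 (allL N20006 (tt N17257 F37232) (tt N17258 F37233) (tt N19627 F37234) (tt N20581 (iv F38581)) (tt N17257 F37235) (tt N17255 (iv D20042)))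
theorem Q20008 : ∀ i, i < 20008 → P i := stepQ 20007 Q20007 (allL N20007 (tt N22099 (iv F42266)) (tt N18979 F37236) (tt N17256 (iv D20043)) (tt N22100 D22138) (tt N19023 F37237) (tt N18977 F37238))
theorem Q20009 : ∀ i, i < 20009 → P i := stepQ 20008 Q20008 (allL N20008 (tt N17267 F37239) (tt N19964 F37240) (tt N22101 D22139) (tt N17266 (iv D20044)) (tt N22001 (iv F42044)) (tt N19931 F37241))
theorem Q20010 : ∀ i, i < 20010 → P i := stepQ 20009 Q20009 (allL N20009 (tt N22101 (iv F42272)) (tt N19961 F37242) (tt N17267 (iv D20045)) (tt N22101 (iv F42274)) (tt N22102 D22140) (tt N19932 F37243))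
theorem Q20011 : ∀ i, i < 20011 → P i := stepQ 20010 Q20010 (allL N20010 (tt N22001 (iv F42041)) (tt N17268 F37244) (tt N22102 (iv F42277)) (tt N21996 (iv F42029)) (tt N17267 (iv D20046)) (tt N21995 F42025))
theorem Q20012 : ∀ i, i < 20012 → P i := stepQ 20011 Q20011 (allL N20011 (tt N22049 (iv F42147)) (tt N17751 F37245) (tt N17270 (iv D20047)) (tt N17750 F37247) (tt N17272 F37246) (tt N21864 (iv F41717)))
theorem Q20013 : ∀ i, i < 20013 → P i := stepQ 20012 Q20012 (allL N20012 (tt N21787 (iv F41519)) (tt N17273 F37248) (tt N21864 (iv F41715)) (tt N17271 F37249) (tt N20642 (iv F38718)) (tt N17270 (iv D20048)))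
theorem Q20014 : ∀ i, i < 20014 → P i := stepQ 20013 Q20013 (allL N20013 (tt N22058 (iv F42166)) (tt N20639 (iv F38708)) (tt N22103 D22141) (tt N17272 (iv D20049)) (tt N22104 D22142) (tt N20636 (iv F38700)))
theorem Q20015 : ∀ i, i < 20015 → P i := stepQ 20014 Q20014 (allL N20014 (tt N20089 (iv F37403)) (tt N19932 F37250) (tt N17274 (iv D20050)) (tt N22105 D22143) (tt N22106 D22144) (tt N19961 F37251))
theorem Q20016 : ∀ i, i < 20016 → P i := stepQ 20015 Q20015 (allL N20015 (tt N20090 (iv F37405)) (tt N17275 F37252) (tt N22106 (iv F42289)) (tt N17530 F37253) (tt N17274 (iv D20051)) (tt N22107 D22145))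
theorem Q20017 : ∀ i, i < 20017 → P i := stepQ 20016 Q20016 (allL N20016 (tt N17283 F37254) (tt N22107 (iv F42290)) (tt N19934 F37255) (tt N17531 F37256) (tt N19963 F37257) (tt N17275 (iv D20052)))
theorem Q20018 : ∀ i, i < 20018 → P i := stepQ 20017 Q20017 (allL N20017 (tt N19023 F37258) (tt N20824 (iv F39189)) (tt N17276 (iv D20053)) (tt N21551 (iv F40962)) (tt N22099 (iv F42268)) (tt N19020 (iv F37259)))
theorem Q20019 : ∀ i, i < 20019 → P i := stepQ 20018 Q20018 (allL N20018 (tt N19022 F37260) (tt N17279 F37261) (tt N19020 F37262) (tt N17277 F37263) (tt N19019 (iv F37264)) (tt N17276 (iv D20054)))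
theorem Q20020 : ∀ i, i < 20020 → P i := stepQ 20019 Q20019 (allL N20019 (tt N20426 (iv F38231)) (tt N19019 F37265) (tt N20401 (iv F38181)) (tt N18975 F37266) (tt N17279 (iv D20055)) (tt N18974 F37267))
theorem Q20021 : ∀ i, i < 20021 → P i := stepQ 20020 Q20020 (allL N20020 (tt N18037 F37268) (tt N21540 (iv F40920)) (tt N17285 F37269) (tt N18046 F37270) (tt N21974 (iv F41973)) (tt N17284 (iv D20056)))
theorem Q20022 : ∀ i, i < 20022 → P i := stepQ 20021 Q20021 (allL N20021 (tt N20033 (iv F37300)) (tt N17291 F37271) (tt N21974 (iv F41971)) (tt N22079 (iv F42217)) (tt N17285 (iv D20057)) (tt N17286 F37272))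
theorem Q20023 : ∀ i, i < 20023 → P i := stepQ 20022 Q20022 (allL N20022 (tt N19970 F37273) (tt N17292 F37274) (tt N22108 D22146) (tt N17286 (iv D20058)) (tt N17287 F37275) (tt N22079 (iv F42218)))
theorem Q20024 : ∀ i, i < 20024 → P i := stepQ 20023 Q20023 (allL N20023 (tt N19969 F37276) (tt N20998 (iv F39609)) (tt N17287 (iv D20059)) (tt N22103 (iv F42279)) (tt N22108 (iv F42294)) (tt N17288 F37277))
theorem Q20025 : ∀ i, i < 20025 → P i := stepQ 20024 Q20024 (allL N20024 (tt N20772 (iv F39067)) (tt N17288 (iv D20060)) (tt N17294 F37278) (tt N20770 (iv F39064)) (tt N22076 (iv F42211)) (tt N20998 (iv F39610)))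
theorem Q20026 : ∀ i, i < 20026 → P i := stepQ 20025 Q20025 (allL N20025 (tt N19968 F37279) (tt N20770 (iv F39063)) (tt N20636 (iv F38701)) (tt N17288 (iv D20061)) (tt N22109 D22147) (tt N22103 (iv F42280)))
theorem Q20027 : ∀ i, i < 20027 → P i := stepQ 20026 Q20026 (allL N20026 (tt N17306 F37280) (tt N19087 F37281) (tt N17289 (iv D20062)) (tt N17301 F37282) (tt N17351 F37283) (tt N17300 (iv F37284)))
theorem Q20028 : ∀ i, i < 20028 → P i := stepQ 20027 Q20027 (allL N20027 (tt N17308 F37285) (tt N21645 (iv F41167)) (tt N17300 F37286) (tt N17290 F37287) (tt N19502 (iv F37288)) (tt N17289 (iv D20063)))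
theorem Q20029 : ∀ i, i < 20029 → P i := stepQ 20028 Q20028 (allL N20028 (tt N17317 F37289) (tt N20999 (iv F39611)) (tt N17292 (iv D20064)) (tt N22110 D22148) (tt N17293 F37290) (tt N22082 (iv F42225)))
theorem Q20030 : ∀ i, i < 20030 → P i := stepQ 20029 Q20029 (allL N20029 (tt N17294 (iv D20065)) (tt N17319 F37291) (tt N20772 (iv F39068)) (tt N17404 F37292) (tt N22080 (iv F42220)) (tt N20996 (iv F39604)))
theorem Q20031 : ∀ i, i < 20031 → P i := stepQ 20030 Q20030 (allL N20030 (tt N17403 F37293) (tt N17295 (iv D20066)) (tt N17392 F37294) (tt N17318 F37295) (tt N22097 (iv F42262)) (tt N17320 F37296))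
theorem Q20032 : ∀ i, i < 20032 → P i := stepQ 20031 Q20031 (allL N20031 (tt N21545 (iv F40941)) (tt N17297 F37297) (tt N22111 D22149) (tt N17296 (iv D20067)) (tt N21705 (iv F41311)) (tt N20041 (iv F37317)))
theorem Q20033 : ∀ i, i < 20033 → P i := stepQ 20032 Q20032 (allL N20032 (tt N21543 (iv F40933)) (tt N17298 F37298) (tt N17305 F37299) (tt N20041 (iv F37316)) (tt N21708 (iv F41322)) (tt N17296 (iv D20068)))
theorem Q20034 : ∀ i, i < 20034 → P i := stepQ 20033 Q20033 (allL N20033 (tt N20021 F37300) (tt N17302 F37301) (tt N20598 (iv F38620)) (tt N22066 (iv F42182)) (tt N17299 (iv D20069)) (tt N19505 F37302))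
theorem Q20035 : ∀ i, i < 20035 → P i := stepQ 20034 Q20034 (allL N20034 (tt N19507 F37303) (tt N19476 F37304) (tt N17302 F37305) (tt N19480 F37306) (tt N17301 (iv D20070)) (tt N19451 F37307))
theorem Q20036 : ∀ i, i < 20036 → P i := stepQ 20035 Q20035 (allL N20035 (tt N17304 F37308) (tt N21544 (iv F40938)) (tt N22112 D22150) (tt N17303 (iv D20071)) (tt N21644 (iv F41166)) (tt N22113 D22151))
theorem Q20037 : ∀ i, i < 20037 → P i := stepQ 20036 Q20036 (allL N20036 (tt N17305 F37309) (tt N21542 F40932) (tt N21543 (iv F40934)) (tt N22113 (iv F42301)) (tt N21979 (iv F41986)) (tt N17303 (iv D20072)))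
theorem Q20038 : ∀ i, i < 20038 → P i := stepQ 20037 Q20037 (allL N20037 (tt N22112 (iv F42299)) (tt N22114 D22152) (tt N17304 (iv D20073)) (tt N22115 D22153) (tt N22116 D22154) (tt N22117 D22155))
theorem Q20039 : ∀ i, i < 20039 → P i := stepQ 20038 Q20038 (allL N20038 (tt N21644 (iv F41164)) (tt N17307 F37310) (tt N22116 (iv F42304)) (tt N17313 F37311) (tt N17304 (iv D20074)) (tt N22118 D22156))
theorem Q20040 : ∀ i, i < 20040 → P i := stepQ 20039 Q20039 (allL N20039 (tt N22113 (iv F42300)) (tt N17308 F37312) (tt N22117 (iv F42308)) (tt N17305 F37313) (tt N22119 D22157) (tt N17304 (iv D20075)))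
theorem Q20041 : ∀ i, i < 20041 → P i := stepQ 20040 Q20040 (allL N20040 (tt N21979 (iv F41983)) (tt N17309 F37314) (tt N21708 (iv F41320)) (tt N22120 D22158) (tt N17305 (iv D20076)) (tt N17314 F37315))
theorem Q20042 : ∀ i, i < 20042 → P i := stepQ 20041 Q20041 (allL N20041 (tt N22121 D22159) (tt N17306 (iv D20077)) (tt N22114 (iv F42302)) (tt N20032 F37316) (tt N22087 (iv F42242)) (tt N20031 F37317))
theorem Q20043 : ∀ i, i < 20043 → P i := stepQ 20042 Q20042 (allL N20042 (tt N17351 F37318) (tt N22087 (iv F42241)) (tt N17307 F37319) (tt N17388 (iv F37320)) (tt N17306 (iv D20078)) (tt N17387 F37321))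
theorem Q20044 : ∀ i, i < 20044 → P i := stepQ 20043 Q20043 (allL N20043 (tt N17349 F37322) (tt N22118 (iv F42309)) (tt N17387 F37323) (tt N17315 F37324) (tt N22122 D22160) (tt N17307 (iv D20079)))
theorem Q20045 : ∀ i, i < 20045 → P i := stepQ 20044 Q20044 (allL N20044 (tt N19502 F37325) (tt N22119 (iv F42311)) (tt N19501 F37326) (tt N22123 D22161) (tt N17308 (iv D20080)) (tt N22122 (iv F42321)))
theorem Q20046 : ∀ i, i < 20046 → P i := stepQ 20045 Q20045 (allL N20045 (tt N17347 F37327) (tt N22120 (iv F42312)) (tt N22124 D22162) (tt N17309 (iv D20081)) (tt N22123 (iv F42324)) (tt N17316 F37328))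
theorem Q20047 : ∀ i, i < 20047 → P i := stepQ 20046 Q20046 (allL N20046 (tt N22082 (iv F42223)) (tt N22083 (iv F42227)) (tt N17310 (iv D20082)) (tt N22125 D22163) (tt N17311 F37329) (tt N17317 F37330))
theorem Q20048 : ∀ i, i < 20048 → P i := stepQ 20047 Q20047 (allL N20047 (tt N21528 (iv F40880)) (tt N17315 F37331) (tt N19508 F37332) (tt N22118 (iv F42310)) (tt N17329 F37333) (tt N17313 (iv D20083)))
theorem Q20049 : ∀ i, i < 20049 → P i := stepQ 20048 Q20048 (allL N20048 (tt N21978 (iv F41980)) (tt N17316 F37334) (tt N22126 D22164) (tt N17314 (iv D20084)) (tt N17328 F37335) (tt N22120 (iv F42313)))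
theorem Q20050 : ∀ i, i < 20050 → P i := stepQ 20049 Q20049 (allL N20049 (tt N17346 F37336) (tt N22127 D22165) (tt N17316 (iv D20085)) (tt N22128 D22166) (tt N17330 F37337) (tt N22124 (iv F42328)))
theorem Q20051 : ∀ i, i < 20051 → P i := stepQ 20050 Q20050 (allL N20050 (tt N22088 (iv F42244)) (tt N17317 (iv D20086)) (tt N17400 F37338) (tt N20270 (iv F37847)) (tt N17318 F37339) (tt N22083 (iv F42229)))
theorem Q20052 : ∀ i, i < 20052 → P i := stepQ 20051 Q20051 (allL N20051 (tt N22110 (iv F42297)) (tt N20270 F37848) (tt N22129 D22167) (tt N17317 (iv D20087)) (tt N22098 (iv F42265)) (tt N22125 (iv F42329)))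
theorem Q20053 : ∀ i, i < 20053 → P i := stepQ 20052 Q20052 (allL N20052 (tt N17318 (iv D20088)) (tt N20996 (iv F39603)) (tt N17393 F37340) (tt N17403 F37341) (tt N22088 (iv F42245)) (tt N17319 F37342))
theorem Q20054 : ∀ i, i < 20054 → P i := stepQ 20053 Q20053 (allL N20053 (tt N22098 (iv F42264)) (tt N21000 (iv F39612)) (tt N20283 (iv F37866)) (tt N17321 (iv D20089)) (tt N22110 (iv F42298)) (tt N20282 F37865))
theorem Q20055 : ∀ i, i < 20055 → P i := stepQ 20054 Q20054 (allL N20054 (tt N22097 (iv F42260)) (tt N20997 (iv F39606)) (tt N17322 F37343) (tt N20282 (iv F37864)) (tt N17403 F37344) (tt N17321 (iv D20090)))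
theorem Q20056 : ∀ i, i < 20056 → P i := stepQ 20055 Q20055 (allL N20055 (tt N17364 F37345) (tt N22086 (iv F42238)) (tt N17362 F37346) (tt N21822 (iv F41616)) (tt N17324 (iv D20091)) (tt N22130 D22168))
theorem Q20057 : ∀ i, i < 20057 → P i := stepQ 20056 Q20056 (allL N20056 (tt N21001 (iv F39613)) (tt N21758 (iv F41449)) (tt N20794 (iv F39117)) (tt N17325 (iv D20092)) (tt N21822 (iv F41617)) (tt N20795 (iv F39121)))
theorem Q20058 : ∀ i, i < 20058 → P i := stepQ 20057 Q20057 (allL N20057 (tt N17328 F37347) (tt N17340 F37348) (tt N22131 D22169) (tt N17327 (iv D20093)) (tt N21978 (iv F41982)) (tt N22132 D22170))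
theorem Q20059 : ∀ i, i < 20059 → P i := stepQ 20058 Q20058 (allL N20058 (tt N17329 F37349) (tt N17341 F37350) (tt N18773 F37351) (tt N22132 (iv F42350)) (tt N21528 (iv F40882)) (tt N17327 (iv D20094)))
theorem Q20060 : ∀ i, i < 20060 → P i := stepQ 20059 Q20059 (allL N20059 (tt N22131 (iv F42344)) (tt N22133 D22171) (tt N17328 (iv D20095)) (tt N20780 F39089) (tt N22126 (iv F42332)) (tt N22134 D22172))
theorem Q20061 : ∀ i, i < 20061 → P i := stepQ 20060 Q20060 (allL N20060 (tt N22132 (iv F42348)) (tt N17331 F37352) (tt N22134 (iv F42354)) (tt N17329 F37353) (tt N22135 D22173) (tt N17328 (iv D20096)))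
theorem Q20062 : ∀ i, i < 20062 → P i := stepQ 20061 Q20061 (allL N20061 (tt N22136 D22174) (tt N17330 (iv D20097)) (tt N22133 (iv F42351)) (tt N17337 F37354) (tt N22127 (iv F42334)) (tt N17336 F37355))
theorem Q20063 : ∀ i, i < 20063 → P i := stepQ 20062 Q20062 (allL N20062 (tt N17348 F37356) (tt N22135 (iv F42355)) (tt N17338 F37357) (tt N22122 (iv F42320)) (tt N17331 (iv D20098)) (tt N22123 (iv F42325)))
theorem Q20064 : ∀ i, i < 20064 → P i := stepQ 20063 Q20063 (allL N20063 (tt N17462 F37358) (tt N17456 F37359) (tt N17334 (iv D20099)) (tt N17456 F37360) (tt N17456 F37361) (tt N17455 F37362))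
theorem Q20065 : ∀ i, i < 20065 → P i := stepQ 20064 Q20064 (allL N20064 (tt N17336 F37363) (tt N20260 (iv F37823)) (tt N22137 D22175) (tt N17335 (iv D20100)) (tt N22138 D22176) (tt N22136 (iv F42358)))
theorem Q20066 : ∀ i, i < 20066 → P i := stepQ 20065 Q20065 (allL N20065 (tt N17337 F37364) (tt N20261 (iv F37826)) (tt N17742 F37365) (tt N22136 (iv F42357)) (tt N22139 D22177) (tt N17335 (iv D20101)))
theorem Q20067 : ∀ i, i < 20067 → P i := stepQ 20066 Q20066 (allL N20066 (tt N22137 (iv F42359)) (tt N22134 (iv F42353)) (tt N17336 (iv D20102)) (tt N20970 (iv F39522)) (tt N22140 D22178) (tt N22133 F42352))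
theorem Q20068 : ∀ i, i < 20068 → P i := stepQ 20067 Q20067 (allL N20067 (tt N22138 (iv F42361)) (tt N17338 F37366) (tt N22140 (iv F42365)) (tt N19497 F37367) (tt N17336 (iv D20103)) (tt N22141 D22179))
theorem Q20069 : ∀ i, i < 20069 → P i := stepQ 20068 Q20068 (allL N20068 (tt N22139 (iv F42363)) (tt N17339 F37368) (tt N17745 F37369) (tt N22142 D22180) (tt N17337 (iv D20104)) (tt N20257 (iv F37817)))
theorem Q20070 : ∀ i, i < 20070 → P i := stepQ 20069 Q20069 (allL N20069 (tt N20266 (iv F37835)) (tt N22141 (iv F42366)) (tt N22123 (iv F42323)) (tt N19487 F37370) (tt N22124 (iv F42327)) (tt N17338 (iv D20105)))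
theorem Q20071 : ∀ i, i < 20071 → P i := stepQ 20070 Q20070 (allL N20070 (tt N20269 (iv F37844)) (tt N22142 (iv F42368)) (tt N22096 (iv F42259)) (tt N17339 (iv D20106)) (tt N22128 (iv F42336)) (tt N20258 (iv F37820)))
theorem Q20072 : ∀ i, i < 20072 → P i := stepQ 20071 Q20071 (allL N20071 (tt N17344 F37371) (tt N22132 (iv F42349)) (tt N18380 F37372) (tt N17341 F37373) (tt N22143 D22181) (tt N17340 (iv D20107)))
theorem Q20073 : ∀ i, i < 20073 → P i := stepQ 20072 Q20072 (allL N20072 (tt N22144 D22182) (tt N17342 (iv D20108)) (tt N17345 F37374) (tt N18383 F37375) (tt N22145 D22183) (tt N20265 (iv F37834)))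
theorem Q20074 : ∀ i, i < 20074 → P i := stepQ 20073 Q20073 (allL N20073 (tt N18389 F37376) (tt N22145 (iv F42374)) (tt N17343 F37377) (tt N22146 D22184) (tt N17342 (iv D20109)) (tt N22147 D22185))
theorem Q20075 : ∀ i, i < 20075 → P i := stepQ 20074 Q20074 (allL N20074 (tt N18380 F37378) (tt N20265 (iv F37833)) (tt N17344 F37379) (tt N18369 F37380) (tt N22148 D22186) (tt N17342 (iv D20110)))
theorem Q20076 : ∀ i, i < 20076 → P i := stepQ 20075 Q20075 (allL N20075 (tt N21980 (iv F41987)) (tt N17347 F37381) (tt N22147 (iv F42380)) (tt N17350 F37382) (tt N22149 D22187) (tt N17343 (iv D20111)))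
theorem Q20077 : ∀ i, i < 20077 → P i := stepQ 20076 Q20076 (allL N20076 (tt N22143 (iv F42369)) (tt N17348 F37383) (tt N22148 (iv F42382)) (tt N21530 (iv F40887)) (tt N17344 (iv D20112)) (tt N22149 (iv F42385)))
theorem Q20078 : ∀ i, i < 20078 → P i := stepQ 20077 Q20077 (allL N20077 (tt N17345 (iv D20113)) (tt N22136 (iv F42356)) (tt N22144 (iv F42372)) (tt N20261 (iv F37828)) (tt N22150 D22188) (tt N20260 F37824))
theorem Q20079 : ∀ i, i < 20079 → P i := stepQ 20078 Q20078 (allL N20078 (tt N22150 (iv F42386)) (tt N17346 F37384) (tt N22145 (iv F42375)) (tt N22151 D22189) (tt N17345 (iv D20114)) (tt N22152 D22190))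
theorem Q20080 : ∀ i, i < 20080 → P i := stepQ 20079 Q20079 (allL N20079 (tt N22128 (iv F42335)) (tt N22151 (iv F42387)) (tt N22125 (iv F42330)) (tt N17346 (iv D20115)) (tt N20269 (iv F37845)) (tt N22129 (iv F42337)))
theorem Q20081 : ∀ i, i < 20081 → P i := stepQ 20080 Q20080 (allL N20080 (tt N22124 (iv F42326)) (tt N22152 (iv F42388)) (tt N17347 F37385) (tt N22129 (iv F42338)) (tt N20266 (iv F37838)) (tt N17346 (iv D20116)))
theorem Q20082 : ∀ i, i < 20082 → P i := stepQ 20081 Q20081 (allL N20081 (tt N22123 (iv F42322)) (tt N22149 (iv F42383)) (tt N20266 (iv F37836)) (tt N19502 F37386) (tt N17347 (iv D20117)) (tt N17348 F37387))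
theorem Q20083 : ∀ i, i < 20083 → P i := stepQ 20082 Q20082 (allL N20082 (tt N22122 (iv F42318)) (tt N21530 (iv F40886)) (tt N19481 F37390) (tt N17348 (iv D20118)) (tt N17349 F37388) (tt N19502 F37389))
theorem Q20084 : ∀ i, i < 20084 → P i := stepQ 20083 Q20083 (allL N20083 (tt N17356 F37391) (tt N17489 F37392) (tt N22060 (iv F42172)) (tt N17355 (iv D20119)) (tt N21789 (iv F41528)) (tt N22084 (iv F42233)))
theorem Q20085 : ∀ i, i < 20085 → P i := stepQ 20084 Q20084 (allL N20084 (tt N22060 (iv F42171)) (tt N19697 F37393) (tt N17356 (iv D20120)) (tt N19697 F37394) (tt N22153 D22191) (tt N22085 (iv F42236)))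
theorem Q20086 : ∀ i, i < 20086 → P i := stepQ 20085 Q20085 (allL N20085 (tt N21789 (iv F41526)) (tt N17358 F37395) (tt N22153 (iv F42390)) (tt N21788 F41525) (tt N17356 (iv D20121)) (tt N22154 D22192))
theorem Q20087 : ∀ i, i < 20087 → P i := stepQ 20086 Q20086 (allL N20086 (tt N17468 F37396) (tt N17359 F37397) (tt N20633 (iv F38687)) (tt N17357 (iv D20122)) (tt N21788 (iv F41524)) (tt N17490 F37398))
theorem Q20088 : ∀ i, i < 20088 → P i := stepQ 20087 Q20087 (allL N20087 (tt N17494 F37399) (tt N21788 (iv F41523)) (tt N20632 (iv F38683)) (tt N17358 (iv D20123)) (tt N17359 F37400) (tt N20952 (iv F39475)))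
theorem Q20089 : ∀ i, i < 20089 → P i := stepQ 20088 Q20088 (allL N20088 (tt N19698 F37401) (tt N22154 (iv F42392)) (tt N19686 F37402) (tt N20952 (iv F39473)) (tt N22130 (iv F42343)) (tt N17358 (iv D20124)))
theorem Q20090 : ∀ i, i < 20090 → P i := stepQ 20089 Q20089 (allL N20089 (tt N20014 F37403) (tt N22085 (iv F42234)) (tt N17361 (iv D20125)) (tt N22085 (iv F42235)) (tt N22155 D22193) (tt N19697 F37404))
theorem Q20091 : ∀ i, i < 20091 → P i := stepQ 20090 Q20090 (allL N20090 (tt N20015 F37405) (tt N17362 F37406) (tt N22155 (iv F42395)) (tt N17453 F37407) (tt N17361 (iv D20126)) (tt N22156 D22194))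
theorem Q20092 : ∀ i, i < 20092 → P i := stepQ 20091 Q20091 (allL N20091 (tt N17365 F37408) (tt N22156 (iv F42397)) (tt N22130 (iv F42341)) (tt N17454 F37409) (tt N19686 F37410) (tt N17362 (iv D20127)))
theorem Q20093 : ∀ i, i < 20093 → P i := stepQ 20092 Q20092 (allL N20092 (tt N17363 (iv D20128)) (tt N22084 (iv F42231)) (tt N17505 F37411) (tt N17469 F37412) (tt N19917 F37413) (tt N17489 F37414))
theorem Q20094 : ∀ i, i < 20094 → P i := stepQ 20093 Q20093 (allL N20093 (tt N22130 (iv F42339)) (tt N19909 F37415) (tt N17365 F37416) (tt N20374 (iv F38104)) (tt N19698 F37417) (tt N17364 (iv D20129)))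
theorem Q20095 : ∀ i, i < 20095 → P i := stepQ 20094 Q20094 (allL N20094 (tt N17375 F37418) (tt N19691 F37419) (tt N17374 F37420) (tt N17366 (iv D20130)) (tt N21196 (iv F40087)) (tt N20215 (iv F37707)))
theorem Q20096 : ∀ i, i < 20096 → P i := stepQ 20095 Q20095 (allL N20095 (tt N17784 F37421) (tt N17370 F37422) (tt N17367 F37423) (tt N20215 (iv F37706)) (tt N22157 D22195) (tt N17366 (iv D20131)))
theorem Q20097 : ∀ i, i < 20097 → P i := stepQ 20096 Q20096 (allL N20096 (tt N17785 F37424) (tt N17368 F37425) (tt N22157 (iv F42402)) (tt N17820 F37426) (tt N17367 (iv D20132)) (tt N17782 F37427))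
theorem Q20098 : ∀ i, i < 20098 → P i := stepQ 20097 Q20097 (allL N20097 (tt N19678 F37428) (tt N20215 (iv F37704)) (tt N19465 F37429) (tt N17370 (iv D20133)) (tt N22158 D22196) (tt N19691 F37430))
theorem Q20099 : ∀ i, i < 20099 → P i := stepQ 20098 Q20098 (allL N20098 (tt N19679 F37431) (tt N22157 (iv F42401)) (tt N17371 F37432) (tt N22159 D22197) (tt N17370 (iv D20134)) (tt N22160 D22198))
theorem Q20100 : ∀ i, i < 20100 → P i := stepQ 20099 Q20099 (allL N20099 (tt N19685 F37433) (tt N17372 F37434) (tt N22160 (iv F42409)) (tt N22062 (iv F42177)) (tt N19692 F37435) (tt N17371 (iv D20135)))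
theorem Q20101 : ∀ i, i < 20101 → P i := stepQ 20100 Q20100 (allL N20100 (tt N17376 F37436) (tt N20114 (iv F37485)) (tt N21196 (iv F40088)) (tt N17645 F37437) (tt N17374 (iv D20136)) (tt N21174 (iv F40021)))
theorem Q20102 : ∀ i, i < 20102 → P i := stepQ 20101 Q20101 (allL N20101 (tt N21196 (iv F40086)) (tt N19689 F37438) (tt N17376 F37439) (tt N17788 F37440) (tt N17375 (iv D20137)) (tt N22161 D22199))
theorem Q20103 : ∀ i, i < 20103 → P i := stepQ 20102 Q20102 (allL N20102 (tt N21174 (iv F40020)) (tt N17377 F37441) (tt N22161 (iv F42412)) (tt N17651 F37442) (tt N20220 (iv F37715)) (tt N17376 (iv D20138)))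
theorem Q20104 : ∀ i, i < 20104 → P i := stepQ 20103 Q20103 (allL N20103 (tt N19361 F37443) (tt N19381 F37444) (tt N17378 (iv D20139)) (tt N19353 F37446) (tt N20221 (iv F37717)) (tt N17657 F37445))
theorem Q20105 : ∀ i, i < 20105 → P i := stepQ 20104 Q20104 (allL N20104 (tt N17380 F37449) (tt N18349 F37450) (tt N20146 (iv F37535)) (tt N17379 (iv D20140)) (tt N20684 (iv F38853)) (tt N17661 F37451))
theorem Q20106 : ∀ i, i < 20106 → P i := stepQ 20105 Q20105 (allL N20105 (tt N20146 (iv F37534)) (tt N19220 F37452) (tt N17380 (iv D20141)) (tt N20139 (iv F37525)) (tt N22162 D22200) (tt N17662 F37453))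
theorem Q20107 : ∀ i, i < 20107 → P i := stepQ 20106 Q20106 (allL N20106 (tt N20684 (iv F38850)) (tt N17667 F37454) (tt N22162 (iv F42415)) (tt N18637 F37455) (tt N17380 (iv D20142)) (tt N20681 (iv F38845)))
theorem Q20108 : ∀ i, i < 20108 → P i := stepQ 20107 Q20107 (allL N20107 (tt N17395 F37456) (tt N19986 F37457) (tt N17399 F37458) (tt N17402 F37459) (tt N17382 (iv D20143)) (tt N17383 F37460))
theorem Q20109 : ∀ i, i < 20109 → P i := stepQ 20108 Q20108 (allL N20108 (tt N17389 F37461) (tt N20113 (iv F37480)) (tt N19480 F37464) (tt N17383 (iv D20144)) (tt N17384 F37462) (tt N17402 F37463))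
theorem Q20110 : ∀ i, i < 20110 → P i := stepQ 20109 Q20109 (allL N20109 (tt N17402 F37465) (tt N17395 F37466) (tt N19478 F37467) (tt N17395 F37468) (tt N17385 (iv D20145)) (tt N17389 F37469))
theorem Q20111 : ∀ i, i < 20111 → P i := stepQ 20110 Q20110 (allL N20110 (tt N19503 F37470) (tt N17387 F37471) (tt N22163 D22201) (tt N17386 (iv D20146)) (tt N20993 (iv F39601)) (tt N22087 (iv F42243)))
theorem Q20112 : ∀ i, i < 20112 → P i := stepQ 20111 Q20111 (allL N20111 (tt N19481 F37472) (tt N20993 (iv F39600)) (tt N22122 (iv F42319)) (tt N19479 F37473) (tt N17387 (iv D20147)) (tt N19501 F37474))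
theorem Q20113 : ∀ i, i < 20113 → P i := stepQ 20112 Q20112 (allL N20112 (tt N19480 F37475) (tt N20992 (iv F39596)) (tt N17389 F37476) (tt N19507 F37477) (tt N17388 (iv D20148)) (tt N19478 F37478))
theorem Q20114 : ∀ i, i < 20114 → P i := stepQ 20113 Q20113 (allL N20113 (tt N17398 F37479) (tt N20108 F37480) (tt N17397 F37481) (tt N17398 F37482) (tt N17396 (iv D20149)) (tt N17758 F37483))
theorem Q20115 : ∀ i, i < 20115 → P i := stepQ 20114 Q20114 (allL N20114 (tt N17407 F37484) (tt N20100 F37485) (tt N21700 (iv F41304)) (tt N20293 (iv F37895)) (tt N17405 (iv D20150)) (tt N22164 D22202))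
theorem Q20116 : ∀ i, i < 20116 → P i := stepQ 20115 Q20115 (allL N20115 (tt N21855 (iv F41694)) (tt N17406 (iv D20151)) (tt N17408 F37486) (tt N21698 (iv F41299)) (tt N22165 D22203) (tt N17535 F37487))
theorem Q20117 : ∀ i, i < 20117 → P i := stepQ 20116 Q20116 (allL N20116 (tt N21700 (iv F41303)) (tt N22165 (iv F42421)) (tt N17407 F37488) (tt N22166 D22204) (tt N17406 (iv D20152)) (tt N22167 D22205))
theorem Q20118 : ∀ i, i < 20118 → P i := stepQ 20117 Q20117 (allL N20117 (tt N22164 (iv F42418)) (tt N17410 F37489) (tt N22167 (iv F42423)) (tt N20296 (iv F37901)) (tt N21838 (iv F41663)) (tt N17407 (iv D20153)))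
theorem Q20119 : ∀ i, i < 20119 → P i := stepQ 20118 Q20118 (allL N20118 (tt N21856 (iv F41698)) (tt N17409 F37490) (tt N22165 (iv F42422)) (tt N22168 D22206) (tt N17408 (iv D20154)) (tt N22169 D22207))
theorem Q20120 : ∀ i, i < 20120 → P i := stepQ 20119 Q20119 (allL N20119 (tt N17549 F37491) (tt N22168 (iv F42425)) (tt N22170 D22208) (tt N17409 (iv D20155)) (tt N17539 F37492) (tt N19383 (iv F37493)))
theorem Q20121 : ∀ i, i < 20121 → P i := stepQ 20120 Q20120 (allL N20120 (tt N17548 F37494) (tt N22169 (iv F42429)) (tt N17410 F37495) (tt N19383 F37496) (tt N17538 F37497) (tt N17409 (iv D20156)))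
theorem Q20122 : ∀ i, i < 20122 → P i := stepQ 20121 Q20121 (allL N20121 (tt N17547 F37498) (tt N21838 (iv F41662)) (tt N17538 F37499) (tt N21244 (iv F40204)) (tt N17410 (iv D20157)) (tt N17411 F37500))
theorem Q20123 : ∀ i, i < 20123 → P i := stepQ 20122 Q20122 (allL N20122 (tt N17546 F37501) (tt N21837 (iv F41660)) (tt N21618 (iv F41099)) (tt N17411 (iv D20158)) (tt N17412 F37502) (tt N21244 (iv F40205)))
theorem Q20124 : ∀ i, i < 20124 → P i := stepQ 20123 Q20123 (allL N20123 (tt N17415 F37503) (tt N22171 D22209) (tt N17413 (iv D20159)) (tt N21232 (iv F40175)) (tt N21835 (iv F41656)) (tt N22172 D22210))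
theorem Q20125 : ∀ i, i < 20125 → P i := stepQ 20124 Q20124 (allL N20124 (tt N17416 F37504) (tt N17428 F37505) (tt N22172 (iv F42439)) (tt N17414 F37506) (tt N22173 D22211) (tt N17413 (iv D20160)))
theorem Q20126 : ∀ i, i < 20126 → P i := stepQ 20125 Q20125 (allL N20125 (tt N22174 D22212) (tt N17415 (iv D20161)) (tt N17417 F37507) (tt N22175 D22213) (tt N21840 (iv F41667)) (tt N17421 (iv F37508)))
theorem Q20127 : ∀ i, i < 20127 → P i := stepQ 20126 Q20126 (allL N20126 (tt N21232 (iv F40174)) (tt N22175 (iv F42444)) (tt N21231 (iv F40173)) (tt N17415 (iv D20162)) (tt N22176 D22214) (tt N22177 D22215))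
theorem Q20128 : ∀ i, i < 20128 → P i := stepQ 20127 Q20127 (allL N20127 (tt N22172 (iv F42438)) (tt N17421 F37509) (tt N17416 F37510) (tt N22177 (iv F42447)) (tt N22178 D22216) (tt N17415 (iv D20163)))
theorem Q20129 : ∀ i, i < 20129 → P i := stepQ 20128 Q20128 (allL N20128 (tt N22173 (iv F42440)) (tt N17418 F37511) (tt N22178 (iv F42449)) (tt N21830 (iv F41643)) (tt N17416 (iv D20164)) (tt N21831 (iv F41647)))
theorem Q20130 : ∀ i, i < 20130 → P i := stepQ 20129 Q20129 (allL N20129 (tt N17417 (iv D20165)) (tt N17435 F37512) (tt N22174 (iv F42442)) (tt N17420 F37513) (tt N21842 (iv F41669)) (tt N17419 F37514))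
theorem Q20131 : ∀ i, i < 20131 → P i := stepQ 20130 Q20130 (allL N20130 (tt N17421 F37515) (tt N22179 D22217) (tt N17419 (iv D20166)) (tt N21391 (iv F40549)) (tt N22180 D22218) (tt N22174 (iv F42443)))
theorem Q20132 : ∀ i, i < 20132 → P i := stepQ 20131 Q20131 (allL N20131 (tt N17422 F37516) (tt N21385 (iv F40537)) (tt N22180 (iv F42451)) (tt N20285 (iv F37872)) (tt N17419 (iv D20167)) (tt N22181 D22219))
theorem Q20133 : ∀ i, i < 20133 → P i := stepQ 20132 Q20132 (allL N20132 (tt N17423 F37517) (tt N21375 (iv F40508)) (tt N20286 (iv F37875)) (tt N22182 D22220) (tt N17420 (iv D20168)) (tt N20286 (iv F37876)))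
theorem Q20134 : ∀ i, i < 20134 → P i := stepQ 20133 Q20133 (allL N20133 (tt N21391 (iv F40548)) (tt N22177 (iv F42446)) (tt N21390 (iv F40547)) (tt N17421 (iv D20169)) (tt N22183 D22221) (tt N22175 (iv F42445)))
theorem Q20135 : ∀ i, i < 20135 → P i := stepQ 20134 Q20134 (allL N20134 (tt N22180 (iv F42450)) (tt N22178 (iv F42448)) (tt N17422 F37518) (tt N22184 D22222) (tt N17421 (iv D20170)) (tt N22185 D22223))
theorem Q20136 : ∀ i, i < 20136 → P i := stepQ 20135 Q20135 (allL N20135 (tt N22181 (iv F42452)) (tt N17424 F37519) (tt N22185 (iv F42454)) (tt N20289 (iv F37882)) (tt N21833 (iv F41650)) (tt N17422 (iv D20171)))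
theorem Q20137 : ∀ i, i < 20137 → P i := stepQ 20136 Q20136 (allL N20136 (tt N22182 (iv F42453)) (tt N17425 F37520) (tt N22186 D22224) (tt N17423 (iv D20172)) (tt N21843 (iv F41671)) (tt N20290 (iv F37886)))
theorem Q20138 : ∀ i, i < 20138 → P i := stepQ 20137 Q20137 (allL N20137 (tt N21377 (iv F40514)) (tt N17426 (iv D20173)) (tt N22171 (iv F42437)) (tt N20306 (iv F37932)) (tt N22187 D22225) (tt N21512 (iv F40851)))
theorem Q20139 : ∀ i, i < 20139 → P i := stepQ 20138 Q20138 (allL N20138 (tt N17431 F37521) (tt N22187 (iv F42455)) (tt N17427 F37522) (tt N22188 D22226) (tt N17426 (iv D20174)) (tt N22189 D22227))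
theorem Q20140 : ∀ i, i < 20140 → P i := stepQ 20139 Q20139 (allL N20139 (tt N17432 F37523) (tt N21512 (iv F40850)) (tt N17428 F37524) (tt N20105 F37525) (tt N22190 D22228) (tt N17426 (iv D20175)))
theorem Q20141 : ∀ i, i < 20141 → P i := stepQ 20140 Q20140 (allL N20140 (tt N17433 F37526) (tt N21826 (iv F41630)) (tt N22189 (iv F42459)) (tt N17443 F37527) (tt N22191 D22229) (tt N17427 (iv D20176)))
theorem Q20142 : ∀ i, i < 20142 → P i := stepQ 20141 Q20141 (allL N20141 (tt N17434 F37528) (tt N22173 (iv F42441)) (tt N22190 (iv F42461)) (tt N21035 (iv F39702)) (tt N17428 (iv D20177)) (tt N22191 (iv F42464)))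
theorem Q20143 : ∀ i, i < 20143 → P i := stepQ 20142 Q20142 (allL N20142 (tt N17429 (iv D20178)) (tt N21377 (iv F40515)) (tt N17435 F37529) (tt N21371 (iv F40498)) (tt N22192 D22230) (tt N21369 (iv F40493)))
theorem Q20144 : ∀ i, i < 20144 → P i := stepQ 20143 Q20143 (allL N20143 (tt N21371 (iv F40495)) (tt N17430 F37530) (tt N21367 (iv F40486)) (tt N17429 (iv D20179)) (tt N22193 D22231) (tt N21365 F40479))
theorem Q20145 : ∀ i, i < 20145 → P i := stepQ 20144 Q20144 (allL N20144 (tt N22192 (iv F42465)) (tt N17431 F37531) (tt N17436 F37532) (tt N22194 D22232) (tt N17429 (iv D20180)) (tt N22195 D22233))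
theorem Q20146 : ∀ i, i < 20146 → P i := stepQ 20145 Q20145 (allL N20145 (tt N20307 (iv F37935)) (tt N22193 (iv F42467)) (tt N19703 F37533) (tt N22196 D22234) (tt N17430 (iv D20181)) (tt N22197 D22235))
theorem Q20147 : ∀ i, i < 20147 → P i := stepQ 20146 Q20146 (allL N20146 (tt N20105 F37534) (tt N21365 (iv F40477)) (tt N20104 F37535) (tt N17432 F37536) (tt N22198 D22236) (tt N17430 (iv D20182)))
theorem Q20148 : ∀ i, i < 20148 → P i := stepQ 20147 Q20147 (allL N20147 (tt N22188 (iv F42456)) (tt N22194 (iv F42468)) (tt N22199 D22237) (tt N17431 (iv D20183)) (tt N22196 (iv F42471)) (tt N22200 D22238))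
theorem Q20149 : ∀ i, i < 20149 → P i := stepQ 20148 Q20148 (allL N20148 (tt N22189 (iv F42458)) (tt N22195 (iv F42469)) (tt N17433 F37537) (tt N22200 (iv F42481)) (tt N22201 D22239) (tt N17431 (iv D20184)))
theorem Q20150 : ∀ i, i < 20150 → P i := stepQ 20149 Q20149 (allL N20149 (tt N22190 (iv F42460)) (tt N21386 (iv F40539)) (tt N17434 F37538) (tt N22202 D22240) (tt N17432 (iv D20185)) (tt N22201 (iv F42483)))
theorem Q20151 : ∀ i, i < 20151 → P i := stepQ 20150 Q20150 (allL N20150 (tt N22191 (iv F42462)) (tt N17439 F37539) (tt N22201 (iv F42482)) (tt N18282 F37540) (tt N17433 (iv D20186)) (tt N17434 F37541))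
theorem Q20152 : ∀ i, i < 20152 → P i := stepQ 20151 Q20151 (allL N20151 (tt N17436 F37542) (tt N21842 (iv F41668)) (tt N22192 (iv F42466)) (tt N22203 D22241) (tt N17435 (iv D20187)) (tt N22204 D22242))
theorem Q20153 : ∀ i, i < 20153 → P i := stepQ 20152 Q20152 (allL N20152 (tt N22203 (iv F42485)) (tt N17437 F37543) (tt N21706 (iv F41313)) (tt N17436 (iv D20188)) (tt N21376 (iv F40512)) (tt N21690 (iv F41282)))
theorem Q20154 : ∀ i, i < 20154 → P i := stepQ 20153 Q20153 (allL N20153 (tt N22204 (iv F42486)) (tt N17438 F37544) (tt N22195 (iv F42470)) (tt N21690 (iv F41280)) (tt N21387 (iv F40543)) (tt N17436 (iv D20189)))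
theorem Q20155 : ∀ i, i < 20155 → P i := stepQ 20154 Q20154 (allL N20154 (tt N22205 D22243) (tt N17441 (iv D20190)) (tt N21036 (iv F39704)) (tt N20244 (iv F37777)) (tt N21004 (iv F39626)) (tt N17447 F37545))
theorem Q20156 : ∀ i, i < 20156 → P i := stepQ 20155 Q20155 (allL N20155 (tt N21144 (iv F39921)) (tt N22206 D22244) (tt N17445 (iv D20191)) (tt N22207 D22245) (tt N21123 (iv F39882)) (tt N18271 F37546))
theorem Q20157 : ∀ i, i < 20157 → P i := stepQ 20156 Q20156 (allL N20156 (tt N21712 (iv F41334)) (tt N17446 (iv D20192)) (tt N17447 F37547) (tt N19702 F37548) (tt N18541 F37549) (tt N21036 (iv F39706)))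
theorem Q20158 : ∀ i, i < 20158 → P i := stepQ 20157 Q20157 (allL N20157 (tt N17447 (iv D20193)) (tt N18326 F37550) (tt N21712 (iv F41336)) (tt N22208 D22246) (tt N18324 F37551) (tt N22205 (iv F42488)))
theorem Q20159 : ∀ i, i < 20159 → P i := stepQ 20158 Q20158 (allL N20158 (tt N22208 (iv F42493)) (tt N17448 F37552) (tt N22209 D22247) (tt N17447 (iv D20194)) (tt N21005 (iv F39629)) (tt N20244 (iv F37779)))
theorem Q20160 : ∀ i, i < 20160 → P i := stepQ 20159 Q20159 (allL N20159 (tt N19473 F37553) (tt N19395 F37554) (tt N19471 F37555) (tt N17452 (iv D20195)) (tt N22210 D22248) (tt N19425 F37556))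
theorem Q20161 : ∀ i, i < 20161 → P i := stepQ 20160 Q20160 (allL N20160 (tt N20204 (iv F37679)) (tt N19396 F37557) (tt N17453 F37558) (tt N19777 (iv F37559)) (tt N17452 (iv D20196)) (tt N20975 (iv F39539)))
theorem Q20162 : ∀ i, i < 20162 → P i := stepQ 20161 Q20161 (allL N20161 (tt N20205 (iv F37681)) (tt N17454 F37560) (tt N20975 (iv F39537)) (tt N22156 (iv F42398)) (tt N19427 F37561) (tt N17453 (iv D20197)))
theorem Q20163 : ∀ i, i < 20163 → P i := stepQ 20162 Q20162 (allL N20162 (tt N17457 (iv D20198)) (tt N17459 F37562) (tt N17463 F37563) (tt N22211 D22249) (tt N17461 F37564) (tt N17457 (iv F37565)))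
theorem Q20164 : ∀ i, i < 20164 → P i := stepQ 20163 Q20163 (allL N20163 (tt N22211 (iv F42501)) (tt N17458 F37566) (tt N22212 D22250) (tt N17457 (iv D20199)) (tt N22211 (iv F42503)) (tt N22211 (iv F42504)))
theorem Q20165 : ∀ i, i < 20165 → P i := stepQ 20164 Q20164 (allL N20164 (tt N19539 F37567) (tt N22211 (iv F42502)) (tt N17458 (iv D20200)) (tt N17459 F37568) (tt N17458 (iv F37569)) (tt N17458 (iv F37570)))
theorem Q20166 : ∀ i, i < 20166 → P i := stepQ 20165 Q20165 (allL N20165 (tt N17464 F37571) (tt N17466 F37572) (tt N21603 (iv F41070)) (tt N17463 (iv D20201)) (tt N17516 F37573) (tt N17464 F37574))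
theorem Q20167 : ∀ i, i < 20167 → P i := stepQ 20166 Q20166 (allL N20166 (tt N21603 (iv F41068)) (tt N22213 D22251) (tt N17464 (iv D20202)) (tt N22214 D22252) (tt N17517 F37575) (tt N21603 (iv F41071)))
theorem Q20168 : ∀ i, i < 20168 → P i := stepQ 20167 Q20167 (allL N20167 (tt N18783 (iv F37579)) (tt N17465 (iv D20203)) (tt N22213 (iv F42506)) (tt N17475 F37576) (tt N17518 F37577) (tt N17474 F37578))
theorem Q20169 : ∀ i, i < 20169 → P i := stepQ 20168 Q20168 (allL N20168 (tt N20633 (iv F38686)) (tt N17467 (iv D20204)) (tt N17468 F37580) (tt N20783 (iv F39095)) (tt N21784 (iv F41517)) (tt N17491 F37581))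
theorem Q20170 : ∀ i, i < 20170 → P i := stepQ 20169 Q20169 (allL N20169 (tt N20636 (iv F38698)) (tt N20783 (iv F39093)) (tt N19968 F37582) (tt N17467 (iv D20205)) (tt N22215 D22253) (tt N22058 (iv F42168)))
theorem Q20171 : ∀ i, i < 20171 → P i := stepQ 20170 Q20170 (allL N20170 (tt N17475 F37583) (tt N17472 F37584) (tt N17475 F37585) (tt N18783 F37586) (tt N18353 F37587) (tt N17470 (iv D20206)))
theorem Q20172 : ∀ i, i < 20172 → P i := stepQ 20171 Q20171 (allL N20171 (tt N17478 F37588) (tt N18783 (iv F37591)) (tt N17471 (iv D20207)) (tt N17472 F37589) (tt N18779 F37590) (tt N17471 (iv F37592)))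
theorem Q20173 : ∀ i, i < 20173 → P i := stepQ 20172 Q20172 (allL N20172 (tt N18344 F37593) (tt N18353 F37594) (tt N17473 F37595) (tt N21811 (iv F41575)) (tt N17472 (iv D20208)) (tt N18342 F37596))
theorem Q20174 : ∀ i, i < 20174 → P i := stepQ 20173 Q20173 (allL N20173 (tt N18782 F37597) (tt N21603 (iv F41069)) (tt N17474 (iv D20209)) (tt N22216 D22254) (tt N17988 F37598) (tt N22213 (iv F42508)))
theorem Q20175 : ∀ i, i < 20175 → P i := stepQ 20174 Q20174 (allL N20174 (tt N18346 F37599) (tt N18357 F37600) (tt N21769 (iv F41478)) (tt N17476 (iv D20210)) (tt N17519 F37601) (tt N18027 F37602))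
theorem Q20176 : ∀ i, i < 20176 → P i := stepQ 20175 Q20175 (allL N20175 (tt N17514 F37603) (tt N17480 F37604) (tt N18339 F37605) (tt N17488 F37606) (tt N17480 F37607) (tt N17477 (iv D20211)))
theorem Q20177 : ∀ i, i < 20177 → P i := stepQ 20176 Q20176 (allL N20176 (tt N17483 F37608) (tt N20795 F39123) (tt N22217 D22255) (tt N17482 (iv D20212)) (tt N20796 (iv F39125)) (tt N21758 (iv F41451)))
theorem Q20178 : ∀ i, i < 20178 → P i := stepQ 20177 Q20177 (allL N20177 (tt N22217 (iv F42512)) (tt N21754 (iv F41442)) (tt N17483 (iv D20213)) (tt N22218 D22256) (tt N22219 D22257) (tt N21751 F41440))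
theorem Q20179 : ∀ i, i < 20179 → P i := stepQ 20178 Q20178 (allL N20178 (tt N20796 (iv F39124)) (tt N17484 F37609) (tt N22219 (iv F42513)) (tt N17492 F37610) (tt N17483 (iv D20214)) (tt N22220 D22258))
theorem Q20180 : ∀ i, i < 20180 → P i := stepQ 20179 Q20179 (allL N20179 (tt N21746 (iv F41424)) (tt N22220 (iv F42514)) (tt N21760 (iv F41454)) (tt N17493 F37611) (tt N19919 F37612) (tt N17484 (iv D20215)))
theorem Q20181 : ∀ i, i < 20181 → P i := stepQ 20180 Q20180 (allL N20180 (tt N17491 F37613) (tt N20635 (iv F38694)) (tt N17490 (iv D20216)) (tt N19453 F37614) (tt N21870 F41733) (tt N20633 F38689))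
theorem Q20182 : ∀ i, i < 20182 → P i := stepQ 20181 Q20181 (allL N20181 (tt N17492 F37615) (tt N20797 (iv F39128)) (tt N21870 (iv F41731)) (tt N20796 F39126) (tt N17490 (iv D20217)) (tt N20953 (iv F39478)))
theorem Q20183 : ∀ i, i < 20183 → P i := stepQ 20182 Q20182 (allL N20182 (tt N19453 F37616) (tt N22058 (iv F42167)) (tt N19452 F37617) (tt N17491 (iv D20218)) (tt N22221 D22259) (tt N20783 (iv F39096)))
theorem Q20184 : ∀ i, i < 20184 → P i := stepQ 20183 Q20183 (allL N20183 (tt N21870 (iv F41729)) (tt N22049 (iv F42148)) (tt N17492 F37618) (tt N22222 D22260) (tt N17491 (iv D20219)) (tt N21868 F41725))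
theorem Q20185 : ∀ i, i < 20185 → P i := stepQ 20184 Q20184 (allL N20184 (tt N20953 (iv F39476)) (tt N17493 F37619) (tt N21868 (iv F41724)) (tt N22220 (iv F42515)) (tt N21790 (iv F41530)) (tt N17492 (iv D20220)))
theorem Q20186 : ∀ i, i < 20186 → P i := stepQ 20185 Q20185 (allL N20185 (tt N17500 F37620) (tt N21889 (iv F41783)) (tt N20961 (iv F39502)) (tt N17497 (iv D20221)) (tt N17532 F37621) (tt N21119 (iv F39870)))
theorem Q20187 : ∀ i, i < 20187 → P i := stepQ 20186 Q20186 (allL N20186 (tt N17501 F37622) (tt N21890 (iv F41786)) (tt N17498 F37623) (tt N21119 (iv F39869)) (tt N17522 F37624) (tt N17497 (iv D20222)))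
theorem Q20188 : ∀ i, i < 20188 → P i := stepQ 20187 Q20187 (allL N20187 (tt N17532 F37625) (tt N21780 (iv F41505)) (tt N22006 (iv F42053)) (tt N17499 (iv D20223)) (tt N17500 F37626) (tt N20451 F38292))
theorem Q20189 : ∀ i, i < 20189 → P i := stepQ 20188 Q20188 (allL N20188 (tt N20961 (iv F39500)) (tt N18632 (iv F37628)) (tt N17500 (iv D20224)) (tt N18631 F37627) (tt N22006 (iv F42054)) (tt N20590 F38610))
theorem Q20190 : ∀ i, i < 20190 → P i := stepQ 20189 Q20189 (allL N20189 (tt N21119 (iv F39867)) (tt N21782 (iv F41509)) (tt N20590 (iv F38608)) (tt N17501 F37629) (tt N20452 (iv F38296)) (tt N17500 (iv D20225)))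
theorem Q20191 : ∀ i, i < 20191 → P i := stepQ 20190 Q20190 (allL N20190 (tt N19877 F37630) (tt N17511 F37631) (tt N17503 F37632) (tt N22223 D22261) (tt N17502 (iv D20226)) (tt N19875 F37633))
theorem Q20192 : ∀ i, i < 20192 → P i := stepQ 20191 Q20191 (allL N20191 (tt N19907 F37634) (tt N18008 F37635) (tt N18014 F37636) (tt N22224 D22262) (tt N17510 (iv D20227)) (tt N18006 F37637))
theorem Q20193 : ∀ i, i < 20193 → P i := stepQ 20192 Q20192 (allL N20192 (tt N19888 F37638) (tt N22223 (iv F42525)) (tt N22225 D22263) (tt N17511 (iv D20228)) (tt N22224 (iv F42531)) (tt N19884 F37639))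
theorem Q20194 : ∀ i, i < 20194 → P i := stepQ 20193 Q20193 (allL N20193 (tt N17513 F37640) (tt N17514 F37641) (tt N18776 F37642) (tt N17512 (iv D20229)) (tt N17513 F37643) (tt N17516 F37644))
theorem Q20195 : ∀ i, i < 20195 → P i := stepQ 20194 Q20194 (allL N20194 (tt N18776 F37645) (tt N18777 (iv F37649)) (tt N17513 (iv D20230)) (tt N18775 F37646) (tt N18776 F37647) (tt N17517 F37648))
theorem Q20196 : ∀ i, i < 20196 → P i := stepQ 20195 Q20195 (allL N20195 (tt N18784 (iv F37654)) (tt N17515 (iv D20231)) (tt N18777 F37650) (tt N18361 F37651) (tt N17989 F37652) (tt N17518 F37653))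
theorem Q20197 : ∀ i, i < 20197 → P i := stepQ 20196 Q20196 (allL N20196 (tt N18781 F37655) (tt N17517 (iv D20232)) (tt N17518 F37656) (tt N21565 (iv F40996)) (tt N22213 (iv F42507)) (tt N18777 F37657))
theorem Q20198 : ∀ i, i < 20198 → P i := stepQ 20197 Q20197 (allL N20197 (tt N17518 (iv D20233)) (tt N18779 F37658) (tt N18781 F37659) (tt N21810 (iv F41569)) (tt N18783 F37660) (tt N18784 F37661))
theorem Q20199 : ∀ i, i < 20199 → P i := stepQ 20198 Q20198 (allL N20198 (tt N21810 (iv F41568)) (tt N17519 F37662) (tt N22226 D22264) (tt N17518 (iv D20234)) (tt N18357 F37663) (tt N18361 F37664))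
theorem Q20200 : ∀ i, i < 20200 → P i := stepQ 20199 Q20199 (allL N20199 (tt N18393 F37665) (tt N17521 F37666) (tt N20467 (iv F38335)) (tt N17520 (iv D20235)) (tt N20447 F38283) (tt N22227 D22265))
theorem Q20201 : ∀ i, i < 20201 → P i := stepQ 20200 Q20200 (allL N20200 (tt N18394 F37667) (tt N17522 F37668) (tt N18398 F37669) (tt N22227 (iv F42540)) (tt N21890 (iv F41788)) (tt N17520 (iv D20236)))
theorem Q20202 : ∀ i, i < 20202 → P i := stepQ 20201 Q20201 (allL N20201 (tt N17525 F37670) (tt N22227 (iv F42539)) (tt N20444 (iv F38269)) (tt N17522 F37671) (tt N20443 (iv F38266)) (tt N17521 (iv D20237)))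
theorem Q20203 : ∀ i, i < 20203 → P i := stepQ 20202 Q20202 (allL N20202 (tt N18350 F37672) (tt N17527 F37673) (tt N21818 (iv F41604)) (tt N17526 (iv D20238)) (tt N18343 F37674) (tt N21817 (iv F41601)))
theorem Q20204 : ∀ i, i < 20204 → P i := stepQ 20203 Q20203 (allL N20203 (tt N18351 F37675) (tt N17528 F37676) (tt N18392 F37677) (tt N21817 (iv F41600)) (tt N18338 F37678) (tt N17526 (iv D20239)))
theorem Q20205 : ∀ i, i < 20205 → P i := stepQ 20204 Q20204 (allL N20204 (tt N20160 F37679) (tt N21772 (iv F41489)) (tt N17530 F37680) (tt N21923 (iv F41863)) (tt N17529 (iv D20240)) (tt N22228 D22266))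
theorem Q20206 : ∀ i, i < 20206 → P i := stepQ 20205 Q20205 (allL N20205 (tt N20161 F37681) (tt N17531 F37682) (tt N22228 (iv F42542)) (tt N22107 (iv F42291)) (tt N20456 (iv F38307)) (tt N17530 (iv D20241)))
theorem Q20207 : ∀ i, i < 20207 → P i := stepQ 20206 Q20206 (allL N20206 (tt N20451 (iv F38290)) (tt N21931 (iv F41884)) (tt N21120 (iv F39872)) (tt N17533 F37683) (tt N20442 (iv F38260)) (tt N17532 (iv D20242)))
theorem Q20208 : ∀ i, i < 20208 → P i := stepQ 20207 Q20207 (allL N20207 (tt N17535 F37684) (tt N21674 (iv F41246)) (tt N17534 (iv D20243)) (tt N17603 F37685) (tt N22229 D22267) (tt N21855 (iv F41697)))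
theorem Q20209 : ∀ i, i < 20209 → P i := stepQ 20208 Q20208 (allL N20208 (tt N17536 F37686) (tt N17540 F37687) (tt N22229 (iv F42545)) (tt N19348 F37688) (tt N17534 (iv D20244)) (tt N22230 D22268))
theorem Q20210 : ∀ i, i < 20210 → P i := stepQ 20209 Q20209 (allL N20209 (tt N17603 F37689) (tt N21676 (iv F41252)) (tt N17601 F37690) (tt N17535 (iv D20245)) (tt N22231 D22269) (tt N21698 (iv F41300)))
theorem Q20211 : ∀ i, i < 20211 → P i := stepQ 20210 Q20210 (allL N20210 (tt N22229 (iv F42544)) (tt N21836 (iv F41657)) (tt N17536 F37691) (tt N22232 D22270) (tt N17535 (iv D20246)) (tt N22233 D22271))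
theorem Q20212 : ∀ i, i < 20212 → P i := stepQ 20211 Q20211 (allL N20211 (tt N22230 (iv F42546)) (tt N17538 F37692) (tt N22233 (iv F42551)) (tt N19351 F37693) (tt N22169 (iv F42431)) (tt N17536 (iv D20247)))
theorem Q20213 : ∀ i, i < 20213 → P i := stepQ 20212 Q20212 (allL N20212 (tt N19902 F37694) (tt N17539 F37695) (tt N19380 (iv F37697)) (tt N17537 (iv D20248)) (tt N22168 (iv F42426)) (tt N19352 F37696))
theorem Q20214 : ∀ i, i < 20214 → P i := stepQ 20213 Q20213 (allL N20213 (tt N17550 F37698) (tt N19382 F37699) (tt N17539 (iv D20249)) (tt N17657 F37700) (tt N22170 (iv F42435)) (tt N19353 F37701))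
theorem Q20215 : ∀ i, i < 20215 → P i := stepQ 20214 Q20214 (allL N20214 (tt N17543 F37702) (tt N22230 (iv F42547)) (tt N21849 (iv F41685)) (tt N19354 F37703) (tt N21857 (iv F41701)) (tt N17540 (iv D20250)))
theorem Q20216 : ∀ i, i < 20216 → P i := stepQ 20215 Q20215 (allL N20215 (tt N17541 (iv D20251)) (tt N20097 F37704) (tt N17544 F37705) (tt N20095 F37706) (tt N22234 D22272) (tt N20094 F37707))
theorem Q20217 : ∀ i, i < 20217 → P i := stepQ 20216 Q20216 (allL N20216 (tt N22234 (iv F42552)) (tt N17542 F37708) (tt N17545 F37709) (tt N22235 D22273) (tt N17541 (iv D20252)) (tt N22236 D22274))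
theorem Q20218 : ∀ i, i < 20218 → P i := stepQ 20217 Q20217 (allL N20217 (tt N21848 (iv F41682)) (tt N22235 (iv F42557)) (tt N22237 D22275) (tt N17542 (iv D20253)) (tt N21844 (iv F41675)) (tt N22238 D22276))
theorem Q20219 : ∀ i, i < 20219 → P i := stepQ 20218 Q20218 (allL N20218 (tt N21849 (iv F41684)) (tt N22236 (iv F42560)) (tt N17543 F37710) (tt N22238 (iv F42563)) (tt N21858 (iv F41703)) (tt N17542 (iv D20254)))
theorem Q20220 : ∀ i, i < 20220 → P i := stepQ 20219 Q20219 (allL N20219 (tt N17545 F37711) (tt N21834 (iv F41653)) (tt N22234 (iv F42554)) (tt N18885 F37712) (tt N17544 (iv D20255)) (tt N22239 D22277))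
theorem Q20221 : ∀ i, i < 20221 → P i := stepQ 20220 Q20220 (allL N20220 (tt N22239 (iv F42564)) (tt N17547 F37713) (tt N22236 (iv F42561)) (tt N18838 F37714) (tt N20102 F37715) (tt N17545 (iv D20256)))
theorem Q20222 : ∀ i, i < 20222 → P i := stepQ 20221 Q20221 (allL N20221 (tt N21618 (iv F41098)) (tt N19384 F37716) (tt N17546 (iv D20257)) (tt N19384 F37718) (tt N20103 F37717) (tt N19385 (iv F37719)))
theorem Q20223 : ∀ i, i < 20223 → P i := stepQ 20222 Q20222 (allL N20222 (tt N21244 (iv F40202)) (tt N18838 F37720) (tt N19385 F37721) (tt N17547 F37722) (tt N18837 F37723) (tt N17546 (iv D20258)))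
theorem Q20224 : ∀ i, i < 20224 → P i := stepQ 20223 Q20223 (allL N20223 (tt N19383 F37724) (tt N19906 F37725) (tt N21223 (iv F40152)) (tt N17548 (iv D20259)) (tt N19358 F37726) (tt N17549 F37727))
theorem Q20225 : ∀ i, i < 20225 → P i := stepQ 20224 Q20224 (allL N20224 (tt N22170 (iv F42432)) (tt N22240 D22278) (tt N17549 (iv D20260)) (tt N21218 (iv F40140)) (tt N17550 F37728) (tt N21223 (iv F40151)))
theorem Q20226 : ∀ i, i < 20226 → P i := stepQ 20225 Q20225 (allL N20225 (tt N22241 D22279) (tt N17550 (iv D20261)) (tt N19904 F37729) (tt N22242 D22280) (tt N22240 (iv F42568)) (tt N19360 F37730))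
theorem Q20227 : ∀ i, i < 20227 → P i := stepQ 20226 Q20226 (allL N20226 (tt N17657 F37731) (tt N22242 (iv F42574)) (tt N17643 F37732) (tt N17550 (iv D20262)) (tt N18929 (iv F37734)) (tt N19361 F37733))
theorem Q20228 : ∀ i, i < 20228 → P i := stepQ 20227 Q20227 (allL N20227 (tt N17552 F37735) (tt N20517 (iv F38429)) (tt N17551 (iv D20263)) (tt N19369 F37736) (tt N22243 D22281) (tt N20614 (iv F38661)))
theorem Q20229 : ∀ i, i < 20229 → P i := stepQ 20228 Q20228 (allL N20228 (tt N17553 F37737) (tt N17569 F37738) (tt N22243 (iv F42579)) (tt N17560 F37739) (tt N17551 (iv D20264)) (tt N22244 D22282))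
theorem Q20230 : ∀ i, i < 20230 → P i := stepQ 20229 Q20229 (allL N20229 (tt N19369 F37740) (tt N20518 (iv F38432)) (tt N19367 F37741) (tt N17552 (iv D20265)) (tt N20855 (iv F39247)) (tt N20538 (iv F38475)))
theorem Q20231 : ∀ i, i < 20231 → P i := stepQ 20230 Q20230 (allL N20230 (tt N22243 (iv F42577)) (tt N20603 (iv F38632)) (tt N17553 F37742) (tt N22245 D22283) (tt N17552 (iv D20266)) (tt N22246 D22284))
theorem Q20232 : ∀ i, i < 20232 → P i := stepQ 20231 Q20231 (allL N20231 (tt N20614 (iv F38659)) (tt N17568 F37743) (tt N17554 F37744) (tt N20538 (iv F38474)) (tt N20604 (iv F38635)) (tt N17552 (iv D20267)))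
theorem Q20233 : ∀ i, i < 20233 → P i := stepQ 20232 Q20232 (allL N20232 (tt N22244 (iv F42581)) (tt N17557 F37745) (tt N22246 (iv F42587)) (tt N17564 F37746) (tt N20601 (iv F38628)) (tt N17553 (iv D20268)))
theorem Q20234 : ∀ i, i < 20234 → P i := stepQ 20233 Q20233 (allL N20233 (tt N18499 F37747) (tt N17558 F37748) (tt N22247 D22285) (tt N17555 (iv D20269)) (tt N20607 (iv F38639)) (tt N17565 F37749))
theorem Q20235 : ∀ i, i < 20235 → P i := stepQ 20234 Q20234 (allL N20234 (tt N17599 F37750) (tt N17559 (iv D20270)) (tt N17580 F37751) (tt N17621 (iv F37753)) (tt N22248 D22286) (tt N17598 F37752))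
theorem Q20236 : ∀ i, i < 20236 → P i := stepQ 20235 Q20235 (allL N20235 (tt N17562 F37754) (tt N17621 F37755) (tt N21698 (iv F41298)) (tt N17559 (iv D20271)) (tt N22249 D22287) (tt N17601 F37756))
theorem Q20237 : ∀ i, i < 20237 → P i := stepQ 20236 Q20236 (allL N20236 (tt N17563 F37757) (tt N22248 (iv F42593)) (tt N17560 F37758) (tt N22250 D22288) (tt N17559 (iv D20272)) (tt N22251 D22289))
theorem Q20238 : ∀ i, i < 20238 → P i := stepQ 20237 Q20237 (allL N20237 (tt N17564 F37759) (tt N17582 F37760) (tt N22251 (iv F42601)) (tt N22244 (iv F42583)) (tt N17613 F37761) (tt N17560 (iv D20273)))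
theorem Q20239 : ∀ i, i < 20239 → P i := stepQ 20238 Q20238 (allL N20238 (tt N17565 F37762) (tt N17584 F37763) (tt N19371 F37766) (tt N17561 (iv D20274)) (tt N17612 F37764) (tt N18499 F37765))
theorem Q20240 : ∀ i, i < 20240 → P i := stepQ 20239 Q20239 (allL N20239 (tt N21698 (iv F41297)) (tt N17618 F37767) (tt N17562 (iv D20275)) (tt N21855 (iv F41696)) (tt N22252 D22290) (tt N17603 F37768))
theorem Q20241 : ∀ i, i < 20241 → P i := stepQ 20240 Q20240 (allL N20240 (tt N22249 (iv F42596)) (tt N17609 F37769) (tt N22252 (iv F42604)) (tt N22253 D22291) (tt N17562 (iv D20276)) (tt N22254 D22292))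
theorem Q20242 : ∀ i, i < 20242 → P i := stepQ 20241 Q20241 (allL N20241 (tt N22250 (iv F42598)) (tt N17611 F37770) (tt N22255 D22293) (tt N17563 (iv D20277)) (tt N22253 (iv F42606)) (tt N22256 D22294))
theorem Q20243 : ∀ i, i < 20243 → P i := stepQ 20242 Q20242 (allL N20242 (tt N22251 (iv F42599)) (tt N17610 F37771) (tt N17564 F37772) (tt N22256 (iv F42614)) (tt N17606 F37773) (tt N17563 (iv D20278)))
theorem Q20244 : ∀ i, i < 20244 → P i := stepQ 20243 Q20243 (allL N20243 (tt N19371 F37774) (tt N22257 D22295) (tt N17565 (iv D20279)) (tt N19368 (iv F37776)) (tt N17614 F37775) (tt N22247 (iv F42591)))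
theorem Q20245 : ∀ i, i < 20245 → P i := stepQ 20244 Q20244 (allL N20244 (tt N22258 D22296) (tt N17566 (iv D20280)) (tt N22257 (iv F42617)) (tt N20154 F37777) (tt N17616 F37778) (tt N20158 F37779))
theorem Q20246 : ∀ i, i < 20246 → P i := stepQ 20245 Q20245 (allL N20245 (tt N17572 F37780) (tt N22244 (iv F42582)) (tt N20611 (iv F38653)) (tt N17582 F37781) (tt N20615 (iv F38663)) (tt N17569 (iv D20281)))
theorem Q20247 : ∀ i, i < 20247 → P i := stepQ 20246 Q20246 (allL N20246 (tt N17570 (iv D20282)) (tt N20520 (iv F38442)) (tt N17573 F37782) (tt N20608 (iv F38643)) (tt N22259 D22297) (tt N19255 F37783))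
theorem Q20248 : ∀ i, i < 20248 → P i := stepQ 20247 Q20247 (allL N20247 (tt N22259 (iv F42626)) (tt N17571 F37784) (tt N17574 F37785) (tt N20610 (iv F38651)) (tt N17570 (iv D20283)) (tt N19845 F37786))
theorem Q20249 : ∀ i, i < 20249 → P i := stepQ 20248 Q20248 (allL N20248 (tt N20611 (iv F38652)) (tt N19845 F37787) (tt N17572 F37788) (tt N20611 (iv F38654)) (tt N19846 F37789) (tt N17571 (iv D20284)))
theorem Q20250 : ∀ i, i < 20250 → P i := stepQ 20249 Q20249 (allL N20249 (tt N17574 F37790) (tt N20602 (iv F38631)) (tt N22259 (iv F42627)) (tt N19840 (iv F37792)) (tt N17573 (iv D20285)) (tt N19839 F37791))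
theorem Q20251 : ∀ i, i < 20251 → P i := stepQ 20250 Q20250 (allL N20250 (tt N20378 (iv F38119)) (tt N17581 F37793) (tt N22248 (iv F42594)) (tt N20380 (iv F38131)) (tt N17580 (iv D20286)) (tt N20380 (iv F38132)))
theorem Q20252 : ∀ i, i < 20252 → P i := stepQ 20251 Q20251 (allL N20251 (tt N17585 F37794) (tt N17612 F37795) (tt N18485 F37796) (tt N17583 (iv D20287)) (tt N17584 F37797) (tt N21145 (iv F39928)))
theorem Q20253 : ∀ i, i < 20253 → P i := stepQ 20252 Q20252 (allL N20252 (tt N21113 (iv F39851)) (tt N17586 (iv D20288)) (tt N17589 F37798) (tt N18483 F37799) (tt N18535 F37800) (tt N18502 F37801))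
theorem Q20254 : ∀ i, i < 20254 → P i := stepQ 20253 Q20253 (allL N20253 (tt N21823 (iv F41618)) (tt N17588 (iv D20289)) (tt N18535 F37802) (tt N18608 F37803) (tt N17589 F37804) (tt N18607 F37805))
theorem Q20255 : ∀ i, i < 20255 → P i := stepQ 20254 Q20254 (allL N20254 (tt N17589 (iv D20290)) (tt N22258 (iv F42621)) (tt N21113 (iv F39855)) (tt N20821 (iv F39183)) (tt N21823 (iv F41620)) (tt N20820 F39181))
theorem Q20256 : ∀ i, i < 20256 → P i := stepQ 20255 Q20255 (allL N20255 (tt N17595 F37806) (tt N18450 F37807) (tt N18497 (iv F37810)) (tt N17592 (iv D20291)) (tt N17593 F37808) (tt N18540 F37809))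
theorem Q20257 : ∀ i, i < 20257 → P i := stepQ 20256 Q20256 (allL N20256 (tt N18497 F37811) (tt N17597 F37812) (tt N17595 (iv D20292)) (tt N18497 F37815) (tt N17597 F37813) (tt N18495 F37814))
theorem Q20258 : ∀ i, i < 20258 → P i := stepQ 20257 Q20257 (allL N20257 (tt N22248 (iv F42592)) (tt N17600 F37816) (tt N20378 (iv F38121)) (tt N22260 D22298) (tt N17599 (iv D20293)) (tt N20068 F37817))
theorem Q20259 : ∀ i, i < 20259 → P i := stepQ 20258 Q20258 (allL N20258 (tt N17611 F37818) (tt N22260 (iv F42629)) (tt N22261 D22299) (tt N17600 (iv D20294)) (tt N17623 F37819) (tt N20070 F37820))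
theorem Q20260 : ∀ i, i < 20260 → P i := stepQ 20259 Q20259 (allL N20259 (tt N17604 F37821) (tt N21702 (iv F41306)) (tt N22231 (iv F42550)) (tt N22262 D22300) (tt N17601 (iv D20295)) (tt N22263 D22301))
theorem Q20261 : ∀ i, i < 20261 → P i := stepQ 20260 Q20260 (allL N20260 (tt N17605 F37822) (tt N20064 F37823) (tt N22264 D22302) (tt N17602 (iv D20296)) (tt N22262 (iv F42638)) (tt N20077 (iv F37824)))
theorem Q20262 : ∀ i, i < 20262 → P i := stepQ 20261 Q20261 (allL N20261 (tt N17606 F37825) (tt N20065 F37826) (tt N17613 F37827) (tt N20077 F37828) (tt N22251 (iv F42602)) (tt N17602 (iv D20297)))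
theorem Q20263 : ∀ i, i < 20263 → P i := stepQ 20262 Q20262 (allL N20262 (tt N22231 (iv F42549)) (tt N21675 (iv F41250)) (tt N17604 F37829) (tt N22265 D22303) (tt N17603 (iv D20298)) (tt N22266 D22304))
theorem Q20264 : ∀ i, i < 20264 → P i := stepQ 20263 Q20263 (allL N20263 (tt N22262 (iv F42636)) (tt N17607 F37830) (tt N22267 D22305) (tt N17604 (iv D20299)) (tt N17605 F37831) (tt N22268 D22306))
theorem Q20265 : ∀ i, i < 20265 → P i := stepQ 20264 Q20264 (allL N20264 (tt N22263 (iv F42639)) (tt N17608 F37832) (tt N22266 (iv F42642)) (tt N22268 (iv F42646)) (tt N22254 (iv F42608)) (tt N17604 (iv D20300)))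
theorem Q20266 : ∀ i, i < 20266 → P i := stepQ 20265 Q20265 (allL N20265 (tt N22264 (iv F42640)) (tt N20074 F37833) (tt N17605 (iv D20301)) (tt N20846 (iv F39228)) (tt N22267 (iv F42644)) (tt N20072 F37834))
theorem Q20267 : ∀ i, i < 20267 → P i := stepQ 20266 Q20266 (allL N20266 (tt N20069 F37835) (tt N22268 (iv F42645)) (tt N20081 F37836) (tt N17608 F37837) (tt N20080 F37838) (tt N17607 (iv D20302)))
theorem Q20268 : ∀ i, i < 20268 → P i := stepQ 20267 Q20267 (allL N20267 (tt N17624 F37839) (tt N22254 (iv F42607)) (tt N17620 F37840) (tt N22269 D22307) (tt N17608 (iv D20303)) (tt N17609 F37841))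
theorem Q20269 : ∀ i, i < 20269 → P i := stepQ 20268 Q20268 (allL N20268 (tt N17623 F37842) (tt N22253 (iv F42605)) (tt N22270 D22308) (tt N17609 (iv D20304)) (tt N17611 F37843) (tt N22269 (iv F42651)))
theorem Q20270 : ∀ i, i < 20270 → P i := stepQ 20269 Q20269 (allL N20269 (tt N20070 F37844) (tt N22256 (iv F42612)) (tt N22271 D22309) (tt N17610 (iv D20305)) (tt N20079 F37845) (tt N17611 F37846))
theorem Q20271 : ∀ i, i < 20271 → P i := stepQ 20270 Q20270 (allL N20270 (tt N22261 (iv F42632)) (tt N20051 (iv F37848)) (tt N17611 (iv D20306)) (tt N20050 F37847) (tt N22270 (iv F42654)) (tt N22271 (iv F42661)))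
theorem Q20272 : ∀ i, i < 20272 → P i := stepQ 20271 Q20271 (allL N20271 (tt N17614 F37849) (tt N19373 F37850) (tt N17612 (iv D20307)) (tt N19370 F37852) (tt N19371 F37851) (tt N22272 D22310))
theorem Q20273 : ∀ i, i < 20273 → P i := stepQ 20272 Q20272 (allL N20272 (tt N17615 F37853) (tt N21145 (iv F39925)) (tt N22272 (iv F42664)) (tt N17613 F37854) (tt N22273 D22311) (tt N17612 (iv D20308)))
theorem Q20274 : ∀ i, i < 20274 → P i := stepQ 20273 Q20273 (allL N20273 (tt N20545 (iv F38489)) (tt N17614 (iv D20309)) (tt N17616 F37855) (tt N20544 F38488) (tt N22257 (iv F42619)) (tt N20552 (iv F38508)))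
theorem Q20275 : ∀ i, i < 20275 → P i := stepQ 20274 Q20274 (allL N20274 (tt N19370 F37856) (tt N20544 (iv F38486)) (tt N20855 (iv F39246)) (tt N17614 (iv D20310)) (tt N19367 F37857) (tt N22274 D22312))
theorem Q20276 : ∀ i, i < 20276 → P i := stepQ 20275 Q20275 (allL N20275 (tt N22272 (iv F42662)) (tt N20552 (iv F38507)) (tt N17615 F37858) (tt N22274 (iv F42670)) (tt N22275 D22313) (tt N17614 (iv D20311)))
theorem Q20277 : ∀ i, i < 20277 → P i := stepQ 20276 Q20276 (allL N20276 (tt N22273 (iv F42666)) (tt N17617 F37859) (tt N22275 (iv F42672)) (tt N20601 (iv F38627)) (tt N17615 (iv D20312)) (tt N20607 (iv F38640)))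
theorem Q20278 : ∀ i, i < 20278 → P i := stepQ 20277 Q20277 (allL N20277 (tt N17616 (iv D20313)) (tt N21823 (iv F41619)) (tt N20545 F38491) (tt N20551 (iv F38506)) (tt N22258 (iv F42624)) (tt N20550 (iv F38503)))
theorem Q20279 : ∀ i, i < 20279 → P i := stepQ 20278 Q20278 (allL N20278 (tt N21663 (iv F41208)) (tt N22252 (iv F42603)) (tt N17619 F37860) (tt N22276 D22314) (tt N17618 (iv D20314)) (tt N21658 (iv F41199)))
theorem Q20280 : ∀ i, i < 20280 → P i := stepQ 20279 Q20279 (allL N20279 (tt N17622 F37861) (tt N22249 (iv F42597)) (tt N21654 F41189) (tt N22277 D22315) (tt N17621 (iv D20315)) (tt N22278 D22316))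
theorem Q20281 : ∀ i, i < 20281 → P i := stepQ 20280 Q20280 (allL N20280 (tt N22277 (iv F42674)) (tt N17623 F37862) (tt N22279 D22317) (tt N17622 (iv D20316)) (tt N22260 (iv F42630)) (tt N22280 D22318))
theorem Q20282 : ∀ i, i < 20282 → P i := stepQ 20281 Q20281 (allL N20281 (tt N22278 (iv F42675)) (tt N17624 F37863) (tt N21647 (iv F41172)) (tt N22280 (iv F42677)) (tt N21693 (iv F41291)) (tt N17622 (iv D20317)))
theorem Q20283 : ∀ i, i < 20283 → P i := stepQ 20282 Q20282 (allL N20282 (tt N22270 (iv F42652)) (tt N22281 D22319) (tt N17623 (iv D20318)) (tt N20054 F37864) (tt N22261 (iv F42633)) (tt N20053 (iv F37865)))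
theorem Q20284 : ∀ i, i < 20284 → P i := stepQ 20283 Q20283 (allL N20283 (tt N22269 (iv F42648)) (tt N22280 (iv F42676)) (tt N20053 F37866) (tt N17624 F37867) (tt N22282 D22320) (tt N17623 (iv D20319)))
theorem Q20285 : ∀ i, i < 20285 → P i := stepQ 20284 Q20284 (allL N20284 (tt N17627 F37868) (tt N21494 (iv F40817)) (tt N17625 (iv D20320)) (tt N22283 D22321) (tt N22284 D22322) (tt N19089 F37869))
theorem Q20286 : ∀ i, i < 20286 → P i := stepQ 20285 Q20285 (allL N20285 (tt N17628 F37870) (tt N19083 F37871) (tt N22284 (iv F42690)) (tt N20131 F37872) (tt N17625 (iv D20321)) (tt N22285 D22323))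
theorem Q20287 : ∀ i, i < 20287 → P i := stepQ 20286 Q20286 (allL N20286 (tt N17629 F37873) (tt N19084 F37874) (tt N20132 F37875) (tt N22286 D22324) (tt N17626 (iv D20322)) (tt N20132 F37876))
theorem Q20288 : ∀ i, i < 20288 → P i := stepQ 20287 Q20287 (allL N20287 (tt N22283 (iv F42685)) (tt N19093 F37877) (tt N22287 D22325) (tt N17627 (iv D20323)) (tt N22288 D22326) (tt N19090 F37878))
theorem Q20289 : ∀ i, i < 20289 → P i := stepQ 20288 Q20288 (allL N20288 (tt N22284 (iv F42689)) (tt N19096 F37879) (tt N17628 F37880) (tt N22289 D22327) (tt N17627 (iv D20324)) (tt N22290 D22328))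
theorem Q20290 : ∀ i, i < 20290 → P i := stepQ 20289 Q20289 (allL N20289 (tt N22285 (iv F42691)) (tt N17630 F37881) (tt N22290 (iv F42706)) (tt N20135 F37882) (tt N19100 F37883) (tt N17628 (iv D20325)))
theorem Q20291 : ∀ i, i < 20291 → P i := stepQ 20290 Q20290 (allL N20290 (tt N22286 (iv F42695)) (tt N17631 F37884) (tt N22291 D22329) (tt N17629 (iv D20326)) (tt N19099 F37885) (tt N20136 F37886))
theorem Q20292 : ∀ i, i < 20292 → P i := stepQ 20291 Q20291 (allL N20291 (tt N19087 F37887) (tt N22121 (iv F42314)) (tt N17631 (iv D20327)) (tt N19261 F37888) (tt N19101 F37889) (tt N19265 F37890))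
theorem Q20293 : ∀ i, i < 20293 → P i := stepQ 20292 Q20292 (allL N20292 (tt N17639 F37891) (tt N21471 (iv F40735)) (tt N17637 (iv D20328)) (tt N22292 D22330) (tt N21472 (iv F40741)) (tt N18918 F37892))
theorem Q20294 : ∀ i, i < 20294 → P i := stepQ 20293 Q20293 (allL N20293 (tt N17640 F37893) (tt N17645 F37894) (tt N21472 (iv F40740)) (tt N20114 F37895) (tt N17637 (iv D20329)) (tt N21173 (iv F40019)))
theorem Q20295 : ∀ i, i < 20295 → P i := stepQ 20294 Q20294 (allL N20294 (tt N22292 (iv F42710)) (tt N18922 F37896) (tt N22293 D22331) (tt N17639 (iv D20330)) (tt N22294 D22332) (tt N18919 F37897))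
theorem Q20296 : ∀ i, i < 20296 → P i := stepQ 20295 Q20295 (allL N20295 (tt N21472 (iv F40739)) (tt N18923 F37898) (tt N17640 F37899) (tt N22295 D22333) (tt N17639 (iv D20331)) (tt N21473 (iv F40746)))
theorem Q20297 : ∀ i, i < 20297 → P i := stepQ 20296 Q20296 (allL N20296 (tt N21173 (iv F40016)) (tt N17642 F37900) (tt N21473 (iv F40744)) (tt N20117 F37901) (tt N18928 F37902) (tt N17640 (iv D20332)))
theorem Q20298 : ∀ i, i < 20298 → P i := stepQ 20297 Q20297 (allL N20297 (tt N17647 (iv D20333)) (tt N21434 (iv F40633)) (tt N17652 F37903) (tt N19045 F37904) (tt N21431 (iv F40623)) (tt N18908 F37905))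
theorem Q20299 : ∀ i, i < 20299 → P i := stepQ 20298 Q20298 (allL N20298 (tt N21431 (iv F40619)) (tt N17649 F37906) (tt N17653 F37907) (tt N21169 (iv F40003)) (tt N17647 (iv D20334)) (tt N21168 (iv F39999)))
theorem Q20300 : ∀ i, i < 20300 → P i := stepQ 20299 Q20299 (allL N20299 (tt N17653 F37908) (tt N18913 F37909) (tt N21431 (iv F40621)) (tt N18952 F37910) (tt N17652 (iv D20335)) (tt N19007 F37911))
theorem Q20301 : ∀ i, i < 20301 → P i := stepQ 20300 Q20300 (allL N20300 (tt N18952 F37912) (tt N17654 F37913) (tt N21239 (iv F40187)) (tt N17653 (iv D20336)) (tt N18899 F37914) (tt N21239 (iv F40189)))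
theorem Q20302 : ∀ i, i < 20302 → P i := stepQ 20301 Q20301 (allL N20301 (tt N19007 F37915) (tt N17655 F37916) (tt N21168 F39998) (tt N21239 (iv F40188)) (tt N18909 F37917) (tt N17653 (iv D20337)))
theorem Q20303 : ∀ i, i < 20303 → P i := stepQ 20302 Q20302 (allL N20302 (tt N18907 F37918) (tt N21240 (iv F40191)) (tt N17654 (iv D20338)) (tt N21631 (iv F41128)) (tt N18819 F37919) (tt N21240 (iv F40193)))
theorem Q20304 : ∀ i, i < 20304 → P i := stepQ 20303 Q20303 (allL N20303 (tt N17659 F37920) (tt N17661 F37921) (tt N19071 (iv F37923)) (tt N17658 (iv D20339)) (tt N20885 (iv F39301)) (tt N18349 F37922))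
theorem Q20305 : ∀ i, i < 20305 → P i := stepQ 20304 Q20304 (allL N20304 (tt N20885 (iv F39299)) (tt N17660 F37924) (tt N19072 F37925) (tt N18628 F37926) (tt N17659 (iv D20340)) (tt N20651 (iv F38740)))
theorem Q20306 : ∀ i, i < 20306 → P i := stepQ 20305 Q20305 (allL N20305 (tt N17666 F37927) (tt N20651 (iv F38738)) (tt N19070 F37928) (tt N18629 F37929) (tt N19223 F37930) (tt N17660 (iv D20341)))
theorem Q20307 : ∀ i, i < 20307 → P i := stepQ 20306 Q20306 (allL N20306 (tt N19065 (iv F37934)) (tt N17662 (iv D20342)) (tt N17664 F37931) (tt N20137 F37932) (tt N22296 D22334) (tt N19220 F37933))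
theorem Q20308 : ∀ i, i < 20308 → P i := stepQ 20307 Q20307 (allL N20307 (tt N20145 F37935) (tt N22296 (iv F42721)) (tt N17663 F37936) (tt N22297 D22335) (tt N17662 (iv D20343)) (tt N22298 D22336))
theorem Q20309 : ∀ i, i < 20309 → P i := stepQ 20308 Q20308 (allL N20308 (tt N20682 (iv F38846)) (tt N17666 F37937) (tt N22298 (iv F42726)) (tt N18630 F37938) (tt N20681 (iv F38844)) (tt N17663 (iv D20344)))
theorem Q20310 : ∀ i, i < 20310 → P i := stepQ 20309 Q20309 (allL N20309 (tt N19066 F37939) (tt N17665 F37940) (tt N22296 (iv F42722)) (tt N21111 (iv F39849)) (tt N17664 (iv D20345)) (tt N22299 D22337))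
theorem Q20311 : ∀ i, i < 20311 → P i := stepQ 20310 Q20310 (allL N20310 (tt N18889 F37941) (tt N21111 (iv F39848)) (tt N19032 (iv F37943)) (tt N17665 (iv D20346)) (tt N18887 F37942) (tt N22300 D22338))
theorem Q20312 : ∀ i, i < 20312 → P i := stepQ 20311 Q20311 (allL N20311 (tt N19070 F37944) (tt N22299 (iv F42728)) (tt N17666 F37945) (tt N22300 (iv F42732)) (tt N19222 F37946) (tt N17665 (iv D20347)))
theorem Q20313 : ∀ i, i < 20313 → P i := stepQ 20312 Q20312 (allL N20312 (tt N19223 F37947) (tt N20681 (iv F38843)) (tt N19222 F37948) (tt N20393 (iv F38163)) (tt N17666 (iv D20348)) (tt N17667 F37949))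
theorem Q20314 : ∀ i, i < 20314 → P i := stepQ 20313 Q20313 (allL N20313 (tt N18347 F37950) (tt N18637 F37951) (tt N18512 (iv F37953)) (tt N17667 (iv D20349)) (tt N17668 F37952) (tt N20393 (iv F38164)))
theorem Q20315 : ∀ i, i < 20315 → P i := stepQ 20314 Q20314 (allL N20314 (tt N18762 F37954) (tt N20888 (iv F39312)) (tt N22301 D22339) (tt N17669 (iv D20350)) (tt N20668 F38801) (tt N20669 (iv F38805)))
theorem Q20316 : ∀ i, i < 20316 → P i := stepQ 20315 Q20315 (allL N20315 (tt N17793 F37955) (tt N18320 F37956) (tt N17672 F37957) (tt N21938 (iv F41901)) (tt N21021 (iv F39668)) (tt N17671 (iv D20351)))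
theorem Q20317 : ∀ i, i < 20317 → P i := stepQ 20316 Q20316 (allL N20316 (tt N17799 F37958) (tt N19054 F37959) (tt N17674 (iv D20352)) (tt N19071 F37960) (tt N17779 F37961) (tt N19047 (iv F37962)))
theorem Q20318 : ∀ i, i < 20318 → P i := stepQ 20317 Q20317 (allL N20317 (tt N17800 F37963) (tt N18385 F37964) (tt N19047 F37965) (tt N17675 F37966) (tt N18065 F37967) (tt N17674 (iv D20353)))
theorem Q20319 : ∀ i, i < 20319 → P i := stepQ 20318 Q20318 (allL N20318 (tt N22302 D22340) (tt N17676 (iv D20354)) (tt N17691 F37968) (tt N22303 D22341) (tt N21532 (iv F40891)) (tt N22304 D22342))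
theorem Q20320 : ∀ i, i < 20320 → P i := stepQ 20319 Q20319 (allL N20319 (tt N17681 F37969) (tt N22303 (iv F42740)) (tt N20669 (iv F38804)) (tt N17676 (iv D20355)) (tt N20667 F38797) (tt N22301 (iv F42736)))
theorem Q20321 : ∀ i, i < 20321 → P i := stepQ 20320 Q20320 (allL N20320 (tt N17682 F37970) (tt N22304 (iv F42743)) (tt N17677 F37971) (tt N22301 (iv F42735)) (tt N22305 D22343) (tt N17676 (iv D20356)))
theorem Q20322 : ∀ i, i < 20322 → P i := stepQ 20321 Q20321 (allL N20321 (tt N17683 F37972) (tt N17694 F37973) (tt N22305 (iv F42746)) (tt N18732 F37974) (tt N17677 (iv D20357)) (tt N21534 (iv F40898)))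
theorem Q20323 : ∀ i, i < 20323 → P i := stepQ 20322 Q20322 (allL N20322 (tt N22306 D22344) (tt N17678 (iv D20358)) (tt N17686 F37975) (tt N21905 (iv F41827)) (tt N17680 F37976) (tt N17891 (iv F37977)))
theorem Q20324 : ∀ i, i < 20324 → P i := stepQ 20323 Q20323 (allL N20323 (tt N20903 (iv F39340)) (tt N21905 (iv F41825)) (tt N20901 (iv F39333)) (tt N17678 (iv D20359)) (tt N20675 F38829) (tt N22307 D22345))
theorem Q20325 : ∀ i, i < 20325 → P i := stepQ 20324 Q20324 (allL N20324 (tt N21533 (iv F40892)) (tt N17891 F37978) (tt N17679 F37979) (tt N22307 (iv F42754)) (tt N22308 D22346) (tt N17678 (iv D20360)))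
theorem Q20326 : ∀ i, i < 20326 → P i := stepQ 20325 Q20325 (allL N20325 (tt N21534 (iv F40895)) (tt N17687 F37980) (tt N22308 (iv F42756)) (tt N17753 F37981) (tt N17679 (iv D20361)) (tt N17683 F37982))
theorem Q20327 : ∀ i, i < 20327 → P i := stepQ 20326 Q20326 (allL N20326 (tt N17680 (iv D20362)) (tt N22302 (iv F42737)) (tt N17688 F37983) (tt N21903 F41818) (tt N22306 (iv F42749)) (tt N17721 F37984))
theorem Q20328 : ∀ i, i < 20328 → P i := stepQ 20327 Q20327 (allL N20327 (tt N22301 (iv F42734)) (tt N17724 F37985) (tt N18762 F37986) (tt N17682 F37987) (tt N20677 (iv F38832)) (tt N17681 (iv D20363)))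
theorem Q20329 : ∀ i, i < 20329 → P i := stepQ 20328 Q20328 (allL N20328 (tt N22305 (iv F42745)) (tt N17725 F37988) (tt N17683 F37989) (tt N22309 D22347) (tt N17682 (iv D20364)) (tt N22308 (iv F42757)))
theorem Q20330 : ∀ i, i < 20330 → P i := stepQ 20329 Q20329 (allL N20329 (tt N18732 F37990) (tt N17689 F37991) (tt N22310 D22348) (tt N17683 (iv D20365)) (tt N17684 F37992) (tt N17753 F37993))
theorem Q20331 : ∀ i, i < 20331 → P i := stepQ 20330 Q20330 (allL N20330 (tt N18731 F37994) (tt N18391 F37995) (tt N17684 (iv D20366)) (tt N18756 F37996) (tt N22310 (iv F42761)) (tt N17685 F37997))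
theorem Q20332 : ∀ i, i < 20332 → P i := stepQ 20331 Q20331 (allL N20331 (tt N22311 D22349) (tt N17685 (iv D20367)) (tt N17690 F37998) (tt N22104 (iv F42282)) (tt N17750 F37999) (tt N18391 F38000))
theorem Q20333 : ∀ i, i < 20333 → P i := stepQ 20332 Q20332 (allL N20332 (tt N18730 F38001) (tt N22104 (iv F42281)) (tt N18758 F38003) (tt N17685 (iv D20368)) (tt N20639 F38711) (tt N18756 F38002))
theorem Q20334 : ∀ i, i < 20334 → P i := stepQ 20333 Q20333 (allL N20333 (tt N17686 (iv D20369)) (tt N17705 F38004) (tt N22306 (iv F42747)) (tt N17890 F38005) (tt N17688 F38006) (tt N17889 F38007))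
theorem Q20335 : ∀ i, i < 20335 → P i := stepQ 20334 Q20334 (allL N20334 (tt N17690 (iv D20370)) (tt N17710 F38008) (tt N22311 (iv F42764)) (tt N18381 F38009) (tt N17754 F38010) (tt N18390 F38011))
theorem Q20336 : ∀ i, i < 20336 → P i := stepQ 20335 Q20335 (allL N20335 (tt N17691 (iv D20371)) (tt N17699 F38012) (tt N22302 (iv F42738)) (tt N22312 D22350) (tt N21535 (iv F40900)) (tt N18314 (iv F38013)))
theorem Q20337 : ∀ i, i < 20337 → P i := stepQ 20336 Q20336 (allL N20336 (tt N22312 (iv F42767)) (tt N17692 F38014) (tt N21641 (iv F41155)) (tt N17691 (iv D20372)) (tt N22313 D22351) (tt N17713 (iv F38015)))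
theorem Q20338 : ∀ i, i < 20338 → P i := stepQ 20337 Q20337 (allL N20337 (tt N18314 F38016) (tt N17693 F38017) (tt N22304 (iv F42744)) (tt N17713 F38018) (tt N22314 D22352) (tt N17691 (iv D20373)))
theorem Q20339 : ∀ i, i < 20339 → P i := stepQ 20338 Q20338 (allL N20338 (tt N17702 F38019) (tt N22313 (iv F42770)) (tt N17716 F38020) (tt N21283 (iv F40295)) (tt N17692 (iv D20374)) (tt N21282 (iv F40291)))
theorem Q20340 : ∀ i, i < 20340 → P i := stepQ 20339 Q20339 (allL N20339 (tt N17704 F38021) (tt N22314 (iv F42772)) (tt N17694 F38022) (tt N21469 (iv F40727)) (tt N17693 (iv D20375)) (tt N21536 (iv F40904)))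
theorem Q20341 : ∀ i, i < 20341 → P i := stepQ 20340 Q20340 (allL N20340 (tt N17695 (iv D20376)) (tt N21535 (iv F40899)) (tt N17705 F38023) (tt N22315 D22353) (tt N17699 F38024) (tt N22316 D22354))
theorem Q20342 : ∀ i, i < 20342 → P i := stepQ 20341 Q20341 (allL N20341 (tt N22315 (iv F42773)) (tt N17696 F38025) (tt N22317 D22355) (tt N17695 (iv D20377)) (tt N22318 D22356) (tt N21504 (iv F40840)))
theorem Q20343 : ∀ i, i < 20343 → P i := stepQ 20342 Q20342 (allL N20342 (tt N22316 (iv F42774)) (tt N17697 F38026) (tt N17707 F38027) (tt N21504 (iv F40838)) (tt N17936 F38028) (tt N17695 (iv D20378)))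
theorem Q20344 : ∀ i, i < 20344 → P i := stepQ 20343 Q20343 (allL N20343 (tt N21283 (iv F40293)) (tt N22318 (iv F42777)) (tt N21279 (iv F40283)) (tt N17702 F38029) (tt N17696 (iv D20379)) (tt N21193 (iv F40080)))
theorem Q20345 : ∀ i, i < 20345 → P i := stepQ 20344 Q20344 (allL N20344 (tt N21536 (iv F40901)) (tt N17936 F38030) (tt N17698 F38031) (tt N17831 F38032) (tt N17697 (iv D20380)) (tt N17704 F38033))
theorem Q20346 : ∀ i, i < 20346 → P i := stepQ 20345 Q20345 (allL N20345 (tt N17700 F38034) (tt N22312 (iv F42768)) (tt N18304 F38035) (tt N17699 (iv D20381)) (tt N22319 D22357) (tt N18315 F38036))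
theorem Q20347 : ∀ i, i < 20347 → P i := stepQ 20346 Q20346 (allL N20346 (tt N22319 (iv F42779)) (tt N17702 F38037) (tt N21985 (iv F42003)) (tt N22318 (iv F42778)) (tt N17700 (iv D20382)) (tt N22320 D22358))
theorem Q20348 : ∀ i, i < 20348 → P i := stepQ 20347 Q20347 (allL N20347 (tt N17716 F38038) (tt N19409 F38039) (tt N17702 F38040) (tt N19408 F38041) (tt N17701 (iv D20383)) (tt N21470 (iv F40733)))
theorem Q20349 : ∀ i, i < 20349 → P i := stepQ 20348 Q20348 (allL N20348 (tt N21282 (iv F40289)) (tt N22320 (iv F42781)) (tt N21470 (iv F40731)) (tt N21193 (iv F40079)) (tt N21190 F40069) (tt N17702 (iv D20384)))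
theorem Q20350 : ∀ i, i < 20350 → P i := stepQ 20349 Q20349 (allL N20349 (tt N21469 (iv F40725)) (tt N18318 F38042) (tt N17832 F38044) (tt N17704 (iv D20385)) (tt N21191 (iv F40074)) (tt N17831 F38043))
theorem Q20351 : ∀ i, i < 20351 → P i := stepQ 20350 Q20350 (allL N20350 (tt N17706 F38045) (tt N17890 F38046) (tt N20864 (iv F39258)) (tt N17705 (iv D20386)) (tt N17932 F38047) (tt N17854 (iv F38048)))
theorem Q20352 : ∀ i, i < 20352 → P i := stepQ 20351 Q20351 (allL N20351 (tt N17707 F38049) (tt N17889 F38050) (tt N22316 (iv F42775)) (tt N17854 F38051) (tt N17933 F38052) (tt N17705 (iv D20387)))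
theorem Q20353 : ∀ i, i < 20353 → P i := stepQ 20352 Q20352 (allL N20352 (tt N20864 (iv F39257)) (tt N17845 F38053) (tt N17706 (iv D20388)) (tt N22321 D22359) (tt N17935 F38054) (tt N17843 F38055))
theorem Q20354 : ∀ i, i < 20354 → P i := stepQ 20353 Q20353 (allL N20353 (tt N17708 (iv D20389)) (tt N17754 F38056) (tt N18742 F38057) (tt N18398 F38058) (tt N17710 F38059) (tt N18397 F38060))
theorem Q20355 : ∀ i, i < 20355 → P i := stepQ 20354 Q20354 (allL N20354 (tt N17709 (iv D20390)) (tt N18390 F38061) (tt N18749 F38062) (tt N17949 F38063) (tt N21888 (iv F41779)) (tt N17710 F38064))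
theorem Q20356 : ∀ i, i < 20356 → P i := stepQ 20355 Q20355 (allL N20355 (tt N17711 F38065) (tt N18381 F38066) (tt N22322 D22360) (tt N17710 (iv D20391)) (tt N21887 (iv F41776)) (tt N17949 F38067))
theorem Q20357 : ∀ i, i < 20357 → P i := stepQ 20356 Q20356 (allL N20356 (tt N22322 (iv F42786)) (tt N17948 F38068) (tt N17711 (iv D20392)) (tt N22323 D22361) (tt N21635 (iv F41137)) (tt N17946 F38069))
theorem Q20358 : ∀ i, i < 20358 → P i := stepQ 20357 Q20357 (allL N20357 (tt N20990 (iv F39589)) (tt N17715 F38070) (tt N21952 (iv F41927)) (tt N17734 F38071) (tt N21643 (iv F41163)) (tt N17712 (iv D20393)))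
theorem Q20359 : ∀ i, i < 20359 → P i := stepQ 20358 Q20358 (allL N20358 (tt N17713 (iv D20394)) (tt N18315 F38072) (tt N20741 (iv F39003)) (tt N18314 F38073) (tt N22324 D22362) (tt N22312 (iv F42769)))
theorem Q20360 : ∀ i, i < 20360 → P i := stepQ 20359 Q20359 (allL N20359 (tt N22324 (iv F42794)) (tt N17714 F38074) (tt N21947 (iv F41918)) (tt N21468 (iv F40724)) (tt N17713 (iv D20395)) (tt N21467 F40722))
theorem Q20361 : ∀ i, i < 20361 → P i := stepQ 20360 Q20360 (allL N20360 (tt N21470 (iv F40729)) (tt N21643 (iv F41161)) (tt N21282 F40292) (tt N21495 (iv F40822)) (tt N17715 (iv D20396)) (tt N17716 F38075))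
theorem Q20362 : ∀ i, i < 20362 → P i := stepQ 20361 Q20361 (allL N20361 (tt N17718 F38076) (tt N20737 (iv F38992)) (tt N17723 F38077) (tt N22325 D22363) (tt N17717 (iv D20397)) (tt N18123 F38078))
theorem Q20363 : ∀ i, i < 20363 → P i := stepQ 20362 Q20362 (allL N20362 (tt N22325 (iv F42796)) (tt N17720 F38079) (tt N22326 D22364) (tt N17718 (iv D20398)) (tt N21928 (iv F41876)) (tt N18126 F38080))
theorem Q20364 : ∀ i, i < 20364 → P i := stepQ 20363 Q20363 (allL N20363 (tt N20739 (iv F38997)) (tt N22327 D22365) (tt N17720 (iv D20399)) (tt N18506 F38082) (tt N21929 (iv F41878)) (tt N18295 F38081))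
theorem Q20365 : ∀ i, i < 20365 → P i := stepQ 20364 Q20364 (allL N20364 (tt N22304 (iv F42742)) (tt N17721 (iv D20400)) (tt N18314 F38083) (tt N22328 D22366) (tt N22329 D22367) (tt N22302 F42739))
theorem Q20366 : ∀ i, i < 20366 → P i := stepQ 20365 Q20365 (allL N20365 (tt N17724 F38084) (tt N22328 (iv F42802)) (tt N21904 (iv F41822)) (tt N17721 (iv D20401)) (tt N22330 D22368) (tt N21903 (iv F41819)))
theorem Q20367 : ∀ i, i < 20367 → P i := stepQ 20366 Q20366 (allL N20366 (tt N17725 F38085) (tt N22329 (iv F42803)) (tt N17722 F38086) (tt N22331 D22369) (tt N17721 (iv D20402)) (tt N22332 D22370))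
theorem Q20368 : ∀ i, i < 20368 → P i := stepQ 20367 Q20367 (allL N20367 (tt N17726 F38087) (tt N17933 F38088) (tt N22332 (iv F42808)) (tt N17895 F38089) (tt N17889 F38090) (tt N17722 (iv D20403)))
theorem Q20369 : ∀ i, i < 20369 → P i := stepQ 20368 Q20368 (allL N20368 (tt N17727 F38091) (tt N17932 F38092) (tt N22333 D22371) (tt N17723 (iv D20404)) (tt N17890 F38093) (tt N17896 F38094))
theorem Q20370 : ∀ i, i < 20370 → P i := stepQ 20369 Q20369 (allL N20369 (tt N22330 (iv F42805)) (tt N20677 (iv F38830)) (tt N20680 (iv F38839)) (tt N22334 D22372) (tt N17724 (iv D20405)) (tt N20673 (iv F38822)))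
theorem Q20371 : ∀ i, i < 20371 → P i := stepQ 20370 Q20370 (allL N20370 (tt N22331 (iv F42806)) (tt N22309 (iv F42758)) (tt N22335 D22373) (tt N17725 (iv D20406)) (tt N22334 (iv F42813)) (tt N22336 D22374))
theorem Q20372 : ∀ i, i < 20372 → P i := stepQ 20371 Q20371 (allL N20371 (tt N22332 (iv F42807)) (tt N22308 (iv F42755)) (tt N17726 F38095) (tt N22336 (iv F42814)) (tt N17891 F38096) (tt N17725 (iv D20407)))
theorem Q20373 : ∀ i, i < 20373 → P i := stepQ 20372 Q20372 (allL N20372 (tt N22333 (iv F42810)) (tt N17877 F38097) (tt N17727 (iv D20408)) (tt N22337 D22375) (tt N17873 F38098) (tt N17883 F38099))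
theorem Q20374 : ∀ i, i < 20374 → P i := stepQ 20373 Q20373 (allL N20373 (tt N20881 (iv F39289)) (tt N17730 F38100) (tt N19642 F38101) (tt N17729 (iv D20409)) (tt N20738 (iv F38996)) (tt N19653 F38102))
theorem Q20375 : ∀ i, i < 20375 → P i := stepQ 20374 Q20374 (allL N20374 (tt N21929 (iv F41877)) (tt N19647 F38103) (tt N17730 (iv D20410)) (tt N20093 F38104) (tt N20739 (iv F38998)) (tt N19654 (iv F38105)))
theorem Q20376 : ∀ i, i < 20376 → P i := stepQ 20375 Q20375 (allL N20375 (tt N21930 (iv F41880)) (tt N19653 F38106) (tt N19654 F38107) (tt N17731 F38108) (tt N22338 D22376) (tt N17730 (iv D20411)))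
theorem Q20377 : ∀ i, i < 20377 → P i := stepQ 20376 Q20376 (allL N20376 (tt N17806 F38109) (tt N17807 F38110) (tt N17734 F38111) (tt N18074 F38112) (tt N18382 F38113) (tt N17733 (iv D20412)))
theorem Q20378 : ∀ i, i < 20378 → P i := stepQ 20377 Q20377 (allL N20377 (tt N19713 F38114) (tt N17739 F38115) (tt N19711 F38116) (tt N17744 F38117) (tt N17737 (iv D20413)) (tt N17744 F38118))
theorem Q20379 : ∀ i, i < 20379 → P i := stepQ 20378 Q20378 (allL N20378 (tt N20250 F38119) (tt N17740 F38120) (tt N20257 F38121) (tt N17745 F38122) (tt N17738 (iv D20414)) (tt N17745 F38123))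
theorem Q20380 : ∀ i, i < 20380 → P i := stepQ 20379 Q20379 (allL N20379 (tt N17744 F38124) (tt N18771 F38125) (tt N19714 F38126) (tt N19713 F38127) (tt N17741 (iv D20415)) (tt N19713 F38128))
theorem Q20381 : ∀ i, i < 20381 → P i := stepQ 20380 Q20380 (allL N20380 (tt N17745 F38129) (tt N18770 F38130) (tt N22139 (iv F42364)) (tt N20250 F38131) (tt N17742 (iv D20416)) (tt N20250 F38132))
theorem Q20382 : ∀ i, i < 20382 → P i := stepQ 20381 Q20381 (allL N20381 (tt N20774 (iv F39071)) (tt N18758 F38133) (tt N22339 D22377) (tt N17743 (iv D20417)) (tt N20643 (iv F38721)) (tt N18755 F38134))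
theorem Q20383 : ∀ i, i < 20383 → P i := stepQ 20382 Q20382 (allL N20382 (tt N19714 F38135) (tt N18759 F38136) (tt N17744 F38137) (tt N19719 (iv F38139)) (tt N17743 (iv D20418)) (tt N19711 F38138))
theorem Q20384 : ∀ i, i < 20384 → P i := stepQ 20383 Q20383 (allL N20383 (tt N22340 D22378) (tt N17746 (iv D20419)) (tt N18738 F38140) (tt N22341 D22379) (tt N21476 (iv F40755)) (tt N22342 D22380))
theorem Q20385 : ∀ i, i < 20385 → P i := stepQ 20384 Q20384 (allL N20384 (tt N18360 F38141) (tt N22341 (iv F42826)) (tt N18355 F38142) (tt N17746 (iv D20420)) (tt N22343 D22381) (tt N18354 F38143))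
theorem Q20386 : ∀ i, i < 20386 → P i := stepQ 20385 Q20385 (allL N20385 (tt N18359 F38144) (tt N22342 (iv F42828)) (tt N17747 F38145) (tt N18354 F38146) (tt N22344 D22382) (tt N17746 (iv D20421)))
theorem Q20387 : ∀ i, i < 20387 → P i := stepQ 20386 Q20386 (allL N20386 (tt N21547 (iv F40949)) (tt N18741 F38147) (tt N22344 (iv F42834)) (tt N21459 (iv F40706)) (tt N17747 (iv D20422)) (tt N21458 F40702))
theorem Q20388 : ∀ i, i < 20388 → P i := stepQ 20387 Q20387 (allL N20387 (tt N22222 (iv F42520)) (tt N17748 (iv D20423)) (tt N18733 F38148) (tt N21870 (iv F41732)) (tt N18729 F38149) (tt N21869 F41728))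
theorem Q20389 : ∀ i, i < 20389 → P i := stepQ 20388 Q20388 (allL N20388 (tt N17753 F38150) (tt N18736 F38151) (tt N21871 (iv F41735)) (tt N21534 (iv F40897)) (tt N17749 (iv D20424)) (tt N18732 F38152))
theorem Q20390 : ∀ i, i < 20390 → P i := stepQ 20389 Q20389 (allL N20389 (tt N17750 (iv D20425)) (tt N22222 (iv F42521)) (tt N17754 F38153) (tt N22049 (iv F42149)) (tt N22311 (iv F42765)) (tt N21926 (iv F41871)))
theorem Q20391 : ∀ i, i < 20391 → P i := stepQ 20390 Q20390 (allL N20390 (tt N21871 (iv F41734)) (tt N21886 (iv F41770)) (tt N17753 F38154) (tt N22345 D22383) (tt N17752 (iv D20426)) (tt N22310 (iv F42762)))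
theorem Q20392 : ∀ i, i < 20392 → P i := stepQ 20391 Q20391 (allL N20391 (tt N17763 F38155) (tt N18178 F38156) (tt N21421 (iv F40595)) (tt N17765 F38157) (tt N17760 (iv D20427)) (tt N20957 (iv F39492)))
theorem Q20393 : ∀ i, i < 20393 → P i := stepQ 20392 Q20392 (allL N20392 (tt N21421 (iv F40593)) (tt N19926 F38158) (tt N17763 F38159) (tt N21179 (iv F40034)) (tt N17762 (iv D20428)) (tt N20958 (iv F39495)))
theorem Q20394 : ∀ i, i < 20394 → P i := stepQ 20393 Q20393 (allL N20393 (tt N17767 F38160) (tt N18162 F38161) (tt N17765 F38162) (tt N20312 F38163) (tt N17764 (iv D20429)) (tt N20313 F38164))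
theorem Q20395 : ∀ i, i < 20395 → P i := stepQ 20394 Q20394 (allL N20394 (tt N17769 F38165) (tt N21791 (iv F41532)) (tt N18002 F38166) (tt N17768 (iv D20430)) (tt N20822 (iv F39185)) (tt N22054 (iv F42161)))
theorem Q20396 : ∀ i, i < 20396 → P i := stepQ 20395 Q20395 (allL N20395 (tt N17770 F38167) (tt N21792 (iv F41534)) (tt N17774 F38168) (tt N22054 (iv F42160)) (tt N20803 (iv F39146)) (tt N17768 (iv D20431)))
theorem Q20397 : ∀ i, i < 20397 → P i := stepQ 20396 Q20396 (allL N20396 (tt N18002 F38169) (tt N19911 F38170) (tt N17769 (iv D20432)) (tt N17999 F38171) (tt N21114 (iv F39858)) (tt N22051 (iv F42154)))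
theorem Q20398 : ∀ i, i < 20398 → P i := stepQ 20397 Q20397 (allL N20397 (tt N20822 (iv F39184)) (tt N17771 F38172) (tt N21114 (iv F39859)) (tt N20806 (iv F39151)) (tt N17769 (iv D20433)) (tt N22346 D22384))
theorem Q20399 : ∀ i, i < 20399 → P i := stepQ 20398 Q20398 (allL N20398 (tt N21795 (iv F41538)) (tt N22346 (iv F42835)) (tt N21873 (iv F41740)) (tt N20827 (iv F39199)) (tt N22057 (iv F42165)) (tt N17771 (iv D20434)))
theorem Q20400 : ∀ i, i < 20400 → P i := stepQ 20399 Q20399 (allL N20399 (tt N21796 (iv F41540)) (tt N20808 (iv F39152)) (tt N22347 D22385) (tt N17772 (iv D20435)) (tt N22056 (iv F42163)) (tt N19900 F38173))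
theorem Q20401 : ∀ i, i < 20401 → P i := stepQ 20400 Q20400 (allL N20400 (tt N17818 F38174) (tt N17899 (iv F38178)) (tt N17775 (iv D20436)) (tt N17855 F38177) (tt N18364 F38175) (tt N17776 F38176))
theorem Q20402 : ∀ i, i < 20402 → P i := stepQ 20401 Q20401 (allL N20401 (tt N17817 F38179) (tt N17898 F38180) (tt N20019 F38181) (tt N17776 (iv D20437)) (tt N18365 F38182) (tt N17855 F38183))
theorem Q20403 : ∀ i, i < 20403 → P i := stepQ 20402 Q20402 (allL N20402 (tt N17900 F38184) (tt N17777 (iv D20438)) (tt N17899 F38185) (tt N17798 F38186) (tt N19073 F38187) (tt N17778 F38188))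
theorem Q20404 : ∀ i, i < 20404 → P i := stepQ 20403 Q20403 (allL N20403 (tt N18375 F38189) (tt N17779 (iv D20439)) (tt N18386 F38190) (tt N17795 F38191) (tt N19054 F38192) (tt N17796 F38193))
theorem Q20405 : ∀ i, i < 20405 → P i := stepQ 20404 Q20404 (allL N20404 (tt N19696 F38194) (tt N17781 F38195) (tt N19692 F38196) (tt N17803 F38197) (tt N22160 (iv F42410)) (tt N17780 (iv D20440)))
theorem Q20406 : ∀ i, i < 20406 → P i := stepQ 20405 Q20405 (allL N20405 (tt N17790 F38198) (tt N22160 (iv F42408)) (tt N17782 F38199) (tt N22348 D22386) (tt N17781 (iv D20441)) (tt N22157 (iv F42403)))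
theorem Q20407 : ∀ i, i < 20407 → P i := stepQ 20406 Q20406 (allL N20406 (tt N22157 (iv F42400)) (tt N19677 F38200) (tt N17785 F38201) (tt N21636 (iv F41138)) (tt N17784 (iv D20442)) (tt N17790 F38202))
theorem Q20408 : ∀ i, i < 20408 → P i := stepQ 20407 Q20407 (allL N20407 (tt N17787 F38203) (tt N19695 F38204) (tt N20655 (iv F38752)) (tt N17786 (iv D20443)) (tt N22349 D22387) (tt N21017 (iv F39660)))
theorem Q20409 : ∀ i, i < 20409 → P i := stepQ 20408 Q20408 (allL N20408 (tt N20655 (iv F38751)) (tt N21188 (iv F40060)) (tt N17787 (iv D20444)) (tt N20652 (iv F38743)) (tt N22350 D22388) (tt N21018 (iv F39662)))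
theorem Q20410 : ∀ i, i < 20410 → P i := stepQ 20409 Q20409 (allL N20409 (tt N22349 (iv F42841)) (tt N17788 F38205) (tt N22350 (iv F42844)) (tt N19689 F38206) (tt N17787 (iv D20445)) (tt N22351 D22389))
theorem Q20411 : ∀ i, i < 20411 → P i := stepQ 20410 Q20410 (allL N20410 (tt N21194 (iv F40081)) (tt N22351 (iv F42845)) (tt N21172 (iv F40013)) (tt N22161 (iv F42413)) (tt N22352 D22390) (tt N17788 (iv D20446)))
theorem Q20412 : ∀ i, i < 20412 → P i := stepQ 20411 Q20411 (allL N20411 (tt N17804 F38207) (tt N21019 (iv F39663)) (tt N17802 F38208) (tt N22353 D22391) (tt N17789 (iv D20447)) (tt N22352 (iv F42849)))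
theorem Q20413 : ∀ i, i < 20413 → P i := stepQ 20412 Q20412 (allL N20412 (tt N22348 (iv F42839)) (tt N21020 (iv F39664)) (tt N21637 (iv F41140)) (tt N17790 (iv D20448)) (tt N22353 (iv F42851)) (tt N21636 F41139))
theorem Q20414 : ∀ i, i < 20414 → P i := stepQ 20413 Q20413 (allL N20413 (tt N21021 (iv F39665)) (tt N18367 F38209) (tt N17792 (iv D20449)) (tt N20886 (iv F39304)) (tt N17793 F38210) (tt N17794 F38211))
theorem Q20415 : ∀ i, i < 20415 → P i := stepQ 20414 Q20414 (allL N20414 (tt N18376 (iv F38215)) (tt N17794 (iv D20450)) (tt N17826 F38212) (tt N22354 D22392) (tt N17795 F38213) (tt N18367 F38214))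
theorem Q20416 : ∀ i, i < 20416 → P i := stepQ 20415 Q20415 (allL N20415 (tt N19072 F38216) (tt N22354 (iv F42853)) (tt N20885 (iv F39303)) (tt N17794 (iv D20451)) (tt N19071 F38217) (tt N20886 (iv F39306)))
theorem Q20417 : ∀ i, i < 20417 → P i := stepQ 20416 Q20416 (allL N20416 (tt N21426 (iv F40602)) (tt N21018 (iv F39661)) (tt N17801 (iv D20452)) (tt N22355 D22393) (tt N22356 D22394) (tt N21188 (iv F40061)))
theorem Q20418 : ∀ i, i < 20418 → P i := stepQ 20417 Q20417 (allL N20417 (tt N21427 (iv F40605)) (tt N17802 F38218) (tt N22356 (iv F42858)) (tt N17823 F38219) (tt N17801 (iv D20453)) (tt N22357 D22395))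
theorem Q20419 : ∀ i, i < 20419 → P i := stepQ 20418 Q20418 (allL N20418 (tt N17805 F38220) (tt N22357 (iv F42859)) (tt N22352 (iv F42848)) (tt N17824 F38221) (tt N21172 (iv F40015)) (tt N17802 (iv D20454)))
theorem Q20420 : ∀ i, i < 20420 → P i := stepQ 20419 Q20419 (allL N20419 (tt N17803 (iv D20455)) (tt N21017 (iv F39659)) (tt N21442 (iv F40655)) (tt N19696 F38222) (tt N22358 D22396) (tt N19695 F38223))
theorem Q20421 : ∀ i, i < 20421 → P i := stepQ 20420 Q20420 (allL N20420 (tt N22358 (iv F42861)) (tt N17804 F38224) (tt N21444 (iv F40660)) (tt N22359 D22397) (tt N17803 (iv D20456)) (tt N22360 D22398))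
theorem Q20422 : ∀ i, i < 20422 → P i := stepQ 20421 Q20421 (allL N20421 (tt N22353 (iv F42850)) (tt N22359 (iv F42862)) (tt N22361 D22399) (tt N17804 (iv D20457)) (tt N22348 (iv F42840)) (tt N22362 D22400))
theorem Q20423 : ∀ i, i < 20423 → P i := stepQ 20422 Q20422 (allL N20422 (tt N22352 (iv F42847)) (tt N22360 (iv F42863)) (tt N17805 F38225) (tt N22362 (iv F42864)) (tt N21194 (iv F40082)) (tt N17804 (iv D20458)))
theorem Q20424 : ∀ i, i < 20424 → P i := stepQ 20423 Q20423 (allL N20423 (tt N17814 F38226) (tt N21187 (iv F40057)) (tt N17813 (iv D20459)) (tt N17814 F38227) (tt N20939 (iv F39440)) (tt N21199 (iv F40101)))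
theorem Q20425 : ∀ i, i < 20425 → P i := stepQ 20424 Q20424 (allL N20424 (tt N20939 (iv F39439)) (tt N21185 (iv F40051)) (tt N17815 F38228) (tt N22363 D22401) (tt N17814 (iv D20460)) (tt N22364 D22402))
theorem Q20426 : ∀ i, i < 20426 → P i := stepQ 20425 Q20425 (allL N20425 (tt N20940 (iv F39441)) (tt N17816 F38229) (tt N22364 (iv F42865)) (tt N18719 F38230) (tt N21201 (iv F40106)) (tt N17815 (iv D20461)))
theorem Q20427 : ∀ i, i < 20427 → P i := stepQ 20426 Q20426 (allL N20426 (tt N20019 F38231) (tt N17852 F38232) (tt N17817 (iv D20462)) (tt N17852 F38233) (tt N18366 F38234) (tt N17853 F38235))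
theorem Q20428 : ∀ i, i < 20428 → P i := stepQ 20427 Q20427 (allL N20427 (tt N17822 F38236) (tt N21312 (iv F40366)) (tt N17821 (iv D20463)) (tt N21312 (iv F40367)) (tt N22365 D22403) (tt N21184 (iv F40049)))
theorem Q20429 : ∀ i, i < 20429 → P i := stepQ 20428 Q20428 (allL N20428 (tt N17823 F38237) (tt N17828 F38238) (tt N22365 (iv F42867)) (tt N21427 (iv F40607)) (tt N17821 (iv D20464)) (tt N21466 (iv F40720)))
theorem Q20430 : ∀ i, i < 20430 → P i := stepQ 20429 Q20429 (allL N20429 (tt N21312 (iv F40365)) (tt N21199 F40102) (tt N21309 (iv F40360)) (tt N17822 (iv D20465)) (tt N22366 D22404) (tt N21187 (iv F40058)))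
theorem Q20431 : ∀ i, i < 20431 → P i := stepQ 20430 Q20430 (allL N20430 (tt N22365 (iv F42866)) (tt N21200 (iv F40103)) (tt N17823 F38239) (tt N22367 D22405) (tt N17822 (iv D20466)) (tt N22368 D22406))
theorem Q20432 : ∀ i, i < 20432 → P i := stepQ 20431 Q20431 (allL N20431 (tt N21466 (iv F40718)) (tt N17824 F38240) (tt N22368 (iv F42868)) (tt N22357 (iv F42860)) (tt N21186 (iv F40056)) (tt N17823 (iv D20467)))
theorem Q20433 : ∀ i, i < 20433 → P i := stepQ 20432 Q20432 (allL N20432 (tt N17831 F38241) (tt N21313 (iv F40368)) (tt N17828 F38242) (tt N21536 (iv F40903)) (tt N17827 (iv D20468)) (tt N21469 (iv F40728)))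
theorem Q20434 : ∀ i, i < 20434 → P i := stepQ 20433 Q20433 (allL N20433 (tt N17829 (iv D20469)) (tt N21309 (iv F40359)) (tt N17833 F38243) (tt N21308 F40357) (tt N22369 D22407) (tt N20985 (iv F39577)))
theorem Q20435 : ∀ i, i < 20435 → P i := stepQ 20434 Q20434 (allL N20434 (tt N21308 (iv F40355)) (tt N17830 F38244) (tt N21334 (iv F40408)) (tt N17829 (iv D20470)) (tt N21504 (iv F40839)) (tt N21192 (iv F40076)))
theorem Q20436 : ∀ i, i < 20436 → P i := stepQ 20435 Q20435 (allL N20435 (tt N22369 (iv F42869)) (tt N17831 F38245) (tt N17834 F38246) (tt N17936 (iv F38247)) (tt N17829 (iv D20471)) (tt N18318 (iv F38248)))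
theorem Q20437 : ∀ i, i < 20437 → P i := stepQ 20436 Q20436 (allL N20436 (tt N17834 F38249) (tt N20950 (iv F39467)) (tt N22369 (iv F42870)) (tt N18331 F38253) (tt N17833 (iv D20472)) (tt N20989 (iv F39588)))
theorem Q20438 : ∀ i, i < 20438 → P i := stepQ 20437 Q20437 (allL N20437 (tt N18331 (iv F38252)) (tt N17835 F38250) (tt N18327 F38251) (tt N17834 (iv D20473)) (tt N20949 (iv F39465)) (tt N22370 D22408))
theorem Q20439 : ∀ i, i < 20439 → P i := stepQ 20438 Q20438 (allL N20438 (tt N20989 (iv F39585)) (tt N17836 F38254) (tt N18318 F38255) (tt N22370 (iv F42876)) (tt N20984 (iv F39574)) (tt N17834 (iv D20474)))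
theorem Q20440 : ∀ i, i < 20440 → P i := stepQ 20439 Q20439 (allL N20439 (tt N21081 (iv F39807)) (tt N22371 D22409) (tt N17835 (iv D20475)) (tt N22372 D22410) (tt N21055 F39759) (tt N22373 D22411))
theorem Q20441 : ∀ i, i < 20441 → P i := stepQ 20440 Q20440 (allL N20440 (tt N21082 (iv F39809)) (tt N22370 (iv F42874)) (tt N22373 (iv F42879)) (tt N17836 F38256) (tt N22374 D22412) (tt N17835 (iv D20476)))
theorem Q20442 : ∀ i, i < 20442 → P i := stepQ 20441 Q20441 (allL N20441 (tt N22375 D22413) (tt N17837 (iv D20477)) (tt N17856 F38257) (tt N22376 D22414) (tt N17839 F38258) (tt N22377 D22415))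
theorem Q20443 : ∀ i, i < 20443 → P i := stepQ 20442 Q20442 (allL N20442 (tt N17844 F38259) (tt N22376 (iv F42889)) (tt N18728 F38261) (tt N17837 (iv D20478)) (tt N20206 F38260) (tt N18726 (iv F38262)))
theorem Q20444 : ∀ i, i < 20444 → P i := stepQ 20443 Q20443 (allL N20443 (tt N17845 F38263) (tt N22377 (iv F42892)) (tt N17838 F38264) (tt N18726 F38265) (tt N20201 F38266) (tt N17837 (iv D20479)))
theorem Q20445 : ∀ i, i < 20445 → P i := stepQ 20444 Q20444 (allL N20444 (tt N17846 F38267) (tt N17859 F38268) (tt N20201 F38269) (tt N17993 F38270) (tt N17838 (iv D20480)) (tt N17842 F38271))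
theorem Q20446 : ∀ i, i < 20446 → P i := stepQ 20445 Q20445 (allL N20445 (tt N17839 (iv D20481)) (tt N17847 F38272) (tt N17860 F38273) (tt N20974 (iv F39535)) (tt N22375 (iv F42888)) (tt N17930 (iv F38274)))
theorem Q20447 : ∀ i, i < 20447 → P i := stepQ 20446 Q20446 (allL N20446 (tt N20974 (iv F39533)) (tt N17840 F38275) (tt N19431 F38276) (tt N17839 (iv D20482)) (tt N19788 (iv F38277)) (tt N19429 (iv F38278)))
theorem Q20448 : ∀ i, i < 20448 → P i := stepQ 20447 Q20447 (allL N20447 (tt N17930 F38279) (tt N17841 F38280) (tt N17862 F38281) (tt N19429 F38282) (tt N20199 (iv F38283)) (tt N17839 (iv D20483)))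
theorem Q20449 : ∀ i, i < 20449 → P i := stepQ 20448 Q20448 (allL N20448 (tt N17843 (iv D20484)) (tt N22375 (iv F42886)) (tt N17854 F38284) (tt N22378 D22416) (tt N17847 F38285) (tt N20864 (iv F39259)))
theorem Q20450 : ∀ i, i < 20450 → P i := stepQ 20449 Q20449 (allL N20449 (tt N22378 (iv F42896)) (tt N17844 F38286) (tt N22379 D22417) (tt N17843 (iv D20485)) (tt N22380 D22418) (tt N22321 (iv F42785)))
theorem Q20451 : ∀ i, i < 20451 → P i := stepQ 20450 Q20450 (allL N20450 (tt N18728 F38287) (tt N22224 (iv F42530)) (tt N17844 (iv D20486)) (tt N18008 F38288) (tt N22223 (iv F42527)) (tt N18007 (iv F38289)))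
theorem Q20452 : ∀ i, i < 20452 → P i := stepQ 20451 Q20451 (allL N20451 (tt N20206 F38290) (tt N22380 (iv F42897)) (tt N22223 (iv F42526)) (tt N17850 F38291) (tt N17844 (iv D20487)) (tt N20187 (iv F38292)))
theorem Q20453 : ∀ i, i < 20453 → P i := stepQ 20452 Q20452 (allL N20452 (tt N18726 F38293) (tt N22321 (iv F42783)) (tt N18007 F38294) (tt N17845 F38295) (tt N20189 F38296) (tt N17844 (iv D20488)))
theorem Q20454 : ∀ i, i < 20454 → P i := stepQ 20453 Q20453 (allL N20453 (tt N17848 F38297) (tt N20974 (iv F39534)) (tt N17925 F38298) (tt N17847 (iv D20489)) (tt N22381 D22419) (tt N17931 F38299))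
theorem Q20455 : ∀ i, i < 20455 → P i := stepQ 20454 Q20454 (allL N20454 (tt N17925 F38300) (tt N20976 (iv F39540)) (tt N17848 (iv D20490)) (tt N17922 F38301) (tt N22382 D22420) (tt N17934 F38302))
theorem Q20456 : ∀ i, i < 20456 → P i := stepQ 20455 Q20455 (allL N20455 (tt N22381 (iv F42900)) (tt N17850 F38303) (tt N22382 (iv F42906)) (tt N22380 (iv F42898)) (tt N17848 (iv D20491)) (tt N19600 F38304))
theorem Q20457 : ∀ i, i < 20457 → P i := stepQ 20456 Q20456 (allL N20456 (tt N19427 F38305) (tt N17849 (iv D20492)) (tt N20976 (iv F39541)) (tt N19692 F38306) (tt N20205 F38307) (tt N19424 F38308))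
theorem Q20458 : ∀ i, i < 20458 → P i := stepQ 20457 Q20457 (allL N20457 (tt N17856 (iv D20493)) (tt N17871 F38309) (tt N22375 (iv F42887)) (tt N22383 D22421) (tt N17860 F38310) (tt N22384 D22422))
theorem Q20459 : ∀ i, i < 20459 → P i := stepQ 20458 Q20458 (allL N20458 (tt N22383 (iv F42908)) (tt N17857 F38311) (tt N22385 D22423) (tt N17856 (iv D20494)) (tt N22386 D22424) (tt N22387 D22425))
theorem Q20460 : ∀ i, i < 20460 → P i := stepQ 20459 Q20459 (allL N20459 (tt N22384 (iv F42910)) (tt N17858 F38312) (tt N22377 (iv F42893)) (tt N22387 (iv F42915)) (tt N22388 D22426) (tt N17856 (iv D20495)))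
theorem Q20461 : ∀ i, i < 20461 → P i := stepQ 20460 Q20460 (allL N20460 (tt N17874 F38313) (tt N22389 D22427) (tt N17857 (iv D20496)) (tt N17869 F38314) (tt N22390 D22428) (tt N17868 (iv F38315)))
theorem Q20462 : ∀ i, i < 20462 → P i := stepQ 20461 Q20461 (allL N20461 (tt N17875 F38316) (tt N22386 (iv F42912)) (tt N22390 (iv F42922)) (tt N17863 F38317) (tt N17857 (iv D20497)) (tt N22391 D22429))
theorem Q20463 : ∀ i, i < 20463 → P i := stepQ 20462 Q20462 (allL N20462 (tt N17876 F38318) (tt N22387 (iv F42914)) (tt N17868 F38319) (tt N17858 F38320) (tt N21278 (iv F40281)) (tt N17857 (iv D20498)))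
theorem Q20464 : ∀ i, i < 20464 → P i := stepQ 20463 Q20463 (allL N20463 (tt N17877 F38321) (tt N22388 (iv F42916)) (tt N17859 F38322) (tt N22392 D22430) (tt N17858 (iv D20499)) (tt N17864 F38323))
theorem Q20465 : ∀ i, i < 20465 → P i := stepQ 20464 Q20464 (allL N20464 (tt N17861 F38324) (tt N17878 F38325) (tt N18090 F38326) (tt N17860 (iv D20500)) (tt N22393 D22431) (tt N17906 (iv F38327)))
theorem Q20466 : ∀ i, i < 20466 → P i := stepQ 20465 Q20465 (allL N20465 (tt N17862 F38328) (tt N17879 F38329) (tt N17930 F38330) (tt N17906 F38331) (tt N20862 (iv F39254)) (tt N17860 (iv D20501)))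
theorem Q20467 : ∀ i, i < 20467 → P i := stepQ 20466 Q20466 (allL N20466 (tt N22393 (iv F42928)) (tt N17863 F38332) (tt N18091 F38333) (tt N22386 (iv F42913)) (tt N17861 (iv D20502)) (tt N22394 D22432))
theorem Q20468 : ∀ i, i < 20468 → P i := stepQ 20467 Q20467 (allL N20467 (tt N20862 (iv F39252)) (tt N17864 F38334) (tt N20199 F38335) (tt N21135 (iv F39900)) (tt N17862 (iv D20503)) (tt N22388 (iv F42918)))
theorem Q20469 : ∀ i, i < 20469 → P i := stepQ 20468 Q20468 (allL N20468 (tt N17886 F38336) (tt N22394 (iv F42931)) (tt N17910 F38337) (tt N22391 (iv F42924)) (tt N17909 F38338) (tt N17863 (iv D20504)))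
theorem Q20470 : ∀ i, i < 20470 → P i := stepQ 20469 Q20469 (allL N20469 (tt N17888 F38339) (tt N21135 F39901) (tt N21137 (iv F39907)) (tt N17864 (iv D20505)) (tt N17908 F38340) (tt N22392 (iv F42927)))
theorem Q20471 : ∀ i, i < 20471 → P i := stepQ 20470 Q20470 (allL N20470 (tt N22395 D22433) (tt N17865 (iv D20506)) (tt N17867 F38341) (tt N22396 D22434) (tt N21256 (iv F40228)) (tt N22397 D22435))
theorem Q20472 : ∀ i, i < 20472 → P i := stepQ 20471 Q20471 (allL N20471 (tt N18018 F38342) (tt N22396 (iv F42936)) (tt N17974 F38343) (tt N17865 (iv D20507)) (tt N22398 D22436) (tt N17973 F38344))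
theorem Q20473 : ∀ i, i < 20473 → P i := stepQ 20472 Q20472 (allL N20472 (tt N18019 F38345) (tt N22397 (iv F42939)) (tt N17866 F38346) (tt N17973 F38347) (tt N22399 D22437) (tt N17865 (iv D20508)))
theorem Q20474 : ∀ i, i < 20474 → P i := stepQ 20473 Q20473 (allL N20473 (tt N18020 F38348) (tt N17870 F38349) (tt N22399 (iv F42945)) (tt N17987 F38350) (tt N17866 (iv D20509)) (tt N21259 (iv F40237)))
theorem Q20475 : ∀ i, i < 20475 → P i := stepQ 20474 Q20474 (allL N20474 (tt N17867 (iv D20510)) (tt N21155 F39955) (tt N22395 (iv F42935)) (tt N22400 D22438) (tt N21157 (iv F39961)) (tt N22401 D22439))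
theorem Q20476 : ∀ i, i < 20476 → P i := stepQ 20475 Q20475 (allL N20475 (tt N22400 (iv F42946)) (tt N17868 F38351) (tt N22402 D22440) (tt N17867 (iv D20511)) (tt N21277 (iv F40279)) (tt N22389 (iv F42920)))
theorem Q20477 : ∀ i, i < 20477 → P i := stepQ 20476 Q20476 (allL N20476 (tt N22401 (iv F42947)) (tt N17869 F38352) (tt N22397 (iv F42940)) (tt N22389 (iv F42919)) (tt N21276 (iv F40277)) (tt N17867 (iv D20512)))
theorem Q20478 : ∀ i, i < 20478 → P i := stepQ 20477 Q20477 (allL N20477 (tt N17872 F38353) (tt N22383 (iv F42909)) (tt N22403 D22441) (tt N17871 (iv D20513)) (tt N22403 F42950) (tt N22404 D22442))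
theorem Q20479 : ∀ i, i < 20479 → P i := stepQ 20478 Q20478 (allL N20478 (tt N17873 F38354) (tt N22384 (iv F42911)) (tt N17890 F38355) (tt N22404 (iv F42952)) (tt N22333 (iv F42811)) (tt N17871 (iv D20514)))
theorem Q20480 : ∀ i, i < 20480 → P i := stepQ 20479 Q20479 (allL N20479 (tt N22403 (iv F42948)) (tt N17875 F40244) (tt N17872 (iv D20515)) (tt N17881 F40245) (tt N17872 F40246) (tt N22405 D22443))
theorem Q20481 : ∀ i, i < 20481 → P i := stepQ 20480 Q20480 (allL N20480 (tt N22404 (iv F42951)) (tt N17876 F38358) (tt N22405 (iv F42954)) (tt N17873 F38359) (tt N22406 D22444) (tt N17872 (iv D20517)))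
theorem Q20482 : ∀ i, i < 20482 → P i := stepQ 20481 Q20481 (allL N20481 (tt N22390 (iv F42921)) (tt N17874 (iv D20518)) (tt N17875 F40241) (tt N21261 (iv F40249)) (tt N17874 F40242) (tt N21260 F40243))
theorem Q20483 : ∀ i, i < 20483 → P i := stepQ 20482 Q20482 (allL N20482 (tt N22391 (iv F42923)) (tt N22405 (iv F42953)) (tt N21260 (iv F40239)) (tt N17886 F38361) (tt N22407 D22445) (tt N17875 (iv D20520)))
theorem Q20484 : ∀ i, i < 20484 → P i := stepQ 20483 Q20483 (allL N20483 (tt N21278 (iv F40280)) (tt N22406 (iv F42956)) (tt N21262 (iv F40251)) (tt N22408 D22446) (tt N17876 (iv D20521)) (tt N22407 (iv F42957)))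
theorem Q20485 : ∀ i, i < 20485 → P i := stepQ 20484 Q20484 (allL N20484 (tt N22392 (iv F42925)) (tt N22337 (iv F42815)) (tt N21325 (iv F40385)) (tt N17877 (iv D20522)) (tt N22408 (iv F42958)) (tt N17888 F38362))
theorem Q20486 : ∀ i, i < 20486 → P i := stepQ 20485 Q20485 (allL N20485 (tt N17881 F38363) (tt N22393 (iv F42929)) (tt N21905 (iv F41826)) (tt N22403 (iv F42949)) (tt N17878 (iv D20523)) (tt N22409 D22447))
theorem Q20487 : ∀ i, i < 20487 → P i := stepQ 20486 Q20486 (allL N20486 (tt N17882 F38364) (tt N17906 F38365) (tt N20672 (iv F38818)) (tt N17879 F38366) (tt N22410 D22448) (tt N17878 (iv D20524)))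
theorem Q20488 : ∀ i, i < 20488 → P i := stepQ 20487 Q20487 (allL N20487 (tt N17883 F38367) (tt N20862 (iv F39253)) (tt N17896 F38368) (tt N22411 D22449) (tt N17879 (iv D20525)) (tt N22333 (iv F42812)))
theorem Q20489 : ∀ i, i < 20489 → P i := stepQ 20488 Q20488 (allL N20488 (tt N18087 (iv F38370)) (tt N17880 (iv D20526)) (tt N17884 F38369) (tt N21902 (iv F41814)) (tt N22412 D22450) (tt N17902 (iv F38371)))
theorem Q20490 : ∀ i, i < 20490 → P i := stepQ 20489 Q20489 (allL N20489 (tt N21905 (iv F41824)) (tt N22412 (iv F42965)) (tt N17881 F38372) (tt N22306 (iv F42748)) (tt N17880 (iv D20527)) (tt N22413 D22451))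
theorem Q20491 : ∀ i, i < 20491 → P i := stepQ 20490 Q20490 (allL N20490 (tt N20672 (iv F38816)) (tt N17902 F38373) (tt N17882 F38374) (tt N20671 F38815) (tt N22414 D22452) (tt N17880 (iv D20528)))
theorem Q20492 : ∀ i, i < 20492 → P i := stepQ 20491 Q20491 (allL N20491 (tt N22409 (iv F42959)) (tt N17886 F38375) (tt N22413 (iv F42968)) (tt N22405 (iv F42955)) (tt N22415 D22453) (tt N17881 (iv D20529)))
theorem Q20493 : ∀ i, i < 20493 → P i := stepQ 20492 Q20492 (allL N20492 (tt N22410 (iv F42961)) (tt N17887 F38376) (tt N22414 (iv F42971)) (tt N22416 D22454) (tt N17882 (iv D20530)) (tt N22415 (iv F42973)))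
theorem Q20494 : ∀ i, i < 20494 → P i := stepQ 20493 Q20493 (allL N20493 (tt N22411 (iv F42963)) (tt N17888 F38377) (tt N22417 D22455) (tt N17883 (iv D20531)) (tt N22416 (iv F42975)) (tt N22337 (iv F42816)))
theorem Q20495 : ∀ i, i < 20495 → P i := stepQ 20494 Q20494 (allL N20494 (tt N18088 F38378) (tt N17885 F38379) (tt N22412 (iv F42966)) (tt N21153 (iv F39948)) (tt N17884 (iv D20532)) (tt N22418 D22456))
theorem Q20496 : ∀ i, i < 20496 → P i := stepQ 20495 Q20495 (allL N20495 (tt N17910 F38380) (tt N22418 (iv F42977)) (tt N17886 F38381) (tt N21154 (iv F39951)) (tt N17904 F38382) (tt N17885 (iv D20533)))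
theorem Q20497 : ∀ i, i < 20497 → P i := stepQ 20496 Q20496 (allL N20496 (tt N17909 F38383) (tt N22415 (iv F42972)) (tt N17904 F38384) (tt N22419 D22457) (tt N17886 (iv D20534)) (tt N17887 F38385))
theorem Q20498 : ∀ i, i < 20498 → P i := stepQ 20497 Q20497 (allL N20497 (tt N17908 F38386) (tt N22416 (iv F42974)) (tt N22420 D22458) (tt N17887 (iv D20535)) (tt N17888 F38387) (tt N22419 (iv F42980)))
theorem Q20499 : ∀ i, i < 20499 → P i := stepQ 20498 Q20498 (allL N20498 (tt N21137 F39908) (tt N22421 D22459) (tt N17888 (iv D20536)) (tt N21326 (iv F40388)) (tt N22420 (iv F42982)) (tt N21325 (iv F40386)))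
theorem Q20500 : ∀ i, i < 20500 → P i := stepQ 20499 Q20499 (allL N20499 (tt N17891 F38388) (tt N22422 D22460) (tt N17889 (iv D20537)) (tt N22413 (iv F42969)) (tt N22332 (iv F42809)) (tt N22306 (iv F42750)))
theorem Q20501 : ∀ i, i < 20501 → P i := stepQ 20500 Q20500 (allL N20500 (tt N22413 (iv F42967)) (tt N22307 (iv F42752)) (tt N22409 (iv F42960)) (tt N17891 (iv D20538)) (tt N22423 D22461) (tt N21905 F41828))
theorem Q20502 : ∀ i, i < 20502 → P i := stepQ 20501 Q20501 (allL N20501 (tt N17892 (iv D20539)) (tt N17996 F38389) (tt N21296 (iv F40331)) (tt N18005 F38390) (tt N18332 F38391) (tt N17893 F38392))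
theorem Q20503 : ∀ i, i < 20503 → P i := stepQ 20502 Q20502 (allL N20502 (tt N17894 F38393) (tt N17995 F38394) (tt N20564 (iv F38542)) (tt N17893 (iv D20540)) (tt N18334 (iv F38396)) (tt N18005 F38395))
theorem Q20504 : ∀ i, i < 20504 → P i := stepQ 20503 Q20503 (allL N20503 (tt N20564 (iv F38540)) (tt N18003 F38397) (tt N17894 (iv D20541)) (tt N22424 D22462) (tt N18335 F38398) (tt N18001 F38399))
theorem Q20505 : ∀ i, i < 20505 → P i := stepQ 20504 Q20504 (allL N20504 (tt N17897 (iv D20542)) (tt N18365 F38400) (tt N19273 F38401) (tt N18319 F38402) (tt N17898 F38403) (tt N18332 F38404))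
theorem Q20506 : ∀ i, i < 20506 → P i := stepQ 20505 Q20505 (allL N20505 (tt N17901 F38405) (tt N18364 F38406) (tt N19073 F38407) (tt N18334 F38408) (tt N17899 (iv D20543)) (tt N18321 F38409))
theorem Q20507 : ∀ i, i < 20507 → P i := stepQ 20506 Q20506 (allL N20506 (tt N19073 F38410) (tt N18376 F38411) (tt N17901 F38412) (tt N19061 F38413) (tt N17900 (iv D20544)) (tt N18323 F38414))
theorem Q20508 : ∀ i, i < 20508 → P i := stepQ 20507 Q20507 (allL N20507 (tt N20665 F38789) (tt N20671 (iv F38812)) (tt N21425 (iv F40601)) (tt N17902 (iv D20545)) (tt N22425 D22463) (tt N21902 (iv F41815)))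
theorem Q20509 : ∀ i, i < 20509 → P i := stepQ 20508 Q20508 (allL N20508 (tt N21025 (iv F39678)) (tt N22414 (iv F42970)) (tt N17903 F38415) (tt N22426 D22464) (tt N17902 (iv D20546)) (tt N22427 D22465))
theorem Q20510 : ∀ i, i < 20510 → P i := stepQ 20509 Q20509 (allL N20509 (tt N21029 (iv F39686)) (tt N17904 F38416) (tt N22427 (iv F42986)) (tt N21284 (iv F40298)) (tt N22418 (iv F42978)) (tt N17903 (iv D20547)))
theorem Q20511 : ∀ i, i < 20511 → P i := stepQ 20510 Q20510 (allL N20510 (tt N17907 F38417) (tt N22410 (iv F42962)) (tt N21022 (iv F39671)) (tt N22428 D22466) (tt N17906 (iv D20548)) (tt N22429 D22467))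
theorem Q20512 : ∀ i, i < 20512 → P i := stepQ 20511 Q20511 (allL N20511 (tt N22428 (iv F42987)) (tt N17908 F38418) (tt N21136 (iv F39904)) (tt N17907 (iv D20549)) (tt N21135 F39902) (tt N22430 D22468))
theorem Q20513 : ∀ i, i < 20513 → P i := stepQ 20512 Q20512 (allL N20512 (tt N22429 (iv F42988)) (tt N17909 F38419) (tt N21023 (iv F39674)) (tt N22430 (iv F42991)) (tt N22394 (iv F42933)) (tt N17907 (iv D20550)))
theorem Q20514 : ∀ i, i < 20514 → P i := stepQ 20513 Q20513 (allL N20513 (tt N22420 (iv F42981)) (tt N21138 (iv F39910)) (tt N17908 (iv D20551)) (tt N21254 (iv F40223)) (tt N21137 F39909) (tt N21253 F40221))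
theorem Q20515 : ∀ i, i < 20515 → P i := stepQ 20514 Q20514 (allL N20514 (tt N22419 (iv F42979)) (tt N22430 (iv F42989)) (tt N21253 (iv F40220)) (tt N17909 F38420) (tt N22431 D22469) (tt N17908 (iv D20552)))
theorem Q20516 : ∀ i, i < 20516 → P i := stepQ 20515 Q20515 (allL N20515 (tt N18076 F38421) (tt N17941 F38422) (tt N18072 F38424) (tt N17911 (iv D20553)) (tt N22432 D22470) (tt N17915 F38423))
theorem Q20517 : ∀ i, i < 20517 → P i := stepQ 20516 Q20516 (allL N20516 (tt N21632 (iv F41129)) (tt N17942 F38425) (tt N17912 F38426) (tt N22433 D22471) (tt N17911 (iv D20554)) (tt N18378 F38427))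
theorem Q20518 : ∀ i, i < 20518 → P i := stepQ 20517 Q20517 (allL N20517 (tt N17915 F38428) (tt N20227 F38429) (tt N18058 F38430) (tt N17913 (iv D20555)) (tt N22146 (iv F42377)) (tt N18076 F38431))
theorem Q20519 : ∀ i, i < 20519 → P i := stepQ 20518 Q20518 (allL N20518 (tt N17914 (iv D20556)) (tt N20229 F38432) (tt N17916 F38433) (tt N18048 (iv F38436)) (tt N18387 F38434) (tt N17939 F38435))
theorem Q20520 : ∀ i, i < 20520 → P i := stepQ 20519 Q20519 (allL N20519 (tt N18048 F38437) (tt N17915 F38438) (tt N18045 F38439) (tt N17914 (iv D20557)) (tt N22434 D22472) (tt N17941 F38440))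
theorem Q20521 : ∀ i, i < 20521 → P i := stepQ 20520 Q20520 (allL N20520 (tt N18058 F38441) (tt N20246 F38442) (tt N17915 (iv D20558)) (tt N18057 F38443) (tt N22435 D22473) (tt N18072 F38444))
theorem Q20522 : ∀ i, i < 20522 → P i := stepQ 20521 Q20521 (allL N20521 (tt N22146 (iv F42376)) (tt N22434 (iv F42998)) (tt N22435 (iv F43003)) (tt N18389 F38445) (tt N17915 (iv D20559)) (tt N22436 D22474))
theorem Q20523 : ∀ i, i < 20523 → P i := stepQ 20522 Q20522 (allL N20522 (tt N17919 F38446) (tt N21002 (iv F39618)) (tt N18310 F38447) (tt N17923 F38448) (tt N17917 (iv D20560)) (tt N22437 D22475))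
theorem Q20524 : ∀ i, i < 20524 → P i := stepQ 20523 Q20523 (allL N20523 (tt N18310 F38449) (tt N21829 (iv F41640)) (tt N17919 F38450) (tt N22438 D22476) (tt N17918 (iv D20561)) (tt N22439 D22477))
theorem Q20525 : ∀ i, i < 20525 → P i := stepQ 20524 Q20524 (allL N20524 (tt N22437 (iv F43006)) (tt N17920 F38451) (tt N22439 (iv F43013)) (tt N17927 F38452) (tt N18330 F38453) (tt N17919 (iv D20562)))
theorem Q20526 : ∀ i, i < 20526 → P i := stepQ 20525 Q20525 (allL N20525 (tt N20977 (iv F39544)) (tt N17922 (iv D20563)) (tt N21006 (iv F39632)) (tt N20976 F39543) (tt N22440 D22478) (tt N20979 (iv F39555)))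
theorem Q20527 : ∀ i, i < 20527 → P i := stepQ 20526 Q20526 (allL N20526 (tt N17926 F38454) (tt N22440 (iv F43015)) (tt N17923 F38455) (tt N22441 D22479) (tt N17922 (iv D20564)) (tt N22442 D22480))
theorem Q20528 : ∀ i, i < 20528 → P i := stepQ 20527 Q20527 (allL N20527 (tt N17927 F38456) (tt N21009 (iv F39641)) (tt N22442 (iv F43018)) (tt N22437 (iv F43008)) (tt N21016 (iv F39657)) (tt N17923 (iv D20565)))
theorem Q20529 : ∀ i, i < 20529 → P i := stepQ 20528 Q20528 (allL N20528 (tt N17928 F38457) (tt N21010 (iv F39644)) (tt N22370 (iv F42875)) (tt N17924 (iv D20566)) (tt N21015 (iv F39654)) (tt N18327 F38458))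
theorem Q20530 : ∀ i, i < 20530 → P i := stepQ 20529 Q20529 (allL N20529 (tt N22382 (iv F42904)) (tt N19526 F38459) (tt N22381 (iv F42902)) (tt N22443 D22481) (tt N17925 (iv D20567)) (tt N21711 (iv F41333)))
theorem Q20531 : ∀ i, i < 20531 → P i := stepQ 20530 Q20530 (allL N20530 (tt N22441 (iv F43016)) (tt N20982 (iv F39564)) (tt N22444 D22482) (tt N17926 (iv D20568)) (tt N22443 (iv F43020)) (tt N22445 D22483))
theorem Q20532 : ∀ i, i < 20532 → P i := stepQ 20531 Q20531 (allL N20531 (tt N22442 (iv F43017)) (tt N20981 (iv F39561)) (tt N17927 F38460) (tt N22445 (iv F43023)) (tt N20980 (iv F39559)) (tt N17926 (iv D20569)))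
theorem Q20533 : ∀ i, i < 20533 → P i := stepQ 20532 Q20532 (allL N20532 (tt N22370 (iv F42873)) (tt N20951 (iv F39469)) (tt N17928 (iv D20570)) (tt N20989 (iv F39587)) (tt N20971 (iv F39526)) (tt N18331 F38461))
theorem Q20534 : ∀ i, i < 20534 → P i := stepQ 20533 Q20533 (allL N20533 (tt N19429 F38462) (tt N17931 F38463) (tt N19430 F38464) (tt N17930 (iv D20571)) (tt N19428 F38465) (tt N20974 (iv F39536)))
theorem Q20535 : ∀ i, i < 20535 → P i := stepQ 20534 Q20534 (allL N20534 (tt N17936 F38466) (tt N22446 D22484) (tt N17933 (iv D20572)) (tt N22369 F42872) (tt N22316 (iv F42776)) (tt N18316 F38467))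
theorem Q20536 : ∀ i, i < 20536 → P i := stepQ 20535 Q20535 (allL N20535 (tt N19426 F38468) (tt N17934 (iv D20573)) (tt N19424 F38469) (tt N20979 (iv F39553)) (tt N19423 F38470) (tt N20976 (iv F39542)))
theorem Q20537 : ∀ i, i < 20537 → P i := stepQ 20536 Q20536 (allL N20536 (tt N17938 F38471) (tt N21888 (iv F41778)) (tt N22447 D22485) (tt N17937 (iv D20574)) (tt N18390 F38472) (tt N21885 (iv F41769)))
theorem Q20538 : ∀ i, i < 20538 → P i := stepQ 20537 Q20537 (allL N20537 (tt N22447 (iv F43026)) (tt N22310 (iv F42760)) (tt N17938 (iv D20575)) (tt N22448 D22486) (tt N18391 F38473) (tt N21886 (iv F41772)))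
theorem Q20539 : ∀ i, i < 20539 → P i := stepQ 20538 Q20538 (allL N20538 (tt N21610 (iv F41085)) (tt N17939 (iv D20576)) (tt N21607 (iv F41078)) (tt N20231 F38474) (tt N22449 D22487) (tt N20229 F38475))
theorem Q20540 : ∀ i, i < 20540 → P i := stepQ 20539 Q20539 (allL N20539 (tt N17942 F38476) (tt N22449 (iv F43028)) (tt N17940 F38477) (tt N22450 D22488) (tt N17939 (iv D20577)) (tt N22451 D22489))
theorem Q20541 : ∀ i, i < 20541 → P i := stepQ 20540 Q20540 (allL N20540 (tt N17943 F38478) (tt N21887 (iv F41774)) (tt N22451 (iv F43032)) (tt N21783 (iv F41514)) (tt N18381 F38479) (tt N17940 (iv D20578)))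
theorem Q20542 : ∀ i, i < 20542 → P i := stepQ 20541 Q20541 (allL N20541 (tt N18050 F38480) (tt N22432 (iv F42993)) (tt N18047 F38481) (tt N22452 D22490) (tt N17941 (iv D20579)) (tt N21975 (iv F41975)))
theorem Q20543 : ∀ i, i < 20543 → P i := stepQ 20542 Q20542 (allL N20542 (tt N22450 (iv F43029)) (tt N22433 (iv F42995)) (tt N22453 D22491) (tt N17942 (iv D20580)) (tt N22452 (iv F43035)) (tt N22454 D22492))
theorem Q20544 : ∀ i, i < 20544 → P i := stepQ 20543 Q20543 (allL N20543 (tt N22451 (iv F43031)) (tt N18378 F38482) (tt N17943 F38483) (tt N22454 (iv F43037)) (tt N18379 F38484) (tt N17942 (iv D20581)))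
theorem Q20545 : ∀ i, i < 20545 → P i := stepQ 20544 Q20544 (allL N20544 (tt N17946 F38485) (tt N20274 F38486) (tt N17949 F38487) (tt N20273 (iv F38488)) (tt N17945 (iv D20582)) (tt N22322 (iv F42788)))
theorem Q20546 : ∀ i, i < 20546 → P i := stepQ 20545 Q20545 (allL N20545 (tt N20273 F38489) (tt N17947 F38490) (tt N20277 (iv F38491)) (tt N17946 (iv D20583)) (tt N21053 (iv F39753)) (tt N22323 (iv F42793)))
theorem Q20547 : ∀ i, i < 20547 → P i := stepQ 20546 Q20546 (allL N20546 (tt N18720 F38492) (tt N19656 (iv F38495)) (tt N17947 (iv D20584)) (tt N18032 F38494) (tt N18718 F38493) (tt N22374 (iv F42885)))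
theorem Q20548 : ∀ i, i < 20548 → P i := stepQ 20547 Q20547 (allL N20547 (tt N21624 (iv F41113)) (tt N22323 (iv F42791)) (tt N22374 (iv F42883)) (tt N17948 F38496) (tt N22373 (iv F42880)) (tt N17947 (iv D20585)))
theorem Q20549 : ∀ i, i < 20549 → P i := stepQ 20548 Q20548 (allL N20548 (tt N17952 F38497) (tt N19657 F38498) (tt N17950 (iv D20586)) (tt N22374 (iv F42884)) (tt N18640 F38499) (tt N18032 F38500))
theorem Q20550 : ∀ i, i < 20550 → P i := stepQ 20549 Q20549 (allL N20549 (tt N22374 (iv F42881)) (tt N20935 (iv F39426)) (tt N21624 (iv F41114)) (tt N17952 (iv D20587)) (tt N21082 (iv F39811)) (tt N18720 F38501))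
theorem Q20551 : ∀ i, i < 20551 → P i := stepQ 20550 Q20550 (allL N20550 (tt N17955 F38502) (tt N21015 (iv F39653)) (tt N22323 (iv F42792)) (tt N17954 (iv D20588)) (tt N21010 (iv F39645)) (tt N20277 F38503))
theorem Q20552 : ∀ i, i < 20552 → P i := stepQ 20551 Q20551 (allL N20551 (tt N17956 F38504) (tt N21016 (iv F39656)) (tt N18748 F38505) (tt N20277 F38506) (tt N21009 (iv F39642)) (tt N17954 (iv D20589)))
theorem Q20553 : ∀ i, i < 20553 → P i := stepQ 20552 Q20552 (allL N20552 (tt N22323 (iv F42790)) (tt N20275 F38507) (tt N17955 (iv D20590)) (tt N22322 (iv F42787)) (tt N21014 (iv F39651)) (tt N20273 F38508))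
theorem Q20554 : ∀ i, i < 20554 → P i := stepQ 20553 Q20553 (allL N20553 (tt N17959 (iv D20591)) (tt N17983 F38509) (tt N18700 F38510) (tt N18177 F38511) (tt N17960 F38512) (tt N18171 F38513))
theorem Q20555 : ∀ i, i < 20555 → P i := stepQ 20554 Q20554 (allL N20554 (tt N17962 F38514) (tt N22455 D22493) (tt N17961 (iv D20592)) (tt N21072 (iv F39794)) (tt N22456 D22494) (tt N19866 F38515))
theorem Q20556 : ∀ i, i < 20556 → P i := stepQ 20555 Q20555 (allL N20555 (tt N17963 F38516) (tt N18241 F38517) (tt N22456 (iv F43041)) (tt N17965 F38518) (tt N17961 (iv D20593)) (tt N19923 F38519))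
theorem Q20557 : ∀ i, i < 20557 → P i := stepQ 20556 Q20556 (allL N20556 (tt N21072 (iv F39793)) (tt N21873 (iv F41738)) (tt N21071 (iv F39791)) (tt N17962 (iv D20594)) (tt N22053 (iv F42158)) (tt N19873 F38520))
theorem Q20558 : ∀ i, i < 20558 → P i := stepQ 20557 Q20557 (allL N20557 (tt N22456 (iv F43040)) (tt N20958 (iv F39493)) (tt N17963 F38521) (tt N22457 D22495) (tt N17962 (iv D20595)) (tt N19926 F38522))
theorem Q20559 : ∀ i, i < 20559 → P i := stepQ 20558 Q20558 (allL N20558 (tt N17966 F38523) (tt N18201 F38524) (tt N17965 F38525) (tt N22458 D22496) (tt N17964 (iv D20596)) (tt N22459 D22497))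
theorem Q20560 : ∀ i, i < 20560 → P i := stepQ 20559 Q20559 (allL N20559 (tt N17967 F38526) (tt N18242 F38527) (tt N22459 (iv F43049)) (tt N19923 F38528) (tt N18238 F38529) (tt N17965 (iv D20597)))
theorem Q20561 : ∀ i, i < 20561 → P i := stepQ 20560 Q20560 (allL N20560 (tt N22458 (iv F43044)) (tt N18228 F38530) (tt N22460 D22498) (tt N17966 (iv D20598)) (tt N22458 (iv F43046)) (tt N22461 D22499))
theorem Q20562 : ∀ i, i < 20562 → P i := stepQ 20561 Q20561 (allL N20561 (tt N22459 (iv F43047)) (tt N18227 F38531) (tt N17967 F38532) (tt N22461 (iv F43052)) (tt N18240 F38533) (tt N17966 (iv D20599)))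
theorem Q20563 : ∀ i, i < 20563 → P i := stepQ 20562 Q20562 (allL N20562 (tt N17972 F38534) (tt N20585 (iv F38595)) (tt N18674 F38536) (tt N17968 (iv D20600)) (tt N20584 (iv F38594)) (tt N18655 F38535))
theorem Q20564 : ∀ i, i < 20564 → P i := stepQ 20563 Q20563 (allL N20563 (tt N21999 (iv F42035)) (tt N17970 F38537) (tt N21996 (iv F42028)) (tt N18713 F38538) (tt N18724 F38539) (tt N17969 (iv D20601)))
theorem Q20565 : ∀ i, i < 20565 → P i := stepQ 20564 Q20564 (allL N20564 (tt N20503 F38540) (tt N18724 F38541) (tt N20502 F38542) (tt N22462 D22500) (tt N17970 (iv D20602)) (tt N17971 F38543))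
theorem Q20566 : ∀ i, i < 20566 → P i := stepQ 20565 Q20565 (allL N20565 (tt N20584 (iv F38592)) (tt N18723 F38544) (tt N22463 D22501) (tt N17971 (iv D20603)) (tt N17972 F38545) (tt N22462 (iv F43056)))
theorem Q20567 : ∀ i, i < 20567 → P i := stepQ 20566 Q20566 (allL N20566 (tt N18674 F38546) (tt N22464 D22502) (tt N17972 (iv D20604)) (tt N18653 F38548) (tt N22463 (iv F43058)) (tt N18677 F38547))
theorem Q20568 : ∀ i, i < 20568 → P i := stepQ 20567 Q20567 (allL N20567 (tt N21351 (iv F40441)) (tt N17973 (iv D20605)) (tt N18696 F38549) (tt N22397 (iv F42941)) (tt N21484 (iv F40780)) (tt N22396 F42938))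
theorem Q20569 : ∀ i, i < 20569 → P i := stepQ 20568 Q20568 (allL N20568 (tt N21459 (iv F40703)) (tt N18699 F38550) (tt N22398 (iv F42943)) (tt N21547 (iv F40952)) (tt N17974 (iv D20606)) (tt N21457 (iv F40698)))
theorem Q20570 : ∀ i, i < 20570 → P i := stepQ 20569 Q20569 (allL N20569 (tt N18208 F38551) (tt N18237 F38552) (tt N18203 F38553) (tt N22465 D22503) (tt N17975 (iv D20607)) (tt N22466 D22504))
theorem Q20571 : ∀ i, i < 20571 → P i := stepQ 20570 Q20570 (allL N20570 (tt N18229 F38554) (tt N18239 F38555) (tt N22467 D22505) (tt N17976 (iv D20608)) (tt N22465 (iv F43065)) (tt N22468 D22506))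
theorem Q20572 : ∀ i, i < 20572 → P i := stepQ 20571 Q20571 (allL N20571 (tt N18230 F38556) (tt N18240 F38557) (tt N17977 F38558) (tt N22468 (iv F43076)) (tt N18227 F38559) (tt N17976 (iv D20609)))
theorem Q20573 : ∀ i, i < 20573 → P i := stepQ 20572 Q20572 (allL N20572 (tt N22469 D22507) (tt N17978 (iv D20610)) (tt N18688 F38560) (tt N22470 D22508) (tt N18687 F38561) (tt N22471 D22509))
theorem Q20574 : ∀ i, i < 20574 → P i := stepQ 20573 Q20573 (allL N20573 (tt N17981 F38562) (tt N22470 (iv F43083)) (tt N22307 (iv F42753)) (tt N17978 (iv D20611)) (tt N21024 (iv F39677)) (tt N20901 (iv F39335)))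
theorem Q20575 : ∀ i, i < 20575 → P i := stepQ 20574 Q20574 (allL N20574 (tt N17982 F38563) (tt N22471 (iv F43086)) (tt N17979 F38564) (tt N20901 F39334) (tt N20902 (iv F39338)) (tt N17978 (iv D20612)))
theorem Q20576 : ∀ i, i < 20576 → P i := stepQ 20575 Q20575 (allL N20575 (tt N17980 (iv D20613)) (tt N22469 (iv F43077)) (tt N17983 F38565) (tt N18093 F38566) (tt N21863 (iv F41713)) (tt N18092 F38567))
theorem Q20577 : ∀ i, i < 20577 → P i := stepQ 20576 Q20576 (allL N20576 (tt N22307 (iv F42751)) (tt N22472 D22510) (tt N17981 (iv D20614)) (tt N21533 (iv F40894)) (tt N21027 (iv F39682)) (tt N20903 F39344))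
theorem Q20578 : ∀ i, i < 20578 → P i := stepQ 20577 Q20577 (allL N20577 (tt N18777 F38568) (tt N17985 F38569) (tt N18784 (iv F38571)) (tt N17984 (iv D20615)) (tt N17985 F38570) (tt N18781 F38572))
theorem Q20579 : ∀ i, i < 20579 → P i := stepQ 20578 Q20578 (allL N20578 (tt N21565 (iv F40994)) (tt N17986 F38573) (tt N21292 (iv F40322)) (tt N18781 F38574) (tt N22473 D22511) (tt N17984 (iv D20616)))
theorem Q20580 : ∀ i, i < 20580 → P i := stepQ 20579 Q20579 (allL N20579 (tt N18778 F38575) (tt N22473 (iv F43092)) (tt N17987 F38576) (tt N22474 D22512) (tt N17986 (iv D20617)) (tt N21564 (iv F40993)))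
theorem Q20581 : ∀ i, i < 20581 → P i := stepQ 20580 Q20580 (allL N20580 (tt N19771 F38577) (tt N18401 F38578) (tt N22475 D22513) (tt N17991 (iv D20618)) (tt N19855 F38579) (tt N20800 (iv F39139)))
theorem Q20582 : ∀ i, i < 20582 → P i := stepQ 20581 Q20581 (allL N20581 (tt N17992 (iv D20619)) (tt N17994 F38580) (tt N21286 (iv F40306)) (tt N20006 F38581) (tt N21285 (iv F40302)) (tt N20005 F38582))
theorem Q20583 : ∀ i, i < 20583 → P i := stepQ 20582 Q20582 (allL N20582 (tt N17997 F38583) (tt N18334 F38584) (tt N19930 F38585) (tt N18364 F38586) (tt N17995 (iv D20620)) (tt N18299 F38587))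
theorem Q20584 : ∀ i, i < 20584 → P i := stepQ 20583 Q20583 (allL N20583 (tt N18003 F38588) (tt N19912 F38589) (tt N18000 F38590) (tt N22051 (iv F42153)) (tt N19928 F38591) (tt N17999 (iv D20621)))
theorem Q20585 : ∀ i, i < 20585 → P i := stepQ 20584 Q20584 (allL N20584 (tt N20565 F38592) (tt N18002 F38593) (tt N21070 (iv F39789)) (tt N18001 (iv D20622)) (tt N20562 F38594) (tt N22424 (iv F42985)))
theorem Q20586 : ∀ i, i < 20586 → P i := stepQ 20585 Q20585 (allL N20585 (tt N21114 (iv F39856)) (tt N20562 F38595) (tt N20822 F39186) (tt N18301 F38596) (tt N18002 (iv D20623)) (tt N21050 (iv F39745)))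
theorem Q20587 : ∀ i, i < 20587 → P i := stepQ 20586 Q20586 (allL N20586 (tt N22051 F42155) (tt N22424 (iv F42983)) (tt N22054 (iv F42159)) (tt N18003 F38597) (tt N22476 D22514) (tt N18002 (iv D20624)))
theorem Q20588 : ∀ i, i < 20588 → P i := stepQ 20587 Q20587 (allL N20587 (tt N19928 F38598) (tt N18335 F38599) (tt N18004 F38600) (tt N21091 (iv F39827)) (tt N18003 (iv D20625)) (tt N18300 F38601))
theorem Q20589 : ∀ i, i < 20589 → P i := stepQ 20588 Q20588 (allL N20588 (tt N18006 (iv D20626)) (tt N18176 F38602) (tt N18012 F38603) (tt N21346 (iv F40429)) (tt N18009 F38604) (tt N19907 F38605))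
theorem Q20590 : ∀ i, i < 20590 → P i := stepQ 20589 Q20589 (allL N20589 (tt N21346 (iv F40428)) (tt N18007 F38606) (tt N21336 (iv F40412)) (tt N18006 (iv D20627)) (tt N21033 F39696) (tt N22224 (iv F42532)))
theorem Q20591 : ∀ i, i < 20591 → P i := stepQ 20590 Q20590 (allL N20590 (tt N18727 F38607) (tt N21033 (iv F39694)) (tt N20189 F38608) (tt N18011 F38609) (tt N18007 (iv D20628)) (tt N20188 (iv F38610)))
theorem Q20592 : ∀ i, i < 20592 → P i := stepQ 20591 Q20591 (allL N20591 (tt N18017 (iv D20629)) (tt N22395 (iv F42934)) (tt N18021 F38611) (tt N21353 (iv F40450)) (tt N21151 (iv F39941)) (tt N21352 (iv F40447)))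
theorem Q20593 : ∀ i, i < 20593 → P i := stepQ 20592 Q20592 (allL N20592 (tt N22398 (iv F42942)) (tt N21456 (iv F40692)) (tt N21459 (iv F40705)) (tt N21569 (iv F41002)) (tt N18018 (iv D20630)) (tt N21455 (iv F40690)))
theorem Q20594 : ∀ i, i < 20594 → P i := stepQ 20593 Q20593 (allL N20593 (tt N22399 (iv F42944)) (tt N21571 (iv F41007)) (tt N18020 F38612) (tt N21487 (iv F40792)) (tt N18019 (iv D20631)) (tt N21568 (iv F41001)))
theorem Q20595 : ∀ i, i < 20595 → P i := stepQ 20594 Q20594 (allL N20594 (tt N18022 F38613) (tt N21156 (iv F39957)) (tt N21352 (iv F40445)) (tt N21150 (iv F39938)) (tt N21584 (iv F41028)) (tt N18021 (iv D20632)))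
theorem Q20596 : ∀ i, i < 20596 → P i := stepQ 20595 Q20595 (allL N20595 (tt N21584 (iv F41027)) (tt N18023 F38614) (tt N21571 F41009) (tt N21590 (iv F41045)) (tt N18022 (iv D20633)) (tt N21570 (iv F41005)))
theorem Q20597 : ∀ i, i < 20597 → P i := stepQ 20596 Q20596 (allL N20596 (tt N21708 (iv F41318)) (tt N18035 F38615) (tt N21979 (iv F41985)) (tt N18577 F38616) (tt N21543 (iv F40935)) (tt N18033 (iv D20634)))
theorem Q20598 : ∀ i, i < 20598 → P i := stepQ 20597 Q20597 (allL N20597 (tt N21705 (iv F41309)) (tt N18036 F38617) (tt N22477 D22515) (tt N18034 (iv D20635)) (tt N21545 (iv F40943)) (tt N18578 F38618))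
theorem Q20599 : ∀ i, i < 20599 → P i := stepQ 20598 Q20598 (allL N20598 (tt N21974 (iv F41969)) (tt N18042 F38619) (tt N20033 F38620) (tt N18049 F38621) (tt N18037 (iv D20636)) (tt N18038 F38622))
theorem Q20600 : ∀ i, i < 20600 → P i := stepQ 20599 Q20599 (allL N20599 (tt N21973 (iv F41965)) (tt N18043 F38623) (tt N22478 D22516) (tt N18038 (iv D20637)) (tt N18039 F38624) (tt N18049 F38625))
theorem Q20601 : ∀ i, i < 20601 → P i := stepQ 20600 Q20600 (allL N20600 (tt N21975 (iv F41974)) (tt N22479 D22517) (tt N18039 (iv D20638)) (tt N22480 D22518) (tt N22478 (iv F43102)) (tt N18050 F38626))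
theorem Q20602 : ∀ i, i < 20602 → P i := stepQ 20601 Q20601 (allL N20601 (tt N22481 D22519) (tt N18044 (iv D20639)) (tt N22479 (iv F43104)) (tt N20276 F38627) (tt N20232 F38628) (tt N18051 F38629))
theorem Q20603 : ∀ i, i < 20603 → P i := stepQ 20602 Q20602 (allL N20602 (tt N18049 F38630) (tt N20249 F38631) (tt N22434 (iv F42999)) (tt N21974 (iv F41972)) (tt N18045 (iv D20640)) (tt N21973 F41968))
theorem Q20604 : ∀ i, i < 20604 → P i := stepQ 20603 Q20603 (allL N20603 (tt N22434 (iv F42997)) (tt N20230 F38632) (tt N18049 F38633) (tt N22482 D22520) (tt N18048 (iv D20641)) (tt N22478 (iv F43103)))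
theorem Q20605 : ∀ i, i < 20605 → P i := stepQ 20604 Q20604 (allL N20604 (tt N22483 D22521) (tt N18050 (iv D20642)) (tt N18051 F38634) (tt N22484 D22522) (tt N20231 F38635) (tt N22479 (iv F43106)))
theorem Q20606 : ∀ i, i < 20606 → P i := stepQ 20605 Q20605 (allL N20605 (tt N22452 (iv F43034)) (tt N22484 (iv F43118)) (tt N22485 D22523) (tt N18050 (iv D20643)) (tt N22450 (iv F43030)) (tt N22480 (iv F43107)))
theorem Q20607 : ∀ i, i < 20607 → P i := stepQ 20606 Q20606 (allL N20606 (tt N18051 (iv D20644)) (tt N18068 F38636) (tt N22483 (iv F43116)) (tt N20946 (iv F39459)) (tt N18067 F38637) (tt N22481 (iv F43111)))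
theorem Q20608 : ∀ i, i < 20608 → P i := stepQ 20607 Q20607 (allL N20607 (tt N20946 (iv F39457)) (tt N18052 F38638) (tt N22486 D22524) (tt N18051 (iv D20645)) (tt N20233 F38639) (tt N20276 F38640))
theorem Q20609 : ∀ i, i < 20609 → P i := stepQ 20608 Q20608 (allL N20608 (tt N18054 (iv D20646)) (tt N18057 F38641) (tt N18062 F38642) (tt N20246 F38643) (tt N18057 F38644) (tt N18071 F38645))
theorem Q20610 : ∀ i, i < 20610 → P i := stepQ 20609 Q20609 (allL N20609 (tt N18061 F38646) (tt N18079 F38647) (tt N18056 F38648) (tt N22487 D22525) (tt N18055 (iv D20647)) (tt N18061 F38649))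
theorem Q20611 : ∀ i, i < 20611 → P i := stepQ 20610 Q20610 (allL N20610 (tt N22435 (iv F43001)) (tt N18059 F38650) (tt N22146 (iv F42378)) (tt N20247 F38651) (tt N18058 (iv D20648)) (tt N21981 (iv F41991)))
theorem Q20612 : ∀ i, i < 20612 → P i := stepQ 20611 Q20611 (allL N20611 (tt N20248 F38652) (tt N21981 (iv F41990)) (tt N20245 F38653) (tt N20248 F38654) (tt N21982 (iv F41995)) (tt N18059 (iv D20649)))
theorem Q20613 : ∀ i, i < 20613 → P i := stepQ 20612 Q20612 (allL N20612 (tt N18069 F38655) (tt N18077 F38656) (tt N18068 F38657) (tt N22488 D22526) (tt N18060 (iv D20650)) (tt N21982 (iv F41996)))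
theorem Q20614 : ∀ i, i < 20614 → P i := stepQ 20613 Q20613 (allL N20613 (tt N22487 (iv F43121)) (tt N18078 F38658) (tt N22489 D22527) (tt N18061 (iv D20651)) (tt N22488 (iv F43127)) (tt N22487 (iv F43124)))
theorem Q20615 : ∀ i, i < 20615 → P i := stepQ 20614 Q20614 (allL N20614 (tt N20231 F38659) (tt N18076 F38660) (tt N18067 (iv D20652)) (tt N21610 (iv F41087)) (tt N22483 (iv F43117)) (tt N20227 F38661))
theorem Q20616 : ∀ i, i < 20616 → P i := stepQ 20615 Q20615 (allL N20615 (tt N18070 F38662) (tt N22481 (iv F43108)) (tt N21982 (iv F41994)) (tt N20947 (iv F39461)) (tt N20245 F38663) (tt N18068 (iv D20653)))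
theorem Q20617 : ∀ i, i < 20617 → P i := stepQ 20616 Q20616 (allL N20616 (tt N22488 (iv F43125)) (tt N21541 (iv F40925)) (tt N22490 D22528) (tt N18069 (iv D20654)) (tt N22487 (iv F43123)) (tt N21983 (iv F41998)))
theorem Q20618 : ∀ i, i < 20618 → P i := stepQ 20617 Q20617 (allL N20617 (tt N18079 F38664) (tt N18073 F38665) (tt N18074 F38666) (tt N21962 (iv F41946)) (tt N18071 (iv D20655)) (tt N18073 F38667))
theorem Q20619 : ∀ i, i < 20619 → P i := stepQ 20618 Q20618 (allL N20618 (tt N18077 F38668) (tt N21539 (iv F40915)) (tt N22432 (iv F42994)) (tt N21966 (iv F41956)) (tt N18072 (iv D20656)) (tt N21977 (iv F41978)))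
theorem Q20620 : ∀ i, i < 20620 → P i := stepQ 20619 Q20619 (allL N20619 (tt N18078 F38669) (tt N21962 F41948) (tt N21963 (iv F41951)) (tt N18073 (iv D20657)) (tt N21966 (iv F41957)) (tt N21962 F41949))
theorem Q20621 : ∀ i, i < 20621 → P i := stepQ 20620 Q20620 (allL N20620 (tt N22432 (iv F42992)) (tt N22483 (iv F43115)) (tt N18077 F38670) (tt N22491 D22529) (tt N18076 (iv D20658)) (tt N22492 D22530))
theorem Q20622 : ∀ i, i < 20622 → P i := stepQ 20621 Q20621 (allL N20621 (tt N21966 F41958) (tt N22488 (iv F43126)) (tt N22493 D22531) (tt N18077 (iv D20659)) (tt N18078 F38671) (tt N21984 (iv F42000)))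
theorem Q20623 : ∀ i, i < 20623 → P i := stepQ 20622 Q20622 (allL N20622 (tt N21977 F41979) (tt N21982 (iv F41993)) (tt N22492 (iv F43128)) (tt N21984 (iv F41999)) (tt N21981 F41992) (tt N18077 (iv D20660)))
theorem Q20624 : ∀ i, i < 20624 → P i := stepQ 20623 Q20623 (allL N20623 (tt N21963 (iv F41950)) (tt N22494 D22532) (tt N18078 (iv D20661)) (tt N21952 (iv F41928)) (tt N22493 (iv F43129)) (tt N21951 F41925))
theorem Q20625 : ∀ i, i < 20625 → P i := stepQ 20624 Q20624 (allL N20624 (tt N21962 (iv F41945)) (tt N22487 (iv F43122)) (tt N21951 (iv F41924)) (tt N18079 F38672) (tt N21541 (iv F40926)) (tt N18078 (iv D20662)))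
theorem Q20626 : ∀ i, i < 20626 → P i := stepQ 20625 Q20625 (allL N20625 (tt N21902 (iv F41813)) (tt N20667 (iv F38794)) (tt N22355 (iv F42857)) (tt N18087 (iv D20663)) (tt N22303 (iv F42741)) (tt N20665 F38790))
theorem Q20627 : ∀ i, i < 20627 → P i := stepQ 20626 Q20626 (allL N20626 (tt N22412 (iv F42964)) (tt N20903 (iv F39341)) (tt N18088 F38673) (tt N21532 (iv F40890)) (tt N18087 (iv D20664)) (tt N22472 (iv F43091)))
theorem Q20628 : ∀ i, i < 20628 → P i := stepQ 20627 Q20627 (allL N20627 (tt N22418 (iv F42976)) (tt N18089 F38674) (tt N22472 (iv F43090)) (tt N21180 (iv F40036)) (tt N21029 (iv F39688)) (tt N18088 (iv D20665)))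
theorem Q20629 : ∀ i, i < 20629 → P i := stepQ 20628 Q20628 (allL N20628 (tt N18091 F38675) (tt N20901 (iv F39332)) (tt N22393 (iv F42930)) (tt N22471 (iv F43088)) (tt N18090 (iv D20666)) (tt N22470 F43084))
theorem Q20630 : ∀ i, i < 20630 → P i := stepQ 20629 Q20629 (allL N20629 (tt N22471 (iv F43085)) (tt N18092 F38676) (tt N22495 D22533) (tt N18091 (iv D20667)) (tt N20956 (iv F39488)) (tt N22469 F43080))
theorem Q20631 : ∀ i, i < 20631 → P i := stepQ 20630 Q20630 (allL N20630 (tt N22470 (iv F43082)) (tt N18093 F38677) (tt N22394 (iv F42932)) (tt N22469 (iv F43081)) (tt N21023 (iv F39675)) (tt N18091 (iv D20668)))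
theorem Q20632 : ∀ i, i < 20632 → P i := stepQ 20631 Q20631 (allL N20631 (tt N22496 D22534) (tt N18096 (iv D20669)) (tt N19244 F38678) (tt N19512 F38679) (tt N21690 (iv F41281)) (tt N19405 F38680))
theorem Q20633 : ∀ i, i < 20633 → P i := stepQ 20632 Q20632 (allL N20632 (tt N18099 F38681) (tt N18102 F38682) (tt N20087 F38683) (tt N18439 F38684) (tt N18098 (iv D20670)) (tt N18505 F38685))
theorem Q20634 : ∀ i, i < 20634 → P i := stepQ 20633 Q20633 (allL N20633 (tt N20168 F38686) (tt N18101 (iv D20671)) (tt N20086 F38687) (tt N18270 F38688) (tt N22497 D22535) (tt N20180 (iv F38689)))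
theorem Q20635 : ∀ i, i < 20635 → P i := stepQ 20634 Q20634 (allL N20634 (tt N18106 F38690) (tt N22497 (iv F43138)) (tt N18102 F38691) (tt N22498 D22536) (tt N18101 (iv D20672)) (tt N19704 (iv F38692)))
theorem Q20636 : ∀ i, i < 20636 → P i := stepQ 20635 Q20635 (allL N20635 (tt N18107 F38693) (tt N20180 F38694) (tt N18103 F38695) (tt N18118 F38696) (tt N19707 F38697) (tt N18101 (iv D20673)))
theorem Q20637 : ∀ i, i < 20637 → P i := stepQ 20636 Q20636 (allL N20636 (tt N20169 F38698) (tt N18105 F38699) (tt N20025 F38701) (tt N18104 (iv D20674)) (tt N22499 D22537) (tt N20013 F38700))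
theorem Q20638 : ∀ i, i < 20638 → P i := stepQ 20637 Q20637 (allL N20637 (tt N19606 F38702) (tt N18106 F38703) (tt N18111 F38704) (tt N22500 D22538) (tt N18104 (iv D20675)) (tt N22501 D22539))
theorem Q20639 : ∀ i, i < 20639 → P i := stepQ 20638 Q20638 (allL N20638 (tt N18271 F38705) (tt N22499 (iv F43146)) (tt N18269 F38706) (tt N22199 (iv F42480)) (tt N18105 (iv D20676)) (tt N21144 (iv F39923)))
theorem Q20640 : ∀ i, i < 20640 → P i := stepQ 20639 Q20639 (allL N20639 (tt N18118 F38707) (tt N20013 F38708) (tt N18116 F38709) (tt N18107 F38710) (tt N20332 (iv F38711)) (tt N18105 (iv D20677)))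
theorem Q20641 : ∀ i, i < 20641 → P i := stepQ 20640 Q20640 (allL N20640 (tt N22498 (iv F43141)) (tt N22500 (iv F43149)) (tt N22196 (iv F42472)) (tt N18106 (iv D20678)) (tt N22199 (iv F42479)) (tt N22502 D22540))
theorem Q20642 : ∀ i, i < 20642 → P i := stepQ 20641 Q20641 (allL N20641 (tt N19704 F38712) (tt N22501 (iv F43153)) (tt N18108 F38713) (tt N22502 (iv F43159)) (tt N19701 F38714) (tt N18106 (iv D20679)))
theorem Q20643 : ∀ i, i < 20643 → P i := stepQ 20642 Q20642 (allL N20642 (tt N19607 F38715) (tt N18112 F38716) (tt N22501 (iv F43154)) (tt N19605 F38717) (tt N20012 F38718) (tt N18111 (iv D20680)))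
theorem Q20644 : ∀ i, i < 20644 → P i := stepQ 20643 Q20643 (allL N20643 (tt N18255 F38719) (tt N18116 F38720) (tt N22503 D22541) (tt N18115 (iv D20681)) (tt N20381 F38721) (tt N18253 F38722))
theorem Q20645 : ∀ i, i < 20645 → P i := stepQ 20644 Q20644 (allL N20644 (tt N18248 F38723) (tt N18122 F38724) (tt N19557 F38725) (tt N18121 (iv D20682)) (tt N21884 (iv F41765)) (tt N18288 F38726))
theorem Q20646 : ∀ i, i < 20646 → P i := stepQ 20645 Q20645 (allL N20645 (tt N18290 F38727) (tt N18123 F38728) (tt N18302 F38729) (tt N22504 D22542) (tt N18121 (iv D20683)) (tt N20737 (iv F38994)))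
theorem Q20647 : ∀ i, i < 20647 → P i := stepQ 20646 Q20646 (allL N20646 (tt N18125 F38730) (tt N21884 (iv F41763)) (tt N21883 (iv F41760)) (tt N22505 D22543) (tt N18122 (iv D20684)) (tt N21883 (iv F41761)))
theorem Q20648 : ∀ i, i < 20648 → P i := stepQ 20647 Q20647 (allL N20647 (tt N18126 F38731) (tt N22504 (iv F43167)) (tt N22506 D22544) (tt N18123 (iv D20685)) (tt N22505 (iv F43169)) (tt N22325 (iv F42797)))
theorem Q20649 : ∀ i, i < 20649 → P i := stepQ 20648 Q20648 (allL N20648 (tt N21883 (iv F41758)) (tt N18293 F38732) (tt N18125 F38733) (tt N22507 D22545) (tt N18124 (iv D20686)) (tt N18125 F38734))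
theorem Q20650 : ∀ i, i < 20650 → P i := stepQ 20649 Q20649 (allL N20649 (tt N22505 (iv F43168)) (tt N18294 F38735) (tt N22508 D22546) (tt N18125 (iv D20687)) (tt N18126 F38736) (tt N22507 (iv F43172)))
theorem Q20651 : ∀ i, i < 20651 → P i := stepQ 20650 Q20650 (allL N20650 (tt N22506 (iv F43170)) (tt N22509 D22547) (tt N18126 (iv D20688)) (tt N22510 D22548) (tt N22508 (iv F43174)) (tt N22326 (iv F42798)))
theorem Q20652 : ∀ i, i < 20652 → P i := stepQ 20651 Q20651 (allL N20651 (tt N18418 F38737) (tt N20305 F38738) (tt N21381 (iv F40524)) (tt N18129 (iv D20689)) (tt N18169 F38739) (tt N20304 F38740))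
theorem Q20653 : ∀ i, i < 20653 → P i := stepQ 20652 Q20652 (allL N20652 (tt N18133 F38741) (tt N22511 D22549) (tt N18131 (iv D20690)) (tt N20408 F38743) (tt N18434 F38742) (tt N22512 D22550))
theorem Q20654 : ∀ i, i < 20654 → P i := stepQ 20653 Q20653 (allL N20653 (tt N18134 F38744) (tt N18146 F38745) (tt N22512 (iv F43185)) (tt N18132 F38746) (tt N19798 (iv F38747)) (tt N18131 (iv D20691)))
theorem Q20655 : ∀ i, i < 20655 → P i := stepQ 20654 Q20654 (allL N20654 (tt N22513 D22551) (tt N18133 (iv D20692)) (tt N18135 F38748) (tt N22514 D22552) (tt N18435 F38749) (tt N18139 (iv F38750)))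
theorem Q20656 : ∀ i, i < 20656 → P i := stepQ 20655 Q20655 (allL N20655 (tt N20408 F38751) (tt N22514 (iv F43194)) (tt N20407 F38752) (tt N18133 (iv D20693)) (tt N22515 D22553) (tt N22516 D22554))
theorem Q20657 : ∀ i, i < 20657 → P i := stepQ 20656 Q20656 (allL N20656 (tt N22512 (iv F43183)) (tt N18139 F38753) (tt N18134 F38754) (tt N22516 (iv F43203)) (tt N19794 F38755) (tt N18133 (iv D20694)))
theorem Q20658 : ∀ i, i < 20658 → P i := stepQ 20657 Q20657 (allL N20657 (tt N19798 F38756) (tt N18136 F38757) (tt N19794 F38758) (tt N18430 F38759) (tt N18134 (iv D20695)) (tt N18431 F38760))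
theorem Q20659 : ∀ i, i < 20659 → P i := stepQ 20658 Q20658 (allL N20658 (tt N18135 (iv D20696)) (tt N18155 F38761) (tt N22513 (iv F43189)) (tt N18138 F38762) (tt N18437 F38763) (tt N18137 F38764))
theorem Q20660 : ∀ i, i < 20660 → P i := stepQ 20659 Q20659 (allL N20659 (tt N18139 F38765) (tt N22517 D22555) (tt N18137 (iv D20697)) (tt N19151 F38766) (tt N19790 (iv F38767)) (tt N22513 (iv F43191)))
theorem Q20661 : ∀ i, i < 20661 → P i := stepQ 20660 Q20660 (allL N20660 (tt N18140 F38768) (tt N19753 F38769) (tt N19790 F38770) (tt N19413 F38771) (tt N18137 (iv D20698)) (tt N19783 (iv F38772)))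
theorem Q20662 : ∀ i, i < 20662 → P i := stepQ 20661 Q20661 (allL N20661 (tt N18141 F38773) (tt N19750 F38774) (tt N18601 F38775) (tt N22518 D22556) (tt N18138 (iv D20699)) (tt N19725 F38776))
theorem Q20663 : ∀ i, i < 20663 → P i := stepQ 20662 Q20662 (allL N20662 (tt N19151 F38777) (tt N22516 (iv F43201)) (tt N19150 F38779) (tt N18139 (iv D20700)) (tt N19760 F38778) (tt N22514 (iv F43196)))
theorem Q20664 : ∀ i, i < 20664 → P i := stepQ 20663 Q20663 (allL N20663 (tt N19783 F38780) (tt N18142 F38781) (tt N19795 F38782) (tt N19412 F38783) (tt N18433 F38784) (tt N18140 (iv D20701)))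
theorem Q20665 : ∀ i, i < 20665 → P i := stepQ 20664 Q20664 (allL N20664 (tt N22518 (iv F43210)) (tt N18143 F38785) (tt N22519 D22557) (tt N18141 (iv D20702)) (tt N18438 F38786) (tt N19726 F38787))
theorem Q20666 : ∀ i, i < 20666 → P i := stepQ 20665 Q20665 (allL N20665 (tt N20507 (iv F38789)) (tt N18144 (iv D20703)) (tt N22511 (iv F43178)) (tt N18621 F38788) (tt N22520 D22558) (tt N20625 (iv F38790)))
theorem Q20667 : ∀ i, i < 20667 → P i := stepQ 20666 Q20666 (allL N20666 (tt N18150 F38791) (tt N22520 (iv F43218)) (tt N18145 F38792) (tt N22521 D22559) (tt N18144 (iv D20704)) (tt N22522 D22560))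
theorem Q20668 : ∀ i, i < 20668 → P i := stepQ 20667 Q20667 (allL N20667 (tt N18151 F38793) (tt N20625 F38794) (tt N18146 F38795) (tt N18443 F38796) (tt N20319 (iv F38797)) (tt N18144 (iv D20705)))
theorem Q20669 : ∀ i, i < 20669 → P i := stepQ 20668 Q20668 (allL N20668 (tt N18152 F38798) (tt N18426 F38799) (tt N22522 (iv F43223)) (tt N18163 F38800) (tt N20314 (iv F38801)) (tt N18145 (iv D20706)))
theorem Q20670 : ∀ i, i < 20670 → P i := stepQ 20669 Q20669 (allL N20669 (tt N18153 F38802) (tt N19798 F38803) (tt N20319 F38804) (tt N19797 (iv F38806)) (tt N18146 (iv D20707)) (tt N20314 F38805))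
theorem Q20671 : ∀ i, i < 20671 → P i := stepQ 20670 Q20670 (allL N20670 (tt N18154 F38807) (tt N18424 F38808) (tt N19799 F38809) (tt N18147 (iv D20708)) (tt N19797 F38810) (tt N18164 F38811))
theorem Q20672 : ∀ i, i < 20672 → P i := stepQ 20671 Q20671 (allL N20671 (tt N18148 (iv D20709)) (tt N20507 F38812) (tt N18155 F38813) (tt N20490 (iv F38815)) (tt N22523 D22561) (tt N19752 F38814))
theorem Q20673 : ∀ i, i < 20673 → P i := stepQ 20672 Q20672 (allL N20672 (tt N20490 F38816) (tt N18149 F38817) (tt N20486 F38818) (tt N18148 (iv D20710)) (tt N22524 D22562) (tt N19754 F38819))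
theorem Q20674 : ∀ i, i < 20674 → P i := stepQ 20673 Q20673 (allL N20673 (tt N22523 (iv F43225)) (tt N18150 F38820) (tt N18156 F38821) (tt N22525 D22563) (tt N18148 (iv D20711)) (tt N20369 F38822))
theorem Q20675 : ∀ i, i < 20675 → P i := stepQ 20674 Q20674 (allL N20674 (tt N18622 F38823) (tt N22524 (iv F43230)) (tt N18620 F38824) (tt N22526 D22564) (tt N18149 (iv D20712)) (tt N22527 D22565))
theorem Q20676 : ∀ i, i < 20676 → P i := stepQ 20675 Q20675 (allL N20675 (tt N18443 F38825) (tt N19754 F38826) (tt N18441 F38827) (tt N18151 F38828) (tt N20323 (iv F38829)) (tt N18149 (iv D20713)))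
theorem Q20677 : ∀ i, i < 20677 → P i := stepQ 20676 Q20676 (allL N20676 (tt N22521 (iv F43220)) (tt N22525 (iv F43233)) (tt N22528 D22566) (tt N18150 (iv D20714)) (tt N22526 (iv F43236)) (tt N22529 D22567))
theorem Q20678 : ∀ i, i < 20678 → P i := stepQ 20677 Q20677 (allL N20677 (tt N22522 (iv F43222)) (tt N20369 F38830) (tt N18152 F38831) (tt N22529 (iv F43243)) (tt N20327 F38832) (tt N18150 (iv D20715)))
theorem Q20679 : ∀ i, i < 20679 → P i := stepQ 20678 Q20678 (allL N20678 (tt N18156 F38833) (tt N18437 F38834) (tt N22523 (iv F43227)) (tt N22530 D22568) (tt N18155 (iv D20716)) (tt N22531 D22569))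
theorem Q20680 : ∀ i, i < 20680 → P i := stepQ 20679 Q20679 (allL N20679 (tt N22530 (iv F43245)) (tt N18157 F38835) (tt N22532 D22570) (tt N18156 (iv D20717)) (tt N19751 F38836) (tt N18215 (iv F38837)))
theorem Q20681 : ∀ i, i < 20681 → P i := stepQ 20680 Q20680 (allL N20680 (tt N22531 (iv F43249)) (tt N18158 F38838) (tt N20369 F38839) (tt N18215 F38840) (tt N19756 F38841) (tt N18156 (iv D20718)))
theorem Q20682 : ∀ i, i < 20682 → P i := stepQ 20681 Q20681 (allL N20681 (tt N18166 F38842) (tt N20312 F38843) (tt N22533 D22571) (tt N18162 (iv D20719)) (tt N20308 F38844) (tt N20106 F38845))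
theorem Q20683 : ∀ i, i < 20683 → P i := stepQ 20682 Q20682 (allL N20682 (tt N20308 F38846) (tt N18418 F38847) (tt N22197 (iv F42473)) (tt N18165 (iv D20720)) (tt N18166 F38848) (tt N19703 F38849))
theorem Q20684 : ∀ i, i < 20684 → P i := stepQ 20683 Q20683 (allL N20683 (tt N22533 (iv F43257)) (tt N22534 D22572) (tt N18166 (iv D20721)) (tt N22535 D22573) (tt N22197 F42474) (tt N22198 (iv F42477)))
theorem Q20685 : ∀ i, i < 20685 → P i := stepQ 20684 Q20684 (allL N20684 (tt N20106 F38850) (tt N18416 F38851) (tt N22198 (iv F42476)) (tt N18167 F38852) (tt N20104 F38853) (tt N18166 (iv D20722)))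
theorem Q20686 : ∀ i, i < 20686 → P i := stepQ 20685 Q20685 (allL N20685 (tt N18419 F38854) (tt N21363 (iv F40470)) (tt N18169 (iv D20723)) (tt N19802 F38855) (tt N21381 (iv F40526)) (tt N20829 (iv F39207)))
theorem Q20687 : ∀ i, i < 20687 → P i := stepQ 20686 Q20686 (allL N20686 (tt N20959 (iv F39496)) (tt N18170 (iv D20724)) (tt N20956 (iv F39486)) (tt N19747 (iv F38857)) (tt N22495 (iv F43132)) (tt N19746 F38856))
theorem Q20688 : ∀ i, i < 20688 → P i := stepQ 20687 Q20687 (allL N20687 (tt N18173 F38858) (tt N19747 F38859) (tt N18428 F38860) (tt N18170 (iv D20725)) (tt N18466 (iv F38862)) (tt N18427 F38861))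
theorem Q20689 : ∀ i, i < 20689 → P i := stepQ 20688 Q20688 (allL N20688 (tt N18174 F38863) (tt N22495 (iv F43131)) (tt N18171 F38864) (tt N22536 D22574) (tt N18170 (iv D20726)) (tt N18700 F38865))
theorem Q20690 : ∀ i, i < 20690 → P i := stepQ 20689 Q20689 (allL N20689 (tt N18175 F38866) (tt N20957 (iv F39490)) (tt N22537 D22575) (tt N18172 (iv D20727)) (tt N18482 F38867) (tt N18178 F38868))
theorem Q20691 : ∀ i, i < 20691 → P i := stepQ 20690 Q20690 (allL N20690 (tt N18428 F38869) (tt N19801 (iv F38872)) (tt N18173 (iv D20728)) (tt N18423 F38870) (tt N18459 (iv F38873)) (tt N18421 F38871))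
theorem Q20692 : ∀ i, i < 20692 → P i := stepQ 20691 Q20691 (allL N20691 (tt N18466 F38874) (tt N20960 (iv F39498)) (tt N18459 F38875) (tt N22538 D22576) (tt N18173 (iv D20729)) (tt N18457 F38876))
theorem Q20693 : ∀ i, i < 20693 → P i := stepQ 20692 Q20692 (allL N20692 (tt N22536 (iv F43261)) (tt N18704 F38877) (tt N22539 D22577) (tt N18174 (iv D20730)) (tt N22538 (iv F43271)) (tt N18701 F38878))
theorem Q20694 : ∀ i, i < 20694 → P i := stepQ 20693 Q20693 (allL N20693 (tt N22537 (iv F43264)) (tt N18243 F38879) (tt N18175 (iv D20731)) (tt N22540 D22578) (tt N18480 F38880) (tt N18182 F38881))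
theorem Q20695 : ∀ i, i < 20695 → P i := stepQ 20694 Q20694 (allL N20694 (tt N18180 F38882) (tt N21346 F40430) (tt N22541 D22579) (tt N18176 (iv D20732)) (tt N19890 F38883) (tt N19894 (iv F38884)))
theorem Q20696 : ∀ i, i < 20696 → P i := stepQ 20695 Q20695 (allL N20695 (tt N18181 F38885) (tt N19907 F38886) (tt N18177 F38887) (tt N19894 F38888) (tt N19895 F38889) (tt N18176 (iv D20733)))
theorem Q20697 : ∀ i, i < 20697 → P i := stepQ 20696 Q20696 (allL N20696 (tt N18182 F38890) (tt N22542 D22580) (tt N18178 (iv D20734)) (tt N22543 D22581) (tt N21646 (iv F41171)) (tt N22537 (iv F43266)))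
theorem Q20698 : ∀ i, i < 20698 → P i := stepQ 20697 Q20697 (allL N20697 (tt N19890 F38891) (tt N18727 F38892) (tt N22544 D22582) (tt N18179 (iv D20735)) (tt N18180 F38893) (tt N18521 F38894))
theorem Q20699 : ∀ i, i < 20699 → P i := stepQ 20698 Q20698 (allL N20698 (tt N22541 (iv F43280)) (tt N22545 D22583) (tt N18180 (iv D20736)) (tt N22546 D22584) (tt N22544 (iv F43289)) (tt N22547 D22585))
theorem Q20700 : ∀ i, i < 20700 → P i := stepQ 20699 Q20699 (allL N20699 (tt N19894 F38895) (tt N18728 F38896) (tt N22547 (iv F43295)) (tt N18181 F38897) (tt N19879 F38898) (tt N18180 (iv D20737)))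
theorem Q20701 : ∀ i, i < 20701 → P i := stepQ 20700 Q20700 (allL N20700 (tt N22548 D22586) (tt N18182 (iv D20738)) (tt N18183 F38899) (tt N22549 D22587) (tt N19896 F38900) (tt N18243 F38901))
theorem Q20702 : ∀ i, i < 20702 → P i := stepQ 20701 Q20701 (allL N20701 (tt N22543 (iv F43284)) (tt N22549 (iv F43302)) (tt N22550 D22588) (tt N18182 (iv D20739)) (tt N22549 (iv F43303)) (tt N22540 (iv F43278)))
theorem Q20703 : ∀ i, i < 20703 → P i := stepQ 20702 Q20702 (allL N20702 (tt N18183 (iv D20740)) (tt N19923 F38902) (tt N22548 (iv F43297)) (tt N18242 F38903) (tt N19881 F38904) (tt N18241 F38905))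
theorem Q20704 : ∀ i, i < 20704 → P i := stepQ 20703 Q20703 (allL N20703 (tt N18189 F38906) (tt N21362 (iv F40466)) (tt N18185 (iv D20741)) (tt N20829 (iv F39205)) (tt N18447 F38907) (tt N19802 F38908))
theorem Q20705 : ∀ i, i < 20705 → P i := stepQ 20704 Q20704 (allL N20704 (tt N19802 F38909) (tt N19832 F38910) (tt N18187 (iv D20742)) (tt N18419 F38913) (tt N19833 F38911) (tt N18189 F38912))
theorem Q20706 : ∀ i, i < 20706 → P i := stepQ 20705 Q20705 (allL N20705 (tt N18450 F38914) (tt N18285 F38915) (tt N18188 (iv D20743)) (tt N18284 F38916) (tt N18446 F38917) (tt N18532 F38918))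
theorem Q20707 : ∀ i, i < 20707 → P i := stepQ 20706 Q20706 (allL N20706 (tt N20847 (iv F39230)) (tt N18189 (iv D20744)) (tt N18244 F38919) (tt N21366 (iv F40482)) (tt N18451 F38920) (tt N19832 F38921))
theorem Q20708 : ∀ i, i < 20708 → P i := stepQ 20707 Q20707 (allL N20707 (tt N20829 (iv F39203)) (tt N21366 (iv F40481)) (tt N18416 F38922) (tt N18189 (iv D20745)) (tt N20830 (iv F39210)) (tt N18419 F38923))
theorem Q20709 : ∀ i, i < 20709 → P i := stepQ 20708 Q20708 (allL N20708 (tt N18191 F38924) (tt N18202 F38925) (tt N18242 F38926) (tt N19806 F38927) (tt N18232 F38928) (tt N18190 (iv D20746)))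
theorem Q20710 : ∀ i, i < 20710 → P i := stepQ 20709 Q20709 (allL N20709 (tt N18470 F38929) (tt N22551 D22589) (tt N18192 (iv D20747)) (tt N22552 D22590) (tt N18233 F38930) (tt N19809 F38931))
theorem Q20711 : ∀ i, i < 20711 → P i := stepQ 20710 Q20710 (allL N20710 (tt N22553 D22591) (tt N18193 (iv D20748)) (tt N22551 (iv F43310)) (tt N18433 F38932) (tt N18235 F38933) (tt N18438 F38934))
theorem Q20712 : ∀ i, i < 20712 → P i := stepQ 20711 Q20711 (allL N20711 (tt N19813 F38935) (tt N18194 (iv D20749)) (tt N19803 F38936) (tt N22554 D22592) (tt N22555 D22593) (tt N19810 F38937))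
theorem Q20713 : ∀ i, i < 20713 → P i := stepQ 20712 Q20712 (allL N20712 (tt N18197 F38938) (tt N22554 (iv F43321)) (tt N18225 F38939) (tt N18194 (iv D20750)) (tt N22556 D22594) (tt N18223 F38940))
theorem Q20714 : ∀ i, i < 20714 → P i := stepQ 20713 Q20713 (allL N20713 (tt N18198 F38941) (tt N22555 (iv F43325)) (tt N18195 F38942) (tt N22557 D22595) (tt N18194 (iv D20751)) (tt N22558 D22596))
theorem Q20715 : ∀ i, i < 20715 → P i := stepQ 20714 Q20714 (allL N20714 (tt N18199 F38943) (tt N19806 F38944) (tt N22558 (iv F43331)) (tt N18202 F38945) (tt N19835 F38946) (tt N18195 (iv D20752)))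
theorem Q20716 : ∀ i, i < 20716 → P i := stepQ 20715 Q20715 (allL N20715 (tt N18200 F38947) (tt N18471 F38948) (tt N22559 D22597) (tt N18196 (iv D20753)) (tt N19834 F38949) (tt N18204 F38950))
theorem Q20717 : ∀ i, i < 20717 → P i := stepQ 20716 Q20716 (allL N20716 (tt N22556 (iv F43327)) (tt N19827 F38951) (tt N19853 F38952) (tt N22560 D22598) (tt N18197 (iv D20754)) (tt N22561 D22599))
theorem Q20718 : ∀ i, i < 20718 → P i := stepQ 20717 Q20717 (allL N20717 (tt N22557 (iv F43329)) (tt N19831 F38953) (tt N22562 D22600) (tt N18198 (iv D20755)) (tt N22560 (iv F43338)) (tt N22563 D22601))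
theorem Q20719 : ∀ i, i < 20719 → P i := stepQ 20718 Q20718 (allL N20718 (tt N22558 (iv F43330)) (tt N19830 F38954) (tt N18199 F38955) (tt N22563 (iv F43343)) (tt N19823 F38956) (tt N18198 (iv D20756)))
theorem Q20720 : ∀ i, i < 20720 → P i := stepQ 20719 Q20719 (allL N20719 (tt N22559 (iv F43333)) (tt N22532 (iv F43254)) (tt N18200 (iv D20757)) (tt N22564 D22602) (tt N19836 F38957) (tt N18211 F38958))
theorem Q20721 : ∀ i, i < 20721 → P i := stepQ 20720 Q20720 (allL N20720 (tt N18206 F38959) (tt N22458 (iv F43045)) (tt N22565 D22603) (tt N18201 (iv D20758)) (tt N18228 F38960) (tt N22566 D22604))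
theorem Q20722 : ∀ i, i < 20722 → P i := stepQ 20721 Q20721 (allL N20721 (tt N18207 F38961) (tt N22459 (iv F43048)) (tt N18202 F38962) (tt N22566 (iv F43351)) (tt N22466 (iv F43069)) (tt N18201 (iv D20759)))
theorem Q20723 : ∀ i, i < 20723 → P i := stepQ 20722 Q20722 (allL N20722 (tt N18209 F38963) (tt N18232 F38964) (tt N22466 (iv F43068)) (tt N22567 D22605) (tt N18202 (iv D20760)) (tt N18203 F38965))
theorem Q20724 : ∀ i, i < 20724 → P i := stepQ 20723 Q20723 (allL N20723 (tt N18210 F38966) (tt N18231 F38967) (tt N22568 D22606) (tt N18203 (iv D20761)) (tt N18204 F38968) (tt N22567 (iv F43355)))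
theorem Q20725 : ∀ i, i < 20725 → P i := stepQ 20724 Q20724 (allL N20724 (tt N18211 F38969) (tt N22569 D22607) (tt N18204 (iv D20762)) (tt N22570 D22608) (tt N22568 (iv F43357)) (tt N22559 (iv F43335)))
theorem Q20726 : ∀ i, i < 20726 → P i := stepQ 20725 Q20725 (allL N20725 (tt N18228 F38970) (tt N18206 F38971) (tt N22564 (iv F43346)) (tt N18205 (iv D20763)) (tt N18206 F38972) (tt N22571 D22609))
theorem Q20727 : ∀ i, i < 20727 → P i := stepQ 20726 Q20726 (allL N20726 (tt N18227 F38973) (tt N18207 F38974) (tt N18212 F38975) (tt N22571 (iv F43365)) (tt N18230 F38976) (tt N18205 (iv D20764)))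
theorem Q20728 : ∀ i, i < 20728 → P i := stepQ 20727 Q20727 (allL N20727 (tt N22565 (iv F43348)) (tt N22572 D22610) (tt N18206 (iv D20765)) (tt N22573 D22611) (tt N22564 F43347) (tt N22574 D22612))
theorem Q20729 : ∀ i, i < 20729 → P i := stepQ 20728 Q20728 (allL N20728 (tt N22566 (iv F43350)) (tt N22571 (iv F43363)) (tt N22574 (iv F43367)) (tt N18207 F38977) (tt N22575 D22613) (tt N18206 (iv D20766)))
theorem Q20730 : ∀ i, i < 20730 → P i := stepQ 20729 Q20729 (allL N20729 (tt N22466 (iv F43066)) (tt N18230 F38978) (tt N18209 F38979) (tt N22576 D22614) (tt N18207 (iv D20767)) (tt N18208 F38980))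
theorem Q20731 : ∀ i, i < 20731 → P i := stepQ 20730 Q20730 (allL N20730 (tt N22465 (iv F43063)) (tt N18229 F38981) (tt N22577 D22615) (tt N18208 (iv D20768)) (tt N18229 F38982) (tt N22576 (iv F43369)))
theorem Q20732 : ∀ i, i < 20732 → P i := stepQ 20731 Q20731 (allL N20731 (tt N22567 (iv F43352)) (tt N18213 F38983) (tt N22578 D22616) (tt N18209 (iv D20769)) (tt N19765 F38984) (tt N18210 F38985))
theorem Q20733 : ∀ i, i < 20733 → P i := stepQ 20732 Q20732 (allL N20732 (tt N22568 (iv F43356)) (tt N22579 D22617) (tt N18210 (iv D20770)) (tt N22580 D22618) (tt N18211 F38986) (tt N22578 (iv F43373)))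
theorem Q20734 : ∀ i, i < 20734 → P i := stepQ 20733 Q20733 (allL N20733 (tt N22581 D22619) (tt N18211 (iv D20771)) (tt N18215 F38987) (tt N22582 D22620) (tt N22579 (iv F43375)) (tt N22532 (iv F43256)))
theorem Q20735 : ∀ i, i < 20735 → P i := stepQ 20734 Q20734 (allL N20734 (tt N22570 (iv F43359)) (tt N22582 (iv F43378)) (tt N22571 (iv F43364)) (tt N18211 (iv D20772)) (tt N22583 D22621) (tt N22564 (iv F43345)))
theorem Q20736 : ∀ i, i < 20736 → P i := stepQ 20735 Q20735 (allL N20735 (tt N22584 D22622) (tt N18214 (iv D20773)) (tt N22579 (iv F43374)) (tt N18415 F38988) (tt N18215 F38989) (tt N18414 F38990))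
theorem Q20737 : ∀ i, i < 20737 → P i := stepQ 20736 Q20736 (allL N20736 (tt N18215 (iv D20774)) (tt N22553 (iv F43316)) (tt N22581 (iv F43377)) (tt N22531 (iv F43252)) (tt N22584 (iv F43381)) (tt N22530 F43248))
theorem Q20738 : ∀ i, i < 20738 → P i := stepQ 20737 Q20737 (allL N20737 (tt N18218 F38991) (tt N20361 F38992) (tt N18221 F38993) (tt N22585 D22623) (tt N18217 (iv D20775)) (tt N20645 F38994))
theorem Q20739 : ∀ i, i < 20739 → P i := stepQ 20738 Q20738 (allL N20738 (tt N22585 (iv F43383)) (tt N18219 F38995) (tt N21819 (iv F41608)) (tt N18218 (iv D20776)) (tt N20373 F38996) (tt N20792 (iv F39111)))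
theorem Q20740 : ∀ i, i < 20740 → P i := stepQ 20739 Q20739 (allL N20739 (tt N20363 F38997) (tt N21746 (iv F41425)) (tt N18219 (iv D20777)) (tt N20798 (iv F39134)) (tt N20374 F38998) (tt N20793 (iv F39115)))
theorem Q20741 : ∀ i, i < 20741 → P i := stepQ 20740 Q20740 (allL N20740 (tt N18260 F38999) (tt N18224 F39000) (tt N20810 (iv F39156)) (tt N18258 F39001) (tt N18222 (iv D20778)) (tt N22586 D22624))
theorem Q20742 : ∀ i, i < 20742 → P i := stepQ 20741 Q20741 (allL N20741 (tt N19811 F39002) (tt N18223 (iv D20779)) (tt N20358 F39003) (tt N19810 F39004) (tt N22587 D22625) (tt N22554 (iv F43322)))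
theorem Q20743 : ∀ i, i < 20743 → P i := stepQ 20742 Q20742 (allL N20742 (tt N19821 F39005) (tt N22587 (iv F43392)) (tt N18224 F39006) (tt N22588 D22626) (tt N18223 (iv D20780)) (tt N22589 D22627))
theorem Q20744 : ∀ i, i < 20744 → P i := stepQ 20743 Q20743 (allL N20743 (tt N19852 F39007) (tt N22586 (iv F43388)) (tt N22589 (iv F43397)) (tt N19851 F39008) (tt N22590 D22628) (tt N18224 (iv D20781)))
theorem Q20745 : ∀ i, i < 20745 → P i := stepQ 20744 Q20744 (allL N20744 (tt N19853 F39009) (tt N20799 (iv F39137)) (tt N22556 (iv F43328)) (tt N22591 D22629) (tt N18225 (iv D20782)) (tt N22590 (iv F43399)))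
theorem Q20746 : ∀ i, i < 20746 → P i := stepQ 20745 Q20745 (allL N20745 (tt N18406 F39010) (tt N20800 (iv F39138)) (tt N22592 D22630) (tt N18226 (iv D20783)) (tt N22591 (iv F43401)) (tt N18401 F39011))
theorem Q20747 : ∀ i, i < 20747 → P i := stepQ 20746 Q20746 (allL N20746 (tt N22571 (iv F43362)) (tt N22461 (iv F43051)) (tt N22570 (iv F43360)) (tt N18227 (iv D20784)) (tt N22593 D22631) (tt N18228 F39012))
theorem Q20748 : ∀ i, i < 20748 → P i := stepQ 20747 Q20747 (allL N20747 (tt N22564 (iv F43344)) (tt N22594 D22632) (tt N18228 (iv D20785)) (tt N22559 (iv F43336)) (tt N22565 (iv F43349)) (tt N22570 (iv F43361)))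
theorem Q20749 : ∀ i, i < 20749 → P i := stepQ 20748 Q20748 (allL N20748 (tt N22467 (iv F43070)) (tt N22595 D22633) (tt N18229 (iv D20786)) (tt N22592 (iv F43403)) (tt N22577 (iv F43370)) (tt N22596 D22634))
theorem Q20750 : ∀ i, i < 20750 → P i := stepQ 20749 Q20749 (allL N20749 (tt N22468 (iv F43073)) (tt N22576 (iv F43368)) (tt N22596 (iv F43406)) (tt N18230 F39013) (tt N22597 D22635) (tt N18229 (iv D20787)))
theorem Q20751 : ∀ i, i < 20751 → P i := stepQ 20750 Q20750 (allL N20750 (tt N18233 F39014) (tt N22598 D22636) (tt N18231 (iv D20788)) (tt N19893 F39016) (tt N18470 F39015) (tt N19892 (iv F39017)))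
theorem Q20752 : ∀ i, i < 20752 → P i := stepQ 20751 Q20751 (allL N20751 (tt N18234 F39018) (tt N22567 (iv F43353)) (tt N19892 F39019) (tt N18232 F39020) (tt N22599 D22637) (tt N18231 (iv D20789)))
theorem Q20753 : ∀ i, i < 20753 → P i := stepQ 20752 Q20752 (allL N20752 (tt N22600 D22638) (tt N18233 (iv D20790)) (tt N18235 F39021) (tt N22601 D22639) (tt N22551 (iv F43311)) (tt N19770 (iv F39022)))
theorem Q20754 : ∀ i, i < 20754 → P i := stepQ 20753 Q20753 (allL N20753 (tt N19893 F39023) (tt N22601 (iv F43418)) (tt N19879 F39024) (tt N18233 (iv D20791)) (tt N22547 (iv F43296)) (tt N19878 F39025))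
theorem Q20755 : ∀ i, i < 20755 → P i := stepQ 20754 Q20754 (allL N20754 (tt N19892 F39026) (tt N19770 F39027) (tt N18234 F39028) (tt N19878 F39029) (tt N22602 D22640) (tt N18233 (iv D20792)))
theorem Q20756 : ∀ i, i < 20756 → P i := stepQ 20755 Q20755 (allL N20755 (tt N22599 (iv F43411)) (tt N18236 F39030) (tt N22602 (iv F43423)) (tt N19749 F39031) (tt N18234 (iv D20793)) (tt N19762 F39032))
theorem Q20757 : ∀ i, i < 20757 → P i := stepQ 20756 Q20756 (allL N20756 (tt N18235 (iv D20794)) (tt N22584 (iv F43379)) (tt N22600 (iv F43416)) (tt N19769 F39033) (tt N22553 (iv F43318)) (tt N19768 F39034))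
theorem Q20758 : ∀ i, i < 20758 → P i := stepQ 20757 Q20757 (allL N20757 (tt N18239 F39035) (tt N22465 (iv F43064)) (tt N22603 D22641) (tt N18237 (iv D20795)) (tt N18239 F39036) (tt N22604 D22642))
theorem Q20759 : ∀ i, i < 20759 → P i := stepQ 20758 Q20758 (allL N20758 (tt N18240 F39037) (tt N22466 (iv F43067)) (tt N18238 F39038) (tt N22604 (iv F43431)) (tt N22459 (iv F43050)) (tt N18237 (iv D20796)))
theorem Q20760 : ∀ i, i < 20760 → P i := stepQ 20759 Q20759 (allL N20759 (tt N22603 (iv F43425)) (tt N22605 D22643) (tt N18239 (iv D20797)) (tt N22048 F42146) (tt N22603 (iv F43426)) (tt N22606 D22644))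
theorem Q20761 : ∀ i, i < 20761 → P i := stepQ 20760 Q20760 (allL N20760 (tt N22604 (iv F43429)) (tt N22468 (iv F43074)) (tt N22606 (iv F43434)) (tt N18240 F39039) (tt N22607 D22645) (tt N18239 (iv D20798)))
theorem Q20762 : ∀ i, i < 20762 → P i := stepQ 20761 Q20761 (allL N20761 (tt N18243 F39040) (tt N22608 D22646) (tt N18241 (iv D20799)) (tt N22609 D22647) (tt N18479 F39041) (tt N22548 (iv F43299)))
theorem Q20763 : ∀ i, i < 20763 → P i := stepQ 20762 Q20762 (allL N20762 (tt N22609 (iv F43437)) (tt N22540 (iv F43277)) (tt N22610 D22648) (tt N18243 (iv D20800)) (tt N22611 D22649) (tt N22549 (iv F43304)))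
theorem Q20764 : ∀ i, i < 20764 → P i := stepQ 20763 Q20763 (allL N20763 (tt N18244 (iv D20801)) (tt N18467 F39042) (tt N20847 (iv F39232)) (tt N19818 F39043) (tt N18454 F39044) (tt N19819 F39045))
theorem Q20765 : ∀ i, i < 20765 → P i := stepQ 20764 Q20764 (allL N20764 (tt N18247 F39046) (tt N18250 F39047) (tt N21720 (iv F41360)) (tt N18581 F39048) (tt N18245 (iv D20802)) (tt N18247 F39049))
theorem Q20766 : ∀ i, i < 20766 → P i := stepQ 20765 Q20765 (allL N20765 (tt N19557 F39050) (tt N18246 (iv D20803)) (tt N18248 F39051) (tt N19556 F39052) (tt N21721 (iv F41364)) (tt N18289 F39053))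
theorem Q20767 : ∀ i, i < 20767 → P i := stepQ 20766 Q20766 (allL N20766 (tt N21720 (iv F41358)) (tt N21721 (iv F41362)) (tt N18247 F39054) (tt N22612 D22650) (tt N18246 (iv D20804)) (tt N21720 (iv F41361)))
theorem Q20768 : ∀ i, i < 20768 → P i := stepQ 20767 Q20767 (allL N20767 (tt N21884 (iv F41762)) (tt N18249 F39055) (tt N21721 (iv F41363)) (tt N22613 D22651) (tt N18248 (iv D20805)) (tt N21710 (iv F41331)))
theorem Q20769 : ∀ i, i < 20769 → P i := stepQ 20768 Q20768 (allL N20768 (tt N18294 F39056) (tt N22613 (iv F43446)) (tt N19568 F39058) (tt N18249 (iv D20806)) (tt N18292 F39057) (tt N22338 (iv F42821)))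
theorem Q20770 : ∀ i, i < 20770 → P i := stepQ 20769 Q20769 (allL N20769 (tt N18293 F39059) (tt N21710 (iv F41329)) (tt N18250 F39060) (tt N22338 (iv F42820)) (tt N18291 F39061) (tt N18249 (iv D20807)))
theorem Q20771 : ∀ i, i < 20771 → P i := stepQ 20770 Q20770 (allL N20770 (tt N18254 F39062) (tt N20025 F39063) (tt N18253 (iv D20808)) (tt N20024 F39064) (tt N21876 (iv F41747)) (tt N22503 (iv F43165)))
theorem Q20772 : ∀ i, i < 20772 → P i := stepQ 20771 Q20771 (allL N20771 (tt N22068 (iv F42188)) (tt N18254 (iv D20809)) (tt N18256 F39065) (tt N22067 F42187) (tt N21877 (iv F41749)) (tt N18264 (iv F39066)))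
theorem Q20773 : ∀ i, i < 20773 → P i := stepQ 20772 Q20772 (allL N20772 (tt N20024 F39067) (tt N22067 (iv F42184)) (tt N20029 F39068) (tt N18254 (iv D20810)) (tt N22614 D22652) (tt N22089 (iv F42250)))
theorem Q20774 : ∀ i, i < 20774 → P i := stepQ 20773 Q20773 (allL N20773 (tt N22503 (iv F43161)) (tt N18264 F39069) (tt N18255 F39070) (tt N22089 (iv F42249)) (tt N22615 D22653) (tt N18254 (iv D20811)))
theorem Q20775 : ∀ i, i < 20775 → P i := stepQ 20774 Q20774 (allL N20774 (tt N20381 F39071) (tt N18257 F39072) (tt N22615 (iv F43454)) (tt N18534 F39073) (tt N18255 (iv D20812)) (tt N18533 F39074))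
theorem Q20776 : ∀ i, i < 20776 → P i := stepQ 20775 Q20775 (allL N20775 (tt N18256 (iv D20813)) (tt N18272 F39075) (tt N22068 (iv F42190)) (tt N18263 F39076) (tt N21879 (iv F41751)) (tt N18262 F39077))
theorem Q20777 : ∀ i, i < 20777 → P i := stepQ 20776 Q20776 (allL N20776 (tt N18261 F39078) (tt N19851 F39079) (tt N18259 F39080) (tt N22586 (iv F43390)) (tt N19856 F39081) (tt N18258 (iv D20814)))
theorem Q20778 : ∀ i, i < 20778 → P i := stepQ 20777 Q20777 (allL N20777 (tt N22586 (iv F43387)) (tt N18287 F39082) (tt N20813 (iv F39159)) (tt N18261 F39083) (tt N22616 D22654) (tt N18260 (iv D20815)))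
theorem Q20779 : ∀ i, i < 20779 → P i := stepQ 20778 Q20778 (allL N20778 (tt N18265 F39084) (tt N21669 (iv F41228)) (tt N22091 (iv F42254)) (tt N18574 F39085) (tt N18262 (iv D20816)) (tt N22617 D22655))
theorem Q20780 : ∀ i, i < 20780 → P i := stepQ 20779 Q20779 (allL N20779 (tt N18266 F39086) (tt N21667 (iv F41221)) (tt N18576 F39087) (tt N22618 D22656) (tt N18263 (iv D20817)) (tt N21683 (iv F41269)))
theorem Q20781 : ∀ i, i < 20781 → P i := stepQ 20780 Q20780 (allL N20780 (tt N22091 (iv F42253)) (tt N22615 (iv F43453)) (tt N18265 F39088) (tt N20059 (iv F39089)) (tt N18264 (iv D20818)) (tt N22619 D22657))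
theorem Q20782 : ∀ i, i < 20782 → P i := stepQ 20781 Q20781 (allL N20781 (tt N22617 (iv F43461)) (tt N18267 F39090) (tt N22619 (iv F43465)) (tt N18573 F39091) (tt N21875 (iv F41744)) (tt N18265 (iv D20819)))
theorem Q20783 : ∀ i, i < 20783 → P i := stepQ 20782 Q20782 (allL N20782 (tt N22618 (iv F43463)) (tt N18268 F39092) (tt N22620 D22658) (tt N18266 (iv D20820)) (tt N21880 (iv F41753)) (tt N21730 (iv F41377)))
theorem Q20784 : ∀ i, i < 20784 → P i := stepQ 20783 Q20783 (allL N20783 (tt N18270 (iv D20821)) (tt N20169 F39093) (tt N18272 F39094) (tt N20168 F39095) (tt N22621 D22659) (tt N20182 F39096))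
theorem Q20785 : ∀ i, i < 20785 → P i := stepQ 20784 Q20784 (allL N20784 (tt N22621 (iv F43467)) (tt N18271 F39097) (tt N18273 F39098) (tt N22622 D22660) (tt N18270 (iv D20822)) (tt N22206 (iv F42491)))
theorem Q20786 : ∀ i, i < 20786 → P i := stepQ 20785 Q20785 (allL N20785 (tt N22199 (iv F42478)) (tt N22622 (iv F43470)) (tt N22188 (iv F42457)) (tt N18271 (iv D20823)) (tt N22498 (iv F43142)) (tt N22207 (iv F42492)))
theorem Q20787 : ∀ i, i < 20787 → P i := stepQ 20786 Q20786 (allL N20786 (tt N18273 F39099) (tt N21879 (iv F41750)) (tt N22621 (iv F43469)) (tt N22623 D22661) (tt N18272 (iv D20824)) (tt N22624 D22662))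
theorem Q20788 : ∀ i, i < 20788 → P i := stepQ 20787 Q20787 (allL N20787 (tt N22623 (iv F43471)) (tt N18274 F39100) (tt N22625 D22663) (tt N18273 (iv D20825)) (tt N21668 (iv F41225)) (tt N21733 (iv F41387)))
theorem Q20789 : ∀ i, i < 20789 → P i := stepQ 20788 Q20788 (allL N20788 (tt N22624 (iv F43472)) (tt N18275 F39101) (tt N22206 (iv F42489)) (tt N21733 (iv F41386)) (tt N21670 (iv F41233)) (tt N18273 (iv D20826)))
theorem Q20790 : ∀ i, i < 20790 → P i := stepQ 20789 Q20789 (allL N20789 (tt N18282 F39102) (tt N21825 (iv F41627)) (tt N18528 F39103) (tt N22191 (iv F42463)) (tt N18279 (iv D20827)) (tt N21035 (iv F39703)))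
theorem Q20791 : ∀ i, i < 20791 → P i := stepQ 20790 Q20790 (allL N20790 (tt N18528 F39104) (tt N21003 (iv F39622)) (tt N18282 F39105) (tt N18620 F39106) (tt N18281 (iv D20828)) (tt N21037 (iv F39710)))
theorem Q20792 : ∀ i, i < 20792 → P i := stepQ 20791 Q20791 (allL N20791 (tt N19854 F39107) (tt N22616 (iv F43457)) (tt N21038 (iv F39712)) (tt N19861 F39108) (tt N18287 (iv D20829)) (tt N19850 F39109))
theorem Q20793 : ∀ i, i < 20793 → P i := stepQ 20792 Q20792 (allL N20792 (tt N22504 (iv F43166)) (tt N18292 F39110) (tt N22626 D22664) (tt N18290 (iv D20830)) (tt N22613 (iv F43447)) (tt N20738 F39111))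
theorem Q20794 : ∀ i, i < 20794 → P i := stepQ 20793 Q20793 (allL N20793 (tt N18295 F39112) (tt N19569 (iv F39116)) (tt N18292 (iv D20831)) (tt N18363 F39113) (tt N19568 F39114) (tt N20739 F39115))
theorem Q20795 : ∀ i, i < 20795 → P i := stepQ 20794 Q20794 (allL N20794 (tt N22338 (iv F42817)) (tt N22507 (iv F43171)) (tt N20056 F39117) (tt N18293 (iv D20832)) (tt N21930 (iv F41883)) (tt N18294 F39118))
theorem Q20796 : ∀ i, i < 20796 → P i := stepQ 20795 Q20795 (allL N20795 (tt N19568 F39119) (tt N20176 (iv F39123)) (tt N18294 (iv D20833)) (tt N19567 F39122) (tt N18295 F39120) (tt N20056 F39121))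
theorem Q20797 : ∀ i, i < 20797 → P i := stepQ 20796 Q20796 (allL N20796 (tt N20178 F39124) (tt N18295 (iv D20834)) (tt N22509 (iv F43175)) (tt N20181 (iv F39126)) (tt N20176 F39125) (tt N22327 (iv F42801)))
theorem Q20798 : ∀ i, i < 20798 → P i := stepQ 20797 Q20797 (allL N20797 (tt N18363 F39127) (tt N20181 F39128) (tt N18362 F39131) (tt N18295 (iv D20835)) (tt N19960 F39129) (tt N18506 F39130))
theorem Q20799 : ∀ i, i < 20799 → P i := stepQ 20798 Q20798 (allL N20798 (tt N18506 F39132) (tt N19959 F39133) (tt N18297 (iv D20836)) (tt N20739 F39134) (tt N18522 F39135) (tt N18363 F39136))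
theorem Q20800 : ∀ i, i < 20800 → P i := stepQ 20799 Q20799 (allL N20799 (tt N21985 (iv F42001)) (tt N20744 F39137) (tt N22319 (iv F42780)) (tt N22627 D22665) (tt N18304 (iv D20837)) (tt N22628 D22666))
theorem Q20801 : ∀ i, i < 20801 → P i := stepQ 20800 Q20800 (allL N20800 (tt N21918 (iv F41849)) (tt N20745 F39138) (tt N22629 D22667) (tt N18305 (iv D20838)) (tt N22627 (iv F43478)) (tt N20580 F39139))
theorem Q20802 : ∀ i, i < 20802 → P i := stepQ 20801 Q20801 (allL N20801 (tt N19584 F39140) (tt N18307 F39141) (tt N19582 F39142) (tt N22630 D22668) (tt N18306 (iv D20839)) (tt N22631 D22669))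
theorem Q20803 : ∀ i, i < 20803 → P i := stepQ 20802 Q20802 (allL N20802 (tt N18312 F39143) (tt N22630 (iv F43484)) (tt N22632 D22670) (tt N18307 (iv D20840)) (tt N22438 (iv F43011)) (tt N22633 D22671))
theorem Q20804 : ∀ i, i < 20804 → P i := stepQ 20803 Q20803 (allL N20803 (tt N18313 F39144) (tt N22631 (iv F43486)) (tt N18309 F39145) (tt N22633 (iv F43492)) (tt N20395 F39146) (tt N18307 (iv D20841)))
theorem Q20805 : ∀ i, i < 20805 → P i := stepQ 20804 Q20804 (allL N20804 (tt N22438 (iv F43010)) (tt N22027 (iv F42096)) (tt N22634 D22672) (tt N18310 (iv D20842)) (tt N18312 F39147) (tt N22635 D22673))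
theorem Q20806 : ∀ i, i < 20806 → P i := stepQ 20805 Q20805 (allL N20805 (tt N22439 (iv F43012)) (tt N22034 (iv F42105)) (tt N22437 (iv F43007)) (tt N22635 (iv F43494)) (tt N22636 D22674) (tt N18310 (iv D20843)))
theorem Q20807 : ∀ i, i < 20807 → P i := stepQ 20806 Q20806 (allL N20806 (tt N18328 F39148) (tt N18341 F39149) (tt N18326 F39150) (tt N20397 F39151) (tt N18311 (iv D20844)) (tt N22636 (iv F43498)))
theorem Q20808 : ∀ i, i < 20808 → P i := stepQ 20807 Q20807 (allL N20807 (tt N22632 (iv F43489)) (tt N22637 D22675) (tt N18312 (iv D20845)) (tt N21917 (iv F41848)) (tt N22634 (iv F43493)) (tt N22638 D22676))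
theorem Q20809 : ∀ i, i < 20809 → P i := stepQ 20808 Q20808 (allL N20808 (tt N22633 (iv F43491)) (tt N20399 F39152) (tt N22638 (iv F43500)) (tt N18313 F39153) (tt N22639 D22677) (tt N18312 (iv D20846)))
theorem Q20810 : ∀ i, i < 20810 → P i := stepQ 20809 Q20809 (allL N20809 (tt N22314 (iv F42771)) (tt N18316 F39154) (tt N22329 (iv F42804)) (tt N22640 D22678) (tt N18314 (iv D20847)) (tt N22446 (iv F43025)))
theorem Q20811 : ∀ i, i < 20811 → P i := stepQ 20810 Q20810 (allL N20810 (tt N18317 F39155) (tt N22324 (iv F42795)) (tt N20740 F39156) (tt N20988 (iv F39583)) (tt N18315 (iv D20848)) (tt N20987 (iv F39580)))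
theorem Q20812 : ∀ i, i < 20812 → P i := stepQ 20811 Q20811 (allL N20811 (tt N18318 F39157) (tt N22640 (iv F43503)) (tt N20989 (iv F39586)) (tt N18316 (iv D20849)) (tt N20988 F39584) (tt N22369 (iv F42871)))
theorem Q20813 : ∀ i, i < 20813 → P i := stepQ 20812 Q20812 (allL N20812 (tt N20988 (iv F39581)) (tt N21191 (iv F40071)) (tt N20984 (iv F39572)) (tt N18317 (iv D20850)) (tt N18318 F39158) (tt N20983 F39569))
theorem Q20814 : ∀ i, i < 20814 → P i := stepQ 20813 Q20813 (allL N20813 (tt N20987 (iv F39579)) (tt N21190 (iv F40066)) (tt N20777 F39159) (tt N20983 (iv F39568)) (tt N22320 (iv F42782)) (tt N18317 (iv D20851)))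
theorem Q20815 : ∀ i, i < 20815 → P i := stepQ 20814 Q20814 (allL N20814 (tt N18322 F39160) (tt N21938 (iv F41900)) (tt N18518 F39161) (tt N18320 (iv D20852)) (tt N21939 (iv F41907)) (tt N18370 F39162))
theorem Q20816 : ∀ i, i < 20816 → P i := stepQ 20815 Q20815 (allL N20815 (tt N18323 F39163) (tt N21021 (iv F39666)) (tt N18321 F39164) (tt N19074 (iv F39166)) (tt N18320 (iv D20853)) (tt N19073 F39165))
theorem Q20817 : ∀ i, i < 20817 → P i := stepQ 20816 Q20816 (allL N20816 (tt N18518 F39167) (tt N21895 (iv F41797)) (tt N18322 (iv D20854)) (tt N18515 F39168) (tt N22641 D22679) (tt N18371 F39169))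
theorem Q20818 : ∀ i, i < 20818 → P i := stepQ 20817 Q20817 (allL N20817 (tt N21939 (iv F41904)) (tt N18374 F39170) (tt N22641 (iv F43505)) (tt N19060 (iv F39172)) (tt N18322 (iv D20855)) (tt N19052 F39171))
theorem Q20819 : ∀ i, i < 20819 → P i := stepQ 20818 Q20818 (allL N20818 (tt N19074 F39173) (tt N18377 F39174) (tt N19068 F39175) (tt N18323 (iv D20856)) (tt N19060 F39176) (tt N19061 F39177))
theorem Q20820 : ∀ i, i < 20820 → P i := stepQ 20819 Q20819 (allL N20819 (tt N21005 (iv F39627)) (tt N18327 F39178) (tt N22371 (iv F42878)) (tt N18325 (iv D20857)) (tt N22208 (iv F42495)) (tt N21010 (iv F39646)))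
theorem Q20821 : ∀ i, i < 20821 → P i := stepQ 20820 Q20820 (allL N20820 (tt N18329 F39179) (tt N22208 (iv F42494)) (tt N20949 (iv F39463)) (tt N18326 (iv D20858)) (tt N18327 F39180) (tt N20254 (iv F39181)))
theorem Q20822 : ∀ i, i < 20822 → P i := stepQ 20821 Q20821 (allL N20821 (tt N18330 F39182) (tt N22205 (iv F42487)) (tt N22636 (iv F43497)) (tt N20254 F39183) (tt N22437 (iv F43009)) (tt N18326 (iv D20859)))
theorem Q20823 : ∀ i, i < 20823 → P i := stepQ 20822 Q20822 (allL N20822 (tt N20397 F39184) (tt N21827 (iv F41633)) (tt N20585 (iv F39186)) (tt N18328 (iv D20860)) (tt N20394 F39185) (tt N22642 D22680))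
theorem Q20824 : ∀ i, i < 20824 → P i := stepQ 20823 Q20823 (allL N20823 (tt N22636 (iv F43495)) (tt N21828 (iv F41637)) (tt N18330 F39187) (tt N22642 (iv F43509)) (tt N22439 (iv F43014)) (tt N18328 (iv D20861)))
theorem Q20825 : ∀ i, i < 20825 → P i := stepQ 20824 Q20824 (allL N20824 (tt N18333 F39188) (tt N20017 F39189) (tt N18332 (iv D20862)) (tt N19274 F39190) (tt N21296 (iv F40332)) (tt N19273 F39191))
theorem Q20826 : ∀ i, i < 20826 → P i := stepQ 20825 Q20825 (allL N20825 (tt N18780 F39192) (tt N18339 F39193) (tt N21816 (iv F41594)) (tt N18338 F39194) (tt N21816 (iv F41596)) (tt N18337 (iv D20863)))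
theorem Q20827 : ∀ i, i < 20827 → P i := stepQ 20826 Q20826 (allL N20826 (tt N18524 F39195) (tt N21712 (iv F41335)) (tt N18341 F39196) (tt N19708 (iv F39197)) (tt N18340 (iv D20864)) (tt N22643 D22681))
theorem Q20828 : ∀ i, i < 20828 → P i := stepQ 20827 Q20827 (allL N20827 (tt N19618 F39198) (tt N22636 (iv F43496)) (tt N22643 (iv F43511)) (tt N20398 F39199) (tt N22034 (iv F42107)) (tt N18341 (iv D20865)))
theorem Q20829 : ∀ i, i < 20829 → P i := stepQ 20828 Q20828 (allL N20828 (tt N18343 F39200) (tt N18352 F39201) (tt N21813 (iv F41583)) (tt N18342 (iv D20866)) (tt N18350 F39202) (tt N21811 F41576))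
theorem Q20830 : ∀ i, i < 20830 → P i := stepQ 20829 Q20829 (allL N20829 (tt N20707 F39203) (tt N19049 F39204) (tt N18348 (iv D20867)) (tt N20703 F39205) (tt N19048 F39206) (tt N20685 F39207))
theorem Q20831 : ∀ i, i < 20831 → P i := stepQ 20830 Q20830 (allL N20830 (tt N19048 F39208) (tt N19053 (iv F39212)) (tt N18349 (iv D20868)) (tt N19047 F39209) (tt N20707 F39210) (tt N19071 F39211))
theorem Q20832 : ∀ i, i < 20832 → P i := stepQ 20831 Q20831 (allL N20831 (tt N21818 (iv F41602)) (tt N22644 D22682) (tt N18350 (iv D20869)) (tt N22645 D22683) (tt N21813 F41585) (tt N21814 (iv F41588)))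
theorem Q20833 : ∀ i, i < 20833 → P i := stepQ 20832 Q20832 (allL N20832 (tt N21817 (iv F41597)) (tt N18355 F39213) (tt N21814 (iv F41587)) (tt N18351 F39214) (tt N21812 (iv F41581)) (tt N18350 (iv D20870)))
theorem Q20834 : ∀ i, i < 20834 → P i := stepQ 20833 Q20833 (allL N20833 (tt N18356 F39215) (tt N22646 D22684) (tt N18352 (iv D20871)) (tt N22647 D22685) (tt N18354 F39216) (tt N22648 D22686))
theorem Q20835 : ∀ i, i < 20835 → P i := stepQ 20834 Q20834 (allL N20834 (tt N18357 F39217) (tt N21811 (iv F41573)) (tt N22648 (iv F43520)) (tt N18353 F39218) (tt N21810 F41570) (tt N18352 (iv D20872)))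
theorem Q20836 : ∀ i, i < 20836 → P i := stepQ 20835 Q20835 (allL N20835 (tt N22649 D22687) (tt N18354 (iv D20873)) (tt N22644 (iv F43514)) (tt N22342 (iv F42830)) (tt N22646 (iv F43517)) (tt N22341 F42827))
theorem Q20837 : ∀ i, i < 20837 → P i := stepQ 20836 Q20836 (allL N20836 (tt N18361 F39219) (tt N21812 (iv F41578)) (tt N22343 (iv F42832)) (tt N18784 F39220) (tt N18355 (iv D20874)) (tt N21810 F41571))
theorem Q20838 : ∀ i, i < 20838 → P i := stepQ 20837 Q20837 (allL N20837 (tt N22650 D22688) (tt N18356 (iv D20875)) (tt N22059 (iv F42170)) (tt N22651 D22689) (tt N18358 F39221) (tt N22652 D22690))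
theorem Q20839 : ∀ i, i < 20839 → P i := stepQ 20838 Q20838 (allL N20838 (tt N22647 (iv F43518)) (tt N22651 (iv F43523)) (tt N22653 D22691) (tt N18356 (iv D20876)) (tt N22654 D22692) (tt N22653 F43526))
theorem Q20840 : ∀ i, i < 20840 → P i := stepQ 20839 Q20839 (allL N20839 (tt N22648 (iv F43519)) (tt N22652 (iv F43524)) (tt N18357 F39222) (tt N22653 (iv F43525)) (tt N22226 (iv F42536)) (tt N18356 (iv D20877)))
theorem Q20841 : ∀ i, i < 20841 → P i := stepQ 20840 Q20840 (allL N20840 (tt N18358 (iv D20878)) (tt N22649 (iv F43521)) (tt N21809 (iv F41566)) (tt N22655 D22693) (tt N22650 (iv F43522)) (tt N21808 (iv F41563)))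
theorem Q20842 : ∀ i, i < 20842 → P i := stepQ 20841 Q20841 (allL N20841 (tt N22655 (iv F43528)) (tt N18359 F39223) (tt N21551 (iv F40961)) (tt N18358 (iv D20879)) (tt N22656 D22694) (tt N21546 (iv F40947)))
theorem Q20843 : ∀ i, i < 20843 → P i := stepQ 20842 Q20842 (allL N20842 (tt N22344 (iv F42833)) (tt N22656 (iv F43531)) (tt N21547 (iv F40951)) (tt N22654 (iv F43527)) (tt N18359 (iv D20880)) (tt N21550 (iv F40958)))
theorem Q20844 : ∀ i, i < 20844 → P i := stepQ 20843 Q20843 (allL N20843 (tt N22343 (iv F42831)) (tt N21806 (iv F41557)) (tt N18361 F39224) (tt N21548 (iv F40954)) (tt N18360 (iv D20881)) (tt N22226 (iv F42537)))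
theorem Q20845 : ∀ i, i < 20845 → P i := stepQ 20844 Q20844 (allL N20844 (tt N18377 F39225) (tt N20886 F39307) (tt N22657 D22695) (tt N18367 (iv D20882)) (tt N20887 (iv F39309)) (tt N22354 (iv F42855)))
theorem Q20846 : ∀ i, i < 20846 → P i := stepQ 20845 Q20845 (allL N20845 (tt N18378 F39226) (tt N22658 D22696) (tt N18368 (iv D20883)) (tt N22659 D22697) (tt N18369 F39227) (tt N21632 (iv F41131)))
theorem Q20847 : ∀ i, i < 20847 → P i := stepQ 20846 Q20846 (allL N20846 (tt N22660 D22698) (tt N18369 (iv D20884)) (tt N21623 (iv F41112)) (tt N20265 F39228) (tt N22658 (iv F43536)) (tt N18383 F39229))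
theorem Q20848 : ∀ i, i < 20848 → P i := stepQ 20847 Q20847 (allL N20847 (tt N20706 F39230) (tt N19052 F39231) (tt N20763 F39232) (tt N19056 F39233) (tt N18373 (iv D20885)) (tt N18374 F39234))
theorem Q20849 : ∀ i, i < 20849 → P i := stepQ 20848 Q20848 (allL N20848 (tt N20887 F39310) (tt N19060 F39235) (tt N22661 D22699) (tt N18374 (iv D20886)) (tt N18377 F39236) (tt N19056 F39237))
theorem Q20850 : ∀ i, i < 20850 → P i := stepQ 20849 Q20849 (allL N20849 (tt N22354 (iv F42852)) (tt N19061 F39238) (tt N22662 D22700) (tt N18376 (iv D20887)) (tt N19057 F39239) (tt N18377 F39240))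
theorem Q20851 : ∀ i, i < 20851 → P i := stepQ 20850 Q20850 (allL N20850 (tt N22657 (iv F43532)) (tt N22663 D22701) (tt N18377 (iv D20888)) (tt N22664 D22702) (tt N22661 (iv F43543)) (tt N22662 (iv F43548)))
theorem Q20852 : ∀ i, i < 20852 → P i := stepQ 20851 Q20851 (allL N20851 (tt N22659 (iv F43537)) (tt N22454 (iv F43036)) (tt N22665 D22703) (tt N18378 (iv D20889)) (tt N22666 D22704) (tt N22433 (iv F42996)))
theorem Q20853 : ∀ i, i < 20853 → P i := stepQ 20852 Q20852 (allL N20852 (tt N18379 (iv D20890)) (tt N22660 (iv F43538)) (tt N18381 F39241) (tt N22667 D22705) (tt N22451 (iv F43033)) (tt N18387 F39242))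
theorem Q20854 : ∀ i, i < 20854 → P i := stepQ 20853 Q20853 (allL N20853 (tt N22667 (iv F43556)) (tt N18380 F39243) (tt N22668 D22706) (tt N18379 (iv D20891)) (tt N22669 D22707) (tt N18388 F39244))
theorem Q20855 : ∀ i, i < 20855 → P i := stepQ 20854 Q20854 (allL N20854 (tt N22148 (iv F42381)) (tt N22669 (iv F43560)) (tt N22143 (iv F42370)) (tt N22666 (iv F43555)) (tt N18380 (iv D20892)) (tt N22670 D22708))
theorem Q20856 : ∀ i, i < 20856 → P i := stepQ 20855 Q20855 (allL N20855 (tt N18383 (iv D20893)) (tt N18387 F39245) (tt N20274 F39246) (tt N22144 (iv F42373)) (tt N20229 F39247) (tt N22660 (iv F43541)))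
theorem Q20857 : ∀ i, i < 20857 → P i := stepQ 20856 Q20856 (allL N20856 (tt N18388 F39248) (tt N22144 (iv F42371)) (tt N22671 D22709) (tt N18387 (iv D20894)) (tt N22482 (iv F43114)) (tt N22667 (iv F43558)))
theorem Q20858 : ∀ i, i < 20858 → P i := stepQ 20857 Q20857 (allL N20857 (tt N22671 (iv F43562)) (tt N22131 (iv F42345)) (tt N18388 (iv D20895)) (tt N22672 D22710) (tt N22673 D22711) (tt N22668 (iv F43559)))
theorem Q20859 : ∀ i, i < 20859 → P i := stepQ 20858 Q20858 (allL N20858 (tt N22482 (iv F43112)) (tt N18389 F39249) (tt N22673 (iv F43566)) (tt N22434 (iv F43000)) (tt N18388 (iv D20896)) (tt N22674 D22712))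
theorem Q20860 : ∀ i, i < 20860 → P i := stepQ 20859 Q20859 (allL N20859 (tt N22147 (iv F42379)) (tt N22674 (iv F43568)) (tt N21980 (iv F41988)) (tt N22436 (iv F43005)) (tt N22670 (iv F43561)) (tt N18389 (iv D20897)))
theorem Q20861 : ∀ i, i < 20861 → P i := stepQ 20860 Q20860 (allL N20860 (tt N18391 F39250) (tt N21519 (iv F40861)) (tt N18390 (iv D20898)) (tt N22675 D22713) (tt N22447 (iv F43027)) (tt N22311 (iv F42766)))
theorem Q20862 : ∀ i, i < 20862 → P i := stepQ 20861 Q20861 (allL N20861 (tt N22675 (iv F43569)) (tt N18756 F39251) (tt N22676 D22714) (tt N18391 (iv D20899)) (tt N22677 D22715) (tt N22104 F42283))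
theorem Q20863 : ∀ i, i < 20863 → P i := stepQ 20862 Q20862 (allL N20862 (tt N20467 F39252) (tt N20487 F39253) (tt N18393 (iv D20900)) (tt N22678 D22716) (tt N20465 F39254) (tt N22679 D22717))
theorem Q20864 : ∀ i, i < 20864 → P i := stepQ 20863 Q20863 (allL N20863 (tt N22227 (iv F42538)) (tt N18395 F39255) (tt N22679 (iv F43579)) (tt N18394 F39256) (tt N22680 D22718) (tt N18393 (iv D20901)))
theorem Q20865 : ∀ i, i < 20865 → P i := stepQ 20864 Q20864 (allL N20864 (tt N20352 F39257) (tt N22680 (iv F43582)) (tt N20350 F39258) (tt N22681 D22719) (tt N18395 (iv D20902)) (tt N20448 F39259))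
theorem Q20866 : ∀ i, i < 20866 → P i := stepQ 20865 Q20865 (allL N20865 (tt N21782 (iv F41508)) (tt N21894 (iv F41794)) (tt N22682 D22720) (tt N18396 (iv D20903)) (tt N22681 (iv F43586)) (tt N21779 (iv F41504)))
theorem Q20867 : ∀ i, i < 20867 → P i := stepQ 20866 Q20866 (allL N20866 (tt N18399 F39260) (tt N22683 D22721) (tt N18397 (iv D20904)) (tt N22684 D22722) (tt N21891 (iv F41790)) (tt N18742 F39261))
theorem Q20868 : ∀ i, i < 20868 → P i := stepQ 20867 Q20867 (allL N20867 (tt N22684 (iv F43591)) (tt N18746 F39262) (tt N22685 D22723) (tt N18399 (iv D20905)) (tt N22686 D22724) (tt N18743 F39263))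
theorem Q20869 : ∀ i, i < 20869 → P i := stepQ 20868 Q20868 (allL N20868 (tt N18403 F39264) (tt N19855 F39265) (tt N22687 D22725) (tt N18400 (iv D20906)) (tt N18401 F39266) (tt N22688 D22726))
theorem Q20870 : ∀ i, i < 20870 → P i := stepQ 20869 Q20869 (allL N20869 (tt N18404 F39267) (tt N19856 F39268) (tt N18404 F39269) (tt N22688 (iv F43601)) (tt N19851 F39270) (tt N18400 (iv D20907)))
theorem Q20871 : ∀ i, i < 20871 → P i := stepQ 20870 Q20870 (allL N20870 (tt N18405 F39271) (tt N22689 D22727) (tt N18401 (iv D20908)) (tt N22596 (iv F43407)) (tt N22687 (iv F43598)) (tt N22592 (iv F43404)))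
theorem Q20872 : ∀ i, i < 20872 → P i := stepQ 20871 Q20871 (allL N20871 (tt N22687 (iv F43597)) (tt N22690 D22728) (tt N18403 (iv D20909)) (tt N22691 D22729) (tt N18405 F39272) (tt N22692 D22730))
theorem Q20873 : ∀ i, i < 20873 → P i := stepQ 20872 Q20872 (allL N20872 (tt N22688 (iv F43599)) (tt N19776 F39273) (tt N22692 (iv F43604)) (tt N18404 F39274) (tt N22693 D22731) (tt N18403 (iv D20910)))
theorem Q20874 : ∀ i, i < 20874 → P i := stepQ 20873 Q20873 (allL N20873 (tt N22694 D22732) (tt N18405 (iv D20911)) (tt N19777 F39275) (tt N22695 D22733) (tt N22690 (iv F43603)) (tt N22696 D22734))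
theorem Q20875 : ∀ i, i < 20875 → P i := stepQ 20874 Q20874 (allL N20874 (tt N22596 (iv F43405)) (tt N22695 (iv F43609)) (tt N22468 (iv F43075)) (tt N18405 (iv D20912)) (tt N22697 D22735) (tt N22467 F43072))
theorem Q20876 : ∀ i, i < 20876 → P i := stepQ 20875 Q20875 (allL N20875 (tt N22592 (iv F43402)) (tt N22696 (iv F43610)) (tt N18406 F39276) (tt N22467 (iv F43071)) (tt N22698 D22736) (tt N18405 (iv D20913)))
theorem Q20877 : ∀ i, i < 20877 → P i := stepQ 20876 Q20876 (allL N20876 (tt N22591 (iv F43400)) (tt N19779 F39277) (tt N22698 (iv F43612)) (tt N19853 F39278) (tt N18406 (iv D20914)) (tt N22693 (iv F43607)))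
theorem Q20878 : ∀ i, i < 20878 → P i := stepQ 20877 Q20877 (allL N20877 (tt N18409 (iv D20915)) (tt N19786 F39279) (tt N18413 F39280) (tt N22699 D22737) (tt N19727 F39281) (tt N19784 (iv F39282)))
theorem Q20879 : ∀ i, i < 20879 → P i := stepQ 20878 Q20878 (allL N20878 (tt N22699 (iv F43613)) (tt N18410 F39283) (tt N22700 D22738) (tt N18409 (iv D20916)) (tt N22701 D22739) (tt N22702 D22740))
theorem Q20880 : ∀ i, i < 20880 → P i := stepQ 20879 Q20879 (allL N20879 (tt N19784 F39284) (tt N18411 F39285) (tt N18415 F39286) (tt N22702 (iv F43623)) (tt N19767 F39287) (tt N18409 (iv D20917)))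
theorem Q20881 : ∀ i, i < 20881 → P i := stepQ 20880 Q20880 (allL N20880 (tt N21743 (iv F41415)) (tt N22701 (iv F43618)) (tt N21741 F41411) (tt N19729 F39288) (tt N18410 (iv D20918)) (tt N22703 D22741))
theorem Q20882 : ∀ i, i < 20882 → P i := stepQ 20881 Q20881 (allL N20881 (tt N20373 F39289) (tt N22702 (iv F43622)) (tt N21815 (iv F41590)) (tt N18411 F39290) (tt N22585 (iv F43385)) (tt N18410 (iv D20919)))
theorem Q20883 : ∀ i, i < 20883 → P i := stepQ 20882 Q20882 (allL N20882 (tt N18414 F39291) (tt N19768 F39292) (tt N22704 D22742) (tt N18413 (iv D20920)) (tt N19763 F39293) (tt N22584 (iv F43382)))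
theorem Q20884 : ∀ i, i < 20884 → P i := stepQ 20883 Q20883 (allL N20883 (tt N18415 F39294) (tt N19769 F39295) (tt N19784 F39296) (tt N22584 (iv F43380)) (tt N19766 F39297) (tt N18413 (iv D20921)))
theorem Q20885 : ∀ i, i < 20885 → P i := stepQ 20884 Q20884 (allL N20884 (tt N22704 (iv F43629)) (tt N22578 (iv F43371)) (tt N18414 (iv D20922)) (tt N22705 D22743) (tt N19764 F39298) (tt N22579 (iv F43376)))
theorem Q20886 : ∀ i, i < 20886 → P i := stepQ 20885 Q20885 (allL N20885 (tt N20304 F39299) (tt N19703 F39300) (tt N20415 F39303) (tt N18417 (iv D20923)) (tt N20303 F39301) (tt N18418 F39302))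
theorem Q20887 : ∀ i, i < 20887 → P i := stepQ 20886 Q20886 (allL N20886 (tt N21381 (iv F40522)) (tt N20844 (iv F39307)) (tt N18418 (iv D20924)) (tt N20413 F39304) (tt N18419 F39305) (tt N20415 F39306))
theorem Q20888 : ∀ i, i < 20888 → P i := stepQ 20887 Q20887 (allL N20887 (tt N20848 (iv F39310)) (tt N18419 (iv D20925)) (tt N22534 (iv F43260)) (tt N19832 F39308) (tt N20844 F39309) (tt N21366 F40483))
theorem Q20889 : ∀ i, i < 20889 → P i := stepQ 20888 Q20888 (allL N20888 (tt N18431 F39311) (tt N20314 F39312) (tt N19804 F39313) (tt N18425 (iv D20926)) (tt N18426 F39314) (tt N19798 F39315))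
theorem Q20890 : ∀ i, i < 20890 → P i := stepQ 20889 Q20889 (allL N20889 (tt N18432 F39316) (tt N22706 D22744) (tt N18426 (iv D20927)) (tt N22550 (iv F43307)) (tt N19804 F39317) (tt N18434 F39318))
theorem Q20891 : ∀ i, i < 20891 → P i := stepQ 20890 Q20890 (allL N20890 (tt N22707 D22745) (tt N18432 (iv D20928)) (tt N18433 F39319) (tt N22708 D22746) (tt N19795 F39320) (tt N18435 F39321))
theorem Q20892 : ∀ i, i < 20892 → P i := stepQ 20891 Q20891 (allL N20891 (tt N22550 (iv F43306)) (tt N22708 (iv F43636)) (tt N22543 (iv F43285)) (tt N18432 (iv D20929)) (tt N19807 F39322) (tt N18436 F39323))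
theorem Q20893 : ∀ i, i < 20893 → P i := stepQ 20892 Q20892 (allL N20892 (tt N18433 (iv D20930)) (tt N22531 (iv F43250)) (tt N22707 (iv F43633)) (tt N22553 (iv F43317)) (tt N19783 F39324) (tt N18437 F39325))
theorem Q20894 : ∀ i, i < 20894 → P i := stepQ 20893 Q20893 (allL N20893 (tt N22709 D22747) (tt N18434 (iv D20931)) (tt N22520 (iv F43219)) (tt N22710 D22748) (tt N22511 (iv F43180)) (tt N22706 (iv F43632)))
theorem Q20895 : ∀ i, i < 20895 → P i := stepQ 20894 Q20894 (allL N20894 (tt N18436 F39326) (tt N22710 (iv F43642)) (tt N22540 (iv F43279)) (tt N18434 (iv D20932)) (tt N22711 D22749) (tt N22550 (iv F43309)))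
theorem Q20896 : ∀ i, i < 20896 → P i := stepQ 20895 Q20895 (allL N20895 (tt N18435 (iv D20933)) (tt N22709 (iv F43639)) (tt N18437 F39327) (tt N22712 D22750) (tt N22513 (iv F43190)) (tt N22707 (iv F43635)))
theorem Q20897 : ∀ i, i < 20897 → P i := stepQ 20896 Q20896 (allL N20896 (tt N22712 (iv F43645)) (tt N18436 F39328) (tt N22713 D22751) (tt N18435 (iv D20934)) (tt N22714 D22752) (tt N22708 (iv F43638)))
theorem Q20898 : ∀ i, i < 20898 → P i := stepQ 20897 Q20897 (allL N20897 (tt N22540 (iv F43276)) (tt N22715 D22753) (tt N18436 (iv D20935)) (tt N22537 (iv F43267)) (tt N22716 D22754) (tt N22543 (iv F43286)))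
theorem Q20899 : ∀ i, i < 20899 → P i := stepQ 20898 Q20898 (allL N20898 (tt N22711 (iv F43643)) (tt N22714 (iv F43646)) (tt N22716 (iv F43647)) (tt N22515 (iv F43199)) (tt N18436 (iv D20936)) (tt N22717 D22755))
theorem Q20900 : ∀ i, i < 20900 → P i := stepQ 20899 Q20899 (allL N20899 (tt N18438 F39329) (tt N22530 (iv F43246)) (tt N22718 D22756) (tt N18437 (iv D20937)) (tt N22518 (iv F43212)) (tt N22553 (iv F43319)))
theorem Q20901 : ∀ i, i < 20901 → P i := stepQ 20900 Q20900 (allL N20900 (tt N22718 (iv F43652)) (tt N19809 F39330) (tt N18438 (iv D20938)) (tt N22719 D22757) (tt N22519 (iv F43215)) (tt N22551 (iv F43312)))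
theorem Q20902 : ∀ i, i < 20902 → P i := stepQ 20901 Q20901 (allL N20901 (tt N18444 F39331) (tt N20628 F39332) (tt N20323 F39333) (tt N20574 (iv F39334)) (tt N18441 (iv D20939)) (tt N20573 F39335))
theorem Q20903 : ∀ i, i < 20903 → P i := stepQ 20902 Q20902 (allL N20902 (tt N18445 F39336) (tt N21907 (iv F41832)) (tt N18508 F39337) (tt N18442 (iv D20940)) (tt N20574 F39338) (tt N18507 F39339))
theorem Q20904 : ∀ i, i < 20904 → P i := stepQ 20903 Q20903 (allL N20903 (tt N20323 F39340) (tt N20626 F39341) (tt N18444 F39342) (tt N19246 F39343) (tt N18443 (iv D20941)) (tt N20576 (iv F39344)))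
theorem Q20905 : ∀ i, i < 20905 → P i := stepQ 20904 Q20904 (allL N20904 (tt N21364 (iv F40473)) (tt N18457 F39345) (tt N21362 (iv F40467)) (tt N22720 D22758) (tt N18456 (iv D20942)) (tt N20960 (iv F39499)))
theorem Q20906 : ∀ i, i < 20906 → P i := stepQ 20905 Q20905 (allL N20905 (tt N18465 F39346) (tt N22720 (iv F43654)) (tt N22721 D22759) (tt N18457 (iv D20943)) (tt N19355 F39347) (tt N22538 (iv F43272)))
theorem Q20907 : ∀ i, i < 20907 → P i := stepQ 20906 Q20906 (allL N20906 (tt N18461 F39348) (tt N18663 F39349) (tt N19365 F39350) (tt N18460 (iv D20944)) (tt N22722 D22760) (tt N18661 F39351))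
theorem Q20908 : ∀ i, i < 20908 → P i := stepQ 20907 Q20907 (allL N20907 (tt N18462 F39352) (tt N21364 (iv F40474)) (tt N18467 F39353) (tt N22723 D22761) (tt N18460 (iv D20945)) (tt N22724 D22762))
theorem Q20909 : ∀ i, i < 20909 → P i := stepQ 20908 Q20908 (allL N20908 (tt N19365 F39354) (tt N19347 F39355) (tt N18461 (iv D20946)) (tt N19389 F39356) (tt N22725 D22763) (tt N19364 F39357))
theorem Q20910 : ∀ i, i < 20910 → P i := stepQ 20909 Q20909 (allL N20909 (tt N22722 (iv F43661)) (tt N18463 F39358) (tt N22725 (iv F43672)) (tt N22726 D22764) (tt N18461 (iv D20947)) (tt N22727 D22765))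
theorem Q20911 : ∀ i, i < 20911 → P i := stepQ 20910 Q20910 (allL N20910 (tt N22723 (iv F43665)) (tt N18465 F39359) (tt N22728 D22766) (tt N18462 (iv D20948)) (tt N22726 (iv F43674)) (tt N22729 D22767))
theorem Q20912 : ∀ i, i < 20912 → P i := stepQ 20911 Q20911 (allL N20911 (tt N22724 (iv F43666)) (tt N18466 F39360) (tt N18469 F39361) (tt N22729 (iv F43679)) (tt N19747 F39362) (tt N18462 (iv D20949)))
theorem Q20913 : ∀ i, i < 20913 → P i := stepQ 20912 Q20912 (allL N20912 (tt N19355 F39363) (tt N22726 (iv F43673)) (tt N22730 D22768) (tt N18463 (iv D20950)) (tt N18465 F39364) (tt N22731 D22769))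
theorem Q20914 : ∀ i, i < 20914 → P i := stepQ 20913 Q20913 (allL N20913 (tt N18707 F39365) (tt N22727 (iv F43676)) (tt N19354 F39366) (tt N22731 (iv F43683)) (tt N18705 (iv F39367)) (tt N18463 (iv D20951)))
theorem Q20915 : ∀ i, i < 20915 → P i := stepQ 20914 Q20914 (allL N20914 (tt N18475 F39368) (tt N18667 F39369) (tt N18473 F39370) (tt N18706 F39371) (tt N18464 (iv D20952)) (tt N18705 F39372))
theorem Q20916 : ∀ i, i < 20916 → P i := stepQ 20915 Q20915 (allL N20915 (tt N22721 (iv F43657)) (tt N22719 (iv F43653)) (tt N18465 (iv D20953)) (tt N19809 F39373) (tt N22730 (iv F43681)) (tt N22552 (iv F43314)))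
theorem Q20917 : ∀ i, i < 20917 → P i := stepQ 20916 Q20916 (allL N20916 (tt N22538 (iv F43268)) (tt N22729 (iv F43678)) (tt N22552 (iv F43315)) (tt N18466 F39374) (tt N22536 (iv F43262)) (tt N18465 (iv D20954)))
theorem Q20918 : ∀ i, i < 20918 → P i := stepQ 20917 Q20917 (allL N20917 (tt N18468 F39375) (tt N19818 F39376) (tt N22732 D22770) (tt N18467 (iv D20955)) (tt N19745 F39377) (tt N19792 (iv F39378)))
theorem Q20919 : ∀ i, i < 20919 → P i := stepQ 20918 Q20918 (allL N20918 (tt N18469 F39379) (tt N19819 F39380) (tt N22724 (iv F43668)) (tt N19792 F39381) (tt N19744 F39382) (tt N18467 (iv D20956)))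
theorem Q20920 : ∀ i, i < 20920 → P i := stepQ 20919 Q20919 (allL N20919 (tt N22732 (iv F43685)) (tt N19808 F39383) (tt N18468 (iv D20957)) (tt N22733 D22771) (tt N19748 F39384) (tt N19796 F39385))
theorem Q20921 : ∀ i, i < 20921 → P i := stepQ 20920 Q20920 (allL N20920 (tt N22734 D22772) (tt N18470 (iv D20958)) (tt N22569 (iv F43358)) (tt N22735 D22773) (tt N22598 (iv F43409)) (tt N22736 D22774))
theorem Q20922 : ∀ i, i < 20922 → P i := stepQ 20921 Q20921 (allL N20921 (tt N22552 (iv F43313)) (tt N22735 (iv F43690)) (tt N22538 (iv F43270)) (tt N18470 (iv D20959)) (tt N22539 (iv F43273)) (tt N22721 (iv F43660)))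
theorem Q20923 : ∀ i, i < 20923 → P i := stepQ 20922 Q20922 (allL N20922 (tt N19809 F39386) (tt N22736 (iv F43691)) (tt N18471 F39387) (tt N22721 (iv F43658)) (tt N22737 D22775) (tt N18470 (iv D20960)))
theorem Q20924 : ∀ i, i < 20924 → P i := stepQ 20923 Q20923 (allL N20923 (tt N19762 F39388) (tt N19834 F39389) (tt N22737 (iv F43693)) (tt N19761 F39390) (tt N18471 (iv D20961)) (tt N22599 (iv F43415)))
theorem Q20925 : ∀ i, i < 20925 → P i := stepQ 20924 Q20924 (allL N20924 (tt N19352 F39391) (tt N18474 F39392) (tt N19378 F39395) (tt N18472 (iv D20962)) (tt N19378 F39393) (tt N19902 F39394))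
theorem Q20926 : ∀ i, i < 20926 → P i := stepQ 20925 Q20925 (allL N20925 (tt N18476 F39396) (tt N19378 F39397) (tt N19899 F39399) (tt N18473 (iv D20963)) (tt N18474 F39398) (tt N22738 D22776))
theorem Q20927 : ∀ i, i < 20927 → P i := stepQ 20926 Q20926 (allL N20926 (tt N18477 F39400) (tt N19379 F39401) (tt N18705 F39402) (tt N22738 (iv F43698)) (tt N19354 F39403) (tt N18473 (iv D20964)))
theorem Q20928 : ∀ i, i < 20928 → P i := stepQ 20927 Q20927 (allL N20927 (tt N19899 F39404) (tt N22739 D22777) (tt N18476 (iv D20965)) (tt N19898 F39406) (tt N18478 F39405) (tt N22740 D22778))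
theorem Q20929 : ∀ i, i < 20929 → P i := stepQ 20928 Q20928 (allL N20928 (tt N22738 (iv F43695)) (tt N19358 F39407) (tt N22740 (iv F43707)) (tt N18477 F39408) (tt N19906 F39409) (tt N18476 (iv D20966)))
theorem Q20930 : ∀ i, i < 20930 → P i := stepQ 20929 Q20929 (allL N20929 (tt N22739 (iv F43700)) (tt N18478 (iv D20967)) (tt N19360 F39410) (tt N19883 F39411) (tt N22739 (iv F43703)) (tt N19904 F39412))
theorem Q20931 : ∀ i, i < 20931 → P i := stepQ 20930 Q20930 (allL N20930 (tt N22741 D22779) (tt N18479 (iv D20968)) (tt N22455 (iv F43038)) (tt N19904 F39413) (tt N22608 (iv F43436)) (tt N19883 F39414))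
theorem Q20932 : ∀ i, i < 20932 → P i := stepQ 20931 Q20931 (allL N20931 (tt N18480 (iv D20969)) (tt N22741 (iv F43710)) (tt N18482 F39415) (tt N22740 (iv F43708)) (tt N22537 (iv F43265)) (tt N19898 F39416))
theorem Q20933 : ∀ i, i < 20933 → P i := stepQ 20932 Q20932 (allL N20932 (tt N22740 (iv F43705)) (tt N18481 F39417) (tt N22738 (iv F43697)) (tt N18480 (iv D20970)) (tt N22742 D22780) (tt N19899 F39418))
theorem Q20934 : ∀ i, i < 20934 → P i := stepQ 20933 Q20933 (allL N20933 (tt N19905 F39419) (tt N22742 (iv F43714)) (tt N19903 F39420) (tt N22611 (iv F43445)) (tt N18481 (iv D20971)) (tt N22742 (iv F43716)))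
theorem Q20935 : ∀ i, i < 20935 → P i := stepQ 20934 Q20934 (allL N20934 (tt N18683 F39421) (tt N18484 F39422) (tt N21049 (iv F39741)) (tt N18502 F39423) (tt N18566 F39424) (tt N18483 (iv D20972)))
theorem Q20936 : ∀ i, i < 20936 → P i := stepQ 20935 Q20935 (allL N20935 (tt N18537 F39425) (tt N20549 F39426) (tt N21145 (iv F39926)) (tt N18486 F39427) (tt N22743 D22781) (tt N18485 (iv D20973)))
theorem Q20937 : ∀ i, i < 20937 → P i := stepQ 20936 Q20936 (allL N20936 (tt N18503 F39428) (tt N18686 F39429) (tt N18500 F39430) (tt N18875 F39431) (tt N18487 (iv D20974)) (tt N22743 (iv F43721)))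
theorem Q20938 : ∀ i, i < 20938 → P i := stepQ 20937 Q20937 (allL N20937 (tt N18493 F39432) (tt N18501 F39433) (tt N18488 (iv D20975)) (tt N22744 D22782) (tt N18490 F39434) (tt N22745 D22783))
theorem Q20939 : ∀ i, i < 20939 → P i := stepQ 20938 Q20938 (allL N20938 (tt N18494 F39435) (tt N18572 F39436) (tt N22745 (iv F43727)) (tt N18489 F39437) (tt N18540 F39438) (tt N18488 (iv D20976)))
theorem Q20940 : ∀ i, i < 20940 → P i := stepQ 20939 Q20939 (allL N20939 (tt N20424 F39439) (tt N22746 D22784) (tt N18491 (iv D20977)) (tt N22747 D22785) (tt N20423 F39440) (tt N22748 D22786))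
theorem Q20941 : ∀ i, i < 20941 → P i := stepQ 20940 Q20940 (allL N20940 (tt N20425 F39441) (tt N18568 F39442) (tt N22748 (iv F43735)) (tt N18492 F39443) (tt N22749 D22787) (tt N18491 (iv D20978)))
theorem Q20942 : ∀ i, i < 20942 → P i := stepQ 20941 Q20941 (allL N20941 (tt N22745 (iv F43725)) (tt N18493 (iv D20979)) (tt N18494 F39444) (tt N22750 D22788) (tt N18495 F39445) (tt N18493 (iv F39446)))
theorem Q20943 : ∀ i, i < 20943 → P i := stepQ 20942 Q20942 (allL N20942 (tt N22744 (iv F43722)) (tt N22750 (iv F43740)) (tt N22751 D22789) (tt N18493 (iv D20980)) (tt N22752 D22790) (tt N22750 (iv F43741)))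
theorem Q20944 : ∀ i, i < 20944 → P i := stepQ 20943 Q20943 (allL N20943 (tt N18495 (iv D20981)) (tt N18496 F39447) (tt N18540 F39448) (tt N18495 (iv F39450)) (tt N22745 (iv F43728)) (tt N18497 F39449))
theorem Q20945 : ∀ i, i < 20945 → P i := stepQ 20944 Q20944 (allL N20944 (tt N18501 F39451) (tt N22745 (iv F43726)) (tt N18498 F39452) (tt N22752 (iv F43746)) (tt N18496 (iv D20982)) (tt N18501 F39453))
theorem Q20946 : ∀ i, i < 20946 → P i := stepQ 20945 Q20945 (allL N20945 (tt N22247 (iv F42588)) (tt N18685 F39454) (tt N18499 (iv D20983)) (tt N19372 F39455) (tt N22753 D22791) (tt N19371 F39456))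
theorem Q20947 : ∀ i, i < 20947 → P i := stepQ 20946 Q20946 (allL N20946 (tt N20607 F39457) (tt N18500 F39458) (tt N22753 (iv F43750)) (tt N20606 F39459) (tt N18499 (iv D20984)) (tt N22273 (iv F42668)))
theorem Q20948 : ∀ i, i < 20948 → P i := stepQ 20947 Q20947 (allL N20947 (tt N18504 F39460) (tt N22273 (iv F42667)) (tt N22743 (iv F43719)) (tt N20615 F39461) (tt N21145 (iv F39927)) (tt N18500 (iv D20985)))
theorem Q20949 : ∀ i, i < 20949 → P i := stepQ 20948 Q20948 (allL N20948 (tt N22752 (iv F43745)) (tt N22744 (iv F43723)) (tt N22754 D22792) (tt N18501 (iv D20986)) (tt N22744 (iv F43724)) (tt N22752 F43747))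
theorem Q20950 : ∀ i, i < 20950 → P i := stepQ 20949 Q20949 (allL N20949 (tt N18502 (iv D20987)) (tt N18684 F39462) (tt N20820 F39463) (tt N18683 F39464) (tt N20437 F39465) (tt N21113 (iv F39854)))
theorem Q20951 : ∀ i, i < 20951 → P i := stepQ 20950 Q20950 (allL N20950 (tt N18875 F39466) (tt N20436 F39467) (tt N22755 D22793) (tt N18503 (iv D20988)) (tt N18873 F39468) (tt N22749 (iv F43739)))
theorem Q20952 : ∀ i, i < 20952 → P i := stepQ 20951 Q20951 (allL N20951 (tt N22743 (iv F43717)) (tt N20532 F39469) (tt N18504 F39470) (tt N22749 (iv F43738)) (tt N18537 F39471) (tt N18503 (iv D20989)))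
theorem Q20953 : ∀ i, i < 20953 → P i := stepQ 20952 Q20952 (allL N20952 (tt N18522 F39472) (tt N22756 D22794) (tt N18505 (iv D20990)) (tt N20088 F39473) (tt N18506 F39474) (tt N20087 F39475))
theorem Q20954 : ∀ i, i < 20954 → P i := stepQ 20953 Q20953 (allL N20953 (tt N20184 F39476) (tt N18506 (iv D20991)) (tt N19705 F39477) (tt N22327 (iv F42800)) (tt N22756 (iv F43758)) (tt N20181 F39478))
theorem Q20955 : ∀ i, i < 20955 → P i := stepQ 20954 Q20954 (allL N20954 (tt N21713 (iv F41337)) (tt N18507 (iv D20992)) (tt N18514 F39479) (tt N18542 F39480) (tt N19702 F39481) (tt N21907 (iv F41834)))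
theorem Q20956 : ∀ i, i < 20956 → P i := stepQ 20955 Q20955 (allL N20955 (tt N18509 (iv D20993)) (tt N21713 (iv F41338)) (tt N18510 F39482) (tt N18523 F39483) (tt N19708 F39484) (tt N18511 F39485))
theorem Q20957 : ∀ i, i < 20957 → P i := stepQ 20956 Q20956 (allL N20956 (tt N21907 (iv F41831)) (tt N18511 (iv D20994)) (tt N20686 F39486) (tt N18618 F39487) (tt N20629 F39488) (tt N21713 (iv F41339)))
theorem Q20958 : ∀ i, i < 20958 → P i := stepQ 20957 Q20957 (allL N20957 (tt N18513 F39489) (tt N20689 F39490) (tt N22757 D22795) (tt N18512 (iv D20995)) (tt N19709 F39491) (tt N20391 F39492))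
theorem Q20959 : ∀ i, i < 20959 → P i := stepQ 20958 Q20958 (allL N20958 (tt N22757 (iv F43760)) (tt N20557 F39493) (tt N18513 (iv D20996)) (tt N22758 D22796) (tt N19710 F39494) (tt N20392 F39495))
theorem Q20960 : ∀ i, i < 20960 → P i := stepQ 20959 Q20959 (allL N20959 (tt N20686 F39496) (tt N18515 F39497) (tt N21907 (iv F41833)) (tt N21895 (iv F41799)) (tt N21086 (iv F39817)) (tt N18514 (iv D20997)))
theorem Q20961 : ∀ i, i < 20961 → P i := stepQ 20960 Q20960 (allL N20960 (tt N22641 (iv F43504)) (tt N20691 F39498) (tt N21939 (iv F41905)) (tt N21103 (iv F39838)) (tt N18518 (iv D20998)) (tt N20904 F39499))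
theorem Q20962 : ∀ i, i < 20962 → P i := stepQ 20961 Q20961 (allL N20961 (tt N20188 F39500) (tt N18521 F39501) (tt N20185 F39502) (tt N18520 (iv D20999)) (tt N19876 F39503) (tt N18727 F39504))
theorem Q20963 : ∀ i, i < 20963 → P i := stepQ 20962 Q20962 (allL N20962 (tt N19889 F39505) (tt N22759 D22797) (tt N18521 (iv D21000)) (tt N22760 D22798) (tt N19878 F39506) (tt N22544 (iv F43290)))
theorem Q20964 : ∀ i, i < 20964 → P i := stepQ 20963 Q20963 (allL N20963 (tt N22643 (iv F43510)) (tt N18543 F39507) (tt N19618 F39508) (tt N19699 F39509) (tt N18531 F39510) (tt N18524 (iv D21001)))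
theorem Q20965 : ∀ i, i < 20965 → P i := stepQ 20964 Q20964 (allL N20964 (tt N21003 (iv F39621)) (tt N18527 F39511) (tt N21002 (iv F39619)) (tt N18617 F39512) (tt N18526 (iv D21002)) (tt N22761 D22799))
theorem Q20966 : ∀ i, i < 20966 → P i := stepQ 20965 Q20965 (allL N20965 (tt N18531 F39513) (tt N22761 (iv F43774)) (tt N22034 (iv F42106)) (tt N18619 F39514) (tt N22643 (iv F43513)) (tt N18527 (iv D21003)))
theorem Q20967 : ∀ i, i < 20967 → P i := stepQ 20966 Q20966 (allL N20966 (tt N21037 (iv F39707)) (tt N18531 F39515) (tt N21035 (iv F39701)) (tt N18623 F39516) (tt N18543 F39517) (tt N18528 (iv D21004)))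
theorem Q20968 : ∀ i, i < 20968 → P i := stepQ 20967 Q20967 (allL N20967 (tt N21829 (iv F41639)) (tt N18530 F39518) (tt N21825 (iv F41628)) (tt N22762 D22800) (tt N18529 (iv D21005)) (tt N22763 D22801))
theorem Q20969 : ∀ i, i < 20969 → P i := stepQ 20968 Q20968 (allL N20968 (tt N22027 (iv F42095)) (tt N22762 (iv F43776)) (tt N22764 D22802) (tt N18530 (iv D21006)) (tt N19619 F39519) (tt N22765 D22803))
theorem Q20970 : ∀ i, i < 20970 → P i := stepQ 20969 Q20969 (allL N20969 (tt N22034 (iv F42104)) (tt N22763 (iv F43778)) (tt N18531 F39520) (tt N22765 (iv F43784)) (tt N19618 F39521) (tt N18530 (iv D21007)))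
theorem Q20971 : ∀ i, i < 20971 → P i := stepQ 20970 Q20970 (allL N20970 (tt N21142 (iv F39916)) (tt N22619 (iv F43464)) (tt N18533 (iv D21008)) (tt N20066 F39522) (tt N21874 (iv F41742)) (tt N22615 (iv F43455)))
theorem Q20972 : ∀ i, i < 20972 → P i := stepQ 20971 Q20971 (allL N20971 (tt N21824 (iv F41623)) (tt N18537 F39523) (tt N18607 F39524) (tt N18536 F39525) (tt N20532 F39526) (tt N18535 (iv D21009)))
theorem Q20973 : ∀ i, i < 20973 → P i := stepQ 20972 Q20972 (allL N20972 (tt N18555 F39527) (tt N19224 F39528) (tt N18606 (iv F39530)) (tt N18538 (iv D21010)) (tt N18559 F39529) (tt N22766 D22804))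
theorem Q20974 : ∀ i, i < 20974 → P i := stepQ 20973 Q20973 (allL N20973 (tt N19241 F39531) (tt N21771 (iv F41485)) (tt N18539 F39532) (tt N22766 (iv F43788)) (tt N21774 (iv F41494)) (tt N18538 (iv D21011)))
theorem Q20975 : ∀ i, i < 20975 → P i := stepQ 20974 Q20974 (allL N20974 (tt N20446 F39533) (tt N20453 F39534) (tt N18545 (iv D21012)) (tt N20445 F39535) (tt N21714 (iv F41342)) (tt N20533 F39536))
theorem Q20976 : ∀ i, i < 20976 → P i := stepQ 20975 Q20975 (allL N20975 (tt N22228 (iv F42541)) (tt N18549 (iv D21013)) (tt N20161 F39537) (tt N21924 (iv F41865)) (tt N18550 F39538) (tt N20160 F39539))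
theorem Q20977 : ∀ i, i < 20977 → P i := stepQ 20976 Q20976 (allL N20976 (tt N18550 (iv D21014)) (tt N20454 F39540) (tt N20456 F39541) (tt N20525 (iv F39543)) (tt N22228 (iv F42543)) (tt N20535 F39542))
theorem Q20978 : ∀ i, i < 20978 → P i := stepQ 20977 Q20977 (allL N20977 (tt N20525 F39544) (tt N18551 F39545) (tt N19139 F39547) (tt N18550 (iv D21015)) (tt N22767 D22805) (tt N18553 F39546))
theorem Q20979 : ∀ i, i < 20979 → P i := stepQ 20978 Q20978 (allL N20978 (tt N18562 F39548) (tt N22767 (iv F43791)) (tt N18554 F39549) (tt N21925 (iv F41868)) (tt N18551 (iv D21016)) (tt N19230 F39550))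
theorem Q20980 : ∀ i, i < 20980 → P i := stepQ 20979 Q20979 (allL N20979 (tt N18553 (iv D21017)) (tt N18559 F39551) (tt N19144 F39552) (tt N20535 F39553) (tt N19224 F39554) (tt N20525 F39555))
theorem Q20981 : ∀ i, i < 20981 → P i := stepQ 20980 Q20980 (allL N20980 (tt N22766 (iv F43785)) (tt N18557 F39556) (tt N18608 F39557) (tt N19241 F39558) (tt N20531 F39559) (tt N18555 (iv D21018)))
theorem Q20982 : ∀ i, i < 20982 → P i := stepQ 20981 Q20981 (allL N20981 (tt N19230 F39560) (tt N20531 F39561) (tt N18558 F39562) (tt N21994 (iv F42020)) (tt N18557 (iv D21019)) (tt N18562 F39563))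
theorem Q20983 : ∀ i, i < 20983 → P i := stepQ 20982 Q20982 (allL N20982 (tt N21925 (iv F41866)) (tt N20530 F39564) (tt N21920 (iv F41855)) (tt N18562 (iv D21020)) (tt N21715 (iv F41346)) (tt N21994 (iv F42021)))
theorem Q20984 : ∀ i, i < 20984 → P i := stepQ 20983 Q20983 (allL N20983 (tt N18567 F39565) (tt N18859 F39566) (tt N18563 (iv D21021)) (tt N20813 F39568) (tt N18861 F39567) (tt N20812 (iv F39569)))
theorem Q20985 : ∀ i, i < 20985 → P i := stepQ 20984 Q20984 (allL N20984 (tt N18568 F39570) (tt N18865 F39571) (tt N20812 F39572) (tt N18564 F39573) (tt N20438 F39574) (tt N18563 (iv D21022)))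
theorem Q20986 : ∀ i, i < 20986 → P i := stepQ 20985 Q20985 (allL N20985 (tt N18861 F39575) (tt N22768 D22806) (tt N18565 (iv D21023)) (tt N22769 D22807) (tt N18567 F39576) (tt N20433 F39577))
theorem Q20987 : ∀ i, i < 20987 → P i := stepQ 20986 Q20986 (allL N20986 (tt N19171 F39578) (tt N18567 (iv D21024)) (tt N22746 (iv F43730)) (tt N22770 D22808) (tt N22768 (iv F43796)) (tt N22771 D22809))
theorem Q20988 : ∀ i, i < 20988 → P i := stepQ 20987 Q20987 (allL N20987 (tt N20813 F39579) (tt N22770 (iv F43804)) (tt N22586 (iv F43389)) (tt N18567 (iv D21025)) (tt N22772 D22810) (tt N20810 F39580))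
theorem Q20989 : ∀ i, i < 20989 → P i := stepQ 20988 Q20988 (allL N20988 (tt N20812 F39581) (tt N22771 (iv F43807)) (tt N18568 F39582) (tt N20810 F39583) (tt N20811 (iv F39584)) (tt N18567 (iv D21026)))
theorem Q20990 : ∀ i, i < 20990 → P i := stepQ 20989 Q20989 (allL N20989 (tt N20438 F39585) (tt N22749 (iv F43737)) (tt N20811 F39586) (tt N20532 F39587) (tt N18568 (iv D21027)) (tt N20436 F39588))
theorem Q20991 : ∀ i, i < 20991 → P i := stepQ 20990 Q20990 (allL N20990 (tt N20357 F39589) (tt N18570 F39590) (tt N19826 (iv F39592)) (tt N18569 (iv D21028)) (tt N21045 (iv F39732)) (tt N19824 F39591))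
theorem Q20992 : ∀ i, i < 20992 → P i := stepQ 20991 Q20991 (allL N20991 (tt N18573 (iv D21029)) (tt N21770 (iv F41482)) (tt N19239 F39593) (tt N22617 (iv F43462)) (tt N21716 (iv F41349)) (tt N18574 F39594))
theorem Q20993 : ∀ i, i < 20993 → P i := stepQ 20992 Q20992 (allL N20992 (tt N18577 F39595) (tt N20112 F39596) (tt N19991 F39597) (tt N21708 (iv F41321)) (tt N19990 F39598) (tt N18575 (iv D21030)))
theorem Q20994 : ∀ i, i < 20994 → P i := stepQ 20993 Q20993 (allL N20993 (tt N18578 F39599) (tt N20111 F39600) (tt N22773 D22811) (tt N18576 (iv D21031)) (tt N20110 F39601) (tt N21705 (iv F41312)))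
theorem Q20995 : ∀ i, i < 20995 → P i := stepQ 20994 Q20994 (allL N20994 (tt N22773 (iv F43813)) (tt N22774 D22812) (tt N18578 (iv D21032)) (tt N22775 D22813) (tt N21707 (iv F41316)) (tt N22477 (iv F43100)))
theorem Q20996 : ∀ i, i < 20996 → P i := stepQ 20995 Q20995 (allL N20995 (tt N22776 D22814) (tt N18579 (iv D21033)) (tt N22774 (iv F43815)) (tt N21833 (iv F41649)) (tt N21403 F40571) (tt N21843 (iv F41672)))
theorem Q20997 : ∀ i, i < 20997 → P i := stepQ 20996 Q20996 (allL N20996 (tt N18583 F39602) (tt N20052 F39603) (tt N22089 (iv F42248)) (tt N18580 (iv D21034)) (tt N22777 D22815) (tt N20029 F39604))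
theorem Q20998 : ∀ i, i < 20998 → P i := stepQ 20997 Q20997 (allL N20997 (tt N18584 F39605) (tt N20054 F39606) (tt N18581 F39607) (tt N22281 (iv F42679)) (tt N18580 (iv D21035)) (tt N18584 F39608))
theorem Q20999 : ∀ i, i < 20999 → P i := stepQ 20998 Q20998 (allL N20998 (tt N22089 (iv F42247)) (tt N20023 F39609) (tt N18583 (iv D21036)) (tt N22503 (iv F43163)) (tt N22778 D22816) (tt N20024 F39610))
theorem Q21000 : ∀ i, i < 21000 → P i := stepQ 20999 Q20999 (allL N20999 (tt N22777 (iv F43817)) (tt N20028 F39611) (tt N22778 (iv F43821)) (tt N22779 D22817) (tt N18583 (iv D21037)) (tt N22780 D22818))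
theorem Q21001 : ∀ i, i < 21001 → P i := stepQ 21000 Q21000 (allL N21000 (tt N22281 (iv F42678)) (tt N20053 F39612) (tt N22781 D22819) (tt N18584 (iv D21038)) (tt N22779 (iv F43823)) (tt N22281 (iv F42680)))
theorem Q21002 : ∀ i, i < 21002 → P i := stepQ 21001 Q21001 (allL N21001 (tt N20056 F39613) (tt N19564 F39614) (tt N22338 (iv F42819)) (tt N18590 (iv D21039)) (tt N19654 F39615) (tt N19568 F39616))
theorem Q21003 : ∀ i, i < 21003 → P i := stepQ 21002 Q21002 (allL N21002 (tt N18593 F39617) (tt N20522 F39618) (tt N20964 F39619) (tt N18600 F39620) (tt N18591 (iv D21040)) (tt N22782 D22820))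
theorem Q21004 : ∀ i, i < 21004 → P i := stepQ 21003 Q21003 (allL N21003 (tt N20964 F39621) (tt N20790 F39622) (tt N18593 F39623) (tt N21022 (iv F39672)) (tt N18592 (iv D21041)) (tt N22783 D22821))
theorem Q21005 : ∀ i, i < 21005 → P i := stepQ 21004 Q21004 (allL N21004 (tt N22782 (iv F43827)) (tt N18597 F39624) (tt N22783 (iv F43834)) (tt N18604 F39625) (tt N20154 F39626) (tt N18593 (iv D21042)))
theorem Q21006 : ∀ i, i < 21006 → P i := stepQ 21005 Q21005 (allL N21005 (tt N20819 F39627) (tt N18598 F39628) (tt N22784 D22822) (tt N18595 (iv D21043)) (tt N20158 F39629) (tt N18605 F39630))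
theorem Q21007 : ∀ i, i < 21007 → P i := stepQ 21006 Q21006 (allL N21006 (tt N19139 F39631) (tt N18599 (iv D21044)) (tt N20525 F39632) (tt N19138 (iv F39634)) (tt N22785 D22823) (tt N19144 F39633))
theorem Q21008 : ∀ i, i < 21008 → P i := stepQ 21007 Q21007 (allL N21007 (tt N18602 F39635) (tt N19138 F39636) (tt N22514 (iv F43195)) (tt N18599 (iv D21045)) (tt N22786 D22824) (tt N19150 F39637))
theorem Q21009 : ∀ i, i < 21009 → P i := stepQ 21008 Q21008 (allL N21008 (tt N18603 F39638) (tt N22785 (iv F43841)) (tt N18600 F39639) (tt N22787 D22825) (tt N18599 (iv D21046)) (tt N21140 (iv F39914)))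
theorem Q21010 : ∀ i, i < 21010 → P i := stepQ 21009 Q21009 (allL N21009 (tt N18604 F39640) (tt N20527 F39641) (tt N21140 (iv F39913)) (tt N22782 (iv F43830)) (tt N20551 F39642) (tt N18600 (iv D21047)))
theorem Q21011 : ∀ i, i < 21011 → P i := stepQ 21010 Q21010 (allL N21010 (tt N18605 F39643) (tt N20528 F39644) (tt N22788 D22826) (tt N18601 (iv D21048)) (tt N20550 F39645) (tt N20819 F39646))
theorem Q21012 : ∀ i, i < 21012 → P i := stepQ 21011 Q21011 (allL N21011 (tt N22514 (iv F43193)) (tt N19125 F39647) (tt N18602 (iv D21049)) (tt N22513 F43192) (tt N22789 D22827) (tt N19151 F39648))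
theorem Q21013 : ∀ i, i < 21013 → P i := stepQ 21012 Q21012 (allL N21012 (tt N22786 (iv F43844)) (tt N19127 F39649) (tt N22789 (iv F43852)) (tt N22790 D22828) (tt N18602 (iv D21050)) (tt N22791 D22829))
theorem Q21014 : ∀ i, i < 21014 → P i := stepQ 21013 Q21013 (allL N21013 (tt N22787 (iv F43846)) (tt N19154 F39650) (tt N22430 (iv F42990)) (tt N18603 (iv D21051)) (tt N22790 (iv F43854)) (tt N21136 F39906))
theorem Q21015 : ∀ i, i < 21015 → P i := stepQ 21014 Q21014 (allL N21014 (tt N22788 (iv F43847)) (tt N22275 (iv F42671)) (tt N18605 (iv D21052)) (tt N22792 D22830) (tt N20552 F39651) (tt N22784 (iv F43839)))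
theorem Q21016 : ∀ i, i < 21016 → P i := stepQ 21015 Q21015 (allL N21015 (tt N18607 F39652) (tt N20550 F39653) (tt N21824 (iv F41624)) (tt N18606 (iv D21053)) (tt N20528 F39654) (tt N21823 F41622))
theorem Q21017 : ∀ i, i < 21017 → P i := stepQ 21016 Q21016 (allL N21016 (tt N18608 F39655) (tt N20551 F39656) (tt N22766 (iv F43787)) (tt N21823 (iv F41621)) (tt N20527 F39657) (tt N18606 (iv D21054)))
theorem Q21018 : ∀ i, i < 21018 → P i := stepQ 21017 Q21017 (allL N21017 (tt N18610 F39658) (tt N20419 F39659) (tt N22516 (iv F43202)) (tt N18609 (iv D21055)) (tt N22793 D22831) (tt N20407 F39660))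
theorem Q21019 : ∀ i, i < 21019 → P i := stepQ 21018 Q21018 (allL N21018 (tt N22516 (iv F43200)) (tt N20416 F39661) (tt N18610 (iv D21056)) (tt N22512 (iv F43186)) (tt N22794 D22832) (tt N20408 F39662))
theorem Q21020 : ∀ i, i < 21020 → P i := stepQ 21019 Q21019 (allL N21019 (tt N22793 (iv F43859)) (tt N20411 F39663) (tt N22794 (iv F43864)) (tt N22795 D22833) (tt N18610 (iv D21057)) (tt N22796 D22834))
theorem Q21021 : ∀ i, i < 21021 → P i := stepQ 21020 Q21020 (allL N21020 (tt N21852 (iv F41689)) (tt N20412 F39664) (tt N22760 (iv F43773)) (tt N18611 (iv D21058)) (tt N22795 (iv F43867)) (tt N21844 (iv F41676)))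
theorem Q21022 : ∀ i, i < 21022 → P i := stepQ 21021 Q21021 (allL N21021 (tt N20413 F39665) (tt N20815 F39666) (tt N18615 F39667) (tt N21381 (iv F40525)) (tt N20315 F39668) (tt N18614 (iv D21059)))
theorem Q21023 : ∀ i, i < 21023 → P i := stepQ 21022 Q21022 (allL N21022 (tt N18617 F39669) (tt N18620 F39670) (tt N20510 F39671) (tt N21003 F39672) (tt N18616 (iv D21060)) (tt N22797 D22835))
theorem Q21024 : ∀ i, i < 21024 → P i := stepQ 21023 Q21023 (allL N21023 (tt N22797 (iv F43870)) (tt N18619 F39673) (tt N20512 F39674) (tt N22761 (iv F43775)) (tt N20630 F39675) (tt N18617 (iv D21061)))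
theorem Q21025 : ∀ i, i < 21025 → P i := stepQ 21024 Q21024 (allL N21024 (tt N18623 F39676) (tt N22797 (iv F43871)) (tt N22527 (iv F43239)) (tt N21037 (iv F39709)) (tt N20573 F39677) (tt N18620 (iv D21062)))
theorem Q21026 : ∀ i, i < 21026 → P i := stepQ 21025 Q21025 (allL N21025 (tt N20508 F39678) (tt N18622 F39679) (tt N18624 F39680) (tt N22798 D22836) (tt N18621 (iv D21063)) (tt N22799 D22837))
theorem Q21027 : ∀ i, i < 21027 → P i := stepQ 21026 Q21026 (allL N21026 (tt N22526 (iv F43235)) (tt N22798 (iv F43876)) (tt N22202 (iv F42484)) (tt N18622 (iv D21064)) (tt N22521 (iv F43221)) (tt N22800 D22838))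
theorem Q21028 : ∀ i, i < 21028 → P i := stepQ 21027 Q21027 (allL N21027 (tt N22527 (iv F43237)) (tt N22799 (iv F43878)) (tt N18623 F39681) (tt N22800 (iv F43881)) (tt N20576 F39682) (tt N18622 (iv D21065)))
theorem Q21029 : ∀ i, i < 21029 → P i := stepQ 21028 Q21028 (allL N21028 (tt N18971 F39683) (tt N18625 F39684) (tt N22801 D22839) (tt N18624 (iv D21066)) (tt N18970 F39685) (tt N22802 D22840))
theorem Q21030 : ∀ i, i < 21030 → P i := stepQ 21029 Q21029 (allL N21029 (tt N20509 F39686) (tt N18626 F39687) (tt N22799 (iv F43879)) (tt N22802 (iv F43886)) (tt N20627 F39688) (tt N18624 (iv D21067)))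
theorem Q21031 : ∀ i, i < 21031 → P i := stepQ 21030 Q21030 (allL N21030 (tt N19000 F39689) (tt N22803 D22841) (tt N18625 (iv D21068)) (tt N22804 D22842) (tt N18998 F39690) (tt N22805 D22843))
theorem Q21032 : ∀ i, i < 21032 → P i := stepQ 21031 Q21031 (allL N21031 (tt N19001 F39691) (tt N22802 (iv F43885)) (tt N22805 (iv F43892)) (tt N18626 F39692) (tt N19028 F39693) (tt N18625 (iv D21069)))
theorem Q21033 : ∀ i, i < 21033 → P i := stepQ 21032 Q21032 (allL N21032 (tt N22012 (iv F42067)) (tt N21781 (iv F41507)) (tt N18632 (iv D21070)) (tt N22806 D22844) (tt N22011 (iv F42066)) (tt N22807 D22845))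
theorem Q21034 : ∀ i, i < 21034 → P i := stepQ 21033 Q21033 (allL N21033 (tt N22013 (iv F42071)) (tt N20590 F39694) (tt N22807 (iv F43899)) (tt N18633 F39695) (tt N20589 (iv F39696)) (tt N18632 (iv D21071)))
theorem Q21035 : ∀ i, i < 21035 → P i := stepQ 21034 Q21034 (allL N21034 (tt N19663 F39697) (tt N18636 F39698) (tt N21797 (iv F41543)) (tt N18635 (iv D21072)) (tt N22808 D22846) (tt N19658 F39699))
theorem Q21036 : ∀ i, i < 21036 → P i := stepQ 21035 Q21035 (allL N21035 (tt N18639 F39700) (tt N22808 (iv F43903)) (tt N20966 F39701) (tt N20141 F39702) (tt N18636 (iv D21073)) (tt N20789 F39703))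
theorem Q21037 : ∀ i, i < 21037 → P i := stepQ 21036 Q21036 (allL N21036 (tt N22809 D22847) (tt N18638 (iv D21074)) (tt N20154 F39704) (tt N18687 F39705) (tt N22783 (iv F43835)) (tt N20156 F39706))
theorem Q21038 : ∀ i, i < 21038 → P i := stepQ 21037 Q21037 (allL N21037 (tt N20966 F39707) (tt N22783 (iv F43833)) (tt N18639 F39708) (tt N21024 F39709) (tt N18638 (iv D21075)) (tt N20790 F39710))
theorem Q21039 : ∀ i, i < 21039 → P i := stepQ 21038 Q21038 (allL N21038 (tt N18650 F39711) (tt N21470 (iv F40730)) (tt N20791 F39712) (tt N18643 F39713) (tt N18641 (iv D21076)) (tt N19409 F39714))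
theorem Q21040 : ∀ i, i < 21040 → P i := stepQ 21039 Q21039 (allL N21039 (tt N21494 (iv F40816)) (tt N18646 F39715) (tt N18642 (iv D21077)) (tt N19105 (iv F39717)) (tt N21488 (iv F40795)) (tt N18644 F39716))
theorem Q21041 : ∀ i, i < 21041 → P i := stepQ 21040 Q21040 (allL N21040 (tt N21495 (iv F40820)) (tt N18643 F39718) (tt N21488 (iv F40794)) (tt N21470 (iv F40732)) (tt N18642 (iv D21078)) (tt N19408 F39719))
theorem Q21042 : ∀ i, i < 21042 → P i := stepQ 21041 Q21041 (allL N21041 (tt N21493 (iv F40812)) (tt N18645 F39720) (tt N18937 (iv F39722)) (tt N18644 (iv D21079)) (tt N21489 (iv F40797)) (tt N19105 F39721))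
theorem Q21043 : ∀ i, i < 21043 → P i := stepQ 21042 Q21042 (allL N21042 (tt N19092 F39723) (tt N21489 (iv F40796)) (tt N18936 F39724) (tt N19196 F39725) (tt N18645 (iv D21080)) (tt N22810 D22848))
theorem Q21044 : ∀ i, i < 21044 → P i := stepQ 21043 Q21043 (allL N21043 (tt N19096 F39726) (tt N21488 (iv F40793)) (tt N18647 F39727) (tt N22811 D22849) (tt N18646 (iv D21081)) (tt N19197 F39728))
theorem Q21045 : ∀ i, i < 21045 → P i := stepQ 21044 Q21044 (allL N21044 (tt N18649 F39729) (tt N21495 (iv F40821)) (tt N19083 F39730) (tt N21643 (iv F41162)) (tt N18648 (iv D21082)) (tt N21492 (iv F40811)))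
theorem Q21046 : ∀ i, i < 21046 → P i := stepQ 21045 Q21045 (allL N21045 (tt N21643 (iv F41160)) (tt N18650 F39731) (tt N21964 (iv F41953)) (tt N18649 (iv D21083)) (tt N20990 F39732) (tt N21640 (iv F41154)))
theorem Q21047 : ∀ i, i < 21047 → P i := stepQ 21046 Q21046 (allL N21046 (tt N18671 F39733) (tt N19357 F39734) (tt N22812 D22850) (tt N18651 (iv D21084)) (tt N18652 F39735) (tt N19356 F39736))
theorem Q21048 : ∀ i, i < 21048 → P i := stepQ 21047 Q21047 (allL N21047 (tt N18672 F39737) (tt N22813 D22851) (tt N18652 (iv D21085)) (tt N18677 F39738) (tt N22812 (iv F43921)) (tt N18653 F39739))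
theorem Q21049 : ∀ i, i < 21049 → P i := stepQ 21048 Q21048 (allL N21048 (tt N22814 D22852) (tt N18653 (iv D21086)) (tt N21165 (iv F39987)) (tt N22464 (iv F43061)) (tt N21206 (iv F40117)) (tt N22813 (iv F43924)))
theorem Q21050 : ∀ i, i < 21050 → P i := stepQ 21049 Q21049 (allL N21049 (tt N18654 (iv D21087)) (tt N18675 F39740) (tt N20934 F39741) (tt N22815 D22853) (tt N18656 F39742) (tt N18721 F39743))
theorem Q21051 : ∀ i, i < 21051 → P i := stepQ 21050 Q21050 (allL N21050 (tt N22815 (iv F43927)) (tt N18655 F39744) (tt N22642 (iv F43508)) (tt N18654 (iv D21088)) (tt N21560 (iv F40984)) (tt N20585 F39745))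
theorem Q21052 : ∀ i, i < 21052 → P i := stepQ 21051 Q21051 (allL N21051 (tt N18677 F39746) (tt N22816 D22854) (tt N18655 (iv D21089)) (tt N18672 F39747) (tt N21562 (iv F40988)) (tt N18674 F39748))
theorem Q21053 : ∀ i, i < 21053 → P i := stepQ 21052 Q21052 (allL N21052 (tt N18657 (iv D21090)) (tt N19368 F39749) (tt N18667 F39750) (tt N22257 (iv F42618)) (tt N19364 F39751) (tt N22817 D22855))
theorem Q21054 : ∀ i, i < 21054 → P i := stepQ 21053 Q21053 (allL N21053 (tt N22257 (iv F42616)) (tt N18658 F39752) (tt N22258 (iv F42622)) (tt N18657 (iv D21091)) (tt N20545 F39753) (tt N22818 D22856))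
theorem Q21055 : ∀ i, i < 21055 → P i := stepQ 21054 Q21054 (allL N21054 (tt N22817 (iv F43933)) (tt N18659 F39754) (tt N18669 F39755) (tt N22818 (iv F43940)) (tt N22819 D22857) (tt N18657 (iv D21092)))
theorem Q21056 : ∀ i, i < 21056 → P i := stepQ 21055 Q21055 (allL N21055 (tt N18685 F39756) (tt N22818 (iv F43938)) (tt N18684 F39757) (tt N18659 F39758) (tt N20439 (iv F39759)) (tt N18658 (iv D21093)))
theorem Q21057 : ∀ i, i < 21057 → P i := stepQ 21056 Q21056 (allL N21056 (tt N19376 F39760) (tt N22819 (iv F43942)) (tt N18660 F39761) (tt N22820 D22858) (tt N18659 (iv D21094)) (tt N19366 F39762))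
theorem Q21058 : ∀ i, i < 21058 → P i := stepQ 21057 Q21057 (allL N21057 (tt N18708 F39763) (tt N22722 (iv F43662)) (tt N18664 F39764) (tt N22821 D22859) (tt N18663 (iv D21095)) (tt N18670 F39765))
theorem Q21059 : ∀ i, i < 21059 → P i := stepQ 21058 Q21058 (allL N21058 (tt N19356 F39766) (tt N18835 F39767) (tt N22822 D22860) (tt N18664 (iv D21096)) (tt N18665 F39768) (tt N18671 F39769))
theorem Q21060 : ∀ i, i < 21060 → P i := stepQ 21059 Q21059 (allL N21059 (tt N19363 F39770) (tt N22823 D22861) (tt N18665 (iv D21097)) (tt N21209 (iv F40120)) (tt N22822 (iv F43951)) (tt N18666 F39771))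
theorem Q21061 : ∀ i, i < 21061 → P i := stepQ 21060 Q21060 (allL N21060 (tt N21241 (iv F40194)) (tt N18666 (iv D21098)) (tt N18834 F39772) (tt N22824 D22862) (tt N18673 F39773) (tt N22823 (iv F43954)))
theorem Q21062 : ∀ i, i < 21062 → P i := stepQ 21061 Q21061 (allL N21061 (tt N21207 (iv F40118)) (tt N22824 (iv F43955)) (tt N21211 (iv F40124)) (tt N18666 (iv D21099)) (tt N22825 D22863) (tt N21209 F40121))
theorem Q21063 : ∀ i, i < 21063 → P i := stepQ 21062 Q21062 (allL N21062 (tt N18668 F39774) (tt N18706 F39775) (tt N21865 (iv F41719)) (tt N18667 (iv D21100)) (tt N19746 F39776) (tt N18691 (iv F39777)))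
theorem Q21064 : ∀ i, i < 21064 → P i := stepQ 21063 Q21063 (allL N21063 (tt N18669 F39778) (tt N18705 F39779) (tt N22817 (iv F43935)) (tt N18691 F39780) (tt N22727 (iv F43677)) (tt N18667 (iv D21101)))
theorem Q21065 : ∀ i, i < 21065 → P i := stepQ 21064 Q21064 (allL N21064 (tt N22727 (iv F43675)) (tt N18670 F39781) (tt N22819 (iv F43943)) (tt N22826 D22864) (tt N18669 (iv D21102)) (tt N22722 (iv F43664)))
theorem Q21066 : ∀ i, i < 21066 → P i := stepQ 21065 Q21065 (allL N21065 (tt N18703 F39782) (tt N22826 (iv F43959)) (tt N22827 D22865) (tt N18670 (iv D21103)) (tt N18689 F39783) (tt N22821 (iv F43949)))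
theorem Q21067 : ∀ i, i < 21067 → P i := stepQ 21066 Q21066 (allL N21066 (tt N22812 (iv F43920)) (tt N22828 D22866) (tt N18671 (iv D21104)) (tt N22829 D22867) (tt N18672 F39784) (tt N22822 (iv F43952)))
theorem Q21068 : ∀ i, i < 21068 → P i := stepQ 21067 Q21067 (allL N21067 (tt N21839 (iv F41664)) (tt N18672 (iv D21105)) (tt N18884 F39785) (tt N22816 (iv F43931)) (tt N22828 (iv F43964)) (tt N18673 F39786))
theorem Q21069 : ∀ i, i < 21069 → P i := stepQ 21068 Q21068 (allL N21068 (tt N18673 (iv D21106)) (tt N22814 (iv F43925)) (tt N18882 F39787) (tt N22830 D22868) (tt N21241 (iv F40195)) (tt N21839 (iv F41665)))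
theorem Q21070 : ∀ i, i < 21070 → P i := stepQ 21069 Q21069 (allL N21069 (tt N22830 (iv F43965)) (tt N18674 F39788) (tt N21827 (iv F41635)) (tt N18673 (iv D21107)) (tt N22831 D22869) (tt N22816 (iv F43932)))
theorem Q21071 : ∀ i, i < 21071 → P i := stepQ 21070 Q21070 (allL N21070 (tt N22463 (iv F43057)) (tt N22831 (iv F43969)) (tt N20584 F39789) (tt N22825 (iv F43958)) (tt N18674 (iv D21108)) (tt N22832 D22870))
theorem Q21072 : ∀ i, i < 21072 → P i := stepQ 21071 Q21071 (allL N21071 (tt N18676 F39790) (tt N22815 (iv F43928)) (tt N20556 F39791) (tt N18675 (iv D21109)) (tt N22833 D22871) (tt N18722 F39792))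
theorem Q21073 : ∀ i, i < 21073 → P i := stepQ 21072 Q21072 (allL N21072 (tt N20556 F39793) (tt N22834 D22872) (tt N18676 (iv D21110)) (tt N20554 F39794) (tt N22835 D22873) (tt N18725 F39795))
theorem Q21074 : ∀ i, i < 21074 → P i := stepQ 21073 Q21073 (allL N21073 (tt N22833 (iv F43972)) (tt N18678 F39796) (tt N22835 (iv F43980)) (tt N18681 F39797) (tt N18676 (iv D21111)) (tt N22836 D22874))
theorem Q21075 : ∀ i, i < 21075 → P i := stepQ 21074 Q21074 (allL N21074 (tt N22837 D22875) (tt N18677 (iv D21112)) (tt N22834 (iv F43976)) (tt N22813 (iv F43923)) (tt N22838 D22876) (tt N22464 (iv F43062)))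
theorem Q21076 : ∀ i, i < 21076 → P i := stepQ 21075 Q21075 (allL N21075 (tt N21562 (iv F40987)) (tt N22838 (iv F43987)) (tt N18678 F39798) (tt N22839 D22877) (tt N18677 (iv D21113)) (tt N22840 D22878))
theorem Q21077 : ∀ i, i < 21077 → P i := stepQ 21076 Q21076 (allL N21076 (tt N21563 (iv F40989)) (tt N22836 (iv F43983)) (tt N22840 (iv F43988)) (tt N18682 F39799) (tt N22462 (iv F43055)) (tt N18678 (iv D21114)))
theorem Q21078 : ∀ i, i < 21078 → P i := stepQ 21077 Q21077 (allL N21077 (tt N18680 F39800) (tt N21552 (iv F40963)) (tt N18679 (iv D21115)) (tt N18680 F39801) (tt N22841 D22879) (tt N18709 F39802))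
theorem Q21079 : ∀ i, i < 21079 → P i := stepQ 21078 Q21078 (allL N21078 (tt N18681 F39803) (tt N21559 (iv F40982)) (tt N22841 (iv F43990)) (tt N22833 (iv F43974)) (tt N18679 (iv D21116)) (tt N22842 D22880))
theorem Q21080 : ∀ i, i < 21080 → P i := stepQ 21079 Q21079 (allL N21079 (tt N22841 (iv F43989)) (tt N21553 (iv F40965)) (tt N18681 F39804) (tt N22843 D22881) (tt N18680 (iv D21117)) (tt N22844 D22882))
theorem Q21081 : ∀ i, i < 21081 → P i := stepQ 21080 Q21080 (allL N21080 (tt N22842 (iv F43991)) (tt N18682 F39805) (tt N22844 (iv F43994)) (tt N22836 (iv F43985)) (tt N18713 F39806) (tt N18681 (iv D21118)))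
theorem Q21082 : ∀ i, i < 21082 → P i := stepQ 21081 Q21081 (allL N21081 (tt N20439 F39807) (tt N22753 (iv F43749)) (tt N18686 F39808) (tt N22845 D22883) (tt N18685 (iv D21119)) (tt N22846 D22884))
theorem Q21083 : ∀ i, i < 21083 → P i := stepQ 21082 Q21082 (allL N21082 (tt N20440 F39809) (tt N22743 (iv F43718)) (tt N22846 (iv F44001)) (tt N18876 F39810) (tt N20549 F39811) (tt N18686 (iv D21120)))
theorem Q21084 : ∀ i, i < 21084 → P i := stepQ 21083 Q21083 (allL N21083 (tt N18687 (iv D21121)) (tt N21863 (iv F41711)) (tt N18691 F39812) (tt N22809 (iv F43909)) (tt N22469 (iv F43079)) (tt N21865 (iv F41722)))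
theorem Q21085 : ∀ i, i < 21085 → P i := stepQ 21084 Q21084 (allL N21084 (tt N18688 (iv D21122)) (tt N18700 F39813) (tt N22469 (iv F43078)) (tt N22847 D22885) (tt N18691 F39814) (tt N22495 (iv F43133)))
theorem Q21086 : ∀ i, i < 21086 → P i := stepQ 21085 Q21085 (allL N21085 (tt N22847 (iv F44004)) (tt N18689 F39815) (tt N22848 D22886) (tt N18688 (iv D21123)) (tt N22826 (iv F43960)) (tt N22849 D22887))
theorem Q21087 : ∀ i, i < 21087 → P i := stepQ 21086 Q21086 (allL N21086 (tt N22495 (iv F43130)) (tt N18690 F39816) (tt N22471 (iv F43087)) (tt N22849 (iv F44007)) (tt N20959 F39817) (tt N18688 (iv D21124)))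
theorem Q21088 : ∀ i, i < 21088 → P i := stepQ 21087 Q21087 (allL N21087 (tt N18702 F39818) (tt N22850 D22888) (tt N18689 (iv D21125)) (tt N18698 F39819) (tt N22827 (iv F43962)) (tt N18697 (iv F39820)))
theorem Q21089 : ∀ i, i < 21089 → P i := stepQ 21088 Q21088 (allL N21088 (tt N18704 F39821) (tt N22849 (iv F44006)) (tt N18697 F39822) (tt N18690 F39823) (tt N22851 D22889) (tt N18689 (iv D21126)))
theorem Q21090 : ∀ i, i < 21090 → P i := stepQ 21089 Q21089 (allL N21089 (tt N18693 F39824) (tt N21338 (iv F40416)) (tt N18692 (iv D21127)) (tt N21334 (iv F40409)) (tt N22045 (iv F42136)) (tt N21358 (iv F40461)))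
theorem Q21091 : ∀ i, i < 21091 → P i := stepQ 21090 Q21090 (allL N21090 (tt N22045 (iv F42135)) (tt N21203 (iv F40109)) (tt N18694 F39825) (tt N22852 D22890) (tt N18693 (iv D21128)) (tt N22853 D22891))
theorem Q21092 : ∀ i, i < 21092 → P i := stepQ 21091 Q21091 (allL N21091 (tt N22046 (iv F42137)) (tt N18695 F39826) (tt N22853 (iv F44018)) (tt N20587 F39827) (tt N21561 (iv F40986)) (tt N18694 (iv D21129)))
theorem Q21093 : ∀ i, i < 21093 → P i := stepQ 21092 Q21092 (allL N21092 (tt N18696 (iv D21130)) (tt N21349 F40437) (tt N21351 (iv F40442)) (tt N22854 D22892) (tt N21496 (iv F40826)) (tt N22855 D22893))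
theorem Q21094 : ∀ i, i < 21094 → P i := stepQ 21093 Q21093 (allL N21093 (tt N22854 (iv F44020)) (tt N18697 F39828) (tt N22856 D22894) (tt N18696 (iv D21131)) (tt N22857 D22895) (tt N22850 (iv F44009)))
theorem Q21095 : ∀ i, i < 21095 → P i := stepQ 21094 Q21094 (allL N21094 (tt N22855 (iv F44021)) (tt N18698 F39829) (tt N22396 F42937) (tt N22850 (iv F44008)) (tt N22858 D22896) (tt N18696 (iv D21132)))
theorem Q21096 : ∀ i, i < 21096 → P i := stepQ 21095 Q21095 (allL N21095 (tt N21502 (iv F40835)) (tt N22857 (iv F44022)) (tt N22851 (iv F44011)) (tt N21383 F40532) (tt N18697 (iv D21133)) (tt N22859 D22897))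
theorem Q21097 : ∀ i, i < 21097 → P i := stepQ 21096 Q21096 (allL N21096 (tt N21483 (iv F40775)) (tt N22858 (iv F44023)) (tt N18699 F39830) (tt N22860 D22898) (tt N18698 (iv D21134)) (tt N21480 (iv F40772)))
theorem Q21098 : ∀ i, i < 21098 → P i := stepQ 21097 Q21097 (allL N21097 (tt N18701 F39831) (tt N22847 (iv F44005)) (tt N22546 (iv F43293)) (tt N18700 (iv D21135)) (tt N22731 (iv F43684)) (tt N22536 (iv F43263)))
theorem Q21099 : ∀ i, i < 21099 → P i := stepQ 21098 Q21098 (allL N21098 (tt N22546 (iv F43292)) (tt N22861 D22899) (tt N18701 (iv D21136)) (tt N22541 (iv F43283)) (tt N22862 D22900) (tt N22539 (iv F43274)))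
theorem Q21100 : ∀ i, i < 21100 → P i := stepQ 21099 Q21099 (allL N21099 (tt N22731 (iv F43682)) (tt N18703 F39832) (tt N22862 (iv F44025)) (tt N18707 F39833) (tt N18701 (iv D21137)) (tt N19355 (iv F39834)))
theorem Q21101 : ∀ i, i < 21101 → P i := stepQ 21100 Q21100 (allL N21100 (tt N22863 D22901) (tt N18702 (iv D21138)) (tt N22861 (iv F44024)) (tt N21501 (iv F40834)) (tt N22864 D22902) (tt N21500 F40831))
theorem Q21102 : ∀ i, i < 21102 → P i := stepQ 21101 Q21101 (allL N21101 (tt N22827 (iv F43961)) (tt N22864 (iv F44027)) (tt N18703 F39835) (tt N22865 D22903) (tt N18702 (iv D21139)) (tt N22866 D22904))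
theorem Q21103 : ∀ i, i < 21103 → P i := stepQ 21102 Q21102 (allL N21102 (tt N22821 (iv F43948)) (tt N19355 F39836) (tt N22866 (iv F44028)) (tt N18708 F39837) (tt N22720 (iv F43655)) (tt N18703 (iv D21140)))
theorem Q21104 : ∀ i, i < 21104 → P i := stepQ 21103 Q21103 (allL N21103 (tt N22851 (iv F44010)) (tt N22538 (iv F43269)) (tt N21502 (iv F40837)) (tt N20960 F39838) (tt N18704 (iv D21141)) (tt N22720 (iv F43656)))
theorem Q21105 : ∀ i, i < 21105 → P i := stepQ 21104 Q21104 (allL N21104 (tt N21340 (iv F40420)) (tt N18709 (iv D21142)) (tt N21338 (iv F40417)) (tt N18711 F39839) (tt N22867 D22905) (tt N21552 (iv F40964)))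
theorem Q21106 : ∀ i, i < 21106 → P i := stepQ 21105 Q21105 (allL N21105 (tt N18712 F39840) (tt N22867 (iv F44029)) (tt N18710 F39841) (tt N22868 D22906) (tt N18709 (iv D21143)) (tt N22869 D22907))
theorem Q21107 : ∀ i, i < 21107 → P i := stepQ 21106 Q21106 (allL N21106 (tt N18713 F39842) (tt N22046 (iv F42138)) (tt N22869 (iv F44033)) (tt N21999 (iv F42038)) (tt N22842 (iv F43993)) (tt N18710 (iv D21144)))
theorem Q21108 : ∀ i, i < 21108 → P i := stepQ 21107 Q21107 (allL N21107 (tt N18711 (iv D21145)) (tt N21340 (iv F40421)) (tt N18714 F39843) (tt N21340 (iv F40422)) (tt N22870 D22908) (tt N21355 (iv F40456)))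
theorem Q21109 : ∀ i, i < 21109 → P i := stepQ 21108 Q21108 (allL N21108 (tt N22870 (iv F44034)) (tt N18712 F39844) (tt N18715 F39845) (tt N22871 D22909) (tt N18711 (iv D21146)) (tt N22872 D22910))
theorem Q21110 : ∀ i, i < 21110 → P i := stepQ 21109 Q21109 (allL N21109 (tt N22868 (iv F44030)) (tt N22871 (iv F44036)) (tt N22873 D22911) (tt N18712 (iv D21147)) (tt N22868 (iv F44031)) (tt N22874 D22912))
theorem Q21111 : ∀ i, i < 21111 → P i := stepQ 21110 Q21110 (allL N21110 (tt N22869 (iv F44032)) (tt N22872 (iv F44037)) (tt N18713 F39846) (tt N22874 (iv F44039)) (tt N22844 (iv F43995)) (tt N18712 (iv D21148)))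
theorem Q21112 : ∀ i, i < 21112 → P i := stepQ 21111 Q21111 (allL N21111 (tt N18715 F39847) (tt N20310 F39848) (tt N22870 (iv F44035)) (tt N20309 F39849) (tt N18714 (iv D21149)) (tt N22875 D22913))
theorem Q21113 : ∀ i, i < 21113 → P i := stepQ 21112 Q21112 (allL N21112 (tt N22875 (iv F44040)) (tt N18716 F39850) (tt N22872 (iv F44038)) (tt N21379 (iv F40518)) (tt N21554 (iv F40968)) (tt N18715 (iv D21150)))
theorem Q21114 : ∀ i, i < 21114 → P i := stepQ 21113 Q21113 (allL N21113 (tt N20252 F39851) (tt N18718 F39852) (tt N20254 F39855) (tt N18717 (iv D21151)) (tt N19656 F39853) (tt N20949 F39854))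
theorem Q21115 : ∀ i, i < 21115 → P i := stepQ 21114 Q21114 (allL N21114 (tt N20585 F39856) (tt N18722 F39857) (tt N20397 F39859) (tt N18721 (iv D21152)) (tt N20396 F39858) (tt N22815 (iv F43930)))
theorem Q21116 : ∀ i, i < 21116 → P i := stepQ 21115 Q21115 (allL N21115 (tt N19946 F39860) (tt N22876 D22914) (tt N18723 (iv D21153)) (tt N19943 F39861) (tt N18725 F39862) (tt N19942 (iv F39863)))
theorem Q21117 : ∀ i, i < 21117 → P i := stepQ 21116 Q21116 (allL N21116 (tt N19944 F39864) (tt N22462 (iv F43054)) (tt N19942 F39865) (tt N18724 F39866) (tt N22836 (iv F43986)) (tt N18723 (iv D21154)))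
theorem Q21118 : ∀ i, i < 21118 → P i := stepQ 21117 Q21117 (allL N21117 (tt N22877 D22915) (tt N18725 (iv D21155)) (tt N22464 (iv F43060)) (tt N21998 (iv F42033)) (tt N22876 (iv F44045)) (tt N22834 (iv F43978)))
theorem Q21119 : ∀ i, i < 21119 → P i := stepQ 21118 Q21118 (allL N21118 (tt N22878 D22916) (tt N18726 (iv D21156)) (tt N22545 (iv F43291)) (tt N22377 (iv F42894)) (tt N22879 D22917) (tt N22376 F42891))
theorem Q21120 : ∀ i, i < 21120 → P i := stepQ 21119 Q21119 (allL N21119 (tt N20189 F39867) (tt N22879 (iv F44053)) (tt N18727 F39868) (tt N20186 F39869) (tt N18726 (iv D21157)) (tt N20185 F39870))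
theorem Q21121 : ∀ i, i < 21121 → P i := stepQ 21120 Q21120 (allL N21120 (tt N22223 (iv F42524)) (tt N19879 F39871) (tt N20206 F39872) (tt N19877 F39873) (tt N18728 (iv D21158)) (tt N19876 F39874))
theorem Q21122 : ∀ i, i < 21122 → P i := stepQ 21121 Q21121 (allL N21121 (tt N18729 (iv D21159)) (tt N22311 (iv F42763)) (tt N18737 F39875) (tt N22221 F42519) (tt N22222 (iv F42522)) (tt N21519 (iv F40862)))
theorem Q21123 : ∀ i, i < 21123 → P i := stepQ 21122 Q21122 (allL N21122 (tt N22221 (iv F42517)) (tt N18730 F39876) (tt N19454 F39877) (tt N18729 (iv D21160)) (tt N19453 (iv F39878)) (tt N21522 (iv F40868)))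
theorem Q21124 : ∀ i, i < 21124 → P i := stepQ 21123 Q21123 (allL N21123 (tt N18756 F39879) (tt N21522 (iv F40867)) (tt N18752 F39880) (tt N18731 F39881) (tt N20155 F39882) (tt N18730 (iv D21161)))
theorem Q21125 : ∀ i, i < 21125 → P i := stepQ 21124 Q21124 (allL N21124 (tt N22310 (iv F42759)) (tt N21523 (iv F40869)) (tt N18732 F39883) (tt N22880 D22918) (tt N18731 (iv D21162)) (tt N21871 (iv F41736)))
theorem Q21126 : ∀ i, i < 21126 → P i := stepQ 21125 Q21125 (allL N21125 (tt N18733 (iv D21163)) (tt N18742 F39884) (tt N22222 F42523) (tt N22881 D22919) (tt N18737 F39885) (tt N22683 (iv F43590)))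
theorem Q21127 : ∀ i, i < 21127 → P i := stepQ 21126 Q21126 (allL N21126 (tt N22881 (iv F44057)) (tt N18734 F39886) (tt N22882 D22920) (tt N18733 (iv D21164)) (tt N21525 (iv F40874)) (tt N22883 D22921))
theorem Q21128 : ∀ i, i < 21128 → P i := stepQ 21127 Q21127 (allL N21127 (tt N22683 (iv F43589)) (tt N18735 F39887) (tt N21869 F41727) (tt N22883 (iv F44060)) (tt N21524 (iv F40872)) (tt N18733 (iv D21165)))
theorem Q21129 : ∀ i, i < 21129 → P i := stepQ 21128 Q21128 (allL N21128 (tt N18744 F39888) (tt N22884 D22922) (tt N18734 (iv D21166)) (tt N18740 F39889) (tt N21526 (iv F40876)) (tt N18739 (iv F39890)))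
theorem Q21130 : ∀ i, i < 21130 → P i := stepQ 21129 Q21129 (allL N21129 (tt N18746 F39891) (tt N22883 (iv F44059)) (tt N18739 F39892) (tt N18735 F39893) (tt N21440 (iv F40648)) (tt N18734 (iv D21167)))
theorem Q21131 : ∀ i, i < 21131 → P i := stepQ 21130 Q21130 (allL N21130 (tt N18738 (iv D21168)) (tt N19015 F39894) (tt N22340 (iv F42824)) (tt N22885 D22923) (tt N19014 F39895) (tt N22886 D22924))
theorem Q21132 : ∀ i, i < 21132 → P i := stepQ 21131 Q21131 (allL N21131 (tt N22885 (iv F44064)) (tt N18739 F39896) (tt N22887 D22925) (tt N18738 (iv D21169)) (tt N21474 (iv F40748)) (tt N22884 (iv F44063)))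
theorem Q21133 : ∀ i, i < 21133 → P i := stepQ 21132 Q21132 (allL N21132 (tt N22886 (iv F44067)) (tt N18740 F39897) (tt N22342 (iv F42829)) (tt N22884 (iv F44062)) (tt N22888 D22926) (tt N18738 (iv D21170)))
theorem Q21134 : ∀ i, i < 21134 → P i := stepQ 21133 Q21133 (allL N21133 (tt N21478 (iv F40762)) (tt N22888 (iv F44070)) (tt N18741 F39898) (tt N22889 D22927) (tt N18740 (iv D21171)) (tt N21460 (iv F40710)))
theorem Q21135 : ∀ i, i < 21135 → P i := stepQ 21134 Q21134 (allL N21134 (tt N18743 F39899) (tt N22881 (iv F44058)) (tt N22678 (iv F43576)) (tt N18742 (iv D21172)) (tt N22890 D22928) (tt N22684 (iv F43592)))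
theorem Q21136 : ∀ i, i < 21136 → P i := stepQ 21135 Q21135 (allL N21135 (tt N22678 (iv F43573)) (tt N20469 (iv F39901)) (tt N18743 (iv D21173)) (tt N20467 F39900) (tt N20511 (iv F39902)) (tt N22685 (iv F43595)))
theorem Q21137 : ∀ i, i < 21137 → P i := stepQ 21136 Q21136 (allL N21136 (tt N22890 (iv F44071)) (tt N18745 F39903) (tt N20511 F39904) (tt N18750 F39905) (tt N18743 (iv D21174)) (tt N21013 (iv F39906)))
theorem Q21138 : ∀ i, i < 21138 → P i := stepQ 21137 Q21137 (allL N21137 (tt N20498 (iv F39908)) (tt N18744 (iv D21175)) (tt N20469 F39907) (tt N21537 (iv F40906)) (tt N20513 (iv F39909)) (tt N21538 (iv F40913)))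
theorem Q21139 : ∀ i, i < 21139 → P i := stepQ 21138 Q21138 (allL N21138 (tt N21526 (iv F40875)) (tt N20513 F39910) (tt N18745 F39911) (tt N22891 D22929) (tt N18744 (iv D21176)) (tt N21453 (iv F40681)))
theorem Q21140 : ∀ i, i < 21140 → P i := stepQ 21139 Q21139 (allL N21139 (tt N21440 (iv F40645)) (tt N22686 (iv F43596)) (tt N21432 (iv F40627)) (tt N21429 (iv F40613)) (tt N18746 (iv D21177)) (tt N21428 F40610))
theorem Q21141 : ∀ i, i < 21141 → P i := stepQ 21140 Q21140 (allL N21140 (tt N18750 F39912) (tt N21521 (iv F40866)) (tt N21009 F39913) (tt N22890 (iv F44073)) (tt N18748 (iv D21178)) (tt N21008 F39914))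
theorem Q21142 : ∀ i, i < 21142 → P i := stepQ 21141 Q21141 (allL N21141 (tt N18751 F39915) (tt N21520 (iv F40864)) (tt N21888 (iv F41781)) (tt N21450 (iv F40675)) (tt N18749 (iv D21179)) (tt N21891 (iv F41791)))
theorem Q21143 : ∀ i, i < 21143 → P i := stepQ 21142 Q21142 (allL N21142 (tt N20970 F39916) (tt N22676 (iv F43570)) (tt N18755 (iv D21180)) (tt N22137 (iv F42360)) (tt N22892 D22930) (tt N22339 (iv F42822)))
theorem Q21144 : ∀ i, i < 21144 → P i := stepQ 21143 Q21143 (allL N21143 (tt N19715 F39917) (tt N18757 F39918) (tt N22892 (iv F44079)) (tt N19712 F39919) (tt N18755 (iv D21181)) (tt N19720 F39920))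
theorem Q21145 : ∀ i, i < 21145 → P i := stepQ 21144 Q21144 (allL N21144 (tt N20155 F39921) (tt N22677 (iv F43571)) (tt N18757 F39922) (tt N22893 D22931) (tt N18756 (iv D21182)) (tt N20638 F39923))
theorem Q21146 : ∀ i, i < 21146 → P i := stepQ 21145 Q21145 (allL N21145 (tt N18772 F39924) (tt N20272 F39925) (tt N20935 F39926) (tt N18769 (iv D21183)) (tt N20947 F39927) (tt N20251 F39928))
theorem Q21147 : ∀ i, i < 21147 → P i := stepQ 21146 Q21146 (allL N21146 (tt N22474 (iv F43093)) (tt N21604 (iv F41072)) (tt N22894 D22932) (tt N18778 (iv D21184)) (tt N22216 (iv F42511)) (tt N21567 (iv F40999)))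
theorem Q21148 : ∀ i, i < 21148 → P i := stepQ 21147 Q21147 (allL N21147 (tt N21816 (iv F41592)) (tt N18784 F39929) (tt N18780 F39930) (tt N21812 (iv F41580)) (tt N18780 F39931) (tt N18779 (iv D21185)))
theorem Q21149 : ∀ i, i < 21149 → P i := stepQ 21148 Q21148 (allL N21148 (tt N22213 (iv F42505)) (tt N18782 F39932) (tt N18783 F39933) (tt N22895 D22933) (tt N18781 (iv D21186)) (tt N18782 F39934))
theorem Q21150 : ∀ i, i < 21150 → P i := stepQ 21149 Q21149 (allL N21149 (tt N22216 (iv F42510)) (tt N22895 (iv F44084)) (tt N22895 (iv F44086)) (tt N18782 (iv D21187)) (tt N22474 (iv F43094)) (tt N22895 (iv F44085)))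
theorem Q21151 : ∀ i, i < 21151 → P i := stepQ 21150 Q21150 (allL N21150 (tt N18814 F39935) (tt N18797 F39936) (tt N18809 F39937) (tt N20594 F39938) (tt N18797 F39939) (tt N18791 (iv D21188)))
theorem Q21152 : ∀ i, i < 21152 → P i := stepQ 21151 Q21151 (allL N21151 (tt N19297 F39940) (tt N22896 D22934) (tt N18792 (iv D21189)) (tt N22897 D22935) (tt N20591 F39941) (tt N22898 D22936))
theorem Q21153 : ∀ i, i < 21153 → P i := stepQ 21152 Q21152 (allL N21152 (tt N19300 F39942) (tt N18799 F39943) (tt N22898 (iv F44097)) (tt N18793 F39944) (tt N22899 D22937) (tt N18792 (iv D21190)))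
theorem Q21154 : ∀ i, i < 21154 → P i := stepQ 21153 Q21153 (allL N21153 (tt N18847 F39945) (tt N18795 F39946) (tt N18808 F39947) (tt N20494 F39948) (tt N18794 (iv D21191)) (tt N22900 D22938))
theorem Q21155 : ∀ i, i < 21155 → P i := stepQ 21154 Q21154 (allL N21154 (tt N18815 F39949) (tt N22900 (iv F44106)) (tt N18797 F39950) (tt N20495 F39951) (tt N18809 F39952) (tt N18795 (iv D21192)))
theorem Q21156 : ∀ i, i < 21156 → P i := stepQ 21155 Q21155 (allL N21155 (tt N18945 F39953) (tt N20474 (iv F39955)) (tt N18796 (iv D21193)) (tt N22901 D22939) (tt N18798 F39954) (tt N22902 D22940))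
theorem Q21157 : ∀ i, i < 21157 → P i := stepQ 21156 Q21156 (allL N21156 (tt N19321 F39956) (tt N20594 F39957) (tt N22902 (iv F44117)) (tt N18797 F39958) (tt N22903 D22941) (tt N18796 (iv D21194)))
theorem Q21158 : ∀ i, i < 21158 → P i := stepQ 21157 Q21157 (allL N21157 (tt N18943 F39959) (tt N18798 (iv D21195)) (tt N22896 (iv F44088)) (tt N18958 F39960) (tt N20474 F39961) (tt N18957 F39962))
theorem Q21159 : ∀ i, i < 21159 → P i := stepQ 21158 Q21158 (allL N21158 (tt N19326 F39963) (tt N22899 (iv F44101)) (tt N18959 F39964) (tt N22899 (iv F44103)) (tt N18799 (iv D21196)) (tt N22903 (iv F44124)))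
theorem Q21160 : ∀ i, i < 21160 → P i := stepQ 21159 Q21159 (allL N21159 (tt N21239 (iv F40185)) (tt N18805 F39965) (tt N18952 F39966) (tt N19007 F39967) (tt N18802 (iv D21197)) (tt N18952 F39968))
theorem Q21161 : ∀ i, i < 21161 → P i := stepQ 21160 Q21160 (allL N21160 (tt N18959 F39969) (tt N18950 F39970) (tt N19326 F39971) (tt N18950 F39972) (tt N18803 (iv D21198)) (tt N22904 D22942))
theorem Q21162 : ∀ i, i < 21162 → P i := stepQ 21161 Q21161 (allL N21161 (tt N18960 F39973) (tt N18949 F39974) (tt N18805 F39975) (tt N22905 D22943) (tt N18804 (iv D21199)) (tt N18949 F39976))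
theorem Q21163 : ∀ i, i < 21163 → P i := stepQ 21162 Q21162 (allL N21162 (tt N18808 F39977) (tt N18810 F39978) (tt N18847 F39979) (tt N19003 F39980) (tt N18807 (iv D21200)) (tt N22906 D22944))
theorem Q21164 : ∀ i, i < 21164 → P i := stepQ 21163 Q21163 (allL N21163 (tt N22906 (iv F44135)) (tt N18809 F39981) (tt N22900 (iv F44107)) (tt N19006 F39982) (tt N22900 (iv F44109)) (tt N18808 (iv D21201)))
theorem Q21165 : ∀ i, i < 21165 → P i := stepQ 21164 Q21164 (allL N21164 (tt N18813 F39983) (tt N22906 (iv F44136)) (tt N18841 F39984) (tt N19028 F39985) (tt N18848 F39986) (tt N18810 (iv D21202)))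
theorem Q21166 : ∀ i, i < 21166 → P i := stepQ 21165 Q21165 (allL N21165 (tt N22242 (iv F42573)) (tt N18820 (iv D21203)) (tt N21048 F39987) (tt N22241 F42572) (tt N19108 F39988) (tt N22907 D22945))
theorem Q21167 : ∀ i, i < 21167 → P i := stepQ 21166 Q21166 (allL N21166 (tt N19382 F39989) (tt N22241 (iv F42569)) (tt N19358 F39990) (tt N18820 (iv D21204)) (tt N21223 (iv F40150)) (tt N19359 F39991))
theorem Q21168 : ∀ i, i < 21168 → P i := stepQ 21167 Q21167 (allL N21167 (tt N19381 F39992) (tt N22907 (iv F44141)) (tt N18821 F39993) (tt N19359 F39994) (tt N21222 (iv F40149)) (tt N18820 (iv D21205)))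
theorem Q21169 : ∀ i, i < 21169 → P i := stepQ 21168 Q21168 (allL N21168 (tt N19130 F39995) (tt N18824 F39996) (tt N20301 (iv F39998)) (tt N18822 (iv D21206)) (tt N18823 F39997) (tt N20298 F39999))
theorem Q21170 : ∀ i, i < 21170 → P i := stepQ 21169 Q21169 (allL N21169 (tt N19131 F40000) (tt N18825 F40001) (tt N19131 F40002) (tt N20298 F40003) (tt N18863 F40004) (tt N18822 (iv D21207)))
theorem Q21171 : ∀ i, i < 21171 → P i := stepQ 21170 Q21170 (allL N21170 (tt N19123 F40005) (tt N18828 F40006) (tt N22908 D22946) (tt N18827 (iv D21208)) (tt N18856 F40007) (tt N22909 D22947))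
theorem Q21172 : ∀ i, i < 21172 → P i := stepQ 21171 Q21171 (allL N21171 (tt N19124 F40008) (tt N18829 F40009) (tt N19124 F40010) (tt N22909 (iv F44149)) (tt N18854 F40011) (tt N18827 (iv D21209)))
theorem Q21173 : ∀ i, i < 21173 → P i := stepQ 21172 Q21172 (allL N21172 (tt N18866 F40012) (tt N22909 (iv F44148)) (tt N20410 F40013) (tt N18829 F40014) (tt N20418 F40015) (tt N18828 (iv D21210)))
theorem Q21174 : ∀ i, i < 21174 → P i := stepQ 21173 Q21173 (allL N21173 (tt N20296 F40016) (tt N18830 (iv D21211)) (tt N19179 F40017) (tt N22164 (iv F42420)) (tt N18832 F40018) (tt N20293 F40019))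
theorem Q21175 : ∀ i, i < 21175 → P i := stepQ 21174 Q21174 (allL N21174 (tt N20102 F40020) (tt N22164 (iv F42419)) (tt N22910 D22948) (tt N18830 (iv D21212)) (tt N22239 (iv F42566)) (tt N20100 F40021))
theorem Q21176 : ∀ i, i < 21176 → P i := stepQ 21175 Q21175 (allL N21175 (tt N21242 (iv F40196)) (tt N18833 F40022) (tt N22823 (iv F43953)) (tt N18832 (iv D21213)) (tt N22911 D22949) (tt N18834 F40023))
theorem Q21177 : ∀ i, i < 21177 → P i := stepQ 21176 Q21176 (allL N21176 (tt N18838 F40024) (tt N22911 (iv F44154)) (tt N18835 F40025) (tt N22239 (iv F42565)) (tt N18833 (iv D21214)) (tt N18885 F40026))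
theorem Q21178 : ∀ i, i < 21178 → P i := stepQ 21177 Q21177 (allL N21177 (tt N18843 (iv D21215)) (tt N19322 F40027) (tt N18846 F40028) (tt N22912 D22950) (tt N22035 (iv F42111)) (tt N19109 F40029))
theorem Q21179 : ∀ i, i < 21179 → P i := stepQ 21178 Q21178 (allL N21178 (tt N22912 (iv F44156)) (tt N18844 F40030) (tt N22913 D22951) (tt N18843 (iv D21216)) (tt N22044 (iv F42134)) (tt N19110 F40031))
theorem Q21180 : ∀ i, i < 21180 → P i := stepQ 21179 Q21179 (allL N21179 (tt N19121 F40032) (tt N22044 (iv F42133)) (tt N19119 F40033) (tt N20392 F40034) (tt N18844 (iv D21217)) (tt N22758 (iv F43768)))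
theorem Q21181 : ∀ i, i < 21181 → P i := stepQ 21180 Q21180 (allL N21180 (tt N22900 (iv F44105)) (tt N18848 F40035) (tt N22906 (iv F44137)) (tt N20627 F40036) (tt N22906 (iv F44139)) (tt N18847 (iv D21218)))
theorem Q21182 : ∀ i, i < 21182 → P i := stepQ 21181 Q21181 (allL N21181 (tt N19215 F40037) (tt N18850 F40038) (tt N22914 D22952) (tt N18849 (iv D21219)) (tt N22915 D22953) (tt N19118 F40039))
theorem Q21183 : ∀ i, i < 21183 → P i := stepQ 21182 Q21182 (allL N21182 (tt N18851 F40040) (tt N22915 (iv F44165)) (tt N19111 F40041) (tt N19041 F40042) (tt N18850 (iv D21220)) (tt N22916 D22954))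
theorem Q21184 : ∀ i, i < 21184 → P i := stepQ 21183 Q21183 (allL N21183 (tt N22916 (iv F44167)) (tt N19219 F40043) (tt N19337 F40044) (tt N19044 F40045) (tt N19122 F40046) (tt N18851 (iv D21221)))
theorem Q21185 : ∀ i, i < 21185 → P i := stepQ 21184 Q21184 (allL N21184 (tt N18855 F40047) (tt N22917 D22955) (tt N18852 (iv D21222)) (tt N22917 F44175) (tt N19169 F40048) (tt N20427 F40049))
theorem Q21186 : ∀ i, i < 21186 → P i := stepQ 21185 Q21185 (allL N21185 (tt N19169 F40050) (tt N20424 F40051) (tt N18853 (iv D21223)) (tt N22918 D22956) (tt N18855 F40052) (tt N22919 D22957))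
theorem Q21187 : ∀ i, i < 21187 → P i := stepQ 21186 Q21186 (allL N21186 (tt N19170 F40053) (tt N18857 F40054) (tt N22919 (iv F44180)) (tt N18854 F40055) (tt N20431 F40056) (tt N18853 (iv D21224)))
theorem Q21188 : ∀ i, i < 21188 → P i := stepQ 21187 Q21187 (allL N21187 (tt N22917 (iv F44171)) (tt N20423 F40057) (tt N22768 (iv F43795)) (tt N18855 (iv D21225)) (tt N22746 (iv F43731)) (tt N20429 F40058))
theorem Q21189 : ∀ i, i < 21189 → P i := stepQ 21188 Q21188 (allL N21188 (tt N19125 F40059) (tt N20408 F40060) (tt N18856 (iv D21226)) (tt N22511 (iv F43179)) (tt N22908 (iv F44146)) (tt N20416 F40061))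
theorem Q21190 : ∀ i, i < 21190 → P i := stepQ 21189 Q21189 (allL N21189 (tt N22768 (iv F43794)) (tt N18858 (iv D21227)) (tt N22917 (iv F44172)) (tt N18967 F40062) (tt N19171 F40063) (tt N19004 F40064))
theorem Q21191 : ∀ i, i < 21191 → P i := stepQ 21190 Q21190 (allL N21190 (tt N19172 F40065) (tt N20813 F40066) (tt N19176 F40067) (tt N18859 (iv D21228)) (tt N20348 (iv F40069)) (tt N19175 F40068))
theorem Q21192 : ∀ i, i < 21192 → P i := stepQ 21191 Q21191 (allL N21191 (tt N19173 F40070) (tt N20812 F40071) (tt N18860 F40072) (tt N19175 F40073) (tt N20349 F40074) (tt N18859 (iv D21229)))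
theorem Q21193 : ∀ i, i < 21193 → P i := stepQ 21192 Q21192 (allL N21192 (tt N22769 (iv F43799)) (tt N18862 F40075) (tt N22920 D22958) (tt N18861 (iv D21230)) (tt N22921 D22959) (tt N20434 F40076))
theorem Q21194 : ∀ i, i < 21194 → P i := stepQ 21193 Q21193 (allL N21193 (tt N18968 F40077) (tt N22921 (iv F44186)) (tt N18966 F40078) (tt N20348 F40079) (tt N18862 (iv D21231)) (tt N20343 F40080))
theorem Q21195 : ∀ i, i < 21195 → P i := stepQ 21194 Q21194 (allL N21194 (tt N20410 F40081) (tt N22922 D22960) (tt N18866 (iv D21232)) (tt N22910 (iv F44152)) (tt N20422 F40082) (tt N18867 F40083))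
theorem Q21196 : ∀ i, i < 21196 → P i := stepQ 21195 Q21195 (allL N21195 (tt N21861 (iv F41708)) (tt N18867 (iv D21233)) (tt N19134 F40084) (tt N21859 (iv F41706)) (tt N18868 F40085) (tt N22922 (iv F44191)))
theorem Q21197 : ∀ i, i < 21197 → P i := stepQ 21196 Q21196 (allL N21196 (tt N20101 F40086) (tt N21859 (iv F41705)) (tt N20100 F40088) (tt N18867 (iv D21234)) (tt N20094 F40087) (tt N22910 (iv F44153)))
theorem Q21198 : ∀ i, i < 21198 → P i := stepQ 21197 Q21197 (allL N21197 (tt N19213 F40089) (tt N19005 F40090) (tt N18872 F40091) (tt N19250 (iv F40092)) (tt N18871 (iv D21235)) (tt N19249 F40093))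
theorem Q21199 : ∀ i, i < 21199 → P i := stepQ 21198 Q21198 (allL N21198 (tt N19214 F40094) (tt N18951 F40095) (tt N19249 F40096) (tt N19143 F40097) (tt N18969 F40098) (tt N18872 (iv D21236)))
theorem Q21200 : ∀ i, i < 21200 → P i := stepQ 21199 Q21199 (allL N21199 (tt N18874 F40099) (tt N20429 (iv F40102)) (tt N18873 (iv D21237)) (tt N18874 F40100) (tt N22755 (iv F43753)) (tt N20423 F40101))
theorem Q21201 : ∀ i, i < 21201 → P i := stepQ 21200 Q21200 (allL N21200 (tt N22755 (iv F43752)) (tt N20430 F40103) (tt N18875 F40104) (tt N22923 D22961) (tt N18874 (iv D21238)) (tt N22924 D22962))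
theorem Q21202 : ∀ i, i < 21202 → P i := stepQ 21201 Q21201 (allL N21201 (tt N22749 (iv F43736)) (tt N18876 F40105) (tt N22924 (iv F44196)) (tt N22743 (iv F43720)) (tt N20425 F40106) (tt N18875 (iv D21239)))
theorem Q21203 : ∀ i, i < 21203 → P i := stepQ 21202 Q21202 (allL N21202 (tt N21837 (iv F41659)) (tt N18885 F40107) (tt N22828 (iv F43963)) (tt N21834 (iv F41654)) (tt N18884 (iv D21240)) (tt N22911 (iv F44155)))
theorem Q21204 : ∀ i, i < 21204 → P i := stepQ 21203 Q21203 (allL N21203 (tt N19032 F40108) (tt N21090 F40109) (tt N18889 F40110) (tt N22807 (iv F43900)) (tt N18888 (iv D21241)) (tt N22806 (iv F43896)))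
theorem Q21205 : ∀ i, i < 21205 → P i := stepQ 21204 Q21204 (allL N21204 (tt N22300 (iv F42730)) (tt N18890 F40111) (tt N22806 (iv F43895)) (tt N19070 F40112) (tt N19044 F40113) (tt N18889 (iv D21242)))
theorem Q21206 : ∀ i, i < 21206 → P i := stepQ 21205 Q21205 (allL N21205 (tt N18894 F40114) (tt N21302 (iv F40346)) (tt N21619 (iv F41103)) (tt N18891 (iv D21243)) (tt N19282 F40115) (tt N21298 F40337))
theorem Q21207 : ∀ i, i < 21207 → P i := stepQ 21206 Q21206 (allL N21206 (tt N22925 D22963) (tt N18892 (iv D21244)) (tt N19108 F40116) (tt N22926 D22964) (tt N21048 F40117) (tt N21219 (iv F40143)))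
theorem Q21208 : ∀ i, i < 21208 → P i := stepQ 21207 Q21207 (allL N21207 (tt N21061 F40118) (tt N22926 (iv F44202)) (tt N21298 F40336) (tt N18892 (iv D21245)) (tt N21297 (iv F40338)) (tt N21619 (iv F41104)))
theorem Q21209 : ∀ i, i < 21209 → P i := stepQ 21208 Q21208 (allL N21208 (tt N21324 (iv F40382)) (tt N18894 F40119) (tt N22927 D22965) (tt N18893 (iv D21246)) (tt N22928 D22966) (tt N21330 (iv F40396)))
theorem Q21210 : ∀ i, i < 21210 → P i := stepQ 21209 Q21209 (allL N21209 (tt N21619 (iv F41102)) (tt N22929 D22967) (tt N18894 (iv D21247)) (tt N21059 F40120) (tt N22930 D22968) (tt N21061 (iv F40121)))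
theorem Q21211 : ∀ i, i < 21211 → P i := stepQ 21210 Q21210 (allL N21210 (tt N19282 F40122) (tt N22928 (iv F44205)) (tt N22930 (iv F44210)) (tt N18898 F40123) (tt N18894 (iv D21248)) (tt N22931 D22969))
theorem Q21212 : ∀ i, i < 21212 → P i := stepQ 21211 Q21211 (allL N21211 (tt N21298 (iv F40333)) (tt N21330 (iv F40395)) (tt N21061 F40124) (tt N18895 F40125) (tt N21295 (iv F40329)) (tt N18894 (iv D21249)))
theorem Q21213 : ∀ i, i < 21213 → P i := stepQ 21212 Q21212 (allL N21212 (tt N21321 (iv F40376)) (tt N19270 F40126) (tt N18897 (iv D21250)) (tt N22932 D22970) (tt N22933 D22971) (tt N19268 F40127))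
theorem Q21214 : ∀ i, i < 21214 → P i := stepQ 21213 Q21213 (allL N21213 (tt N21323 (iv F40380)) (tt N18898 F40128) (tt N22933 (iv F44218)) (tt N22928 (iv F44206)) (tt N18897 (iv D21251)) (tt N22934 D22972))
theorem Q21215 : ∀ i, i < 21215 → P i := stepQ 21214 Q21214 (allL N21214 (tt N19280 F40129) (tt N22934 (iv F44220)) (tt N19275 F40130) (tt N22931 (iv F44212)) (tt N19274 F40131) (tt N18898 (iv D21252)))
theorem Q21216 : ∀ i, i < 21216 → P i := stepQ 21215 Q21215 (allL N21215 (tt N18904 F40132) (tt N18901 F40133) (tt N22935 D22973) (tt N18900 (iv D21253)) (tt N22936 D22974) (tt N21243 (iv F40201)))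
theorem Q21217 : ∀ i, i < 21217 → P i := stepQ 21216 Q21216 (allL N21216 (tt N18905 F40134) (tt N18902 F40135) (tt N18958 F40136) (tt N21243 (iv F40200)) (tt N22937 D22975) (tt N18900 (iv D21254)))
theorem Q21218 : ∀ i, i < 21218 → P i := stepQ 21217 Q21217 (allL N21217 (tt N19385 F40137) (tt N22936 (iv F44226)) (tt N21244 (iv F40203)) (tt N18906 F40138) (tt N18901 (iv D21255)) (tt N21618 (iv F41101)))
theorem Q21219 : ∀ i, i < 21219 → P i := stepQ 21218 Q21218 (allL N21218 (tt N21240 (iv F40190)) (tt N22937 (iv F44229)) (tt N18903 F40139) (tt N20224 F40140) (tt N18902 (iv D21256)) (tt N18907 F40141))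
theorem Q21220 : ∀ i, i < 21220 → P i := stepQ 21219 Q21219 (allL N21219 (tt N22935 (iv F44223)) (tt N19363 F40142) (tt N18904 (iv D21257)) (tt N22938 D22976) (tt N22939 D22977) (tt N21206 F40143))
theorem Q21221 : ∀ i, i < 21221 → P i := stepQ 21220 Q21220 (allL N21220 (tt N22936 (iv F44225)) (tt N18906 F40144) (tt N22939 (iv F44236)) (tt N22936 (iv F44227)) (tt N18904 (iv D21258)) (tt N22940 D22978))
theorem Q21222 : ∀ i, i < 21222 → P i := stepQ 21221 Q21221 (allL N21221 (tt N22937 (iv F44228)) (tt N18907 F40145) (tt N18963 F40146) (tt N22941 D22979) (tt N18905 (iv D21259)) (tt N22937 (iv F44232)))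
theorem Q21223 : ∀ i, i < 21223 → P i := stepQ 21222 Q21222 (allL N21222 (tt N19384 F40147) (tt N22940 (iv F44237)) (tt N19357 F40148) (tt N21618 (iv F41100)) (tt N21167 F40149) (tt N18906 (iv D21260)))
theorem Q21224 : ∀ i, i < 21224 → P i := stepQ 21223 Q21223 (allL N21223 (tt N21631 (iv F41126)) (tt N22941 (iv F44240)) (tt N20223 F40152) (tt N18907 (iv D21261)) (tt N21166 F40150) (tt N20224 F40151))
theorem Q21225 : ∀ i, i < 21225 → P i := stepQ 21224 Q21224 (allL N21224 (tt N21475 (iv F40749)) (tt N18911 F40153) (tt N19105 F40154) (tt N18910 (iv D21262)) (tt N21477 (iv F40757)) (tt N18937 (iv F40155)))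
theorem Q21226 : ∀ i, i < 21226 → P i := stepQ 21225 Q21225 (allL N21225 (tt N21471 (iv F40734)) (tt N18912 F40156) (tt N21434 (iv F40634)) (tt N18937 F40157) (tt N21433 (iv F40631)) (tt N18910 (iv D21263)))
theorem Q21227 : ∀ i, i < 21227 → P i := stepQ 21226 Q21226 (allL N21226 (tt N18921 F40158) (tt N21477 (iv F40756)) (tt N18940 F40159) (tt N19008 F40160) (tt N18911 (iv D21264)) (tt N22942 D22980))
theorem Q21228 : ∀ i, i < 21228 → P i := stepQ 21227 Q21227 (allL N21227 (tt N18923 F40161) (tt N21433 (iv F40629)) (tt N18913 F40162) (tt N22943 D22981) (tt N18912 (iv D21265)) (tt N19009 F40163))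
theorem Q21229 : ∀ i, i < 21229 → P i := stepQ 21228 Q21228 (allL N21228 (tt N21462 (iv F40713)) (tt N18915 F40164) (tt N22944 D22982) (tt N18914 (iv D21266)) (tt N22945 D22983) (tt N19014 F40165))
theorem Q21230 : ∀ i, i < 21230 → P i := stepQ 21229 Q21229 (allL N21229 (tt N19008 F40166) (tt N22945 (iv F44253)) (tt N19017 F40167) (tt N18921 F40168) (tt N18915 (iv D21267)) (tt N22946 D22984))
theorem Q21231 : ∀ i, i < 21231 → P i := stepQ 21230 Q21230 (allL N21230 (tt N19009 F40169) (tt N21473 (iv F40743)) (tt N18917 F40170) (tt N22947 D22985) (tt N18916 (iv D21268)) (tt N18923 F40171))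
theorem Q21232 : ∀ i, i < 21232 → P i := stepQ 21231 Q21231 (allL N21231 (tt N18919 F40172) (tt N21475 (iv F40750)) (tt N20126 F40173) (tt N18918 (iv D21269)) (tt N22948 D22986) (tt N22292 (iv F42713)))
theorem Q21233 : ∀ i, i < 21233 → P i := stepQ 21232 Q21232 (allL N21232 (tt N20126 F40174) (tt N22949 D22987) (tt N18919 (iv D21270)) (tt N20123 F40175) (tt N22950 D22988) (tt N22293 (iv F42717)))
theorem Q21234 : ∀ i, i < 21234 → P i := stepQ 21233 Q21233 (allL N21233 (tt N22948 (iv F44263)) (tt N18921 F40176) (tt N22950 (iv F44270)) (tt N22945 (iv F44254)) (tt N18919 (iv D21271)) (tt N22951 D22989))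
theorem Q21235 : ∀ i, i < 21235 → P i := stepQ 21234 Q21234 (allL N21234 (tt N19103 F40177) (tt N18920 (iv D21272)) (tt N22949 (iv F44266)) (tt N18933 F40178) (tt N22952 D22990) (tt N18932 F40179))
theorem Q21236 : ∀ i, i < 21236 → P i := stepQ 21235 Q21235 (allL N21235 (tt N18940 F40180) (tt N22952 (iv F44273)) (tt N18921 F40181) (tt N19155 F40182) (tt N18920 (iv D21273)) (tt N22953 D22991))
theorem Q21237 : ∀ i, i < 21237 → P i := stepQ 21236 Q21236 (allL N21236 (tt N22942 (iv F44243)) (tt N22951 (iv F44271)) (tt N22953 (iv F44276)) (tt N22946 (iv F44257)) (tt N22954 D22992) (tt N18921 (iv D21274)))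
theorem Q21238 : ∀ i, i < 21238 → P i := stepQ 21237 Q21237 (allL N21237 (tt N18938 F40183) (tt N22294 (iv F42718)) (tt N18934 F40184) (tt N22955 D22993) (tt N18922 (iv D21275)) (tt N22954 (iv F44282)))
theorem Q21239 : ∀ i, i < 21239 → P i := stepQ 21238 Q21238 (allL N21238 (tt N22943 (iv F44247)) (tt N22295 (iv F42719)) (tt N22956 D22994) (tt N18923 (iv D21276)) (tt N22955 (iv F44285)) (tt N22947 (iv F44261)))
theorem Q21240 : ∀ i, i < 21240 → P i := stepQ 21239 Q21239 (allL N21239 (tt N21159 F40185) (tt N18926 F40186) (tt N20300 F40187) (tt N20301 F40188) (tt N18924 (iv D21277)) (tt N20300 F40189))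
theorem Q21241 : ∀ i, i < 21241 → P i := stepQ 21240 Q21240 (allL N21240 (tt N21218 F40190) (tt N20302 F40191) (tt N18926 F40192) (tt N22170 (iv F42434)) (tt N18925 (iv D21278)) (tt N20302 F40193))
theorem Q21242 : ∀ i, i < 21242 → P i := stepQ 21241 Q21241 (allL N21241 (tt N21060 F40194) (tt N22925 (iv F44199)) (tt N18927 (iv D21279)) (tt N22957 D22995) (tt N21068 F40195) (tt N22958 D22996))
theorem Q21243 : ∀ i, i < 21243 → P i := stepQ 21242 Q21242 (allL N21242 (tt N21175 F40196) (tt N18930 F40197) (tt N22958 (iv F44294)) (tt N18928 F40198) (tt N22959 D22997) (tt N18927 (iv D21280)))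
theorem Q21244 : ∀ i, i < 21244 → P i := stepQ 21243 Q21243 (allL N21243 (tt N19108 F40199) (tt N18929 (iv D21281)) (tt N22925 (iv F44200)) (tt N21216 F40200) (tt N22242 F42576) (tt N21215 F40201))
theorem Q21245 : ∀ i, i < 21245 → P i := stepQ 21244 Q21244 (allL N21244 (tt N20222 F40202) (tt N22959 (iv F44296)) (tt N21217 F40203) (tt N20121 F40204) (tt N18930 (iv D21282)) (tt N20122 F40205))
theorem Q21246 : ∀ i, i < 21246 → P i := stepQ 21245 Q21245 (allL N21245 (tt N18932 F40206) (tt N18935 F40207) (tt N22960 D22998) (tt N18931 (iv D21283)) (tt N22961 D22999) (tt N19103 F40208))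
theorem Q21247 : ∀ i, i < 21247 → P i := stepQ 21246 Q21246 (allL N21246 (tt N22960 (iv F44299)) (tt N22293 (iv F42715)) (tt N18932 (iv D21284)) (tt N22962 D23000) (tt N22963 D23001) (tt N22949 (iv F44268)))
theorem Q21248 : ∀ i, i < 21248 → P i := stepQ 21247 Q21247 (allL N21247 (tt N22961 (iv F44303)) (tt N18934 F40209) (tt N22963 (iv F44310)) (tt N18955 F40210) (tt N18932 (iv D21285)) (tt N22964 D23002))
theorem Q21249 : ∀ i, i < 21249 → P i := stepQ 21248 Q21248 (allL N21248 (tt N18939 F40211) (tt N22964 (iv F44311)) (tt N22954 (iv F44280)) (tt N18956 F40212) (tt N22953 (iv F44278)) (tt N18934 (iv D21286)))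
theorem Q21250 : ∀ i, i < 21250 → P i := stepQ 21249 Q21249 (allL N21249 (tt N18936 F40213) (tt N22961 (iv F44304)) (tt N19092 F40214) (tt N18966 F40215) (tt N18935 (iv D21287)) (tt N22965 D23003))
theorem Q21251 : ∀ i, i < 21251 → P i := stepQ 21250 Q21250 (allL N21250 (tt N22965 (iv F44313)) (tt N18939 F40216) (tt N22810 (iv F43913)) (tt N18969 F40217) (tt N19107 F40218) (tt N18936 (iv D21288)))
theorem Q21252 : ∀ i, i < 21252 → P i := stepQ 21251 Q21251 (allL N21251 (tt N18937 (iv D21289)) (tt N22292 (iv F42711)) (tt N21493 (iv F40814)) (tt N21471 F40738) (tt N22966 D23004) (tt N21475 (iv F40751)))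
theorem Q21253 : ∀ i, i < 21253 → P i := stepQ 21252 Q21252 (allL N21252 (tt N22966 (iv F44317)) (tt N18938 F40219) (tt N21489 (iv F40798)) (tt N21453 (iv F40683)) (tt N18937 (iv D21290)) (tt N22891 (iv F44076)))
theorem Q21254 : ∀ i, i < 21254 → P i := stepQ 21253 Q21253 (allL N21253 (tt N22955 (iv F44283)) (tt N21453 F40682) (tt N20514 F40220) (tt N18938 (iv D21291)) (tt N22943 (iv F44248)) (tt N20513 (iv F40221)))
theorem Q21255 : ∀ i, i < 21255 → P i := stepQ 21254 Q21254 (allL N21254 (tt N22954 (iv F44279)) (tt N22891 (iv F44075)) (tt N18939 F40222) (tt N20513 F40223) (tt N22942 (iv F44246)) (tt N18938 (iv D21292)))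
theorem Q21256 : ∀ i, i < 21256 → P i := stepQ 21255 Q21255 (allL N21255 (tt N22953 (iv F44275)) (tt N19107 F40224) (tt N22942 (iv F44244)) (tt N19158 F40225) (tt N18939 (iv D21293)) (tt N18940 F40226))
theorem Q21257 : ∀ i, i < 21257 → P i := stepQ 21256 Q21256 (allL N21256 (tt N22896 (iv F44087)) (tt N18941 (iv D21294)) (tt N18943 F40227) (tt N22967 D23005) (tt N20470 F40228) (tt N18961 (iv F40229)))
theorem Q21258 : ∀ i, i < 21258 → P i := stepQ 21257 Q21257 (allL N21257 (tt N19298 F40230) (tt N22967 (iv F44318)) (tt N22968 D23006) (tt N18941 (iv D21295)) (tt N22969 D23007) (tt N22970 D23008))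
theorem Q21259 : ∀ i, i < 21259 → P i := stepQ 21258 Q21258 (allL N21258 (tt N19296 F40231) (tt N18961 F40232) (tt N18942 F40233) (tt N22970 (iv F44328)) (tt N22971 D23009) (tt N18941 (iv D21296)))
theorem Q21260 : ∀ i, i < 21260 → P i := stepQ 21259 Q21259 (allL N21259 (tt N19295 F40234) (tt N18944 F40235) (tt N22971 (iv F44331)) (tt N19289 F40236) (tt N18942 (iv D21297)) (tt N20473 F40237))
theorem Q21261 : ∀ i, i < 21261 → P i := stepQ 21260 Q21260 (allL N21260 (tt N22901 (iv F44110)) (tt N18946 F40238) (tt N20482 F40239) (tt N18945 (iv D21298)) (tt N22905 (iv F44132)) (tt N20481 (iv F40243)))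
theorem Q21262 : ∀ i, i < 21262 → P i := stepQ 21261 Q21261 (allL N21261 (tt N22902 (iv F44115)) (tt N18947 F40247) (tt N19321 F40248) (tt N20481 F40249) (tt N22904 (iv F44129)) (tt N18945 (iv D21299)))
theorem Q21263 : ∀ i, i < 21263 → P i := stepQ 21262 Q21262 (allL N21262 (tt N18965 F40250) (tt N22905 (iv F44131)) (tt N20483 F40251) (tt N18949 F40252) (tt N18946 (iv D21300)) (tt N22905 (iv F44133)))
theorem Q21264 : ∀ i, i < 21264 → P i := stepQ 21263 Q21263 (allL N21263 (tt N18964 F40253) (tt N22904 (iv F44126)) (tt N18948 F40254) (tt N22904 (iv F44128)) (tt N18947 (iv D21301)) (tt N18950 F40255))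
theorem Q21265 : ∀ i, i < 21265 → P i := stepQ 21264 Q21264 (allL N21264 (tt N18954 F40256) (tt N22920 (iv F44183)) (tt N18953 (iv D21302)) (tt N22972 D23010) (tt N22973 D23011) (tt N19029 F40257))
theorem Q21266 : ∀ i, i < 21266 → P i := stepQ 21265 Q21265 (allL N21265 (tt N18955 F40258) (tt N18966 F40259) (tt N22973 (iv F44338)) (tt N22961 (iv F44305)) (tt N18953 (iv D21303)) (tt N22974 D23012))
theorem Q21267 : ∀ i, i < 21267 → P i := stepQ 21266 Q21266 (allL N21266 (tt N22972 (iv F44333)) (tt N18999 F40260) (tt N22975 D23013) (tt N18954 (iv D21304)) (tt N22976 D23014) (tt N19030 F40261))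
theorem Q21268 : ∀ i, i < 21268 → P i := stepQ 21267 Q21267 (allL N21267 (tt N22973 (iv F44337)) (tt N19000 F40262) (tt N18955 F40263) (tt N22977 D23015) (tt N18954 (iv D21305)) (tt N22978 D23016))
theorem Q21269 : ∀ i, i < 21269 → P i := stepQ 21268 Q21268 (allL N21268 (tt N22974 (iv F44339)) (tt N18956 F40264) (tt N22978 (iv F44349)) (tt N22964 (iv F44312)) (tt N19037 F40265) (tt N18955 (iv D21306)))
theorem Q21270 : ∀ i, i < 21270 → P i := stepQ 21269 Q21269 (allL N21269 (tt N18961 F40266) (tt N22898 (iv F44096)) (tt N18957 (iv D21307)) (tt N22979 D23017) (tt N22980 D23018) (tt N22896 F44090))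
theorem Q21271 : ∀ i, i < 21271 → P i := stepQ 21270 Q21270 (allL N21270 (tt N18962 F40267) (tt N18959 F40268) (tt N22980 (iv F44357)) (tt N18962 F40269) (tt N18957 (iv D21308)) (tt N22981 D23019))
theorem Q21272 : ∀ i, i < 21272 → P i := stepQ 21271 Q21271 (allL N21271 (tt N18963 F40270) (tt N18960 F40271) (tt N22937 (iv F44230)) (tt N22982 D23020) (tt N18958 (iv D21309)) (tt N18963 F40272))
theorem Q21273 : ∀ i, i < 21273 → P i := stepQ 21272 Q21272 (allL N21272 (tt N22904 (iv F44125)) (tt N22981 (iv F44361)) (tt N22903 (iv F44122)) (tt N18964 F40273) (tt N22902 (iv F44119)) (tt N18959 (iv D21310)))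
theorem Q21274 : ∀ i, i < 21274 → P i := stepQ 21273 Q21273 (allL N21273 (tt N22905 (iv F44130)) (tt N22982 (iv F44366)) (tt N22983 D23021) (tt N18960 (iv D21311)) (tt N22901 (iv F44113)) (tt N18965 F40274))
theorem Q21275 : ∀ i, i < 21275 → P i := stepQ 21274 Q21274 (allL N21274 (tt N22979 (iv F44351)) (tt N22970 (iv F44326)) (tt N22984 D23022) (tt N18961 (iv D21312)) (tt N22985 D23023) (tt N22967 (iv F44319)))
theorem Q21276 : ∀ i, i < 21276 → P i := stepQ 21275 Q21275 (allL N21275 (tt N22980 (iv F44355)) (tt N22971 (iv F44330)) (tt N18962 F40275) (tt N22986 D23024) (tt N18961 (iv D21313)) (tt N22987 D23025))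
theorem Q21277 : ∀ i, i < 21277 → P i := stepQ 21276 Q21276 (allL N21276 (tt N22981 (iv F44360)) (tt N18964 F40276) (tt N22987 (iv F44385)) (tt N22981 (iv F44363)) (tt N20476 F40277) (tt N18962 (iv D21314)))
theorem Q21278 : ∀ i, i < 21278 → P i := stepQ 21277 Q21277 (allL N21277 (tt N22982 (iv F44365)) (tt N18965 F40278) (tt N22988 D23026) (tt N18963 (iv D21315)) (tt N20475 F40279) (tt N22982 (iv F44368)))
theorem Q21279 : ∀ i, i < 21279 → P i := stepQ 21278 Q21278 (allL N21278 (tt N20483 F40280) (tt N22989 D23027) (tt N18965 (iv D21316)) (tt N22990 D23028) (tt N20462 F40281) (tt N22983 (iv F44372)))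
theorem Q21280 : ∀ i, i < 21280 → P i := stepQ 21279 Q21279 (allL N21279 (tt N18969 F40282) (tt N22974 (iv F44340)) (tt N20343 F40283) (tt N22965 (iv F44315)) (tt N19214 F40284) (tt N18966 (iv D21317)))
theorem Q21281 : ∀ i, i < 21281 → P i := stepQ 21280 Q21280 (allL N21280 (tt N18967 (iv D21318)) (tt N22769 (iv F43800)) (tt N18970 F40285) (tt N22768 F43798) (tt N22801 (iv F43883)) (tt N19002 F40286))
theorem Q21282 : ∀ i, i < 21282 → P i := stepQ 21281 Q21281 (allL N21281 (tt N22801 (iv F43882)) (tt N18968 F40287) (tt N18971 F40288) (tt N22991 D23029) (tt N18967 (iv D21319)) (tt N22992 D23030))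
theorem Q21283 : ∀ i, i < 21283 → P i := stepQ 21282 Q21282 (allL N21282 (tt N20348 F40289) (tt N22991 (iv F44394)) (tt N20360 (iv F40292)) (tt N18968 (iv D21320)) (tt N19172 F40290) (tt N20338 F40291))
theorem Q21284 : ∀ i, i < 21284 → P i := stepQ 21283 Q21283 (allL N21283 (tt N20343 F40293) (tt N22992 (iv F44397)) (tt N18969 F40294) (tt N20338 F40295) (tt N19249 F40296) (tt N18968 (iv D21321)))
theorem Q21285 : ∀ i, i < 21285 → P i := stepQ 21284 Q21284 (allL N21284 (tt N22802 (iv F43884)) (tt N18972 F40297) (tt N22992 (iv F44398)) (tt N20509 F40298) (tt N19006 F40299) (tt N18971 (iv D21322)))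
theorem Q21286 : ∀ i, i < 21286 → P i := stepQ 21285 Q21285 (allL N21285 (tt N18973 (iv D21323)) (tt N18974 F40300) (tt N18981 F40301) (tt N18973 (iv F40304)) (tt N20581 F40302) (tt N19019 F40303))
theorem Q21287 : ∀ i, i < 21287 → P i := stepQ 21286 Q21286 (allL N21286 (tt N18977 (iv D21324)) (tt N18986 F40305) (tt N20581 F40306) (tt N22993 D23031) (tt N18981 F40307) (tt N22099 (iv F42269)))
theorem Q21288 : ∀ i, i < 21288 → P i := stepQ 21287 Q21287 (allL N21287 (tt N22993 (iv F44401)) (tt N18978 F40308) (tt N22994 D23032) (tt N18977 (iv D21325)) (tt N19024 F40309) (tt N22100 (iv F42271)))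
theorem Q21289 : ∀ i, i < 21289 → P i := stepQ 21288 Q21288 (allL N21288 (tt N18989 F40310) (tt N22995 D23033) (tt N18978 (iv D21326)) (tt N18984 F40311) (tt N19025 F40312) (tt N18983 (iv F40313)))
theorem Q21290 : ∀ i, i < 21290 → P i := stepQ 21289 Q21289 (allL N21289 (tt N18991 F40314) (tt N22100 (iv F42270)) (tt N18983 F40315) (tt N18979 F40316) (tt N22996 D23034) (tt N18978 (iv D21327)))
theorem Q21291 : ∀ i, i < 21291 → P i := stepQ 21290 Q21290 (allL N21290 (tt N18982 (iv D21328)) (tt N19302 F40317) (tt N19292 F40318) (tt N22997 D23035) (tt N19291 F40319) (tt N22998 D23036))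
theorem Q21292 : ∀ i, i < 21292 → P i := stepQ 21291 Q21291 (allL N21291 (tt N22997 (iv F44417)) (tt N18983 F40320) (tt N22999 D23037) (tt N18982 (iv D21329)) (tt N23000 D23038) (tt N22995 (iv F44412)))
theorem Q21293 : ∀ i, i < 21293 → P i := stepQ 21292 Q21292 (allL N21292 (tt N22998 (iv F44419)) (tt N18984 F40321) (tt N20578 F40322) (tt N22995 (iv F44410)) (tt N23001 D23039) (tt N18982 (iv D21330)))
theorem Q21294 : ∀ i, i < 21294 → P i := stepQ 21293 Q21293 (allL N21293 (tt N19305 F40323) (tt N23000 (iv F44424)) (tt N22996 (iv F44414)) (tt N19157 F40324) (tt N18983 (iv D21331)) (tt N23002 D23040))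
theorem Q21295 : ∀ i, i < 21295 → P i := stepQ 21294 Q21294 (allL N21294 (tt N19306 F40325) (tt N23001 (iv F44427)) (tt N18985 F40326) (tt N23003 D23041) (tt N18984 (iv D21332)) (tt N19301 F40327))
theorem Q21296 : ∀ i, i < 21296 → P i := stepQ 21295 Q21295 (allL N21295 (tt N18987 F40328) (tt N22993 (iv F44402)) (tt N22825 (iv F43957)) (tt N18986 (iv D21333)) (tt N21211 F40329) (tt N23004 D23042))
theorem Q21297 : ∀ i, i < 21297 → P i := stepQ 21296 Q21296 (allL N21296 (tt N18988 F40330) (tt N22099 (iv F42267)) (tt N20501 F40331) (tt N23004 (iv F44442)) (tt N20824 F40332) (tt N18986 (iv D21334)))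
theorem Q21298 : ∀ i, i < 21298 → P i := stepQ 21297 Q21297 (allL N21297 (tt N22825 (iv F43956)) (tt N23005 D23043) (tt N18987 (iv D21335)) (tt N22463 (iv F43059)) (tt N21207 F40338) (tt N23006 D23044))
theorem Q21299 : ∀ i, i < 21299 → P i := stepQ 21298 Q21298 (allL N21298 (tt N21211 F40333) (tt N18990 F40334) (tt N21207 (iv F40336)) (tt N18996 F40335) (tt N18987 (iv D21336)) (tt N21205 (iv F40337)))
theorem Q21300 : ∀ i, i < 21300 → P i := stepQ 21299 Q21299 (allL N21299 (tt N23004 (iv F44441)) (tt N18991 F40339) (tt N23006 (iv F44448)) (tt N18988 F40340) (tt N21556 (iv F40975)) (tt N18987 (iv D21337)))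
theorem Q21301 : ∀ i, i < 21301 → P i := stepQ 21300 Q21300 (allL N21300 (tt N22985 (iv F44376)) (tt N18989 (iv D21338)) (tt N23005 (iv F44444)) (tt N19304 F40341) (tt N22979 F44354) (tt N19303 F40342))
theorem Q21302 : ∀ i, i < 21302 → P i := stepQ 21301 Q21301 (allL N21301 (tt N19025 F40343) (tt N22979 (iv F44352)) (tt N18990 F40344) (tt N22898 (iv F44098)) (tt N18989 (iv D21339)) (tt N22897 (iv F44094)))
theorem Q21303 : ∀ i, i < 21303 → P i := stepQ 21302 Q21302 (allL N21302 (tt N19018 F40345) (tt N21205 F40346) (tt N22897 (iv F44092)) (tt N18997 F40347) (tt N21557 (iv F40979)) (tt N18990 (iv D21340)))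
theorem Q21304 : ∀ i, i < 21304 → P i := stepQ 21303 Q21303 (allL N21303 (tt N22996 (iv F44413)) (tt N21556 (iv F40974)) (tt N19305 F40348) (tt N21555 (iv F40972)) (tt N18991 (iv D21341)) (tt N21557 (iv F40980)))
theorem Q21305 : ∀ i, i < 21305 → P i := stepQ 21304 Q21304 (allL N21304 (tt N22920 (iv F44182)) (tt N18998 (iv D21342)) (tt N22769 (iv F43801)) (tt N19042 F40349) (tt N22803 (iv F43888)) (tt N19026 F40350))
theorem Q21306 : ∀ i, i < 21306 → P i := stepQ 21305 Q21305 (allL N21305 (tt N19043 F40351) (tt N22976 (iv F44346)) (tt N19041 F40352) (tt N23007 D23045) (tt N18999 (iv D21343)) (tt N23008 D23046))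
theorem Q21307 : ∀ i, i < 21307 → P i := stepQ 21306 Q21306 (allL N21306 (tt N22804 (iv F43889)) (tt N22977 (iv F44347)) (tt N22765 (iv F43783)) (tt N19000 (iv D21344)) (tt N23007 (iv F44450)) (tt N22764 F43782))
theorem Q21308 : ∀ i, i < 21308 → P i := stepQ 21307 Q21307 (allL N21307 (tt N22805 (iv F43891)) (tt N22978 (iv F44348)) (tt N19001 F40353) (tt N22764 (iv F43781)) (tt N19034 F40354) (tt N19000 (iv D21345)))
theorem Q21309 : ∀ i, i < 21309 → P i := stepQ 21308 Q21308 (allL N21308 (tt N20434 F40355) (tt N19002 (iv D21346)) (tt N19026 F40356) (tt N20433 (iv F40357)) (tt N23009 D23047) (tt N22769 (iv F43802)))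
theorem Q21310 : ∀ i, i < 21310 → P i := stepQ 21309 Q21309 (allL N21309 (tt N19004 F40358) (tt N20433 F40359) (tt N20429 F40360) (tt N19002 (iv D21347)) (tt N23010 D23048) (tt N22768 (iv F43797)))
theorem Q21311 : ∀ i, i < 21311 → P i := stepQ 21310 Q21310 (allL N21310 (tt N19005 F40361) (tt N23009 (iv F44455)) (tt N19003 F40362) (tt N23011 D23049) (tt N19002 (iv D21348)) (tt N23012 D23050))
theorem Q21312 : ∀ i, i < 21312 → P i := stepQ 21311 Q21311 (allL N21311 (tt N19006 F40363) (tt N19028 F40364) (tt N23012 (iv F44471)) (tt N22906 (iv F44138)) (tt N22802 (iv F43887)) (tt N19003 (iv D21349)))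
theorem Q21313 : ∀ i, i < 21313 → P i := stepQ 21312 Q21312 (allL N21312 (tt N20429 F40365) (tt N20427 F40366) (tt N19004 (iv D21350)) (tt N20427 F40367) (tt N23013 D23051) (tt N22917 (iv F44174)))
theorem Q21314 : ∀ i, i < 21314 → P i := stepQ 21313 Q21313 (allL N21313 (tt N23010 (iv F44459)) (tt N20432 F40368) (tt N23013 (iv F44475)) (tt N23014 D23052) (tt N19004 (iv D21351)) (tt N23015 D23053))
theorem Q21315 : ∀ i, i < 21315 → P i := stepQ 21314 Q21314 (allL N21314 (tt N23011 (iv F44464)) (tt N19250 F40369) (tt N23016 D23054) (tt N19005 (iv D21352)) (tt N23014 (iv F44478)) (tt N19248 (iv F40370)))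
theorem Q21316 : ∀ i, i < 21316 → P i := stepQ 21315 Q21315 (allL N21315 (tt N23012 (iv F44469)) (tt N19249 F40371) (tt N19006 F40372) (tt N19248 F40373) (tt N22992 (iv F44400)) (tt N19005 (iv D21353)))
theorem Q21317 : ∀ i, i < 21317 → P i := stepQ 21316 Q21316 (allL N21316 (tt N22946 (iv F44255)) (tt N21478 (iv F40763)) (tt N21555 (iv F40971)) (tt N22942 (iv F44245)) (tt N21537 (iv F40907)) (tt N19008 (iv D21354)))
theorem Q21318 : ∀ i, i < 21318 → P i := stepQ 21317 Q21317 (allL N21317 (tt N22947 (iv F44259)) (tt N21432 (iv F40625)) (tt N22990 (iv F44391)) (tt N19009 (iv D21355)) (tt N21538 (iv F40912)) (tt N22943 (iv F44249)))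
theorem Q21319 : ∀ i, i < 21319 → P i := stepQ 21318 Q21318 (allL N21318 (tt N21476 (iv F40753)) (tt N19010 (iv D21356)) (tt N19014 F40374) (tt N23017 D23055) (tt N22340 (iv F42825)) (tt N22944 (iv F44252)))
theorem Q21320 : ∀ i, i < 21320 → P i := stepQ 21319 Q21319 (allL N21319 (tt N21331 (iv F40398)) (tt N23017 (iv F44488)) (tt N21330 (iv F40397)) (tt N19010 (iv D21357)) (tt N21807 (iv F41562)) (tt N22927 (iv F44204)))
theorem Q21321 : ∀ i, i < 21321 → P i := stepQ 21320 Q21320 (allL N21320 (tt N21546 (iv F40948)) (tt N22340 (iv F42823)) (tt N19011 F40375) (tt N21808 F41561) (tt N19010 (iv D21358)) (tt N22655 (iv F43530)))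
theorem Q21322 : ∀ i, i < 21322 → P i := stepQ 21321 Q21321 (allL N21321 (tt N21212 F40376) (tt N22944 (iv F44251)) (tt N19012 F40377) (tt N22927 (iv F44203)) (tt N23018 D23056) (tt N19010 (iv D21359)))
theorem Q21323 : ∀ i, i < 21323 → P i := stepQ 21322 Q21322 (allL N21322 (tt N21551 (iv F40959)) (tt N19016 F40378) (tt N22655 (iv F43529)) (tt N19023 F40379) (tt N23019 D23057) (tt N19011 (iv D21360)))
theorem Q21324 : ∀ i, i < 21324 → P i := stepQ 21323 Q21323 (allL N21323 (tt N21213 F40380) (tt N19017 F40381) (tt N23018 (iv F44491)) (tt N23020 D23058) (tt N19012 (iv D21361)) (tt N23019 (iv F44494)))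
theorem Q21325 : ∀ i, i < 21325 → P i := stepQ 21324 Q21324 (allL N21324 (tt N21208 F40382) (tt N19018 F40383) (tt N22932 (iv F44215)) (tt N19013 (iv D21362)) (tt N23020 (iv F44497)) (tt N19024 F40384))
theorem Q21326 : ∀ i, i < 21326 → P i := stepQ 21325 Q21325 (allL N21325 (tt N21538 (iv F40910)) (tt N22885 (iv F44065)) (tt N20484 F40385) (tt N19015 (iv D21363)) (tt N22947 (iv F44260)) (tt N20498 F40386))
theorem Q21327 : ∀ i, i < 21327 → P i := stepQ 21326 Q21326 (allL N21326 (tt N21537 F40909) (tt N22886 (iv F44068)) (tt N19016 F40387) (tt N20498 F40388) (tt N22946 (iv F44258)) (tt N19015 (iv D21364)))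
theorem Q21328 : ∀ i, i < 21328 → P i := stepQ 21327 Q21327 (allL N21327 (tt N21555 (iv F40969)) (tt N23019 (iv F44493)) (tt N22946 (iv F44256)) (tt N22996 (iv F44415)) (tt N19016 (iv D21365)) (tt N19017 F40389))
theorem Q21329 : ∀ i, i < 21329 → P i := stepQ 21328 Q21328 (allL N21328 (tt N21557 (iv F40977)) (tt N23020 (iv F44496)) (tt N23002 (iv F44433)) (tt N19017 (iv D21366)) (tt N19018 F40390) (tt N22996 (iv F44416)))
theorem Q21330 : ∀ i, i < 21330 → P i := stepQ 21329 Q21329 (allL N21329 (tt N22897 (iv F44091)) (tt N19298 (iv F40393)) (tt N19018 (iv D21367)) (tt N19297 F40392) (tt N23002 (iv F44435)) (tt N19025 F40391))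
theorem Q21331 : ∀ i, i < 21331 → P i := stepQ 21330 Q21330 (allL N21330 (tt N19024 F40394) (tt N21211 F40395) (tt N21319 F40397) (tt N19021 (iv D21368)) (tt N22993 (iv F44403)) (tt N21208 F40396))
theorem Q21332 : ∀ i, i < 21332 → P i := stepQ 21331 Q21331 (allL N21331 (tt N21319 F40398) (tt N19269 (iv F40400)) (tt N19024 (iv D21369)) (tt N19268 F40399) (tt N22994 (iv F44406)) (tt N22932 (iv F44216)))
theorem Q21333 : ∀ i, i < 21333 → P i := stepQ 21332 Q21332 (allL N21332 (tt N22970 (iv F44325)) (tt N19025 (iv D21370)) (tt N19269 F40401) (tt N19296 (iv F40403)) (tt N22995 (iv F44411)) (tt N19298 F40402))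
theorem Q21334 : ∀ i, i < 21334 → P i := stepQ 21333 Q21333 (allL N21333 (tt N22898 (iv F44095)) (tt N19296 F40404) (tt N19300 F40406) (tt N19025 (iv D21371)) (tt N23003 (iv F44439)) (tt N19297 F40405))
theorem Q21335 : ∀ i, i < 21335 → P i := stepQ 21334 Q21334 (allL N21334 (tt N19026 (iv D21372)) (tt N19029 F40407) (tt N20434 F40408) (tt N21089 F40409) (tt N23021 D23059) (tt N22920 (iv F44185)))
theorem Q21336 : ∀ i, i < 21336 → P i := stepQ 21335 Q21335 (allL N21335 (tt N23021 (iv F44498)) (tt N19027 F40410) (tt N23009 (iv F44456)) (tt N23022 D23060) (tt N19026 (iv D21373)) (tt N23023 D23061))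
theorem Q21337 : ∀ i, i < 21337 → P i := stepQ 21336 Q21336 (allL N21336 (tt N19033 F40411) (tt N23022 (iv F44502)) (tt N20589 F40412) (tt N19027 (iv D21374)) (tt N22807 F43901) (tt N23024 D23062))
theorem Q21338 : ∀ i, i < 21338 → P i := stepQ 21337 Q21337 (allL N21337 (tt N19034 F40413) (tt N23023 (iv F44507)) (tt N19028 F40414) (tt N23024 (iv F44513)) (tt N22805 (iv F43893)) (tt N19027 (iv D21375)))
theorem Q21339 : ∀ i, i < 21339 → P i := stepQ 21338 Q21338 (allL N21338 (tt N19030 F40415) (tt N21089 F40416) (tt N21104 F40417) (tt N19029 (iv D21376)) (tt N23025 D23063) (tt N22972 (iv F44336)))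
theorem Q21340 : ∀ i, i < 21340 → P i := stepQ 21339 Q21339 (allL N21339 (tt N19031 F40418) (tt N23021 (iv F44499)) (tt N19035 F40419) (tt N23026 D23064) (tt N19029 (iv D21377)) (tt N23027 D23065))
theorem Q21341 : ∀ i, i < 21341 → P i := stepQ 21340 Q21340 (allL N21340 (tt N21104 F40420) (tt N21107 F40421) (tt N19030 (iv D21378)) (tt N21107 F40422) (tt N23028 D23066) (tt N22975 (iv F44345)))
theorem Q21342 : ∀ i, i < 21342 → P i := stepQ 21341 Q21341 (allL N21341 (tt N23025 (iv F44515)) (tt N19032 F40423) (tt N23028 (iv F44524)) (tt N23029 D23067) (tt N19030 (iv D21379)) (tt N23030 D23068))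
theorem Q21343 : ∀ i, i < 21343 → P i := stepQ 21342 Q21342 (allL N21342 (tt N23026 (iv F44518)) (tt N19033 F40424) (tt N23031 D23069) (tt N19031 (iv D21380)) (tt N23029 (iv F44526)) (tt N23032 D23070))
theorem Q21344 : ∀ i, i < 21344 → P i := stepQ 21343 Q21343 (allL N21343 (tt N23027 (iv F44519)) (tt N19034 F40425) (tt N19037 F40426) (tt N23032 (iv F44531)) (tt N22978 (iv F44350)) (tt N19031 (iv D21381)))
theorem Q21345 : ∀ i, i < 21345 → P i := stepQ 21344 Q21344 (allL N21344 (tt N22807 (iv F43898)) (tt N23029 (iv F44525)) (tt N22013 (iv F42073)) (tt N19032 (iv D21382)) (tt N19033 F40427) (tt N22012 F42070))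
theorem Q21346 : ∀ i, i < 21346 → P i := stepQ 21345 Q21345 (allL N21345 (tt N22806 (iv F43894)) (tt N23030 (iv F44527)) (tt N22300 (iv F42731)) (tt N22012 (iv F42069)) (tt N23008 (iv F44453)) (tt N19032 (iv D21383)))
theorem Q21347 : ∀ i, i < 21347 → P i := stepQ 21346 Q21346 (allL N21346 (tt N20589 F40428) (tt N20694 (iv F40430)) (tt N19033 (iv D21384)) (tt N20588 F40429) (tt N22013 F42075) (tt N22017 (iv F42085)))
theorem Q21348 : ∀ i, i < 21348 → P i := stepQ 21347 Q21347 (allL N21347 (tt N23024 (iv F44510)) (tt N23032 (iv F44530)) (tt N22017 (iv F42083)) (tt N19034 F40431) (tt N22016 (iv F42081)) (tt N19033 (iv D21385)))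
theorem Q21349 : ∀ i, i < 21349 → P i := stepQ 21348 Q21348 (allL N21348 (tt N19037 F40432) (tt N19214 F40433) (tt N23027 (iv F44521)) (tt N19212 F40434) (tt N22974 (iv F44341)) (tt N19035 (iv D21386)))
theorem Q21350 : ∀ i, i < 21350 → P i := stepQ 21349 Q21349 (allL N21349 (tt N19208 F40435) (tt N21092 (iv F40437)) (tt N19036 (iv D21387)) (tt N23033 D23071) (tt N19206 F40436) (tt N23034 D23072))
theorem Q21351 : ∀ i, i < 21351 → P i := stepQ 21350 Q21350 (allL N21350 (tt N19212 F40438) (tt N19039 F40439) (tt N23034 (iv F44537)) (tt N19037 F40440) (tt N23035 D23073) (tt N19036 (iv D21388)))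
theorem Q21352 : ∀ i, i < 21352 → P i := stepQ 21351 Q21351 (allL N21351 (tt N20567 F40441) (tt N19038 (iv D21389)) (tt N21092 F40442) (tt N23036 D23074) (tt N19311 F40443) (tt N23037 D23075))
theorem Q21353 : ∀ i, i < 21353 → P i := stepQ 21352 Q21352 (allL N21352 (tt N19327 F40444) (tt N23036 (iv F44543)) (tt N20594 F40445) (tt N19038 (iv D21390)) (tt N19314 F40446) (tt N20591 F40447))
theorem Q21354 : ∀ i, i < 21354 → P i := stepQ 21353 Q21353 (allL N21353 (tt N19328 F40448) (tt N23037 (iv F44548)) (tt N19039 F40449) (tt N20591 F40450) (tt N19313 F40451) (tt N19038 (iv D21391)))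
theorem Q21355 : ∀ i, i < 21355 → P i := stepQ 21354 Q21354 (allL N21354 (tt N19158 F40452) (tt N23035 (iv F44540)) (tt N19313 F40453) (tt N22953 (iv F44277)) (tt N19039 (iv D21392)) (tt N19155 F40454))
theorem Q21356 : ∀ i, i < 21356 → P i := stepQ 21355 Q21355 (allL N21355 (tt N19276 F40455) (tt N22975 (iv F44343)) (tt N19040 (iv D21393)) (tt N22975 (iv F44344)) (tt N23038 D23076) (tt N21107 F40456))
theorem Q21357 : ∀ i, i < 21357 → P i := stepQ 21356 Q21356 (allL N21356 (tt N19277 F40457) (tt N19041 F40458) (tt N23038 (iv F44553)) (tt N22915 (iv F44166)) (tt N19040 (iv D21394)) (tt N23039 D23077))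
theorem Q21358 : ∀ i, i < 21358 → P i := stepQ 21357 Q21357 (allL N21357 (tt N19044 F40459) (tt N23039 (iv F44555)) (tt N23008 (iv F44452)) (tt N22916 (iv F44169)) (tt N22300 (iv F42733)) (tt N19041 (iv D21395)))
theorem Q21359 : ∀ i, i < 21359 → P i := stepQ 21358 Q21358 (allL N21358 (tt N19042 (iv D21396)) (tt N22972 (iv F44334)) (tt N19283 F40460) (tt N22920 (iv F44184)) (tt N23040 D23078) (tt N21089 F40461))
theorem Q21360 : ∀ i, i < 21360 → P i := stepQ 21359 Q21359 (allL N21359 (tt N23040 (iv F44557)) (tt N19043 F40462) (tt N19284 F40463) (tt N23041 D23079) (tt N19042 (iv D21397)) (tt N23042 D23080))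
theorem Q21361 : ∀ i, i < 21361 → P i := stepQ 21360 Q21360 (allL N21360 (tt N23007 (iv F44449)) (tt N23041 (iv F44559)) (tt N23043 D23081) (tt N19043 (iv D21398)) (tt N22804 (iv F43890)) (tt N23044 D23082))
theorem Q21362 : ∀ i, i < 21362 → P i := stepQ 21361 Q21361 (allL N21361 (tt N23008 (iv F44451)) (tt N23042 (iv F44560)) (tt N19044 F40464) (tt N23044 (iv F44566)) (tt N22806 F43897) (tt N19043 (iv D21399)))
theorem Q21363 : ∀ i, i < 21363 → P i := stepQ 21362 Q21362 (allL N21362 (tt N19052 F40465) (tt N20703 F40466) (tt N20904 F40467) (tt N19049 F40468) (tt N19046 (iv D21400)) (tt N21939 (iv F41908)))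
theorem Q21364 : ∀ i, i < 21364 → P i := stepQ 21363 Q21363 (allL N21363 (tt N19060 F40469) (tt N20685 F40470) (tt N19075 F40471) (tt N21939 (iv F41906)) (tt N19074 F40472) (tt N19049 (iv D21401)))
theorem Q21365 : ∀ i, i < 21365 → P i := stepQ 21364 Q21364 (allL N21364 (tt N20904 F40473) (tt N20907 F40474) (tt N19052 F40475) (tt N23045 D23083) (tt N19051 (iv D21402)) (tt N22641 (iv F43506)))
theorem Q21366 : ∀ i, i < 21366 → P i := stepQ 21365 Q21365 (allL N21365 (tt N19055 F40476) (tt N20146 F40477) (tt N19053 (iv D21403)) (tt N19079 F40478) (tt N23046 D23084) (tt N20143 (iv F40479)))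
theorem Q21367 : ∀ i, i < 21367 → P i := stepQ 21366 Q21366 (allL N21366 (tt N19056 F40480) (tt N20707 F40481) (tt N23046 (iv F44575)) (tt N20706 F40482) (tt N19053 (iv D21404)) (tt N20887 (iv F40483)))
theorem Q21368 : ∀ i, i < 21368 → P i := stepQ 21367 Q21367 (allL N21367 (tt N19057 F40484) (tt N19071 F40485) (tt N20143 F40486) (tt N19054 F40487) (tt N22354 (iv F42854)) (tt N19053 (iv D21405)))
theorem Q21369 : ∀ i, i < 21369 → P i := stepQ 21368 Q21368 (allL N21368 (tt N19220 F40488) (tt N19055 (iv D21406)) (tt N19058 F40489) (tt N23047 D23085) (tt N23048 D23086) (tt N19065 (iv F40490)))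
theorem Q21370 : ∀ i, i < 21370 → P i := stepQ 21369 Q21369 (allL N21369 (tt N19079 F40491) (tt N23047 (iv F44578)) (tt N19078 F40492) (tt N19055 (iv D21407)) (tt N23049 D23087) (tt N20142 F40493))
theorem Q21371 : ∀ i, i < 21371 → P i := stepQ 21370 Q21370 (allL N21370 (tt N23046 (iv F44573)) (tt N23048 (iv F44582)) (tt N19056 F40494) (tt N21970 (iv F41963)) (tt N19055 (iv D21408)) (tt N22661 (iv F43544)))
theorem Q21372 : ∀ i, i < 21372 → P i := stepQ 21371 Q21371 (allL N21371 (tt N20143 F40495) (tt N19065 F40496) (tt N19057 F40497) (tt N20142 F40498) (tt N22662 (iv F43547)) (tt N19055 (iv D21409)))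
theorem Q21373 : ∀ i, i < 21373 → P i := stepQ 21372 Q21372 (allL N21372 (tt N19221 F40499) (tt N19059 F40500) (tt N23048 (iv F44583)) (tt N23050 D23088) (tt N19058 (iv D21410)) (tt N23051 D23089))
theorem Q21374 : ∀ i, i < 21374 → P i := stepQ 21373 Q21373 (allL N21373 (tt N19076 F40501) (tt N23050 (iv F44587)) (tt N19209 (iv F40503)) (tt N19059 (iv D21411)) (tt N19069 F40502) (tt N23052 D23090))
theorem Q21375 : ∀ i, i < 21375 → P i := stepQ 21374 Q21374 (allL N21374 (tt N19075 F40504) (tt N23051 (iv F44590)) (tt N19060 F40505) (tt N23052 (iv F44594)) (tt N19068 F40506) (tt N19059 (iv D21412)))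
theorem Q21376 : ∀ i, i < 21376 → P i := stepQ 21375 Q21375 (allL N21375 (tt N19064 F40507) (tt N20132 F40508) (tt N19063 F40509) (tt N23053 D23091) (tt N19062 (iv D21413)) (tt N19084 F40510))
theorem Q21377 : ∀ i, i < 21377 → P i := stepQ 21376 Q21376 (allL N21376 (tt N23053 (iv F44596)) (tt N19082 F40511) (tt N21645 (iv F41168)) (tt N19064 (iv D21414)) (tt N20152 F40512) (tt N19086 F40513))
theorem Q21378 : ∀ i, i < 21378 → P i := stepQ 21377 Q21377 (allL N21377 (tt N20137 F40514) (tt N20142 F40515) (tt N23054 D23092) (tt N19065 (iv D21415)) (tt N23055 D23093) (tt N23047 (iv F44580)))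
theorem Q21379 : ∀ i, i < 21379 → P i := stepQ 21378 Q21378 (allL N21378 (tt N22296 (iv F42720)) (tt N22662 (iv F43546)) (tt N19066 F40516) (tt N23056 D23094) (tt N19065 (iv D21416)) (tt N22663 (iv F43550)))
theorem Q21380 : ∀ i, i < 21380 → P i := stepQ 21379 Q21379 (allL N21379 (tt N22299 (iv F42727)) (tt N19068 F40517) (tt N22663 (iv F43549)) (tt N21112 F40518) (tt N23051 (iv F44591)) (tt N19066 (iv D21417)))
theorem Q21381 : ∀ i, i < 21381 → P i := stepQ 21380 Q21380 (allL N21380 (tt N19118 F40519) (tt N19069 F40520) (tt N23057 D23095) (tt N19067 (iv D21418)) (tt N23050 (iv F44588)) (tt N19215 F40521))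
theorem Q21382 : ∀ i, i < 21382 → P i := stepQ 21381 Q21381 (allL N21381 (tt N20886 F40522) (tt N19074 F40523) (tt N20651 F40524) (tt N21021 F40525) (tt N20685 F40526) (tt N19072 (iv D21419)))
theorem Q21383 : ∀ i, i < 21383 → P i := stepQ 21382 Q21382 (allL N21382 (tt N23052 (iv F44592)) (tt N19122 F40527) (tt N23058 D23096) (tt N19075 (iv D21420)) (tt N19219 F40528) (tt N19076 F40529))
theorem Q21384 : ∀ i, i < 21384 → P i := stepQ 21383 Q21383 (allL N21383 (tt N19209 F40530) (tt N23059 D23097) (tt N19076 (iv D21421)) (tt N21095 (iv F40532)) (tt N19077 F40531) (tt N23058 (iv F44613)))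
theorem Q21385 : ∀ i, i < 21385 → P i := stepQ 21384 Q21384 (allL N21384 (tt N23060 D23098) (tt N19077 (iv D21422)) (tt N19120 F40533) (tt N19205 F40534) (tt N23059 (iv F44616)) (tt N19217 F40535))
theorem Q21386 : ∀ i, i < 21386 → P i := stepQ 21385 Q21385 (allL N21385 (tt N19080 F40536) (tt N20131 F40537) (tt N23049 (iv F44585)) (tt N19083 F40538) (tt N19078 (iv D21423)) (tt N23061 D23099))
theorem Q21387 : ∀ i, i < 21387 → P i := stepQ 21386 Q21386 (allL N21386 (tt N23049 (iv F44584)) (tt N20149 F40539) (tt N19080 F40540) (tt N23062 D23100) (tt N19079 (iv D21424)) (tt N23063 D23101))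
theorem Q21388 : ∀ i, i < 21388 → P i := stepQ 21387 Q21387 (allL N21387 (tt N23061 (iv F44621)) (tt N19081 F40541) (tt N23063 (iv F44627)) (tt N19085 F40542) (tt N20153 F40543) (tt N19080 (iv D21425)))
theorem Q21389 : ∀ i, i < 21389 → P i := stepQ 21388 Q21388 (allL N21388 (tt N19085 F40544) (tt N22285 (iv F42692)) (tt N21492 (iv F40809)) (tt N23061 (iv F44623)) (tt N21491 (iv F40806)) (tt N19083 (iv D21426)))
theorem Q21390 : ∀ i, i < 21390 → P i := stepQ 21389 Q21389 (allL N21389 (tt N19086 F40545) (tt N22286 (iv F42696)) (tt N21544 (iv F40940)) (tt N19084 (iv D21427)) (tt N21490 (iv F40802)) (tt N23053 (iv F44599)))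
theorem Q21391 : ∀ i, i < 21391 → P i := stepQ 21390 Q21390 (allL N21390 (tt N19090 F40546) (tt N21493 (iv F40813)) (tt N20133 F40547) (tt N19089 (iv D21428)) (tt N23064 D23102) (tt N22283 (iv F42688)))
theorem Q21392 : ∀ i, i < 21392 → P i := stepQ 21391 Q21391 (allL N21391 (tt N20133 F40548) (tt N22960 (iv F44300)) (tt N19090 (iv D21429)) (tt N20130 F40549) (tt N23065 D23103) (tt N22287 (iv F42702)))
theorem Q21393 : ∀ i, i < 21393 → P i := stepQ 21392 Q21392 (allL N21392 (tt N23064 (iv F44629)) (tt N19092 F40550) (tt N23065 (iv F44634)) (tt N23066 D23104) (tt N19090 (iv D21430)) (tt N23067 D23105))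
theorem Q21394 : ∀ i, i < 21394 → P i := stepQ 21393 Q21393 (allL N21393 (tt N21394 (iv F40553)) (tt N19094 F40551) (tt N21401 (iv F40567)) (tt N19091 (iv D21431)) (tt N23066 (iv F44637)) (tt N19200 (iv F40552)))
theorem Q21395 : ∀ i, i < 21395 → P i := stepQ 21394 Q21394 (allL N21394 (tt N21393 F40553) (tt N19095 F40554) (tt N19100 F40555) (tt N19200 F40556) (tt N22290 (iv F42707)) (tt N19091 (iv D21432)))
theorem Q21396 : ∀ i, i < 21396 → P i := stepQ 21395 Q21395 (allL N21395 (tt N19196 F40557) (tt N23066 (iv F44636)) (tt N19203 F40559) (tt N19092 (iv D21433)) (tt N19094 F40558) (tt N23068 D23106))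
theorem Q21397 : ∀ i, i < 21397 → P i := stepQ 21396 Q21396 (allL N21396 (tt N22810 (iv F43912)) (tt N23067 (iv F44641)) (tt N22965 (iv F44314)) (tt N23068 (iv F44646)) (tt N23069 D23107) (tt N19092 (iv D21434)))
theorem Q21398 : ∀ i, i < 21398 → P i := stepQ 21397 Q21397 (allL N21397 (tt N19106 F40560) (tt N22288 (iv F42703)) (tt N19104 F40561) (tt N23070 D23108) (tt N19093 (iv D21435)) (tt N23069 (iv F44650)))
theorem Q21399 : ∀ i, i < 21399 → P i := stepQ 21398 Q21398 (allL N21398 (tt N19197 F40562) (tt N22290 (iv F42705)) (tt N19097 F40563) (tt N23071 D23109) (tt N19095 (iv D21436)) (tt N19096 F40564))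
theorem Q21400 : ∀ i, i < 21400 → P i := stepQ 21399 Q21399 (allL N21399 (tt N22811 (iv F43916)) (tt N22289 (iv F42704)) (tt N23072 D23110) (tt N19096 (iv D21437)) (tt N23070 (iv F44653)) (tt N23071 (iv F44657)))
theorem Q21401 : ∀ i, i < 21401 → P i := stepQ 21400 Q21400 (allL N21400 (tt N19099 F40565) (tt N21490 (iv F40800)) (tt N23073 D23111) (tt N19098 (iv D21438)) (tt N22286 (iv F42697)) (tt N23074 D23112))
theorem Q21402 : ∀ i, i < 21402 → P i := stepQ 21401 Q21401 (allL N21401 (tt N19100 F40566) (tt N21491 (iv F40804)) (tt N21393 F40567) (tt N23074 (iv F44667)) (tt N22285 (iv F42694)) (tt N19098 (iv D21439)))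
theorem Q21403 : ∀ i, i < 21403 → P i := stepQ 21402 Q21402 (allL N21402 (tt N23073 (iv F44663)) (tt N23075 D23113) (tt N19099 (iv D21440)) (tt N21402 F40568) (tt N22291 (iv F42708)) (tt N23076 D23114))
theorem Q21404 : ∀ i, i < 21404 → P i := stepQ 21403 Q21403 (allL N21403 (tt N23074 (iv F44665)) (tt N19102 F40569) (tt N23076 (iv F44673)) (tt N19100 F40570) (tt N20995 (iv F40571)) (tt N19099 (iv D21441)))
theorem Q21405 : ∀ i, i < 21405 → P i := stepQ 21404 Q21404 (allL N21404 (tt N22087 (iv F42240)) (tt N19101 (iv D21442)) (tt N23075 (iv F44669)) (tt N19504 F40572) (tt N22121 (iv F42316)) (tt N19503 F40573))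
theorem Q21406 : ∀ i, i < 21406 → P i := stepQ 21405 Q21405 (allL N21405 (tt N22949 (iv F44265)) (tt N22287 (iv F42700)) (tt N19103 (iv D21443)) (tt N23054 (iv F44602)) (tt N23077 D23115) (tt N22960 (iv F44301)))
theorem Q21407 : ∀ i, i < 21407 → P i := stepQ 21406 Q21406 (allL N21406 (tt N22952 (iv F44272)) (tt N19104 F40574) (tt N23077 (iv F44676)) (tt N19147 F40575) (tt N19103 (iv D21444)) (tt N23078 D23116))
theorem Q21408 : ∀ i, i < 21408 → P i := stepQ 21407 Q21407 (allL N21407 (tt N19107 F40576) (tt N23078 (iv F44677)) (tt N23069 (iv F44649)) (tt N19148 F40577) (tt N22965 (iv F44316)) (tt N19104 (iv D21445)))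
theorem Q21409 : ∀ i, i < 21409 → P i := stepQ 21408 Q21408 (allL N21408 (tt N19105 (iv D21446)) (tt N22283 (iv F42686)) (tt N21475 F40752) (tt N21494 (iv F40819)) (tt N23079 D23117) (tt N21493 (iv F40815)))
theorem Q21410 : ∀ i, i < 21410 → P i := stepQ 21409 Q21409 (allL N21409 (tt N23079 (iv F44679)) (tt N19106 F40578) (tt N21477 F40758) (tt N21411 (iv F40759)) (tt N19105 (iv D21447)) (tt N21410 F40761))
theorem Q21411 : ∀ i, i < 21411 → P i := stepQ 21410 Q21410 (allL N21410 (tt N23070 (iv F44651)) (tt N21411 F40760) (tt N23080 D23118) (tt N19106 (iv D21448)) (tt N22811 (iv F43918)) (tt N21409 (iv F40761)))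
theorem Q21412 : ∀ i, i < 21412 → P i := stepQ 21411 Q21411 (allL N21411 (tt N23069 (iv F44648)) (tt N21410 (iv F40760)) (tt N19107 F40579) (tt N21409 F40759) (tt N22810 (iv F43915)) (tt N19106 (iv D21449)))
theorem Q21413 : ∀ i, i < 21413 → P i := stepQ 21412 Q21412 (allL N21412 (tt N19110 F40580) (tt N19335 F40581) (tt N23081 D23119) (tt N19109 (iv D21450)) (tt N23082 D23120) (tt N22912 (iv F44158)))
theorem Q21414 : ∀ i, i < 21414 → P i := stepQ 21413 Q21413 (allL N21413 (tt N23081 (iv F44687)) (tt N22914 (iv F44162)) (tt N19110 (iv D21451)) (tt N23081 (iv F44688)) (tt N23083 D23121) (tt N22913 (iv F44160)))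
theorem Q21415 : ∀ i, i < 21415 → P i := stepQ 21414 Q21414 (allL N21414 (tt N23082 (iv F44689)) (tt N19111 F40582) (tt N23083 (iv F44692)) (tt N19945 F40583) (tt N19110 (iv D21452)) (tt N23084 D23122))
theorem Q21416 : ∀ i, i < 21416 → P i := stepQ 21415 Q21415 (allL N21415 (tt N19337 F40584) (tt N23084 (iv F44693)) (tt N22916 (iv F44168)) (tt N19949 F40585) (tt N22758 (iv F43767)) (tt N19111 (iv D21453)))
theorem Q21417 : ∀ i, i < 21417 → P i := stepQ 21416 Q21416 (allL N21416 (tt N23057 (iv F44606)) (tt N22913 (iv F44159)) (tt N19118 (iv D21454)) (tt N23085 D23123) (tt N23086 D23124) (tt N22914 (iv F44163)))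
theorem Q21418 : ∀ i, i < 21418 → P i := stepQ 21417 Q21417 (allL N21417 (tt N23050 (iv F44586)) (tt N19119 F40586) (tt N23086 (iv F44698)) (tt N19221 F40587) (tt N19118 (iv D21455)) (tt N23087 D23125))
theorem Q21419 : ∀ i, i < 21419 → P i := stepQ 21418 Q21418 (allL N21418 (tt N19122 F40588) (tt N23087 (iv F44699)) (tt N22758 (iv F43766)) (tt N19222 F40589) (tt N22916 (iv F44170)) (tt N19119 (iv D21456)))
theorem Q21420 : ∀ i, i < 21420 → P i := stepQ 21419 Q21419 (allL N21419 (tt N19120 (iv D21457)) (tt N22912 (iv F44157)) (tt N23060 (iv F44618)) (tt N19322 F40590) (tt N23088 D23126) (tt N19335 F40591))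
theorem Q21421 : ∀ i, i < 21421 → P i := stepQ 21420 Q21420 (allL N21420 (tt N23088 (iv F44701)) (tt N19121 F40592) (tt N23059 (iv F44614)) (tt N23089 D23127) (tt N19120 (iv D21458)) (tt N23090 D23128))
theorem Q21422 : ∀ i, i < 21422 → P i := stepQ 21421 Q21421 (allL N21421 (tt N20392 F40593) (tt N23089 (iv F44702)) (tt N20391 F40595) (tt N19121 (iv D21459)) (tt N19338 F40594) (tt N22757 (iv F43763)))
theorem Q21423 : ∀ i, i < 21423 → P i := stepQ 21422 Q21422 (allL N21422 (tt N22758 (iv F43764)) (tt N23090 (iv F44705)) (tt N19122 F40596) (tt N22757 (iv F43761)) (tt N19337 F40597) (tt N19121 (iv D21460)))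
theorem Q21424 : ∀ i, i < 21424 → P i := stepQ 21423 Q21423 (allL N21423 (tt N22908 (iv F44144)) (tt N22789 (iv F43851)) (tt N19123 (iv D21461)) (tt N23091 D23129) (tt N19125 F40598) (tt N23092 D23130))
theorem Q21425 : ∀ i, i < 21425 → P i := stepQ 21424 Q21424 (allL N21424 (tt N22909 (iv F44147)) (tt N19128 F40599) (tt N23092 (iv F44707)) (tt N19124 F40600) (tt N23093 D23131) (tt N19123 (iv D21462)))
theorem Q21426 : ∀ i, i < 21426 → P i := stepQ 21425 Q21425 (allL N21425 (tt N22511 F43181) (tt N22513 (iv F43188)) (tt N20507 F40601) (tt N19125 (iv D21463)) (tt N22709 (iv F43641)) (tt N22517 (iv F43209)))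
theorem Q21427 : ∀ i, i < 21427 → P i := stepQ 21426 Q21426 (allL N21426 (tt N20416 F40602) (tt N19151 F40603) (tt N19126 F40604) (tt N22517 (iv F43207)) (tt N23094 D23132) (tt N19125 (iv D21464)))
theorem Q21428 : ∀ i, i < 21428 → P i := stepQ 21427 Q21427 (allL N21427 (tt N20417 F40605) (tt N19129 F40606) (tt N23094 (iv F44714)) (tt N20428 F40607) (tt N19126 (iv D21465)) (tt N23093 (iv F44711)))
theorem Q21429 : ∀ i, i < 21429 → P i := stepQ 21428 Q21428 (allL N21428 (tt N19135 F40608) (tt N22790 (iv F43853)) (tt N23095 D23133) (tt N19127 (iv D21466)) (tt N19154 F40609) (tt N21139 (iv F40610)))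
theorem Q21430 : ∀ i, i < 21430 → P i := stepQ 21429 Q21429 (allL N21429 (tt N19136 F40611) (tt N22791 (iv F43856)) (tt N19128 F40612) (tt N21139 F40613) (tt N19153 F40614) (tt N19127 (iv D21467)))
theorem Q21431 : ∀ i, i < 21431 → P i := stepQ 21430 Q21430 (allL N21430 (tt N19137 F40615) (tt N23093 (iv F44709)) (tt N19153 F40616) (tt N19174 F40617) (tt N19128 (iv D21468)) (tt N19129 F40618))
theorem Q21432 : ∀ i, i < 21432 → P i := stepQ 21431 Q21431 (allL N21431 (tt N20298 F40619) (tt N19133 F40620) (tt N20299 F40621) (tt N19131 F40622) (tt N20297 F40623) (tt N19130 (iv D21469)))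
theorem Q21433 : ∀ i, i < 21433 → P i := stepQ 21432 Q21432 (allL N21432 (tt N19180 F40624) (tt N21317 F40625) (tt N21139 F40627) (tt N19132 (iv D21470)) (tt N19254 F40626) (tt N23095 (iv F44719)))
theorem Q21434 : ∀ i, i < 21434 → P i := stepQ 21433 Q21433 (allL N21433 (tt N19178 F40628) (tt N21227 F40629) (tt N19133 F40630) (tt N23095 (iv F44717)) (tt N21225 F40631) (tt N19132 (iv D21471)))
theorem Q21435 : ∀ i, i < 21435 → P i := stepQ 21434 Q21434 (allL N21434 (tt N19177 F40632) (tt N20297 F40633) (tt N21225 F40634) (tt N19165 F40635) (tt N19133 (iv D21472)) (tt N19166 F40636))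
theorem Q21436 : ∀ i, i < 21436 → P i := stepQ 21435 Q21435 (allL N21435 (tt N19134 (iv D21473)) (tt N22786 (iv F43845)) (tt N21861 F41710) (tt N23096 D23134) (tt N19138 F40637) (tt N23097 D23135))
theorem Q21437 : ∀ i, i < 21437 → P i := stepQ 21436 Q21436 (allL N21436 (tt N23096 (iv F44721)) (tt N19135 F40638) (tt N23098 D23136) (tt N19134 (iv D21474)) (tt N23099 D23137) (tt N23100 D23138))
theorem Q21438 : ∀ i, i < 21438 → P i := stepQ 21437 Q21437 (allL N21437 (tt N23097 (iv F44722)) (tt N19136 F40639) (tt N22922 (iv F44189)) (tt N23100 (iv F44727)) (tt N23101 D23139) (tt N19134 (iv D21475)))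
theorem Q21439 : ∀ i, i < 21439 → P i := stepQ 21438 Q21438 (allL N21438 (tt N23095 (iv F44716)) (tt N23102 D23140) (tt N19135 (iv D21476)) (tt N19178 F40640) (tt N23103 D23141) (tt N19180 (iv F40641)))
theorem Q21440 : ∀ i, i < 21440 → P i := stepQ 21439 Q21439 (allL N21439 (tt N19154 F40642) (tt N23099 (iv F44723)) (tt N23103 (iv F44737)) (tt N19141 F40643) (tt N19135 (iv D21477)) (tt N19237 (iv F40644)))
theorem Q21441 : ∀ i, i < 21441 → P i := stepQ 21440 Q21440 (allL N21440 (tt N21139 F40645) (tt N23100 (iv F44726)) (tt N19180 F40646) (tt N19136 F40647) (tt N21129 F40648) (tt N19135 (iv D21478)))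
theorem Q21442 : ∀ i, i < 21442 → P i := stepQ 21441 Q21441 (allL N21441 (tt N19153 F40649) (tt N23101 (iv F44729)) (tt N19137 F40650) (tt N19236 F40651) (tt N19136 (iv D21479)) (tt N19142 F40652))
theorem Q21443 : ∀ i, i < 21443 → P i := stepQ 21442 Q21442 (allL N21442 (tt N19140 F40653) (tt N19150 F40654) (tt N20419 F40655) (tt N19144 F40656) (tt N23104 D23142) (tt N19138 (iv D21480)))
theorem Q21444 : ∀ i, i < 21444 → P i := stepQ 21443 Q21443 (allL N21443 (tt N22785 (iv F43840)) (tt N19141 F40657) (tt N22767 (iv F43792)) (tt N23099 (iv F44724)) (tt N19139 (iv D21481)) (tt N19235 F40658))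
theorem Q21445 : ∀ i, i < 21445 → P i := stepQ 21444 Q21444 (allL N21444 (tt N23104 (iv F44740)) (tt N19142 F40659) (tt N20420 F40660) (tt N19234 F40661) (tt N19140 (iv D21482)) (tt N23101 (iv F44732)))
theorem Q21446 : ∀ i, i < 21446 → P i := stepQ 21445 Q21445 (allL N21445 (tt N19146 F40662) (tt N19309 F40663) (tt N19145 (iv D21483)) (tt N23105 D23143) (tt N23106 D23144) (tt N19206 F40664))
theorem Q21447 : ∀ i, i < 21447 → P i := stepQ 21446 Q21446 (allL N21446 (tt N19147 F40665) (tt N19155 F40666) (tt N23106 (iv F44749)) (tt N22952 (iv F44274)) (tt N19145 (iv D21484)) (tt N23035 (iv F44541)))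
theorem Q21448 : ∀ i, i < 21448 → P i := stepQ 21447 Q21447 (allL N21447 (tt N23105 (iv F44744)) (tt N19189 F40667) (tt N23107 D23145) (tt N19146 (iv D21485)) (tt N23108 D23146) (tt N19207 F40668))
theorem Q21449 : ∀ i, i < 21449 → P i := stepQ 21448 Q21448 (allL N21448 (tt N23106 (iv F44747)) (tt N19190 F40669) (tt N19147 F40670) (tt N23109 D23147) (tt N19146 (iv D21486)) (tt N23110 D23148))
theorem Q21450 : ∀ i, i < 21450 → P i := stepQ 21449 Q21449 (allL N21449 (tt N23035 (iv F44539)) (tt N19148 F40671) (tt N23110 (iv F44756)) (tt N23078 (iv F44678)) (tt N19212 F40672) (tt N19147 (iv D21487)))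
theorem Q21451 : ∀ i, i < 21451 → P i := stepQ 21450 Q21450 (allL N21450 (tt N19152 F40673) (tt N23104 (iv F44741)) (tt N19760 F40674) (tt N21141 F40675) (tt N19150 (iv D21488)) (tt N23111 D23149))
theorem Q21452 : ∀ i, i < 21452 → P i := stepQ 21451 Q21451 (allL N21451 (tt N19760 F40676) (tt N23094 (iv F44713)) (tt N19152 F40677) (tt N19757 F40678) (tt N19151 (iv D21489)) (tt N23112 D23150))
theorem Q21453 : ∀ i, i < 21453 → P i := stepQ 21452 Q21452 (allL N21452 (tt N23111 (iv F44758)) (tt N19153 F40679) (tt N23112 (iv F44762)) (tt N19742 F40680) (tt N22791 (iv F43858)) (tt N19152 (iv D21490)))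
theorem Q21454 : ∀ i, i < 21454 → P i := stepQ 21453 Q21453 (allL N21453 (tt N23103 (iv F44736)) (tt N21253 (iv F40682)) (tt N19154 (iv D21491)) (tt N21252 F40683) (tt N23095 (iv F44718)) (tt N21138 F40681))
theorem Q21455 : ∀ i, i < 21455 → P i := stepQ 21454 Q21454 (allL N21454 (tt N19156 (iv D21492)) (tt N19307 F40684) (tt N19159 F40685) (tt N19291 F40686) (tt N23113 D23151) (tt N19192 F40687))
theorem Q21456 : ∀ i, i < 21456 → P i := stepQ 21455 Q21455 (allL N21455 (tt N23113 (iv F44764)) (tt N19157 F40688) (tt N19160 F40689) (tt N23000 (iv F44425)) (tt N19156 (iv D21493)) (tt N20592 F40690))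
theorem Q21457 : ∀ i, i < 21457 → P i := stepQ 21456 Q21456 (allL N21456 (tt N19313 F40691) (tt N20592 F40692) (tt N19158 F40693) (tt N23002 (iv F44434)) (tt N19328 F40694) (tt N19157 (iv D21494)))
theorem Q21458 : ∀ i, i < 21458 → P i := stepQ 21457 Q21457 (allL N21457 (tt N19160 F40695) (tt N19188 F40696) (tt N23113 (iv F44766)) (tt N19271 F40697) (tt N19159 (iv D21495)) (tt N20568 F40698))
theorem Q21459 : ∀ i, i < 21459 → P i := stepQ 21458 Q21458 (allL N21458 (tt N19271 F40699) (tt N19161 F40700) (tt N23114 D23152) (tt N19160 (iv D21496)) (tt N19167 F40701) (tt N20386 (iv F40702)))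
theorem Q21460 : ∀ i, i < 21460 → P i := stepQ 21459 Q21459 (allL N21459 (tt N20568 F40703) (tt N19162 F40704) (tt N20592 F40705) (tt N20386 F40706) (tt N19195 F40707) (tt N19160 (iv D21497)))
theorem Q21461 : ∀ i, i < 21461 → P i := stepQ 21460 Q21460 (allL N21460 (tt N19185 F40708) (tt N23115 D23153) (tt N19161 (iv D21498)) (tt N23116 D23154) (tt N19168 F40709) (tt N21133 F40710))
theorem Q21462 : ∀ i, i < 21462 → P i := stepQ 21461 Q21461 (allL N21461 (tt N19270 F40711) (tt N23117 D23155) (tt N19167 (iv D21499)) (tt N22968 (iv F44321)) (tt N23114 (iv F44769)) (tt N19245 F40712))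
theorem Q21463 : ∀ i, i < 21463 → P i := stepQ 21462 Q21462 (allL N21462 (tt N21228 F40713) (tt N19168 (iv D21500)) (tt N23117 (iv F44781)) (tt N19182 F40714) (tt N23115 (iv F44772)) (tt N19184 F40715))
theorem Q21464 : ∀ i, i < 21464 → P i := stepQ 21463 Q21463 (allL N21463 (tt N22746 (iv F43729)) (tt N19169 (iv D21501)) (tt N19171 F40716) (tt N23118 D23156) (tt N22917 (iv F44173)) (tt N23119 D23157))
theorem Q21465 : ∀ i, i < 21465 → P i := stepQ 21464 Q21464 (allL N21464 (tt N22918 (iv F44176)) (tt N23118 (iv F44783)) (tt N23120 D23158) (tt N19169 (iv D21502)) (tt N23118 (iv F44784)) (tt N23120 F44788))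
theorem Q21466 : ∀ i, i < 21466 → P i := stepQ 21465 Q21465 (allL N21465 (tt N22919 (iv F44178)) (tt N23119 (iv F44785)) (tt N19170 F40717) (tt N23120 (iv F44787)) (tt N23121 D23159) (tt N19169 (iv D21503)))
theorem Q21467 : ∀ i, i < 21467 → P i := stepQ 21466 Q21466 (allL N21466 (tt N20431 F40718) (tt N19174 F40719) (tt N23121 (iv F44790)) (tt N23093 (iv F44710)) (tt N19170 (iv D21504)) (tt N20428 F40720))
theorem Q21468 : ∀ i, i < 21468 → P i := stepQ 21467 Q21467 (allL N21467 (tt N22770 (iv F43803)) (tt N19172 F40721) (tt N23122 D23160) (tt N19171 (iv D21505)) (tt N22991 (iv F44395)) (tt N20359 (iv F40722)))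
theorem Q21469 : ∀ i, i < 21469 → P i := stepQ 21468 Q21468 (allL N21468 (tt N22771 (iv F43806)) (tt N19173 F40723) (tt N23119 (iv F44786)) (tt N20359 F40724) (tt N23015 (iv F44483)) (tt N19171 (iv D21506)))
theorem Q21470 : ∀ i, i < 21470 → P i := stepQ 21469 Q21469 (allL N21469 (tt N20349 F40725) (tt N23015 (iv F44481)) (tt N19174 F40726) (tt N20339 F40727) (tt N19173 (iv D21507)) (tt N20432 F40728))
theorem Q21471 : ∀ i, i < 21471 → P i := stepQ 21470 Q21470 (allL N21470 (tt N20360 F40729) (tt N21038 F40730) (tt N20348 F40731) (tt N21040 F40732) (tt N19176 (iv D21508)) (tt N20347 F40733))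
theorem Q21472 : ∀ i, i < 21472 → P i := stepQ 21471 Q21471 (allL N21471 (tt N21225 F40734) (tt N20292 F40735) (tt N19177 (iv D21509)) (tt N21251 (iv F40738)) (tt N19178 F40736) (tt N19181 F40737))
theorem Q21473 : ∀ i, i < 21473 → P i := stepQ 21472 Q21472 (allL N21472 (tt N20295 F40739) (tt N19178 (iv D21510)) (tt N20293 F40740) (tt N23102 (iv F44734)) (tt N20292 F40741) (tt N19179 F40742))
theorem Q21474 : ∀ i, i < 21474 → P i := stepQ 21473 Q21473 (allL N21473 (tt N19179 (iv D21511)) (tt N21230 F40743) (tt N20296 F40744) (tt N23123 D23161) (tt N19183 F40745) (tt N20295 F40746))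
theorem Q21475 : ∀ i, i < 21475 → P i := stepQ 21474 Q21474 (allL N21474 (tt N23123 (iv F44795)) (tt N19180 F40747) (tt N23124 D23162) (tt N19179 (iv D21512)) (tt N21131 F40748) (tt N23102 (iv F44735)))
theorem Q21476 : ∀ i, i < 21476 → P i := stepQ 21475 Q21475 (allL N21475 (tt N21224 F40749) (tt N21231 F40750) (tt N21408 (iv F40752)) (tt N19181 (iv D21513)) (tt N23116 (iv F44778)) (tt N21251 F40751))
theorem Q21477 : ∀ i, i < 21477 → P i := stepQ 21476 Q21476 (allL N21476 (tt N21318 F40753) (tt N19245 F40754) (tt N19184 (iv D21514)) (tt N23125 D23163) (tt N20383 F40755) (tt N23117 (iv F44782)))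
theorem Q21478 : ∀ i, i < 21478 → P i := stepQ 21477 Q21477 (allL N21477 (tt N23116 (iv F44775)) (tt N21226 F40756) (tt N21409 (iv F40758)) (tt N19185 (iv D21515)) (tt N21224 F40757) (tt N23080 (iv F44685)))
theorem Q21479 : ∀ i, i < 21479 → P i := stepQ 21478 Q21478 (allL N21478 (tt N21133 F40762) (tt N21316 F40763) (tt N19186 F40764) (tt N23080 (iv F44686)) (tt N19252 F40765) (tt N19185 (iv D21516)))
theorem Q21480 : ∀ i, i < 21480 → P i := stepQ 21479 Q21479 (allL N21479 (tt N19309 F40766) (tt N19187 (iv D21517)) (tt N19307 F40767) (tt N19217 F40768) (tt N23126 D23164) (tt N19205 F40769))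
theorem Q21481 : ∀ i, i < 21481 → P i := stepQ 21480 Q21480 (allL N21480 (tt N19190 F40770) (tt N23126 (iv F44804)) (tt N19188 F40771) (tt N23127 D23165) (tt N19187 (iv D21518)) (tt N21096 F40772))
theorem Q21482 : ∀ i, i < 21482 → P i := stepQ 21481 Q21481 (allL N21481 (tt N19218 F40773) (tt N23108 (iv F44753)) (tt N19216 F40774) (tt N23128 D23166) (tt N19189 (iv D21519)) (tt N23129 D23167))
theorem Q21483 : ∀ i, i < 21483 → P i := stepQ 21482 Q21482 (allL N21482 (tt N23127 (iv F44807)) (tt N23109 (iv F44754)) (tt N23130 D23168) (tt N19190 (iv D21520)) (tt N23128 (iv F44811)) (tt N23131 D23169))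
theorem Q21484 : ∀ i, i < 21484 → P i := stepQ 21483 Q21483 (allL N21483 (tt N21096 F40775) (tt N23110 (iv F44755)) (tt N19191 F40776) (tt N23131 (iv F44816)) (tt N19211 F40777) (tt N19190 (iv D21521)))
theorem Q21485 : ∀ i, i < 21485 → P i := stepQ 21484 Q21484 (allL N21484 (tt N19311 F40778) (tt N19192 (iv D21522)) (tt N19205 F40779) (tt N19308 (iv F40782)) (tt N20567 F40780) (tt N19307 F40781))
theorem Q21486 : ∀ i, i < 21486 → P i := stepQ 21485 Q21485 (allL N21485 (tt N19193 F40783) (tt N19308 F40784) (tt N19293 F40785) (tt N19192 (iv D21523)) (tt N23132 D23170) (tt N19291 F40786))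
theorem Q21487 : ∀ i, i < 21487 → P i := stepQ 21486 Q21486 (allL N21486 (tt N19293 F40787) (tt N19288 F40788) (tt N19193 (iv D21524)) (tt N19288 F40789) (tt N23133 D23171) (tt N19287 F40790))
theorem Q21488 : ∀ i, i < 21488 → P i := stepQ 21487 Q21487 (allL N21487 (tt N23132 (iv F44818)) (tt N19301 F40791) (tt N23133 (iv F44824)) (tt N20593 F40792) (tt N19193 (iv D21525)) (tt N23001 (iv F44430)))
theorem Q21489 : ∀ i, i < 21489 → P i := stepQ 21488 Q21488 (allL N21488 (tt N23068 (iv F44643)) (tt N21043 F40793) (tt N21040 F40794) (tt N22810 (iv F43914)) (tt N21039 F40795) (tt N19196 (iv D21526)))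
theorem Q21490 : ∀ i, i < 21490 → P i := stepQ 21489 Q21489 (allL N21489 (tt N23071 (iv F44654)) (tt N21042 F40796) (tt N21252 F40798) (tt N19197 (iv D21527)) (tt N21041 F40797) (tt N22811 (iv F43919)))
theorem Q21491 : ∀ i, i < 21491 → P i := stepQ 21490 Q21490 (allL N21490 (tt N19405 F40799) (tt N21400 F40800) (tt N19402 F40801) (tt N19198 (iv D21528)) (tt N21389 F40802) (tt N22496 (iv F43136)))
theorem Q21492 : ∀ i, i < 21492 → P i := stepQ 21491 Q21491 (allL N21491 (tt N19512 F40803) (tt N21401 F40804) (tt N19199 F40805) (tt N22496 (iv F43135)) (tt N21388 F40806) (tt N19198 (iv D21529)))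
theorem Q21493 : ∀ i, i < 21493 → P i := stepQ 21492 Q21492 (allL N21492 (tt N19513 F40807) (tt N19203 F40808) (tt N21388 F40809) (tt N19400 F40810) (tt N19199 (iv D21530)) (tt N21044 F40811))
theorem Q21494 : ∀ i, i < 21494 → P i := stepQ 21493 Q21493 (allL N21493 (tt N21041 F40812) (tt N21390 F40813) (tt N21251 F40814) (tt N19201 (iv D21531)) (tt N23071 (iv F44656)) (tt N21408 F40815))
theorem Q21495 : ∀ i, i < 21495 → P i := stepQ 21494 Q21494 (allL N21494 (tt N21039 F40816) (tt N20284 F40817) (tt N19202 F40818) (tt N21408 F40819) (tt N23068 (iv F44647)) (tt N19201 (iv D21532)))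
theorem Q21496 : ∀ i, i < 21496 → P i := stepQ 21495 Q21495 (allL N21495 (tt N21040 F40820) (tt N21044 F40821) (tt N23068 (iv F44645)) (tt N20360 F40822) (tt N19202 (iv D21533)) (tt N19203 F40823))
theorem Q21497 : ∀ i, i < 21497 → P i := stepQ 21496 Q21496 (allL N21496 (tt N19205 (iv D21534)) (tt N19206 F40824) (tt N19311 F40825) (tt N23060 (iv F44619)) (tt N21092 F40826) (tt N19309 F40827))
theorem Q21498 : ∀ i, i < 21498 → P i := stepQ 21497 Q21497 (allL N21497 (tt N19207 F40828) (tt N23060 (iv F44617)) (tt N23085 (iv F44697)) (tt N19206 (iv D21535)) (tt N23134 D23172) (tt N23105 (iv F44746)))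
theorem Q21499 : ∀ i, i < 21499 → P i := stepQ 21498 Q21498 (allL N21498 (tt N23085 (iv F44696)) (tt N23057 (iv F44607)) (tt N19207 (iv D21536)) (tt N23057 (iv F44609)) (tt N23135 D23173) (tt N23107 (iv F44752)))
theorem Q21500 : ∀ i, i < 21500 → P i := stepQ 21499 Q21499 (allL N21499 (tt N23134 (iv F44826)) (tt N19209 F40829) (tt N23135 (iv F44827)) (tt N23136 D23174) (tt N19207 (iv D21537)) (tt N23137 D23175))
theorem Q21501 : ∀ i, i < 21501 → P i := stepQ 21500 Q21500 (allL N21500 (tt N23033 (iv F44532)) (tt N19210 F40830) (tt N23138 D23176) (tt N19208 (iv D21538)) (tt N23136 (iv F44829)) (tt N21100 (iv F40831)))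
theorem Q21502 : ∀ i, i < 21502 → P i := stepQ 21501 Q21501 (allL N21501 (tt N23034 (iv F44535)) (tt N19211 F40832) (tt N19212 F40833) (tt N21100 F40834) (tt N23110 (iv F44757)) (tt N19208 (iv D21539)))
theorem Q21503 : ∀ i, i < 21503 → P i := stepQ 21502 Q21502 (allL N21502 (tt N21095 F40835) (tt N23136 (iv F44828)) (tt N21103 F40837) (tt N19209 (iv D21540)) (tt N19210 F40836) (tt N23139 D23177))
theorem Q21504 : ∀ i, i < 21504 → P i := stepQ 21503 Q21503 (allL N21503 (tt N23058 (iv F44610)) (tt N23137 (iv F44831)) (tt N23052 (iv F44593)) (tt N23139 (iv F44837)) (tt N23129 (iv F44814)) (tt N19209 (iv D21541)))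
theorem Q21505 : ∀ i, i < 21505 → P i := stepQ 21504 Q21504 (allL N21504 (tt N23009 (iv F44454)) (tt N19213 (iv D21542)) (tt N23021 (iv F44500)) (tt N20342 F40838) (tt N20434 F40839) (tt N20341 F40840))
theorem Q21506 : ∀ i, i < 21506 → P i := stepQ 21505 Q21505 (allL N21505 (tt N22914 (iv F44161)) (tt N23107 (iv F44750)) (tt N19215 (iv D21543)) (tt N23107 (iv F44751)) (tt N23140 D23178) (tt N23057 (iv F44608)))
theorem Q21507 : ∀ i, i < 21507 → P i := stepQ 21506 Q21506 (allL N21506 (tt N22915 (iv F44164)) (tt N19216 F40841) (tt N23140 (iv F44839)) (tt N19277 F40842) (tt N19215 (iv D21544)) (tt N23141 D23179))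
theorem Q21508 : ∀ i, i < 21508 → P i := stepQ 21507 Q21507 (allL N21507 (tt N19219 F40843) (tt N23141 (iv F44840)) (tt N23129 (iv F44813)) (tt N19278 F40844) (tt N23052 (iv F44595)) (tt N19216 (iv D21545)))
theorem Q21509 : ∀ i, i < 21509 → P i := stepQ 21508 Q21508 (allL N21508 (tt N19217 (iv D21546)) (tt N23105 (iv F44745)) (tt N19335 F40845) (tt N19309 F40846) (tt N23142 D23180) (tt N23060 (iv F44620)))
theorem Q21510 : ∀ i, i < 21510 → P i := stepQ 21509 Q21509 (allL N21509 (tt N23142 (iv F44842)) (tt N19218 F40847) (tt N19336 F40848) (tt N23143 D23181) (tt N19217 (iv D21547)) (tt N23144 D23182))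
theorem Q21511 : ∀ i, i < 21511 → P i := stepQ 21510 Q21510 (allL N21510 (tt N23128 (iv F44810)) (tt N23143 (iv F44844)) (tt N23145 D23183) (tt N19218 (iv D21548)) (tt N23127 (iv F44808)) (tt N23146 D23184))
theorem Q21512 : ∀ i, i < 21512 → P i := stepQ 21511 Q21511 (allL N21511 (tt N23129 (iv F44812)) (tt N23144 (iv F44845)) (tt N19219 F40849) (tt N23146 (iv F44850)) (tt N23058 (iv F44612)) (tt N19218 (iv D21549)))
theorem Q21513 : ∀ i, i < 21513 → P i := stepQ 21512 Q21512 (allL N21512 (tt N23047 (iv F44577)) (tt N20139 F40850) (tt N22962 (iv F44309)) (tt N19220 (iv D21550)) (tt N23147 D23185) (tt N20137 F40851))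
theorem Q21514 : ∀ i, i < 21514 → P i := stepQ 21513 Q21513 (allL N21513 (tt N23048 (iv F44581)) (tt N22162 (iv F42414)) (tt N19221 F40852) (tt N23148 D23186) (tt N19220 (iv D21551)) (tt N23149 D23187))
theorem Q21515 : ∀ i, i < 21515 → P i := stepQ 21514 Q21514 (allL N21514 (tt N23051 (iv F44589)) (tt N19222 F40853) (tt N23149 (iv F44854)) (tt N23087 (iv F44700)) (tt N22299 (iv F42729)) (tt N19221 (iv D21552)))
theorem Q21516 : ∀ i, i < 21516 → P i := stepQ 21515 Q21515 (allL N21515 (tt N19226 F40854) (tt N22766 (iv F43786)) (tt N19232 F40855) (tt N21771 (iv F41487)) (tt N23150 D23188) (tt N19224 (iv D21553)))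
theorem Q21517 : ∀ i, i < 21517 → P i := stepQ 21516 Q21516 (allL N21516 (tt N21771 (iv F41484)) (tt N19229 F40856) (tt N21770 (iv F41483)) (tt N19226 F40857) (tt N21717 (iv F41351)) (tt N19225 (iv D21554)))
theorem Q21518 : ∀ i, i < 21518 → P i := stepQ 21517 Q21517 (allL N21517 (tt N23150 (iv F44855)) (tt N19230 F40858) (tt N19235 F40859) (tt N23151 D23189) (tt N19226 (iv D21555)) (tt N22767 (iv F43793)))
theorem Q21519 : ∀ i, i < 21519 → P i := stepQ 21518 Q21518 (allL N21518 (tt N21994 (iv F42018)) (tt N23151 (iv F44859)) (tt N21922 (iv F41860)) (tt N19230 (iv D21556)) (tt N21718 (iv F41354)) (tt N21925 (iv F41869)))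
theorem Q21520 : ∀ i, i < 21520 → P i := stepQ 21519 Q21519 (allL N21519 (tt N19233 F40860) (tt N20860 F40861) (tt N19231 (iv D21557)) (tt N23152 D23190) (tt N23153 D23191) (tt N21121 F40862))
theorem Q21521 : ∀ i, i < 21521 → P i := stepQ 21520 Q21520 (allL N21520 (tt N19234 F40863) (tt N21141 F40864) (tt N23153 (iv F44865)) (tt N23104 (iv F44743)) (tt N19231 (iv D21558)) (tt N23154 D23192))
theorem Q21522 : ∀ i, i < 21522 → P i := stepQ 21521 Q21521 (allL N21521 (tt N19235 F40865) (tt N21140 F40866) (tt N23150 (iv F44857)) (tt N23155 D23193) (tt N19232 (iv D21559)) (tt N22785 (iv F43843)))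
theorem Q21523 : ∀ i, i < 21523 → P i := stepQ 21522 Q21522 (allL N21522 (tt N23152 (iv F44860)) (tt N21123 F40867) (tt N21670 (iv F41231)) (tt N19233 (iv D21560)) (tt N22206 (iv F42490)) (tt N21122 F40868))
theorem Q21524 : ∀ i, i < 21524 → P i := stepQ 21523 Q21523 (allL N21523 (tt N23153 (iv F44863)) (tt N21124 F40869) (tt N19234 F40870) (tt N23156 D23194) (tt N19233 (iv D21561)) (tt N23157 D23195))
theorem Q21525 : ∀ i, i < 21525 → P i := stepQ 21524 Q21524 (allL N21524 (tt N23154 (iv F44866)) (tt N19236 F40871) (tt N23157 (iv F44874)) (tt N23101 (iv F44731)) (tt N21127 F40872) (tt N19234 (iv D21562)))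
theorem Q21526 : ∀ i, i < 21526 → P i := stepQ 21525 Q21525 (allL N21525 (tt N23155 (iv F44869)) (tt N19237 F40873) (tt N23158 D23196) (tt N19235 (iv D21563)) (tt N21126 F40874) (tt N23099 F44725))
theorem Q21527 : ∀ i, i < 21527 → P i := stepQ 21526 Q21526 (allL N21526 (tt N21138 F40875) (tt N23159 D23197) (tt N19237 (iv D21564)) (tt N23072 (iv F44660)) (tt N21128 F40876) (tt N23103 (iv F44739)))
theorem Q21528 : ∀ i, i < 21528 → P i := stepQ 21527 Q21527 (allL N21527 (tt N21774 (iv F41492)) (tt N19242 F40877) (tt N19518 F40878) (tt N21993 (iv F42017)) (tt N19241 (iv D21565)) (tt N19517 F40879))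
theorem Q21529 : ∀ i, i < 21529 → P i := stepQ 21528 Q21528 (allL N21528 (tt N20047 F40880) (tt N19243 (iv D21566)) (tt N19510 F40881) (tt N23160 D23198) (tt N20058 F40882) (tt N19401 F40883))
theorem Q21530 : ∀ i, i < 21530 → P i := stepQ 21529 Q21529 (allL N21529 (tt N19244 F40884) (tt N23160 (iv F44879)) (tt N22496 (iv F43134)) (tt N19243 (iv D21567)) (tt N23161 D23199) (tt N19402 F40885))
theorem Q21531 : ∀ i, i < 21531 → P i := stepQ 21530 Q21530 (allL N21530 (tt N23161 (iv F44881)) (tt N20082 F40886) (tt N21690 (iv F41279)) (tt N20076 F40887) (tt N19244 (iv D21568)) (tt N21706 (iv F41315)))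
theorem Q21532 : ∀ i, i < 21532 → P i := stepQ 21531 Q21531 (allL N21531 (tt N19269 F40888) (tt N23125 (iv F44801)) (tt N22970 (iv F44327)) (tt N19245 (iv D21569)) (tt N23162 D23200) (tt N22968 F44322))
theorem Q21533 : ∀ i, i < 21533 → P i := stepQ 21532 Q21532 (allL N21532 (tt N23163 D23201) (tt N19246 (iv D21570)) (tt N19248 F40889) (tt N20626 F40890) (tt N20318 F40891) (tt N23016 (iv F44486)))
theorem Q21534 : ∀ i, i < 21534 → P i := stepQ 21533 Q21533 (allL N21533 (tt N20324 F40892) (tt N23016 (iv F44485)) (tt N19247 F40893) (tt N20576 F40894) (tt N23164 D23202) (tt N19246 (iv D21571)))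
theorem Q21535 : ∀ i, i < 21535 → P i := stepQ 21534 Q21534 (allL N21534 (tt N20325 F40895) (tt N19251 F40896) (tt N23164 (iv F44891)) (tt N20388 F40897) (tt N19247 (iv D21572)) (tt N20321 F40898))
theorem Q21536 : ∀ i, i < 21536 → P i := stepQ 21535 Q21535 (allL N21535 (tt N19248 (iv D21573)) (tt N20340 F40899) (tt N23163 (iv F44886)) (tt N23012 (iv F44472)) (tt N20335 F40900) (tt N23011 (iv F44467)))
theorem Q21537 : ∀ i, i < 21537 → P i := stepQ 21536 Q21536 (allL N21536 (tt N20344 F40901) (tt N23014 (iv F44477)) (tt N19251 F40902) (tt N20432 F40903) (tt N19250 (iv D21574)) (tt N20339 F40904))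
theorem Q21538 : ∀ i, i < 21538 → P i := stepQ 21537 Q21537 (allL N21537 (tt N21326 (iv F40909)) (tt N19252 (iv D21575)) (tt N19279 F40905) (tt N21137 F40906) (tt N21316 F40907) (tt N19253 F40908))
theorem Q21539 : ∀ i, i < 21539 → P i := stepQ 21538 Q21538 (allL N21538 (tt N21325 F40910) (tt N19254 F40911) (tt N22392 (iv F42926)) (tt N19253 (iv D21576)) (tt N21317 F40912) (tt N21137 F40913))
theorem Q21540 : ∀ i, i < 21540 → P i := stepQ 21539 Q21539 (allL N21539 (tt N19259 F40914) (tt N20618 F40915) (tt N19256 F40916) (tt N19828 (iv F40918)) (tt N19255 (iv D21577)) (tt N19841 (iv F40917)))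
theorem Q21541 : ∀ i, i < 21541 → P i := stepQ 21540 Q21540 (allL N21540 (tt N19260 F40919) (tt N20020 F40920) (tt N19404 (iv F40923)) (tt N19257 (iv D21578)) (tt N19840 F40921) (tt N19262 F40922))
theorem Q21542 : ∀ i, i < 21542 → P i := stepQ 21541 Q21541 (allL N21541 (tt N19828 F40924) (tt N20616 F40925) (tt N19815 F40928) (tt N19259 (iv D21579)) (tt N20624 F40926) (tt N19847 F40927))
theorem Q21543 : ∀ i, i < 21543 → P i := stepQ 21542 Q21542 (allL N21542 (tt N19404 F40929) (tt N20036 (iv F40932)) (tt N19260 (iv D21580)) (tt N23165 D23203) (tt N19844 F40930) (tt N19263 F40931))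
theorem Q21544 : ∀ i, i < 21544 → P i := stepQ 21543 Q21543 (allL N21543 (tt N20032 F40933) (tt N19261 (iv D21581)) (tt N20036 F40934) (tt N22121 (iv F42315)) (tt N20596 F40935) (tt N19264 F40936))
theorem Q21545 : ∀ i, i < 21545 → P i := stepQ 21544 Q21544 (allL N21544 (tt N19403 F40937) (tt N20035 F40938) (tt N21389 F40940) (tt N19263 (iv D21582)) (tt N19402 F40939) (tt N23165 (iv F44896)))
theorem Q21546 : ∀ i, i < 21546 → P i := stepQ 21545 Q21545 (allL N21545 (tt N20031 F40941) (tt N19265 F40942) (tt N23166 D23204) (tt N19264 (iv D21583)) (tt N20597 F40943) (tt N22121 (iv F42317)))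
theorem Q21547 : ∀ i, i < 21547 → P i := stepQ 21546 Q21546 (allL N21546 (tt N21320 F40948) (tt N19266 (iv D21584)) (tt N19272 F40944) (tt N19956 F40945) (tt N19268 F40946) (tt N20841 F40947))
theorem Q21548 : ∀ i, i < 21548 → P i := stepQ 21547 Q21547 (allL N21547 (tt N20386 F40949) (tt N19275 F40950) (tt N20842 F40951) (tt N20568 F40952) (tt N19267 (iv D21585)) (tt N19271 F40953))
theorem Q21549 : ∀ i, i < 21549 → P i := stepQ 21548 Q21548 (allL N21548 (tt N23162 (iv F44883)) (tt N22994 F44408) (tt N22995 (iv F44409)) (tt N20843 F40954) (tt N19269 (iv D21586)) (tt N22999 (iv F44422)))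
theorem Q21550 : ∀ i, i < 21550 → P i := stepQ 21549 Q21549 (allL N21549 (tt N22968 (iv F44320)) (tt N22932 (iv F44214)) (tt N19298 F40955) (tt N19270 F40956) (tt N23167 D23205) (tt N19269 (iv D21587)))
theorem Q21551 : ∀ i, i < 21551 → P i := stepQ 21550 Q21550 (allL N21550 (tt N23114 (iv F44768)) (tt N22933 (iv F44217)) (tt N19271 F40957) (tt N23168 D23206) (tt N19270 (iv D21588)) (tt N20842 F40958))
theorem Q21552 : ∀ i, i < 21552 → P i := stepQ 21551 Q21551 (allL N21551 (tt N21322 F40959) (tt N19274 F40960) (tt N20841 F40961) (tt N20017 F40962) (tt N22934 (iv F44222)) (tt N19272 (iv D21589)))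
theorem Q21553 : ∀ i, i < 21553 → P i := stepQ 21552 Q21552 (allL N21552 (tt N22975 (iv F44342)) (tt N21077 F40963) (tt N22972 (iv F44335)) (tt N19276 (iv D21590)) (tt N23169 D23207) (tt N21104 F40964))
theorem Q21554 : ∀ i, i < 21554 → P i := stepQ 21553 Q21553 (allL N21553 (tt N23038 (iv F44552)) (tt N21079 F40965) (tt N19277 F40966) (tt N23170 D23208) (tt N19276 (iv D21591)) (tt N23171 D23209))
theorem Q21555 : ∀ i, i < 21555 → P i := stepQ 21554 Q21554 (allL N21554 (tt N23039 (iv F44554)) (tt N19278 F40967) (tt N23171 (iv F44905)) (tt N23141 (iv F44841)) (tt N21112 F40968) (tt N19277 (iv D21592)))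
theorem Q21556 : ∀ i, i < 21556 → P i := stepQ 21555 Q21555 (allL N21555 (tt N21327 F40969) (tt N19280 F40970) (tt N21316 F40971) (tt N21303 F40972) (tt N19279 (iv D21593)) (tt N19281 F40973))
theorem Q21557 : ∀ i, i < 21557 → P i := stepQ 21556 Q21556 (allL N21556 (tt N22931 (iv F44211)) (tt N21303 F40974) (tt N23172 D23210) (tt N19280 (iv D21594)) (tt N21299 F40975) (tt N19282 F40976))
theorem Q21558 : ∀ i, i < 21558 → P i := stepQ 21557 Q21557 (allL N21557 (tt N21328 F40977) (tt N19282 F40978) (tt N21577 (iv F41018)) (tt N19281 (iv D21595)) (tt N21302 F40979) (tt N21303 F40980))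
theorem Q21559 : ∀ i, i < 21559 → P i := stepQ 21558 Q21558 (allL N21558 (tt N22930 (iv F44209)) (tt N23173 D23211) (tt N19282 (iv D21596)) (tt N23174 D23212) (tt N21619 F41105) (tt N23172 (iv F44908)))
theorem Q21560 : ∀ i, i < 21560 → P i := stepQ 21559 Q21559 (allL N21559 (tt N19284 F40981) (tt N21078 F40982) (tt N23040 (iv F44558)) (tt N23175 D23213) (tt N19283 (iv D21597)) (tt N23176 D23214))
theorem Q21561 : ∀ i, i < 21561 → P i := stepQ 21560 Q21560 (allL N21560 (tt N23175 (iv F44911)) (tt N19285 F40983) (tt N23177 D23215) (tt N19284 (iv D21598)) (tt N21050 F40984) (tt N22476 (iv F43099)))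
theorem Q21562 : ∀ i, i < 21562 → P i := stepQ 21561 Q21561 (allL N21561 (tt N23176 (iv F44914)) (tt N19286 F40985) (tt N23042 (iv F44561)) (tt N22476 (iv F43098)) (tt N21091 F40986) (tt N19284 (iv D21599)))
theorem Q21563 : ∀ i, i < 21563 → P i := stepQ 21562 Q21562 (allL N21562 (tt N21075 F40987) (tt N23178 D23216) (tt N19285 (iv D21600)) (tt N23179 D23217) (tt N21051 F40988) (tt N23180 D23218))
theorem Q21564 : ∀ i, i < 21564 → P i := stepQ 21563 Q21563 (allL N21563 (tt N21076 F40989) (tt N22476 (iv F43097)) (tt N23180 (iv F44922)) (tt N19286 F40990) (tt N22424 (iv F42984)) (tt N19285 (iv D21601)))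
theorem Q21565 : ∀ i, i < 21565 → P i := stepQ 21564 Q21564 (allL N21564 (tt N19294 F40991) (tt N23133 (iv F44823)) (tt N19289 F40992) (tt N23181 D23219) (tt N19288 (iv D21602)) (tt N20579 F40993))
theorem Q21566 : ∀ i, i < 21566 → P i := stepQ 21565 Q21565 (allL N21565 (tt N20578 F40994) (tt N19339 F40995) (tt N22998 (iv F44421)) (tt N20196 F40996) (tt N23182 D23220) (tt N19292 (iv D21603)))
theorem Q21567 : ∀ i, i < 21567 → P i := stepQ 21566 Q21566 (allL N21566 (tt N23133 (iv F44822)) (tt N19344 F40997) (tt N23132 (iv F44820)) (tt N23183 D23221) (tt N19293 (iv D21604)) (tt N23182 (iv F44928)))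
theorem Q21568 : ∀ i, i < 21568 → P i := stepQ 21567 Q21567 (allL N21567 (tt N23181 (iv F44924)) (tt N19345 F40998) (tt N23183 (iv F44933)) (tt N19294 (iv D21605)) (tt N23183 (iv F44931)) (tt N21146 F40999))
theorem Q21569 : ∀ i, i < 21569 → P i := stepQ 21568 Q21568 (allL N21568 (tt N22971 (iv F44329)) (tt N23003 (iv F44437)) (tt N19295 (iv D21606)) (tt N23001 (iv F44429)) (tt N19296 F41000) (tt N20593 F41001))
theorem Q21570 : ∀ i, i < 21570 → P i := stepQ 21569 Q21569 (allL N21569 (tt N22969 (iv F44323)) (tt N23002 (iv F44432)) (tt N23167 (iv F44900)) (tt N20592 F41002) (tt N19298 (iv D21607)) (tt N23000 (iv F44426)))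
theorem Q21571 : ∀ i, i < 21571 → P i := stepQ 21570 Q21570 (allL N21570 (tt N22899 (iv F44100)) (tt N19299 (iv D21608)) (tt N23003 (iv F44438)) (tt N19326 F41003) (tt N19300 F41004) (tt N20595 F41005))
theorem Q21572 : ∀ i, i < 21572 → P i := stepQ 21571 Q21571 (allL N21571 (tt N19314 F41006) (tt N20593 F41007) (tt N20595 (iv F41009)) (tt N19301 (iv D21609)) (tt N19327 F41008) (tt N23003 (iv F44440)))
theorem Q21573 : ∀ i, i < 21573 → P i := stepQ 21572 Q21572 (allL N21572 (tt N19303 F41010) (tt N22997 (iv F44418)) (tt N23184 D23222) (tt N19302 (iv D21610)) (tt N23185 D23223) (tt N22985 F44378))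
theorem Q21574 : ∀ i, i < 21574 → P i := stepQ 21573 Q21573 (allL N21573 (tt N19304 F41011) (tt N22998 (iv F44420)) (tt N19316 F41012) (tt N22985 F44377) (tt N22986 (iv F44380)) (tt N19302 (iv D21611)))
theorem Q21575 : ∀ i, i < 21575 → P i := stepQ 21574 Q21574 (allL N21574 (tt N23184 (iv F44934)) (tt N23006 (iv F44447)) (tt N19303 (iv D21612)) (tt N23186 D23224) (tt N23187 D23225) (tt N23005 F44446))
theorem Q21576 : ∀ i, i < 21576 → P i := stepQ 21575 Q21575 (allL N21575 (tt N23185 (iv F44936)) (tt N19305 F41013) (tt N23187 (iv F44941)) (tt N19310 F41014) (tt N19303 (iv D21613)) (tt N23188 D23226))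
theorem Q21577 : ∀ i, i < 21577 → P i := stepQ 21576 Q21576 (allL N21576 (tt N22986 (iv F44379)) (tt N19306 F41015) (tt N19319 F41016) (tt N22980 (iv F44358)) (tt N19304 (iv D21614)) (tt N19312 F41017))
theorem Q21578 : ∀ i, i < 21578 → P i := stepQ 21577 Q21577 (allL N21577 (tt N23002 (iv F44431)) (tt N23188 (iv F44943)) (tt N21557 F41018) (tt N19313 F41019) (tt N22897 (iv F44093)) (tt N19305 (iv D21615)))
theorem Q21579 : ∀ i, i < 21579 → P i := stepQ 21578 Q21578 (allL N21578 (tt N23003 (iv F44436)) (tt N22980 (iv F44356)) (tt N22899 (iv F44102)) (tt N19306 (iv D21616)) (tt N22898 (iv F44099)) (tt N19314 F41020))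
theorem Q21580 : ∀ i, i < 21580 → P i := stepQ 21579 Q21579 (allL N21579 (tt N19310 F41021) (tt N23113 (iv F44765)) (tt N23126 (iv F44805)) (tt N23185 (iv F44937)) (tt N19307 (iv D21617)) (tt N23189 D23227))
theorem Q21581 : ∀ i, i < 21581 → P i := stepQ 21580 Q21580 (allL N21580 (tt N19312 F41022) (tt N23132 (iv F44819)) (tt N19324 F41023) (tt N22987 (iv F44386)) (tt N19308 (iv D21618)) (tt N22986 (iv F44382)))
theorem Q21582 : ∀ i, i < 21582 → P i := stepQ 21581 Q21581 (allL N21581 (tt N23126 (iv F44803)) (tt N23106 (iv F44748)) (tt N19310 F41024) (tt N23190 D23228) (tt N19309 (iv D21619)) (tt N23191 D23229))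
theorem Q21583 : ∀ i, i < 21583 → P i := stepQ 21582 Q21582 (allL N21582 (tt N23189 (iv F44946)) (tt N19313 F41025) (tt N23191 (iv F44951)) (tt N23188 (iv F44945)) (tt N23037 (iv F44551)) (tt N19310 (iv D21620)))
theorem Q21584 : ∀ i, i < 21584 → P i := stepQ 21583 Q21583 (allL N21583 (tt N22987 (iv F44383)) (tt N19314 F41026) (tt N22981 (iv F44362)) (tt N19312 (iv D21621)) (tt N23036 (iv F44544)) (tt N22980 F44359))
theorem Q21585 : ∀ i, i < 21585 → P i := stepQ 21584 Q21584 (allL N21584 (tt N20595 F41027) (tt N22903 (iv F44121)) (tt N19314 (iv D21622)) (tt N22903 (iv F44123)) (tt N20594 F41028) (tt N22899 (iv F44104)))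
theorem Q21586 : ∀ i, i < 21586 → P i := stepQ 21585 Q21585 (allL N21585 (tt N19317 F41029) (tt N19943 F41030) (tt N19315 (iv D21623)) (tt N22876 (iv F44044)) (tt N22041 F42126) (tt N19329 F41031))
theorem Q21587 : ∀ i, i < 21587 → P i := stepQ 21586 Q21586 (allL N21586 (tt N19318 F41032) (tt N19341 F41033) (tt N22041 F42125) (tt N19323 F41034) (tt N19315 (iv D21624)) (tt N19323 F41035))
theorem Q21588 : ∀ i, i < 21588 → P i := stepQ 21587 Q21587 (allL N21587 (tt N19319 F41036) (tt N19340 F41037) (tt N22986 (iv F44381)) (tt N19324 F41038) (tt N19316 (iv D21625)) (tt N19324 F41039))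
theorem Q21589 : ∀ i, i < 21589 → P i := stepQ 21588 Q21588 (allL N21588 (tt N22876 (iv F44043)) (tt N19333 F41040) (tt N23192 D23230) (tt N19317 (iv D21626)) (tt N22877 (iv F44048)) (tt N19330 F41041))
theorem Q21590 : ∀ i, i < 21590 → P i := stepQ 21589 Q21589 (allL N21589 (tt N22041 (iv F42123)) (tt N19334 F41042) (tt N19318 F41043) (tt N22040 F42121) (tt N19317 (iv D21627)) (tt N19325 F41044))
theorem Q21591 : ∀ i, i < 21591 → P i := stepQ 21590 Q21590 (allL N21590 (tt N22903 (iv F44120)) (tt N19320 (iv D21628)) (tt N22904 (iv F44127)) (tt N20595 F41045) (tt N19321 F41046) (tt N19326 F41047))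
theorem Q21592 : ∀ i, i < 21592 → P i := stepQ 21591 Q21591 (allL N21591 (tt N19325 F41048) (tt N22035 (iv F42109)) (tt N19323 F41049) (tt N22042 (iv F42130)) (tt N19322 (iv D21629)) (tt N22041 F42127))
theorem Q21593 : ∀ i, i < 21593 → P i := stepQ 21592 Q21592 (allL N21592 (tt N22042 (iv F42128)) (tt N19338 F41050) (tt N23193 D23231) (tt N19325 (iv D21630)) (tt N23089 (iv F44703)) (tt N22040 F42122))
theorem Q21594 : ∀ i, i < 21594 → P i := stepQ 21593 Q21593 (allL N21593 (tt N19330 F41051) (tt N19942 F41052) (tt N23186 (iv F44939)) (tt N19329 (iv D21631)) (tt N23194 D23232) (tt N22876 (iv F44046)))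
theorem Q21595 : ∀ i, i < 21595 → P i := stepQ 21594 Q21594 (allL N21594 (tt N23186 (iv F44938)) (tt N23195 D23233) (tt N19330 (iv D21632)) (tt N23184 (iv F44935)) (tt N23196 D23234) (tt N23192 (iv F44954)))
theorem Q21596 : ∀ i, i < 21596 → P i := stepQ 21595 Q21595 (allL N21595 (tt N23194 (iv F44957)) (tt N19332 F41053) (tt N23196 (iv F44962)) (tt N19336 F41054) (tt N19330 (iv D21633)) (tt N23197 D23235))
theorem Q21597 : ∀ i, i < 21597 → P i := stepQ 21596 Q21596 (allL N21596 (tt N23198 D23236) (tt N19331 (iv D21634)) (tt N23195 (iv F44960)) (tt N19614 F41055) (tt N23199 D23237) (tt N19613 F41056))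
theorem Q21598 : ∀ i, i < 21598 → P i := stepQ 21597 Q21597 (allL N21597 (tt N19948 F41057) (tt N23199 (iv F44968)) (tt N19332 F41058) (tt N23200 D23238) (tt N19331 (iv D21635)) (tt N23201 D23239))
theorem Q21599 : ∀ i, i < 21599 → P i := stepQ 21598 Q21598 (allL N21598 (tt N19949 F41059) (tt N23197 (iv F44963)) (tt N23201 (iv F44972)) (tt N19337 F41060) (tt N23202 D23240) (tt N19332 (iv D21636)))
theorem Q21600 : ∀ i, i < 21600 → P i := stepQ 21599 Q21599 (allL N21599 (tt N19950 F41061) (tt N22877 (iv F44047)) (tt N19615 F41062) (tt N22005 (iv F42048)) (tt N19333 (iv D21637)) (tt N23202 (iv F44977)))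
theorem Q21601 : ∀ i, i < 21601 → P i := stepQ 21600 Q21600 (allL N21600 (tt N19336 F41063) (tt N23082 (iv F44690)) (tt N23142 (iv F44843)) (tt N23194 (iv F44959)) (tt N19335 (iv D21638)) (tt N23203 D23241))
theorem Q21602 : ∀ i, i < 21602 → P i := stepQ 21601 Q21601 (allL N21601 (tt N23203 (iv F44978)) (tt N19337 F41064) (tt N23144 (iv F44846)) (tt N23197 (iv F44964)) (tt N23090 (iv F44706)) (tt N19336 (iv D21639)))
theorem Q21603 : ∀ i, i < 21603 → P i := stepQ 21602 Q21602 (allL N21602 (tt N19343 F41065) (tt N23182 (iv F44927)) (tt N19340 F41066) (tt N23204 D23242) (tt N19339 (iv D21640)) (tt N19344 F41067))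
theorem Q21604 : ∀ i, i < 21604 → P i := stepQ 21603 Q21603 (allL N21603 (tt N20166 F41068) (tt N20173 F41069) (tt N20165 F41070) (tt N23205 D23243) (tt N19342 (iv D21641)) (tt N20166 F41071))
theorem Q21605 : ∀ i, i < 21605 → P i := stepQ 21604 Q21604 (allL N21604 (tt N23204 (iv F44979)) (tt N21146 F41072) (tt N23206 D23244) (tt N19343 (iv D21642)) (tt N23205 (iv F44985)) (tt N19345 F41073))
theorem Q21606 : ∀ i, i < 21606 → P i := stepQ 21605 Q21605 (allL N21605 (tt N19345 F41074) (tt N23183 (iv F44930)) (tt N23207 D23245) (tt N19344 (iv D21643)) (tt N19345 F41075) (tt N23204 (iv F44982)))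
theorem Q21607 : ∀ i, i < 21607 → P i := stepQ 21606 Q21606 (allL N21606 (tt N23207 (iv F44988)) (tt N23207 (iv F44989)) (tt N19345 (iv D21644)) (tt N23207 (iv F44991)) (tt N23207 (iv F44990)) (tt N23206 (iv F44987)))
theorem Q21608 : ∀ i, i < 21608 → P i := stepQ 21607 Q21607 (allL N21607 (tt N19349 F41076) (tt N19389 F41077) (tt N20538 F41078) (tt N19347 (iv D21645)) (tt N23208 D23246) (tt N19367 F41079))
theorem Q21609 : ∀ i, i < 21609 → P i := stepQ 21608 Q21608 (allL N21608 (tt N19350 F41080) (tt N22725 (iv F43671)) (tt N19348 F41081) (tt N23209 D23247) (tt N19347 (iv D21646)) (tt N23210 D23248))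
theorem Q21610 : ∀ i, i < 21610 → P i := stepQ 21609 Q21609 (allL N21609 (tt N19351 F41082) (tt N19354 F41083) (tt N23210 (iv F44997)) (tt N22230 (iv F42548)) (tt N19379 F41084) (tt N19348 (iv D21647)))
theorem Q21611 : ∀ i, i < 21611 → P i := stepQ 21610 Q21610 (allL N21610 (tt N20538 F41085) (tt N19386 F41086) (tt N19349 (iv D21648)) (tt N20614 F41087) (tt N23211 D23249) (tt N19369 F41088))
theorem Q21612 : ∀ i, i < 21612 → P i := stepQ 21611 Q21611 (allL N21611 (tt N23208 (iv F44992)) (tt N19375 F41089) (tt N23211 (iv F45001)) (tt N23212 D23250) (tt N19349 (iv D21649)) (tt N23213 D23251))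
theorem Q21613 : ∀ i, i < 21613 → P i := stepQ 21612 Q21612 (allL N21612 (tt N23209 (iv F44995)) (tt N19377 F41090) (tt N23214 D23252) (tt N19350 (iv D21650)) (tt N23212 (iv F45004)) (tt N23215 D23253))
theorem Q21614 : ∀ i, i < 21614 → P i := stepQ 21613 Q21613 (allL N21613 (tt N23210 (iv F44996)) (tt N19376 F41091) (tt N19351 F41092) (tt N23215 (iv F45009)) (tt N19372 F41093) (tt N19350 (iv D21651)))
theorem Q21615 : ∀ i, i < 21615 → P i := stepQ 21614 Q21614 (allL N21614 (tt N22730 (iv F43680)) (tt N23216 D23254) (tt N19355 (iv D21652)) (tt N23217 D23255) (tt N22721 (iv F43659)) (tt N22862 (iv F44026)))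
theorem Q21616 : ∀ i, i < 21616 → P i := stepQ 21615 Q21615 (allL N21615 (tt N22822 (iv F43950)) (tt N22939 (iv F44235)) (tt N19356 (iv D21653)) (tt N23218 D23256) (tt N19363 F41094) (tt N22812 (iv F43922)))
theorem Q21617 : ∀ i, i < 21617 → P i := stepQ 21616 Q21616 (allL N21616 (tt N19360 F41095) (tt N19359 (iv D21654)) (tt N22739 (iv F43701)) (tt N22907 (iv F44143)) (tt N19360 F41096) (tt N22241 (iv F42571)))
theorem Q21618 : ∀ i, i < 21618 → P i := stepQ 21617 Q21617 (allL N21617 (tt N22907 (iv F44140)) (tt N19361 F41097) (tt N23219 D23257) (tt N19360 (iv D21655)) (tt N23220 D23258) (tt N22242 (iv F42575)))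
theorem Q21619 : ∀ i, i < 21619 → P i := stepQ 21618 Q21618 (allL N21618 (tt N20221 F41098) (tt N23220 (iv F45016)) (tt N20122 F41099) (tt N21222 F41100) (tt N19361 (iv D21656)) (tt N21217 F41101))
theorem Q21620 : ∀ i, i < 21620 → P i := stepQ 21619 Q21619 (allL N21619 (tt N21209 F41102) (tt N22938 (iv F44233)) (tt N21205 F41103) (tt N19363 (iv D21657)) (tt N21558 (iv F41105)) (tt N21207 F41104))
theorem Q21621 : ∀ i, i < 21621 → P i := stepQ 21620 Q21620 (allL N21620 (tt N22725 (iv F43670)) (tt N19366 F41106) (tt N22722 (iv F43663)) (tt N23221 D23259) (tt N19365 (iv D21658)) (tt N22819 (iv F43944)))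
theorem Q21622 : ∀ i, i < 21622 → P i := stepQ 21621 Q21621 (allL N21621 (tt N19377 F41107) (tt N23221 (iv F45019)) (tt N22235 (iv F42559)) (tt N19366 (iv D21659)) (tt N19391 F41108) (tt N22820 (iv F43947)))
theorem Q21623 : ∀ i, i < 21623 → P i := stepQ 21622 Q21622 (allL N21622 (tt N19372 F41109) (tt N22817 (iv F43934)) (tt N19379 F41110) (tt N22247 (iv F42590)) (tt N23210 (iv F44998)) (tt N19368 (iv D21660)))
theorem Q21624 : ∀ i, i < 21624 → P i := stepQ 21623 Q21623 (allL N21623 (tt N22274 (iv F42669)) (tt N19374 F41111) (tt N20846 F41112) (tt N22272 (iv F42665)) (tt N23213 (iv F45007)) (tt N19370 (iv D21661)))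
theorem Q21625 : ∀ i, i < 21625 → P i := stepQ 21624 Q21624 (allL N21624 (tt N20547 F41113) (tt N22272 (iv F42663)) (tt N20549 F41114) (tt N19374 F41115) (tt N22846 (iv F44003)) (tt N19373 (iv D21662)))
theorem Q21626 : ∀ i, i < 21626 → P i := stepQ 21625 Q21625 (allL N21625 (tt N19392 F41116) (tt N23213 (iv F45005)) (tt N19388 F41117) (tt N23222 D23260) (tt N19374 (iv D21663)) (tt N19375 F41118))
theorem Q21627 : ∀ i, i < 21627 → P i := stepQ 21626 Q21626 (allL N21626 (tt N19391 F41119) (tt N23212 (iv F45003)) (tt N23223 D23261) (tt N19375 (iv D21664)) (tt N19377 F41120) (tt N23222 (iv F45024)))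
theorem Q21628 : ∀ i, i < 21628 → P i := stepQ 21627 Q21627 (allL N21627 (tt N22820 (iv F43945)) (tt N23215 (iv F45008)) (tt N23224 D23262) (tt N19376 (iv D21665)) (tt N22845 (iv F43997)) (tt N19377 F41121))
theorem Q21629 : ∀ i, i < 21629 → P i := stepQ 21628 Q21628 (allL N21628 (tt N22235 (iv F42556)) (tt N23225 D23263) (tt N19377 (iv D21666)) (tt N22234 F42555) (tt N23223 (iv F45027)) (tt N23224 (iv F45031)))
theorem Q21630 : ∀ i, i < 21630 → P i := stepQ 21629 Q21629 (allL N21629 (tt N19380 F41122) (tt N22738 (iv F43696)) (tt N19902 F41123) (tt N19379 F41124) (tt N23226 D23264) (tt N19378 (iv D21667)))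
theorem Q21631 : ∀ i, i < 21631 → P i := stepQ 21630 Q21630 (allL N21630 (tt N23226 (iv F45034)) (tt N19383 F41125) (tt N22168 F42427) (tt N22169 (iv F42430)) (tt N19380 (iv D21668)) (tt N22168 F42428))
theorem Q21632 : ∀ i, i < 21632 → P i := stepQ 21631 Q21631 (allL N21631 (tt N21223 F41126) (tt N22170 (iv F42433)) (tt N19383 F41127) (tt N20302 F41128) (tt N19382 (iv D21669)) (tt N22170 (iv F42436)))
theorem Q21633 : ∀ i, i < 21633 → P i := stepQ 21632 Q21632 (allL N21632 (tt N20516 F41129) (tt N23211 (iv F45000)) (tt N19387 F41130) (tt N23227 D23265) (tt N19386 (iv D21670)) (tt N20845 F41131))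
theorem Q21634 : ∀ i, i < 21634 → P i := stepQ 21633 Q21633 (allL N21633 (tt N19390 F41132) (tt N23208 (iv F44993)) (tt N19732 F41133) (tt N23228 D23266) (tt N19389 (iv D21671)) (tt N23229 D23267))
theorem Q21635 : ∀ i, i < 21635 → P i := stepQ 21634 Q21634 (allL N21634 (tt N23228 (iv F45042)) (tt N19391 F41134) (tt N23230 D23268) (tt N19390 (iv D21672)) (tt N23221 (iv F45020)) (tt N23231 D23269))
theorem Q21636 : ∀ i, i < 21636 → P i := stepQ 21635 Q21635 (allL N21635 (tt N23229 (iv F45043)) (tt N19392 F41135) (tt N19734 F41136) (tt N23231 (iv F45047)) (tt N20356 F41137) (tt N19390 (iv D21673)))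
theorem Q21637 : ∀ i, i < 21637 → P i := stepQ 21636 Q21636 (allL N21636 (tt N23223 (iv F45025)) (tt N21844 (iv F41674)) (tt N19391 (iv D21674)) (tt N20406 F41138) (tt N22235 (iv F42558)) (tt N20412 (iv F41139)))
theorem Q21638 : ∀ i, i < 21638 → P i := stepQ 21637 Q21637 (allL N21637 (tt N23222 (iv F45021)) (tt N23231 (iv F45046)) (tt N20412 F41140) (tt N19392 F41141) (tt N23232 D23270) (tt N19391 (iv D21675)))
theorem Q21639 : ∀ i, i < 21639 → P i := stepQ 21638 Q21638 (allL N21638 (tt N19396 F41142) (tt N21711 (iv F41332)) (tt N19394 F41143) (tt N19773 F41144) (tt N19393 (iv D21676)) (tt N19526 F41145))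
theorem Q21640 : ∀ i, i < 21640 → P i := stepQ 21639 Q21639 (allL N21639 (tt N19407 F41146) (tt N22210 (iv F42497)) (tt N19406 F41147) (tt N19775 F41148) (tt N19395 (iv D21677)) (tt N19530 F41149))
theorem Q21641 : ∀ i, i < 21641 → P i := stepQ 21640 Q21640 (allL N21640 (tt N19400 F41150) (tt N19511 F41151) (tt N19827 F41152) (tt N19513 F41153) (tt N19398 (iv D21678)) (tt N21045 F41154))
theorem Q21642 : ∀ i, i < 21642 → P i := stepQ 21641 Q21641 (allL N21641 (tt N22554 (iv F43320)) (tt N19399 (iv D21679)) (tt N20336 F41155) (tt N19813 F41156) (tt N23233 D23271) (tt N19811 F41157))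
theorem Q21643 : ∀ i, i < 21643 → P i := stepQ 21642 Q21642 (allL N21642 (tt N19827 F41158) (tt N23233 (iv F45052)) (tt N19400 F41159) (tt N23234 D23272) (tt N19399 (iv D21680)) (tt N23235 D23273))
theorem Q21644 : ∀ i, i < 21644 → P i := stepQ 21643 Q21643 (allL N21643 (tt N21045 F41160) (tt N20360 F41161) (tt N23235 (iv F45058)) (tt N21044 F41162) (tt N20357 F41163) (tt N19400 (iv D21681)))
theorem Q21645 : ∀ i, i < 21645 → P i := stepQ 21644 Q21644 (allL N21644 (tt N20038 F41164) (tt N19402 F41165) (tt N23236 D23274) (tt N19401 (iv D21682)) (tt N20035 F41166) (tt N23160 (iv F44880)))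
theorem Q21646 : ∀ i, i < 21646 → P i := stepQ 21645 Q21645 (allL N21645 (tt N23165 (iv F44893)) (tt N20027 F41167) (tt N21376 F41168) (tt N19404 F41169) (tt N21706 (iv F41314)) (tt N19403 (iv D21683)))
theorem Q21647 : ∀ i, i < 21647 → P i := stepQ 21646 Q21646 (allL N21646 (tt N19422 F41170) (tt N23193 (iv F44955)) (tt N19420 (iv D21684)) (tt N22007 (iv F42056)) (tt N20696 F41171) (tt N22009 (iv F42063)))
theorem Q21648 : ∀ i, i < 21648 → P i := stepQ 21647 Q21647 (allL N21647 (tt N23237 D23275) (tt N19433 (iv D21685)) (tt N20281 F41172) (tt N19440 F41173) (tt N19488 F41174) (tt N19439 F41175))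
theorem Q21649 : ∀ i, i < 21649 → P i := stepQ 21648 Q21648 (allL N21648 (tt N19434 (iv D21686)) (tt N21734 (iv F41388)) (tt N19438 F41176) (tt N23238 D23276) (tt N19533 F41177) (tt N23239 D23277))
theorem Q21650 : ∀ i, i < 21650 → P i := stepQ 21649 Q21649 (allL N21649 (tt N23238 (iv F45069)) (tt N19435 F41178) (tt N23240 D23278) (tt N19434 (iv D21687)) (tt N23241 D23279) (tt N23242 D23280))
theorem Q21651 : ∀ i, i < 21651 → P i := stepQ 21650 Q21650 (allL N21650 (tt N23239 (iv F45071)) (tt N19436 F41179) (tt N19440 F41180) (tt N23242 (iv F45078)) (tt N23243 D23281) (tt N19434 (iv D21688)))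
theorem Q21652 : ∀ i, i < 21652 → P i := stepQ 21651 Q21651 (allL N21651 (tt N21737 (iv F41395)) (tt N23242 (iv F45077)) (tt N19435 (iv D21689)) (tt N19436 F41181) (tt N23244 D23282) (tt N19435 (iv F41182)))
theorem Q21653 : ∀ i, i < 21653 → P i := stepQ 21652 Q21652 (allL N21652 (tt N21738 (iv F41398)) (tt N23241 (iv F45074)) (tt N23244 (iv F45082)) (tt N19535 F41183) (tt N19435 (iv D21690)) (tt N23245 D23283))
theorem Q21654 : ∀ i, i < 21654 → P i := stepQ 21653 Q21653 (allL N21653 (tt N21739 (iv F41400)) (tt N23243 (iv F45079)) (tt N19437 F41184) (tt N21821 (iv F41615)) (tt N19436 (iv D21691)) (tt N19531 F41185))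
theorem Q21655 : ∀ i, i < 21655 → P i := stepQ 21654 Q21654 (allL N21654 (tt N19439 F41186) (tt N19493 F41187) (tt N20279 (iv F41189)) (tt N19438 (iv D21692)) (tt N19460 F41188) (tt N23237 (iv F45068)))
theorem Q21656 : ∀ i, i < 21656 → P i := stepQ 21655 Q21655 (allL N21655 (tt N19440 F41190) (tt N19542 F41191) (tt N23239 (iv F45072)) (tt N23237 (iv F45066)) (tt N23246 D23284) (tt N19438 (iv D21693)))
theorem Q21657 : ∀ i, i < 21657 → P i := stepQ 21656 Q21656 (allL N21656 (tt N23246 (iv F45085)) (tt N19441 F41192) (tt N23243 (iv F45080)) (tt N23247 D23285) (tt N19440 (iv D21694)) (tt N19536 F41193))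
theorem Q21658 : ∀ i, i < 21658 → P i := stepQ 21657 Q21657 (allL N21657 (tt N19541 F41194) (tt N23247 (iv F45088)) (tt N19537 F41195) (tt N19441 (iv D21695)) (tt N19489 F41196) (tt N19537 F41197))
theorem Q21659 : ∀ i, i < 21659 → P i := stepQ 21658 Q21658 (allL N21658 (tt N19443 F41198) (tt N23248 D23286) (tt N19442 (iv D21696)) (tt N23249 D23287) (tt N23250 D23288) (tt N20278 F41199))
theorem Q21660 : ∀ i, i < 21660 → P i := stepQ 21659 Q21659 (allL N21659 (tt N19444 F41200) (tt N19486 F41201) (tt N23250 (iv F45098)) (tt N19449 F41202) (tt N19442 (iv D21697)) (tt N19463 F41203))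
theorem Q21661 : ∀ i, i < 21661 → P i := stepQ 21660 Q21660 (allL N21660 (tt N23251 D23289) (tt N19443 (iv D21698)) (tt N19446 F41204) (tt N23252 D23290) (tt N23253 D23291) (tt N19495 (iv F41205)))
theorem Q21662 : ∀ i, i < 21662 → P i := stepQ 21661 Q21661 (allL N21661 (tt N23249 (iv F45094)) (tt N23252 (iv F45102)) (tt N23254 D23292) (tt N19443 (iv D21699)) (tt N23255 D23293) (tt N23256 D23294))
theorem Q21663 : ∀ i, i < 21663 → P i := stepQ 21662 Q21662 (allL N21662 (tt N23250 (iv F45096)) (tt N23253 (iv F45104)) (tt N19444 F41206) (tt N23257 D23295) (tt N19443 (iv D21700)) (tt N19466 (iv F41207)))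
theorem Q21664 : ∀ i, i < 21664 → P i := stepQ 21663 Q21663 (allL N21663 (tt N20278 F41208) (tt N19495 F41209) (tt N19445 F41210) (tt N23256 (iv F45109)) (tt N19461 F41211) (tt N19443 (iv D21701)))
theorem Q21665 : ∀ i, i < 21665 → P i := stepQ 21664 Q21664 (allL N21664 (tt N19446 (iv D21702)) (tt N23237 (iv F45064)) (tt N23251 (iv F45100)) (tt N19542 F41212) (tt N23258 D23296) (tt N19493 F41213))
theorem Q21666 : ∀ i, i < 21666 → P i := stepQ 21665 Q21665 (allL N21665 (tt N23258 (iv F45111)) (tt N19447 F41214) (tt N23253 (iv F45105)) (tt N23259 D23297) (tt N19446 (iv D21703)) (tt N19468 F41215))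
theorem Q21667 : ∀ i, i < 21667 → P i := stepQ 21666 Q21666 (allL N21666 (tt N19489 F41216) (tt N23259 (iv F45114)) (tt N19484 F41217) (tt N19447 (iv D21704)) (tt N19541 F41218) (tt N19469 F41219))
theorem Q21668 : ∀ i, i < 21668 → P i := stepQ 21667 Q21667 (allL N21667 (tt N19450 F41220) (tt N20779 F41221) (tt N19449 F41222) (tt N23260 D23298) (tt N19448 (iv D21705)) (tt N19472 F41223))
theorem Q21669 : ∀ i, i < 21669 → P i := stepQ 21668 Q21668 (allL N21668 (tt N23260 (iv F45117)) (tt N19456 F41224) (tt N23261 D23299) (tt N19450 (iv D21706)) (tt N20787 F41225) (tt N19475 F41226))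
theorem Q21670 : ∀ i, i < 21670 → P i := stepQ 21669 Q21669 (allL N21669 (tt N19454 F41227) (tt N20778 F41228) (tt N22221 (iv F42518)) (tt N19588 F41229) (tt N19452 (iv D21707)) (tt N23262 D23300))
theorem Q21671 : ∀ i, i < 21671 → P i := stepQ 21670 Q21670 (allL N21670 (tt N23262 (iv F45124)) (tt N19455 F41230) (tt N21522 F41231) (tt N19590 F41232) (tt N20788 F41233) (tt N19454 (iv D21708)))
theorem Q21672 : ∀ i, i < 21672 → P i := stepQ 21671 Q21671 (allL N21671 (tt N19457 (iv D21709)) (tt N19490 F41234) (tt N19712 F41235) (tt N23263 D23301) (tt N19459 F41236) (tt N19545 F41237))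
theorem Q21673 : ∀ i, i < 21673 → P i := stepQ 21672 Q21672 (allL N21672 (tt N23263 (iv F45129)) (tt N19458 F41238) (tt N23264 D23302) (tt N19457 (iv D21710)) (tt N19499 F41239) (tt N19546 F41240))
theorem Q21674 : ∀ i, i < 21674 → P i := stepQ 21673 Q21673 (allL N21673 (tt N19693 F41241) (tt N19494 F41242) (tt N19691 F41244) (tt N19461 (iv D21711)) (tt N23265 D23303) (tt N19465 F41243))
theorem Q21675 : ∀ i, i < 21675 → P i := stepQ 21674 Q21674 (allL N21674 (tt N19465 F41245) (tt N20207 F41246) (tt N19678 F41247) (tt N19462 (iv D21712)) (tt N23266 D23304) (tt N19693 F41248))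
theorem Q21676 : ∀ i, i < 21676 → P i := stepQ 21675 Q21675 (allL N21675 (tt N19466 F41249) (tt N20262 F41250) (tt N19463 F41251) (tt N23267 D23305) (tt N19462 (iv D21713)) (tt N23250 (iv F45099)))
theorem Q21677 : ∀ i, i < 21677 → P i := stepQ 21676 Q21676 (allL N21676 (tt N19464 (iv D21714)) (tt N20209 F41252) (tt N19467 F41253) (tt N19671 (iv F41255)) (tt N23268 D23306) (tt N19492 F41254))
theorem Q21678 : ∀ i, i < 21678 → P i := stepQ 21677 Q21677 (allL N21677 (tt N19671 F41256) (tt N19465 F41257) (tt N19669 F41258) (tt N19464 (iv D21715)) (tt N23269 D23307) (tt N19494 F41259))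
theorem Q21679 : ∀ i, i < 21679 → P i := stepQ 21678 Q21678 (allL N21678 (tt N23268 (iv F45144)) (tt N19466 F41260) (tt N19468 F41261) (tt N23270 D23308) (tt N19464 (iv D21716)) (tt N23253 (iv F45106)))
theorem Q21680 : ∀ i, i < 21680 → P i := stepQ 21679 Q21679 (allL N21679 (tt N23266 (iv F45139)) (tt N23269 (iv F45148)) (tt N22158 (iv F42405)) (tt N23271 D23309) (tt N19465 (iv D21717)) (tt N23272 D23310))
theorem Q21681 : ∀ i, i < 21681 → P i := stepQ 21680 Q21680 (allL N21680 (tt N23267 (iv F45142)) (tt N23270 (iv F45150)) (tt N23273 D23311) (tt N19466 (iv D21718)) (tt N23271 (iv F45151)) (tt N23257 (iv F45110)))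
theorem Q21682 : ∀ i, i < 21682 → P i := stepQ 21681 Q21681 (allL N21681 (tt N19468 F41262) (tt N19498 F41263) (tt N23268 (iv F45146)) (tt N23274 D23312) (tt N19467 (iv D21719)) (tt N23258 (iv F45113)))
theorem Q21683 : ∀ i, i < 21683 → P i := stepQ 21682 Q21682 (allL N21682 (tt N23274 (iv F45152)) (tt N19469 F41264) (tt N23275 D23313) (tt N19468 (iv D21720)) (tt N19491 F41265) (tt N23259 (iv F45116)))
theorem Q21684 : ∀ i, i < 21684 → P i := stepQ 21683 Q21683 (allL N21683 (tt N19547 F41266) (tt N19472 F41267) (tt N19500 F41268) (tt N23276 D23314) (tt N19470 (iv D21721)) (tt N20779 F41269))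
theorem Q21685 : ∀ i, i < 21685 → P i := stepQ 21684 Q21684 (allL N21684 (tt N19474 F41270) (tt N19594 F41271) (tt N22210 (iv F42498)) (tt N23277 D23315) (tt N19471 (iv D21722)) (tt N23278 D23316))
theorem Q21686 : ∀ i, i < 21686 → P i := stepQ 21685 Q21685 (allL N21685 (tt N19475 F41272) (tt N23276 (iv F45158)) (tt N23279 D23317) (tt N19472 (iv D21723)) (tt N23277 (iv F45163)) (tt N23260 (iv F45120)))
theorem Q21687 : ∀ i, i < 21687 → P i := stepQ 21686 Q21686 (allL N21686 (tt N22210 (iv F42496)) (tt N19592 F41273) (tt N19474 F41274) (tt N23280 D23318) (tt N19473 (iv D21724)) (tt N23281 D23319))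
theorem Q21688 : ∀ i, i < 21688 → P i := stepQ 21687 Q21687 (allL N21687 (tt N23277 (iv F45161)) (tt N19549 F41275) (tt N23282 D23320) (tt N19474 (iv D21725)) (tt N19475 F41276) (tt N23283 D23321))
theorem Q21689 : ∀ i, i < 21689 → P i := stepQ 21688 Q21688 (allL N21688 (tt N23278 (iv F45164)) (tt N19550 F41277) (tt N23281 (iv F45174)) (tt N23283 (iv F45178)) (tt N19590 F41278) (tt N19474 (iv D21726)))
theorem Q21690 : ∀ i, i < 21690 → P i := stepQ 21689 Q21689 (allL N21689 (tt N23279 (iv F45168)) (tt N23284 D23322) (tt N19475 (iv D21727)) (tt N23285 D23323) (tt N23282 (iv F45176)) (tt N23261 (iv F45123)))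
theorem Q21691 : ∀ i, i < 21691 → P i := stepQ 21690 Q21690 (allL N21690 (tt N23286 D23324) (tt N19482 (iv D21728)) (tt N21530 F41279) (tt N20153 F41280) (tt N20631 F41281) (tt N20152 F41282))
theorem Q21692 : ∀ i, i < 21692 → P i := stepQ 21691 Q21691 (allL N21691 (tt N19483 (iv D21729)) (tt N19545 F41283) (tt N19660 F41284) (tt N23287 D23325) (tt N19485 F41285) (tt N19490 F41286))
theorem Q21693 : ∀ i, i < 21693 → P i := stepQ 21692 Q21692 (allL N21692 (tt N23287 (iv F45187)) (tt N19484 F41287) (tt N23288 D23326) (tt N19483 (iv D21730)) (tt N19544 F41288) (tt N19491 F41289))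
theorem Q21694 : ∀ i, i < 21694 → P i := stepQ 21693 Q21693 (allL N21693 (tt N23289 D23327) (tt N19487 (iv D21731)) (tt N19488 F41290) (tt N22141 (iv F42367)) (tt N20281 F41291) (tt N19497 F41292))
theorem Q21695 : ∀ i, i < 21695 → P i := stepQ 21694 Q21694 (allL N21694 (tt N19488 (iv D21732)) (tt N23258 (iv F45112)) (tt N23289 (iv F45194)) (tt N23290 D23328) (tt N23237 (iv F45067)) (tt N19498 F41293))
theorem Q21696 : ∀ i, i < 21696 → P i := stepQ 21695 Q21695 (allL N21695 (tt N23290 (iv F45197)) (tt N19489 F41294) (tt N23291 D23329) (tt N19488 (iv D21733)) (tt N23247 (iv F45089)) (tt N19499 F41295))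
theorem Q21697 : ∀ i, i < 21697 → P i := stepQ 21696 Q21696 (allL N21696 (tt N19491 F41296) (tt N23263 (iv F45130)) (tt N23292 D23330) (tt N19490 (iv D21734)) (tt N23274 (iv F45154)) (tt N23287 (iv F45190)))
theorem Q21698 : ∀ i, i < 21698 → P i := stepQ 21697 Q21697 (allL N21697 (tt N23292 (iv F45201)) (tt N23275 (iv F45155)) (tt N19491 (iv D21735)) (tt N23293 D23331) (tt N23275 (iv F45156)) (tt N23288 (iv F45192)))
theorem Q21699 : ∀ i, i < 21699 → P i := stepQ 21698 Q21698 (allL N21698 (tt N20239 F41297) (tt N19492 (iv D21736)) (tt N20235 F41298) (tt N20115 F41299) (tt N23294 D23332) (tt N20209 F41300))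
theorem Q21700 : ∀ i, i < 21700 → P i := stepQ 21699 Q21699 (allL N21699 (tt N19495 F41301) (tt N23294 (iv F45203)) (tt N19493 F41302) (tt N23295 D23333) (tt N19492 (iv D21737)) (tt N23251 (iv F45101)))
theorem Q21701 : ∀ i, i < 21701 → P i := stepQ 21700 Q21700 (allL N21700 (tt N20116 F41303) (tt N23265 (iv F45137)) (tt N20114 F41304) (tt N23296 D23334) (tt N19494 (iv D21738)) (tt N23297 D23335))
theorem Q21702 : ∀ i, i < 21702 → P i := stepQ 21701 Q21701 (allL N21701 (tt N23295 (iv F45205)) (tt N23256 (iv F45108)) (tt N23298 D23336) (tt N19495 (iv D21739)) (tt N23296 (iv F45208)) (tt N23252 (iv F45103)))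
theorem Q21703 : ∀ i, i < 21703 → P i := stepQ 21702 Q21702 (allL N21702 (tt N19497 F41305) (tt N20259 F41306) (tt N19498 F41307) (tt N22138 (iv F42362)) (tt N19496 (iv D21740)) (tt N23289 (iv F45196)))
theorem Q21704 : ∀ i, i < 21704 → P i := stepQ 21703 Q21703 (allL N21703 (tt N19499 F41308) (tt N23274 (iv F45153)) (tt N23299 D23337) (tt N19498 (iv D21741)) (tt N23263 (iv F45131)) (tt N23290 (iv F45198)))
theorem Q21705 : ∀ i, i < 21705 → P i := stepQ 21704 Q21704 (allL N21704 (tt N23299 (iv F45211)) (tt N23264 (iv F45133)) (tt N19499 (iv D21742)) (tt N23300 D23338) (tt N23264 (iv F45134)) (tt N23291 (iv F45200)))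
theorem Q21706 : ∀ i, i < 21706 → P i := stepQ 21705 Q21705 (allL N21705 (tt N20597 F41309) (tt N19501 F41310) (tt N23301 D23339) (tt N19500 (iv D21743)) (tt N20031 F41311) (tt N20993 F41312))
theorem Q21707 : ∀ i, i < 21707 → P i := stepQ 21706 Q21706 (allL N21706 (tt N23302 D23340) (tt N19502 (iv D21744)) (tt N20152 F41313) (tt N22149 (iv F42384)) (tt N21645 F41314) (tt N21530 F41315))
theorem Q21708 : ∀ i, i < 21708 → P i := stepQ 21707 Q21707 (allL N21707 (tt N22163 (iv F42416)) (tt N23076 (iv F44672)) (tt N19503 (iv D21745)) (tt N21707 F41317) (tt N20994 F41316) (tt N23075 (iv F44671)))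
theorem Q21709 : ∀ i, i < 21709 → P i := stepQ 21708 Q21708 (allL N21708 (tt N20596 F41318) (tt N19507 F41319) (tt N20040 F41320) (tt N20992 F41321) (tt N20032 F41322) (tt N19506 (iv D21746)))
theorem Q21710 : ∀ i, i < 21710 → P i := stepQ 21709 Q21709 (allL N21709 (tt N19721 F41323) (tt N19514 (iv D21747)) (tt N19717 F41324) (tt N19532 F41325) (tt N19721 F41326) (tt N19534 F41327))
theorem Q21711 : ∀ i, i < 21711 → P i := stepQ 21710 Q21710 (allL N21710 (tt N19729 F41328) (tt N20769 F41329) (tt N19535 F41330) (tt N21743 F41417) (tt N19515 (iv D21748)) (tt N20767 F41331))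
theorem Q21712 : ∀ i, i < 21712 → P i := stepQ 21711 Q21711 (allL N21711 (tt N21772 (iv F41488)) (tt N21638 F41332) (tt N21778 (iv F41501)) (tt N21919 (iv F41852)) (tt N19516 (iv D21749)) (tt N20529 F41333))
theorem Q21713 : ∀ i, i < 21713 → P i := stepQ 21712 Q21712 (allL N21712 (tt N20156 F41334) (tt N20826 F41335) (tt N20157 F41336) (tt N21865 (iv F41720)) (tt N19522 (iv D21750)) (tt N22809 (iv F43911)))
theorem Q21714 : ∀ i, i < 21714 → P i := stepQ 21713 Q21713 (allL N21713 (tt N20954 F41337) (tt N20955 F41338) (tt N19746 F41340) (tt N19523 (iv D21751)) (tt N21865 (iv F41721)) (tt N20956 F41339))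
theorem Q21715 : ∀ i, i < 21715 → P i := stepQ 21714 Q21714 (allL N21714 (tt N19788 F41341) (tt N22381 (iv F42901)) (tt N19525 (iv D21752)) (tt N23303 D23341) (tt N20974 F41342) (tt N19739 F41343))
theorem Q21716 : ∀ i, i < 21716 → P i := stepQ 21715 Q21715 (allL N21715 (tt N19778 F41344) (tt N22443 (iv F43019)) (tt N19774 F41345) (tt N19526 (iv D21753)) (tt N20982 F41346) (tt N19773 F41347))
theorem Q21717 : ∀ i, i < 21717 → P i := stepQ 21716 Q21716 (allL N21716 (tt N19596 F41348) (tt N23278 (iv F45165)) (tt N19528 (iv D21754)) (tt N23304 D23342) (tt N20991 F41349) (tt N19594 F41350))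
theorem Q21718 : ∀ i, i < 21718 → P i := stepQ 21717 Q21717 (allL N21717 (tt N23281 (iv F45172)) (tt N19530 (iv D21755)) (tt N23278 (iv F45166)) (tt N23305 D23343) (tt N21516 F41351) (tt N22210 (iv F42500)))
theorem Q21719 : ∀ i, i < 21719 → P i := stepQ 21718 Q21718 (allL N21718 (tt N19860 F41352) (tt N23305 (iv F45222)) (tt N19776 F41353) (tt N19530 (iv D21756)) (tt N21518 F41354) (tt N19775 F41355))
theorem Q21720 : ∀ i, i < 21720 → P i := stepQ 21719 Q21719 (allL N21719 (tt N21820 (iv F41609)) (tt N19531 (iv D21757)) (tt N19536 F41356) (tt N21820 (iv F41612)) (tt N19532 F41357) (tt N23243 (iv F45081)))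
theorem Q21721 : ∀ i, i < 21721 → P i := stepQ 21720 Q21720 (allL N21720 (tt N20766 F41358) (tt N19535 F41359) (tt N20764 F41360) (tt N23241 (iv F45075)) (tt N19534 (iv D21758)) (tt N20766 F41361))
theorem Q21722 : ∀ i, i < 21722 → P i := stepQ 21721 Q21721 (allL N21721 (tt N21740 (iv F41405)) (tt N20766 F41362) (tt N20767 F41363) (tt N23245 (iv F45084)) (tt N20765 F41364) (tt N19535 (iv D21759)))
theorem Q21723 : ∀ i, i < 21723 → P i := stepQ 21722 Q21722 (allL N21722 (tt N19536 (iv D21760)) (tt N19543 F41365) (tt N21820 (iv F41611)) (tt N23306 D23344) (tt N19538 F41366) (tt N23246 (iv F45087)))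
theorem Q21724 : ∀ i, i < 21724 → P i := stepQ 21723 Q21723 (allL N21723 (tt N23306 (iv F45225)) (tt N19537 F41367) (tt N23307 D23345) (tt N19536 (iv D21761)) (tt N19546 F41368) (tt N23247 (iv F45090)))
theorem Q21725 : ∀ i, i < 21725 → P i := stepQ 21724 Q21724 (allL N21724 (tt N19540 (iv D21762)) (tt N23246 (iv F45086)) (tt N21750 (iv F41437)) (tt N23308 D23346) (tt N19542 F41369) (tt N19543 F41370))
theorem Q21726 : ∀ i, i < 21726 → P i := stepQ 21725 Q21725 (allL N21725 (tt N23308 (iv F45229)) (tt N19541 F41371) (tt N23309 D23347) (tt N19540 (iv D21763)) (tt N23259 (iv F45115)) (tt N19544 F41372))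
theorem Q21727 : ∀ i, i < 21727 → P i := stepQ 21726 Q21726 (allL N21726 (tt N19544 F41373) (tt N23306 (iv F45226)) (tt N23310 D23348) (tt N19543 (iv D21764)) (tt N23287 (iv F45189)) (tt N23308 (iv F45230)))
theorem Q21728 : ∀ i, i < 21728 → P i := stepQ 21727 Q21727 (allL N21727 (tt N23310 (iv F45233)) (tt N23309 (iv F45231)) (tt N19544 (iv D21765)) (tt N23311 D23349) (tt N23288 (iv F45191)) (tt N23309 (iv F45232)))
theorem Q21729 : ∀ i, i < 21729 → P i := stepQ 21728 Q21728 (allL N21728 (tt N19546 F41374) (tt N23287 (iv F45188)) (tt N23312 D23350) (tt N19545 (iv D21766)) (tt N23306 (iv F45227)) (tt N23263 (iv F45132)))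
theorem Q21730 : ∀ i, i < 21730 → P i := stepQ 21729 Q21729 (allL N21729 (tt N23312 (iv F45234)) (tt N23291 (iv F45199)) (tt N19546 (iv D21767)) (tt N23313 D23351) (tt N23307 (iv F45228)) (tt N23264 (iv F45135)))
theorem Q21731 : ∀ i, i < 21731 → P i := stepQ 21730 Q21730 (allL N21730 (tt N23276 (iv F45157)) (tt N19548 F41375) (tt N23314 D23352) (tt N19547 (iv D21768)) (tt N19595 F41376) (tt N20782 F41377))
theorem Q21732 : ∀ i, i < 21732 → P i := stepQ 21731 Q21731 (allL N21731 (tt N19551 F41378) (tt N23315 D23353) (tt N19548 (iv D21769)) (tt N19716 F41379) (tt N19597 F41380) (tt N19724 F41381))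
theorem Q21733 : ∀ i, i < 21733 → P i := stepQ 21732 Q21732 (allL N21732 (tt N19597 F41382) (tt N23283 (iv F45177)) (tt N19549 (iv D21770)) (tt N19550 F41383) (tt N19551 F41384) (tt N19549 (iv F41385)))
theorem Q21734 : ∀ i, i < 21734 → P i := stepQ 21733 Q21733 (allL N21733 (tt N23316 D23354) (tt N19551 (iv D21771)) (tt N23284 (iv F45180)) (tt N20788 F41386) (tt N23283 (iv F45179)) (tt N20787 F41387))
theorem Q21735 : ∀ i, i < 21735 → P i := stepQ 21734 Q21734 (allL N21734 (tt N19552 (iv D21772)) (tt N21648 F41388) (tt N19561 F41389) (tt N23317 D23355) (tt N19556 F41390) (tt N23318 D23356))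
theorem Q21736 : ∀ i, i < 21736 → P i := stepQ 21735 Q21735 (allL N21735 (tt N23317 (iv F45242)) (tt N19553 F41391) (tt N23319 D23357) (tt N19552 (iv D21773)) (tt N23319 F45255) (tt N23320 D23358))
theorem Q21737 : ∀ i, i < 21737 → P i := stepQ 21736 Q21736 (allL N21736 (tt N23318 (iv F45247)) (tt N19554 F41392) (tt N19563 F41393) (tt N23320 (iv F45260)) (tt N19652 F41394) (tt N19552 (iv D21774)))
theorem Q21738 : ∀ i, i < 21738 → P i := stepQ 21737 Q21737 (allL N21737 (tt N21651 F41395) (tt N23320 (iv F45258)) (tt N19553 (iv D21775)) (tt N19554 F41396) (tt N23320 (iv F45261)) (tt N19553 (iv F41397)))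
theorem Q21739 : ∀ i, i < 21739 → P i := stepQ 21738 Q21738 (allL N21738 (tt N21652 F41398) (tt N23319 F45254) (tt N23320 (iv F45259)) (tt N19558 F41399) (tt N19553 (iv D21776)) (tt N23319 F45256))
theorem Q21740 : ∀ i, i < 21740 → P i := stepQ 21739 Q21739 (allL N21739 (tt N21653 F41400) (tt N19652 F41401) (tt N19555 F41402) (tt N19652 (iv F41404)) (tt N19554 (iv D21777)) (tt N19560 F41403))
theorem Q21741 : ∀ i, i < 21741 → P i := stepQ 21740 Q21740 (allL N21740 (tt N21721 F41405) (tt N19558 F41406) (tt N21884 (iv F41764)) (tt N23319 (iv F45253)) (tt N19557 (iv D21778)) (tt N19558 F41407))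
theorem Q21742 : ∀ i, i < 21742 → P i := stepQ 21741 Q21741 (allL N21741 (tt N19562 F41408) (tt N19571 F41409) (tt N20880 (iv F41411)) (tt N19561 (iv D21779)) (tt N19651 F41410) (tt N23321 D23359))
theorem Q21743 : ∀ i, i < 21743 → P i := stepQ 21742 Q21742 (allL N21742 (tt N19563 F41412) (tt N19572 F41413) (tt N23318 (iv F45249)) (tt N23321 (iv F45265)) (tt N19650 F41414) (tt N19561 (iv D21780)))
theorem Q21744 : ∀ i, i < 21744 → P i := stepQ 21743 Q21743 (allL N21743 (tt N20880 F41415) (tt N22338 (iv F42818)) (tt N19562 (iv D21781)) (tt N21710 (iv F41417)) (tt N19653 F41416) (tt N22613 (iv F43448)))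
theorem Q21745 : ∀ i, i < 21745 → P i := stepQ 21744 Q21744 (allL N21744 (tt N23321 (iv F45262)) (tt N19565 F41418) (tt N22613 F43449) (tt N19563 F41419) (tt N22626 (iv F43474)) (tt N19562 (iv D21782)))
theorem Q21746 : ∀ i, i < 21746 → P i := stepQ 21745 Q21745 (allL N21745 (tt N19580 F41420) (tt N22626 (iv F43473)) (tt N19569 F41421) (tt N19645 F41422) (tt N19565 (iv D21783)) (tt N19646 F41423))
theorem Q21747 : ∀ i, i < 21747 → P i := stepQ 21746 Q21746 (allL N21746 (tt N20179 F41424) (tt N20739 F41425) (tt N19646 F41426) (tt N19959 F41427) (tt N19647 F41428) (tt N19569 (iv D21784)))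
theorem Q21748 : ∀ i, i < 21748 → P i := stepQ 21747 Q21747 (allL N21747 (tt N19573 F41429) (tt N23322 D23360) (tt N19571 (iv D21785)) (tt N23323 D23361) (tt N23324 D23362) (tt N23325 D23363))
theorem Q21749 : ∀ i, i < 21749 → P i := stepQ 21748 Q21748 (allL N21748 (tt N19574 F41430) (tt N19651 F41431) (tt N23324 (iv F45274)) (tt N19582 F41432) (tt N19571 (iv D21786)) (tt N23326 D23364))
theorem Q21750 : ∀ i, i < 21750 → P i := stepQ 21749 Q21749 (allL N21749 (tt N19575 F41433) (tt N23321 (iv F45263)) (tt N23325 (iv F45276)) (tt N19572 F41434) (tt N23327 D23365) (tt N19571 (iv D21787)))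
theorem Q21751 : ∀ i, i < 21751 → P i := stepQ 21750 Q21750 (allL N21750 (tt N19576 F41435) (tt N19650 F41436) (tt N21724 F41437) (tt N23328 D23366) (tt N19572 (iv D21788)) (tt N19583 F41438))
theorem Q21752 : ∀ i, i < 21752 → P i := stepQ 21751 Q21751 (allL N21751 (tt N23329 D23367) (tt N19573 (iv D21789)) (tt N19577 F41439) (tt N23330 D23368) (tt N23331 D23369) (tt N20177 (iv F41440)))
theorem Q21753 : ∀ i, i < 21753 → P i := stepQ 21752 Q21752 (allL N21752 (tt N23323 (iv F45269)) (tt N23330 (iv F45293)) (tt N23332 D23370) (tt N19573 (iv D21790)) (tt N23333 D23371) (tt N23334 D23372))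
theorem Q21754 : ∀ i, i < 21754 → P i := stepQ 21753 Q21753 (allL N21753 (tt N23324 (iv F45272)) (tt N23331 (iv F45296)) (tt N19574 F41441) (tt N23335 D23373) (tt N19573 (iv D21791)) (tt N23336 D23374))
theorem Q21755 : ∀ i, i < 21755 → P i := stepQ 21754 Q21754 (allL N21754 (tt N23325 (iv F45275)) (tt N20177 F41442) (tt N19575 F41443) (tt N23334 (iv F45304)) (tt N23337 D23375) (tt N19573 (iv D21792)))
theorem Q21756 : ∀ i, i < 21756 → P i := stepQ 21755 Q21755 (allL N21755 (tt N23326 (iv F45278)) (tt N19579 F41444) (tt N23336 (iv F45305)) (tt N19585 F41445) (tt N23338 D23376) (tt N19574 (iv D21793)))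
theorem Q21757 : ∀ i, i < 21757 → P i := stepQ 21756 Q21756 (allL N21756 (tt N23327 (iv F45281)) (tt N19580 F41446) (tt N23337 (iv F45307)) (tt N23339 D23377) (tt N19575 (iv D21794)) (tt N23338 (iv F45310)))
theorem Q21758 : ∀ i, i < 21758 → P i := stepQ 21757 Q21757 (allL N21757 (tt N23328 (iv F45284)) (tt N19581 F41447) (tt N23340 D23378) (tt N19576 (iv D21795)) (tt N23339 (iv F45313)) (tt N19586 F41448))
theorem Q21759 : ∀ i, i < 21759 → P i := stepQ 21758 Q21758 (allL N21758 (tt N19577 (iv D21796)) (tt N20056 F41449) (tt N23329 (iv F45289)) (tt N19989 F41450) (tt N23341 D23379) (tt N20176 F41451))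
theorem Q21760 : ∀ i, i < 21760 → P i := stepQ 21759 Q21759 (allL N21759 (tt N23341 (iv F45321)) (tt N19578 F41452) (tt N23331 (iv F45297)) (tt N22037 (iv F42116)) (tt N19577 (iv D21797)) (tt N22039 (iv F42119)))
theorem Q21761 : ∀ i, i < 21761 → P i := stepQ 21760 Q21760 (allL N21760 (tt N19646 F41453) (tt N23338 (iv F45308)) (tt N20179 F41454) (tt N19625 F41455) (tt N19579 (iv D21798)) (tt N19580 F41456))
theorem Q21762 : ∀ i, i < 21762 → P i := stepQ 21761 Q21761 (allL N21761 (tt N19645 F41457) (tt N23339 (iv F45312)) (tt N19630 F41458) (tt N19580 (iv D21799)) (tt N19581 F41459) (tt N19625 F41460))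
theorem Q21763 : ∀ i, i < 21763 → P i := stepQ 21762 Q21762 (allL N21762 (tt N19644 F41461) (tt N23342 D23380) (tt N19581 (iv D21800)) (tt N19958 F41462) (tt N19630 F41463) (tt N19587 F41464))
theorem Q21764 : ∀ i, i < 21764 → P i := stepQ 21763 Q21763 (allL N21763 (tt N19585 F41465) (tt N19635 F41466) (tt N22631 (iv F43487)) (tt N23326 (iv F45280)) (tt N19621 F41467) (tt N19582 (iv D21801)))
theorem Q21765 : ∀ i, i < 21765 → P i := stepQ 21764 Q21764 (allL N21764 (tt N19586 F41468) (tt N19633 F41469) (tt N23343 D23381) (tt N19583 (iv D21802)) (tt N19620 F41470) (tt N23328 (iv F45287)))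
theorem Q21766 : ∀ i, i < 21766 → P i := stepQ 21765 Q21765 (allL N21765 (tt N22630 (iv F43483)) (tt N19619 F41471) (tt N23344 D23382) (tt N19584 (iv D21803)) (tt N22762 (iv F43777)) (tt N23345 D23383))
theorem Q21767 : ∀ i, i < 21767 → P i := stepQ 21766 Q21766 (allL N21766 (tt N22631 (iv F43485)) (tt N19616 F41472) (tt N19585 F41473) (tt N23345 (iv F45334)) (tt N19614 F41474) (tt N19584 (iv D21804)))
theorem Q21768 : ∀ i, i < 21768 → P i := stepQ 21767 Q21767 (allL N21767 (tt N23343 (iv F45329)) (tt N23346 D23384) (tt N19586 (iv D21805)) (tt N23347 D23385) (tt N19622 F41475) (tt N23340 (iv F45319)))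
theorem Q21769 : ∀ i, i < 21769 → P i := stepQ 21768 Q21768 (allL N21768 (tt N23348 D23386) (tt N19587 (iv D21806)) (tt N23346 (iv F45336)) (tt N23348 F45343) (tt N19624 F41476) (tt N23342 (iv F45328)))
theorem Q21770 : ∀ i, i < 21770 → P i := stepQ 21769 Q21769 (allL N21769 (tt N19643 F41477) (tt N23348 (iv F45339)) (tt N20174 F41478) (tt N19587 (iv D21807)) (tt N19631 F41479) (tt N19958 F41480))
theorem Q21771 : ∀ i, i < 21771 → P i := stepQ 21770 Q21770 (allL N21770 (tt N19590 F41481) (tt N20991 F41482) (tt N21516 F41483) (tt N23262 (iv F45127)) (tt N23278 (iv F45167)) (tt N19588 (iv D21808)))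
theorem Q21772 : ∀ i, i < 21772 → P i := stepQ 21771 Q21771 (allL N21771 (tt N21516 F41484) (tt N20973 F41485) (tt N19590 F41486) (tt N21515 F41487) (tt N23281 (iv F45175)) (tt N19589 (iv D21809)))
theorem Q21773 : ∀ i, i < 21773 → P i := stepQ 21772 Q21772 (allL N21772 (tt N21711 F41488) (tt N20204 F41489) (tt N19600 F41490) (tt N23349 D23387) (tt N19591 (iv D21810)) (tt N22382 (iv F42907)))
theorem Q21774 : ∀ i, i < 21774 → P i := stepQ 21773 Q21773 (allL N21773 (tt N19859 F41491) (tt N23280 (iv F45170)) (tt N23350 D23388) (tt N19592 (iv D21811)) (tt N23349 (iv F45346)) (tt N23351 D23389))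
theorem Q21775 : ∀ i, i < 21775 → P i := stepQ 21774 Q21774 (allL N21774 (tt N21527 F41492) (tt N23281 (iv F45173)) (tt N19593 F41493) (tt N23351 (iv F45349)) (tt N20973 F41494) (tt N19592 (iv D21812)))
theorem Q21776 : ∀ i, i < 21776 → P i := stepQ 21775 Q21775 (allL N21775 (tt N19595 F41495) (tt N23277 (iv F45162)) (tt N23352 D23390) (tt N19594 (iv D21813)) (tt N23276 (iv F45159)) (tt N23304 (iv F45221)))
theorem Q21777 : ∀ i, i < 21777 → P i := stepQ 21776 Q21776 (allL N21776 (tt N23352 (iv F45350)) (tt N23353 D23391) (tt N19595 (iv D21814)) (tt N21776 F41496) (tt N23314 (iv F45235)) (tt N23353 (iv F45354)))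
theorem Q21778 : ∀ i, i < 21778 → P i := stepQ 21777 Q21777 (allL N21777 (tt N23304 (iv F45220)) (tt N19597 F41497) (tt N23353 (iv F45352)) (tt N19596 F41498) (tt N23315 (iv F45238)) (tt N19595 (iv D21815)))
theorem Q21779 : ∀ i, i < 21779 → P i := stepQ 21778 Q21778 (allL N21778 (tt N19600 F41499) (tt N19739 F41500) (tt N21711 F41501) (tt N23354 D23392) (tt N19598 (iv D21816)) (tt N22381 (iv F42903)))
theorem Q21780 : ∀ i, i < 21780 → P i := stepQ 21779 Q21779 (allL N21779 (tt N19601 F41502) (tt N19740 F41503) (tt N23355 D23393) (tt N19599 (iv D21817)) (tt N23354 (iv F45357)) (tt N20865 F41504))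
theorem Q21781 : ∀ i, i < 21781 → P i := stepQ 21780 Q21780 (allL N21780 (tt N23354 (iv F45355)) (tt N20187 F41505) (tt N23356 D23394) (tt N19600 (iv D21818)) (tt N19601 F41506) (tt N22380 (iv F42899)))
theorem Q21782 : ∀ i, i < 21782 → P i := stepQ 21781 Q21781 (allL N21781 (tt N23355 (iv F45358)) (tt N21032 F41507) (tt N19601 (iv D21819)) (tt N22853 (iv F44019)) (tt N23356 (iv F45361)) (tt N22852 F44016))
theorem Q21783 : ∀ i, i < 21783 → P i := stepQ 21782 Q21782 (allL N21782 (tt N20865 F41508) (tt N20189 F41509) (tt N22852 (iv F44015)) (tt N19602 F41510) (tt N22321 (iv F42784)) (tt N19601 (iv D21820)))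
theorem Q21784 : ∀ i, i < 21784 → P i := stepQ 21783 Q21783 (allL N21783 (tt N19604 F41511) (tt N19737 F41512) (tt N19605 F41513) (tt N20540 F41514) (tt N19781 F41515) (tt N19603 (iv D21821)))
theorem Q21785 : ∀ i, i < 21785 → P i := stepQ 21784 Q21784 (allL N21784 (tt N22497 (iv F43137)) (tt N19606 (iv D21822)) (tt N19608 F41516) (tt N23357 D23395) (tt N20168 F41517) (tt N23358 D23396))
theorem Q21786 : ∀ i, i < 21786 → P i := stepQ 21785 Q21785 (allL N21785 (tt N22500 (iv F43148)) (tt N23357 (iv F45362)) (tt N23359 D23397) (tt N19606 (iv D21823)) (tt N23360 D23398) (tt N23361 D23399))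
theorem Q21787 : ∀ i, i < 21787 → P i := stepQ 21786 Q21786 (allL N21786 (tt N22501 (iv F43152)) (tt N23358 (iv F45364)) (tt N19607 F41518) (tt N23361 (iv F45373)) (tt N23362 D23400) (tt N19606 (iv D21824)))
theorem Q21788 : ∀ i, i < 21788 → P i := stepQ 21787 Q21787 (allL N21787 (tt N20012 F41519) (tt N19611 F41520) (tt N23362 (iv F45377)) (tt N19941 F41521) (tt N19607 (iv D21825)) (tt N19940 F41522))
theorem Q21789 : ∀ i, i < 21789 → P i := stepQ 21788 Q21788 (allL N21788 (tt N19608 (iv D21826)) (tt N20087 F41523) (tt N22497 (iv F43139)) (tt N20085 (iv F41525)) (tt N20086 F41524) (tt N22756 (iv F43759)))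
theorem Q21790 : ∀ i, i < 21790 → P i := stepQ 21789 Q21789 (allL N21789 (tt N20085 F41526) (tt N19609 F41527) (tt N23363 D23401) (tt N19608 (iv D21827)) (tt N20083 F41528) (tt N22036 (iv F42115)))
theorem Q21791 : ∀ i, i < 21791 → P i := stepQ 21790 Q21790 (allL N21790 (tt N22756 (iv F43755)) (tt N19610 F41529) (tt N23358 (iv F45365)) (tt N22036 (iv F42113)) (tt N20184 F41530) (tt N19608 (iv D21828)))
theorem Q21792 : ∀ i, i < 21792 → P i := stepQ 21791 Q21791 (allL N21791 (tt N19613 F41531) (tt N20394 F41532) (tt N22831 (iv F43970)) (tt N19612 (iv D21829)) (tt N21827 (iv F41634)) (tt N23198 (iv F44967)))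
theorem Q21793 : ∀ i, i < 21793 → P i := stepQ 21792 Q21792 (allL N21792 (tt N19614 F41533) (tt N20395 F41534) (tt N19621 F41535) (tt N23198 (iv F44966)) (tt N22631 (iv F43488)) (tt N19612 (iv D21830)))
theorem Q21794 : ∀ i, i < 21794 → P i := stepQ 21793 Q21793 (allL N21793 (tt N22831 (iv F43968)) (tt N23192 (iv F44953)) (tt N19613 (iv D21831)) (tt N23364 D23402) (tt N22830 F43967) (tt N23195 (iv F44961)))
theorem Q21795 : ∀ i, i < 21795 → P i := stepQ 21794 Q21794 (allL N21794 (tt N21827 (iv F41632)) (tt N19615 F41536) (tt N22830 (iv F43966)) (tt N19617 F41537) (tt N19613 (iv D21832)) (tt N23365 D23403))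
theorem Q21796 : ∀ i, i < 21796 → P i := stepQ 21795 Q21795 (allL N21795 (tt N20398 F41538) (tt N23365 (iv F45383)) (tt N23202 (iv F44975)) (tt N19618 F41539) (tt N23201 (iv F44973)) (tt N19615 (iv D21833)))
theorem Q21797 : ∀ i, i < 21797 → P i := stepQ 21796 Q21796 (allL N21796 (tt N20399 F41540) (tt N23345 (iv F45333)) (tt N22015 (iv F42077)) (tt N19616 (iv D21834)) (tt N23200 (iv F44970)) (tt N19619 F41541))
theorem Q21798 : ∀ i, i < 21798 → P i := stepQ 21797 Q21797 (allL N21797 (tt N21828 (iv F41636)) (tt N19618 F41542) (tt N21034 F41543) (tt N23365 (iv F45384)) (tt N22763 (iv F43779)) (tt N19617 (iv D21835)))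
theorem Q21799 : ∀ i, i < 21799 → P i := stepQ 21798 Q21798 (allL N21798 (tt N22026 (iv F42094)) (tt N23366 D23404) (tt N19619 (iv D21836)) (tt N22016 (iv F42080)) (tt N22764 (iv F43780)) (tt N22015 F42078))
theorem Q21800 : ∀ i, i < 21800 → P i := stepQ 21799 Q21799 (allL N21799 (tt N19622 F41544) (tt N23367 D23405) (tt N19620 (iv D21837)) (tt N23368 D23406) (tt N23343 (iv F45331)) (tt N23369 D23407))
theorem Q21801 : ∀ i, i < 21801 → P i := stepQ 21800 Q21800 (allL N21800 (tt N19623 F41545) (tt N19634 F41546) (tt N23369 (iv F45392)) (tt N19621 F41547) (tt N23370 D23408) (tt N19620 (iv D21838)))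
theorem Q21802 : ∀ i, i < 21802 → P i := stepQ 21801 Q21801 (allL N21801 (tt N23371 D23409) (tt N19622 (iv D21839)) (tt N19624 F41548) (tt N23372 D23410) (tt N23346 (iv F45337)) (tt N19628 (iv F41549)))
theorem Q21803 : ∀ i, i < 21803 → P i := stepQ 21802 Q21802 (allL N21802 (tt N23368 (iv F45389)) (tt N23372 (iv F45402)) (tt N23373 D23411) (tt N19622 (iv D21840)) (tt N23374 D23412) (tt N23375 D23413))
theorem Q21804 : ∀ i, i < 21804 → P i := stepQ 21803 Q21803 (allL N21803 (tt N23369 (iv F45390)) (tt N19628 F41550) (tt N19623 F41551) (tt N23375 (iv F45405)) (tt N23376 D23414) (tt N19622 (iv D21841)))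
theorem Q21805 : ∀ i, i < 21805 → P i := stepQ 21804 Q21804 (allL N21804 (tt N23370 (iv F45394)) (tt N19625 F41552) (tt N23376 (iv F45409)) (tt N23338 (iv F45309)) (tt N19623 (iv D21842)) (tt N23339 (iv F45314)))
theorem Q21806 : ∀ i, i < 21806 → P i := stepQ 21805 Q21805 (allL N21805 (tt N19624 (iv D21843)) (tt N19631 F41553) (tt N23371 (iv F45399)) (tt N19627 F41554) (tt N23348 (iv F45341)) (tt N19626 F41555))
theorem Q21807 : ∀ i, i < 21807 → P i := stepQ 21806 Q21806 (allL N21806 (tt N19628 F41556) (tt N20843 F41557) (tt N19626 (iv D21844)) (tt N22994 (iv F44407)) (tt N19956 F41558) (tt N23371 (iv F45401)))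
theorem Q21808 : ∀ i, i < 21808 → P i := stepQ 21807 Q21807 (allL N21807 (tt N22994 (iv F44405)) (tt N23375 (iv F45404)) (tt N22993 (iv F44404)) (tt N19628 (iv D21845)) (tt N21319 F41562) (tt N23372 (iv F45403)))
theorem Q21809 : ∀ i, i < 21809 → P i := stepQ 21808 Q21808 (allL N21808 (tt N19956 F41559) (tt N23376 (iv F45408)) (tt N19629 F41560) (tt N21320 (iv F41561)) (tt N19628 (iv D21846)) (tt N20840 F41563))
theorem Q21810 : ∀ i, i < 21810 → P i := stepQ 21809 Q21809 (allL N21809 (tt N19957 F41564) (tt N19630 F41565) (tt N20840 F41566) (tt N19935 F41567) (tt N23342 (iv F45327)) (tt N19629 (iv D21847)))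
theorem Q21811 : ∀ i, i < 21811 → P i := stepQ 21810 Q21810 (allL N21810 (tt N20198 F41568) (tt N19632 (iv D21848)) (tt N23367 (iv F45385)) (tt N20197 F41569) (tt N20834 (iv F41570)) (tt N20836 (iv F41571)))
theorem Q21812 : ∀ i, i < 21812 → P i := stepQ 21811 Q21811 (allL N21811 (tt N19638 F41572) (tt N20834 F41573) (tt N19633 F41574) (tt N20172 F41575) (tt N19632 (iv D21849)) (tt N20828 (iv F41576)))
theorem Q21813 : ∀ i, i < 21813 → P i := stepQ 21812 Q21812 (allL N21812 (tt N19639 F41577) (tt N20836 F41578) (tt N19634 F41579) (tt N21147 F41580) (tt N20832 F41581) (tt N19632 (iv D21850)))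
theorem Q21814 : ∀ i, i < 21814 → P i := stepQ 21813 Q21813 (allL N21813 (tt N19640 F41582) (tt N23328 (iv F45285)) (tt N20828 F41583) (tt N19650 F41584) (tt N20831 (iv F41585)) (tt N19633 (iv D21851)))
theorem Q21815 : ∀ i, i < 21815 → P i := stepQ 21814 Q21814 (allL N21814 (tt N19641 F41586) (tt N23370 (iv F45395)) (tt N20832 F41587) (tt N23377 D23415) (tt N19634 (iv D21852)) (tt N20831 F41588))
theorem Q21816 : ∀ i, i < 21816 → P i := stepQ 21815 Q21815 (allL N21815 (tt N19642 F41589) (tt N23326 (iv F45279)) (tt N20881 F41590) (tt N19635 (iv D21853)) (tt N23377 (iv F45414)) (tt N19651 F41591))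
theorem Q21817 : ∀ i, i < 21817 → P i := stepQ 21816 Q21816 (allL N21816 (tt N21147 F41592) (tt N19939 F41593) (tt N20825 F41594) (tt N19639 F41595) (tt N20825 F41596) (tt N19637 (iv D21854)))
theorem Q21818 : ∀ i, i < 21818 → P i := stepQ 21817 Q21817 (allL N21817 (tt N20832 F41597) (tt N19937 F41598) (tt N19641 F41599) (tt N20203 F41600) (tt N19639 (iv D21855)) (tt N20202 F41601))
theorem Q21819 : ∀ i, i < 21819 → P i := stepQ 21818 Q21818 (allL N21818 (tt N20831 F41602) (tt N19645 F41603) (tt N20202 F41604) (tt N22626 (iv F43476)) (tt N19640 (iv D21856)) (tt N19641 F41605))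
theorem Q21820 : ∀ i, i < 21820 → P i := stepQ 21819 Q21819 (allL N21819 (tt N23377 (iv F45412)) (tt N19646 F41606) (tt N20738 F41608) (tt N19641 (iv D21857)) (tt N19642 F41607) (tt N22626 (iv F43475)))
theorem Q21821 : ∀ i, i < 21821 → P i := stepQ 21820 Q21820 (allL N21820 (tt N21719 F41609) (tt N19649 F41610) (tt N21722 F41611) (tt N21719 F41612) (tt N19648 (iv D21858)) (tt N23378 D23416))
theorem Q21822 : ∀ i, i < 21822 → P i := stepQ 21821 Q21821 (allL N21821 (tt N19652 F41613) (tt N23378 (iv F45417)) (tt N19650 F41614) (tt N21653 F41615) (tt N23318 (iv F45251)) (tt N19649 (iv D21859)))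
theorem Q21823 : ∀ i, i < 21823 → P i := stepQ 21822 Q21822 (allL N21822 (tt N19654 (iv D21860)) (tt N23341 (iv F45322)) (tt N21930 (iv F41881)) (tt N20055 F41616) (tt N20056 F41617) (tt N21929 F41879))
theorem Q21824 : ∀ i, i < 21824 → P i := stepQ 21823 Q21823 (allL N21823 (tt N20253 F41618) (tt N20277 F41619) (tt N19656 (iv D21861)) (tt N21016 F41621) (tt N20254 F41620) (tt N21015 (iv F41622)))
theorem Q21825 : ∀ i, i < 21825 → P i := stepQ 21824 Q21824 (allL N21824 (tt N20971 F41623) (tt N22374 (iv F42882)) (tt N21015 F41624) (tt N19657 F41625) (tt N22370 (iv F42877)) (tt N19656 (iv D21862)))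
theorem Q21826 : ∀ i, i < 21826 → P i := stepQ 21825 Q21825 (allL N21825 (tt N19664 F41626) (tt N20789 F41627) (tt N20967 F41628) (tt N23379 D23417) (tt N19659 (iv D21863)) (tt N22808 (iv F43906)))
theorem Q21827 : ∀ i, i < 21827 → P i := stepQ 21826 Q21826 (allL N21826 (tt N19665 F41629) (tt N20140 F41630) (tt N23380 D23418) (tt N19660 (iv D21864)) (tt N23379 (iv F45423)) (tt N19670 F41631))
theorem Q21828 : ∀ i, i < 21828 → P i := stepQ 21827 Q21827 (allL N21827 (tt N21794 F41632) (tt N20822 F41633) (tt N21069 F41635) (tt N19661 (iv D21865)) (tt N21791 F41634) (tt N23381 D23419))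
theorem Q21829 : ∀ i, i < 21829 → P i := stepQ 21828 Q21828 (allL N21828 (tt N21797 F41636) (tt N20823 F41637) (tt N19663 F41638) (tt N23381 (iv F45430)) (tt N23382 D23420) (tt N19661 (iv D21866)))
theorem Q21830 : ∀ i, i < 21830 → P i := stepQ 21829 Q21829 (allL N21829 (tt N20967 F41639) (tt N20523 F41640) (tt N19664 F41641) (tt N23383 D23421) (tt N19662 (iv D21867)) (tt N23382 (iv F45434)))
theorem Q21831 : ∀ i, i < 21831 → P i := stepQ 21830 Q21830 (allL N21830 (tt N22808 (iv F43902)) (tt N19666 F41642) (tt N23382 (iv F45433)) (tt N20128 F41643) (tt N19663 (iv D21868)) (tt N19664 F41644))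
theorem Q21832 : ∀ i, i < 21832 → P i := stepQ 21831 Q21831 (allL N21831 (tt N23379 (iv F45421)) (tt N19667 F41645) (tt N23384 D23422) (tt N19664 (iv D21869)) (tt N19665 F41646) (tt N20128 F41647))
theorem Q21833 : ∀ i, i < 21833 → P i := stepQ 21832 Q21832 (allL N21832 (tt N23380 (iv F45425)) (tt N23385 D23423) (tt N19665 (iv D21870)) (tt N23386 D23424) (tt N23384 (iv F45439)) (tt N19674 F41648))
theorem Q21834 : ∀ i, i < 21834 → P i := stepQ 21833 Q21833 (allL N21833 (tt N23387 D23425) (tt N19668 (iv D21871)) (tt N23385 (iv F45441)) (tt N20995 F41649) (tt N20135 F41650) (tt N19675 F41651))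
theorem Q21835 : ∀ i, i < 21835 → P i := stepQ 21834 Q21834 (allL N21834 (tt N19672 F41652) (tt N20219 F41653) (tt N23269 (iv F45149)) (tt N21202 F41654) (tt N19669 (iv D21872)) (tt N23388 D23426))
theorem Q21836 : ∀ i, i < 21836 → P i := stepQ 21835 Q21835 (allL N21835 (tt N19674 F41655) (tt N23389 D23427) (tt N19670 (iv D21873)) (tt N23390 D23428) (tt N20123 F41656) (tt N23380 (iv F45426)))
theorem Q21837 : ∀ i, i < 21837 → P i := stepQ 21836 Q21836 (allL N21836 (tt N23269 (iv F45147)) (tt N20210 F41657) (tt N19672 F41658) (tt N23391 D23429) (tt N19671 (iv D21874)) (tt N23392 D23430))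
theorem Q21838 : ∀ i, i < 21838 → P i := stepQ 21837 Q21837 (allL N21837 (tt N21202 F41659) (tt N20122 F41660) (tt N23393 D23431) (tt N19672 (iv D21875)) (tt N19673 F41661) (tt N22959 (iv F44298)))
theorem Q21839 : ∀ i, i < 21839 → P i := stepQ 21838 Q21838 (allL N21838 (tt N23388 (iv F45449)) (tt N20121 F41662) (tt N23392 (iv F45458)) (tt N22959 (iv F44297)) (tt N20117 F41663) (tt N19672 (iv D21876)))
theorem Q21840 : ∀ i, i < 21840 → P i := stepQ 21839 Q21839 (allL N21839 (tt N21067 F41664) (tt N23219 (iv F45012)) (tt N19673 (iv D21877)) (tt N23394 D23432) (tt N23393 (iv F45461)) (tt N21068 F41665))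
theorem Q21841 : ∀ i, i < 21841 → P i := stepQ 21840 Q21840 (allL N21840 (tt N23395 D23433) (tt N19674 (iv D21878)) (tt N19675 F41666) (tt N23396 D23434) (tt N20125 F41667) (tt N23385 (iv F45443)))
theorem Q21842 : ∀ i, i < 21842 → P i := stepQ 21841 Q21841 (allL N21841 (tt N23390 (iv F45455)) (tt N23396 (iv F45468)) (tt N23397 D23435) (tt N19674 (iv D21879)) (tt N23398 D23436) (tt N23386 (iv F45444)))
theorem Q21843 : ∀ i, i < 21843 → P i := stepQ 21842 Q21842 (allL N21842 (tt N19675 (iv D21880)) (tt N20151 F41668) (tt N23395 (iv F45466)) (tt N23399 D23437) (tt N20129 F41669) (tt N23387 (iv F45448)))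
theorem Q21844 : ∀ i, i < 21844 → P i := stepQ 21843 Q21843 (allL N21843 (tt N23399 (iv F45470)) (tt N19676 F41670) (tt N23400 D23438) (tt N19675 (iv D21881)) (tt N20136 F41671) (tt N20995 F41672))
theorem Q21845 : ∀ i, i < 21845 → P i := stepQ 21844 Q21844 (allL N21844 (tt N19682 F41673) (tt N21636 F41674) (tt N23401 D23439) (tt N19677 (iv D21882)) (tt N20217 F41675) (tt N21020 F41676))
theorem Q21846 : ∀ i, i < 21846 → P i := stepQ 21845 Q21845 (allL N21845 (tt N22158 (iv F42404)) (tt N19680 F41677) (tt N23266 (iv F45141)) (tt N23402 D23440) (tt N19678 (iv D21883)) (tt N23403 D23441))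
theorem Q21847 : ∀ i, i < 21847 → P i := stepQ 21846 Q21846 (allL N21846 (tt N22159 (iv F42406)) (tt N19682 F41678) (tt N23404 D23442) (tt N19679 (iv D21884)) (tt N23402 (iv F45484)) (tt N23405 D23443))
theorem Q21848 : ∀ i, i < 21848 → P i := stepQ 21847 Q21847 (allL N21847 (tt N22160 (iv F42407)) (tt N19683 F41679) (tt N19685 F41680) (tt N23405 (iv F45488)) (tt N19696 F41681) (tt N19679 (iv D21885)))
theorem Q21849 : ∀ i, i < 21849 → P i := stepQ 21848 Q21848 (allL N21848 (tt N20217 F41682) (tt N23402 (iv F45483)) (tt N23406 D23444) (tt N19680 (iv D21886)) (tt N19682 F41683) (tt N23407 D23445))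
theorem Q21850 : ∀ i, i < 21850 → P i := stepQ 21849 Q21849 (allL N21849 (tt N20218 F41684) (tt N23403 (iv F45485)) (tt N20214 F41685) (tt N23407 (iv F45495)) (tt N23408 D23446) (tt N19680 (iv D21887)))
theorem Q21851 : ∀ i, i < 21851 → P i := stepQ 21850 Q21850 (allL N21850 (tt N19689 F41686) (tt N19694 F41687) (tt N19688 F41688) (tt N22349 (iv F42843)) (tt N19681 (iv D21888)) (tt N23408 (iv F45499)))
theorem Q21852 : ∀ i, i < 21852 → P i := stepQ 21851 Q21851 (allL N21851 (tt N23401 (iv F45477)) (tt N23409 D23447) (tt N19682 (iv D21889)) (tt N22020 (iv F42090)) (tt N23406 (iv F45490)) (tt N22019 F42088))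
theorem Q21853 : ∀ i, i < 21853 → P i := stepQ 21852 Q21852 (allL N21852 (tt N21020 F41689) (tt N23405 (iv F45487)) (tt N22019 (iv F42087)) (tt N19683 F41690) (tt N23410 D23448) (tt N19682 (iv D21890)))
theorem Q21854 : ∀ i, i < 21854 → P i := stepQ 21853 Q21853 (allL N21853 (tt N22061 (iv F42173)) (tt N22153 (iv F42389)) (tt N19684 (iv D21891)) (tt N23411 D23449) (tt N19697 F41691) (tt N23412 D23450))
theorem Q21855 : ∀ i, i < 21855 → P i := stepQ 21854 Q21854 (allL N21854 (tt N22062 (iv F42175)) (tt N19686 F41692) (tt N23412 (iv F45502)) (tt N19685 F41693) (tt N22156 (iv F42399)) (tt N19684 (iv D21892)))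
theorem Q21856 : ∀ i, i < 21856 → P i := stepQ 21855 Q21855 (allL N21855 (tt N20115 F41694) (tt N19693 F41695) (tt N19687 (iv D21893)) (tt N20239 F41696) (tt N23413 D23451) (tt N20207 F41697))
theorem Q21857 : ∀ i, i < 21857 → P i := stepQ 21856 Q21856 (allL N21856 (tt N20118 F41698) (tt N19688 F41699) (tt N23413 (iv F45505)) (tt N22028 (iv F42099)) (tt N19687 (iv D21894)) (tt N23414 D23452))
theorem Q21858 : ∀ i, i < 21858 → P i := stepQ 21857 Q21857 (allL N21857 (tt N19690 F41700) (tt N23414 (iv F45507)) (tt N23408 (iv F45498)) (tt N22029 (iv F42101)) (tt N20214 F41701) (tt N19688 (iv D21895)))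
theorem Q21859 : ∀ i, i < 21859 → P i := stepQ 21858 Q21858 (allL N21858 (tt N23408 (iv F45496)) (tt N22161 (iv F42411)) (tt N19690 F41702) (tt N22351 (iv F42846)) (tt N20218 F41703) (tt N19689 (iv D21896)))
theorem Q21860 : ∀ i, i < 21860 → P i := stepQ 21859 Q21859 (allL N21859 (tt N19694 F41704) (tt N21196 F41705) (tt N23265 (iv F45138)) (tt N21195 F41706) (tt N19691 (iv D21897)) (tt N23415 D23453))
theorem Q21861 : ∀ i, i < 21861 → P i := stepQ 21860 Q21860 (allL N21860 (tt N23265 (iv F45136)) (tt N23413 (iv F45504)) (tt N19694 F41707) (tt N23416 D23454) (tt N19693 (iv D21898)) (tt N23417 D23455))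
theorem Q21862 : ∀ i, i < 21862 → P i := stepQ 21861 Q21861 (allL N21861 (tt N21195 F41708) (tt N22349 (iv F42842)) (tt N21435 (iv F41710)) (tt N19694 (iv D21899)) (tt N19695 F41709) (tt N23418 D23456))
theorem Q21863 : ∀ i, i < 21863 → P i := stepQ 21862 Q21862 (allL N21862 (tt N23415 (iv F45510)) (tt N23408 (iv F45497)) (tt N23417 (iv F45514)) (tt N23418 (iv F45517)) (tt N23403 (iv F45486)) (tt N19694 (iv D21900)))
theorem Q21864 : ∀ i, i < 21864 → P i := stepQ 21863 Q21863 (allL N21863 (tt N19699 (iv D21901)) (tt N21083 F41711) (tt N19700 F41712) (tt N22643 (iv F43512)) (tt N20575 F41713) (tt N19708 F41714))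
theorem Q21865 : ∀ i, i < 21865 → P i := stepQ 21864 Q21864 (allL N21864 (tt N23362 (iv F45375)) (tt N19701 (iv D21902)) (tt N20012 F41715) (tt N19782 F41716) (tt N22501 (iv F43156)) (tt N20011 F41717))
theorem Q21866 : ∀ i, i < 21866 → P i := stepQ 21865 Q21865 (allL N21865 (tt N19702 (iv D21903)) (tt N19708 F41718) (tt N21062 F41719) (tt N21712 F41720) (tt N21713 F41721) (tt N21083 F41722))
theorem Q21867 : ∀ i, i < 21867 → P i := stepQ 21866 Q21866 (allL N21866 (tt N23358 (iv F45363)) (tt N19704 (iv D21904)) (tt N22756 (iv F43756)) (tt N23419 D23457) (tt N19705 F41723) (tt N22497 (iv F43140)))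
theorem Q21868 : ∀ i, i < 21868 → P i := stepQ 21867 Q21867 (allL N21867 (tt N22502 (iv F43157)) (tt N23419 (iv F45518)) (tt N23420 D23458) (tt N19704 (iv D21905)) (tt N23421 D23459) (tt N22498 (iv F43143)))
theorem Q21869 : ∀ i, i < 21869 → P i := stepQ 21868 Q21868 (allL N21868 (tt N19705 (iv D21906)) (tt N23362 (iv F45376)) (tt N20184 F41724) (tt N23422 D23460) (tt N23358 (iv F45366)) (tt N20183 (iv F41725)))
theorem Q21870 : ∀ i, i < 21870 → P i := stepQ 21869 Q21869 (allL N21869 (tt N23422 (iv F45524)) (tt N19706 F41726) (tt N21127 (iv F41727)) (tt N19705 (iv D21907)) (tt N23157 (iv F44875)) (tt N20387 (iv F41728)))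
theorem Q21871 : ∀ i, i < 21871 → P i := stepQ 21870 Q21870 (allL N21870 (tt N20183 F41729) (tt N19707 F41730) (tt N20181 F41731) (tt N20387 F41732) (tt N20180 (iv F41733)) (tt N19705 (iv D21908)))
theorem Q21872 : ∀ i, i < 21872 → P i := stepQ 21871 Q21871 (allL N21871 (tt N20390 F41734) (tt N23157 (iv F44873)) (tt N20388 F41735) (tt N23421 (iv F45522)) (tt N19706 (iv D21909)) (tt N21124 F41736))
theorem Q21873 : ∀ i, i < 21873 → P i := stepQ 21872 Q21872 (allL N21872 (tt N19710 F41737) (tt N23423 D23461) (tt N19709 (iv D21910)) (tt N23202 (iv F44976)) (tt N22757 (iv F43762)) (tt N22005 (iv F42050)))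
theorem Q21874 : ∀ i, i < 21874 → P i := stepQ 21873 Q21873 (allL N21873 (tt N23202 (iv F44974)) (tt N20556 F41738) (tt N20398 F41740) (tt N19710 (iv D21911)) (tt N19949 (iv F41741)) (tt N19950 F41739))
theorem Q21875 : ∀ i, i < 21875 → P i := stepQ 21874 Q21874 (allL N21874 (tt N22892 (iv F44078)) (tt N23424 D23462) (tt N19715 (iv D21912)) (tt N23425 D23463) (tt N20970 F41742) (tt N19722 F41743))
theorem Q21876 : ∀ i, i < 21876 → P i := stepQ 21875 Q21875 (allL N21875 (tt N23426 D23464) (tt N19716 (iv D21913)) (tt N23424 (iv F45530)) (tt N23315 (iv F45237)) (tt N20781 F41744) (tt N19723 F41745))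
theorem Q21877 : ∀ i, i < 21877 → P i := stepQ 21876 Q21876 (allL N21876 (tt N19722 F41746) (tt N22109 (iv F42296)) (tt N19720 (iv D21914)) (tt N23427 D23465) (tt N20770 F41747) (tt N22892 (iv F44080)))
theorem Q21878 : ∀ i, i < 21878 → P i := stepQ 21877 Q21877 (allL N21877 (tt N23428 D23466) (tt N19722 (iv D21915)) (tt N19723 F41748) (tt N23429 D23467) (tt N20771 F41749) (tt N23424 (iv F45532)))
theorem Q21879 : ∀ i, i < 21879 → P i := stepQ 21878 Q21878 (allL N21878 (tt N23427 (iv F45537)) (tt N23429 (iv F45541)) (tt N23430 D23468) (tt N19722 (iv D21916)) (tt N23431 D23469) (tt N23425 (iv F45533)))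
theorem Q21880 : ∀ i, i < 21880 → P i := stepQ 21879 Q21879 (allL N21879 (tt N19723 (iv D21917)) (tt N20786 F41750) (tt N23428 (iv F45539)) (tt N23432 D23470) (tt N20775 F41751) (tt N23426 (iv F45536)))
theorem Q21881 : ∀ i, i < 21881 → P i := stepQ 21880 Q21880 (allL N21880 (tt N23432 (iv F45543)) (tt N19724 F41752) (tt N23433 D23471) (tt N19723 (iv D21918)) (tt N20782 F41753) (tt N23315 (iv F45239)))
theorem Q21882 : ∀ i, i < 21882 → P i := stepQ 21881 Q21881 (allL N21881 (tt N19726 F41754) (tt N19763 F41755) (tt N23434 D23472) (tt N19725 (iv D21919)) (tt N19768 F41756) (tt N22518 (iv F43213)))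
theorem Q21883 : ∀ i, i < 21883 → P i := stepQ 21882 Q21882 (allL N21882 (tt N23434 (iv F45548)) (tt N22602 (iv F43422)) (tt N19726 (iv D21920)) (tt N23435 D23473) (tt N19770 F41757) (tt N22519 (iv F43216)))
theorem Q21884 : ∀ i, i < 21884 → P i := stepQ 21883 Q21883 (allL N21883 (tt N20648 F41758) (tt N19729 F41759) (tt N20646 F41760) (tt N22701 (iv F43619)) (tt N19728 (iv D21921)) (tt N20646 F41761))
theorem Q21885 : ∀ i, i < 21885 → P i := stepQ 21884 Q21884 (allL N21884 (tt N20767 F41762) (tt N20646 F41763) (tt N21740 F41764) (tt N22703 (iv F43627)) (tt N20644 F41765) (tt N19729 (iv D21922)))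
theorem Q21886 : ∀ i, i < 21886 → P i := stepQ 21885 Q21885 (allL N21885 (tt N19731 F41766) (tt N19738 F41767) (tt N23436 D23474) (tt N19730 (iv D21923)) (tt N19780 F41768) (tt N20536 F41769))
theorem Q21887 : ∀ i, i < 21887 → P i := stepQ 21886 Q21886 (allL N21886 (tt N23436 (iv F45550)) (tt N20390 F41770) (tt N19731 (iv D21924)) (tt N23437 D23475) (tt N19782 F41771) (tt N20537 F41772))
theorem Q21888 : ∀ i, i < 21888 → P i := stepQ 21887 Q21887 (allL N21887 (tt N19734 F41773) (tt N20540 F41774) (tt N23229 (iv F45044)) (tt N19737 F41775) (tt N20355 F41776) (tt N19732 (iv D21925)))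
theorem Q21889 : ∀ i, i < 21889 → P i := stepQ 21888 Q21888 (allL N21888 (tt N19735 F41777) (tt N20536 F41778) (tt N21141 F41781) (tt N19733 (iv D21926)) (tt N20354 F41779) (tt N19738 F41780))
theorem Q21890 : ∀ i, i < 21890 → P i := stepQ 21889 Q21889 (allL N21889 (tt N19740 F41782) (tt N20185 F41783) (tt N22759 (iv F43769)) (tt N19736 (iv D21927)) (tt N19787 F41784) (tt N22879 (iv F44055)))
theorem Q21891 : ∀ i, i < 21891 → P i := stepQ 21890 Q21890 (allL N21890 (tt N19741 F41785) (tt N20186 F41786) (tt N19737 F41787) (tt N22879 (iv F44054)) (tt N20200 F41788) (tt N19736 (iv D21928)))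
theorem Q21892 : ∀ i, i < 21892 → P i := stepQ 21891 Q21891 (allL N21891 (tt N19742 F41789) (tt N23154 (iv F44867)) (tt N19738 (iv D21929)) (tt N23111 (iv F44760)) (tt N20866 F41790) (tt N21141 F41791))
theorem Q21893 : ∀ i, i < 21893 → P i := stepQ 21892 Q21892 (allL N21892 (tt N19787 F41792) (tt N23354 (iv F45356)) (tt N23438 D23476) (tt N19739 (iv D21930)) (tt N19740 F41793) (tt N23303 (iv F45219)))
theorem Q21894 : ∀ i, i < 21894 → P i := stepQ 21893 Q21893 (allL N21893 (tt N22759 F43771) (tt N23439 D23477) (tt N19740 (iv D21931)) (tt N23440 D23478) (tt N23438 (iv F45561)) (tt N23441 D23479))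
theorem Q21895 : ∀ i, i < 21895 → P i := stepQ 21894 Q21894 (allL N21894 (tt N22879 (iv F44052)) (tt N20865 F41794) (tt N23441 (iv F45565)) (tt N19741 F41795) (tt N22878 F44051) (tt N19740 (iv D21932)))
theorem Q21896 : ∀ i, i < 21896 → P i := stepQ 21895 Q21895 (allL N21895 (tt N19747 F41796) (tt N20816 F41797) (tt N19744 F41798) (tt N20959 F41799) (tt N22724 (iv F43669)) (tt N19743 (iv D21933)))
theorem Q21897 : ∀ i, i < 21897 → P i := stepQ 21896 Q21896 (allL N21896 (tt N19748 F41800) (tt N23442 D23480) (tt N19745 (iv D21934)) (tt N23112 (iv F44763)) (tt N22732 (iv F43686)) (tt N19757 F41801))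
theorem Q21898 : ∀ i, i < 21898 → P i := stepQ 21897 Q21897 (allL N21897 (tt N23443 D23481) (tt N19748 (iv D21935)) (tt N19749 F41802) (tt N23444 D23482) (tt N19808 F41803) (tt N19759 F41804))
theorem Q21899 : ∀ i, i < 21899 → P i := stepQ 21898 Q21898 (allL N21898 (tt N23112 (iv F44761)) (tt N23444 (iv F45571)) (tt N23111 (iv F44759)) (tt N19748 (iv D21936)) (tt N23445 D23483) (tt N19760 F41805))
theorem Q21900 : ∀ i, i < 21900 → P i := stepQ 21899 Q21899 (allL N21899 (tt N19749 (iv D21937)) (tt N19835 F41806) (tt N23443 (iv F45568)) (tt N22599 (iv F43414)) (tt N19806 F41807) (tt N19761 F41808))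
theorem Q21901 : ∀ i, i < 21901 → P i := stepQ 21900 Q21900 (allL N21900 (tt N19751 F41809) (tt N22518 (iv F43211)) (tt N23446 D23484) (tt N19750 (iv D21938)) (tt N22530 (iv F43247)) (tt N19763 F41810))
theorem Q21902 : ∀ i, i < 21902 → P i := stepQ 21901 Q21901 (allL N21901 (tt N23446 (iv F45573)) (tt N19836 F41811) (tt N19751 (iv D21939)) (tt N23447 D23485) (tt N22532 (iv F43255)) (tt N19764 F41812))
theorem Q21903 : ∀ i, i < 21903 → P i := stepQ 21902 Q21902 (allL N21902 (tt N20625 F41813) (tt N19752 (iv D21940)) (tt N22517 (iv F43206)) (tt N20488 F41814) (tt N23448 D23486) (tt N20507 F41815))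
theorem Q21904 : ∀ i, i < 21904 → P i := stepQ 21903 Q21903 (allL N21903 (tt N19755 F41816) (tt N23448 (iv F45581)) (tt N19753 F41817) (tt N20326 (iv F41818)) (tt N19752 (iv D21941)) (tt N20365 F41819))
theorem Q21905 : ∀ i, i < 21905 → P i := stepQ 21904 Q21904 (allL N21904 (tt N19756 F41820) (tt N19783 F41821) (tt N20365 F41822) (tt N19766 F41823) (tt N22531 (iv F43253)) (tt N19753 (iv D21942)))
theorem Q21906 : ∀ i, i < 21906 → P i := stepQ 21905 Q21905 (allL N21905 (tt N20489 F41824) (tt N20323 F41825) (tt N20485 F41826) (tt N20322 F41827) (tt N19754 (iv D21943)) (tt N20500 (iv F41828)))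
theorem Q21907 : ∀ i, i < 21907 → P i := stepQ 21906 Q21906 (allL N21906 (tt N23449 D23487) (tt N19757 (iv D21944)) (tt N19812 F41829) (tt N23094 (iv F44715)) (tt N19789 F41830) (tt N23442 (iv F45567)))
theorem Q21908 : ∀ i, i < 21908 → P i := stepQ 21907 Q21907 (allL N21907 (tt N20956 F41831) (tt N20902 F41832) (tt N20959 F41833) (tt N19758 (iv D21945)) (tt N22471 (iv F43089)) (tt N20954 F41834))
theorem Q21909 : ∀ i, i < 21909 → P i := stepQ 21908 Q21908 (allL N21908 (tt N19759 (iv D21946)) (tt N23449 (iv F45585)) (tt N19761 F41835) (tt N22794 (iv F43865)) (tt N19793 F41836) (tt N23443 (iv F45570)))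
theorem Q21910 : ∀ i, i < 21910 → P i := stepQ 21909 Q21909 (allL N21909 (tt N22794 (iv F43862)) (tt N19760 F41837) (tt N22793 (iv F43861)) (tt N19759 (iv D21947)) (tt N22516 F43204) (tt N23444 (iv F45572)))
theorem Q21911 : ∀ i, i < 21911 → P i := stepQ 21910 Q21910 (allL N21910 (tt N22737 (iv F43692)) (tt N22519 (iv F43214)) (tt N19762 (iv D21948)) (tt N23450 D23488) (tt N19809 F41838) (tt N22602 (iv F43424)))
theorem Q21912 : ∀ i, i < 21912 → P i := stepQ 21911 Q21911 (allL N21911 (tt N19764 F41839) (tt N23451 D23489) (tt N19763 (iv D21949)) (tt N23452 D23490) (tt N22704 (iv F43630)) (tt N23446 (iv F45574)))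
theorem Q21913 : ∀ i, i < 21913 → P i := stepQ 21912 Q21912 (allL N21912 (tt N23453 D23491) (tt N19764 (iv D21950)) (tt N19765 F41840) (tt N23454 D23492) (tt N22578 (iv F43372)) (tt N19836 F41841))
theorem Q21914 : ∀ i, i < 21914 → P i := stepQ 21913 Q21913 (allL N21913 (tt N23452 (iv F45589)) (tt N23454 (iv F45594)) (tt N23455 D23493) (tt N19764 (iv D21951)) (tt N23456 D23494) (tt N23447 (iv F45578)))
theorem Q21915 : ∀ i, i < 21915 → P i := stepQ 21914 Q21914 (allL N21914 (tt N19765 (iv D21952)) (tt N22599 (iv F43412)) (tt N23453 (iv F45592)) (tt N19835 F41842) (tt N22567 (iv F43354)) (tt N19834 F41843))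
theorem Q21916 : ∀ i, i < 21916 → P i := stepQ 21915 Q21915 (allL N21915 (tt N19770 F41844) (tt N23457 D23495) (tt N19768 (iv D21953)) (tt N23438 (iv F45560)) (tt N23434 (iv F45549)) (tt N22600 (iv F43417)))
theorem Q21917 : ∀ i, i < 21917 → P i := stepQ 21916 Q21916 (allL N21916 (tt N23438 (iv F45559)) (tt N19878 F41845) (tt N19787 F41846) (tt N19770 (iv D21954)) (tt N22759 (iv F43770)) (tt N22601 (iv F43419)))
theorem Q21918 : ∀ i, i < 21918 → P i := stepQ 21917 Q21917 (allL N21917 (tt N22475 (iv F43095)) (tt N23458 D23496) (tt N19771 (iv D21955)) (tt N20807 F41848) (tt N19857 F41847) (tt N23459 D23497))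
theorem Q21919 : ∀ i, i < 21919 → P i := stepQ 21918 Q21918 (allL N21918 (tt N20800 F41849) (tt N19774 F41850) (tt N23459 (iv F45605)) (tt N19772 F41851) (tt N23460 D23498) (tt N19771 (iv D21956)))
theorem Q21920 : ∀ i, i < 21920 → P i := stepQ 21919 Q21919 (allL N21919 (tt N23349 (iv F45344)) (tt N19773 (iv D21957)) (tt N23458 (iv F45601)) (tt N21711 F41852) (tt N19859 F41853) (tt N22443 (iv F43021)))
theorem Q21921 : ∀ i, i < 21921 → P i := stepQ 21920 Q21920 (allL N21920 (tt N19779 F41854) (tt N23460 (iv F45608)) (tt N20982 F41855) (tt N19850 F41856) (tt N19774 (iv D21958)) (tt N19861 F41857))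
theorem Q21922 : ∀ i, i < 21922 → P i := stepQ 21921 Q21921 (allL N21921 (tt N23280 (iv F45169)) (tt N19775 (iv D21959)) (tt N22690 (iv F43602)) (tt N22210 (iv F42499)) (tt N19777 F41858) (tt N23305 (iv F45224)))
theorem Q21923 : ∀ i, i < 21923 → P i := stepQ 21922 Q21922 (allL N21922 (tt N19861 F41859) (tt N22693 (iv F43605)) (tt N21518 F41860) (tt N19854 F41861) (tt N19776 (iv D21960)) (tt N19779 F41862))
theorem Q21924 : ∀ i, i < 21924 → P i := stepQ 21923 Q21923 (allL N21923 (tt N19777 (iv D21961)) (tt N23349 (iv F45345)) (tt N22694 (iv F43608)) (tt N20204 F41863) (tt N23280 (iv F45171)) (tt N23461 D23499))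
theorem Q21925 : ∀ i, i < 21925 → P i := stepQ 21924 Q21924 (allL N21924 (tt N23461 (iv F45611)) (tt N19778 F41864) (tt N22696 (iv F43611)) (tt N20975 F41865) (tt N23462 D23500) (tt N19777 (iv D21962)))
theorem Q21926 : ∀ i, i < 21926 → P i := stepQ 21925 Q21925 (allL N21925 (tt N20982 F41866) (tt N23462 (iv F45613)) (tt N19779 F41867) (tt N20978 F41868) (tt N19778 (iv D21963)) (tt N21518 F41869))
theorem Q21927 : ∀ i, i < 21927 → P i := stepQ 21926 Q21926 (allL N21926 (tt N19782 F41870) (tt N23422 (iv F45525)) (tt N19780 (iv D21964)) (tt N23362 F45379) (tt N23436 (iv F45551)) (tt N20389 F41871))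
theorem Q21928 : ∀ i, i < 21928 → P i := stepQ 21927 Q21927 (allL N21927 (tt N19795 F41872) (tt N23463 D23501) (tt N19783 (iv D21965)) (tt N19791 F41873) (tt N22707 (iv F43634)) (tt N19790 F41874))
theorem Q21929 : ∀ i, i < 21929 → P i := stepQ 21928 Q21928 (allL N21928 (tt N22702 (iv F43621)) (tt N19785 F41875) (tt N23464 D23502) (tt N19784 (iv D21966)) (tt N20362 F41876) (tt N22699 (iv F43616)))
theorem Q21930 : ∀ i, i < 21930 → P i := stepQ 21929 Q21929 (allL N21929 (tt N20374 F41877) (tt N23465 D23503) (tt N19785 (iv D21967)) (tt N22130 (iv F42342)) (tt N20363 F41878) (tt N21822 (iv F41879)))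
theorem Q21931 : ∀ i, i < 21931 → P i := stepQ 21930 Q21930 (allL N21930 (tt N20375 F41880) (tt N22699 (iv F43614)) (tt N21822 F41881) (tt N19786 F41882) (tt N20794 F41883) (tt N19785 (iv D21968)))
theorem Q21932 : ∀ i, i < 21932 → P i := stepQ 21931 Q21931 (allL N21931 (tt N23303 (iv F45218)) (tt N20206 F41884) (tt N22601 (iv F43420)) (tt N19788 F41885) (tt N22376 (iv F42890)) (tt N19787 (iv D21969)))
theorem Q21933 : ∀ i, i < 21933 → P i := stepQ 21932 Q21932 (allL N21932 (tt N19789 (iv D21970)) (tt N19793 F41886) (tt N19810 F41887) (tt N23466 D23504) (tt N23449 (iv F45588)) (tt N19803 (iv F41888)))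
theorem Q21934 : ∀ i, i < 21934 → P i := stepQ 21933 Q21933 (allL N21933 (tt N23466 (iv F45625)) (tt N19790 F41889) (tt N23448 (iv F45582)) (tt N19789 (iv D21971)) (tt N22517 (iv F43208)) (tt N23463 (iv F45619)))
theorem Q21935 : ∀ i, i < 21935 → P i := stepQ 21934 Q21934 (allL N21934 (tt N19803 F41890) (tt N19791 F41891) (tt N19813 F41892) (tt N23463 (iv F45618)) (tt N23467 D23505) (tt N19789 (iv D21972)))
theorem Q21936 : ∀ i, i < 21936 → P i := stepQ 21935 Q21935 (allL N21935 (tt N19796 F41893) (tt N23467 (iv F45631)) (tt N19792 F41894) (tt N23468 D23506) (tt N19791 (iv D21973)) (tt N22732 (iv F43687)))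
theorem Q21937 : ∀ i, i < 21937 → P i := stepQ 21936 Q21936 (allL N21936 (tt N19794 F41895) (tt N23466 (iv F45626)) (tt N19798 F41896) (tt N19793 (iv D21974)) (tt N22512 (iv F43187)) (tt N19804 F41897))
theorem Q21938 : ∀ i, i < 21938 → P i := stepQ 21937 Q21937 (allL N21937 (tt N23468 (iv F45633)) (tt N19807 F41898) (tt N23469 D23507) (tt N19796 (iv D21975)) (tt N22708 (iv F43637)) (tt N22733 (iv F43689)))
theorem Q21939 : ∀ i, i < 21939 → P i := stepQ 21938 Q21938 (allL N21938 (tt N19833 F41899) (tt N20814 F41900) (tt N19801 (iv D21976)) (tt N20315 F41901) (tt N19802 F41902) (tt N19848 F41903))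
theorem Q21940 : ∀ i, i < 21940 → P i := stepQ 21939 Q21939 (allL N21939 (tt N20817 F41904) (tt N19802 (iv D21977)) (tt N20960 F41905) (tt N21363 F41906) (tt N20814 F41907) (tt N21362 F41908))
theorem Q21941 : ∀ i, i < 21941 → P i := stepQ 21940 Q21940 (allL N21940 (tt N23463 (iv F45616)) (tt N19804 F41909) (tt N23470 D23508) (tt N19803 (iv D21978)) (tt N22706 (iv F43631)) (tt N23466 (iv F45629)))
theorem Q21942 : ∀ i, i < 21942 → P i := stepQ 21941 Q21941 (allL N21941 (tt N23467 (iv F45630)) (tt N19805 F41910) (tt N22555 (iv F43326)) (tt N23471 D23509) (tt N19803 (iv D21979)) (tt N23472 D23510))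
theorem Q21943 : ∀ i, i < 21943 → P i := stepQ 21942 Q21942 (allL N21942 (tt N19807 F41911) (tt N23471 (iv F45638)) (tt N22549 (iv F43305)) (tt N19805 (iv D21980)) (tt N22550 (iv F43308)) (tt N22610 (iv F43443)))
theorem Q21944 : ∀ i, i < 21944 → P i := stepQ 21943 Q21943 (allL N21943 (tt N19808 F41912) (tt N23472 (iv F45639)) (tt N19806 F41913) (tt N22610 (iv F43442)) (tt N23443 (iv F45569)) (tt N19805 (iv D21981)))
theorem Q21945 : ∀ i, i < 21945 → P i := stepQ 21944 Q21944 (allL N21944 (tt N22549 (iv F43301)) (tt N23473 D23511) (tt N19807 (iv D21982)) (tt N22548 F43300) (tt N22543 F43287) (tt N22609 (iv F43440)))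
theorem Q21946 : ∀ i, i < 21946 → P i := stepQ 21945 Q21945 (allL N21945 (tt N22610 (iv F43441)) (tt N22733 (iv F43688)) (tt N22609 (iv F43438)) (tt N19808 F41914) (tt N22717 (iv F43651)) (tt N19807 (iv D21983)))
theorem Q21947 : ∀ i, i < 21947 → P i := stepQ 21946 Q21946 (allL N21946 (tt N19812 F41915) (tt N19820 F41916) (tt N23449 (iv F45586)) (tt N23474 D23512) (tt N19810 (iv D21984)) (tt N23475 D23513))
theorem Q21948 : ∀ i, i < 21948 → P i := stepQ 21947 Q21947 (allL N21947 (tt N22587 (iv F43391)) (tt N19814 F41917) (tt N20359 F41918) (tt N23476 D23514) (tt N19811 (iv D21985)) (tt N23122 (iv F44793)))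
theorem Q21949 : ∀ i, i < 21949 → P i := stepQ 21948 Q21948 (allL N21948 (tt N23474 (iv F45640)) (tt N19815 F41919) (tt N23477 D23515) (tt N19812 (iv D21986)) (tt N23476 (iv F45645)) (tt N23478 D23516))
theorem Q21950 : ∀ i, i < 21950 → P i := stepQ 21949 Q21949 (allL N21949 (tt N23475 (iv F45642)) (tt N19816 F41920) (tt N23442 (iv F45566)) (tt N23478 (iv F45652)) (tt N23479 D23517) (tt N19812 (iv D21987)))
theorem Q21951 : ∀ i, i < 21951 → P i := stepQ 21950 Q21950 (allL N21950 (tt N22555 (iv F43324)) (tt N19817 F41921) (tt N23467 (iv F45632)) (tt N23480 D23518) (tt N19813 (iv D21988)) (tt N23479 (iv F45654)))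
theorem Q21952 : ∀ i, i < 21952 → P i := stepQ 21951 Q21951 (allL N21951 (tt N19825 F41922) (tt N23476 (iv F45644)) (tt N20624 F41924) (tt N19814 (iv D21989)) (tt N19815 F41923) (tt N20623 (iv F41925)))
theorem Q21953 : ∀ i, i < 21953 → P i := stepQ 21952 Q21952 (allL N21952 (tt N19826 F41926) (tt N23122 (iv F44792)) (tt N20357 F41927) (tt N20623 F41928) (tt N23235 (iv F45059)) (tt N19814 (iv D21990)))
theorem Q21954 : ∀ i, i < 21954 → P i := stepQ 21953 Q21953 (allL N21953 (tt N19829 F41929) (tt N23478 (iv F45650)) (tt N19847 F41930) (tt N19816 F41931) (tt N23481 D23519) (tt N19815 (iv D21991)))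
theorem Q21955 : ∀ i, i < 21955 → P i := stepQ 21954 Q21954 (allL N21954 (tt N19830 F41932) (tt N23479 (iv F45653)) (tt N19818 F41933) (tt N23482 D23520) (tt N19816 (iv D21992)) (tt N19817 F41934))
theorem Q21956 : ∀ i, i < 21956 → P i := stepQ 21955 Q21955 (allL N21955 (tt N19831 F41935) (tt N23480 (iv F45655)) (tt N23483 D23521) (tt N19817 (iv D21993)) (tt N23234 (iv F45055)) (tt N23482 (iv F45660)))
theorem Q21957 : ∀ i, i < 21957 → P i := stepQ 21956 Q21956 (allL N21956 (tt N19822 F41936) (tt N23474 (iv F45641)) (tt N23484 D23522) (tt N19820 (iv D21994)) (tt N22588 (iv F43395)) (tt N23485 D23523))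
theorem Q21958 : ∀ i, i < 21958 → P i := stepQ 21957 Q21957 (allL N21957 (tt N19823 F41937) (tt N23475 (iv F45643)) (tt N19835 F41938) (tt N23485 (iv F45666)) (tt N22558 (iv F43332)) (tt N19820 (iv D21995)))
theorem Q21959 : ∀ i, i < 21959 → P i := stepQ 21958 Q21958 (allL N21958 (tt N22588 (iv F43394)) (tt N19825 F41939) (tt N23486 D23524) (tt N19821 (iv D21996)) (tt N19822 F41940) (tt N23486 F45670))
theorem Q21960 : ∀ i, i < 21960 → P i := stepQ 21959 Q21959 (allL N21959 (tt N22589 (iv F43396)) (tt N19826 F41941) (tt N19852 F41942) (tt N23486 (iv F45669)) (tt N22561 (iv F43341)) (tt N19821 (iv D21997)))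
theorem Q21961 : ∀ i, i < 21961 → P i := stepQ 21960 Q21960 (allL N21960 (tt N23484 (iv F45664)) (tt N23487 D23525) (tt N19822 (iv D21998)) (tt N23488 D23526) (tt N23486 (iv F45668)) (tt N23489 D23527))
theorem Q21962 : ∀ i, i < 21962 → P i := stepQ 21961 Q21961 (allL N21961 (tt N23485 (iv F45665)) (tt N19829 F41943) (tt N23489 (iv F45676)) (tt N19823 F41944) (tt N23489 (iv F45677)) (tt N19822 (iv D21999)))
theorem Q21963 : ∀ i, i < 21963 → P i := stepQ 21962 Q21962 (allL N21962 (tt N20624 F41945) (tt N20619 (iv F41948)) (tt N19825 (iv D22000)) (tt N20617 F41946) (tt N19828 F41947) (tt N20619 (iv F41949)))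
theorem Q21964 : ∀ i, i < 21964 → P i := stepQ 21963 Q21963 (allL N21963 (tt N20623 F41950) (tt N23486 (iv F45667)) (tt N20619 F41951) (tt N19826 F41952) (tt N23487 (iv F45672)) (tt N19825 (iv D22001)))
theorem Q21965 : ∀ i, i < 21965 → P i := stepQ 21964 Q21964 (allL N21964 (tt N23235 (iv F45057)) (tt N22561 (iv F43339)) (tt N21045 F41953) (tt N23490 D23528) (tt N19826 (iv D22002)) (tt N19827 F41954))
theorem Q21966 : ∀ i, i < 21966 → P i := stepQ 21965 Q21965 (allL N21965 (tt N23234 (iv F45054)) (tt N22560 (iv F43337)) (tt N23491 D23529) (tt N19827 (iv D22003)) (tt N19831 F41955) (tt N23490 (iv F45678)))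
theorem Q21967 : ∀ i, i < 21967 → P i := stepQ 21966 Q21966 (allL N21966 (tt N20621 (iv F41958)) (tt N19828 (iv D22004)) (tt N23487 (iv F45671)) (tt N20618 F41956) (tt N20619 F41957) (tt N23492 D23530))
theorem Q21968 : ∀ i, i < 21968 → P i := stepQ 21967 Q21967 (allL N21967 (tt N19847 F41959) (tt N23492 (iv F45683)) (tt N19829 F41960) (tt N19841 F41961) (tt N23492 (iv F45686)) (tt N19828 (iv D22005)))
theorem Q21969 : ∀ i, i < 21969 → P i := stepQ 21968 Q21968 (allL N21968 (tt N23481 (iv F45656)) (tt N23489 (iv F45675)) (tt N23492 (iv F45684)) (tt N23493 D23531) (tt N19829 (iv D22006)) (tt N23487 F45674))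
theorem Q21970 : ∀ i, i < 21970 → P i := stepQ 21969 Q21969 (allL N21969 (tt N23482 (iv F45659)) (tt N22563 (iv F43342)) (tt N23494 D23532) (tt N19830 (iv D22007)) (tt N23493 (iv F45687)) (tt N19831 F41962))
theorem Q21971 : ∀ i, i < 21971 → P i := stepQ 21970 Q21970 (allL N21970 (tt N23483 (iv F45661)) (tt N23495 D23533) (tt N19831 (iv D22008)) (tt N21370 F41963) (tt N23491 (iv F45680)) (tt N23494 (iv F45689)))
theorem Q21972 : ∀ i, i < 21972 → P i := stepQ 21971 Q21971 (allL N21971 (tt N19836 F41964) (tt N23496 D23534) (tt N19834 (iv D22009)) (tt N23497 D23535) (tt N22559 (iv F43334)) (tt N23453 (iv F45593)))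
theorem Q21973 : ∀ i, i < 21973 → P i := stepQ 21972 Q21972 (allL N21972 (tt N23497 (iv F45692)) (tt N23447 (iv F45577)) (tt N23498 D23536) (tt N19836 (iv D22010)) (tt N22573 (iv F43366)) (tt N23454 (iv F45595)))
theorem Q21974 : ∀ i, i < 21974 → P i := stepQ 21973 Q21973 (allL N21973 (tt N20599 F41965) (tt N19839 F41966) (tt N23499 D23537) (tt N19837 (iv D22011)) (tt N19838 F41967) (tt N20602 (iv F41968)))
theorem Q21975 : ∀ i, i < 21975 → P i := stepQ 21974 Q21974 (allL N21974 (tt N20598 F41969) (tt N19840 F41970) (tt N20021 F41971) (tt N20602 F41972) (tt N20020 F41973) (tt N19837 (iv D22012)))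
theorem Q21976 : ∀ i, i < 21976 → P i := stepQ 21975 Q21975 (allL N21975 (tt N20600 F41974) (tt N23500 D23538) (tt N19838 (iv D22013)) (tt N23501 D23539) (tt N23499 (iv F45694)) (tt N20541 F41975))
theorem Q21977 : ∀ i, i < 21977 → P i := stepQ 21976 Q21976 (allL N21976 (tt N19845 F41976) (tt N23502 D23540) (tt N19839 (iv D22014)) (tt N23502 F45709) (tt N19841 F41977) (tt N22259 (iv F42628)))
theorem Q21978 : ∀ i, i < 21978 → P i := stepQ 21977 Q21977 (allL N21977 (tt N20622 (iv F41979)) (tt N19841 (iv D22015)) (tt N23500 (iv F45698)) (tt N23492 (iv F45685)) (tt N23502 (iv F45707)) (tt N20618 F41978))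
theorem Q21979 : ∀ i, i < 21979 → P i := stepQ 21978 Q21978 (allL N21978 (tt N20048 F41980) (tt N19843 F41981) (tt N22092 (iv F42255)) (tt N19842 (iv D22016)) (tt N20057 F41982) (tt N23503 D23541))
theorem Q21980 : ∀ i, i < 21980 → P i := stepQ 21979 Q21979 (allL N21979 (tt N20040 F41983) (tt N19844 F41984) (tt N20596 F41985) (tt N23503 (iv F45712)) (tt N20036 F41986) (tt N19842 (iv D22017)))
theorem Q21981 : ∀ i, i < 21981 → P i := stepQ 21980 Q21980 (allL N21980 (tt N20075 F41987) (tt N23503 (iv F45711)) (tt N20859 F41988) (tt N19844 F41989) (tt N23504 D23542) (tt N19843 (iv D22018)))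
theorem Q21982 : ∀ i, i < 21982 → P i := stepQ 21981 Q21981 (allL N21981 (tt N23502 (iv F45705)) (tt N20611 F41990) (tt N23505 D23543) (tt N19845 (iv D22019)) (tt N20622 (iv F41992)) (tt N20610 F41991))
theorem Q21983 : ∀ i, i < 21983 → P i := stepQ 21982 Q21982 (allL N21982 (tt N19846 (iv D22020)) (tt N20622 F41993) (tt N20615 F41994) (tt N23506 D23544) (tt N20611 F41995) (tt N20612 F41996))
theorem Q21984 : ∀ i, i < 21984 → P i := stepQ 21983 Q21983 (allL N21983 (tt N23506 (iv F45721)) (tt N19847 F41997) (tt N22923 (iv F44193)) (tt N19846 (iv D22021)) (tt N23506 (iv F45723)) (tt N20616 F41998))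
theorem Q21985 : ∀ i, i < 21985 → P i := stepQ 21984 Q21984 (allL N21984 (tt N23492 (iv F45682)) (tt N23506 (iv F45722)) (tt N23481 (iv F45657)) (tt N20622 F41999) (tt N19847 (iv D22022)) (tt N20621 F42000))
theorem Q21986 : ∀ i, i < 21986 → P i := stepQ 21985 Q21985 (allL N21985 (tt N20799 F42001) (tt N19850 F42002) (tt N20346 F42003) (tt N23460 (iv F45609)) (tt N19849 (iv D22023)) (tt N22616 (iv F43460)))
theorem Q21987 : ∀ i, i < 21987 → P i := stepQ 21986 Q21986 (allL N21986 (tt N22590 (iv F43398)) (tt N19854 F42004) (tt N22561 (iv F43340)) (tt N22693 (iv F43606)) (tt N19852 (iv D22024)) (tt N19853 F42005))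
theorem Q21988 : ∀ i, i < 21988 → P i := stepQ 21987 Q21987 (allL N21987 (tt N19857 F42006) (tt N23507 D23545) (tt N19855 (iv D22025)) (tt N23508 D23546) (tt N22475 (iv F43096)) (tt N23509 D23547))
theorem Q21989 : ∀ i, i < 21989 → P i := stepQ 21988 Q21988 (allL N21988 (tt N19858 F42007) (tt N22688 (iv F43600)) (tt N23509 (iv F45729)) (tt N19856 F42008) (tt N23510 D23548) (tt N19855 (iv D22026)))
theorem Q21990 : ∀ i, i < 21990 → P i := stepQ 21989 Q21989 (allL N21989 (tt N23350 (iv F45347)) (tt N19857 (iv D22027)) (tt N19859 F42009) (tt N21991 F42011) (tt N23458 (iv F45603)) (tt N21990 (iv F42013)))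
theorem Q21991 : ∀ i, i < 21991 → P i := stepQ 21990 Q21990 (allL N21990 (tt N23508 (iv F45725)) (tt N21991 (iv F42012)) (tt N21993 (iv F42016)) (tt N19857 (iv D22028)) (tt N23511 D23549) (tt N21989 F42013))
theorem Q21992 : ∀ i, i < 21992 → P i := stepQ 21991 Q21991 (allL N21991 (tt N23509 (iv F45728)) (tt N21990 F42012) (tt N19858 F42010) (tt N21989 (iv F42011)) (tt N23512 D23550) (tt N19857 (iv D22029)))
theorem Q21993 : ∀ i, i < 21993 → P i := stepQ 21992 Q21992 (allL N21992 (tt N23510 (iv F45731)) (tt N19861 F42014) (tt N23512 (iv F45738)) (tt N22616 (iv F43459)) (tt N19858 (iv D22030)) (tt N23460 (iv F45610)))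
theorem Q21994 : ∀ i, i < 21994 → P i := stepQ 21993 Q21993 (allL N21993 (tt N23351 (iv F45348)) (tt N19860 F42015) (tt N21990 F42016) (tt N21527 F42017) (tt N22445 (iv F43024)) (tt N19859 (iv D22031)))
theorem Q21995 : ∀ i, i < 21995 → P i := stepQ 21994 Q21994 (allL N21994 (tt N21518 F42018) (tt N22445 (iv F43022)) (tt N19861 F42019) (tt N20981 F42020) (tt N19860 (iv D22032)) (tt N20982 F42021))
theorem Q21996 : ∀ i, i < 21996 → P i := stepQ 21995 Q21995 (allL N21995 (tt N19868 F42022) (tt N19929 F42023) (tt N23513 D23551) (tt N19863 (iv D22033)) (tt N19864 F42024) (tt N20010 (iv F42025)))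
theorem Q21997 : ∀ i, i < 21997 → P i := stepQ 21996 Q21996 (allL N21996 (tt N19869 F42026) (tt N19930 F42027) (tt N20563 F42028) (tt N20010 F42029) (tt N19910 F42030) (tt N19863 (iv D22034)))
theorem Q21998 : ∀ i, i < 21998 → P i := stepQ 21997 Q21997 (allL N21997 (tt N19870 F42031) (tt N23514 D23552) (tt N19864 (iv D22035)) (tt N22606 (iv F43435)) (tt N23513 (iv F45740)) (tt N22048 F42145))
theorem Q21999 : ∀ i, i < 21999 → P i := stepQ 21998 Q21998 (allL N21998 (tt N23515 D23553) (tt N19866 (iv D22036)) (tt N19883 F42032) (tt N21117 F42033) (tt N19920 F42034) (tt N22455 (iv F43039)))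
theorem Q22000 : ∀ i, i < 22000 → P i := stepQ 21999 Q21999 (allL N21999 (tt N20563 F42035) (tt N19928 F42036) (tt N19869 F42037) (tt N21106 F42038) (tt N19912 F42039) (tt N19867 (iv D22037)))
theorem Q22001 : ∀ i, i < 22001 → P i := stepQ 22000 Q22000 (allL N22000 (tt N23513 (iv F45739)) (tt N23516 D23554) (tt N19868 (iv D22038)) (tt N23517 D23555) (tt N19870 F42040) (tt N23518 D23556))
theorem Q22002 : ∀ i, i < 22002 → P i := stepQ 22001 Q22001 (allL N22001 (tt N20010 F42041) (tt N19915 F42042) (tt N23518 (iv F45756)) (tt N19869 F42043) (tt N20008 F42044) (tt N19868 (iv D22039)))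
theorem Q22003 : ∀ i, i < 22003 → P i := stepQ 22002 Q22002 (allL N22002 (tt N23519 D23557) (tt N19870 (iv D22040)) (tt N19918 F42045) (tt N23520 D23558) (tt N23516 (iv F45750)) (tt N23521 D23559))
theorem Q22004 : ∀ i, i < 22004 → P i := stepQ 22003 Q22003 (allL N22003 (tt N22606 (iv F43433)) (tt N23520 (iv F45760)) (tt N22604 (iv F43430)) (tt N19870 (iv D22041)) (tt N23522 D23560) (tt N22603 F43428))
theorem Q22005 : ∀ i, i < 22005 → P i := stepQ 22004 Q22004 (allL N22004 (tt N22048 (iv F42143)) (tt N23521 (iv F45761)) (tt N19871 F42046) (tt N22603 (iv F43427)) (tt N22047 (iv F42141)) (tt N19870 (iv D22042)))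
theorem Q22006 : ∀ i, i < 22006 → P i := stepQ 22005 Q22005 (allL N22005 (tt N19872 (iv D22043)) (tt N23515 (iv F45744)) (tt N19874 F42047) (tt N21599 F42048) (tt N19924 F42049) (tt N21872 F42050))
theorem Q22007 : ∀ i, i < 22007 → P i := stepQ 22006 Q22006 (allL N22006 (tt N19876 F42051) (tt N19884 F42052) (tt N20187 F42053) (tt N19875 (iv D22044)) (tt N20188 F42054) (tt N22223 (iv F42528)))
theorem Q22008 : ∀ i, i < 22008 → P i := stepQ 22007 Q22007 (allL N22007 (tt N19896 F42055) (tt N23523 D23561) (tt N19881 (iv D22045)) (tt N21646 F42056) (tt N22548 (iv F43298)) (tt N19882 F42057))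
theorem Q22009 : ∀ i, i < 22009 → P i := stepQ 22008 Q22008 (allL N22008 (tt N23524 D23562) (tt N19882 (iv D22046)) (tt N19920 F42058) (tt N23524 F45772) (tt N19883 F42059) (tt N23523 (iv F45767)))
theorem Q22010 : ∀ i, i < 22010 → P i := stepQ 22009 Q22009 (allL N22009 (tt N19897 F42060) (tt N23524 (iv F45768)) (tt N19901 F42061) (tt N19882 (iv D22047)) (tt N19898 F42062) (tt N21646 F42063))
theorem Q22011 : ∀ i, i < 22011 → P i := stepQ 22010 Q22010 (allL N22010 (tt N19883 (iv D22048)) (tt N19898 F42064) (tt N23515 (iv F45745)) (tt N22739 (iv F43702)) (tt N23524 (iv F45770)) (tt N22741 (iv F43712)))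
theorem Q22012 : ∀ i, i < 22012 → P i := stepQ 22011 Q22011 (allL N22011 (tt N19887 F42065) (tt N23356 (iv F45360)) (tt N19884 (iv D22049)) (tt N22347 (iv F42837)) (tt N21032 F42066) (tt N22225 (iv F42535)))
theorem Q22013 : ∀ i, i < 22013 → P i := stepQ 22012 Q22012 (allL N22012 (tt N21032 F42067) (tt N23525 D23563) (tt N19885 (iv D22050)) (tt N21345 F42069) (tt N19887 F42068) (tt N21344 (iv F42070)))
theorem Q22014 : ∀ i, i < 22014 → P i := stepQ 22013 Q22013 (allL N22013 (tt N21033 F42071) (tt N19890 F42072) (tt N21344 F42073) (tt N19886 F42074) (tt N21346 (iv F42075)) (tt N19885 (iv D22051)))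
theorem Q22015 : ∀ i, i < 22015 → P i := stepQ 22014 Q22014 (allL N22014 (tt N23526 D23564) (tt N19887 (iv D22052)) (tt N19891 F42076) (tt N23527 D23565) (tt N23525 (iv F45775)) (tt N23528 D23566))
theorem Q22016 : ∀ i, i < 22016 → P i := stepQ 22015 Q22015 (allL N22015 (tt N22347 (iv F42836)) (tt N23527 (iv F45778)) (tt N21796 F42077) (tt N19887 (iv D22053)) (tt N23529 D23567) (tt N21798 (iv F42078)))
theorem Q22017 : ∀ i, i < 22017 → P i := stepQ 22016 Q22016 (allL N22016 (tt N22225 (iv F42533)) (tt N23528 (iv F45780)) (tt N19888 F42079) (tt N21798 F42080) (tt N21347 F42081) (tt N19887 (iv D22054)))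
theorem Q22018 : ∀ i, i < 22018 → P i := stepQ 22017 Q22017 (allL N22017 (tt N22224 (iv F42529)) (tt N19894 F42082) (tt N21347 F42083) (tt N19907 F42084) (tt N19888 (iv D22055)) (tt N21346 F42085))
theorem Q22019 : ∀ i, i < 22019 → P i := stepQ 22018 Q22018 (allL N22018 (tt N23439 (iv F45563)) (tt N19889 (iv D22056)) (tt N23525 (iv F45773)) (tt N23530 D23568) (tt N19891 F42086) (tt N23531 D23569))
theorem Q22020 : ∀ i, i < 22020 → P i := stepQ 22019 Q22019 (allL N22019 (tt N22760 (iv F43772)) (tt N23530 (iv F45788)) (tt N21852 F42087) (tt N19889 (iv D22057)) (tt N23532 D23570) (tt N21851 (iv F42088)))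
theorem Q22021 : ∀ i, i < 22021 → P i := stepQ 22020 Q22020 (allL N22020 (tt N22544 (iv F43288)) (tt N23531 (iv F45790)) (tt N19890 F42089) (tt N21851 F42090) (tt N22541 (iv F43281)) (tt N19889 (iv D22058)))
theorem Q22022 : ∀ i, i < 22022 → P i := stepQ 22021 Q22021 (allL N22021 (tt N19891 (iv D22059)) (tt N23438 F45562) (tt N23526 (iv F45777)) (tt N23457 (iv F45600)) (tt N23439 (iv F45564)) (tt N23533 D23571))
theorem Q22023 : ∀ i, i < 22023 → P i := stepQ 22022 Q22022 (allL N22022 (tt N23457 (iv F45599)) (tt N19892 F42091) (tt N23534 D23572) (tt N19891 (iv D22060)) (tt N23535 D23573) (tt N22598 (iv F43410)))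
theorem Q22024 : ∀ i, i < 22024 → P i := stepQ 22023 Q22023 (allL N22023 (tt N23533 (iv F45796)) (tt N19893 F42092) (tt N23528 (iv F45781)) (tt N22598 (iv F43408)) (tt N23536 D23574) (tt N19891 (iv D22061)))
theorem Q22025 : ∀ i, i < 22025 → P i := stepQ 22024 Q22024 (allL N22024 (tt N22602 (iv F43421)) (tt N23535 (iv F45797)) (tt N22599 (iv F43413)) (tt N23532 (iv F45795)) (tt N19892 (iv D22062)) (tt N22737 (iv F43694)))
theorem Q22026 : ∀ i, i < 22026 → P i := stepQ 22025 Q22025 (allL N22025 (tt N22547 (iv F43294)) (tt N23536 (iv F45798)) (tt N19894 F42093) (tt N22539 (iv F43275)) (tt N19893 (iv D22063)) (tt N22541 (iv F43282)))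
theorem Q22027 : ∀ i, i < 22027 → P i := stepQ 22026 Q22026 (allL N22026 (tt N21798 F42094) (tt N23537 D23575) (tt N19900 (iv D22064)) (tt N22225 (iv F42534)) (tt N23538 D23576) (tt N22347 (iv F42838)))
theorem Q22028 : ∀ i, i < 22028 → P i := stepQ 22027 Q22027 (allL N22027 (tt N20968 F42095) (tt N20804 F42096) (tt N23538 (iv F45804)) (tt N19908 F42097) (tt N19900 (iv D22065)) (tt N23539 D23577))
theorem Q22029 : ∀ i, i < 22029 → P i := stepQ 22028 Q22028 (allL N22028 (tt N22168 (iv F42424)) (tt N19903 F42098) (tt N23226 (iv F45036)) (tt N21856 F42099) (tt N19902 (iv D22066)) (tt N23226 (iv F45037)))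
theorem Q22030 : ∀ i, i < 22030 → P i := stepQ 22029 Q22029 (allL N22029 (tt N19906 F42100) (tt N23226 (iv F45035)) (tt N22742 (iv F43715)) (tt N21857 F42101) (tt N22738 (iv F43699)) (tt N19903 (iv D22067)))
theorem Q22031 : ∀ i, i < 22031 → P i := stepQ 22030 Q22030 (allL N22030 (tt N19904 (iv D22068)) (tt N22740 (iv F43706)) (tt N22241 (iv F42570)) (tt N22741 (iv F43711)) (tt N23540 D23578) (tt N22739 F43704))
theorem Q22032 : ∀ i, i < 22032 → P i := stepQ 22031 Q22031 (allL N22031 (tt N23540 (iv F45812)) (tt N19905 F42102) (tt N22240 (iv F42567)) (tt N23541 D23579) (tt N19904 (iv D22069)) (tt N23540 (iv F45815)))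
theorem Q22033 : ∀ i, i < 22033 → P i := stepQ 22032 Q22032 (allL N22032 (tt N22611 (iv F43444)) (tt N23541 (iv F45816)) (tt N22717 (iv F43650)) (tt N19905 (iv D22070)) (tt N22609 (iv F43439)) (tt N22716 (iv F43648)))
theorem Q22034 : ∀ i, i < 22034 → P i := stepQ 22033 Q22033 (allL N22033 (tt N22742 (iv F43713)) (tt N23540 (iv F45813)) (tt N19906 F42103) (tt N22716 F43649) (tt N22740 (iv F43709)) (tt N19905 (iv D22071)))
theorem Q22035 : ∀ i, i < 22035 → P i := stepQ 22034 Q22034 (allL N22034 (tt N20969 F42104) (tt N20805 F42105) (tt N20965 F42106) (tt N23539 (iv F45810)) (tt N20827 F42107) (tt N19908 (iv D22072)))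
theorem Q22036 : ∀ i, i < 22036 → P i := stepQ 22035 Q22035 (allL N22035 (tt N19925 F42108) (tt N21591 F42109) (tt N19914 (iv D22073)) (tt N19922 F42110) (tt N21177 F42111) (tt N19921 F42112))
theorem Q22037 : ∀ i, i < 22037 → P i := stepQ 22036 Q22036 (allL N22036 (tt N22154 (iv F42391)) (tt N19916 (iv D22074)) (tt N23516 (iv F45749)) (tt N21790 F42113) (tt N19918 F42114) (tt N21789 F42115))
theorem Q22038 : ∀ i, i < 22038 → P i := stepQ 22037 Q22037 (allL N22037 (tt N22086 (iv F42237)) (tt N19917 (iv D22075)) (tt N23521 (iv F45762)) (tt N21759 F42116) (tt N22084 (iv F42232)) (tt N19918 F42117))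
theorem Q22039 : ∀ i, i < 22039 → P i := stepQ 22038 Q22038 (allL N22038 (tt N19918 (iv D22076)) (tt N22130 (iv F42340)) (tt N23519 (iv F45759)) (tt N23465 (iv F45622)) (tt N22154 (iv F42393)) (tt N22086 F42239))
theorem Q22040 : ∀ i, i < 22040 → P i := stepQ 22039 Q22039 (allL N22039 (tt N23465 (iv F45621)) (tt N19919 F42118) (tt N23542 D23580) (tt N19918 (iv D22077)) (tt N22220 (iv F42516)) (tt N21759 F42119))
theorem Q22041 : ∀ i, i < 22041 → P i := stepQ 22040 Q22040 (allL N22040 (tt N19920 (iv D22078)) (tt N19924 F42120) (tt N23524 (iv F45769)) (tt N21589 (iv F42121)) (tt N23515 (iv F45747)) (tt N21592 (iv F42122)))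
theorem Q22042 : ∀ i, i < 22042 → P i := stepQ 22041 Q22041 (allL N22041 (tt N21589 F42123) (tt N19921 F42124) (tt N21586 (iv F42125)) (tt N19920 (iv D22079)) (tt N21585 (iv F42126)) (tt N21591 (iv F42127)))
theorem Q22043 : ∀ i, i < 22043 → P i := stepQ 22042 Q22042 (allL N22042 (tt N21592 F42128) (tt N19922 F42129) (tt N23523 (iv F45765)) (tt N21591 F42130) (tt N23543 D23581) (tt N19920 (iv D22080)))
theorem Q22044 : ∀ i, i < 22044 → P i := stepQ 22043 Q22043 (allL N22043 (tt N19926 F42131) (tt N23543 (iv F45820)) (tt N19923 F42132) (tt N23544 D23582) (tt N19922 (iv D22081)) (tt N22456 (iv F43042)))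
theorem Q22045 : ∀ i, i < 22045 → P i := stepQ 22044 Q22044 (allL N22044 (tt N23544 (iv F45822)) (tt N21179 F42133) (tt N23545 D23583) (tt N19926 (iv D22082)) (tt N21178 F42134) (tt N22457 (iv F43043)))
theorem Q22046 : ∀ i, i < 22046 → P i := stepQ 22045 Q22045 (allL N22045 (tt N21090 F42135) (tt N23025 (iv F44516)) (tt N19927 (iv D22083)) (tt N22682 (iv F43588)) (tt N21089 F42136) (tt N23546 D23584))
theorem Q22047 : ∀ i, i < 22047 → P i := stepQ 22046 Q22046 (allL N22046 (tt N21091 F42137) (tt N21106 F42138) (tt N23546 (iv F45828)) (tt N19928 F42139) (tt N23176 (iv F44916)) (tt N19927 (iv D22084)))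
theorem Q22048 : ∀ i, i < 22048 → P i := stepQ 22047 Q22047 (allL N22047 (tt N19932 F42140) (tt N22105 (iv F42285)) (tt N19931 (iv D22085)) (tt N19932 F42142) (tt N22004 F42141) (tt N22101 (iv F42275)))
theorem Q22049 : ∀ i, i < 22049 → P i := stepQ 22048 Q22048 (allL N22048 (tt N22004 F42143) (tt N22106 (iv F42288)) (tt N19933 F42144) (tt N20759 (iv F42146)) (tt N19932 (iv D22086)) (tt N21997 (iv F42145)))
theorem Q22050 : ∀ i, i < 22050 → P i := stepQ 22049 Q22049 (allL N22049 (tt N20011 F42147) (tt N20183 F42148) (tt N19940 (iv D22087)) (tt N20389 F42149) (tt N19952 F42150) (tt N23362 (iv F45378)))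
theorem Q22051 : ∀ i, i < 22051 → P i := stepQ 22050 Q22050 (allL N22050 (tt N19945 F42151) (tt N23194 (iv F44958)) (tt N22836 (iv F43984)) (tt N23082 (iv F44691)) (tt N19942 (iv D22088)) (tt N22835 (iv F43981)))
theorem Q22052 : ∀ i, i < 22052 → P i := stepQ 22051 Q22051 (allL N22051 (tt N20586 (iv F42155)) (tt N19944 (iv D22089)) (tt N19947 F42152) (tt N20583 F42153) (tt N23547 D23585) (tt N20396 F42154))
theorem Q22053 : ∀ i, i < 22053 → P i := stepQ 22052 Q22052 (allL N22052 (tt N22836 (iv F43982)) (tt N23547 (iv F45831)) (tt N19945 F42156) (tt N22842 (iv F43992)) (tt N19944 (iv D22090)) (tt N22833 (iv F43975)))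
theorem Q22054 : ∀ i, i < 22054 → P i := stepQ 22053 Q22053 (allL N22053 (tt N22835 (iv F43979)) (tt N19949 F42157) (tt N22833 (iv F43973)) (tt N23084 (iv F44694)) (tt N20556 F42158) (tt N19945 (iv D22091)))
theorem Q22055 : ∀ i, i < 22055 → P i := stepQ 22054 Q22054 (allL N22054 (tt N19947 (iv D22092)) (tt N23198 (iv F44965)) (tt N20586 F42159) (tt N20395 F42160) (tt N23548 D23586) (tt N20394 F42161))
theorem Q22056 : ∀ i, i < 22056 → P i := stepQ 22055 Q22055 (allL N22055 (tt N23548 (iv F45835)) (tt N19948 F42162) (tt N23547 (iv F45832)) (tt N22639 (iv F43502)) (tt N19947 (iv D22093)) (tt N23549 D23587))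
theorem Q22057 : ∀ i, i < 22057 → P i := stepQ 22056 Q22056 (allL N22056 (tt N23200 (iv F44969)) (tt N22639 (iv F43501)) (tt N23044 (iv F44565)) (tt N19948 (iv D22094)) (tt N20399 F42163) (tt N23043 F44564))
theorem Q22058 : ∀ i, i < 22058 → P i := stepQ 22057 Q22057 (allL N22057 (tt N23201 (iv F44971)) (tt N23549 (iv F45839)) (tt N19949 F42164) (tt N23043 (iv F44563)) (tt N20398 F42165) (tt N19948 (iv D22095)))
theorem Q22059 : ∀ i, i < 22059 → P i := stepQ 22058 Q22058 (allL N22058 (tt N20013 F42166) (tt N20182 F42167) (tt N22070 (iv F42193)) (tt N19952 (iv D22096)) (tt N23550 D23588) (tt N20169 F42168))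
theorem Q22060 : ∀ i, i < 22060 → P i := stepQ 22059 Q22059 (allL N22059 (tt N23342 (iv F45324)) (tt N19958 F42169) (tt N20837 F42170) (tt N23342 (iv F45326)) (tt N19957 (iv D22097)) (tt N23348 (iv F45342)))
theorem Q22061 : ∀ i, i < 22061 → P i := stepQ 22060 Q22060 (allL N22060 (tt N20084 F42171) (tt N22101 (iv F42273)) (tt N20083 F42172) (tt N19961 (iv D22098)) (tt N23363 (iv F45381)) (tt N22105 (iv F42287)))
theorem Q22062 : ∀ i, i < 22062 → P i := stepQ 22061 Q22061 (allL N22061 (tt N21853 F42173) (tt N22102 (iv F42276)) (tt N19962 F42174) (tt N23551 D23589) (tt N19961 (iv D22099)) (tt N23552 D23590))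
theorem Q22063 : ∀ i, i < 22063 → P i := stepQ 22062 Q22062 (allL N22062 (tt N21854 F42175) (tt N19963 F42176) (tt N23552 (iv F45850)) (tt N20099 F42177) (tt N22107 (iv F42292)) (tt N19962 (iv D22100)))
theorem Q22064 : ∀ i, i < 22064 → P i := stepQ 22063 Q22063 (allL N22063 (tt N23553 D23591) (tt N19965 (iv D22101)) (tt N19971 F42178) (tt N23554 D23592) (tt N19967 F42179) (tt N23555 D23593))
theorem Q22065 : ∀ i, i < 22065 → P i := stepQ 22064 Q22064 (allL N22064 (tt N22077 (iv F42212)) (tt N23554 (iv F45855)) (tt N23556 D23594) (tt N19965 (iv D22102)) (tt N23557 D23595) (tt N23556 F45860))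
theorem Q22066 : ∀ i, i < 22066 → P i := stepQ 22065 Q22065 (allL N22065 (tt N22078 (iv F42213)) (tt N23555 (iv F45856)) (tt N19966 F42180) (tt N23556 (iv F45859)) (tt N23558 D23596) (tt N19965 (iv D22103)))
theorem Q22067 : ∀ i, i < 22067 → P i := stepQ 22066 Q22066 (allL N22066 (tt N22079 (iv F42215)) (tt N19974 F42181) (tt N23558 (iv F45863)) (tt N20033 F42182) (tt N19966 (iv D22104)) (tt N19970 F42183))
theorem Q22068 : ∀ i, i < 22068 → P i := stepQ 22067 Q22067 (allL N22067 (tt N19967 (iv D22105)) (tt N20772 F42184) (tt N19975 F42185) (tt N20771 (iv F42187)) (tt N23553 (iv F45854)) (tt N19995 F42186))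
theorem Q22069 : ∀ i, i < 22069 → P i := stepQ 22068 Q22068 (allL N22068 (tt N20771 F42188) (tt N19968 F42189) (tt N20775 F42190) (tt N19967 (iv D22106)) (tt N23428 (iv F45540)) (tt N19998 F42191))
theorem Q22070 : ∀ i, i < 22070 → P i := stepQ 22069 Q22069 (allL N22069 (tt N22109 (iv F42295)) (tt N23428 (iv F45538)) (tt N22215 (iv F42509)) (tt N23557 (iv F45861)) (tt N19968 (iv D22107)) (tt N23559 D23597))
theorem Q22071 : ∀ i, i < 22071 → P i := stepQ 22070 Q22070 (allL N22070 (tt N22103 (iv F42278)) (tt N19998 F42192) (tt N22058 F42193) (tt N19969 F42194) (tt N22672 F43564) (tt N19968 (iv D22108)))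
theorem Q22072 : ∀ i, i < 22072 → P i := stepQ 22071 Q22071 (allL N22071 (tt N22108 (iv F42293)) (tt N19999 F42195) (tt N19970 F42196) (tt N22673 (iv F43567)) (tt N19969 (iv D22109)) (tt N23558 (iv F45864)))
theorem Q22073 : ∀ i, i < 22073 → P i := stepQ 22072 Q22072 (allL N22072 (tt N19971 (iv D22110)) (tt N19982 F42197) (tt N23553 (iv F45853)) (tt N22074 (iv F42204)) (tt N19975 F42198) (tt N22073 F42201))
theorem Q22074 : ∀ i, i < 22074 → P i := stepQ 22073 Q22073 (allL N22073 (tt N22074 (iv F42202)) (tt N19972 F42199) (tt N23560 D23598) (tt N19971 (iv D22111)) (tt N20001 F42200) (tt N22072 (iv F42201)))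
theorem Q22075 : ∀ i, i < 22075 → P i := stepQ 22074 Q22074 (allL N22074 (tt N22073 F42202) (tt N19973 F42203) (tt N23555 (iv F45857)) (tt N22072 F42204) (tt N20000 F42205) (tt N19971 (iv D22112)))
theorem Q22076 : ∀ i, i < 22076 → P i := stepQ 22075 Q22075 (allL N22075 (tt N19983 F42206) (tt N23561 D23599) (tt N19972 (iv D22113)) (tt N19980 F42207) (tt N20002 F42208) (tt N19979 F42209))
theorem Q22077 : ∀ i, i < 22077 → P i := stepQ 22076 Q22076 (allL N22076 (tt N22614 (iv F43450)) (tt N19976 (iv D22114)) (tt N19978 F42210) (tt N23562 D23600) (tt N20024 F42211) (tt N23563 D23601))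
theorem Q22078 : ∀ i, i < 22078 → P i := stepQ 22077 Q22077 (allL N22077 (tt N22064 F42212) (tt N23562 (iv F45873)) (tt N23564 D23602) (tt N19976 (iv D22115)) (tt N23565 D23603) (tt N23564 F45879))
theorem Q22079 : ∀ i, i < 22079 → P i := stepQ 22078 Q22078 (allL N22078 (tt N22065 F42213) (tt N23563 (iv F45875)) (tt N19977 F42214) (tt N23564 (iv F45878)) (tt N23566 D23604) (tt N19976 (iv D22116)))
theorem Q22080 : ∀ i, i < 22080 → P i := stepQ 22079 Q22079 (allL N22079 (tt N22066 F42215) (tt N19981 F42216) (tt N23566 (iv F45884)) (tt N20021 F42217) (tt N19977 (iv D22117)) (tt N20022 F42218))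
theorem Q22081 : ∀ i, i < 22081 → P i := stepQ 22080 Q22080 (allL N22080 (tt N19978 (iv D22118)) (tt N19979 F42219) (tt N22614 (iv F43451)) (tt N19978 (iv F42221)) (tt N20029 F42220) (tt N23561 (iv F45871)))
theorem Q22082 : ∀ i, i < 22082 → P i := stepQ 22081 Q22081 (allL N22081 (tt N23561 (iv F45868)) (tt N19980 F42222) (tt N23563 (iv F45876)) (tt N23561 (iv F45869)) (tt N22780 (iv F43826)) (tt N19978 (iv D22119)))
theorem Q22083 : ∀ i, i < 22083 → P i := stepQ 22082 Q22082 (allL N22082 (tt N20046 F42223) (tt N22780 (iv F43825)) (tt N19981 F42224) (tt N23567 D23605) (tt N19980 (iv D22120)) (tt N20028 F42225))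
theorem Q22084 : ∀ i, i < 22084 → P i := stepQ 22083 Q22083 (allL N22083 (tt N20002 F42226) (tt N20046 F42227) (tt N19984 F42228) (tt N22271 (iv F42659)) (tt N19983 (iv D22121)) (tt N20050 F42229))
theorem Q22085 : ∀ i, i < 22085 → P i := stepQ 22084 Q22084 (allL N22084 (tt N19988 F42230) (tt N20092 F42231) (tt N22105 (iv F42286)) (tt N19987 (iv D22122)) (tt N22037 F42232) (tt N20083 F42233))
theorem Q22086 : ∀ i, i < 22086 → P i := stepQ 22085 Q22085 (allL N22085 (tt N22105 (iv F42284)) (tt N20089 F42234) (tt N19988 (iv D22123)) (tt N20089 F42235) (tt N23568 D23606) (tt N20084 F42236))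
theorem Q22087 : ∀ i, i < 22087 → P i := stepQ 22086 Q22086 (allL N22086 (tt N22037 F42237) (tt N20055 F42238) (tt N23568 (iv F45892)) (tt N23341 (iv F45323)) (tt N19988 (iv D22124)) (tt N22038 (iv F42239)))
theorem Q22088 : ∀ i, i < 22088 → P i := stepQ 22087 Q22087 (allL N22087 (tt N21404 F42240) (tt N20042 F42241) (tt N23569 D23607) (tt N19990 (iv D22125)) (tt N20041 F42242) (tt N20110 F42243))
theorem Q22089 : ∀ i, i < 22089 → P i := stepQ 22088 Q22088 (allL N22088 (tt N20050 F42244) (tt N22777 (iv F43818)) (tt N19994 (iv D22126)) (tt N22261 (iv F42635)) (tt N20052 F42245) (tt N20002 F42246))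
theorem Q22090 : ∀ i, i < 22090 → P i := stepQ 22089 Q22089 (allL N22089 (tt N20998 F42247) (tt N19995 (iv D22127)) (tt N20996 F42248) (tt N20773 F42249) (tt N23570 D23608) (tt N20772 F42250))
theorem Q22091 : ∀ i, i < 22091 → P i := stepQ 22090 Q22090 (allL N22090 (tt N19999 F42251) (tt N23570 (iv F45900)) (tt N19996 F42252) (tt N22126 (iv F42333)) (tt N19995 (iv D22128)) (tt N22094 (iv F42258)))
theorem Q22092 : ∀ i, i < 22092 → P i := stepQ 22091 Q22091 (allL N22091 (tt N20780 F42253) (tt N22672 (iv F43563)) (tt N20778 F42254) (tt N22131 (iv F42347)) (tt N19998 (iv D22129)) (tt N23571 D23609))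
theorem Q22093 : ∀ i, i < 22093 → P i := stepQ 22092 Q22092 (allL N22092 (tt N22126 (iv F42331)) (tt N22673 (iv F43565)) (tt N21978 F42255) (tt N19999 (iv D22130)) (tt N22131 (iv F42346)) (tt N23572 D23610))
theorem Q22094 : ∀ i, i < 22094 → P i := stepQ 22093 Q22093 (allL N22093 (tt N22094 (iv F42257)) (tt N23558 (iv F45862)) (tt N20000 F42256) (tt N23572 (iv F45905)) (tt N23555 (iv F45858)) (tt N19999 (iv D22131)))
theorem Q22095 : ∀ i, i < 22095 → P i := stepQ 22094 Q22094 (allL N22094 (tt N22093 F42257) (tt N23573 D23611) (tt N20001 (iv D22132)) (tt N23574 D23612) (tt N23560 (iv F45866)) (tt N22090 F42258))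
theorem Q22096 : ∀ i, i < 22096 → P i := stepQ 22095 Q22095 (allL N22095 (tt N22780 (iv F43824)) (tt N20002 (iv D22133)) (tt N23573 (iv F45906)) (tt N23575 D23613) (tt N23561 (iv F45870)) (tt N22777 F43819))
theorem Q22097 : ∀ i, i < 22097 → P i := stepQ 22096 Q22096 (allL N22096 (tt N22271 (iv F42657)) (tt N23575 (iv F45911)) (tt N20070 F42259) (tt N20002 (iv D22134)) (tt N23567 (iv F45888)) (tt N22261 (iv F42634)))
theorem Q22098 : ∀ i, i < 22098 → P i := stepQ 22097 Q22097 (allL N22097 (tt N20054 F42260) (tt N20003 (iv D22135)) (tt N20004 F42261) (tt N22270 (iv F42653)) (tt N20030 F42262) (tt N20003 (iv F42263)))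
theorem Q22099 : ∀ i, i < 22099 → P i := stepQ 22098 Q22098 (allL N22098 (tt N20053 F42264) (tt N22270 F42656) (tt N22269 (iv F42649)) (tt N20003 (iv D22136)) (tt N20051 F42265) (tt N22270 (iv F42655)))
theorem Q22100 : ∀ i, i < 22100 → P i := stepQ 22099 Q22099 (allL N22099 (tt N20007 F42266) (tt N21296 F42267) (tt N20005 (iv D22137)) (tt N23576 D23614) (tt N20017 F42268) (tt N21286 F42269))
theorem Q22101 : ∀ i, i < 22101 → P i := stepQ 22100 Q22100 (allL N22100 (tt N23576 (iv F45912)) (tt N21289 F42270) (tt N23577 D23615) (tt N20007 (iv D22138)) (tt N23578 D23616) (tt N21287 F42271))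
theorem Q22102 : ∀ i, i < 22102 → P i := stepQ 22101 Q22101 (allL N22101 (tt N20009 F42272) (tt N22060 F42273) (tt N20008 (iv D22139)) (tt N20009 F42274) (tt N23518 (iv F45758)) (tt N22047 F42275))
theorem Q22103 : ∀ i, i < 22103 → P i := stepQ 22102 Q22102 (allL N22102 (tt N23518 (iv F45754)) (tt N22061 F42276) (tt N20010 F42277) (tt N23579 D23617) (tt N20009 (iv D22140)) (tt N23513 (iv F45741)))
theorem Q22104 : ∀ i, i < 22104 → P i := stepQ 22103 Q22103 (allL N22103 (tt N22070 F42278) (tt N22503 (iv F43162)) (tt N20013 (iv D22141)) (tt N20023 F42279) (tt N23580 D23618) (tt N20025 F42280))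
theorem Q22105 : ∀ i, i < 22105 → P i := stepQ 22104 Q22104 (allL N22104 (tt N23550 (iv F45842)) (tt N20332 F42281) (tt N23580 (iv F45929)) (tt N20331 F42282) (tt N20013 (iv D22142)) (tt N20861 (iv F42283)))
theorem Q22106 : ∀ i, i < 22106 → P i := stepQ 22105 Q22105 (allL N22105 (tt N22085 F42284) (tt N22047 F42285) (tt N22084 F42286) (tt N20014 (iv D22143)) (tt N23521 (iv F45763)) (tt N22060 F42287))
theorem Q22107 : ∀ i, i < 22107 → P i := stepQ 22106 Q22106 (allL N22106 (tt N22155 (iv F42394)) (tt N22048 F42288) (tt N20015 F42289) (tt N22605 (iv F43432)) (tt N20014 (iv D22144)) (tt N23514 (iv F45743)))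
theorem Q22108 : ∀ i, i < 22108 → P i := stepQ 22107 Q22107 (allL N22107 (tt N22156 (iv F42396)) (tt N20016 F42290) (tt N23514 (iv F45742)) (tt N20205 F42291) (tt N22062 F42292) (tt N20015 (iv D22145)))
theorem Q22109 : ∀ i, i < 22109 → P i := stepQ 22108 Q22108 (allL N22108 (tt N22071 F42293) (tt N22778 (iv F43820)) (tt N20022 (iv D22146)) (tt N23581 D23619) (tt N20023 F42294) (tt N23566 (iv F45885)))
theorem Q22110 : ∀ i, i < 22110 → P i := stepQ 22109 Q22109 (allL N22109 (tt N22069 F42295) (tt N21876 F42296) (tt N22499 (iv F43147)) (tt N23565 (iv F45882)) (tt N20025 (iv D22147)) (tt N23582 D23620))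
theorem Q22111 : ∀ i, i < 22111 → P i := stepQ 22110 Q22110 (allL N22110 (tt N20051 F42297) (tt N22779 (iv F43822)) (tt N22282 (iv F42682)) (tt N20028 (iv D22148)) (tt N20053 F42298) (tt N23567 (iv F45889)))
theorem Q22112 : ∀ i, i < 22112 → P i := stepQ 22111 Q22111 (allL N22111 (tt N23166 (iv F44897)) (tt N22117 (iv F42307)) (tt N20031 (iv D22149)) (tt N23583 D23621) (tt N23301 (iv F45213)) (tt N22114 F42303))
theorem Q22113 : ∀ i, i < 22113 → P i := stepQ 22112 Q22112 (allL N22112 (tt N20037 F42299) (tt N23584 D23622) (tt N20035 (iv D22150)) (tt N23585 D23623) (tt N23236 (iv F45062)) (tt N23586 D23624))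
theorem Q22114 : ∀ i, i < 22114 → P i := stepQ 22113 Q22113 (allL N22113 (tt N20039 F42300) (tt N23165 (iv F44894)) (tt N23586 (iv F45945)) (tt N20036 F42301) (tt N23587 D23625) (tt N20035 (iv D22151)))
theorem Q22115 : ∀ i, i < 22115 → P i := stepQ 22114 Q22114 (allL N22114 (tt N23588 D23626) (tt N20037 (iv D22152)) (tt N20041 F42302) (tt N23589 D23627) (tt N23569 (iv F45897)) (tt N22111 (iv F42303)))
theorem Q22116 : ∀ i, i < 22116 → P i := stepQ 22115 Q22115 (allL N22115 (tt N23585 (iv F45942)) (tt N23589 (iv F45952)) (tt N23590 D23628) (tt N20037 (iv D22153)) (tt N22115 F42306) (tt N23591 D23629))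
theorem Q22117 : ∀ i, i < 22117 → P i := stepQ 22116 Q22116 (allL N22116 (tt N23236 (iv F45060)) (tt N23569 (iv F45895)) (tt N20038 F42304) (tt N22116 F42305) (tt N20037 (iv D22154)) (tt N23592 D23630))
theorem Q22118 : ∀ i, i < 22118 → P i := stepQ 22117 Q22117 (allL N22117 (tt N23586 (iv F45944)) (tt N22111 F42307) (tt N20039 F42308) (tt N23591 (iv F45960)) (tt N23593 D23631) (tt N20037 (iv D22155)))
theorem Q22119 : ∀ i, i < 22119 → P i := stepQ 22118 Q22118 (allL N22118 (tt N23160 (iv F44878)) (tt N20043 F42309) (tt N23592 (iv F45962)) (tt N20047 F42310) (tt N23594 D23632) (tt N20038 (iv D22156)))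
theorem Q22120 : ∀ i, i < 22120 → P i := stepQ 22119 Q22119 (allL N22119 (tt N23587 (iv F45946)) (tt N20044 F42311) (tt N23593 (iv F45965)) (tt N23595 D23633) (tt N20039 (iv D22157)) (tt N23594 (iv F45968)))
theorem Q22121 : ∀ i, i < 22121 → P i := stepQ 22120 Q22120 (allL N22120 (tt N23503 (iv F45710)) (tt N20045 F42312) (tt N23574 (iv F45909)) (tt N20040 (iv D22158)) (tt N23595 (iv F45970)) (tt N20048 F42313))
theorem Q22122 : ∀ i, i < 22122 → P i := stepQ 22121 Q22121 (allL N22121 (tt N20041 (iv D22159)) (tt N20291 F42314) (tt N23588 (iv F45949)) (tt N21543 F42315) (tt N21404 F42316) (tt N21545 F42317))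
theorem Q22123 : ∀ i, i < 22123 → P i := stepQ 22122 Q22122 (allL N22122 (tt N20082 F42318) (tt N23594 (iv F45966)) (tt N20111 F42319) (tt N20062 F42320) (tt N20043 (iv D22160)) (tt N20044 F42321))
theorem Q22124 : ∀ i, i < 22124 → P i := stepQ 22123 Q22123 (allL N22123 (tt N20081 F42322) (tt N23595 (iv F45969)) (tt N20069 F42323) (tt N20044 (iv D22161)) (tt N20045 F42324) (tt N20062 F42325))
theorem Q22125 : ∀ i, i < 22125 → P i := stepQ 22124 Q22124 (allL N22124 (tt N20080 F42326) (tt N23596 D23634) (tt N20045 (iv D22162)) (tt N22282 (iv F42683)) (tt N20069 F42327) (tt N20049 F42328))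
theorem Q22126 : ∀ i, i < 22126 → P i := stepQ 22125 Q22125 (allL N22125 (tt N23567 (iv F45886)) (tt N22271 (iv F42658)) (tt N20079 F42330) (tt N20046 (iv D22163)) (tt N22271 (iv F42660)) (tt N20051 F42329))
theorem Q22127 : ∀ i, i < 22127 → P i := stepQ 22126 Q22126 (allL N22126 (tt N22092 F42331) (tt N23597 D23635) (tt N20048 (iv D22164)) (tt N22090 F42333) (tt N20059 F42332) (tt N23574 (iv F45910)))
theorem Q22128 : ∀ i, i < 22128 → P i := stepQ 22127 Q22127 (allL N22127 (tt N23598 D23636) (tt N20049 (iv D22165)) (tt N23597 (iv F45974)) (tt N23599 D23637) (tt N20061 F42334) (tt N23596 (iv F45973)))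
theorem Q22129 : ∀ i, i < 22129 → P i := stepQ 22128 Q22128 (allL N22128 (tt N20079 F42335) (tt N23599 (iv F45979)) (tt N23567 (iv F45887)) (tt N20049 (iv D22166)) (tt N20070 F42336) (tt N22282 (iv F42684)))
theorem Q22130 : ∀ i, i < 22130 → P i := stepQ 22129 Q22129 (allL N22129 (tt N22282 (iv F42681)) (tt N22255 (iv F42609)) (tt N20051 (iv D22167)) (tt N20080 F42338) (tt N22269 (iv F42650)) (tt N20079 F42337))
theorem Q22131 : ∀ i, i < 22131 → P i := stepQ 22130 Q22130 (allL N22130 (tt N20093 F42339) (tt N22038 F42340) (tt N20091 F42341) (tt N21929 F42342) (tt N20088 F42343) (tt N20055 (iv D22168)))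
theorem Q22132 : ∀ i, i < 22132 → P i := stepQ 22131 Q22131 (allL N22131 (tt N20059 F42344) (tt N20857 F42345) (tt N20057 (iv D22169)) (tt N22091 F42347) (tt N22092 F42346) (tt N23600 D23638))
theorem Q22133 : ∀ i, i < 22133 → P i := stepQ 22132 Q22132 (allL N22132 (tt N20060 F42348) (tt N20071 F42349) (tt N23600 (iv F45983)) (tt N20058 F42350) (tt N23601 D23639) (tt N20057 (iv D22170)))
theorem Q22134 : ∀ i, i < 22134 → P i := stepQ 22133 Q22133 (allL N22133 (tt N23602 D23640) (tt N20059 (iv D22171)) (tt N20061 F42351) (tt N22615 F43456) (tt N23597 (iv F45976)) (tt N20066 (iv F42352)))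
theorem Q22135 : ∀ i, i < 22135 → P i := stepQ 22134 Q22134 (allL N22134 (tt N23600 (iv F45981)) (tt N20066 F42353) (tt N20060 F42354) (tt N22619 (iv F43466)) (tt N23603 D23641) (tt N20059 (iv D22172)))
theorem Q22136 : ∀ i, i < 22136 → P i := stepQ 22135 Q22135 (allL N22135 (tt N23601 (iv F45985)) (tt N20062 F42355) (tt N23603 (iv F45992)) (tt N23594 (iv F45967)) (tt N20060 (iv D22173)) (tt N23595 (iv F45971)))
theorem Q22137 : ∀ i, i < 22137 → P i := stepQ 22136 Q22136 (allL N22136 (tt N20061 (iv D22174)) (tt N20077 F42356) (tt N23602 (iv F45988)) (tt N20065 F42357) (tt N23598 (iv F45978)) (tt N20064 F42358))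
theorem Q22138 : ∀ i, i < 22138 → P i := stepQ 22137 Q22137 (allL N22137 (tt N20066 F42359) (tt N23604 D23642) (tt N20064 (iv D22175)) (tt N21142 F42360) (tt N23605 D23643) (tt N23602 (iv F45990)))
theorem Q22139 : ∀ i, i < 22139 → P i := stepQ 22138 Q22138 (allL N22138 (tt N20067 F42361) (tt N22262 (iv F42637)) (tt N23605 (iv F45998)) (tt N21702 F42362) (tt N20064 (iv D22176)) (tt N23606 D23644))
theorem Q22140 : ∀ i, i < 22140 → P i := stepQ 22139 Q22139 (allL N22139 (tt N20068 F42363) (tt N22251 (iv F42600)) (tt N20380 F42364) (tt N23607 D23645) (tt N20065 (iv D22177)) (tt N22248 (iv F42595)))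
theorem Q22141 : ∀ i, i < 22141 → P i := stepQ 22140 Q22140 (allL N22140 (tt N23605 (iv F45997)) (tt N23603 (iv F45991)) (tt N20067 F42365) (tt N23608 D23646) (tt N20066 (iv D22178)) (tt N23609 D23647))
theorem Q22142 : ∀ i, i < 22142 → P i := stepQ 22141 Q22141 (allL N22141 (tt N23606 (iv F45999)) (tt N20069 F42366) (tt N23609 (iv F46003)) (tt N21693 F42367) (tt N23596 (iv F45972)) (tt N20067 (iv D22179)))
theorem Q22143 : ∀ i, i < 22143 → P i := stepQ 22142 Q22142 (allL N22142 (tt N23607 (iv F46001)) (tt N20070 F42368) (tt N23610 D23648) (tt N20068 (iv D22180)) (tt N23599 (iv F45980)) (tt N22260 (iv F42631)))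
theorem Q22144 : ∀ i, i < 22144 → P i := stepQ 22143 Q22143 (allL N22143 (tt N20076 F42369) (tt N23601 (iv F45986)) (tt N20854 F42370) (tt N23161 (iv F44882)) (tt N20071 (iv D22181)) (tt N23504 (iv F45716)))
theorem Q22145 : ∀ i, i < 22145 → P i := stepQ 22144 Q22144 (allL N22144 (tt N20072 (iv D22182)) (tt N20856 F42371) (tt N20077 F42372) (tt N20855 F42373) (tt N22245 (iv F42585)) (tt N22264 (iv F42641)))
theorem Q22146 : ∀ i, i < 22146 → P i := stepQ 22145 Q22145 (allL N22145 (tt N22245 (iv F42584)) (tt N20073 F42374) (tt N20078 F42375) (tt N22243 (iv F42580)) (tt N20072 (iv D22183)) (tt N23611 D23649))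
theorem Q22147 : ∀ i, i < 22147 → P i := stepQ 22146 Q22146 (allL N22146 (tt N20521 F42376) (tt N22243 (iv F42578)) (tt N20610 F42378) (tt N20073 (iv D22184)) (tt N20517 F42377) (tt N23505 (iv F45720)))
theorem Q22148 : ∀ i, i < 22148 → P i := stepQ 22147 Q22147 (allL N22147 (tt N20859 F42379) (tt N23611 (iv F46004)) (tt N20075 F42380) (tt N23505 (iv F45718)) (tt N23612 D23650) (tt N20073 (iv D22185)))
theorem Q22149 : ∀ i, i < 22149 → P i := stepQ 22148 Q22148 (allL N22148 (tt N20854 F42381) (tt N22267 (iv F42643)) (tt N20076 F42382) (tt N23613 D23651) (tt N20074 (iv D22186)) (tt N23612 (iv F46008)))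
theorem Q22150 : ∀ i, i < 22150 → P i := stepQ 22149 Q22149 (allL N22149 (tt N23504 (iv F45713)) (tt N20081 F42383) (tt N23612 (iv F46007)) (tt N21706 F42384) (tt N20075 (iv D22187)) (tt N20076 F42385))
theorem Q22151 : ∀ i, i < 22151 → P i := stepQ 22150 Q22150 (allL N22150 (tt N20078 F42386) (tt N23598 (iv F45977)) (tt N22245 F42586) (tt N23614 D23652) (tt N20077 (iv D22188)) (tt N23615 D23653))
theorem Q22152 : ∀ i, i < 22152 → P i := stepQ 22151 Q22151 (allL N22151 (tt N23614 (iv F46011)) (tt N20079 F42387) (tt N22256 (iv F42613)) (tt N20078 (iv D22189)) (tt N22256 F42615) (tt N22255 F42611))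
theorem Q22153 : ∀ i, i < 22153 → P i := stepQ 22152 Q22152 (allL N22152 (tt N23615 (iv F46012)) (tt N20080 F42388) (tt N23611 (iv F46005)) (tt N22255 (iv F42610)) (tt N22268 (iv F42647)) (tt N20078 (iv D22190)))
theorem Q22154 : ∀ i, i < 22154 → P i := stepQ 22153 Q22153 (allL N22153 (tt N23363 (iv F45380)) (tt N21853 F42389) (tt N20085 F42390) (tt N23616 D23654) (tt N20084 (iv D22191)) (tt N23617 D23655))
theorem Q22155 : ∀ i, i < 22155 → P i := stepQ 22154 Q22154 (allL N22154 (tt N22036 F42391) (tt N20088 F42392) (tt N23617 (iv F46017)) (tt N22756 (iv F43757)) (tt N22038 F42393) (tt N20085 (iv D22192)))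
theorem Q22156 : ∀ i, i < 22156 → P i := stepQ 22155 Q22155 (allL N22155 (tt N22106 F42394) (tt N23568 (iv F45891)) (tt N20090 F42395) (tt N23618 D23656) (tt N20089 (iv D22193)) (tt N23619 D23657))
theorem Q22157 : ∀ i, i < 22157 → P i := stepQ 22156 Q22156 (allL N22156 (tt N22107 F42396) (tt N20091 F42397) (tt N23619 (iv F46022)) (tt N20161 F42398) (tt N21854 F42399) (tt N20090 (iv D22194)))
theorem Q22158 : ∀ i, i < 22158 → P i := stepQ 22157 Q22157 (allL N22157 (tt N20406 F42400) (tt N20098 F42401) (tt N20096 F42402) (tt N23223 (iv F45026)) (tt N20095 (iv D22195)) (tt N20405 F42403))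
theorem Q22159 : ∀ i, i < 22159 → P i := stepQ 22158 Q22158 (allL N22158 (tt N21845 F42404) (tt N22234 (iv F42553)) (tt N21679 F42405) (tt N23225 (iv F45032)) (tt N20097 (iv D22196)) (tt N23620 D23658))
theorem Q22160 : ∀ i, i < 22160 → P i := stepQ 22159 Q22159 (allL N22159 (tt N21846 F42406) (tt N23223 F45029) (tt N23621 D23659) (tt N20098 (iv D22197)) (tt N23225 (iv F45033)) (tt N23622 D23660))
theorem Q22161 : ∀ i, i < 22161 → P i := stepQ 22160 Q22160 (allL N22160 (tt N21847 F42407) (tt N20405 F42408) (tt N20099 F42409) (tt N23622 (iv F46030)) (tt N20404 F42410) (tt N20098 (iv D22198)))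
theorem Q22162 : ∀ i, i < 22162 → P i := stepQ 22161 Q22161 (allL N22161 (tt N22910 (iv F44151)) (tt N21858 F42411) (tt N20102 F42412) (tt N20410 F42413) (tt N22236 (iv F42562)) (tt N20101 (iv D22199)))
theorem Q22163 : ∀ i, i < 22163 → P i := stepQ 22162 Q22162 (allL N22162 (tt N22198 (iv F42475)) (tt N21513 F42414) (tt N20106 F42415) (tt N22528 (iv F43241)) (tt N20105 (iv D22200)) (tt N22533 (iv F43259)))
theorem Q22164 : ∀ i, i < 22164 → P i := stepQ 22163 Q22163 (allL N22163 (tt N21707 F42416) (tt N23592 (iv F45961)) (tt N20110 (iv D22201)) (tt N22163 F42417) (tt N22773 (iv F43814)) (tt N23569 (iv F45898)))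
theorem Q22165 : ∀ i, i < 22165 → P i := stepQ 22164 Q22164 (allL N22164 (tt N20117 F42418) (tt N21174 F42419) (tt N23297 (iv F45210)) (tt N21173 F42420) (tt N23388 (iv F45452)) (tt N20114 (iv D22202)))
theorem Q22166 : ∀ i, i < 22166 → P i := stepQ 22165 Q22165 (allL N22165 (tt N23413 (iv F45503)) (tt N20116 F42421) (tt N20118 F42422) (tt N23623 D23661) (tt N20115 (iv D22203)) (tt N23624 D23662))
theorem Q22167 : ∀ i, i < 22167 → P i := stepQ 22166 Q22166 (allL N22166 (tt N23296 (iv F45207)) (tt N23623 (iv F46032)) (tt N23625 D23663) (tt N20116 (iv D22204)) (tt N23295 (iv F45206)) (tt N23626 D23664))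
theorem Q22168 : ∀ i, i < 22168 → P i := stepQ 22167 Q22167 (allL N22167 (tt N23297 (iv F45209)) (tt N23624 (iv F46033)) (tt N20117 F42423) (tt N23626 (iv F46038)) (tt N23392 (iv F45459)) (tt N20116 (iv D22205)))
theorem Q22169 : ∀ i, i < 22169 → P i := stepQ 22168 Q22168 (allL N22168 (tt N22028 F42424) (tt N20119 F42425) (tt N21630 (iv F42427)) (tt N20118 (iv D22206)) (tt N20212 F42426) (tt N21630 (iv F42428)))
theorem Q22170 : ∀ i, i < 22170 → P i := stepQ 22169 Q22169 (allL N22169 (tt N23414 (iv F45506)) (tt N20120 F42429) (tt N23624 (iv F46034)) (tt N21630 F42430) (tt N20211 F42431) (tt N20118 (iv D22207)))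
theorem Q22171 : ∀ i, i < 22171 → P i := stepQ 22170 Q22170 (allL N22170 (tt N20224 F42432) (tt N21631 F42433) (tt N20119 (iv D22208)) (tt N21240 F42434) (tt N20213 F42435) (tt N21631 F42436))
theorem Q22172 : ∀ i, i < 22172 → P i := stepQ 22171 Q22171 (allL N22171 (tt N23054 (iv F44600)) (tt N20123 (iv D22209)) (tt N20137 F42437) (tt N22949 (iv F44267)) (tt N23389 (iv F45454)) (tt N22962 (iv F44308)))
theorem Q22173 : ∀ i, i < 22173 → P i := stepQ 22172 Q22172 (allL N22172 (tt N20127 F42438) (tt N22962 (iv F44307)) (tt N20124 F42439) (tt N22293 (iv F42716)) (tt N23627 D23665) (tt N20123 (iv D22210)))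
theorem Q22174 : ∀ i, i < 22174 → P i := stepQ 22173 Q22173 (allL N22173 (tt N20128 F42440) (tt N20141 F42441) (tt N23627 (iv F46040)) (tt N22808 (iv F43905)) (tt N20124 (iv D22211)) (tt N23379 (iv F45424)))
theorem Q22175 : ∀ i, i < 22175 → P i := stepQ 22174 Q22174 (allL N22174 (tt N20125 (iv D22212)) (tt N23054 (iv F44601)) (tt N20129 F42442) (tt N22287 (iv F42701)) (tt N23395 (iv F45467)) (tt N20130 F42443))
theorem Q22176 : ∀ i, i < 22176 → P i := stepQ 22175 Q22175 (allL N22175 (tt N22287 (iv F42699)) (tt N20126 F42444) (tt N22283 (iv F42687)) (tt N20125 (iv D22213)) (tt N23628 D23666) (tt N20133 F42445))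
theorem Q22177 : ∀ i, i < 22177 → P i := stepQ 22176 Q22176 (allL N22176 (tt N22950 (iv F44269)) (tt N23628 (iv F46041)) (tt N22948 (iv F44264)) (tt N23398 (iv F45469)) (tt N20126 (iv D22214)) (tt N23629 D23667))
theorem Q22178 : ∀ i, i < 22178 → P i := stepQ 22177 Q22177 (allL N22177 (tt N22293 (iv F42714)) (tt N20133 F42446) (tt N22292 (iv F42712)) (tt N20127 F42447) (tt N23630 D23668) (tt N20126 (iv D22215)))
theorem Q22179 : ∀ i, i < 22179 → P i := stepQ 22178 Q22178 (allL N22178 (tt N23627 (iv F46039)) (tt N20134 F42448) (tt N20128 F42449) (tt N23631 D23669) (tt N20127 (iv D22216)) (tt N23384 (iv F45440)))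
theorem Q22180 : ∀ i, i < 22180 → P i := stepQ 22179 Q22179 (allL N22179 (tt N22962 (iv F44306)) (tt N20130 (iv D22217)) (tt N23047 (iv F44579)) (tt N22960 F44302) (tt N23632 D23670) (tt N23054 (iv F44603)))
theorem Q22181 : ∀ i, i < 22181 → P i := stepQ 22180 Q22180 (allL N22180 (tt N20134 F42450) (tt N23632 (iv F46044)) (tt N20131 F42451) (tt N23633 D23671) (tt N20130 (iv D22218)) (tt N23634 D23672))
theorem Q22182 : ∀ i, i < 22182 → P i := stepQ 22181 Q22181 (allL N22181 (tt N20135 F42452) (tt N23061 (iv F44622)) (tt N23634 (iv F46047)) (tt N22285 (iv F42693)) (tt N23387 (iv F45447)) (tt N20131 (iv D22219)))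
theorem Q22183 : ∀ i, i < 22183 → P i := stepQ 22182 Q22182 (allL N22182 (tt N20136 F42453) (tt N23053 (iv F44597)) (tt N23635 D23673) (tt N20132 (iv D22220)) (tt N23399 (iv F45472)) (tt N22286 (iv F42698)))
theorem Q22184 : ∀ i, i < 22184 → P i := stepQ 22183 Q22183 (allL N22183 (tt N23065 (iv F44633)) (tt N23630 (iv F46042)) (tt N23064 (iv F44630)) (tt N23636 D23674) (tt N20133 (iv D22221)) (tt N23637 D23675))
theorem Q22185 : ∀ i, i < 22185 → P i := stepQ 22184 Q22184 (allL N22184 (tt N23633 (iv F46045)) (tt N23631 (iv F46043)) (tt N23638 D23676) (tt N20134 (iv D22222)) (tt N23636 (iv F46051)) (tt N23639 D23677))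
theorem Q22186 : ∀ i, i < 22186 → P i := stepQ 22185 Q22185 (allL N22185 (tt N23634 (iv F46046)) (tt N23384 (iv F45438)) (tt N20135 F42454) (tt N23639 (iv F46057)) (tt N23385 (iv F45442)) (tt N20134 (iv D22223)))
theorem Q22187 : ∀ i, i < 22187 → P i := stepQ 22186 Q22186 (allL N22186 (tt N23635 (iv F46048)) (tt N23166 (iv F44898)) (tt N20136 (iv D22224)) (tt N23640 D23678) (tt N23400 (iv F45475)) (tt N22291 (iv F42709)))
theorem Q22188 : ∀ i, i < 22188 → P i := stepQ 22187 Q22187 (allL N22187 (tt N23055 (iv F44604)) (tt N20138 F42455) (tt N23389 (iv F45453)) (tt N23641 D23679) (tt N20137 (iv D22225)) (tt N23642 D23680))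
theorem Q22189 : ∀ i, i < 22189 → P i := stepQ 22188 Q22188 (allL N22188 (tt N20147 F42456) (tt N23641 (iv F46058)) (tt N20785 F42457) (tt N20138 (iv D22226)) (tt N22297 (iv F42724)) (tt N23643 D23681))
theorem Q22190 : ∀ i, i < 22190 → P i := stepQ 22189 Q22189 (allL N22189 (tt N20148 F42458) (tt N23642 (iv F46059)) (tt N20140 F42459) (tt N23643 (iv F46062)) (tt N23644 D23682) (tt N20138 (iv D22227)))
theorem Q22191 : ∀ i, i < 22191 → P i := stepQ 22190 Q22190 (allL N22190 (tt N20149 F42460) (tt N23147 (iv F44851)) (tt N20141 F42461) (tt N23645 D23683) (tt N20139 (iv D22228)) (tt N23644 (iv F46065)))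
theorem Q22192 : ∀ i, i < 22192 → P i := stepQ 22191 Q22191 (allL N22191 (tt N20150 F42462) (tt N23379 (iv F45422)) (tt N23644 (iv F46064)) (tt N20789 F42463) (tt N20140 (iv D22229)) (tt N20141 F42464))
theorem Q22193 : ∀ i, i < 22193 → P i := stepQ 22192 Q22192 (allL N22192 (tt N20144 F42465) (tt N23055 (iv F44605)) (tt N20151 F42466) (tt N23646 D23684) (tt N20142 (iv D22230)) (tt N23647 D23685))
theorem Q22194 : ∀ i, i < 22194 → P i := stepQ 22193 Q22193 (allL N22193 (tt N22662 (iv F43545)) (tt N20145 F42467) (tt N22354 F42856) (tt N22665 (iv F43552)) (tt N20143 (iv D22231)) (tt N22657 (iv F43535)))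
theorem Q22195 : ∀ i, i < 22195 → P i := stepQ 22194 Q22194 (allL N22194 (tt N23646 (iv F46069)) (tt N20147 F42468) (tt N22666 (iv F43554)) (tt N20144 (iv D22232)) (tt N22665 F43553) (tt N23648 D23686))
theorem Q22196 : ∀ i, i < 22196 → P i := stepQ 22195 Q22195 (allL N22195 (tt N23647 (iv F46071)) (tt N20148 F42469) (tt N20153 F42470) (tt N23648 (iv F46074)) (tt N23063 (iv F44628)) (tt N20144 (iv D22233)))
theorem Q22197 : ∀ i, i < 22197 → P i := stepQ 22196 Q22196 (allL N22196 (tt N22297 (iv F42723)) (tt N22665 (iv F43551)) (tt N20640 F42472) (tt N20145 (iv D22234)) (tt N20147 F42471) (tt N23649 D23687))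
theorem Q22198 : ∀ i, i < 22198 → P i := stepQ 22197 Q22197 (allL N22197 (tt N22298 (iv F42725)) (tt N22657 (iv F43533)) (tt N20682 F42473) (tt N23649 (iv F46077)) (tt N20683 (iv F42474)) (tt N20145 (iv D22235)))
theorem Q22199 : ∀ i, i < 22199 → P i := stepQ 22198 Q22198 (allL N22198 (tt N22162 F42475) (tt N23046 (iv F44574)) (tt N20684 F42476) (tt N23650 D23688) (tt N20146 (iv D22236)) (tt N20683 F42477))
theorem Q22200 : ∀ i, i < 22200 → P i := stepQ 22199 Q22199 (allL N22199 (tt N20785 F42478) (tt N23651 D23689) (tt N20147 (iv D22237)) (tt N20638 F42480) (tt N20640 F42479) (tt N22893 (iv F44083)))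
theorem Q22201 : ∀ i, i < 22201 → P i := stepQ 22200 Q22200 (allL N22200 (tt N23643 (iv F46060)) (tt N23648 (iv F46073)) (tt N22893 (iv F44082)) (tt N20148 F42481) (tt N23652 D23690) (tt N20147 (iv D22238)))
theorem Q22202 : ∀ i, i < 22202 → P i := stepQ 22201 Q22201 (allL N22201 (tt N23644 (iv F46063)) (tt N23063 (iv F44626)) (tt N20150 F42482) (tt N23653 D23691) (tt N20148 (iv D22239)) (tt N20149 F42483))
theorem Q22203 : ∀ i, i < 22203 → P i := stepQ 22202 Q22202 (allL N22202 (tt N23645 (iv F46066)) (tt N23062 (iv F44625)) (tt N21026 F42484) (tt N20149 (iv D22240)) (tt N23650 (iv F46080)) (tt N23653 (iv F46087)))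
theorem Q22204 : ∀ i, i < 22204 → P i := stepQ 22203 Q22203 (allL N22203 (tt N20152 F42485) (tt N23399 (iv F45471)) (tt N23302 (iv F45215)) (tt N20151 (iv D22241)) (tt N23053 (iv F44598)) (tt N23286 (iv F45186)))
theorem Q22205 : ∀ i, i < 22205 → P i := stepQ 22204 Q22204 (allL N22204 (tt N20153 F42486) (tt N23387 (iv F45445)) (tt N23647 (iv F46072)) (tt N23286 (iv F45184)) (tt N23061 (iv F44624)) (tt N20151 (iv D22242)))
theorem Q22206 : ∀ i, i < 22206 → P i := stepQ 22205 Q22205 (allL N22205 (tt N20154 (iv D22243)) (tt N20821 F42487) (tt N22809 (iv F43908)) (tt N22258 (iv F42623)) (tt N22782 (iv F43831)) (tt N20157 F42488))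
theorem Q22207 : ∀ i, i < 22207 → P i := stepQ 22206 Q22206 (allL N22206 (tt N23654 D23692) (tt N20155 (iv D22244)) (tt N20788 F42489) (tt N23655 D23693) (tt N21522 F42490) (tt N20784 F42491))
theorem Q22208 : ∀ i, i < 22208 → P i := stepQ 22207 Q22207 (allL N22207 (tt N22893 (iv F44081)) (tt N23655 (iv F46091)) (tt N23643 (iv F46061)) (tt N20155 (iv D22245)) (tt N22880 (iv F44056)) (tt N20785 F42492))
theorem Q22209 : ∀ i, i < 22209 → P i := stepQ 22208 Q22208 (allL N22208 (tt N20158 F42493) (tt N20820 F42494) (tt N22818 (iv F43939)) (tt N20157 (iv D22246)) (tt N20819 F42495) (tt N22258 (iv F42625)))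
theorem Q22210 : ∀ i, i < 22210 → P i := stepQ 22209 Q22209 (allL N22209 (tt N22818 (iv F43937)) (tt N22247 (iv F42589)) (tt N20158 (iv D22247)) (tt N22817 (iv F43936)) (tt N22784 (iv F43838)) (tt N22257 (iv F42620)))
theorem Q22211 : ∀ i, i < 22211 → P i := stepQ 22210 Q22210 (allL N22210 (tt N21686 F42496) (tt N21639 F42497) (tt N21684 F42498) (tt N21921 F42499) (tt N20159 (iv D22248)) (tt N21717 F42500))
theorem Q22212 : ∀ i, i < 22212 → P i := stepQ 22211 Q22211 (allL N22211 (tt N20163 F42501) (tt N20164 F42502) (tt N23656 D23694) (tt N20162 (iv D22249)) (tt N20163 F42503) (tt N20163 F42504))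
theorem Q22213 : ∀ i, i < 22213 → P i := stepQ 22212 Q22212 (allL N22212 (tt N23656 (iv F46094)) (tt N23656 (iv F46095)) (tt N20163 (iv D22250)) (tt N23657 D23695) (tt N23656 (iv F46096)) (tt N23656 (iv F46097)))
theorem Q22214 : ∀ i, i < 22214 → P i := stepQ 22213 Q22213 (allL N22213 (tt N21148 F42505) (tt N20166 (iv D22251)) (tt N20167 F42506) (tt N23658 D23696) (tt N20196 F42507) (tt N20173 F42508))
theorem Q22215 : ∀ i, i < 22215 → P i := stepQ 22214 Q22214 (allL N22214 (tt N23205 (iv F44983)) (tt N23658 (iv F46100)) (tt N23657 (iv F46098)) (tt N20166 (iv D22252)) (tt N23204 (iv F44981)) (tt N23205 (iv F44986)))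
theorem Q22216 : ∀ i, i < 22216 → P i := stepQ 22215 Q22215 (allL N22215 (tt N22499 (iv F43145)) (tt N22621 (iv F43468)) (tt N22069 F42509) (tt N23360 (iv F45370)) (tt N20169 (iv D22253)) (tt N23659 D23697))
theorem Q22217 : ∀ i, i < 22217 → P i := stepQ 22216 Q22216 (allL N22216 (tt N21149 F42510) (tt N23205 (iv F44984)) (tt N23658 (iv F46101)) (tt N20173 (iv D22254)) (tt N21146 F42511) (tt N23658 (iv F46103)))
theorem Q22218 : ∀ i, i < 22218 → P i := stepQ 22217 Q22217 (allL N22217 (tt N20177 F42512) (tt N22508 (iv F43173)) (tt N20176 (iv D22255)) (tt N23660 D23698) (tt N22509 (iv F43176)) (tt N23329 (iv F45290)))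
theorem Q22219 : ∀ i, i < 22219 → P i := stepQ 22218 Q22218 (allL N22218 (tt N23660 (iv F46108)) (tt N23334 (iv F45302)) (tt N22276 (iv F42673)) (tt N20177 (iv D22256)) (tt N23661 D23699) (tt N23330 (iv F45294)))
theorem Q22220 : ∀ i, i < 22220 → P i := stepQ 22219 Q22219 (allL N22219 (tt N22509 F43177) (tt N23337 (iv F45306)) (tt N20178 F42513) (tt N23662 D23700) (tt N20177 (iv D22257)) (tt N23663 D23701))
theorem Q22221 : ∀ i, i < 22221 → P i := stepQ 22220 Q22220 (allL N22220 (tt N22327 (iv F42799)) (tt N20179 F42514) (tt N23663 (iv F46116)) (tt N20184 F42515) (tt N22039 F42516) (tt N20178 (iv D22258)))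
theorem Q22222 : ∀ i, i < 22222 → P i := stepQ 22221 Q22221 (allL N22221 (tt N21122 F42517) (tt N23550 (iv F45843)) (tt N21669 F42518) (tt N21121 (iv F42519)) (tt N20182 (iv D22259)) (tt N23152 (iv F44862)))
theorem Q22223 : ∀ i, i < 22223 → P i := stepQ 22222 Q22222 (allL N22222 (tt N20387 F42520) (tt N20389 F42521) (tt N21125 (iv F42523)) (tt N20183 (iv D22260)) (tt N21121 F42522) (tt N23422 (iv F45526)))
theorem Q22224 : ∀ i, i < 22224 → P i := stepQ 22223 Q22223 (allL N22223 (tt N21120 F42524) (tt N20192 F42525) (tt N20451 F42526) (tt N20190 (iv D22261)) (tt N20450 F42527) (tt N22006 F42528))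
theorem Q22225 : ∀ i, i < 22225 → P i := stepQ 22224 Q22224 (allL N22224 (tt N22017 F42529) (tt N20450 F42530) (tt N23024 (iv F44512)) (tt N20191 (iv D22262)) (tt N20192 F42531) (tt N20589 F42532))
theorem Q22226 : ∀ i, i < 22226 → P i := stepQ 22225 Q22225 (allL N22225 (tt N22016 F42533) (tt N23664 D23702) (tt N20192 (iv D22263)) (tt N22026 F42534) (tt N23024 (iv F44514)) (tt N22011 F42535))
theorem Q22227 : ∀ i, i < 22227 → P i := stepQ 22226 Q22226 (allL N22226 (tt N23367 F45387) (tt N23371 (iv F45398)) (tt N20198 (iv D22264)) (tt N22999 (iv F44423)) (tt N20839 F42536) (tt N20843 F42537))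
theorem Q22228 : ∀ i, i < 22228 → P i := stepQ 22227 Q22227 (allL N22227 (tt N20863 F42538) (tt N20201 F42539) (tt N22388 (iv F42917)) (tt N20200 F42540) (tt N22377 (iv F42895)) (tt N20199 (iv D22265)))
theorem Q22229 : ∀ i, i < 22229 → P i := stepQ 22228 Q22228 (allL N22228 (tt N20975 F42541) (tt N22382 (iv F42905)) (tt N20205 F42542) (tt N23461 (iv F45612)) (tt N20976 F42543) (tt N20204 (iv D22266)))
theorem Q22230 : ∀ i, i < 22230 → P i := stepQ 22229 Q22229 (allL N22229 (tt N20210 F42544) (tt N23266 (iv F45140)) (tt N20208 F42545) (tt N23665 D23703) (tt N20207 (iv D22267)) (tt N23666 D23704))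
theorem Q22231 : ∀ i, i < 22231 → P i := stepQ 22230 Q22230 (allL N22230 (tt N20211 F42546) (tt N20214 F42547) (tt N23666 (iv F46126)) (tt N21609 F42548) (tt N23414 (iv F45509)) (tt N20208 (iv D22268)))
theorem Q22232 : ∀ i, i < 22232 → P i := stepQ 22231 Q22231 (allL N22231 (tt N20262 F42549) (tt N23268 (iv F45145)) (tt N20259 F42550) (tt N23667 D23705) (tt N20209 (iv D22269)) (tt N23668 D23706))
theorem Q22233 : ∀ i, i < 22233 → P i := stepQ 22232 Q22232 (allL N22232 (tt N23665 (iv F46123)) (tt N23391 (iv F45456)) (tt N23669 D23707) (tt N20210 (iv D22270)) (tt N23667 (iv F46128)) (tt N23670 D23708))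
theorem Q22234 : ∀ i, i < 22234 → P i := stepQ 22233 Q22233 (allL N22233 (tt N23666 (iv F46125)) (tt N23392 (iv F45457)) (tt N20211 F42551) (tt N23670 (iv F46131)) (tt N23624 (iv F46035)) (tt N20210 (iv D22271)))
theorem Q22235 : ∀ i, i < 22235 → P i := stepQ 22234 Q22234 (allL N22234 (tt N20216 F42552) (tt N22158 F42553) (tt N20219 F42554) (tt N21628 (iv F42555)) (tt N20215 (iv D22272)) (tt N23671 D23709))
theorem Q22236 : ∀ i, i < 22236 → P i := stepQ 22235 Q22235 (allL N22235 (tt N21628 F42556) (tt N20217 F42557) (tt N21621 F42559) (tt N20216 (iv D22273)) (tt N21636 F42558) (tt N23672 D23710))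
theorem Q22237 : ∀ i, i < 22237 → P i := stepQ 22236 Q22236 (allL N22236 (tt N23671 (iv F46132)) (tt N20218 F42560) (tt N20220 F42561) (tt N23672 (iv F46140)) (tt N22161 F42562) (tt N20216 (iv D22274)))
theorem Q22238 : ∀ i, i < 22238 → P i := stepQ 22237 Q22237 (allL N22237 (tt N23406 (iv F45489)) (tt N23673 D23711) (tt N20217 (iv D22275)) (tt N23674 D23712) (tt N23401 (iv F45480)) (tt N23675 D23713))
theorem Q22239 : ∀ i, i < 22239 → P i := stepQ 22238 Q22238 (allL N22238 (tt N23407 (iv F45493)) (tt N23672 (iv F46138)) (tt N23675 (iv F46148)) (tt N20218 F42563) (tt N23676 D23714) (tt N20217 (iv D22276)))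
theorem Q22240 : ∀ i, i < 22240 → P i := stepQ 22239 Q22239 (allL N22239 (tt N20220 F42564) (tt N23388 (iv F45450)) (tt N23671 (iv F46134)) (tt N21176 F42565) (tt N21174 F42566) (tt N20219 (iv D22277)))
theorem Q22241 : ∀ i, i < 22241 → P i := stepQ 22240 Q22240 (allL N22240 (tt N22941 (iv F44239)) (tt N20224 (iv D22278)) (tt N22031 F42567) (tt N22937 (iv F44231)) (tt N20225 F42568) (tt N22941 (iv F44242)))
theorem Q22242 : ∀ i, i < 22242 → P i := stepQ 22241 Q22241 (allL N22241 (tt N20225 (iv D22279)) (tt N21166 F42569) (tt N22030 F42570) (tt N21165 (iv F42572)) (tt N22941 (iv F44241)) (tt N21616 F42571))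
theorem Q22243 : ∀ i, i < 22243 → P i := stepQ 22242 Q22242 (allL N22242 (tt N21165 F42573) (tt N20226 F42574) (tt N22814 (iv F43926)) (tt N20225 (iv D22280)) (tt N21243 (iv F42576)) (tt N21617 F42575))
theorem Q22244 : ∀ i, i < 22244 → P i := stepQ 22243 Q22243 (allL N22243 (tt N20230 F42577) (tt N22146 F42578) (tt N20228 F42579) (tt N22145 F42580) (tt N20227 (iv D22281)) (tt N23677 D23715))
theorem Q22245 : ∀ i, i < 22245 → P i := stepQ 22244 Q22244 (allL N22244 (tt N20232 F42581) (tt N20245 F42582) (tt N23677 (iv F46156)) (tt N20237 F42583) (tt N22481 (iv F43110)) (tt N20228 (iv D22282)))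
theorem Q22246 : ∀ i, i < 22246 → P i := stepQ 22245 Q22245 (allL N22245 (tt N22145 F42584) (tt N22482 (iv F43113)) (tt N22150 (iv F42586)) (tt N20230 (iv D22283)) (tt N22144 F42585) (tt N23678 D23716))
theorem Q22247 : ∀ i, i < 22247 → P i := stepQ 22246 Q22246 (allL N22246 (tt N23677 (iv F46154)) (tt N22478 (iv F43101)) (tt N20232 F42587) (tt N23678 (iv F46160)) (tt N22479 (iv F43105)) (tt N20230 (iv D22284)))
theorem Q22248 : ∀ i, i < 22248 → P i := stepQ 22247 Q22247 (allL N22247 (tt N20945 F42588) (tt N22209 F42589) (tt N20233 (iv D22285)) (tt N21622 F42590) (tt N22486 (iv F43119)) (tt N20243 F42591))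
theorem Q22249 : ∀ i, i < 22249 → P i := stepQ 22248 Q22248 (allL N22248 (tt N20257 F42592) (tt N20236 F42593) (tt N20250 F42594) (tt N23679 D23717) (tt N20234 (iv D22286)) (tt N22139 F42595))
theorem Q22250 : ∀ i, i < 22250 → P i := stepQ 22249 Q22249 (allL N22249 (tt N20240 F42596) (tt N20279 F42597) (tt N23294 (iv F45204)) (tt N23680 D23718) (tt N20235 (iv D22287)) (tt N23681 D23719))
theorem Q22251 : ∀ i, i < 22251 → P i := stepQ 22250 Q22250 (allL N22250 (tt N20241 F42598) (tt N23679 (iv F46162)) (tt N23682 D23720) (tt N20236 (iv D22288)) (tt N23680 (iv F46167)) (tt N23683 D23721))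
theorem Q22252 : ∀ i, i < 22252 → P i := stepQ 22251 Q22251 (allL N22251 (tt N20242 F42599) (tt N22139 F42600) (tt N20237 F42601) (tt N23683 (iv F46177)) (tt N20261 F42602) (tt N20236 (iv D22289)))
theorem Q22253 : ∀ i, i < 22253 → P i := stepQ 22252 Q22252 (allL N22252 (tt N23294 (iv F45202)) (tt N20278 F42603) (tt N20240 F42604) (tt N23684 D23722) (tt N20239 (iv D22290)) (tt N23248 (iv F45092)))
theorem Q22254 : ∀ i, i < 22254 → P i := stepQ 22253 Q22253 (allL N22253 (tt N23680 (iv F46165)) (tt N20268 F42605) (tt N23685 D23723) (tt N20240 (iv D22291)) (tt N20241 F42606) (tt N23685 F46183))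
theorem Q22255 : ∀ i, i < 22255 → P i := stepQ 22254 Q22254 (allL N22254 (tt N23681 (iv F46168)) (tt N20267 F42607) (tt N23248 (iv F45091)) (tt N23685 F46182) (tt N20264 F42608) (tt N20240 (iv D22292)))
theorem Q22256 : ∀ i, i < 22256 → P i := stepQ 22255 Q22255 (allL N22255 (tt N23682 (iv F46171)) (tt N22129 F42609) (tt N20241 (iv D22293)) (tt N22152 F42610) (tt N23685 (iv F46181)) (tt N22151 (iv F42611)))
theorem Q22257 : ∀ i, i < 22257 → P i := stepQ 22256 Q22256 (allL N22256 (tt N23683 (iv F46174)) (tt N20269 F42612) (tt N22151 F42613) (tt N20242 F42614) (tt N22151 (iv F42615)) (tt N20241 (iv D22294)))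
theorem Q22258 : ∀ i, i < 22258 → P i := stepQ 22257 Q22257 (allL N22257 (tt N21053 F42616) (tt N20243 (iv D22295)) (tt N20244 F42617) (tt N21052 F42618) (tt N20273 F42619) (tt N22209 F42620))
theorem Q22259 : ∀ i, i < 22259 → P i := stepQ 22258 Q22258 (allL N22258 (tt N20244 (iv D22296)) (tt N20254 F42621) (tt N21053 F42622) (tt N22205 F42623) (tt N20277 F42624) (tt N22208 F42625))
theorem Q22260 : ∀ i, i < 22260 → P i := stepQ 22259 Q22259 (allL N22259 (tt N20247 F42626) (tt N22435 (iv F43002)) (tt N20249 F42627) (tt N22435 (iv F43004)) (tt N20246 (iv D22297)) (tt N21976 F42628))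
theorem Q22261 : ∀ i, i < 22261 → P i := stepQ 22260 Q22260 (allL N22260 (tt N23679 (iv F46161)) (tt N20258 F42629) (tt N23686 D23724) (tt N20257 (iv D22298)) (tt N20280 F42630) (tt N22142 F42631))
theorem Q22262 : ∀ i, i < 22262 → P i := stepQ 22261 Q22261 (allL N22261 (tt N20270 F42632) (tt N23687 D23725) (tt N20258 (iv D22299)) (tt N22088 F42635) (tt N20282 F42633) (tt N22096 F42634))
theorem Q22263 : ∀ i, i < 22263 → P i := stepQ 22262 Q22262 (allL N22262 (tt N20263 F42636) (tt N22138 F42637) (tt N23688 D23726) (tt N20259 (iv D22300)) (tt N20260 F42638) (tt N23689 D23727))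
theorem Q22264 : ∀ i, i < 22264 → P i := stepQ 22263 Q22263 (allL N22263 (tt N20264 F42639) (tt N23289 (iv F45193)) (tt N23668 (iv F46130)) (tt N23689 (iv F46194)) (tt N23681 (iv F46170)) (tt N20259 (iv D22301)))
theorem Q22265 : ∀ i, i < 22265 → P i := stepQ 22264 Q22264 (allL N22264 (tt N20265 F42640) (tt N22667 (iv F43557)) (tt N20260 (iv D22302)) (tt N22660 (iv F43540)) (tt N23688 (iv F46191)) (tt N22144 F42641))
theorem Q22266 : ∀ i, i < 22266 → P i := stepQ 22265 Q22265 (allL N22265 (tt N23667 (iv F46127)) (tt N23267 (iv F45143)) (tt N23690 D23728) (tt N20262 (iv D22303)) (tt N23665 (iv F46124)) (tt N23691 D23729))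
theorem Q22267 : ∀ i, i < 22267 → P i := stepQ 22266 Q22266 (allL N22266 (tt N23668 (iv F46129)) (tt N23250 (iv F45097)) (tt N20264 F42642) (tt N23691 (iv F46196)) (tt N23248 F45093) (tt N20262 (iv D22304)))
theorem Q22268 : ∀ i, i < 22268 → P i := stepQ 22267 Q22267 (allL N22267 (tt N23688 (iv F46190)) (tt N22148 F42643) (tt N20263 (iv D22305)) (tt N23692 D23730) (tt N20265 F42644) (tt N23693 D23731))
theorem Q22269 : ∀ i, i < 22269 → P i := stepQ 22268 Q22268 (allL N22268 (tt N23689 (iv F46192)) (tt N20266 F42645) (tt N23693 (iv F46199)) (tt N20264 F42646) (tt N22152 F42647) (tt N20263 (iv D22306)))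
theorem Q22270 : ∀ i, i < 22270 → P i := stepQ 22269 Q22269 (allL N22269 (tt N20283 F42648) (tt N23685 (iv F46180)) (tt N22098 F42649) (tt N20267 (iv D22307)) (tt N22129 F42650) (tt N20268 F42651))
theorem Q22271 : ∀ i, i < 22271 → P i := stepQ 22270 Q22270 (allL N22270 (tt N20282 F42652) (tt N22098 (iv F42656)) (tt N20268 (iv D22308)) (tt N22097 F42653) (tt N20270 F42654) (tt N22098 F42655))
theorem Q22272 : ∀ i, i < 22272 → P i := stepQ 22271 Q22271 (allL N22271 (tt N22096 F42657) (tt N22125 F42658) (tt N20269 (iv D22309)) (tt N22083 F42659) (tt N22125 F42660) (tt N20270 F42661))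
theorem Q22273 : ∀ i, i < 22273 → P i := stepQ 22272 Q22272 (allL N22272 (tt N20275 F42662) (tt N21624 F42663) (tt N20272 F42664) (tt N21623 F42665) (tt N23694 D23732) (tt N20271 (iv D22310)))
theorem Q22274 : ∀ i, i < 22274 → P i := stepQ 22273 Q22273 (allL N22273 (tt N20276 F42666) (tt N20947 F42667) (tt N23694 (iv F46203)) (tt N22481 (iv F43109)) (tt N20272 (iv D22311)) (tt N20946 F42668))
theorem Q22275 : ∀ i, i < 22275 → P i := stepQ 22274 Q22274 (allL N22274 (tt N21623 F42669) (tt N22322 F42789) (tt N22660 (iv F43539)) (tt N20275 F42670) (tt N23695 D23733) (tt N20274 (iv D22312)))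
theorem Q22276 : ∀ i, i < 22276 → P i := stepQ 22275 Q22275 (allL N22275 (tt N23694 (iv F46201)) (tt N21014 F42671) (tt N20276 F42672) (tt N23696 D23734) (tt N20275 (iv D22313)) (tt N22486 (iv F43120)))
theorem Q22277 : ∀ i, i < 22277 → P i := stepQ 22276 Q22276 (allL N22276 (tt N23256 (iv F45107)) (tt N23684 (iv F46179)) (tt N22218 F42673) (tt N20278 (iv D22314)) (tt N23416 (iv F45513)) (tt N23249 (iv F45095)))
theorem Q22278 : ∀ i, i < 22278 → P i := stepQ 22277 Q22277 (allL N22277 (tt N20280 F42674) (tt N23680 (iv F46166)) (tt N23697 D23735) (tt N20279 (iv D22315)) (tt N23679 (iv F46163)) (tt N23698 D23736))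
theorem Q22279 : ∀ i, i < 22279 → P i := stepQ 22278 Q22278 (allL N22278 (tt N20281 F42675) (tt N23681 (iv F46169)) (tt N23237 (iv F45065)) (tt N23698 (iv F46211)) (tt N23289 (iv F45195)) (tt N20279 (iv D22316)))
theorem Q22280 : ∀ i, i < 22280 → P i := stepQ 22279 Q22279 (allL N22279 (tt N23697 (iv F46209)) (tt N23699 D23737) (tt N20280 (iv D22317)) (tt N23700 D23738) (tt N23686 (iv F46184)) (tt N23701 D23739))
theorem Q22281 : ∀ i, i < 22281 → P i := stepQ 22280 Q22280 (allL N22280 (tt N23698 (iv F46210)) (tt N20283 F42676) (tt N23701 (iv F46216)) (tt N20281 F42677) (tt N23702 D23740) (tt N20280 (iv D22318)))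
theorem Q22282 : ∀ i, i < 22282 → P i := stepQ 22281 Q22281 (allL N22281 (tt N21000 F42678) (tt N20282 (iv D22319)) (tt N23699 (iv F46212)) (tt N20997 F42679) (tt N23687 (iv F46188)) (tt N21000 F42680))
theorem Q22283 : ∀ i, i < 22283 → P i := stepQ 22282 Q22282 (allL N22282 (tt N22129 F42681) (tt N23702 (iv F46217)) (tt N22110 F42682) (tt N22124 F42683) (tt N20283 (iv D22320)) (tt N22128 F42684))
theorem Q22284 : ∀ i, i < 22284 → P i := stepQ 22283 Q22283 (allL N22283 (tt N20287 F42685) (tt N21408 F42686) (tt N22175 F42687) (tt N20284 (iv D22321)) (tt N23703 D23741) (tt N21390 F42688))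
theorem Q22285 : ∀ i, i < 22285 → P i := stepQ 22284 Q22284 (allL N22284 (tt N20288 F42689) (tt N23068 (iv F44644)) (tt N20285 F42690) (tt N23067 (iv F44642)) (tt N20284 (iv D22322)) (tt N23066 F44639))
theorem Q22286 : ∀ i, i < 22286 → P i := stepQ 22285 Q22285 (allL N22285 (tt N20289 F42691) (tt N21388 F42692) (tt N23066 F44638) (tt N22181 F42693) (tt N21401 F42694) (tt N20285 (iv D22323)))
theorem Q22287 : ∀ i, i < 22287 → P i := stepQ 22286 Q22286 (allL N22286 (tt N20290 F42695) (tt N21389 F42696) (tt N23584 (iv F45939)) (tt N20286 (iv D22324)) (tt N21400 F42697) (tt N22182 F42698))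
theorem Q22288 : ∀ i, i < 22288 → P i := stepQ 22287 Q22287 (allL N22287 (tt N22175 F42699) (tt N21405 F42700) (tt N20287 (iv D22325)) (tt N22174 F42701) (tt N23704 D23742) (tt N21391 F42702))
theorem Q22289 : ∀ i, i < 22289 → P i := stepQ 22288 Q22288 (allL N22288 (tt N23703 (iv F46220)) (tt N21397 F42703) (tt N23704 (iv F46225)) (tt N23705 D23743) (tt N20287 (iv D22326)) (tt N23706 D23744))
theorem Q22290 : ∀ i, i < 22290 → P i := stepQ 22289 Q22289 (allL N22289 (tt N23067 (iv F44640)) (tt N21399 F42704) (tt N23637 (iv F46053)) (tt N20288 (iv D22327)) (tt N23705 (iv F46227)) (tt N23064 F44632))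
theorem Q22291 : ∀ i, i < 22291 → P i := stepQ 22290 Q22290 (allL N22290 (tt N23066 (iv F44635)) (tt N21398 F42705) (tt N20289 F42706) (tt N23064 (iv F44631)) (tt N21394 F42707) (tt N20288 (iv D22328)))
theorem Q22292 : ∀ i, i < 22292 → P i := stepQ 22291 Q22291 (allL N22291 (tt N23584 F45941) (tt N23588 (iv F45948)) (tt N20290 (iv D22329)) (tt N23707 D23745) (tt N21402 F42708) (tt N22186 F42709))
theorem Q22293 : ∀ i, i < 22293 → P i := stepQ 22292 Q22292 (allL N22292 (tt N20294 F42710) (tt N21251 F42711) (tt N22177 F42712) (tt N20292 (iv D22330)) (tt N23708 D23746) (tt N21231 F42713))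
theorem Q22294 : ∀ i, i < 22294 → P i := stepQ 22293 Q22293 (allL N22293 (tt N22177 F42714) (tt N21246 F42715) (tt N20294 (iv D22331)) (tt N22172 F42716) (tt N23709 D23747) (tt N21232 F42717))
theorem Q22295 : ∀ i, i < 22295 → P i := stepQ 22294 Q22294 (allL N22294 (tt N23708 (iv F46236)) (tt N21237 F42718) (tt N23709 (iv F46241)) (tt N23710 D23748) (tt N20294 (iv D22332)) (tt N23711 D23749))
theorem Q22296 : ∀ i, i < 22296 → P i := stepQ 22295 Q22295 (allL N22295 (tt N23102 (iv F44733)) (tt N21238 F42719) (tt N23712 D23750) (tt N20295 (iv D22333)) (tt N23710 (iv F46243)) (tt N23123 (iv F44798)))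
theorem Q22297 : ∀ i, i < 22297 → P i := stepQ 22296 Q22296 (allL N22296 (tt N21378 F42720) (tt N20307 F42721) (tt N20309 F42722) (tt N23713 D23751) (tt N20306 (iv D22334)) (tt N23714 D23752))
theorem Q22298 : ∀ i, i < 22298 → P i := stepQ 22297 Q22297 (allL N22297 (tt N22196 F42723) (tt N23713 (iv F46247)) (tt N22498 (iv F43144)) (tt N20307 (iv D22335)) (tt N22188 F42724) (tt N23420 (iv F45520)))
theorem Q22299 : ∀ i, i < 22299 → P i := stepQ 22298 Q22298 (allL N22298 (tt N22197 F42725) (tt N23714 (iv F46250)) (tt N20308 F42726) (tt N23420 (iv F45519)) (tt N22533 (iv F43258)) (tt N20307 (iv D22336)))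
theorem Q22300 : ∀ i, i < 22300 → P i := stepQ 22299 Q22299 (allL N22299 (tt N21379 F42727) (tt N20311 F42728) (tt N23714 (iv F46251)) (tt N22875 (iv F44042)) (tt N21514 F42729) (tt N20309 (iv D22337)))
theorem Q22301 : ∀ i, i < 22301 → P i := stepQ 22300 Q22300 (allL N22300 (tt N21204 F42730) (tt N22875 (iv F44041)) (tt N21345 F42731) (tt N20311 F42732) (tt N21357 F42733) (tt N20310 (iv D22338)))
theorem Q22302 : ∀ i, i < 22302 → P i := stepQ 22301 Q22301 (allL N22301 (tt N20327 F42734) (tt N23470 (iv F45635)) (tt N20314 (iv D22339)) (tt N20320 F42735) (tt N22522 (iv F43224)) (tt N20319 F42736))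
theorem Q22303 : ∀ i, i < 22303 → P i := stepQ 22302 Q22302 (allL N22302 (tt N20318 (iv D22340)) (tt N20326 F42737) (tt N20335 F42738) (tt N23448 (iv F45583)) (tt N23163 (iv F44888)) (tt N20364 (iv F42739)))
theorem Q22304 : ∀ i, i < 22304 → P i := stepQ 22303 Q22303 (allL N22303 (tt N23448 (iv F45580)) (tt N20319 F42740) (tt N23466 (iv F45627)) (tt N20318 (iv D22341)) (tt N20625 F42741) (tt N23470 (iv F45637)))
theorem Q22305 : ∀ i, i < 22305 → P i := stepQ 22304 Q22304 (allL N22304 (tt N20364 F42742) (tt N20320 F42743) (tt N20337 F42744) (tt N23470 (iv F45636)) (tt N23715 D23753) (tt N20318 (iv D22342)))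
theorem Q22306 : ∀ i, i < 22306 → P i := stepQ 22305 Q22305 (allL N22305 (tt N20328 F42745) (tt N23715 (iv F46254)) (tt N20321 F42746) (tt N23716 D23754) (tt N20320 (iv D22343)) (tt N23164 (iv F44892)))
theorem Q22307 : ∀ i, i < 22307 → P i := stepQ 22306 Q22306 (allL N22306 (tt N20322 (iv D22344)) (tt N23163 (iv F44885)) (tt N20333 F42747) (tt N20489 F42748) (tt N20326 F42749) (tt N20499 F42750))
theorem Q22308 : ∀ i, i < 22308 → P i := stepQ 22307 Q22307 (allL N22307 (tt N20576 F42751) (tt N20500 F42752) (tt N20573 F42753) (tt N20324 F42754) (tt N22527 (iv F43240)) (tt N20323 (iv D22345)))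
theorem Q22309 : ∀ i, i < 22309 → P i := stepQ 22308 Q22308 (allL N22308 (tt N23164 (iv F44890)) (tt N20371 F42755) (tt N20325 F42756) (tt N23717 D23755) (tt N20324 (iv D22346)) (tt N20328 F42757))
theorem Q22310 : ∀ i, i < 22310 → P i := stepQ 22309 Q22309 (allL N22309 (tt N23716 (iv F46256)) (tt N20370 F42758) (tt N23718 D23756) (tt N20328 (iv D22347)) (tt N22529 F43244) (tt N23717 (iv F46258)))
theorem Q22311 : ∀ i, i < 22311 → P i := stepQ 22310 Q22310 (allL N22310 (tt N21124 F42759) (tt N20537 F42760) (tt N20329 (iv D22348)) (tt N23719 D23757) (tt N20330 F42761) (tt N20390 F42762))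
theorem Q22312 : ∀ i, i < 22312 → P i := stepQ 22311 Q22311 (allL N22311 (tt N20331 (iv D22349)) (tt N21121 F42763) (tt N20334 F42764) (tt N23550 (iv F45845)) (tt N20389 F42765) (tt N20860 F42766))
theorem Q22313 : ∀ i, i < 22313 → P i := stepQ 22312 Q22312 (allL N22312 (tt N20336 F42767) (tt N20345 F42768) (tt N22554 F43323) (tt N20335 (iv D22350)) (tt N23720 D23758) (tt N20358 F42769))
theorem Q22314 : ∀ i, i < 22314 → P i := stepQ 22313 Q22313 (allL N22313 (tt N23720 (iv F46264)) (tt N20338 F42770) (tt N23233 (iv F45053)) (tt N22992 (iv F44399)) (tt N20336 (iv D22351)) (tt N22991 F44396))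
theorem Q22315 : ∀ i, i < 22315 → P i := stepQ 22314 Q22314 (allL N22314 (tt N20809 F42771) (tt N20339 F42772) (tt N23715 (iv F46255)) (tt N23015 (iv F44482)) (tt N20337 (iv D22352)) (tt N23014 F44479))
theorem Q22316 : ∀ i, i < 22316 → P i := stepQ 22315 Q22315 (allL N22315 (tt N20341 F42773) (tt N23012 (iv F44470)) (tt N23023 (iv F44508)) (tt N20340 (iv D22353)) (tt N23721 D23759) (tt N23009 F44458))
theorem Q22317 : ∀ i, i < 22317 → P i := stepQ 22316 Q22316 (allL N22316 (tt N20342 F42774) (tt N23011 (iv F44465)) (tt N20351 F42775) (tt N23009 (iv F44457)) (tt N20534 F42776) (tt N20340 (iv D22354)))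
theorem Q22318 : ∀ i, i < 22318 → P i := stepQ 22317 Q22317 (allL N22317 (tt N23023 (iv F44506)) (tt N23027 (iv F44520)) (tt N20341 (iv D22355)) (tt N23722 D23760) (tt N23723 D23761) (tt N23021 F44501))
theorem Q22319 : ∀ i, i < 22319 → P i := stepQ 22318 Q22318 (allL N22318 (tt N23721 (iv F46266)) (tt N20343 F42777) (tt N23723 (iv F46270)) (tt N20346 F42778) (tt N20341 (iv D22356)) (tt N22921 (iv F44188)))
theorem Q22320 : ∀ i, i < 22320 → P i := stepQ 22319 Q22319 (allL N22319 (tt N20346 F42779) (tt N23720 (iv F46265)) (tt N20799 F42780) (tt N23721 (iv F46267)) (tt N20345 (iv D22357)) (tt N22772 (iv F43812)))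
theorem Q22321 : ∀ i, i < 22321 → P i := stepQ 22320 Q22320 (allL N22320 (tt N22772 (iv F43810)) (tt N20348 F42781) (tt N22616 (iv F43458)) (tt N22921 (iv F44187)) (tt N20813 F42782) (tt N20346 (iv D22358)))
theorem Q22322 : ∀ i, i < 22322 → P i := stepQ 22321 Q22321 (allL N22321 (tt N22681 (iv F43585)) (tt N20452 F42783) (tt N23022 (iv F44504)) (tt N20352 (iv D22359)) (tt N21782 F42784) (tt N20449 F42785))
theorem Q22323 : ∀ i, i < 22323 → P i := stepQ 22322 Q22322 (allL N22322 (tt N20356 F42786) (tt N22274 (iv F42789)) (tt N20355 (iv D22360)) (tt N20552 F42787) (tt N23229 (iv F45045)) (tt N20544 F42788))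
theorem Q22324 : ∀ i, i < 22324 → P i := stepQ 22323 Q22323 (allL N22323 (tt N20552 F42790) (tt N20547 F42791) (tt N20550 F42792) (tt N20356 (iv D22361)) (tt N22788 (iv F43849)) (tt N20545 F42793))
theorem Q22325 : ∀ i, i < 22325 → P i := stepQ 22324 Q22324 (allL N22324 (tt N20359 F42794) (tt N20810 F42795) (tt N22587 (iv F43393)) (tt N22771 (iv F43808)) (tt N20358 (iv D22362)) (tt N22770 F43805))
theorem Q22326 : ∀ i, i < 22326 → P i := stepQ 22325 Q22325 (allL N22325 (tt N20362 F42796) (tt N22585 (iv F43384)) (tt N23724 D23762) (tt N20361 (iv D22363)) (tt N22702 (iv F43624)) (tt N20647 F42797))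
theorem Q22327 : ∀ i, i < 22327 → P i := stepQ 22326 Q22326 (allL N22326 (tt N23724 (iv F46271)) (tt N23725 D23763) (tt N20362 (iv D22364)) (tt N23726 D23764) (tt N23464 (iv F45620)) (tt N20650 F42798))
theorem Q22328 : ∀ i, i < 22328 → P i := stepQ 22327 Q22327 (allL N22327 (tt N22220 F42799) (tt N20363 (iv D22365)) (tt N23725 (iv F46274)) (tt N20953 F42800) (tt N23465 (iv F45623)) (tt N20796 F42801))
theorem Q22329 : ∀ i, i < 22329 → P i := stepQ 22328 Q22328 (allL N22328 (tt N23470 (iv F45634)) (tt N20365 F42802) (tt N23463 (iv F45617)) (tt N20364 (iv D22366)) (tt N23727 D23765) (tt N23448 F45584))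
theorem Q22330 : ∀ i, i < 22330 → P i := stepQ 22329 Q22329 (allL N22329 (tt N23715 (iv F46253)) (tt N20366 F42803) (tt N20809 F42804) (tt N23728 D23766) (tt N20364 (iv D22367)) (tt N23729 D23767))
theorem Q22331 : ∀ i, i < 22331 → P i := stepQ 22330 Q22330 (allL N22330 (tt N20369 F42805) (tt N23727 (iv F46280)) (tt N22531 (iv F43251)) (tt N23730 D23768) (tt N20365 (iv D22368)) (tt N22523 (iv F43228)))
theorem Q22332 : ∀ i, i < 22332 → P i := stepQ 22331 Q22331 (allL N22331 (tt N20370 F42806) (tt N23728 (iv F46282)) (tt N23447 (iv F45579)) (tt N20366 (iv D22369)) (tt N23730 (iv F46287)) (tt N23455 (iv F45598)))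
theorem Q22333 : ∀ i, i < 22333 → P i := stepQ 22332 Q22332 (allL N22332 (tt N20371 F42807) (tt N23729 (iv F46283)) (tt N20367 F42808) (tt N23455 (iv F45597)) (tt N20499 F42809) (tt N20366 (iv D22370)))
theorem Q22334 : ∀ i, i < 22334 → P i := stepQ 22333 Q22333 (allL N22333 (tt N20372 F42810) (tt N22679 (iv F43578)) (tt N20368 (iv D22371)) (tt N23731 D23769) (tt N20478 F42811) (tt N20487 F42812))
theorem Q22335 : ∀ i, i < 22335 → P i := stepQ 22334 Q22334 (allL N22334 (tt N23730 (iv F46286)) (tt N22529 (iv F43242)) (tt N23732 D23770) (tt N20369 (iv D22372)) (tt N20370 F42813) (tt N22525 (iv F43234)))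
theorem Q22336 : ∀ i, i < 22336 → P i := stepQ 22335 Q22335 (allL N22335 (tt N23447 (iv F45576)) (tt N23733 D23771) (tt N20370 (iv D22373)) (tt N23446 (iv F45575)) (tt N23732 (iv F46291)) (tt N23452 (iv F45591)))
theorem Q22337 : ∀ i, i < 22337 → P i := stepQ 22336 Q22336 (allL N22336 (tt N23455 (iv F45596)) (tt N23717 (iv F46257)) (tt N23452 (iv F45590)) (tt N20371 F42814) (tt N23734 D23772) (tt N20370 (iv D22374)))
theorem Q22338 : ∀ i, i < 22338 → P i := stepQ 22337 Q22337 (allL N22337 (tt N23731 (iv F46288)) (tt N20484 F42815) (tt N23735 D23773) (tt N20372 (iv D22375)) (tt N23736 D23774) (tt N20493 F42816))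
theorem Q22339 : ∀ i, i < 22339 → P i := stepQ 22338 Q22338 (allL N22338 (tt N20794 F42817) (tt N21743 F42818) (tt N21001 F42819) (tt N20769 F42820) (tt N20375 (iv D22376)) (tt N20768 F42821))
theorem Q22340 : ∀ i, i < 22340 → P i := stepQ 22339 Q22339 (allL N22339 (tt N22615 (iv F43452)) (tt N23580 (iv F45928)) (tt N20381 (iv D22377)) (tt N23602 (iv F45989)) (tt N22503 (iv F43164)) (tt N21142 F42822))
theorem Q22341 : ∀ i, i < 22341 → P i := stepQ 22340 Q22340 (allL N22340 (tt N20383 (iv D22378)) (tt N21320 F42823) (tt N21130 F42824) (tt N23376 (iv F45410)) (tt N21318 F42825) (tt N23737 D23775))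
theorem Q22342 : ∀ i, i < 22342 → P i := stepQ 22341 Q22341 (allL N22341 (tt N23376 (iv F45407)) (tt N20384 F42826) (tt N23370 (iv F45396)) (tt N20383 (iv D22379)) (tt N23369 (iv F45393)) (tt N20835 (iv F42827)))
theorem Q22343 : ∀ i, i < 22343 → P i := stepQ 22342 Q22342 (allL N22342 (tt N23737 (iv F46298)) (tt N20385 F42828) (tt N21132 F42829) (tt N20835 F42830) (tt N23738 D23776) (tt N20383 (iv D22380)))
theorem Q22344 : ∀ i, i < 22344 → P i := stepQ 22343 Q22343 (allL N22343 (tt N20843 F42831) (tt N23369 (iv F45391)) (tt N20836 F42832) (tt N23162 (iv F44884)) (tt N20384 (iv D22381)) (tt N23367 F45388))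
theorem Q22345 : ∀ i, i < 22345 → P i := stepQ 22344 Q22344 (allL N22344 (tt N20842 F42833) (tt N23738 (iv F46302)) (tt N20386 F42834) (tt N23739 D23777) (tt N20385 (iv D22382)) (tt N23114 (iv F44770)))
theorem Q22346 : ∀ i, i < 22346 → P i := stepQ 22345 Q22345 (allL N22345 (tt N23421 (iv F45521)) (tt N23437 (iv F45555)) (tt N23740 D23778) (tt N20390 (iv D22383)) (tt N22502 F43160) (tt N23719 (iv F46262)))
theorem Q22347 : ∀ i, i < 22347 → P i := stepQ 22346 Q22346 (allL N22346 (tt N22642 (iv F43507)) (tt N20398 F42835) (tt N22815 (iv F43929)) (tt N22636 F43499) (tt N23549 (iv F45841)) (tt N20397 (iv D22384)))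
theorem Q22348 : ∀ i, i < 22348 → P i := stepQ 22347 Q22347 (allL N22347 (tt N22015 F42836) (tt N23741 D23779) (tt N20399 (iv D22385)) (tt N22011 F42837) (tt N23044 F44567) (tt N22026 F42838))
theorem Q22349 : ∀ i, i < 22349 → P i := stepQ 22348 Q22348 (allL N22348 (tt N20412 F42839) (tt N23622 (iv F46029)) (tt N23222 (iv F45022)) (tt N20405 (iv D22386)) (tt N20421 F42840) (tt N23223 (iv F45028)))
theorem Q22350 : ∀ i, i < 22350 → P i := stepQ 22349 Q22349 (allL N22349 (tt N20409 F42841) (tt N21861 F42842) (tt N22515 (iv F43198)) (tt N21850 F42843) (tt N20407 (iv D22387)) (tt N23742 D23780))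
theorem Q22351 : ∀ i, i < 22351 → P i := stepQ 22350 Q22350 (allL N22350 (tt N22515 (iv F43197)) (tt N22908 (iv F44145)) (tt N20409 F42844) (tt N22711 (iv F43644)) (tt N20408 (iv D22388)) (tt N23743 D23781))
theorem Q22352 : ∀ i, i < 22352 → P i := stepQ 22351 Q22351 (allL N22351 (tt N23742 (iv F46310)) (tt N20410 F42845) (tt N23743 (iv F46313)) (tt N21858 F42846) (tt N22796 (iv F43869)) (tt N20409 (iv D22389)))
theorem Q22353 : ∀ i, i < 22353 → P i := stepQ 22352 Q22352 (allL N22352 (tt N20422 F42847) (tt N22796 (iv F43868)) (tt N20418 F42848) (tt N23744 D23782) (tt N20410 (iv D22390)) (tt N20411 F42849))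
theorem Q22354 : ∀ i, i < 22354 → P i := stepQ 22353 Q22353 (allL N22353 (tt N20421 F42850) (tt N22795 (iv F43866)) (tt N23232 (iv F45049)) (tt N20411 (iv D22391)) (tt N20412 F42851) (tt N23744 (iv F46318)))
theorem Q22355 : ∀ i, i < 22355 → P i := stepQ 22354 Q22354 (allL N22354 (tt N20849 F42852) (tt N20415 F42853) (tt N22193 (iv F42856)) (tt N20414 (iv D22392)) (tt N21367 F42854) (tt N20844 F42855))
theorem Q22356 : ∀ i, i < 22356 → P i := stepQ 22355 Q22355 (allL N22355 (tt N22517 (iv F43205)) (tt N22512 (iv F43184)) (tt N20625 F42857) (tt N20416 (iv D22393)) (tt N23466 (iv F45628)) (tt N22511 F43182))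
theorem Q22357 : ∀ i, i < 22357 → P i := stepQ 22356 Q22356 (allL N22356 (tt N23094 (iv F44712)) (tt N22794 (iv F43863)) (tt N20417 F42858) (tt N23449 (iv F45587)) (tt N20416 (iv D22394)) (tt N23745 D23783))
theorem Q22358 : ∀ i, i < 22358 → P i := stepQ 22357 Q22357 (allL N22357 (tt N23093 (iv F44708)) (tt N20418 F42859) (tt N23745 (iv F46319)) (tt N20431 F42860) (tt N22909 (iv F44150)) (tt N20417 (iv D22395)))
theorem Q22359 : ∀ i, i < 22359 → P i := stepQ 22358 Q22358 (allL N22358 (tt N20420 F42861) (tt N22793 (iv F43860)) (tt N23104 (iv F44742)) (tt N23746 D23784) (tt N20419 (iv D22396)) (tt N23747 D23785))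
theorem Q22360 : ∀ i, i < 22360 → P i := stepQ 22359 Q22359 (allL N22359 (tt N23746 (iv F46320)) (tt N20421 F42862) (tt N23748 D23786) (tt N20420 (iv D22397)) (tt N23622 F46031) (tt N23749 D23787))
theorem Q22361 : ∀ i, i < 22361 → P i := stepQ 22360 Q22360 (allL N22360 (tt N23747 (iv F46323)) (tt N20422 F42863) (tt N23101 (iv F44730)) (tt N23749 (iv F46326)) (tt N22922 (iv F44190)) (tt N20420 (iv D22398)))
theorem Q22362 : ∀ i, i < 22362 → P i := stepQ 22361 Q22361 (allL N22361 (tt N23232 (iv F45048)) (tt N23750 D23788) (tt N20421 (iv D22399)) (tt N22846 (iv F44002)) (tt N23222 (iv F45023)) (tt N22845 F43999))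
theorem Q22363 : ∀ i, i < 22363 → P i := stepQ 22362 Q22362 (allL N22362 (tt N23744 (iv F46314)) (tt N23749 (iv F46325)) (tt N22845 (iv F43998)) (tt N20422 F42864) (tt N23224 (iv F45030)) (tt N20421 (iv D22400)))
theorem Q22364 : ∀ i, i < 22364 → P i := stepQ 22363 Q22363 (allL N22363 (tt N22747 (iv F43732)) (tt N22918 (iv F44177)) (tt N22750 (iv F43742)) (tt N20424 (iv D22401)) (tt N22747 (iv F43733)) (tt N22751 (iv F43743)))
theorem Q22365 : ∀ i, i < 22365 → P i := stepQ 22364 Q22364 (allL N22364 (tt N22748 (iv F43734)) (tt N22919 (iv F44179)) (tt N20425 F42865) (tt N22751 (iv F43744)) (tt N22924 (iv F44198)) (tt N20424 (iv D22402)))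
theorem Q22366 : ∀ i, i < 22366 → P i := stepQ 22365 Q22365 (allL N22365 (tt N20430 F42866) (tt N23013 (iv F44474)) (tt N20428 F42867) (tt N23751 D23789) (tt N20427 (iv D22403)) (tt N23121 (iv F44791)))
theorem Q22367 : ∀ i, i < 22367 → P i := stepQ 22366 Q22366 (allL N22366 (tt N23013 (iv F44473)) (tt N22755 F43754) (tt N23010 (iv F44461)) (tt N23752 D23790) (tt N20429 (iv D22404)) (tt N23753 D23791))
theorem Q22368 : ∀ i, i < 22368 → P i := stepQ 22367 Q22367 (allL N22367 (tt N23751 (iv F46329)) (tt N22923 (iv F44192)) (tt N23478 (iv F45651)) (tt N20430 (iv D22405)) (tt N23752 (iv F46330)) (tt N23477 F45649))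
theorem Q22369 : ∀ i, i < 22369 → P i := stepQ 22368 Q22368 (allL N22368 (tt N23121 (iv F44789)) (tt N22924 (iv F44195)) (tt N20431 F42868) (tt N23477 (iv F45648)) (tt N22919 (iv F44181)) (tt N20430 (iv D22406)))
theorem Q22370 : ∀ i, i < 22370 → P i := stepQ 22369 Q22369 (allL N22369 (tt N20435 F42869) (tt N23010 (iv F44460)) (tt N20436 F42870) (tt N20534 (iv F42872)) (tt N20433 (iv D22407)) (tt N20811 F42871))
theorem Q22371 : ∀ i, i < 22371 → P i := stepQ 22370 Q22370 (allL N22370 (tt N20532 F42873) (tt N20440 F42874) (tt N20528 F42875) (tt N20438 F42876) (tt N21824 F42877) (tt N20437 (iv D22408)))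
theorem Q22372 : ∀ i, i < 22372 → P i := stepQ 22371 Q22371 (allL N22371 (tt N22784 (iv F43836)) (tt N20439 (iv D22409)) (tt N20819 F42878) (tt N23754 D23792) (tt N22818 (iv F43941)) (tt N22788 (iv F43850)))
theorem Q22373 : ∀ i, i < 22373 → P i := stepQ 22372 Q22372 (allL N22372 (tt N22845 (iv F43996)) (tt N23754 (iv F46332)) (tt N23744 (iv F46316)) (tt N20439 (iv D22410)) (tt N22820 (iv F43946)) (tt N23232 (iv F45051)))
theorem Q22374 : ∀ i, i < 22374 → P i := stepQ 22373 Q22373 (allL N22373 (tt N22846 (iv F44000)) (tt N22788 (iv F43848)) (tt N20440 F42879) (tt N23232 (iv F45050)) (tt N20547 F42880) (tt N20439 (iv D22411)))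
theorem Q22375 : ∀ i, i < 22375 → P i := stepQ 22374 Q22374 (allL N22374 (tt N20549 F42881) (tt N21824 F42882) (tt N20547 F42883) (tt N20548 F42884) (tt N20440 (iv D22412)) (tt N20546 F42885))
theorem Q22376 : ∀ i, i < 22376 → P i := stepQ 22375 Q22375 (allL N22375 (tt N20441 (iv D22413)) (tt N20448 F42886) (tt N20457 F42887) (tt N23755 D23793) (tt N20445 F42888) (tt N22680 (iv F43584)))
theorem Q22377 : ∀ i, i < 22377 → P i := stepQ 22376 Q22376 (allL N22376 (tt N23755 (iv F46333)) (tt N20442 F42889) (tt N23756 D23794) (tt N20441 (iv D22414)) (tt N21931 F42890) (tt N21118 (iv F42891)))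
theorem Q22378 : ∀ i, i < 22378 → P i := stepQ 22377 Q22377 (allL N22377 (tt N22680 (iv F43581)) (tt N20443 F42892) (tt N20459 F42893) (tt N21118 F42894) (tt N22227 F42895) (tt N20441 (iv D22415)))
theorem Q22379 : ∀ i, i < 22379 → P i := stepQ 22378 Q22378 (allL N22378 (tt N20449 F42896) (tt N23755 (iv F46334)) (tt N23722 (iv F46269)) (tt N20448 (iv D22416)) (tt N23757 D23795) (tt N22681 (iv F43587)))
theorem Q22380 : ∀ i, i < 22380 → P i := stepQ 22379 Q22379 (allL N22379 (tt N23722 (iv F46268)) (tt N23024 (iv F44511)) (tt N20449 (iv D22417)) (tt N23023 (iv F44509)) (tt N23664 (iv F46121)) (tt N23022 F44505))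
theorem Q22381 : ∀ i, i < 22381 → P i := stepQ 22380 Q22380 (allL N22380 (tt N23757 (iv F46340)) (tt N20451 F42897) (tt N23664 (iv F46119)) (tt N20455 F42898) (tt N20449 (iv D22418)) (tt N21780 F42899))
theorem Q22382 : ∀ i, i < 22382 → P i := stepQ 22381 Q22381 (allL N22381 (tt N20455 F42900) (tt N21714 F42901) (tt N20529 F42902) (tt N23757 (iv F46342)) (tt N20453 (iv D22419)) (tt N21778 F42903))
theorem Q22383 : ∀ i, i < 22383 → P i := stepQ 22382 Q22382 (allL N22382 (tt N20529 F42904) (tt N22228 F42905) (tt N20455 F42906) (tt N23758 D23796) (tt N20454 (iv D22420)) (tt N21772 F42907))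
theorem Q22384 : ∀ i, i < 22384 → P i := stepQ 22383 Q22383 (allL N22383 (tt N20458 F42908) (tt N20477 F42909) (tt N23759 D23797) (tt N20457 (iv D22421)) (tt N23760 D23798) (tt N23761 D23799))
theorem Q22385 : ∀ i, i < 22385 → P i := stepQ 22384 Q22384 (allL N22384 (tt N20459 F42910) (tt N20478 F42911) (tt N22680 (iv F43583)) (tt N23761 (iv F46354)) (tt N22679 (iv F43580)) (tt N20457 (iv D22422)))
theorem Q22386 : ∀ i, i < 22386 → P i := stepQ 22385 Q22385 (allL N22385 (tt N23759 (iv F46348)) (tt N23762 D23800) (tt N20458 (iv D22423)) (tt N23763 D23801) (tt N23764 D23802) (tt N23765 D23803))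
theorem Q22387 : ∀ i, i < 22387 → P i := stepQ 22386 Q22386 (allL N22386 (tt N23760 (iv F46349)) (tt N20461 F42912) (tt N23764 (iv F46357)) (tt N20466 F42913) (tt N20458 (iv D22424)) (tt N23766 D23804))
theorem Q22388 : ∀ i, i < 22388 → P i := stepQ 22387 Q22387 (allL N22387 (tt N23761 (iv F46352)) (tt N20462 F42914) (tt N23765 (iv F46360)) (tt N20459 F42915) (tt N22989 (iv F44389)) (tt N20458 (iv D22425)))
theorem Q22389 : ∀ i, i < 22389 → P i := stepQ 22388 Q22388 (allL N22388 (tt N22679 (iv F43577)) (tt N20463 F42916) (tt N22227 F42917) (tt N22685 (iv F43594)) (tt N20459 (iv D22426)) (tt N20467 F42918))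
theorem Q22390 : ∀ i, i < 22390 → P i := stepQ 22389 Q22389 (allL N22389 (tt N23767 D23805) (tt N20460 (iv D22427)) (tt N23762 (iv F46355)) (tt N20476 F42919) (tt N23767 F46366) (tt N20475 F42920))
theorem Q22391 : ∀ i, i < 22391 → P i := stepQ 22390 Q22390 (allL N22390 (tt N20481 F42921) (tt N23767 (iv F46363)) (tt N20461 F42922) (tt N22902 (iv F44118)) (tt N20460 (iv D22428)) (tt N22901 (iv F44114)))
theorem Q22392 : ∀ i, i < 22392 → P i := stepQ 22391 Q22391 (allL N22391 (tt N20482 F42923) (tt N23766 (iv F46361)) (tt N22901 (iv F44112)) (tt N20468 F42924) (tt N22983 (iv F44371)) (tt N20461 (iv D22429)))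
theorem Q22393 : ∀ i, i < 22393 → P i := stepQ 22392 Q22392 (allL N22392 (tt N20484 F42925) (tt N22685 (iv F43593)) (tt N21538 F42926) (tt N20463 (iv D22430)) (tt N22990 (iv F44392)) (tt N20469 F42927))
theorem Q22394 : ∀ i, i < 22394 → P i := stepQ 22393 Q22393 (allL N22393 (tt N20466 F42928) (tt N20485 F42929) (tt N20628 F42930) (tt N23760 (iv F46351)) (tt N20464 (iv D22431)) (tt N23768 D23806))
theorem Q22395 : ∀ i, i < 22395 → P i := stepQ 22394 Q22394 (allL N22394 (tt N23768 (iv F46367)) (tt N20468 F42931) (tt N20630 F42932) (tt N23766 (iv F46362)) (tt N20512 F42933) (tt N20466 (iv D22432)))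
theorem Q22396 : ∀ i, i < 22396 → P i := stepQ 22395 Q22395 (allL N22395 (tt N20470 (iv D22433)) (tt N20591 F42934) (tt N20474 F42935) (tt N23037 (iv F44550)) (tt N22896 (iv F44089)) (tt N23036 F44546))
theorem Q22397 : ∀ i, i < 22397 → P i := stepQ 22396 Q22396 (allL N22396 (tt N23037 (iv F44547)) (tt N20471 F42936) (tt N21094 (iv F42937)) (tt N20470 (iv D22434)) (tt N23189 (iv F44949)) (tt N20567 (iv F42938)))
theorem Q22398 : ∀ i, i < 22398 → P i := stepQ 22397 Q22397 (allL N22397 (tt N23036 (iv F44542)) (tt N20472 F42939) (tt N20476 F42940) (tt N20567 F42941) (tt N22987 (iv F44387)) (tt N20470 (iv D22435)))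
theorem Q22399 : ∀ i, i < 22399 → P i := stepQ 22398 Q22398 (allL N22398 (tt N20592 F42942) (tt N23189 (iv F44947)) (tt N20568 F42943) (tt N22969 (iv F44324)) (tt N20471 (iv D22436)) (tt N23113 (iv F44767)))
theorem Q22400 : ∀ i, i < 22400 → P i := stepQ 22399 Q22399 (allL N22399 (tt N20593 F42944) (tt N22987 (iv F44384)) (tt N20473 F42945) (tt N23132 (iv F44821)) (tt N20472 (iv D22437)) (tt N22971 (iv F44332)))
theorem Q22401 : ∀ i, i < 22401 → P i := stepQ 22400 Q22400 (allL N22400 (tt N20475 F42946) (tt N22901 (iv F44111)) (tt N23769 D23807) (tt N20474 (iv D22438)) (tt N22982 (iv F44367)) (tt N23767 (iv F46365)))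
theorem Q22402 : ∀ i, i < 22402 → P i := stepQ 22401 Q22401 (allL N22401 (tt N20476 F42947) (tt N22902 (iv F44116)) (tt N23036 F44545) (tt N23767 (iv F46364)) (tt N22981 (iv F44364)) (tt N20474 (iv D22439)))
theorem Q22403 : ∀ i, i < 22403 → P i := stepQ 22402 Q22402 (allL N22402 (tt N23769 (iv F46371)) (tt N23765 (iv F46359)) (tt N20475 (iv D22440)) (tt N23770 D23808) (tt N22988 (iv F44388)) (tt N23762 F46356))
theorem Q22404 : ∀ i, i < 22404 → P i := stepQ 22403 Q22403 (allL N22403 (tt N20479 F42948) (tt N23760 (iv F46350)) (tt N20477 (iv D22441)) (tt N20485 F42949) (tt N20477 (iv F42950)) (tt N23771 D23809))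
theorem Q22405 : ∀ i, i < 22405 → P i := stepQ 22404 Q22404 (allL N22404 (tt N20480 F42951) (tt N23761 (iv F46353)) (tt N23771 (iv F46376)) (tt N20478 F42952) (tt N23772 D23810) (tt N20477 (iv D22442)))
theorem Q22406 : ∀ i, i < 22406 → P i := stepQ 22405 Q22405 (allL N22405 (tt N23771 (iv F46375)) (tt N20482 F42953) (tt N20480 F42954) (tt N20491 F42955) (tt N23773 D23811) (tt N20479 (iv D22443)))
theorem Q22407 : ∀ i, i < 22407 → P i := stepQ 22406 Q22406 (allL N22406 (tt N23772 (iv F46378)) (tt N20483 F42956) (tt N23773 (iv F46380)) (tt N23736 (iv F46297)) (tt N20480 (iv D22444)) (tt N23773 (iv F46381)))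
theorem Q22408 : ∀ i, i < 22408 → P i := stepQ 22407 Q22407 (allL N22407 (tt N22983 (iv F44369)) (tt N23773 (iv F46379)) (tt N22905 F44134) (tt N22956 (iv F44290)) (tt N20482 (iv D22445)) (tt N20483 F42957))
theorem Q22409 : ∀ i, i < 22409 → P i := stepQ 22408 Q22408 (allL N22408 (tt N22990 (iv F44390)) (tt N23736 (iv F46296)) (tt N22947 (iv F44262)) (tt N20483 (iv D22446)) (tt N20484 F42958) (tt N22956 (iv F44289)))
theorem Q22410 : ∀ i, i < 22410 → P i := stepQ 22409 Q22409 (allL N22409 (tt N20491 F42959) (tt N23768 (iv F46368)) (tt N20500 F42960) (tt N23771 (iv F46377)) (tt N23774 D23812) (tt N20485 (iv D22447)))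
theorem Q22411 : ∀ i, i < 22411 → P i := stepQ 22410 Q22410 (allL N22410 (tt N20492 F42961) (tt N20510 F42962) (tt N22524 (iv F43231)) (tt N23775 D23813) (tt N20486 (iv D22448)) (tt N23774 (iv F46385)))
theorem Q22412 : ∀ i, i < 22412 → P i := stepQ 22411 Q22411 (allL N22411 (tt N20493 F42963) (tt N22678 (iv F43574)) (tt N23726 (iv F46279)) (tt N20487 (iv D22449)) (tt N23775 (iv F46388)) (tt N23731 (iv F46290)))
theorem Q22413 : ∀ i, i < 22413 → P i := stepQ 22412 Q22412 (allL N22412 (tt N20626 F42964) (tt N20489 F42965) (tt N20494 F42966) (tt N23163 (iv F44887)) (tt N20488 (iv D22450)) (tt N23776 D23814))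
theorem Q22414 : ∀ i, i < 22414 → P i := stepQ 22413 Q22413 (allL N22413 (tt N20500 F42967) (tt N23776 (iv F46390)) (tt N20491 F42968) (tt N20499 F42969) (tt N23777 D23815) (tt N20489 (iv D22451)))
theorem Q22415 : ∀ i, i < 22415 → P i := stepQ 22414 Q22414 (allL N22414 (tt N22524 (iv F43229)) (tt N20508 F42970) (tt N20492 F42971) (tt N23778 D23816) (tt N20490 (iv D22452)) (tt N23777 (iv F46397)))
theorem Q22416 : ∀ i, i < 22416 → P i := stepQ 22415 Q22415 (allL N22415 (tt N23774 (iv F46382)) (tt N20496 F42972) (tt N23777 (iv F46396)) (tt N23779 D23817) (tt N20491 (iv D22453)) (tt N20492 F42973))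
theorem Q22417 : ∀ i, i < 22417 → P i := stepQ 22416 Q22416 (allL N22416 (tt N23775 (iv F46386)) (tt N20497 F42974) (tt N23780 D23818) (tt N20492 (iv D22454)) (tt N20493 F42975) (tt N23779 (iv F46400)))
theorem Q22418 : ∀ i, i < 22418 → P i := stepQ 22417 Q22417 (allL N22417 (tt N23726 (iv F46277)) (tt N23781 D23819) (tt N20493 (iv D22455)) (tt N23724 (iv F46273)) (tt N23780 (iv F46401)) (tt N23735 (iv F46295)))
theorem Q22419 : ∀ i, i < 22419 → P i := stepQ 22418 Q22418 (allL N22418 (tt N20627 F42976) (tt N20495 F42977) (tt N23776 (iv F46391)) (tt N22900 (iv F44108)) (tt N20509 F42978) (tt N20494 (iv D22456)))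
theorem Q22420 : ∀ i, i < 22420 → P i := stepQ 22419 Q22419 (allL N22419 (tt N20514 F42979) (tt N23779 (iv F46399)) (tt N22955 (iv F44284)) (tt N20496 (iv D22457)) (tt N22956 (iv F44288)) (tt N20497 F42980))
theorem Q22421 : ∀ i, i < 22421 → P i := stepQ 22420 Q22420 (allL N22420 (tt N20513 F42981) (tt N23782 D23820) (tt N20497 (iv D22458)) (tt N22954 (iv F44281)) (tt N20498 F42982) (tt N22955 (iv F44286)))
theorem Q22422 : ∀ i, i < 22422 → P i := stepQ 22421 Q22421 (allL N22421 (tt N22884 (iv F44061)) (tt N20498 (iv D22459)) (tt N23781 (iv F46402)) (tt N22886 (iv F44069)) (tt N23782 (iv F46405)) (tt N22885 F44066))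
theorem Q22423 : ∀ i, i < 22423 → P i := stepQ 22422 Q22422 (allL N22422 (tt N23016 (iv F44484)) (tt N20499 (iv D22460)) (tt N23011 F44468) (tt N23776 (iv F46392)) (tt N23729 (iv F46285)) (tt N23163 (iv F44889)))
theorem Q22424 : ∀ i, i < 22424 → P i := stepQ 22423 Q22423 (allL N22423 (tt N23777 (iv F46394)) (tt N22527 (iv F43238)) (tt N23774 (iv F46384)) (tt N23734 (iv F46292)) (tt N20500 (iv D22461)) (tt N22524 (iv F43232)))
theorem Q22425 : ∀ i, i < 22425 → P i := stepQ 22424 Q22424 (allL N22424 (tt N22462 (iv F43053)) (tt N20586 F42983) (tt N22832 (iv F43971)) (tt N20503 (iv D22462)) (tt N21563 F42984) (tt N20584 F42985))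
theorem Q22426 : ∀ i, i < 22426 → P i := stepQ 22425 Q22425 (allL N22425 (tt N22520 (iv F43217)) (tt N22523 (iv F43226)) (tt N22709 (iv F43640)) (tt N23783 D23821) (tt N20507 (iv D22463)) (tt N23727 (iv F46281)))
theorem Q22427 : ∀ i, i < 22427 → P i := stepQ 22426 Q22426 (allL N22426 (tt N22798 (iv F43875)) (tt N23778 (iv F46398)) (tt N23784 D23822) (tt N20508 (iv D22464)) (tt N23783 (iv F46407)) (tt N23785 D23823))
theorem Q22428 : ∀ i, i < 22428 → P i := stepQ 22427 Q22427 (allL N22427 (tt N22799 (iv F43877)) (tt N23777 (iv F46395)) (tt N20509 F42986) (tt N23785 (iv F46408)) (tt N23776 (iv F46393)) (tt N20508 (iv D22465)))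
theorem Q22429 : ∀ i, i < 22429 → P i := stepQ 22428 Q22428 (allL N22428 (tt N20511 F42987) (tt N23775 (iv F46387)) (tt N22890 (iv F44072)) (tt N20510 (iv D22466)) (tt N22678 (iv F43575)) (tt N23786 D23824))
theorem Q22430 : ∀ i, i < 22430 → P i := stepQ 22429 Q22429 (allL N22429 (tt N20512 F42988) (tt N23774 (iv F46383)) (tt N22797 (iv F43872)) (tt N23786 (iv F46411)) (tt N23768 (iv F46370)) (tt N20510 (iv D22467)))
theorem Q22431 : ∀ i, i < 22431 → P i := stepQ 22430 Q22430 (allL N22430 (tt N23786 (iv F46409)) (tt N20514 F42989) (tt N21013 F42990) (tt N20512 F42991) (tt N23787 D23825) (tt N20511 (iv D22468)))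
theorem Q22432 : ∀ i, i < 22432 → P i := stepQ 22431 Q22431 (allL N22431 (tt N22956 (iv F44287)) (tt N23787 (iv F46412)) (tt N22943 F44250) (tt N22983 (iv F44370)) (tt N20514 (iv D22469)) (tt N22990 (iv F44393)))
theorem Q22433 : ∀ i, i < 22433 → P i := stepQ 22432 Q22432 (allL N22432 (tt N20620 F42992) (tt N20541 F42993) (tt N20618 F42994) (tt N23788 D23826) (tt N20515 (iv D22470)) (tt N23500 (iv F45700)))
theorem Q22434 : ∀ i, i < 22434 → P i := stepQ 22433 Q22433 (allL N22433 (tt N23227 (iv F45038)) (tt N20542 F42995) (tt N23789 D23827) (tt N20516 (iv D22471)) (tt N23788 (iv F46416)) (tt N20851 F42996))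
theorem Q22435 : ∀ i, i < 22435 → P i := stepQ 22434 Q22434 (allL N22434 (tt N20603 F42997) (tt N20521 F42998) (tt N20602 F42999) (tt N20858 F43000) (tt N20519 (iv D22472)) (tt N23499 (iv F45695)))
theorem Q22436 : ∀ i, i < 22436 → P i := stepQ 22435 Q22435 (allL N22435 (tt N20610 F43001) (tt N22259 F43002) (tt N20521 F43003) (tt N22259 F43004) (tt N20520 (iv D22473)) (tt N23502 (iv F45708)))
theorem Q22437 : ∀ i, i < 22437 → P i := stepQ 22436 Q22436 (allL N22436 (tt N23505 (iv F45717)) (tt N23499 F45696) (tt N23502 (iv F45706)) (tt N20859 F43005) (tt N23500 (iv F45699)) (tt N20521 (iv D22474)))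
theorem Q22438 : ∀ i, i < 22438 → P i := stepQ 22437 Q22437 (allL N22437 (tt N20524 F43006) (tt N22782 (iv F43828)) (tt N20805 F43007) (tt N20527 F43008) (tt N20821 F43009) (tt N20522 (iv D22475)))
theorem Q22439 : ∀ i, i < 22439 → P i := stepQ 22438 Q22438 (allL N22438 (tt N20804 F43010) (tt N23383 (iv F45436)) (tt N23790 D23828) (tt N20523 (iv D22476)) (tt N20802 F43011) (tt N23791 D23829))
theorem Q22440 : ∀ i, i < 22440 → P i := stepQ 22439 Q22439 (allL N22439 (tt N20805 F43012) (tt N23382 (iv F45432)) (tt N20524 F43013) (tt N23791 (iv F46424)) (tt N20823 F43014) (tt N20523 (iv D22477)))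
theorem Q22441 : ∀ i, i < 22441 → P i := stepQ 22440 Q22440 (allL N22440 (tt N22767 (iv F43790)) (tt N20526 F43015) (tt N22785 (iv F43842)) (tt N23792 D23830) (tt N20525 (iv D22478)) (tt N23150 (iv F44858)))
theorem Q22442 : ∀ i, i < 22442 → P i := stepQ 22441 Q22441 (allL N22441 (tt N20530 F43016) (tt N23792 (iv F46426)) (tt N23793 D23831) (tt N20526 (iv D22479)) (tt N23758 (iv F46346)) (tt N23794 D23832))
theorem Q22443 : ∀ i, i < 22443 → P i := stepQ 22442 Q22442 (allL N22442 (tt N20531 F43017) (tt N23150 (iv F44856)) (tt N20527 F43018) (tt N23794 (iv F46430)) (tt N22766 (iv F43789)) (tt N20526 (iv D22480)))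
theorem Q22444 : ∀ i, i < 22444 → P i := stepQ 22443 Q22443 (allL N22443 (tt N23758 (iv F46344)) (tt N21715 F43019) (tt N23795 D23833) (tt N20529 (iv D22481)) (tt N20530 F43020) (tt N21919 F43021))
theorem Q22445 : ∀ i, i < 22445 → P i := stepQ 22444 Q22444 (allL N22444 (tt N23793 (iv F46428)) (tt N23796 D23834) (tt N20530 (iv D22482)) (tt N23797 D23835) (tt N23795 (iv F46433)) (tt N23511 F45736))
theorem Q22446 : ∀ i, i < 22446 → P i := stepQ 22445 Q22445 (allL N22445 (tt N23794 (iv F46429)) (tt N21994 F43022) (tt N23511 (iv F45734)) (tt N20531 F43023) (tt N21993 F43024) (tt N20530 (iv D22483)))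
theorem Q22447 : ∀ i, i < 22447 → P i := stepQ 22446 Q22446 (allL N22446 (tt N23014 (iv F44476)) (tt N20534 (iv D22484)) (tt N23729 (iv F46284)) (tt N23010 F44463) (tt N23011 (iv F44466)) (tt N20809 F43025))
theorem Q22448 : ∀ i, i < 22448 → P i := stepQ 22447 Q22447 (allL N22447 (tt N20537 F43026) (tt N23153 (iv F44864)) (tt N20536 (iv D22485)) (tt N23798 D23836) (tt N20860 F43027) (tt N23436 (iv F45552)))
theorem Q22449 : ∀ i, i < 22449 → P i := stepQ 22448 Q22448 (allL N22448 (tt N23798 (iv F46440)) (tt N23719 (iv F46260)) (tt N23501 (iv F45703)) (tt N20537 (iv D22486)) (tt N23799 D23837) (tt N23437 (iv F45557)))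
theorem Q22450 : ∀ i, i < 22450 → P i := stepQ 22449 Q22449 (allL N22449 (tt N23211 (iv F44999)) (tt N20539 F43028) (tt N23208 (iv F44994)) (tt N23800 D23838) (tt N20538 (iv D22487)) (tt N23801 D23839))
theorem Q22451 : ∀ i, i < 22451 → P i := stepQ 22450 Q22450 (allL N22450 (tt N20542 F43029) (tt N23800 (iv F46446)) (tt N23361 (iv F45372)) (tt N20539 (iv D22488)) (tt N20605 F43030) (tt N23359 F45369))
theorem Q22452 : ∀ i, i < 22452 → P i := stepQ 22451 Q22451 (allL N22451 (tt N20543 F43031) (tt N23801 (iv F46449)) (tt N20540 F43032) (tt N23359 (iv F45368)) (tt N20852 F43033) (tt N20539 (iv D22489)))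
theorem Q22453 : ∀ i, i < 22453 → P i := stepQ 22452 Q22452 (allL N22452 (tt N20605 F43034) (tt N23788 (iv F46415)) (tt N23437 (iv F45558)) (tt N20541 (iv D22490)) (tt N20542 F43035) (tt N23501 (iv F45704)))
theorem Q22454 : ∀ i, i < 22454 → P i := stepQ 22453 Q22453 (allL N22453 (tt N23361 (iv F45371)) (tt N22502 (iv F43158)) (tt N20542 (iv D22491)) (tt N22501 (iv F43155)) (tt N23437 (iv F45556)) (tt N22500 F43151))
theorem Q22455 : ∀ i, i < 22455 → P i := stepQ 22454 Q22454 (allL N22454 (tt N23359 (iv F45367)) (tt N20851 F43036) (tt N22500 (iv F43150)) (tt N20543 F43037) (tt N23802 D23840) (tt N20542 (iv D22492)))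
theorem Q22456 : ∀ i, i < 22456 → P i := stepQ 22455 Q22455 (allL N22455 (tt N23423 (iv F45528)) (tt N20554 (iv D22493)) (tt N20930 F43038) (tt N22834 (iv F43977)) (tt N23803 D23841) (tt N21998 F43039))
theorem Q22457 : ∀ i, i < 22457 → P i := stepQ 22456 Q22456 (allL N22456 (tt N20557 F43040) (tt N23803 (iv F46455)) (tt N20555 F43041) (tt N23804 D23842) (tt N20554 (iv D22494)) (tt N22043 F43042))
theorem Q22458 : ∀ i, i < 22458 → P i := stepQ 22457 Q22457 (allL N22457 (tt N23804 (iv F46458)) (tt N22758 (iv F43765)) (tt N23805 D23843) (tt N20557 (iv D22495)) (tt N23084 (iv F44695)) (tt N22044 F43043))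
theorem Q22459 : ∀ i, i < 22459 → P i := stepQ 22458 Q22458 (allL N22458 (tt N20560 F43044) (tt N20720 F43045) (tt N23806 D23844) (tt N20558 (iv D22496)) (tt N20560 F43046) (tt N23807 D23845))
theorem Q22460 : ∀ i, i < 22460 → P i := stepQ 22459 Q22459 (allL N22459 (tt N20561 F43047) (tt N20721 F43048) (tt N20559 F43049) (tt N23807 (iv F46466)) (tt N20758 F43050) (tt N20558 (iv D22497)))
theorem Q22461 : ∀ i, i < 22461 → P i := stepQ 22460 Q22460 (allL N22460 (tt N23806 (iv F46461)) (tt N23808 D23846) (tt N20560 (iv D22498)) (tt N23809 D23847) (tt N23806 (iv F46462)) (tt N23810 D23848))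
theorem Q22462 : ∀ i, i < 22462 → P i := stepQ 22461 Q22461 (allL N22461 (tt N23807 (iv F46464)) (tt N20746 F43051) (tt N23810 (iv F46470)) (tt N20561 F43052) (tt N23811 D23849) (tt N20560 (iv D22499)))
theorem Q22463 : ∀ i, i < 22463 → P i := stepQ 22462 Q22462 (allL N22462 (tt N22424 F43053) (tt N21116 F43054) (tt N23812 D23850) (tt N20564 (iv D22500)) (tt N21076 F43055) (tt N20565 F43056))
theorem Q22464 : ∀ i, i < 22464 → P i := stepQ 22463 Q22463 (allL N22463 (tt N21070 F43057) (tt N23813 D23851) (tt N20565 (iv D22501)) (tt N21297 F43059) (tt N20566 F43058) (tt N23812 (iv F46477)))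
theorem Q22465 : ∀ i, i < 22465 → P i := stepQ 22464 Q22464 (allL N22464 (tt N23814 D23852) (tt N20566 (iv D22502)) (tt N21117 F43060) (tt N21048 F43061) (tt N23813 (iv F46481)) (tt N21074 F43062))
theorem Q22466 : ∀ i, i < 22466 → P i := stepQ 22465 Q22465 (allL N22465 (tt N20730 F43063) (tt N20757 F43064) (tt N23815 D23853) (tt N20569 (iv D22503)) (tt N20570 F43065) (tt N23816 D23854))
theorem Q22467 : ∀ i, i < 22467 → P i := stepQ 22466 Q22466 (allL N22466 (tt N20729 F43066) (tt N20758 F43067) (tt N20722 F43068) (tt N23816 (iv F46492)) (tt N20721 F43069) (tt N20569 (iv D22504)))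
theorem Q22468 : ∀ i, i < 22468 → P i := stepQ 22467 Q22467 (allL N22467 (tt N20748 F43070) (tt N23817 D23855) (tt N20570 (iv D22505)) (tt N20875 F43071) (tt N23815 (iv F46489)) (tt N20874 (iv F43072)))
theorem Q22469 : ∀ i, i < 22469 → P i := stepQ 22468 Q22468 (allL N22468 (tt N20749 F43073) (tt N20760 F43074) (tt N20874 F43075) (tt N20571 F43076) (tt N23818 D23856) (tt N20570 (iv D22506)))
theorem Q22470 : ∀ i, i < 22470 → P i := stepQ 22469 Q22469 (allL N22469 (tt N20572 (iv D22507)) (tt N20575 F43077) (tt N21084 F43078) (tt N20630 F43081) (tt N21083 F43079) (tt N20629 (iv F43080)))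
theorem Q22471 : ∀ i, i < 22471 → P i := stepQ 22470 Q22470 (allL N22470 (tt N20630 F43082) (tt N20573 F43083) (tt N23768 (iv F46369)) (tt N20572 (iv D22508)) (tt N22797 (iv F43874)) (tt N20628 (iv F43084)))
theorem Q22472 : ∀ i, i < 22472 → P i := stepQ 22471 Q22471 (allL N22471 (tt N20629 F43085) (tt N20574 F43086) (tt N21086 F43087) (tt N20628 F43088) (tt N21907 F43089) (tt N20572 (iv D22509)))
theorem Q22473 : ∀ i, i < 22473 → P i := stepQ 22472 Q22472 (allL N22472 (tt N23776 (iv F46389)) (tt N20576 (iv D22510)) (tt N20627 F43090) (tt N23016 (iv F44487)) (tt N22799 (iv F43880)) (tt N20626 F43091))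
theorem Q22474 : ∀ i, i < 22474 → P i := stepQ 22473 Q22473 (allL N22473 (tt N23182 (iv F44926)) (tt N20579 F43092) (tt N23001 (iv F44428)) (tt N23819 D23857) (tt N20578 (iv D22511)) (tt N23133 (iv F44825)))
theorem Q22475 : ∀ i, i < 22475 → P i := stepQ 22474 Q22474 (allL N22474 (tt N21146 F43093) (tt N23819 (iv F46501)) (tt N23819 (iv F46502)) (tt N20579 (iv D22512)) (tt N21149 F43094) (tt N23181 (iv F44925)))
theorem Q22476 : ∀ i, i < 22476 → P i := stepQ 22475 Q22475 (allL N22475 (tt N21917 F43095) (tt N23820 D23858) (tt N20580 (iv D22513)) (tt N22632 (iv F43490)) (tt N21987 F43096) (tt N22629 (iv F43482)))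
theorem Q22477 : ∀ i, i < 22477 → P i := stepQ 22476 Q22476 (allL N22476 (tt N23547 (iv F45830)) (tt N21563 F43097) (tt N23548 (iv F45836)) (tt N21561 F43098) (tt N20586 (iv D22514)) (tt N21560 F43099))
theorem Q22478 : ∀ i, i < 22478 → P i := stepQ 22477 Q22477 (allL N22477 (tt N23301 (iv F45212)) (tt N23400 (iv F45474)) (tt N20597 (iv D22515)) (tt N23821 D23859) (tt N23166 (iv F44899)) (tt N20994 F43100))
theorem Q22479 : ∀ i, i < 22479 → P i := stepQ 22478 Q22478 (allL N22478 (tt N23499 (iv F45693)) (tt N22246 F43101) (tt N20599 (iv D22516)) (tt N23822 D23860) (tt N20600 F43102) (tt N20603 F43103))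
theorem Q22480 : ∀ i, i < 22480 → P i := stepQ 22479 Q22479 (allL N22479 (tt N23823 D23861) (tt N20600 (iv D22517)) (tt N20601 F43104) (tt N23824 D23862) (tt N22246 F43105) (tt N20604 F43106))
theorem Q22481 : ∀ i, i < 22481 → P i := stepQ 22480 Q22480 (allL N22480 (tt N23501 (iv F45702)) (tt N23824 (iv F46514)) (tt N23798 (iv F46441)) (tt N20600 (iv D22518)) (tt N23825 D23863) (tt N20605 F43107))
theorem Q22482 : ∀ i, i < 22482 → P i := stepQ 22481 Q22481 (allL N22481 (tt N20601 (iv D22519)) (tt N20615 F43108) (tt N23823 (iv F46511)) (tt N22273 F43109) (tt N22244 F43110) (tt N20606 F43111))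
theorem Q22483 : ∀ i, i < 22483 → P i := stepQ 22482 Q22482 (allL N22482 (tt N20858 F43112) (tt N22245 F43113) (tt N23581 (iv F45934)) (tt N20603 (iv D22520)) (tt N20856 F43114) (tt N23822 (iv F46509)))
theorem Q22484 : ∀ i, i < 22484 → P i := stepQ 22483 Q22483 (allL N22483 (tt N20604 (iv D22521)) (tt N20620 F43115) (tt N20606 F43116) (tt N23826 D23864) (tt N20614 F43117) (tt N23823 (iv F46513)))
theorem Q22485 : ∀ i, i < 22485 → P i := stepQ 22484 Q22484 (allL N22484 (tt N23826 (iv F46516)) (tt N20605 F43118) (tt N23827 D23865) (tt N20604 (iv D22522)) (tt N23800 (iv F46447)) (tt N23824 (iv F46515)))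
theorem Q22486 : ∀ i, i < 22486 → P i := stepQ 22485 Q22485 (allL N22485 (tt N23437 (iv F45554)) (tt N23828 D23866) (tt N20605 (iv D22523)) (tt N23436 (iv F45553)) (tt N23361 F45374) (tt N23798 (iv F46442)))
theorem Q22487 : ∀ i, i < 22487 → P i := stepQ 22486 Q22486 (allL N22486 (tt N22753 (iv F43748)) (tt N22784 (iv F43837)) (tt N20607 (iv D22524)) (tt N23829 D23867) (tt N22247 F43119) (tt N22275 F43120))
theorem Q22488 : ∀ i, i < 22488 → P i := stepQ 22487 Q22487 (allL N22487 (tt N20613 F43121) (tt N20624 F43122) (tt N23830 D23868) (tt N20609 (iv D22525)) (tt N20616 F43123) (tt N20613 F43124))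
theorem Q22489 : ∀ i, i < 22489 → P i := stepQ 22488 Q22488 (allL N22488 (tt N20616 F43125) (tt N20621 F43126) (tt N23831 D23869) (tt N20612 (iv D22526)) (tt N20613 F43127) (tt N23506 (iv F45724)))
theorem Q22490 : ∀ i, i < 22490 → P i := stepQ 22489 Q22489 (allL N22489 (tt N23830 (iv F46519)) (tt N23832 D23870) (tt N20613 (iv D22527)) (tt N22754 (iv F43751)) (tt N23831 (iv F46523)) (tt N23830 (iv F46521)))
theorem Q22491 : ∀ i, i < 22491 → P i := stepQ 22490 Q22490 (allL N22490 (tt N23831 (iv F46522)) (tt N23477 (iv F45647)) (tt N20616 (iv D22528)) (tt N22924 (iv F44197)) (tt N23830 (iv F46520)) (tt N22923 F44194))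
theorem Q22492 : ∀ i, i < 22492 → P i := stepQ 22491 Q22491 (allL N22491 (tt N23788 (iv F46414)) (tt N23826 (iv F46517)) (tt N23833 D23871) (tt N20620 (iv D22529)) (tt N23227 (iv F45040)) (tt N23834 D23872))
theorem Q22493 : ∀ i, i < 22493 → P i := stepQ 22492 Q22492 (allL N22492 (tt N23500 F45701) (tt N23823 (iv F46510)) (tt N20622 F43128) (tt N23834 (iv F46526)) (tt N23505 (iv F45719)) (tt N20620 (iv D22530)))
theorem Q22494 : ∀ i, i < 22494 → P i := stepQ 22493 Q22493 (allL N22493 (tt N23487 F45673) (tt N23835 D23873) (tt N20621 (iv D22531)) (tt N23836 D23874) (tt N20623 F43129) (tt N23481 (iv F45658)))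
theorem Q22495 : ∀ i, i < 22495 → P i := stepQ 22494 Q22494 (allL N22494 (tt N23837 D23875) (tt N20623 (iv D22532)) (tt N23832 (iv F46524)) (tt N23122 F44794) (tt N23835 (iv F46527)) (tt N23476 (iv F45646)))
theorem Q22496 : ∀ i, i < 22496 → P i := stepQ 22495 Q22495 (allL N22495 (tt N21086 F43130) (tt N20688 F43131) (tt N20629 (iv D22533)) (tt N23838 D23876) (tt N20686 F43132) (tt N21084 F43133))
theorem Q22497 : ∀ i, i < 22497 → P i := stepQ 22496 Q22496 (allL N22496 (tt N20631 (iv D22534)) (tt N23074 (iv F44666)) (tt N21529 F43134) (tt N21491 F43135) (tt N23286 (iv F45185)) (tt N21490 F43136))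
theorem Q22498 : ∀ i, i < 22498 → P i := stepQ 22497 Q22497 (allL N22497 (tt N21784 F43137) (tt N20634 F43138) (tt N21788 F43139) (tt N23839 D23877) (tt N20633 (iv D22535)) (tt N21866 F43140))
theorem Q22499 : ∀ i, i < 22499 → P i := stepQ 22498 Q22498 (allL N22498 (tt N20640 F43141) (tt N23839 (iv F46533)) (tt N22297 F43144) (tt N20634 (iv D22536)) (tt N20785 F43142) (tt N21867 F43143))
theorem Q22500 : ∀ i, i < 22500 → P i := stepQ 22499 Q22499 (allL N22499 (tt N22215 F43145) (tt N20638 F43146) (tt N22109 F43147) (tt N23651 (iv F46083)) (tt N20636 (iv D22537)) (tt N22677 (iv F43572)))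
theorem Q22501 : ∀ i, i < 22501 → P i := stepQ 22500 Q22500 (allL N22500 (tt N21785 F43148) (tt N20640 F43149) (tt N22454 F43150) (tt N20637 (iv D22538)) (tt N23651 (iv F46084)) (tt N22453 (iv F43151)))
theorem Q22502 : ∀ i, i < 22502 → P i := stepQ 22501 Q22501 (allL N22501 (tt N21786 F43152) (tt N20641 F43153) (tt N20642 F43154) (tt N22453 F43155) (tt N21864 F43156) (tt N20637 (iv D22539)))
theorem Q22503 : ∀ i, i < 22503 → P i := stepQ 22502 Q22502 (allL N22502 (tt N21867 F43157) (tt N22453 F43158) (tt N23649 (iv F46076)) (tt N20641 F43159) (tt N22345 (iv F43160)) (tt N20640 (iv D22540)))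
theorem Q22504 : ∀ i, i < 22504 → P i := stepQ 22503 Q22503 (allL N22503 (tt N20773 F43161) (tt N22103 F43162) (tt N20643 (iv D22541)) (tt N20998 F43163) (tt N22339 F43164) (tt N20770 F43165))
theorem Q22505 : ∀ i, i < 22505 → P i := stepQ 22504 Q22504 (allL N22504 (tt N20792 F43166) (tt N20647 F43167) (tt N22645 (iv F43516)) (tt N20645 (iv D22542)) (tt N22703 (iv F43628)) (tt N22585 (iv F43386)))
theorem Q22506 : ∀ i, i < 22506 → P i := stepQ 22505 Q22505 (allL N22505 (tt N20649 F43168) (tt N22703 (iv F43626)) (tt N23840 D23878) (tt N20646 (iv D22543)) (tt N20647 F43169) (tt N22701 F43620))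
theorem Q22507 : ∀ i, i < 22507 → P i := stepQ 22506 Q22506 (allL N22506 (tt N20650 F43170) (tt N23841 D23879) (tt N20647 (iv D22544)) (tt N23735 (iv F46294)) (tt N23840 (iv F46538)) (tt N23724 (iv F46272)))
theorem Q22508 : ∀ i, i < 22508 → P i := stepQ 22507 Q22507 (allL N22507 (tt N22701 (iv F43617)) (tt N20794 F43171) (tt N23842 D23880) (tt N20648 (iv D22545)) (tt N22699 (iv F43615)) (tt N20649 F43172))
theorem Q22509 : ∀ i, i < 22509 → P i := stepQ 22508 Q22508 (allL N22508 (tt N23840 (iv F46536)) (tt N22217 F43173) (tt N20649 (iv D22546)) (tt N23843 D23881) (tt N20650 F43174) (tt N23842 (iv F46545)))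
theorem Q22510 : ∀ i, i < 22510 → P i := stepQ 22509 Q22509 (allL N22509 (tt N22219 (iv F43177)) (tt N20650 (iv D22547)) (tt N20796 F43175) (tt N23844 D23882) (tt N22217 F43176) (tt N23725 (iv F46275)))
theorem Q22511 : ∀ i, i < 22511 → P i := stepQ 22510 Q22510 (allL N22510 (tt N23735 (iv F46293)) (tt N23844 (iv F46548)) (tt N23731 (iv F46289)) (tt N20650 (iv D22548)) (tt N23845 D23883) (tt N23726 (iv F46278)))
theorem Q22512 : ∀ i, i < 22512 → P i := stepQ 22511 Q22511 (allL N22511 (tt N21425 (iv F43181)) (tt N20652 (iv D22549)) (tt N20665 F43178) (tt N21188 F43179) (tt N20893 F43180) (tt N22355 (iv F43182)))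
theorem Q22513 : ∀ i, i < 22513 → P i := stepQ 22512 Q22512 (allL N22512 (tt N20656 F43183) (tt N22355 F43184) (tt N20653 F43185) (tt N21018 F43186) (tt N21936 F43187) (tt N20652 (iv D22550)))
theorem Q22514 : ∀ i, i < 22514 → P i := stepQ 22513 Q22513 (allL N22513 (tt N20654 (iv D22551)) (tt N21425 F43188) (tt N20658 F43189) (tt N21011 (iv F43192)) (tt N20895 F43190) (tt N20659 F43191))
theorem Q22515 : ∀ i, i < 22515 → P i := stepQ 22514 Q22514 (allL N22514 (tt N21011 F43193) (tt N20655 F43194) (tt N21007 F43195) (tt N20654 (iv D22552)) (tt N23846 D23884) (tt N20662 F43196))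
theorem Q22516 : ∀ i, i < 22516 → P i := stepQ 22515 Q22515 (allL N22515 (tt N22350 F43197) (tt N23846 (iv F46550)) (tt N22349 F43198) (tt N20898 F43199) (tt N20655 (iv D22553)) (tt N23847 D23885))
theorem Q22517 : ∀ i, i < 22517 → P i := stepQ 22516 Q22516 (allL N22516 (tt N21018 F43200) (tt N20662 F43201) (tt N21017 F43202) (tt N20656 F43203) (tt N21909 (iv F43204)) (tt N20655 (iv D22554)))
theorem Q22518 : ∀ i, i < 22518 → P i := stepQ 22517 Q22517 (allL N22517 (tt N22355 F43205) (tt N20659 (iv D22555)) (tt N21902 F43206) (tt N21426 F43207) (tt N21933 F43208) (tt N21425 F43209))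
theorem Q22519 : ∀ i, i < 22519 → P i := stepQ 22518 Q22518 (allL N22518 (tt N20664 F43210) (tt N21900 F43211) (tt N23848 D23886) (tt N20661 (iv D22556)) (tt N20899 F43212) (tt N21881 F43213))
theorem Q22520 : ∀ i, i < 22520 → P i := stepQ 22519 Q22519 (allL N22519 (tt N23848 (iv F46559)) (tt N21910 F43214) (tt N20664 (iv D22557)) (tt N23849 D23887) (tt N20900 F43215) (tt N21882 F43216))
theorem Q22521 : ∀ i, i < 22521 → P i := stepQ 22520 Q22520 (allL N22520 (tt N22425 F43217) (tt N20666 F43218) (tt N20893 F43219) (tt N23850 D23888) (tt N20665 (iv D22558)) (tt N23851 D23889))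
theorem Q22522 : ∀ i, i < 22522 → P i := stepQ 22521 Q22521 (allL N22521 (tt N20676 F43220) (tt N23850 (iv F46566)) (tt N23650 (iv F46082)) (tt N20666 (iv D22559)) (tt N21026 F43221) (tt N23852 D23890))
theorem Q22523 : ∀ i, i < 22523 → P i := stepQ 22522 Q22522 (allL N22522 (tt N20677 F43222) (tt N23851 (iv F46570)) (tt N20668 F43223) (tt N23852 (iv F46575)) (tt N22301 F43224) (tt N20666 (iv D22560)))
theorem Q22524 : ∀ i, i < 22524 → P i := stepQ 22523 Q22523 (allL N22523 (tt N20673 F43225) (tt N22425 F43226) (tt N20678 F43227) (tt N23853 D23891) (tt N20671 (iv D22561)) (tt N22330 F43228))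
theorem Q22525 : ∀ i, i < 22525 → P i := stepQ 22524 Q22524 (allL N22524 (tt N22414 F43229) (tt N20674 F43230) (tt N22410 F43231) (tt N23854 D23892) (tt N20672 (iv D22562)) (tt N22423 F43232))
theorem Q22526 : ∀ i, i < 22526 → P i := stepQ 22525 Q22525 (allL N22525 (tt N23853 (iv F46577)) (tt N20676 F43233) (tt N23855 D23893) (tt N20673 (iv D22563)) (tt N23854 (iv F46583)) (tt N22334 F43234))
theorem Q22527 : ∀ i, i < 22527 → P i := stepQ 22526 Q22526 (allL N22526 (tt N21026 F43235) (tt N23854 (iv F46582)) (tt N23645 (iv F46068)) (tt N20674 (iv D22564)) (tt N20676 F43236) (tt N23856 D23894))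
theorem Q22528 : ∀ i, i < 22528 → P i := stepQ 22527 Q22527 (allL N22527 (tt N21027 F43237) (tt N22423 F43238) (tt N21024 F43239) (tt N23856 (iv F46588)) (tt N22307 F43240) (tt N20674 (iv D22565)))
theorem Q22529 : ∀ i, i < 22529 → P i := stepQ 22528 Q22528 (allL N22528 (tt N23650 (iv F46078)) (tt N23148 (iv F44852)) (tt N20676 (iv D22566)) (tt N22162 F43241) (tt N23645 (iv F46067)) (tt N23857 D23895))
theorem Q22530 : ∀ i, i < 22530 → P i := stepQ 22529 Q22529 (allL N22529 (tt N23852 (iv F46573)) (tt N22334 F43242) (tt N23857 (iv F46591)) (tt N20677 F43243) (tt N22309 (iv F43244)) (tt N20676 (iv D22567)))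
theorem Q22531 : ∀ i, i < 22531 → P i := stepQ 22530 Q22530 (allL N22530 (tt N20679 F43245) (tt N20899 F43246) (tt N23858 D23896) (tt N20678 (iv D22568)) (tt N21900 F43247) (tt N20736 (iv F43248)))
theorem Q22532 : ∀ i, i < 22532 → P i := stepQ 22531 Q22531 (allL N22531 (tt N20680 F43249) (tt N20892 F43250) (tt N22330 F43251) (tt N20736 F43252) (tt N21904 F43253) (tt N20678 (iv D22569)))
theorem Q22533 : ∀ i, i < 22533 → P i := stepQ 22532 Q22532 (allL N22532 (tt N23858 (iv F46594)) (tt N20719 F43254) (tt N20679 (iv D22570)) (tt N23859 D23897) (tt N21901 F43255) (tt N20733 F43256))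
theorem Q22534 : ∀ i, i < 22534 → P i := stepQ 22533 Q22533 (allL N22533 (tt N20683 F43257) (tt N23149 (iv F44853)) (tt N20681 (iv D22571)) (tt N23857 (iv F46592)) (tt N22298 F43258) (tt N22162 F43259))
theorem Q22535 : ∀ i, i < 22535 → P i := stepQ 22534 Q22534 (allL N22534 (tt N22661 (iv F43542)) (tt N20683 (iv D22572)) (tt N20887 F43260) (tt N23860 D23898) (tt N22657 (iv F43534)) (tt N23046 (iv F44576)))
theorem Q22536 : ∀ i, i < 22536 → P i := stepQ 22535 Q22535 (allL N22535 (tt N23857 (iv F46590)) (tt N23860 (iv F46602)) (tt N23852 (iv F46574)) (tt N20683 (iv D22573)) (tt N23861 D23899) (tt N23650 (iv F46081)))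
theorem Q22537 : ∀ i, i < 22537 → P i := stepQ 22536 Q22536 (allL N22536 (tt N20692 F43261) (tt N23838 (iv F46529)) (tt N23862 D23900) (tt N20688 (iv D22574)) (tt N20916 F43262) (tt N21097 F43263))
theorem Q22538 : ∀ i, i < 22538 → P i := stepQ 22537 Q22537 (allL N22537 (tt N20693 F43264) (tt N23863 D23901) (tt N20689 (iv D22575)) (tt N20897 F43267) (tt N20931 F43265) (tt N20696 F43266))
theorem Q22539 : ∀ i, i < 22539 → P i := stepQ 22538 Q22538 (allL N22538 (tt N20916 F43268) (tt N21103 F43269) (tt N20921 F43270) (tt N20691 (iv D22576)) (tt N20692 F43271) (tt N20905 F43272))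
theorem Q22540 : ∀ i, i < 22540 → P i := stepQ 22539 Q22539 (allL N22539 (tt N23862 (iv F46608)) (tt N23138 (iv F44832)) (tt N20692 (iv D22577)) (tt N22025 F43275) (tt N20921 F43273) (tt N21098 F43274))
theorem Q22541 : ∀ i, i < 22541 → P i := stepQ 22540 Q22540 (allL N22540 (tt N20897 F43276) (tt N20762 F43277) (tt N20894 F43279) (tt N20693 (iv D22578)) (tt N23864 D23902) (tt N20701 F43278))
theorem Q22542 : ∀ i, i < 22542 → P i := stepQ 22541 Q22541 (allL N22541 (tt N20698 F43280) (tt N23031 (iv F44528)) (tt N20694 (iv D22579)) (tt N21098 F43283) (tt N22020 F43281) (tt N22025 F43282))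
theorem Q22543 : ∀ i, i < 22543 → P i := stepQ 22542 Q22542 (allL N22542 (tt N23865 D23903) (tt N20696 (iv D22580)) (tt N23089 F44704) (tt N23866 D23904) (tt N23193 (iv F44956)) (tt N23863 (iv F46615)))
theorem Q22544 : ∀ i, i < 22544 → P i := stepQ 22543 Q22543 (allL N22543 (tt N20701 F43284) (tt N23866 (iv F46627)) (tt N20891 F43285) (tt N20696 (iv D22581)) (tt N21944 (iv F43287)) (tt N20897 F43286))
theorem Q22545 : ∀ i, i < 22545 → P i := stepQ 22544 Q22544 (allL N22544 (tt N22020 F43288) (tt N23867 D23905) (tt N20697 (iv D22582)) (tt N23401 (iv F45479)) (tt N20698 F43289) (tt N20962 F43290))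
theorem Q22546 : ∀ i, i < 22546 → P i := stepQ 22545 Q22545 (allL N22545 (tt N23868 D23906) (tt N20698 (iv D22583)) (tt N21118 F43291) (tt N23869 D23907) (tt N23867 (iv F46632)) (tt N23756 (iv F46339)))
theorem Q22547 : ∀ i, i < 22547 → P i := stepQ 22546 Q22546 (allL N22546 (tt N21098 F43292) (tt N23869 (iv F46637)) (tt N21097 F43293) (tt N20698 (iv D22584)) (tt N23674 (iv F46145)) (tt N23862 (iv F46611)))
theorem Q22548 : ∀ i, i < 22548 → P i := stepQ 22547 Q22547 (allL N22547 (tt N22025 F43294) (tt N23756 (iv F46337)) (tt N20699 F43295) (tt N23862 (iv F46609)) (tt N20753 F43296) (tt N20698 (iv D22585)))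
theorem Q22549 : ∀ i, i < 22549 → P i := stepQ 22548 Q22548 (allL N22548 (tt N20700 (iv D22586)) (tt N23865 (iv F46621)) (tt N20702 F43297) (tt N21944 (iv F43300)) (tt N22007 F43298) (tt N20761 F43299))
theorem Q22550 : ∀ i, i < 22550 → P i := stepQ 22549 Q22549 (allL N22549 (tt N21944 F43301) (tt N20701 F43302) (tt N21942 F43305) (tt N20700 (iv D22587)) (tt N20701 F43303) (tt N20762 F43304))
theorem Q22551 : ∀ i, i < 22551 → P i := stepQ 22550 Q22550 (allL N22550 (tt N20891 F43306) (tt N23870 D23908) (tt N20701 (iv D22588)) (tt N20889 F43307) (tt N21942 F43308) (tt N20894 F43309))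
theorem Q22552 : ∀ i, i < 22552 → P i := stepQ 22551 Q22551 (allL N22551 (tt N23871 D23909) (tt N20709 (iv D22589)) (tt N20710 F43310) (tt N23872 D23910) (tt N20752 F43311) (tt N20900 F43312))
theorem Q22553 : ∀ i, i < 22553 → P i := stepQ 22552 Q22552 (allL N22552 (tt N20921 F43313) (tt N23872 (iv F46646)) (tt N20916 F43315) (tt N20709 (iv D22590)) (tt N23862 (iv F46610)) (tt N20915 F43314))
theorem Q22554 : ∀ i, i < 22554 → P i := stepQ 22553 Q22553 (allL N22553 (tt N20710 (iv D22591)) (tt N20736 F43316) (tt N23871 (iv F46643)) (tt N20892 F43317) (tt N20756 F43318) (tt N20899 F43319))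
theorem Q22555 : ∀ i, i < 22555 → P i := stepQ 22554 Q22554 (allL N22554 (tt N21641 F43320) (tt N20712 F43321) (tt N22312 (iv F43323)) (tt N20711 (iv D22592)) (tt N23873 D23911) (tt N20741 F43322))
theorem Q22556 : ∀ i, i < 22556 → P i := stepQ 22555 Q22555 (allL N22555 (tt N21950 F43324) (tt N20713 F43325) (tt N21941 F43326) (tt N23874 D23912) (tt N20711 (iv D22593)) (tt N23875 D23913))
theorem Q22557 : ∀ i, i < 22557 → P i := stepQ 22556 Q22556 (allL N22556 (tt N20716 F43327) (tt N23873 (iv F46649)) (tt N20744 F43328) (tt N23876 D23914) (tt N20712 (iv D22594)) (tt N23877 D23915))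
theorem Q22558 : ∀ i, i < 22558 → P i := stepQ 22557 Q22557 (allL N22557 (tt N20717 F43329) (tt N23874 (iv F46653)) (tt N23878 D23916) (tt N20713 (iv D22595)) (tt N23876 (iv F46662)) (tt N23879 D23917))
theorem Q22559 : ∀ i, i < 22559 → P i := stepQ 22558 Q22558 (allL N22558 (tt N20718 F43330) (tt N23875 (iv F46657)) (tt N20714 F43331) (tt N23879 (iv F46671)) (tt N21957 F43332) (tt N20713 (iv D22596)))
theorem Q22560 : ∀ i, i < 22560 → P i := stepQ 22559 Q22559 (allL N22559 (tt N20719 F43333) (tt N23880 D23918) (tt N20715 (iv D22597)) (tt N20747 F43336) (tt N21971 F43334) (tt N20724 F43335))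
theorem Q22561 : ∀ i, i < 22561 → P i := stepQ 22560 Q22560 (allL N22560 (tt N23876 (iv F46660)) (tt N21965 F43337) (tt N23881 D23919) (tt N20716 (iv D22598)) (tt N20717 F43338) (tt N23882 D23920))
theorem Q22562 : ∀ i, i < 22562 → P i := stepQ 22561 Q22561 (allL N22561 (tt N23877 (iv F46663)) (tt N21964 F43339) (tt N21986 F43340) (tt N23882 (iv F46679)) (tt N21959 F43341) (tt N20716 (iv D22599)))
theorem Q22563 : ∀ i, i < 22563 → P i := stepQ 22562 Q22562 (allL N22562 (tt N23878 (iv F46666)) (tt N23883 D23921) (tt N20717 (iv D22600)) (tt N23884 D23922) (tt N23881 (iv F46677)) (tt N23885 D23923))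
theorem Q22564 : ∀ i, i < 22564 → P i := stepQ 22563 Q22563 (allL N22563 (tt N23879 (iv F46669)) (tt N21969 F43342) (tt N23885 (iv F46686)) (tt N20718 F43343) (tt N23886 D23924) (tt N20717 (iv D22601)))
theorem Q22565 : ∀ i, i < 22565 → P i := stepQ 22564 Q22564 (allL N22564 (tt N20747 F43344) (tt N23859 (iv F46597)) (tt N20725 F43346) (tt N20719 (iv D22602)) (tt N20727 (iv F43347)) (tt N20734 F43345))
theorem Q22566 : ∀ i, i < 22566 → P i := stepQ 22565 Q22565 (allL N22565 (tt N20727 F43348) (tt N23887 D23925) (tt N20720 (iv D22603)) (tt N23885 (iv F46687)) (tt N20747 F43349) (tt N23884 (iv F46684)))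
theorem Q22567 : ∀ i, i < 22567 → P i := stepQ 22566 Q22566 (allL N22566 (tt N20728 F43350) (tt N23807 (iv F46465)) (tt N23884 (iv F46683)) (tt N20721 F43351) (tt N23888 D23926) (tt N20720 (iv D22604)))
theorem Q22568 : ∀ i, i < 22568 → P i := stepQ 22567 Q22567 (allL N22567 (tt N20731 F43352) (tt N20751 F43353) (tt N23889 D23927) (tt N20722 (iv D22605)) (tt N21914 F43354) (tt N20723 F43355))
theorem Q22569 : ∀ i, i < 22569 → P i := stepQ 22568 Q22568 (allL N22568 (tt N20732 F43356) (tt N23890 D23928) (tt N20723 (iv D22606)) (tt N23891 D23929) (tt N20724 F43357) (tt N23889 (iv F46700)))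
theorem Q22570 : ∀ i, i < 22570 → P i := stepQ 22569 Q22569 (allL N22569 (tt N23892 D23930) (tt N20724 (iv D22607)) (tt N20920 F43358) (tt N23893 D23931) (tt N23890 (iv F46702)) (tt N23880 (iv F46676)))
theorem Q22571 : ∀ i, i < 22571 → P i := stepQ 22570 Q22570 (allL N22570 (tt N20734 F43359) (tt N23893 (iv F46707)) (tt N20746 F43360) (tt N20724 (iv D22608)) (tt N23894 D23932) (tt N20747 F43361))
theorem Q22572 : ∀ i, i < 22572 → P i := stepQ 22571 Q22571 (allL N22571 (tt N20746 F43362) (tt N20728 F43363) (tt N20734 F43364) (tt N20726 F43365) (tt N23895 D23933) (tt N20725 (iv D22609)))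
theorem Q22573 : ∀ i, i < 22573 → P i := stepQ 22572 Q22572 (allL N22572 (tt N23896 D23934) (tt N20727 (iv D22610)) (tt N23859 F46599) (tt N23897 D23935) (tt N23859 F46600) (tt N23898 D23936))
theorem Q22574 : ∀ i, i < 22574 → P i := stepQ 22573 Q22573 (allL N22573 (tt N23885 (iv F46685)) (tt N23897 (iv F46716)) (tt N23879 (iv F46670)) (tt N20727 (iv D22611)) (tt N21972 F43366) (tt N23878 F46668))
theorem Q22575 : ∀ i, i < 22575 → P i := stepQ 22574 Q22574 (allL N22574 (tt N23884 (iv F46682)) (tt N23898 (iv F46721)) (tt N20728 F43367) (tt N23878 (iv F46667)) (tt N23899 D23937) (tt N20727 (iv D22612)))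
theorem Q22576 : ∀ i, i < 22576 → P i := stepQ 22575 Q22575 (allL N22575 (tt N23888 (iv F46695)) (tt N23895 (iv F46712)) (tt N23899 (iv F46723)) (tt N23900 D23938) (tt N20728 (iv D22613)) (tt N23895 (iv F46715)))
theorem Q22577 : ∀ i, i < 22577 → P i := stepQ 22576 Q22576 (allL N22576 (tt N23816 (iv F46490)) (tt N20749 F43368) (tt N23901 D23939) (tt N20729 (iv D22614)) (tt N23900 (iv F46726)) (tt N20730 F43369))
theorem Q22578 : ∀ i, i < 22578 → P i := stepQ 22577 Q22577 (allL N22577 (tt N23815 (iv F46488)) (tt N23902 D23940) (tt N20730 (iv D22615)) (tt N23903 D23941) (tt N20748 F43370) (tt N23901 (iv F46728)))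
theorem Q22579 : ∀ i, i < 22579 → P i := stepQ 22578 Q22578 (allL N22578 (tt N23889 (iv F46697)) (tt N20884 F43371) (tt N20731 (iv D22616)) (tt N23904 D23942) (tt N21912 F43372) (tt N20732 F43373))
theorem Q22580 : ∀ i, i < 22580 → P i := stepQ 22579 Q22579 (allL N22579 (tt N23905 D23943) (tt N20732 (iv D22617)) (tt N20735 F43374) (tt N23906 D23944) (tt N20733 F43375) (tt N20884 F43376))
theorem Q22581 : ∀ i, i < 22581 → P i := stepQ 22580 Q22580 (allL N22580 (tt N23891 (iv F46704)) (tt N23906 (iv F46736)) (tt N23907 D23945) (tt N20732 (iv D22618)) (tt N23908 D23946) (tt N23904 (iv F46732)))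
theorem Q22582 : ∀ i, i < 22582 → P i := stepQ 22581 Q22581 (allL N22581 (tt N20733 (iv D22619)) (tt N23892 (iv F46705)) (tt N20736 F43377) (tt N23909 D23947) (tt N23905 (iv F46734)) (tt N23858 (iv F46596)))
theorem Q22583 : ∀ i, i < 22583 → P i := stepQ 22582 Q22582 (allL N22582 (tt N23909 (iv F46739)) (tt N20734 F43378) (tt N23898 (iv F46722)) (tt N20733 (iv D22620)) (tt N23910 D23948) (tt N23859 (iv F46598)))
theorem Q22584 : ∀ i, i < 22584 → P i := stepQ 22583 Q22583 (allL N22583 (tt N23894 (iv F46709)) (tt N23910 (iv F46740)) (tt N23895 (iv F46713)) (tt N23908 (iv F46738)) (tt N20734 (iv D22621)) (tt N23899 (iv F46724)))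
theorem Q22585 : ∀ i, i < 22585 → P i := stepQ 22584 Q22584 (allL N22584 (tt N20735 (iv D22622)) (tt N20756 F43379) (tt N23905 (iv F46733)) (tt N20883 F43380) (tt N20736 F43381) (tt N20882 F43382))
theorem Q22586 : ∀ i, i < 22586 → P i := stepQ 22585 Q22585 (allL N22585 (tt N20738 F43383) (tt N22325 F43384) (tt N23377 (iv F45413)) (tt N20737 (iv D22623)) (tt N20881 F43385) (tt N22504 F43386))
theorem Q22587 : ∀ i, i < 22587 → P i := stepQ 22586 Q22586 (allL N22586 (tt N20777 F43387) (tt N20743 F43388) (tt N20987 F43389) (tt N20776 F43390) (tt N22628 (iv F43481)) (tt N20740 (iv D22624)))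
theorem Q22588 : ∀ i, i < 22588 → P i := stepQ 22587 Q22587 (allL N22587 (tt N21947 F43391) (tt N20742 F43392) (tt N22324 F43393) (tt N23911 D23949) (tt N20741 (iv D22625)) (tt N23912 D23950))
theorem Q22589 : ∀ i, i < 22589 → P i := stepQ 22588 Q22588 (allL N22588 (tt N21958 F43394) (tt N23911 (iv F46742)) (tt N23913 D23951) (tt N20742 (iv D22626)) (tt N21956 F43395) (tt N23913 F46753))
theorem Q22590 : ∀ i, i < 22590 → P i := stepQ 22589 Q22589 (allL N22589 (tt N21959 F43396) (tt N23912 (iv F46746)) (tt N20743 F43397) (tt N23913 (iv F46750)) (tt N23877 (iv F46665)) (tt N20742 (iv D22627)))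
theorem Q22591 : ∀ i, i < 22591 → P i := stepQ 22590 Q22590 (allL N22590 (tt N21986 F43398) (tt N22628 (iv F43480)) (tt N23877 (iv F46664)) (tt N23914 D23952) (tt N20743 (iv D22628)) (tt N20744 F43399))
theorem Q22592 : ∀ i, i < 22592 → P i := stepQ 22591 Q22591 (allL N22591 (tt N20876 F43400) (tt N22627 (iv F43477)) (tt N23915 D23953) (tt N20744 (iv D22629)) (tt N20745 F43401) (tt N23914 (iv F46757)))
theorem Q22593 : ∀ i, i < 22593 → P i := stepQ 22592 Q22592 (allL N22592 (tt N20875 F43402) (tt N23916 D23954) (tt N20745 (iv D22630)) (tt N20748 F43403) (tt N23915 (iv F46759)) (tt N20870 F43404))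
theorem Q22594 : ∀ i, i < 22594 → P i := stepQ 22593 Q22593 (allL N22593 (tt N23895 (iv F46711)) (tt N23811 (iv F46471)) (tt N23894 (iv F46710)) (tt N23818 (iv F46499)) (tt N20746 (iv D22631)) (tt N23888 (iv F46696)))
theorem Q22595 : ∀ i, i < 22595 → P i := stepQ 22594 Q22594 (allL N22594 (tt N23917 D23955) (tt N20747 (iv D22632)) (tt N23808 (iv F46467)) (tt N23880 (iv F46674)) (tt N23887 (iv F46694)) (tt N23893 (iv F46708)))
theorem Q22596 : ∀ i, i < 22596 → P i := stepQ 22595 Q22595 (allL N22595 (tt N23918 D23956) (tt N20748 (iv D22633)) (tt N23902 (iv F46729)) (tt N23916 (iv F46760)) (tt N23902 (iv F46730)) (tt N23919 D23957))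
theorem Q22597 : ∀ i, i < 22597 → P i := stepQ 22596 Q22596 (allL N22596 (tt N20874 F43405) (tt N23919 (iv F46762)) (tt N20749 F43406) (tt N20870 F43407) (tt N23920 D23958) (tt N20748 (iv D22634)))
theorem Q22598 : ∀ i, i < 22598 → P i := stepQ 22597 Q22597 (allL N22597 (tt N23818 (iv F46496)) (tt N23900 (iv F46725)) (tt N23920 (iv F46765)) (tt N23895 (iv F46714)) (tt N20749 (iv D22635)) (tt N23900 (iv F46727)))
theorem Q22599 : ∀ i, i < 22599 → P i := stepQ 22598 Q22598 (allL N22598 (tt N23921 D23959) (tt N20750 (iv D22636)) (tt N23890 (iv F46701)) (tt N22023 F43408) (tt N20920 F43409) (tt N22022 F43410))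
theorem Q22600 : ∀ i, i < 22600 → P i := stepQ 22599 Q22599 (allL N22599 (tt N20755 F43411) (tt N21914 F43412) (tt N22024 F43413) (tt N21899 F43414) (tt N20751 (iv D22637)) (tt N20923 F43415))
theorem Q22601 : ∀ i, i < 22601 → P i := stepQ 22600 Q22600 (allL N22600 (tt N20752 (iv D22638)) (tt N23921 (iv F46766)) (tt N20756 F43416) (tt N23922 D23960) (tt N23871 (iv F46644)) (tt N21915 F43417))
theorem Q22602 : ∀ i, i < 22602 → P i := stepQ 22601 Q22601 (allL N22601 (tt N23922 (iv F46770)) (tt N20753 F43418) (tt N21931 F43420) (tt N20752 (iv D22639)) (tt N23756 (iv F46338)) (tt N21916 F43419))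
theorem Q22603 : ∀ i, i < 22603 → P i := stepQ 22602 Q22602 (allL N22602 (tt N22024 F43421) (tt N21882 F43422) (tt N20755 F43423) (tt N23923 D23961) (tt N20754 (iv D22640)) (tt N21910 F43424))
theorem Q22604 : ∀ i, i < 22604 → P i := stepQ 22603 Q22603 (allL N22603 (tt N20759 F43425) (tt N23924 D23962) (tt N20757 (iv D22641)) (tt N22004 F43427) (tt N20759 F43426) (tt N22003 (iv F43428)))
theorem Q22605 : ∀ i, i < 22605 → P i := stepQ 22604 Q22604 (allL N22604 (tt N20760 F43429) (tt N23816 (iv F46491)) (tt N22003 F43430) (tt N20758 F43431) (tt N23925 D23963) (tt N20757 (iv D22642)))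
theorem Q22606 : ∀ i, i < 22606 → P i := stepQ 22605 Q22605 (allL N22605 (tt N23618 (iv F46019)) (tt N20759 (iv D22643)) (tt N23817 (iv F46493)) (tt N22106 F43432) (tt N23924 (iv F46780)) (tt N23926 D23964))
theorem Q22607 : ∀ i, i < 22607 → P i := stepQ 22606 Q22606 (allL N22606 (tt N22003 F43433) (tt N23926 (iv F46785)) (tt N20760 F43434) (tt N21997 F43435) (tt N23927 D23965) (tt N20759 (iv D22644)))
theorem Q22608 : ∀ i, i < 22608 → P i := stepQ 22607 Q22607 (allL N22607 (tt N23925 (iv F46782)) (tt N23818 (iv F46497)) (tt N23927 (iv F46789)) (tt N23811 (iv F46472)) (tt N20760 (iv D22645)) (tt N23925 (iv F46784)))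
theorem Q22609 : ∀ i, i < 22609 → P i := stepQ 22608 Q22608 (allL N22608 (tt N23863 (iv F46612)) (tt N20761 (iv D22646)) (tt N23803 (iv F46456)) (tt N23928 D23966) (tt N20930 F43436) (tt N23865 (iv F46624)))
theorem Q22610 : ∀ i, i < 22610 → P i := stepQ 22609 Q22609 (allL N22609 (tt N20762 F43437) (tt N23928 (iv F46792)) (tt N21945 F43438) (tt N20761 (iv D22647)) (tt N22032 F43439) (tt N21944 F43440))
theorem Q22611 : ∀ i, i < 22611 → P i := stepQ 22610 Q22610 (allL N22610 (tt N21945 F43441) (tt N23929 D23967) (tt N20762 (iv D22648)) (tt N21943 F43442) (tt N23930 D23968) (tt N21942 F43443))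
theorem Q22612 : ∀ i, i < 22612 → P i := stepQ 22611 Q22611 (allL N22611 (tt N22032 F43444) (tt N23864 (iv F46617)) (tt N23930 (iv F46799)) (tt N20933 F43445) (tt N20762 (iv D22649)) (tt N23864 (iv F46620)))
theorem Q22613 : ∀ i, i < 22613 → P i := stepQ 22612 Q22612 (allL N22612 (tt N23241 (iv F45073)) (tt N23245 (iv F45083)) (tt N23931 D23969) (tt N20766 (iv D22650)) (tt N23238 (iv F45070)) (tt N23241 F45076))
theorem Q22614 : ∀ i, i < 22614 → P i := stepQ 22613 Q22613 (allL N22613 (tt N22703 (iv F43625)) (tt N20768 F43446) (tt N21744 (iv F43449)) (tt N20767 (iv D22651)) (tt N20792 F43447) (tt N21743 F43448))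
theorem Q22615 : ∀ i, i < 22615 → P i := stepQ 22614 Q22614 (allL N22614 (tt N22076 F43450) (tt N23553 (iv F45852)) (tt N22080 F43451) (tt N23431 (iv F45542)) (tt N20772 (iv D22652)) (tt N23932 D23970))
theorem Q22616 : ∀ i, i < 22616 → P i := stepQ 22615 Q22615 (allL N22615 (tt N22339 F43452) (tt N20780 F43453) (tt N20774 F43454) (tt N22133 (iv F43456)) (tt N20773 (iv D22653)) (tt N20970 F43455))
theorem Q22617 : ∀ i, i < 22617 → P i := stepQ 22616 Q22616 (allL N22616 (tt N22628 (iv F43479)) (tt N20791 F43457) (tt N22320 F43458) (tt N21992 F43459) (tt N20777 (iv D22654)) (tt N21985 F43460))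
theorem Q22618 : ∀ i, i < 22618 → P i := stepQ 22617 Q22617 (allL N22617 (tt N20781 F43461) (tt N23262 (iv F45125)) (tt N23571 (iv F45903)) (tt N20991 F43462) (tt N23426 (iv F45535)) (tt N20778 (iv D22655)))
theorem Q22619 : ∀ i, i < 22619 → P i := stepQ 22618 Q22618 (allL N22618 (tt N20782 F43463) (tt N23260 (iv F45118)) (tt N23933 D23971) (tt N20779 (iv D22656)) (tt N23432 (iv F45545)) (tt N23276 (iv F45160)))
theorem Q22620 : ∀ i, i < 22620 → P i := stepQ 22619 Q22619 (allL N22619 (tt N23571 (iv F45902)) (tt N20970 F43464) (tt N20781 F43465) (tt N22134 F43466) (tt N23424 (iv F45531)) (tt N20780 (iv D22657)))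
theorem Q22621 : ∀ i, i < 22621 → P i := stepQ 22620 Q22620 (allL N22620 (tt N23933 (iv F46807)) (tt N23433 (iv F45546)) (tt N20782 (iv D22658)) (tt N23934 D23972) (tt N23433 (iv F45547)) (tt N23314 (iv F45236)))
theorem Q22622 : ∀ i, i < 22622 → P i := stepQ 22621 Q22621 (allL N22621 (tt N20784 F43467) (tt N22215 F43468) (tt N20786 F43469) (tt N23935 D23973) (tt N20783 (iv D22659)) (tt N23654 (iv F46090)))
theorem Q22623 : ∀ i, i < 22623 → P i := stepQ 22622 Q22622 (allL N22622 (tt N23935 (iv F46808)) (tt N20785 F43470) (tt N23936 D23974) (tt N20784 (iv D22660)) (tt N23839 (iv F46534)) (tt N23655 (iv F46093)))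
theorem Q22624 : ∀ i, i < 22624 → P i := stepQ 22623 Q22623 (allL N22623 (tt N20787 F43471) (tt N23432 (iv F45544)) (tt N23937 D23975) (tt N20786 (iv D22661)) (tt N23260 (iv F45119)) (tt N23316 (iv F45241)))
theorem Q22625 : ∀ i, i < 22625 → P i := stepQ 22624 Q22624 (allL N22624 (tt N20788 F43472) (tt N23426 (iv F45534)) (tt N23654 (iv F46088)) (tt N23316 (iv F45240)) (tt N23262 (iv F45128)) (tt N20786 (iv D22662)))
theorem Q22626 : ∀ i, i < 22626 → P i := stepQ 22625 Q22625 (allL N22625 (tt N23937 (iv F46811)) (tt N23261 (iv F45121)) (tt N20787 (iv D22663)) (tt N23938 D23976) (tt N23261 (iv F45122)) (tt N23284 (iv F45181)))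
theorem Q22627 : ∀ i, i < 22627 → P i := stepQ 22626 Q22626 (allL N22626 (tt N22645 (iv F43515)) (tt N21745 F43473) (tt N20792 (iv D22664)) (tt N21818 F43476) (tt N21744 F43474) (tt N21819 F43475))
theorem Q22628 : ∀ i, i < 22628 → P i := stepQ 22627 Q22627 (allL N22627 (tt N23460 (iv F45607)) (tt N22591 F43477) (tt N23939 D23977) (tt N20799 (iv D22665)) (tt N20800 F43478) (tt N23510 (iv F45733)))
theorem Q22629 : ∀ i, i < 22629 → P i := stepQ 22628 Q22628 (allL N22628 (tt N22616 F43479) (tt N22590 F43480) (tt N22772 (iv F43811)) (tt N23510 (iv F45732)) (tt N22586 F43481) (tt N20799 (iv D22666)))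
theorem Q22630 : ∀ i, i < 22630 → P i := stepQ 22629 Q22629 (allL N22629 (tt N23459 (iv F45604)) (tt N23940 D23978) (tt N20800 (iv D22667)) (tt N23941 D23979) (tt N23939 (iv F46813)) (tt N22475 F43482))
theorem Q22631 : ∀ i, i < 22631 → P i := stepQ 22630 Q22630 (allL N22630 (tt N21765 F43483) (tt N20802 F43484) (tt N23942 D23980) (tt N20801 (iv D22668)) (tt N23383 (iv F45437)) (tt N23943 D23981))
theorem Q22632 : ∀ i, i < 22632 → P i := stepQ 22631 Q22631 (allL N22631 (tt N21766 F43485) (tt N20803 F43486) (tt N21763 F43487) (tt N23943 (iv F46822)) (tt N21792 F43488) (tt N20801 (iv D22669)))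
theorem Q22633 : ∀ i, i < 22633 → P i := stepQ 22632 Q22632 (allL N22632 (tt N20807 F43489) (tt N23944 D23982) (tt N20802 (iv D22670)) (tt N22475 F43490) (tt N23790 (iv F46422)) (tt N23941 (iv F46818)))
theorem Q22634 : ∀ i, i < 22634 → P i := stepQ 22633 Q22633 (allL N22633 (tt N20808 F43491) (tt N23943 (iv F46821)) (tt N23941 (iv F46817)) (tt N20803 F43492) (tt N23945 D23983) (tt N20802 (iv D22671)))
theorem Q22635 : ∀ i, i < 22635 → P i := stepQ 22634 Q22634 (allL N22634 (tt N23790 (iv F46421)) (tt N23946 D23984) (tt N20804 (iv D22672)) (tt N23511 (iv F45735)) (tt N20807 F43493) (tt N23797 (iv F46438)))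
theorem Q22636 : ∀ i, i < 22636 → P i := stepQ 22635 Q22635 (allL N22635 (tt N23791 (iv F46423)) (tt N23539 (iv F45808)) (tt N23797 (iv F46439)) (tt N20805 F43494) (tt N23947 D23985) (tt N20804 (iv D22673)))
theorem Q22637 : ∀ i, i < 22637 → P i := stepQ 22636 Q22636 (allL N22636 (tt N20823 F43495) (tt N20827 F43496) (tt N20821 F43497) (tt N22346 (iv F43499)) (tt N20805 (iv D22674)) (tt N20806 F43498))
theorem Q22638 : ∀ i, i < 22638 → P i := stepQ 22637 Q22637 (allL N22637 (tt N23948 D23986) (tt N20807 (iv D22675)) (tt N23537 (iv F45802)) (tt N23458 (iv F45602)) (tt N23946 (iv F46827)) (tt N23949 D23987))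
theorem Q22639 : ∀ i, i < 22639 → P i := stepQ 22638 Q22638 (allL N22638 (tt N23941 (iv F46816)) (tt N23949 (iv F46831)) (tt N20808 F43500) (tt N23459 (iv F45606)) (tt N23950 D23988) (tt N20807 (iv D22676)))
theorem Q22640 : ∀ i, i < 22640 → P i := stepQ 22639 Q22639 (allL N22639 (tt N23945 (iv F46824)) (tt N22056 F43501) (tt N23950 (iv F46834)) (tt N22055 F43502) (tt N20808 (iv D22677)) (tt N23947 (iv F46830)))
theorem Q22641 : ∀ i, i < 22641 → P i := stepQ 22640 Q22640 (allL N22640 (tt N23015 (iv F44480)) (tt N20811 F43503) (tt N23753 (iv F46331)) (tt N20809 (iv D22678)) (tt N22771 F43809) (tt N23010 (iv F44462)))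
theorem Q22642 : ∀ i, i < 22642 → P i := stepQ 22641 Q22641 (allL N22641 (tt N20960 F43504) (tt N22724 (iv F43667)) (tt N20817 F43505) (tt N22851 (iv F44012)) (tt N20816 (iv D22679)) (tt N21364 F43506))
theorem Q22643 : ∀ i, i < 22643 → P i := stepQ 22642 Q22642 (allL N22642 (tt N22346 F43507) (tt N23381 (iv F45428)) (tt N21050 F43508) (tt N20823 F43509) (tt N23177 (iv F44917)) (tt N20822 (iv D22680)))
theorem Q22644 : ∀ i, i < 22644 → P i := stepQ 22643 Q22643 (allL N22643 (tt N20963 F43510) (tt N22809 (iv F43907)) (tt N20827 F43511) (tt N21863 F43512) (tt N20965 F43513) (tt N20826 (iv D22681)))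
theorem Q22645 : ∀ i, i < 22645 → P i := stepQ 22644 Q22644 (allL N22644 (tt N23339 (iv F45311)) (tt N20831 (iv D22682)) (tt N20835 F43514) (tt N23327 F45283) (tt N23328 (iv F45286)) (tt N23370 (iv F45397)))
theorem Q22646 : ∀ i, i < 22646 → P i := stepQ 22645 Q22645 (allL N22645 (tt N22626 F43515) (tt N23327 (iv F45282)) (tt N22504 F43516) (tt N20831 (iv D22683)) (tt N23321 F45266) (tt N23377 (iv F45415)))
theorem Q22647 : ∀ i, i < 22647 → P i := stepQ 22646 Q22646 (allL N22646 (tt N23340 (iv F45317)) (tt N20833 (iv D22684)) (tt N23328 F45288) (tt N23951 D23989) (tt N20835 F43517) (tt N23343 (iv F45332)))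
theorem Q22648 : ∀ i, i < 22648 → P i := stepQ 22647 Q22647 (allL N22647 (tt N20838 F43518) (tt N23951 (iv F46835)) (tt N23952 D23990) (tt N20833 (iv D22685)) (tt N23739 (iv F46305)) (tt N23952 F46839))
theorem Q22649 : ∀ i, i < 22649 → P i := stepQ 22648 Q22648 (allL N22648 (tt N20839 F43519) (tt N23343 (iv F45330)) (tt N20834 F43520) (tt N23952 (iv F46838)) (tt N23367 (iv F45386)) (tt N20833 (iv D22686)))
theorem Q22650 : ∀ i, i < 22650 → P i := stepQ 22649 Q22649 (allL N22649 (tt N20835 (iv D22687)) (tt N20840 F43521) (tt N23339 F45315) (tt N23737 (iv F46301)) (tt N23340 (iv F45318)) (tt N23376 (iv F45411)))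
theorem Q22651 : ∀ i, i < 22651 → P i := stepQ 22650 Q22650 (allL N22650 (tt N20837 (iv D22688)) (tt N23340 F45320) (tt N23342 (iv F45325)) (tt N23953 D23991) (tt N20840 F43522) (tt N23346 (iv F45338)))
theorem Q22652 : ∀ i, i < 22652 → P i := stepQ 22651 Q22651 (allL N22651 (tt N23953 (iv F46840)) (tt N20838 F43523) (tt N23954 D23992) (tt N20837 (iv D22689)) (tt N23955 D23993) (tt N23956 D23994))
theorem Q22653 : ∀ i, i < 22653 → P i := stepQ 22652 Q22652 (allL N22652 (tt N23346 (iv F45335)) (tt N20839 F43524) (tt N23348 (iv F45340)) (tt N23956 (iv F46844)) (tt N23371 (iv F45400)) (tt N20837 (iv D22690)))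
theorem Q22654 : ∀ i, i < 22654 → P i := stepQ 22653 Q22653 (allL N22653 (tt N23952 (iv F46837)) (tt N23956 (iv F46843)) (tt N20838 (iv D22691)) (tt N20839 F43525) (tt N23957 D23995) (tt N20838 (iv F43526)))
theorem Q22655 : ∀ i, i < 22655 → P i := stepQ 22654 Q22654 (allL N22654 (tt N23739 (iv F46304)) (tt N23955 (iv F46841)) (tt N23957 (iv F46845)) (tt N20842 F43527) (tt N20838 (iv D22692)) (tt N23168 (iv F44901)))
theorem Q22656 : ∀ i, i < 22656 → P i := stepQ 22655 Q22655 (allL N22655 (tt N20841 F43528) (tt N23737 (iv F46299)) (tt N21322 F43529) (tt N20840 (iv D22693)) (tt N23958 D23996) (tt N21320 F43530))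
theorem Q22657 : ∀ i, i < 22657 → P i := stepQ 22656 Q22656 (allL N22656 (tt N23958 (iv F46846)) (tt N20842 F43531) (tt N22934 (iv F44221)) (tt N23955 (iv F46842)) (tt N20841 (iv D22694)) (tt N22933 (iv F44219)))
theorem Q22658 : ∀ i, i < 22658 → P i := stepQ 22657 Q22657 (allL N22657 (tt N20850 F43532) (tt N22197 F43533) (tt N20844 (iv D22695)) (tt N23789 (iv F46420)) (tt N22534 F43534) (tt N22193 F43535))
theorem Q22659 : ∀ i, i < 22659 → P i := stepQ 22658 Q22658 (allL N22658 (tt N23801 (iv F46448)) (tt N20845 (iv D22696)) (tt N23213 (iv F45006)) (tt N23959 D23997) (tt N20846 F43536) (tt N23211 (iv F45002)))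
theorem Q22660 : ∀ i, i < 22660 → P i := stepQ 22659 Q22659 (allL N22659 (tt N20851 F43537) (tt N23959 (iv F46849)) (tt N23960 D23998) (tt N20845 (iv D22697)) (tt N23613 (iv F46010)) (tt N23227 (iv F45041)))
theorem Q22661 : ∀ i, i < 22661 → P i := stepQ 22660 Q22660 (allL N22660 (tt N20846 (iv D22698)) (tt N20852 F43538) (tt N22274 F43539) (tt N22264 F43540) (tt N23801 (iv F46451)) (tt N20855 F43541))
theorem Q22662 : ∀ i, i < 22662 → P i := stepQ 22661 Q22661 (allL N22661 (tt N22534 F43542) (tt N23961 D23999) (tt N20848 (iv D22699)) (tt N23494 (iv F45688)) (tt N20850 F43543) (tt N21370 F43544))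
theorem Q22663 : ∀ i, i < 22663 → P i := stepQ 22662 Q22662 (allL N22662 (tt N22193 F43545) (tt N21378 F43546) (tt N20849 (iv D22700)) (tt N23960 (iv F46852)) (tt N21371 F43547) (tt N20850 F43548))
theorem Q22664 : ∀ i, i < 22664 → P i := stepQ 22663 Q22663 (allL N22663 (tt N23714 (iv F46249)) (tt N20850 (iv D22701)) (tt N21379 F43549) (tt N23962 D24000) (tt N23961 (iv F46858)) (tt N21378 F43550))
theorem Q22665 : ∀ i, i < 22665 → P i := stepQ 22664 Q22664 (allL N22664 (tt N23789 (iv F46417)) (tt N23962 (iv F46860)) (tt N23227 (iv F45039)) (tt N20850 (iv D22702)) (tt N23833 (iv F46525)) (tt N23960 (iv F46854)))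
theorem Q22666 : ∀ i, i < 22666 → P i := stepQ 22665 Q22665 (allL N22665 (tt N23960 (iv F46851)) (tt N22196 F43551) (tt N20851 (iv D22703)) (tt N22193 F43552) (tt N22194 (iv F43553)) (tt N23789 (iv F46419)))
theorem Q22667 : ∀ i, i < 22667 → P i := stepQ 22666 Q22666 (allL N22666 (tt N23613 (iv F46009)) (tt N23802 (iv F46452)) (tt N22194 F43554) (tt N20854 F43555) (tt N20851 (iv D22704)) (tt N23963 D24001))
theorem Q22668 : ∀ i, i < 22668 → P i := stepQ 22667 Q22667 (allL N22667 (tt N20853 F43556) (tt N22264 F43557) (tt N23604 (iv F45994)) (tt N20852 (iv D22705)) (tt N23964 D24002) (tt N20856 F43558))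
theorem Q22669 : ∀ i, i < 22669 → P i := stepQ 22668 Q22668 (allL N22668 (tt N23604 (iv F45993)) (tt N23600 (iv F45982)) (tt N20853 (iv D22706)) (tt N23965 D24003) (tt N23966 D24004) (tt N20857 F43559))
theorem Q22670 : ∀ i, i < 22670 → P i := stepQ 22669 Q22669 (allL N22669 (tt N23964 (iv F46864)) (tt N20854 F43560) (tt N23966 (iv F46871)) (tt N23802 (iv F46454)) (tt N20853 (iv D22707)) (tt N23967 D24005))
theorem Q22671 : ∀ i, i < 22671 → P i := stepQ 22670 Q22670 (allL N22670 (tt N23612 (iv F46006)) (tt N23967 (iv F46872)) (tt N23504 (iv F45714)) (tt N23963 (iv F46863)) (tt N20859 F43561) (tt N20854 (iv D22708)))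
theorem Q22672 : ∀ i, i < 22672 → P i := stepQ 22671 Q22671 (allL N22671 (tt N20857 F43562) (tt N23602 (iv F45987)) (tt N20856 (iv D22709)) (tt N23580 F45931) (tt N23581 (iv F45933)) (tt N23604 (iv F45996)))
theorem Q22673 : ∀ i, i < 22673 → P i := stepQ 22672 Q22672 (allL N22672 (tt N23580 (iv F45927)) (tt N22091 F43563) (tt N23550 (iv F45844)) (tt N20857 (iv D22710)) (tt N22070 (iv F43564)) (tt N23965 (iv F46869)))
theorem Q22674 : ∀ i, i < 22674 → P i := stepQ 22673 Q22673 (allL N22673 (tt N23581 (iv F45932)) (tt N22092 F43565) (tt N20858 F43566) (tt N22071 F43567) (tt N20857 (iv D22711)) (tt N23968 D24006))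
theorem Q22675 : ∀ i, i < 22675 → P i := stepQ 22674 Q22674 (allL N22674 (tt N23822 (iv F46507)) (tt N20859 F43568) (tt N23968 (iv F46875)) (tt N23499 F45697) (tt N23967 (iv F46873)) (tt N20858 (iv D22712)))
theorem Q22676 : ∀ i, i < 22676 → P i := stepQ 22675 Q22675 (allL N22675 (tt N20861 F43569) (tt N23152 (iv F44861)) (tt N23965 (iv F46868)) (tt N20860 (iv D22713)) (tt N23659 (iv F46107)) (tt N23550 F45846))
theorem Q22677 : ∀ i, i < 22677 → P i := stepQ 22676 Q22676 (allL N22676 (tt N23965 (iv F46866)) (tt N21142 F43570) (tt N20861 (iv D22714)) (tt N23604 (iv F45995)) (tt N23582 (iv F45938)) (tt N23580 F45930))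
theorem Q22678 : ∀ i, i < 22678 → P i := stepQ 22677 Q22677 (allL N22677 (tt N23659 (iv F46104)) (tt N21144 F43571) (tt N23582 (iv F45937)) (tt N23799 (iv F46444)) (tt N20861 (iv D22715)) (tt N22499 F43572))
theorem Q22679 : ∀ i, i < 22679 → P i := stepQ 22678 Q22678 (allL N22678 (tt N21135 F43573) (tt N22411 F43574) (tt N21134 F43576) (tt N20862 (iv D22716)) (tt N22428 F43575) (tt N23969 D24007))
theorem Q22680 : ∀ i, i < 22680 → P i := stepQ 22679 Q22679 (allL N22679 (tt N22388 F43577) (tt N22333 F43578) (tt N20863 F43579) (tt N23969 (iv F46880)) (tt N22384 F43580) (tt N20862 (iv D22717)))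
theorem Q22681 : ∀ i, i < 22681 → P i := stepQ 22680 Q22680 (allL N22680 (tt N22377 F43581) (tt N20864 F43582) (tt N22384 F43583) (tt N22878 (iv F44050)) (tt N20863 (iv D22718)) (tt N22375 F43584))
theorem Q22682 : ∀ i, i < 22682 → P i := stepQ 22681 Q22681 (allL N22681 (tt N22321 F43585) (tt N22878 (iv F44049)) (tt N23970 D24008) (tt N20864 (iv D22719)) (tt N20865 F43586) (tt N22378 F43587))
theorem Q22683 : ∀ i, i < 22683 → P i := stepQ 22682 Q22682 (allL N22682 (tt N22852 (iv F44013)) (tt N23971 D24009) (tt N20865 (iv D22720)) (tt N22045 F43588) (tt N23970 (iv F46883)) (tt N23355 (iv F45359)))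
theorem Q22684 : ∀ i, i < 22684 → P i := stepQ 22683 Q22683 (allL N22683 (tt N21127 F43589) (tt N20866 (iv D22721)) (tt N23422 F45527) (tt N23972 D24010) (tt N23154 (iv F44868)) (tt N21125 F43590))
theorem Q22685 : ∀ i, i < 22685 → P i := stepQ 22684 Q22684 (allL N22684 (tt N20867 F43591) (tt N23972 (iv F46890)) (tt N23969 (iv F46879)) (tt N20866 (iv D22722)) (tt N23973 D24011) (tt N21134 F43592))
theorem Q22686 : ∀ i, i < 22686 → P i := stepQ 22685 Q22685 (allL N22685 (tt N23969 (iv F46877)) (tt N22392 F43593) (tt N20867 (iv D22723)) (tt N22388 F43594) (tt N23974 D24012) (tt N21135 F43595))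
theorem Q22687 : ∀ i, i < 22687 → P i := stepQ 22686 Q22686 (allL N22686 (tt N23973 (iv F46893)) (tt N21139 F43596) (tt N23974 (iv F46895)) (tt N22791 (iv F43857)) (tt N20867 (iv D22724)) (tt N22790 F43855))
theorem Q22688 : ∀ i, i < 22688 → P i := stepQ 22687 Q22687 (allL N22687 (tt N20871 F43597) (tt N23975 D24013) (tt N20868 (iv D22725)) (tt N23976 D24014) (tt N20870 F43598) (tt N23977 D24015))
theorem Q22689 : ∀ i, i < 22689 → P i := stepQ 22688 Q22688 (allL N22688 (tt N20872 F43599) (tt N21988 F43600) (tt N23977 (iv F46902)) (tt N20869 F43601) (tt N23914 (iv F46756)) (tt N20868 (iv D22726)))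
theorem Q22690 : ∀ i, i < 22690 → P i := stepQ 22689 Q22689 (allL N22689 (tt N23978 D24016) (tt N20870 (iv D22727)) (tt N23820 (iv F46504)) (tt N23919 (iv F46763)) (tt N23975 (iv F46899)) (tt N23916 (iv F46761)))
theorem Q22691 : ∀ i, i < 22691 → P i := stepQ 22690 Q22690 (allL N22690 (tt N23979 D24017) (tt N20871 (iv D22728)) (tt N21921 F43602) (tt N23980 D24018) (tt N20873 F43603) (tt N23981 D24019))
theorem Q22692 : ∀ i, i < 22692 → P i := stepQ 22691 Q22691 (allL N22691 (tt N23976 (iv F46900)) (tt N23980 (iv F46906)) (tt N23982 D24020) (tt N20871 (iv D22729)) (tt N23983 D24021) (tt N23982 F46910))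
theorem Q22693 : ∀ i, i < 22693 → P i := stepQ 22692 Q22692 (allL N22692 (tt N23977 (iv F46901)) (tt N23981 (iv F46907)) (tt N20872 F43604) (tt N23982 (iv F46909)) (tt N23984 D24022) (tt N20871 (iv D22730)))
theorem Q22694 : ∀ i, i < 22694 → P i := stepQ 22693 Q22693 (allL N22693 (tt N23914 (iv F46754)) (tt N21922 F43605) (tt N23984 (iv F46912)) (tt N21986 F43606) (tt N20872 (iv D22731)) (tt N20876 F43607))
theorem Q22695 : ∀ i, i < 22695 → P i := stepQ 22694 Q22694 (allL N22694 (tt N20873 (iv D22732)) (tt N23978 (iv F46903)) (tt N21923 F43608) (tt N23985 D24023) (tt N23979 (iv F46905)) (tt N23986 D24024))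
theorem Q22696 : ∀ i, i < 22696 → P i := stepQ 22695 Q22695 (allL N22695 (tt N23985 (iv F46914)) (tt N20874 F43609) (tt N23926 (iv F46786)) (tt N20873 (iv D22733)) (tt N23987 D24025) (tt N23817 (iv F46495)))
theorem Q22697 : ∀ i, i < 22697 → P i := stepQ 22696 Q22696 (allL N22696 (tt N23986 (iv F46915)) (tt N20875 F43610) (tt N21924 F43611) (tt N23817 (iv F46494)) (tt N23988 D24026) (tt N20873 (iv D22734)))
theorem Q22698 : ∀ i, i < 22698 → P i := stepQ 22697 Q22697 (allL N22697 (tt N23920 (iv F46764)) (tt N23987 (iv F46917)) (tt N23818 (iv F46498)) (tt N23983 (iv F46911)) (tt N20874 (iv D22735)) (tt N23989 D24027))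
theorem Q22699 : ∀ i, i < 22699 → P i := stepQ 22698 Q22698 (allL N22698 (tt N23915 (iv F46758)) (tt N23988 (iv F46918)) (tt N20876 F43612) (tt N23990 D24028) (tt N20875 (iv D22736)) (tt N23984 (iv F46913)))
theorem Q22700 : ∀ i, i < 22700 → P i := stepQ 22699 Q22699 (allL N22699 (tt N20878 F43613) (tt N21930 F43614) (tt N23991 D24029) (tt N20877 (iv D22737)) (tt N22507 F43615) (tt N21928 F43616))
theorem Q22701 : ∀ i, i < 22701 → P i := stepQ 22700 Q22700 (allL N22700 (tt N23991 (iv F46920)) (tt N23324 (iv F45273)) (tt N20878 (iv D22738)) (tt N23992 D24030) (tt N23322 F45268) (tt N23993 D24031))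
theorem Q22702 : ∀ i, i < 22702 → P i := stepQ 22701 Q22701 (allL N22701 (tt N22507 F43617) (tt N20880 F43618) (tt N23322 (iv F45267)) (tt N21883 F43619) (tt N20878 (iv D22739)) (tt N22505 (iv F43620)))
theorem Q22703 : ∀ i, i < 22703 → P i := stepQ 22702 Q22702 (allL N22702 (tt N21928 F43621) (tt N20881 F43622) (tt N23993 (iv F46924)) (tt N20879 F43623) (tt N22325 F43624) (tt N20878 (iv D22740)))
theorem Q22704 : ∀ i, i < 22704 → P i := stepQ 22703 Q22703 (allL N22703 (tt N22613 F43625) (tt N22505 F43626) (tt N23321 (iv F45264)) (tt N21884 F43627) (tt N22504 F43628) (tt N20880 (iv D22741)))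
theorem Q22705 : ∀ i, i < 22705 → P i := stepQ 22704 Q22704 (allL N22704 (tt N20884 F43629) (tt N23994 D24032) (tt N20882 (iv D22742)) (tt N23995 D24033) (tt N21911 F43630) (tt N23905 (iv F46735)))
theorem Q22706 : ∀ i, i < 22706 → P i := stepQ 22705 Q22705 (allL N22705 (tt N23995 (iv F46929)) (tt N23904 (iv F46731)) (tt N23996 D24034) (tt N20884 (iv D22743)) (tt N23997 D24035) (tt N23906 (iv F46737)))
theorem Q22707 : ∀ i, i < 22707 → P i := stepQ 22706 Q22706 (allL N22706 (tt N23998 D24036) (tt N20889 (iv D22744)) (tt N23851 (iv F46571)) (tt N23870 (iv F46639)) (tt N21940 F43631) (tt N20893 F43632))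
theorem Q22708 : ∀ i, i < 22708 → P i := stepQ 22707 Q22707 (allL N22707 (tt N20890 (iv D22745)) (tt N23998 (iv F46932)) (tt N20892 F43633) (tt N23999 D24037) (tt N21927 F43634) (tt N20895 F43635))
theorem Q22709 : ∀ i, i < 22709 → P i := stepQ 22708 Q22708 (allL N22708 (tt N23999 (iv F46936)) (tt N20891 F43636) (tt N24000 D24038) (tt N20890 (iv D22746)) (tt N21937 F43637) (tt N20896 F43638))
theorem Q22710 : ∀ i, i < 22710 → P i := stepQ 22709 Q22709 (allL N22709 (tt N20893 (iv D22747)) (tt N20895 F43639) (tt N22425 F43640) (tt N24001 D24039) (tt N21425 F43641) (tt N23998 (iv F46935)))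
theorem Q22711 : ∀ i, i < 22711 → P i := stepQ 22710 Q22710 (allL N22710 (tt N24001 (iv F46941)) (tt N20894 F43642) (tt N23929 (iv F46795)) (tt N20893 (iv D22748)) (tt N24002 D24040) (tt N23870 (iv F46641)))
theorem Q22712 : ∀ i, i < 22712 → P i := stepQ 22711 Q22711 (allL N22711 (tt N20898 F43643) (tt N24002 (iv F46945)) (tt N23864 (iv F46618)) (tt N22350 F43644) (tt N20894 (iv D22749)) (tt N23930 (iv F46800)))
theorem Q22713 : ∀ i, i < 22713 → P i := stepQ 22712 Q22712 (allL N22712 (tt N20896 F43645) (tt N24001 (iv F46942)) (tt N24003 D24041) (tt N20895 (iv D22750)) (tt N24004 D24042) (tt N23999 (iv F46938)))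
theorem Q22714 : ∀ i, i < 22714 → P i := stepQ 22713 Q22713 (allL N22713 (tt N24003 (iv F46947)) (tt N24005 D24043) (tt N20896 (iv D22751)) (tt N24006 D24044) (tt N24007 D24045) (tt N24000 (iv F46940)))
theorem Q22715 : ∀ i, i < 22715 → P i := stepQ 22714 Q22714 (allL N22714 (tt N24004 (iv F46948)) (tt N20898 F43646) (tt N24007 (iv F46952)) (tt N23846 (iv F46552)) (tt N20896 (iv D22752)) (tt N24008 D24046))
theorem Q22716 : ∀ i, i < 22716 → P i := stepQ 22715 Q22715 (allL N22715 (tt N23928 (iv F46791)) (tt N20897 (iv D22753)) (tt N24005 (iv F46951)) (tt N23863 (iv F46613)) (tt N24009 D24047) (tt N23866 (iv F46629)))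
theorem Q22717 : ∀ i, i < 22717 → P i := stepQ 22716 Q22716 (allL N22716 (tt N23864 (iv F46616)) (tt N24009 (iv F46957)) (tt N20898 F43647) (tt N22033 (iv F43649)) (tt N20897 (iv D22754)) (tt N22032 F43648))
theorem Q22718 : ∀ i, i < 22718 → P i := stepQ 22717 Q22717 (allL N22717 (tt N23930 (iv F46798)) (tt N24008 (iv F46953)) (tt N22032 F43650) (tt N23847 (iv F46557)) (tt N21945 F43651) (tt N20898 (iv D22755)))
theorem Q22719 : ∀ i, i < 22719 → P i := stepQ 22718 Q22718 (allL N22718 (tt N20900 F43652) (tt N24010 D24048) (tt N20899 (iv D22756)) (tt N24011 D24049) (tt N23848 (iv F46560)) (tt N23871 (iv F46645)))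
theorem Q22720 : ∀ i, i < 22720 → P i := stepQ 22719 Q22719 (allL N22719 (tt N24011 (iv F46962)) (tt N20915 F43653) (tt N24012 D24050) (tt N20900 (iv D22757)) (tt N24013 D24051) (tt N23872 (iv F46647)))
theorem Q22721 : ∀ i, i < 22721 → P i := stepQ 22720 Q22720 (allL N22720 (tt N23045 (iv F44568)) (tt N20905 F43654) (tt N23139 (iv F44836)) (tt N20904 (iv D22758)) (tt N21102 F43655) (tt N21103 F43656))
theorem Q22722 : ∀ i, i < 22722 → P i := stepQ 22721 Q22721 (allL N22721 (tt N20915 F43657) (tt N24014 D24052) (tt N20905 (iv D22759)) (tt N20922 F43658) (tt N21614 F43659) (tt N20921 F43660))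
theorem Q22723 : ∀ i, i < 22723 → P i := stepQ 22722 Q22722 (allL N22722 (tt N20909 F43661) (tt N21057 F43662) (tt N21620 F43663) (tt N24015 D24053) (tt N20906 (iv D22760)) (tt N21064 F43664))
theorem Q22724 : ∀ i, i < 22724 → P i := stepQ 22723 Q22723 (allL N22723 (tt N20910 F43665) (tt N23045 (iv F44569)) (tt N24016 D24054) (tt N20907 (iv D22761)) (tt N24015 (iv F46970)) (tt N24017 D24055))
theorem Q22725 : ∀ i, i < 22725 → P i := stepQ 22724 Q22724 (allL N22724 (tt N20911 F43666) (tt N22641 F43667) (tt N20918 F43668) (tt N24017 (iv F46976)) (tt N21895 F43669) (tt N20907 (iv D22762)))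
theorem Q22726 : ∀ i, i < 22726 → P i := stepQ 22725 Q22725 (allL N22725 (tt N21620 F43670) (tt N21608 F43671) (tt N20909 F43672) (tt N24018 D24056) (tt N20908 (iv D22763)) (tt N24019 D24057))
theorem Q22727 : ∀ i, i < 22727 → P i := stepQ 22726 Q22726 (allL N22726 (tt N24015 (iv F46968)) (tt N20912 F43673) (tt N24020 D24058) (tt N20909 (iv D22764)) (tt N20910 F43674) (tt N24021 D24059))
theorem Q22728 : ∀ i, i < 22728 → P i := stepQ 22727 Q22727 (allL N22727 (tt N21064 F43675) (tt N20913 F43676) (tt N24019 (iv F46983)) (tt N24021 (iv F46988)) (tt N21063 F43677) (tt N20909 (iv D22765)))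
theorem Q22729 : ∀ i, i < 22729 → P i := stepQ 22728 Q22728 (allL N22728 (tt N24016 (iv F46972)) (tt N24012 (iv F46963)) (tt N20910 (iv D22766)) (tt N24022 D24060) (tt N24020 (iv F46985)) (tt N24023 D24061))
theorem Q22730 : ∀ i, i < 22730 → P i := stepQ 22729 Q22729 (allL N22729 (tt N24017 (iv F46974)) (tt N20916 F43678) (tt N24023 (iv F46992)) (tt N20911 F43679) (tt N23838 (iv F46530)) (tt N20910 (iv D22767)))
theorem Q22731 : ∀ i, i < 22731 → P i := stepQ 22730 Q22730 (allL N22730 (tt N21614 F43680) (tt N24013 (iv F46964)) (tt N20912 (iv D22768)) (tt N23675 (iv F46149)) (tt N20915 F43681) (tt N23674 (iv F46146)))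
theorem Q22732 : ∀ i, i < 22732 → P i := stepQ 22731 Q22731 (allL N22731 (tt N21099 F43682) (tt N24021 (iv F46987)) (tt N23674 (iv F46144)) (tt N20913 F43683) (tt N21097 F43684) (tt N20912 (iv D22769)))
theorem Q22733 : ∀ i, i < 22733 → P i := stepQ 22732 Q22732 (allL N22732 (tt N20919 F43685) (tt N24024 D24062) (tt N20917 (iv D22770)) (tt N24025 D24063) (tt N21896 F43686) (tt N21935 F43687))
theorem Q22734 : ∀ i, i < 22734 → P i := stepQ 22733 Q22733 (allL N22733 (tt N24025 (iv F46997)) (tt N21945 F43688) (tt N24026 D24064) (tt N20919 (iv D22771)) (tt N24008 (iv F46955)) (tt N21937 F43689))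
theorem Q22735 : ∀ i, i < 22735 → P i := stepQ 22734 Q22734 (allL N22734 (tt N20920 (iv D22772)) (tt N23871 (iv F46642)) (tt N23892 (iv F46706)) (tt N24027 D24065) (tt N23921 (iv F46768)) (tt N24010 (iv F46961)))
theorem Q22736 : ∀ i, i < 22736 → P i := stepQ 22735 Q22735 (allL N22735 (tt N24027 (iv F47000)) (tt N20921 F43690) (tt N23136 F44830) (tt N20920 (iv D22773)) (tt N23138 (iv F44833)) (tt N24014 (iv F46967)))
theorem Q22737 : ∀ i, i < 22737 → P i := stepQ 22736 Q22736 (allL N22736 (tt N24010 (iv F46960)) (tt N20922 F43691) (tt N23880 (iv F46673)) (tt N24014 (iv F46965)) (tt N24028 D24066) (tt N20920 (iv D22774)))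
theorem Q22738 : ∀ i, i < 22738 → P i := stepQ 22737 Q22737 (allL N22737 (tt N21910 F43692) (tt N24028 (iv F47001)) (tt N20923 F43693) (tt N24029 D24067) (tt N20922 (iv D22775)) (tt N22024 F43694))
theorem Q22739 : ∀ i, i < 22739 → P i := stepQ 22738 Q22738 (allL N22738 (tt N20928 F43695) (tt N21629 F43696) (tt N20932 F43697) (tt N20926 F43698) (tt N22029 F43699) (tt N20925 (iv D22776)))
theorem Q22740 : ∀ i, i < 22740 → P i := stepQ 22739 Q22739 (allL N22739 (tt N20929 F43700) (tt N20927 (iv D22777)) (tt N21616 F43701) (tt N22010 F43702) (tt N20929 F43703) (tt N22030 (iv F43704)))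
theorem Q22741 : ∀ i, i < 22741 → P i := stepQ 22740 Q22740 (allL N22740 (tt N20932 F43705) (tt N22030 F43706) (tt N20928 F43707) (tt N20931 F43708) (tt N22033 F43709) (tt N20927 (iv D22778)))
theorem Q22742 : ∀ i, i < 22742 → P i := stepQ 22741 Q22741 (allL N22741 (tt N20930 (iv D22779)) (tt N20931 F43710) (tt N23423 (iv F45529)) (tt N22030 F43711) (tt N23863 (iv F46614)) (tt N22010 F43712))
theorem Q22743 : ∀ i, i < 22743 → P i := stepQ 22742 Q22742 (allL N22742 (tt N22033 F43713) (tt N20933 F43714) (tt N22029 F43715) (tt N23864 (iv F46619)) (tt N20932 (iv D22780)) (tt N20933 F43716))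
theorem Q22744 : ∀ i, i < 22744 → P i := stepQ 22743 Q22743 (allL N22743 (tt N20951 F43717) (tt N21082 F43718) (tt N20947 F43719) (tt N21201 F43720) (tt N20935 (iv D22781)) (tt N20936 F43721))
theorem Q22745 : ∀ i, i < 22745 → P i := stepQ 22744 Q22744 (allL N22744 (tt N20942 F43722) (tt N20948 F43723) (tt N24030 D24068) (tt N20937 (iv D22782)) (tt N20948 F43724) (tt N24031 D24069))
theorem Q22746 : ∀ i, i < 22746 → P i := stepQ 22745 Q22745 (allL N22745 (tt N20941 F43725) (tt N20944 F43726) (tt N20938 F43727) (tt N24031 (iv F47014)) (tt N20943 F43728) (tt N20937 (iv D22783)))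
theorem Q22747 : ∀ i, i < 22747 → P i := stepQ 22746 Q22746 (allL N22746 (tt N21463 F43729) (tt N20939 (iv D22784)) (tt N20986 F43730) (tt N24032 D24070) (tt N21187 F43731) (tt N24033 D24071))
theorem Q22748 : ∀ i, i < 22748 → P i := stepQ 22747 Q22747 (allL N22747 (tt N22363 F43732) (tt N24032 (iv F47017)) (tt N24031 (iv F47013)) (tt N20939 (iv D22785)) (tt N22363 F43733) (tt N24030 F47010))
theorem Q22749 : ∀ i, i < 22749 → P i := stepQ 22748 Q22748 (allL N22748 (tt N22364 F43734) (tt N24033 (iv F47020)) (tt N20940 F43735) (tt N24030 (iv F47008)) (tt N24034 D24072) (tt N20939 (iv D22786)))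
theorem Q22750 : ∀ i, i < 22750 → P i := stepQ 22749 Q22749 (allL N22749 (tt N21201 F43736) (tt N20989 F43737) (tt N24034 (iv F47025)) (tt N20951 F43738) (tt N20940 (iv D22787)) (tt N20950 F43739))
theorem Q22751 : ∀ i, i < 22751 → P i := stepQ 22750 Q22750 (allL N22750 (tt N24031 (iv F47011)) (tt N20942 F43740) (tt N22363 F43742) (tt N20941 (iv D22788)) (tt N24031 (iv F47015)) (tt N20942 F43741))
theorem Q22752 : ∀ i, i < 22752 → P i := stepQ 22751 Q22751 (allL N22751 (tt N24030 (iv F47007)) (tt N24035 D24073) (tt N20942 (iv D22789)) (tt N22364 F43744) (tt N24036 D24074) (tt N22363 F43743))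
theorem Q22753 : ∀ i, i < 22753 → P i := stepQ 22752 Q22752 (allL N22752 (tt N20948 F43745) (tt N24031 (iv F47012)) (tt N24036 (iv F47033)) (tt N20944 F43746) (tt N20942 (iv D22790)) (tt N20948 (iv F43747)))
theorem Q22754 : ∀ i, i < 22754 → P i := stepQ 22753 Q22753 (allL N22753 (tt N22486 F43748) (tt N21081 F43749) (tt N20946 F43750) (tt N24037 D24075) (tt N20945 (iv D22791)) (tt N23694 (iv F46204)))
theorem Q22755 : ∀ i, i < 22755 → P i := stepQ 22754 Q22754 (allL N22754 (tt N24036 (iv F47032)) (tt N24038 D24076) (tt N20948 (iv D22792)) (tt N22489 F43751) (tt N24030 (iv F47009)) (tt N24036 (iv F47035)))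
theorem Q22756 : ∀ i, i < 22756 → P i := stepQ 22755 Q22755 (allL N22755 (tt N21200 F43752) (tt N22366 (iv F43754)) (tt N20950 (iv D22793)) (tt N24039 D24077) (tt N21199 F43753) (tt N24034 (iv F47027)))
theorem Q22757 : ∀ i, i < 22757 → P i := stepQ 22756 Q22756 (allL N22756 (tt N21790 F43755) (tt N20952 (iv D22794)) (tt N21866 F43756) (tt N22154 F43757) (tt N20953 F43758) (tt N21788 F43759))
theorem Q22758 : ∀ i, i < 22758 → P i := stepQ 22757 Q22757 (allL N22757 (tt N20958 F43760) (tt N24040 D24078) (tt N20957 (iv D22795)) (tt N21422 F43761) (tt N21872 F43762) (tt N21421 F43763))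
theorem Q22759 : ∀ i, i < 22759 → P i := stepQ 22758 Q22758 (allL N22758 (tt N21422 F43764) (tt N22457 F43765) (tt N21418 F43766) (tt N20958 (iv D22796)) (tt N21415 F43767) (tt N21179 F43768))
theorem Q22760 : ∀ i, i < 22760 → P i := stepQ 22759 Q22759 (allL N22759 (tt N21893 (iv F43771)) (tt N20962 (iv D22797)) (tt N21889 F43769) (tt N24041 D24079) (tt N21916 F43770) (tt N23867 (iv F46633)))
theorem Q22761 : ∀ i, i < 22761 → P i := stepQ 22760 Q22760 (allL N22760 (tt N22019 F43772) (tt N24041 (iv F47052)) (tt N21020 F43773) (tt N20962 (iv D22798)) (tt N23923 (iv F46776)) (tt N23401 (iv F45481)))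
theorem Q22762 : ∀ i, i < 22762 → P i := stepQ 22761 Q22761 (allL N22761 (tt N22783 (iv F43832)) (tt N20965 F43774) (tt N22782 (iv F43829)) (tt N21023 F43775) (tt N22809 (iv F43910)) (tt N20964 (iv D22799)))
theorem Q22763 : ∀ i, i < 22763 → P i := stepQ 22762 Q22762 (allL N22762 (tt N23383 (iv F45435)) (tt N20968 F43776) (tt N24042 D24080) (tt N20967 (iv D22800)) (tt N21765 F43777) (tt N24043 D24081))
theorem Q22764 : ∀ i, i < 22764 → P i := stepQ 22763 Q22763 (allL N22763 (tt N23382 (iv F45431)) (tt N20969 F43778) (tt N22808 (iv F43904)) (tt N24043 (iv F47058)) (tt N21797 F43779) (tt N20967 (iv D22801)))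
theorem Q22765 : ∀ i, i < 22765 → P i := stepQ 22764 Q22764 (allL N22764 (tt N23538 (iv F45803)) (tt N24044 D24082) (tt N20968 (iv D22802)) (tt N21307 F43781) (tt N21798 F43780) (tt N21306 (iv F43782)))
theorem Q22766 : ∀ i, i < 22766 → P i := stepQ 22765 Q22765 (allL N22765 (tt N23539 (iv F45807)) (tt N24043 (iv F47057)) (tt N21306 F43783) (tt N20969 F43784) (tt N24045 D24083) (tt N20968 (iv D22803)))
theorem Q22767 : ∀ i, i < 22767 → P i := stepQ 22766 Q22766 (allL N22766 (tt N20980 F43785) (tt N21515 F43786) (tt N21016 F43787) (tt N20973 F43788) (tt N22442 F43789) (tt N20972 (iv D22804)))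
theorem Q22768 : ∀ i, i < 22768 → P i := stepQ 22767 Q22767 (allL N22767 (tt N22440 F43790) (tt N20978 F43791) (tt N21443 F43792) (tt N23462 (iv F45614)) (tt N20977 (iv D22805)) (tt N21517 F43793))
theorem Q22769 : ∀ i, i < 22769 → P i := stepQ 22768 Q22768 (allL N22768 (tt N21189 F43794) (tt N20985 (iv D22806)) (tt N21187 F43795) (tt N21280 (iv F43798)) (tt N20986 F43796) (tt N21309 F43797))
theorem Q22770 : ∀ i, i < 22770 → P i := stepQ 22769 Q22769 (allL N22769 (tt N21192 F43799) (tt N21280 F43800) (tt N21304 F43801) (tt N20985 (iv D22807)) (tt N24046 D24084) (tt N21308 F43802))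
theorem Q22771 : ∀ i, i < 22771 → P i := stepQ 22770 Q22770 (allL N22770 (tt N21467 F43803) (tt N20987 F43804) (tt N23912 (iv F46747)) (tt N20986 (iv D22808)) (tt N24047 D24085) (tt N22324 (iv F43805)))
theorem Q22772 : ∀ i, i < 22772 → P i := stepQ 22771 Q22771 (allL N22771 (tt N21468 F43806) (tt N20988 F43807) (tt N24033 (iv F47021)) (tt N22324 F43808) (tt N22640 (iv F43809)) (tt N20986 (iv D22809)))
theorem Q22773 : ∀ i, i < 22773 → P i := stepQ 22772 Q22772 (allL N22772 (tt N22320 F43810) (tt N24047 (iv F47072)) (tt N22628 F43811) (tt N24046 (iv F47069)) (tt N20987 (iv D22810)) (tt N22319 F43812))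
theorem Q22774 : ∀ i, i < 22774 → P i := stepQ 22773 Q22773 (allL N22773 (tt N20994 F43813) (tt N24048 D24086) (tt N20993 (iv D22811)) (tt N24049 D24087) (tt N22163 F43814) (tt N23301 (iv F45214)))
theorem Q22775 : ∀ i, i < 22775 → P i := stepQ 22774 Q22774 (allL N22774 (tt N24050 D24088) (tt N20994 (iv D22812)) (tt N20995 F43815) (tt N24051 D24089) (tt N23076 F44675) (tt N23400 (iv F45476)))
theorem Q22776 : ∀ i, i < 22776 → P i := stepQ 22775 Q22775 (allL N22775 (tt N24049 (iv F47078)) (tt N24051 (iv F47081)) (tt N24052 D24090) (tt N20994 (iv D22813)) (tt N22775 F43816) (tt N23821 (iv F46506)))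
theorem Q22777 : ∀ i, i < 22777 → P i := stepQ 22776 Q22776 (allL N22776 (tt N20995 (iv D22814)) (tt N23286 (iv F45182)) (tt N24050 (iv F47080)) (tt N23387 (iv F45446)) (tt N23074 F44668) (tt N23399 (iv F45473)))
theorem Q22778 : ∀ i, i < 22778 → P i := stepQ 22777 Q22777 (allL N22777 (tt N20999 F43817) (tt N22088 F43818) (tt N23570 (iv F45901)) (tt N23687 (iv F46187)) (tt N20996 (iv D22815)) (tt N22095 (iv F43819)))
theorem Q22779 : ∀ i, i < 22779 → P i := stepQ 22778 Q22778 (allL N22778 (tt N23570 (iv F45899)) (tt N22108 F43820) (tt N20999 F43821) (tt N24053 D24091) (tt N20998 (iv D22816)) (tt N24054 D24092))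
theorem Q22780 : ∀ i, i < 22780 → P i := stepQ 22779 Q22779 (allL N22779 (tt N23687 (iv F46186)) (tt N22110 F43822) (tt N24055 D24093) (tt N20999 (iv D22817)) (tt N21000 F43823) (tt N24056 D24094))
theorem Q22781 : ∀ i, i < 22781 → P i := stepQ 22780 Q22780 (allL N22780 (tt N22095 F43824) (tt N22082 F43825) (tt N24054 (iv F47090)) (tt N24056 (iv F47095)) (tt N22081 F43826) (tt N20999 (iv D22818)))
theorem Q22782 : ∀ i, i < 22782 → P i := stepQ 22781 Q22781 (allL N22781 (tt N23699 F46213) (tt N23701 (iv F46215)) (tt N21000 (iv D22819)) (tt N23931 (iv F46802)) (tt N24055 (iv F47092)) (tt N23699 F46214))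
theorem Q22783 : ∀ i, i < 22783 → P i := stepQ 22782 Q22782 (allL N22782 (tt N21004 F43827) (tt N22437 F43828) (tt N22761 F43829) (tt N21009 F43830) (tt N22205 F43831) (tt N21002 (iv D22820)))
theorem Q22784 : ∀ i, i < 22784 → P i := stepQ 22783 Q22783 (allL N22783 (tt N22761 F43832) (tt N21037 F43833) (tt N21004 F43834) (tt N22797 (iv F43873)) (tt N21036 F43835) (tt N21003 (iv D22821)))
theorem Q22785 : ∀ i, i < 22785 → P i := stepQ 22784 Q22784 (allL N22784 (tt N22371 F43836) (tt N22486 F43837) (tt N21005 (iv D22822)) (tt N24057 D24095) (tt N22209 F43838) (tt N21014 F43839))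
theorem Q22786 : ∀ i, i < 22786 → P i := stepQ 22785 Q22785 (allL N22785 (tt N21443 F43840) (tt N21008 F43841) (tt N22440 F43842) (tt N24058 D24096) (tt N21006 (iv D22823)) (tt N21521 F43843))
theorem Q22787 : ∀ i, i < 22787 → P i := stepQ 22786 Q22786 (allL N22786 (tt N21012 F43844) (tt N21435 F43845) (tt N23846 (iv F46551)) (tt N24059 D24097) (tt N21007 (iv D22824)) (tt N24060 D24098))
theorem Q22788 : ∀ i, i < 22788 → P i := stepQ 22787 Q22787 (allL N22787 (tt N21013 F43846) (tt N24058 (iv F47101)) (tt N23786 (iv F46410)) (tt N21008 (iv D22825)) (tt N24059 (iv F47106)) (tt N22890 F44074))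
theorem Q22789 : ∀ i, i < 22789 → P i := stepQ 22788 Q22788 (allL N22788 (tt N21014 F43847) (tt N22373 F43848) (tt N21010 (iv D22826)) (tt N24061 D24099) (tt N22323 F43849) (tt N22371 F43850))
theorem Q22790 : ∀ i, i < 22790 → P i := stepQ 22789 Q22789 (allL N22789 (tt N23846 (iv F46549)) (tt N21423 F43851) (tt N21012 F43852) (tt N24004 (iv F46950)) (tt N21011 (iv D22827)) (tt N24062 D24100))
theorem Q22791 : ∀ i, i < 22791 → P i := stepQ 22790 Q22790 (allL N22790 (tt N24059 (iv F47104)) (tt N21428 F43853) (tt N23787 (iv F46413)) (tt N21012 (iv D22828)) (tt N21013 F43854) (tt N22686 (iv F43855)))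
theorem Q22792 : ∀ i, i < 22792 → P i := stepQ 22791 Q22791 (allL N22791 (tt N24060 (iv F47108)) (tt N21429 F43856) (tt N24062 (iv F47120)) (tt N22686 F43857) (tt N21452 F43858) (tt N21012 (iv D22829)))
theorem Q22793 : ∀ i, i < 22793 → P i := stepQ 22792 Q22792 (allL N22792 (tt N24061 (iv F47113)) (tt N23696 (iv F46208)) (tt N24063 D24101) (tt N21014 (iv D22830)) (tt N24064 D24102) (tt N24057 (iv F47099)))
theorem Q22794 : ∀ i, i < 22794 → P i := stepQ 22793 Q22793 (allL N22793 (tt N21019 F43859) (tt N22358 F43860) (tt N21909 F43861) (tt N23410 (iv F45501)) (tt N21017 (iv D22831)) (tt N24065 D24103))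
theorem Q22795 : ∀ i, i < 22795 → P i := stepQ 22794 Q22794 (allL N22794 (tt N21909 F43862) (tt N22356 F43863) (tt N21019 F43864) (tt N21908 F43865) (tt N21018 (iv D22832)) (tt N24066 D24104))
theorem Q22796 : ∀ i, i < 22796 → P i := stepQ 22795 Q22795 (allL N22795 (tt N23410 (iv F45500)) (tt N22353 F43866) (tt N23923 (iv F46778)) (tt N21019 (iv D22833)) (tt N21020 F43867) (tt N23676 (iv F46153)))
theorem Q22797 : ∀ i, i < 22797 → P i := stepQ 22796 Q22796 (allL N22796 (tt N24065 (iv F47129)) (tt N22352 F43868) (tt N24066 (iv F47135)) (tt N23676 (iv F46152)) (tt N22351 F43869) (tt N21019 (iv D22834)))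
theorem Q22798 : ∀ i, i < 22798 → P i := stepQ 22797 Q22797 (allL N22797 (tt N21023 F43870) (tt N21024 F43871) (tt N22429 F43872) (tt N22783 F43873) (tt N22470 F43874) (tt N21022 (iv D22835)))
theorem Q22799 : ∀ i, i < 22799 → P i := stepQ 22798 Q22798 (allL N22798 (tt N22426 F43875) (tt N21026 F43876) (tt N24067 D24105) (tt N21025 (iv D22836)) (tt N23850 (iv F46567)) (tt N24068 D24106))
theorem Q22800 : ∀ i, i < 22800 → P i := stepQ 22799 Q22799 (allL N22799 (tt N22427 F43877) (tt N21027 F43878) (tt N21029 F43879) (tt N24068 (iv F47144)) (tt N22472 F43880) (tt N21025 (iv D22837)))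
theorem Q22801 : ∀ i, i < 22801 → P i := stepQ 22800 Q22800 (allL N22800 (tt N23856 (iv F46586)) (tt N24068 (iv F47143)) (tt N23653 (iv F46086)) (tt N21027 F43881) (tt N24069 D24107) (tt N21026 (iv D22838)))
theorem Q22802 : ∀ i, i < 22802 → P i := stepQ 22801 Q22801 (allL N22801 (tt N21281 F43882) (tt N24046 (iv F47067)) (tt N21028 (iv D22839)) (tt N24047 (iv F47073)) (tt N21280 F43883) (tt N24070 D24108))
theorem Q22803 : ∀ i, i < 22803 → P i := stepQ 22802 Q22802 (allL N22802 (tt N21284 F43884) (tt N21031 F43885) (tt N24070 (iv F47150)) (tt N21029 F43886) (tt N21311 F43887) (tt N21028 (iv D22840)))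
theorem Q22804 : ∀ i, i < 22804 → P i := stepQ 22803 Q22803 (allL N22803 (tt N24071 D24109) (tt N21030 (iv D22841)) (tt N24046 (iv F47068)) (tt N24072 D24110) (tt N21304 F43888) (tt N24073 D24111))
theorem Q22805 : ∀ i, i < 22805 → P i := stepQ 22804 Q22804 (allL N22804 (tt N21306 F43889) (tt N24072 (iv F47157)) (tt N23539 (iv F45809)) (tt N21030 (iv D22842)) (tt N21360 F43890) (tt N23538 (iv F45806)))
theorem Q22806 : ∀ i, i < 22806 → P i := stepQ 22805 Q22805 (allL N22805 (tt N21307 F43891) (tt N24073 (iv F47160)) (tt N21031 F43892) (tt N23538 (iv F45805)) (tt N21337 F43893) (tt N21030 (iv D22843)))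
theorem Q22807 : ∀ i, i < 22807 → P i := stepQ 22806 Q22806 (allL N22806 (tt N21345 F43894) (tt N22853 (iv F44017)) (tt N21204 F43895) (tt N21032 (iv D22844)) (tt N21361 (iv F43897)) (tt N21203 F43896))
theorem Q22808 : ∀ i, i < 22808 → P i := stepQ 22807 Q22807 (allL N22807 (tt N21344 F43898) (tt N22852 (iv F44014)) (tt N21033 F43899) (tt N21203 F43900) (tt N21336 (iv F43901)) (tt N21032 (iv D22845)))
theorem Q22809 : ∀ i, i < 22809 → P i := stepQ 22808 Q22808 (allL N22808 (tt N21830 F43902) (tt N21035 F43903) (tt N22763 F43904) (tt N22173 F43905) (tt N21034 (iv D22846)) (tt N21825 F43906))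
theorem Q22810 : ∀ i, i < 22810 → P i := stepQ 22809 Q22809 (allL N22809 (tt N21036 (iv D22847)) (tt N22643 F43907) (tt N22205 F43908) (tt N21083 F43909) (tt N22761 F43910) (tt N21712 F43911))
theorem Q22811 : ∀ i, i < 22811 → P i := stepQ 22810 Q22810 (allL N22810 (tt N21396 F43912) (tt N22811 (iv F43917)) (tt N21250 F43913) (tt N21488 F43914) (tt N21411 F43915) (tt N21042 (iv D22848)))
theorem Q22812 : ∀ i, i < 22812 → P i := stepQ 22811 Q22811 (allL N22811 (tt N21399 F43916) (tt N22810 F43917) (tt N22891 (iv F44077)) (tt N21043 (iv D22849)) (tt N21410 F43918) (tt N21489 F43919))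
theorem Q22813 : ∀ i, i < 22813 → P i := stepQ 22812 Q22812 (allL N22812 (tt N21066 F43920) (tt N24074 D24112) (tt N21046 (iv D22850)) (tt N24075 D24113) (tt N21047 F43921) (tt N21615 F43922))
theorem Q22814 : ∀ i, i < 22814 → P i := stepQ 22813 Q22813 (allL N22813 (tt N23219 (iv F45011)) (tt N21047 (iv D22851)) (tt N22907 (iv F44142)) (tt N21074 F43923) (tt N24074 (iv F47164)) (tt N21048 F43924))
theorem Q22815 : ∀ i, i < 22815 → P i := stepQ 22814 Q22814 (allL N22814 (tt N21048 (iv D22852)) (tt N21068 F43925) (tt N22242 F43926) (tt N23814 (iv F46485)) (tt N22925 (iv F44201)) (tt N23219 (iv F45013)))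
theorem Q22816 : ∀ i, i < 22816 → P i := stepQ 22815 Q22815 (allL N22815 (tt N21050 F43927) (tt N21071 F43928) (tt N22346 F43929) (tt N21049 (iv D22853)) (tt N23175 (iv F44913)) (tt N21114 F43930))
theorem Q22817 : ∀ i, i < 22817 → P i := stepQ 22816 Q22816 (allL N22816 (tt N23394 (iv F45462)) (tt N21051 (iv D22854)) (tt N23381 (iv F45429)) (tt N21067 F43931) (tt N23178 (iv F44918)) (tt N21069 F43932))
theorem Q22818 : ∀ i, i < 22818 → P i := stepQ 22817 Q22817 (allL N22817 (tt N21054 F43933) (tt N21622 F43934) (tt N21063 F43935) (tt N22209 F43936) (tt N24019 (iv F46984)) (tt N21052 (iv D22855)))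
theorem Q22819 : ∀ i, i < 22819 → P i := stepQ 22818 Q22818 (allL N22818 (tt N22209 F43937) (tt N21055 F43938) (tt N22208 F43939) (tt N21054 F43940) (tt N22371 F43941) (tt N21053 (iv D22856)))
theorem Q22820 : ∀ i, i < 22820 → P i := stepQ 22819 Q22819 (allL N22819 (tt N24019 (iv F46981)) (tt N21056 F43942) (tt N21064 F43943) (tt N24076 D24114) (tt N21054 (iv D22857)) (tt N21620 F43944))
theorem Q22821 : ∀ i, i < 22821 → P i := stepQ 22820 Q22820 (allL N22820 (tt N21627 F43945) (tt N24076 (iv F47169)) (tt N23672 (iv F46139)) (tt N21056 (iv D22858)) (tt N22372 F43946) (tt N21621 F43947))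
theorem Q22822 : ∀ i, i < 22822 → P i := stepQ 22821 Q22821 (allL N22821 (tt N21102 F43948) (tt N24015 (iv F46969)) (tt N24077 D24115) (tt N21057 (iv D22859)) (tt N23045 (iv F44570)) (tt N21065 F43949))
theorem Q22823 : ∀ i, i < 22823 → P i := stepQ 22822 Q22822 (allL N22822 (tt N21615 F43950) (tt N24078 D24116) (tt N21058 (iv D22860)) (tt N24079 D24117) (tt N21059 F43951) (tt N21066 F43952))
theorem Q22824 : ∀ i, i < 22824 → P i := stepQ 22823 Q22823 (allL N22823 (tt N22958 (iv F44292)) (tt N21059 (iv D22861)) (tt N21175 F43953) (tt N22929 (iv F44207)) (tt N24078 (iv F47176)) (tt N21060 F43954))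
theorem Q22825 : ∀ i, i < 22825 → P i := stepQ 22824 Q22824 (allL N22824 (tt N22957 (iv F44291)) (tt N21061 F43955) (tt N23017 (iv F44489)) (tt N21060 (iv D22862)) (tt N24080 D24118) (tt N22929 (iv F44208)))
theorem Q22826 : ∀ i, i < 22826 → P i := stepQ 22825 Q22825 (allL N22825 (tt N21297 F43956) (tt N24080 (iv F47182)) (tt N21295 F43957) (tt N21070 F43958) (tt N21061 (iv D22863)) (tt N24081 D24119))
theorem Q22827 : ∀ i, i < 22827 → P i := stepQ 22826 Q22826 (allL N22826 (tt N24021 (iv F46986)) (tt N21065 F43959) (tt N24082 D24120) (tt N21064 (iv D22864)) (tt N21085 F43960) (tt N24015 (iv F46971)))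
theorem Q22828 : ∀ i, i < 22828 → P i := stepQ 22827 Q22827 (allL N22827 (tt N21101 F43961) (tt N24083 D24121) (tt N21065 (iv D22865)) (tt N24084 D24122) (tt N21087 F43962) (tt N24077 (iv F47174)))
theorem Q22829 : ∀ i, i < 22829 → P i := stepQ 22828 Q22828 (allL N22828 (tt N23393 (iv F45460)) (tt N21066 (iv D22866)) (tt N21202 F43963) (tt N24085 D24123) (tt N21067 F43964) (tt N24078 (iv F47177)))
theorem Q22830 : ∀ i, i < 22830 → P i := stepQ 22829 Q22829 (allL N22829 (tt N24075 (iv F47166)) (tt N24085 (iv F47195)) (tt N24086 D24124) (tt N21066 (iv D22867)) (tt N23179 (iv F44920)) (tt N24079 (iv F47179)))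
theorem Q22831 : ∀ i, i < 22831 → P i := stepQ 22830 Q22830 (allL N22830 (tt N21069 F43965) (tt N23814 (iv F46483)) (tt N21794 F43966) (tt N21068 (iv D22868)) (tt N21793 (iv F43967)) (tt N23394 (iv F45465)))
theorem Q22832 : ∀ i, i < 22832 → P i := stepQ 22831 Q22831 (allL N22831 (tt N21793 F43968) (tt N21070 F43969) (tt N21791 F43970) (tt N24080 (iv F47184)) (tt N21069 (iv D22869)) (tt N24087 D24125))
theorem Q22833 : ∀ i, i < 22833 → P i := stepQ 22832 Q22832 (allL N22832 (tt N23812 (iv F46473)) (tt N24087 (iv F47199)) (tt N22424 F43971) (tt N24081 (iv F47189)) (tt N23180 (iv F44923)) (tt N21070 (iv D22870)))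
theorem Q22834 : ∀ i, i < 22834 → P i := stepQ 22833 Q22833 (allL N22833 (tt N21073 F43972) (tt N23175 (iv F44912)) (tt N22053 F43973) (tt N21078 F43974) (tt N21071 (iv D22871)) (tt N22052 F43975))
theorem Q22835 : ∀ i, i < 22835 → P i := stepQ 22834 Q22834 (allL N22834 (tt N24088 D24126) (tt N21072 (iv D22872)) (tt N21074 F43976) (tt N22455 F43977) (tt N24089 D24127) (tt N21117 F43978))
theorem Q22836 : ∀ i, i < 22836 → P i := stepQ 22835 Q22835 (allL N22835 (tt N22053 F43979) (tt N24089 (iv F47208)) (tt N21073 F43980) (tt N24090 D24128) (tt N21072 (iv D22873)) (tt N22050 F43981))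
theorem Q22837 : ∀ i, i < 22837 → P i := stepQ 22836 Q22836 (allL N22836 (tt N22052 F43982) (tt N21076 F43983) (tt N22050 F43984) (tt N21080 F43985) (tt N21116 F43986) (tt N21073 (iv D22874)))
theorem Q22838 : ∀ i, i < 22838 → P i := stepQ 22837 Q22837 (allL N22837 (tt N21074 (iv D22875)) (tt N23394 (iv F45463)) (tt N24088 (iv F47203)) (tt N23219 F45014) (tt N24091 D24129) (tt N23814 (iv F46487)))
theorem Q22839 : ∀ i, i < 22839 → P i := stepQ 22838 Q22838 (allL N22838 (tt N24091 (iv F47216)) (tt N21075 F43987) (tt N24089 (iv F47209)) (tt N24092 D24130) (tt N21074 (iv D22876)) (tt N24093 D24131))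
theorem Q22840 : ∀ i, i < 22840 → P i := stepQ 22839 Q22839 (allL N22839 (tt N23179 (iv F44919)) (tt N24092 (iv F47219)) (tt N23146 (iv F44849)) (tt N21075 (iv D22877)) (tt N24075 (iv F47167)) (tt N23145 F44848))
theorem Q22841 : ∀ i, i < 22841 → P i := stepQ 22840 Q22840 (allL N22840 (tt N23180 (iv F44921)) (tt N24093 (iv F47221)) (tt N21076 F43988) (tt N23145 (iv F44847)) (tt N23812 (iv F46476)) (tt N21075 (iv D22878)))
theorem Q22842 : ∀ i, i < 22842 → P i := stepQ 22841 Q22841 (allL N22841 (tt N21079 F43989) (tt N23169 (iv F44902)) (tt N21078 F43990) (tt N24094 D24132) (tt N21077 (iv D22879)) (tt N24095 D24133))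
theorem Q22843 : ∀ i, i < 22843 → P i := stepQ 22842 Q22842 (allL N22842 (tt N21080 F43991) (tt N23176 (iv F44915)) (tt N24095 (iv F47227)) (tt N22052 F43992) (tt N21106 F43993) (tt N21078 (iv D22880)))
theorem Q22844 : ∀ i, i < 22844 → P i := stepQ 22843 Q22843 (allL N22843 (tt N24094 (iv F47224)) (tt N23170 (iv F44903)) (tt N24096 D24134) (tt N21079 (iv D22881)) (tt N24094 (iv F47225)) (tt N24097 D24135))
theorem Q22845 : ∀ i, i < 22845 → P i := stepQ 22844 Q22844 (allL N22844 (tt N24095 (iv F47226)) (tt N23171 (iv F44904)) (tt N21080 F43994) (tt N24097 (iv F47230)) (tt N21110 F43995) (tt N21079 (iv D22882)))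
theorem Q22846 : ∀ i, i < 22846 → P i := stepQ 22845 Q22845 (allL N22845 (tt N22372 F43996) (tt N24037 (iv F47037)) (tt N22362 F43998) (tt N21081 (iv D22883)) (tt N21627 F43997) (tt N22361 (iv F43999)))
theorem Q22847 : ∀ i, i < 22847 → P i := stepQ 22846 Q22846 (allL N22846 (tt N22373 F44000) (tt N23694 (iv F46202)) (tt N21082 F44001) (tt N22361 F44002) (tt N21624 F44003) (tt N21081 (iv D22884)))
theorem Q22848 : ∀ i, i < 22848 → P i := stepQ 22847 Q22847 (allL N22847 (tt N21085 F44004) (tt N21097 F44005) (tt N24098 D24136) (tt N21084 (iv D22885)) (tt N24021 (iv F46989)) (tt N23838 (iv F46531)))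
theorem Q22849 : ∀ i, i < 22849 → P i := stepQ 22848 Q22848 (allL N22848 (tt N24098 (iv F47231)) (tt N24099 D24137) (tt N21085 (iv D22886)) (tt N23764 F46358) (tt N24082 (iv F47190)) (tt N24100 D24138))
theorem Q22850 : ∀ i, i < 22850 → P i := stepQ 22849 Q22849 (allL N22849 (tt N23838 (iv F46528)) (tt N21088 F44006) (tt N24100 (iv F47235)) (tt N21086 F44007) (tt N24017 (iv F46977)) (tt N21085 (iv D22887)))
theorem Q22851 : ∀ i, i < 22851 → P i := stepQ 22850 Q22850 (allL N22850 (tt N24101 D24139) (tt N21087 (iv D22888)) (tt N24099 (iv F47232)) (tt N21094 F44008) (tt N24083 (iv F47191)) (tt N21093 F44009))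
theorem Q22852 : ∀ i, i < 22852 → P i := stepQ 22851 Q22851 (allL N22851 (tt N21103 F44010) (tt N24017 (iv F46975)) (tt N21095 F44011) (tt N22641 F44012) (tt N21088 (iv D22889)) (tt N23045 (iv F44571)))
theorem Q22853 : ∀ i, i < 22853 → P i := stepQ 22852 Q22852 (allL N22852 (tt N22682 F44013) (tt N22807 F44014) (tt N21782 F44015) (tt N21090 (iv D22890)) (tt N23022 (iv F44503)) (tt N21781 (iv F44016)))
theorem Q22854 : ∀ i, i < 22854 → P i := stepQ 22853 Q22853 (allL N22853 (tt N23546 (iv F45827)) (tt N22806 F44017) (tt N21091 F44018) (tt N21781 F44019) (tt N23042 (iv F44562)) (tt N21090 (iv D22891)))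
theorem Q22855 : ∀ i, i < 22855 → P i := stepQ 22854 Q22854 (allL N22854 (tt N21093 F44020) (tt N23033 (iv F44533)) (tt N23770 (iv F46374)) (tt N21092 (iv D22892)) (tt N24102 D24140) (tt N24101 (iv F47238)))
theorem Q22856 : ∀ i, i < 22856 → P i := stepQ 22855 Q22855 (allL N22855 (tt N21094 F44021) (tt N23034 (iv F44536)) (tt N23037 (iv F44549)) (tt N24101 (iv F47237)) (tt N23191 (iv F44952)) (tt N21092 (iv D22893)))
theorem Q22857 : ∀ i, i < 22857 → P i := stepQ 22856 Q22856 (allL N22856 (tt N23770 (iv F46373)) (tt N24100 (iv F47234)) (tt N21093 (iv D22894)) (tt N23769 (iv F46372)) (tt N24103 D24141) (tt N24099 F47233))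
theorem Q22858 : ∀ i, i < 22858 → P i := stepQ 22857 Q22857 (allL N22857 (tt N24102 (iv F47239)) (tt N21095 F44022) (tt N24103 (iv F47240)) (tt N23059 (iv F44615)) (tt N21093 (iv D22895)) (tt N24104 D24142))
theorem Q22859 : ∀ i, i < 22859 → P i := stepQ 22858 Q22858 (allL N22858 (tt N23191 (iv F44950)) (tt N21096 F44023) (tt N23189 (iv F44948)) (tt N24105 D24143) (tt N21094 (iv D22896)) (tt N23126 (iv F44806)))
theorem Q22860 : ∀ i, i < 22860 → P i := stepQ 22859 Q22859 (allL N22859 (tt N23139 (iv F44835)) (tt N24104 (iv F47241)) (tt N23045 F44572) (tt N23058 (iv F44611)) (tt N24077 (iv F47173)) (tt N21095 (iv D22897)))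
theorem Q22861 : ∀ i, i < 22861 → P i := stepQ 22860 Q22860 (allL N22860 (tt N23131 (iv F44815)) (tt N24105 (iv F47242)) (tt N23174 (iv F44910)) (tt N21096 (iv D22898)) (tt N24084 (iv F47193)) (tt N23127 (iv F44809)))
theorem Q22862 : ∀ i, i < 22862 → P i := stepQ 22861 Q22861 (allL N22861 (tt N24106 D24144) (tt N21098 (iv D22899)) (tt N21100 F44024) (tt N23031 (iv F44529)) (tt N24107 D24145) (tt N23138 (iv F44834)))
theorem Q22863 : ∀ i, i < 22863 → P i := stepQ 22862 Q22862 (allL N22862 (tt N23674 (iv F46143)) (tt N24107 (iv F47244)) (tt N21099 F44025) (tt N23406 (iv F45491)) (tt N21098 (iv D22900)) (tt N21614 F44026))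
theorem Q22864 : ∀ i, i < 22864 → P i := stepQ 22863 Q22863 (allL N22863 (tt N21100 (iv D22901)) (tt N24101 (iv F47236)) (tt N24106 (iv F47243)) (tt N23034 (iv F44538)) (tt N24108 D24146) (tt N23033 (iv F44534)))
theorem Q22865 : ∀ i, i < 22865 → P i := stepQ 22864 Q22864 (allL N22864 (tt N24108 (iv F47247)) (tt N21101 F44027) (tt N24107 (iv F47245)) (tt N24109 D24147) (tt N21100 (iv D22902)) (tt N24110 D24148))
theorem Q22866 : ∀ i, i < 22866 → P i := stepQ 22865 Q22865 (allL N22865 (tt N24084 (iv F47192)) (tt N24109 (iv F47248)) (tt N24079 (iv F47180)) (tt N21101 (iv D22903)) (tt N23131 F44817) (tt N24086 (iv F47197)))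
theorem Q22867 : ∀ i, i < 22867 → P i := stepQ 22866 Q22866 (allL N22866 (tt N24077 (iv F47172)) (tt N24110 (iv F47249)) (tt N21102 F44028) (tt N24086 (iv F47196)) (tt N23139 (iv F44838)) (tt N21101 (iv D22904)))
theorem Q22868 : ∀ i, i < 22868 → P i := stepQ 22867 Q22867 (allL N22867 (tt N23028 (iv F44522)) (tt N21105 F44029) (tt N23025 (iv F44517)) (tt N24111 D24149) (tt N21104 (iv D22905)) (tt N24112 D24150))
theorem Q22869 : ∀ i, i < 22869 → P i := stepQ 22868 Q22868 (allL N22868 (tt N21109 F44030) (tt N24111 (iv F47251)) (tt N23579 (iv F45925)) (tt N21105 (iv D22906)) (tt N21109 F44031) (tt N24113 D24151))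
theorem Q22870 : ∀ i, i < 22870 → P i := stepQ 22869 Q22869 (allL N22869 (tt N21110 F44032) (tt N24112 (iv F47253)) (tt N21106 F44033) (tt N24113 (iv F47255)) (tt N24095 (iv F47228)) (tt N21105 (iv D22907)))
theorem Q22871 : ∀ i, i < 22871 → P i := stepQ 22870 Q22870 (allL N22870 (tt N21108 F44034) (tt N23028 (iv F44523)) (tt N21111 F44035) (tt N24114 D24152) (tt N21107 (iv D22908)) (tt N24115 D24153))
theorem Q22872 : ∀ i, i < 22872 → P i := stepQ 22871 Q22871 (allL N22871 (tt N24114 (iv F47256)) (tt N21109 F44036) (tt N24116 D24154) (tt N21108 (iv D22909)) (tt N24111 (iv F47252)) (tt N24117 D24155))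
theorem Q22873 : ∀ i, i < 22873 → P i := stepQ 22872 Q22872 (allL N22872 (tt N24115 (iv F47257)) (tt N21110 F44037) (tt N21112 F44038) (tt N24117 (iv F47260)) (tt N23171 (iv F44906)) (tt N21108 (iv D22910)))
theorem Q22874 : ∀ i, i < 22874 → P i := stepQ 22873 Q22873 (allL N22873 (tt N23579 (iv F45923)) (tt N24118 D24156) (tt N21109 (iv D22911)) (tt N23518 (iv F45757)) (tt N23579 (iv F45926)) (tt N23517 F45753))
theorem Q22875 : ∀ i, i < 22875 → P i := stepQ 22874 Q22874 (allL N22874 (tt N24113 (iv F47254)) (tt N24117 (iv F47259)) (tt N23517 (iv F45752)) (tt N21110 F44039) (tt N24119 D24157) (tt N21109 (iv D22912)))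
theorem Q22876 : ∀ i, i < 22876 → P i := stepQ 22875 Q22875 (allL N22875 (tt N21112 F44040) (tt N22300 F44041) (tt N24115 (iv F47258)) (tt N22299 F44042) (tt N23039 (iv F44556)) (tt N21111 (iv D22913)))
theorem Q22877 : ∀ i, i < 22877 → P i := stepQ 22876 Q22876 (allL N22876 (tt N21588 F44043) (tt N21115 (iv D22914)) (tt N23813 (iv F46479)) (tt N21585 F44044) (tt N21117 F44045) (tt N21593 F44046))
theorem Q22878 : ∀ i, i < 22878 → P i := stepQ 22877 Q22877 (allL N22877 (tt N21117 (iv D22915)) (tt N21599 F44047) (tt N23814 (iv F46484)) (tt N23515 (iv F45746)) (tt N21588 F44048) (tt N24088 (iv F47205)))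
theorem Q22879 : ∀ i, i < 22879 → P i := stepQ 22878 Q22878 (allL N22878 (tt N21118 (iv D22916)) (tt N22681 F44049) (tt N23868 (iv F46635)) (tt N22680 F44050) (tt N21894 (iv F44051)) (tt N23755 (iv F46336)))
theorem Q22880 : ∀ i, i < 22880 → P i := stepQ 22879 Q22879 (allL N22879 (tt N21894 F44052) (tt N21119 F44053) (tt N23867 (iv F46630)) (tt N21890 F44054) (tt N21118 (iv D22917)) (tt N21889 F44055))
theorem Q22881 : ∀ i, i < 22881 → P i := stepQ 22880 Q22880 (allL N22880 (tt N23719 (iv F46259)) (tt N23156 (iv F44872)) (tt N24120 D24158) (tt N21124 (iv D22918)) (tt N22207 F44056) (tt N23421 (iv F45523)))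
theorem Q22882 : ∀ i, i < 22882 → P i := stepQ 22881 Q22881 (allL N22881 (tt N21126 F44057) (tt N21134 F44058) (tt N24121 D24159) (tt N21125 (iv D22919)) (tt N23155 (iv F44871)) (tt N23972 (iv F46892)))
theorem Q22883 : ∀ i, i < 22883 → P i := stepQ 22882 Q22882 (allL N22882 (tt N24121 (iv F47266)) (tt N24122 D24160) (tt N21126 (iv D22920)) (tt N23663 (iv F46117)) (tt N23158 (iv F44876)) (tt N23662 F46115))
theorem Q22884 : ∀ i, i < 22884 → P i := stepQ 22883 Q22883 (allL N22883 (tt N23972 (iv F46889)) (tt N21129 F44059) (tt N23662 (iv F46114)) (tt N21127 F44060) (tt N23100 (iv F44728)) (tt N21126 (iv D22921)))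
theorem Q22885 : ∀ i, i < 22885 → P i := stepQ 22884 Q22884 (allL N22884 (tt N22421 F44061) (tt N21128 (iv D22922)) (tt N24122 (iv F47271)) (tt N21132 F44062) (tt N23159 (iv F44877)) (tt N21131 F44063))
theorem Q22886 : ∀ i, i < 22886 → P i := stepQ 22885 Q22885 (allL N22885 (tt N21131 F44064) (tt N21325 F44065) (tt N24123 D24161) (tt N21130 (iv D22923)) (tt N23123 (iv F44797)) (tt N22421 (iv F44066)))
theorem Q22887 : ∀ i, i < 22887 → P i := stepQ 22886 Q22886 (allL N22886 (tt N21132 F44067) (tt N21326 F44068) (tt N23737 (iv F46300)) (tt N22421 F44069) (tt N24124 D24162) (tt N21130 (iv D22924)))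
theorem Q22888 : ∀ i, i < 22888 → P i := stepQ 22887 Q22887 (allL N22887 (tt N24123 (iv F47273)) (tt N23662 (iv F46113)) (tt N21131 (iv D22925)) (tt N23337 (iv F45316)) (tt N23124 (iv F44799)) (tt N24122 (iv F47272)))
theorem Q22889 : ∀ i, i < 22889 → P i := stepQ 22888 Q22888 (allL N22888 (tt N24124 (iv F47277)) (tt N21133 F44070) (tt N23738 (iv F46303)) (tt N24125 D24163) (tt N21132 (iv D22926)) (tt N23115 (iv F44773)))
theorem Q22890 : ∀ i, i < 22890 → P i := stepQ 22889 Q22889 (allL N22889 (tt N23080 (iv F44682)) (tt N24125 (iv F47282)) (tt N23070 (iv F44652)) (tt N21133 (iv D22927)) (tt N23072 (iv F44661)) (tt N23116 (iv F44779)))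
theorem Q22891 : ∀ i, i < 22891 → P i := stepQ 22890 Q22890 (allL N22890 (tt N21136 F44071) (tt N23155 (iv F44870)) (tt N22428 F44072) (tt N21140 F44073) (tt N21134 (iv D22928)) (tt N22787 (iv F44074)))
theorem Q22892 : ∀ i, i < 22892 → P i := stepQ 22891 Q22891 (allL N22891 (tt N23072 (iv F44659)) (tt N21254 F44075) (tt N22811 F44077) (tt N21138 (iv D22929)) (tt N23080 (iv F44684)) (tt N21252 F44076))
theorem Q22893 : ∀ i, i < 22893 → P i := stepQ 22892 Q22892 (allL N22892 (tt N21874 F44078) (tt N23582 (iv F45936)) (tt N21143 F44079) (tt N24126 D24164) (tt N21142 (iv D22930)) (tt N21876 F44080))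
theorem Q22894 : ∀ i, i < 22894 → P i := stepQ 22893 Q22893 (allL N22893 (tt N22207 F44081) (tt N23799 (iv F46443)) (tt N22200 F44082) (tt N21144 (iv D22931)) (tt N23719 (iv F46261)) (tt N22199 F44083))
theorem Q22895 : ∀ i, i < 22895 → P i := stepQ 22894 Q22894 (allL N22894 (tt N23819 (iv F46500)) (tt N23204 (iv F44980)) (tt N21146 (iv D22932)) (tt N23182 F44929) (tt N23658 (iv F46102)) (tt N23183 (iv F44932)))
theorem Q22896 : ∀ i, i < 22896 → P i := stepQ 22895 Q22895 (allL N22895 (tt N23658 (iv F46099)) (tt N21149 F44084) (tt N21149 F44086) (tt N21148 (iv D22933)) (tt N23819 (iv F46503)) (tt N21149 F44085))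
theorem Q22897 : ∀ i, i < 22897 → P i := stepQ 22896 Q22896 (allL N22896 (tt N21256 F44087) (tt N21151 (iv D22934)) (tt N21157 F44088) (tt N24127 D24165) (tt N22395 F44089) (tt N21269 (iv F44090)))
theorem Q22898 : ∀ i, i < 22898 → P i := stepQ 22897 Q22897 (allL N22897 (tt N21329 F44091) (tt N24127 (iv F47289)) (tt N21302 F44092) (tt N21151 (iv D22935)) (tt N21577 F44093) (tt N21301 F44094))
theorem Q22899 : ∀ i, i < 22899 → P i := stepQ 22898 Q22898 (allL N22898 (tt N21333 F44095) (tt N21269 F44096) (tt N21152 F44097) (tt N21301 F44098) (tt N21578 F44099) (tt N21151 (iv D22936)))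
theorem Q22900 : ∀ i, i < 22900 → P i := stepQ 22899 Q22899 (allL N22899 (tt N21570 F44100) (tt N21158 F44101) (tt N21578 F44102) (tt N21158 F44103) (tt N21152 (iv D22937)) (tt N21584 F44104))
theorem Q22901 : ∀ i, i < 22901 → P i := stepQ 22900 Q22900 (allL N22900 (tt N21180 F44105) (tt N21154 F44106) (tt N21163 F44107) (tt N22418 F44108) (tt N21163 F44109) (tt N21153 (iv D22938)))
theorem Q22902 : ∀ i, i < 22902 → P i := stepQ 22901 Q22901 (allL N22901 (tt N21260 F44110) (tt N22400 F44111) (tt N22391 F44112) (tt N21155 (iv D22939)) (tt N21273 F44113) (tt N22390 F44114))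
theorem Q22903 : ∀ i, i < 22903 → P i := stepQ 22902 Q22902 (allL N22902 (tt N21261 F44115) (tt N22401 F44116) (tt N21156 F44117) (tt N22390 F44118) (tt N21272 F44119) (tt N21155 (iv D22940)))
theorem Q22904 : ∀ i, i < 22904 → P i := stepQ 22903 Q22903 (allL N22903 (tt N21590 F44120) (tt N21584 F44121) (tt N21272 F44122) (tt N21584 F44123) (tt N21156 (iv D22941)) (tt N21158 F44124))
theorem Q22905 : ∀ i, i < 22905 → P i := stepQ 22904 Q22904 (allL N22904 (tt N21272 F44125) (tt N21263 F44126) (tt N21590 F44127) (tt N21263 F44128) (tt N21261 F44129) (tt N21160 (iv D22942)))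
theorem Q22906 : ∀ i, i < 22906 → P i := stepQ 22905 Q22905 (allL N22905 (tt N21273 F44130) (tt N21262 F44131) (tt N22407 (iv F44134)) (tt N21161 (iv D22943)) (tt N21260 F44132) (tt N21262 F44133))
theorem Q22907 : ∀ i, i < 22907 → P i := stepQ 22906 Q22906 (allL N22906 (tt N21163 F44135) (tt N21164 F44136) (tt N21180 F44137) (tt N21311 F44138) (tt N21180 F44139) (tt N21162 (iv D22944)))
theorem Q22908 : ∀ i, i < 22908 → P i := stepQ 22907 Q22907 (allL N22907 (tt N21617 F44140) (tt N21167 F44141) (tt N22813 F44142) (tt N21616 F44143) (tt N22940 (iv F44238)) (tt N21165 (iv D22945)))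
theorem Q22909 : ∀ i, i < 22909 → P i := stepQ 22908 Q22908 (allL N22908 (tt N21423 F44144) (tt N22350 F44145) (tt N21170 (iv D22946)) (tt N24002 (iv F46946)) (tt N21188 F44146) (tt N24128 D24166))
theorem Q22910 : ∀ i, i < 22910 → P i := stepQ 22909 Q22909 (allL N22909 (tt N21424 F44147) (tt N21172 F44148) (tt N24128 (iv F47295)) (tt N21171 F44149) (tt N22357 F44150) (tt N21170 (iv D22947)))
theorem Q22911 : ∀ i, i < 22911 → P i := stepQ 22910 Q22910 (allL N22910 (tt N22161 F44151) (tt N23415 (iv F45511)) (tt N21174 (iv D22948)) (tt N21194 F44152) (tt N23671 (iv F46136)) (tt N21196 F44153))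
theorem Q22912 : ∀ i, i < 22912 → P i := stepQ 22911 Q22911 (allL N22911 (tt N22959 (iv F44295)) (tt N21176 F44154) (tt N24078 (iv F47175)) (tt N23388 (iv F45451)) (tt N21175 (iv D22949)) (tt N21202 F44155))
theorem Q22913 : ∀ i, i < 22913 → P i := stepQ 22912 Q22912 (allL N22912 (tt N21178 F44156) (tt N21419 F44157) (tt N24129 D24167) (tt N21177 (iv D22950)) (tt N23544 (iv F45824)) (tt N21412 F44158))
theorem Q22914 : ∀ i, i < 22914 → P i := stepQ 22913 Q22913 (allL N22913 (tt N24129 (iv F47297)) (tt N21416 F44159) (tt N21178 (iv D22951)) (tt N24129 (iv F47299)) (tt N23545 (iv F45826)) (tt N21413 F44160))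
theorem Q22915 : ∀ i, i < 22915 → P i := stepQ 22914 Q22914 (allL N22914 (tt N21505 F44161) (tt N21413 F44162) (tt N21181 (iv D22952)) (tt N24130 D24168) (tt N24131 D24169) (tt N21416 F44163))
theorem Q22916 : ∀ i, i < 22916 → P i := stepQ 22915 Q22915 (allL N22915 (tt N21506 F44164) (tt N21182 F44165) (tt N24131 (iv F47308)) (tt N21356 F44166) (tt N21181 (iv D22953)) (tt N24132 D24170))
theorem Q22917 : ∀ i, i < 22917 → P i := stepQ 22916 Q22916 (allL N22916 (tt N21183 F44167) (tt N24132 (iv F47310)) (tt N21415 F44168) (tt N21357 F44169) (tt N21418 F44170) (tt N21182 (iv D22954)))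
theorem Q22918 : ∀ i, i < 22918 → P i := stepQ 22917 Q22917 (allL N22917 (tt N21187 F44171) (tt N21184 (iv D22955)) (tt N21189 F44172) (tt N21184 (iv F44175)) (tt N21463 F44173) (tt N21312 F44174))
theorem Q22919 : ∀ i, i < 22919 → P i := stepQ 22918 Q22918 (allL N22918 (tt N21464 F44176) (tt N22363 F44177) (tt N24035 (iv F47028)) (tt N21185 (iv D22956)) (tt N24032 (iv F47018)) (tt N24035 (iv F47030)))
theorem Q22920 : ∀ i, i < 22920 → P i := stepQ 22919 Q22919 (allL N22919 (tt N21465 F44178) (tt N22364 F44179) (tt N21186 F44180) (tt N24035 (iv F47029)) (tt N22368 F44181) (tt N21185 (iv D22957)))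
theorem Q22921 : ∀ i, i < 22921 → P i := stepQ 22920 Q22920 (allL N22920 (tt N21304 F44182) (tt N21264 F44183) (tt N21192 (iv D22958)) (tt N21358 F44184) (tt N24071 (iv F47155)) (tt N21334 F44185))
theorem Q22922 : ∀ i, i < 22922 → P i := stepQ 22921 Q22921 (allL N22921 (tt N24046 (iv F47066)) (tt N21193 F44186) (tt N24071 (iv F47154)) (tt N22320 F44187) (tt N21192 (iv D22959)) (tt N22318 F44188))
theorem Q22923 : ∀ i, i < 22923 → P i := stepQ 22922 Q22922 (allL N22922 (tt N23418 (iv F45515)) (tt N21194 (iv D22960)) (tt N21437 F44189) (tt N23415 (iv F45512)) (tt N22360 F44190) (tt N21195 F44191))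
theorem Q22924 : ∀ i, i < 22924 → P i := stepQ 22923 Q22923 (allL N22923 (tt N24039 (iv F47041)) (tt N22367 F44192) (tt N21983 F44193) (tt N21200 (iv D22961)) (tt N24039 (iv F47044)) (tt N22490 (iv F44194)))
theorem Q22925 : ∀ i, i < 22925 → P i := stepQ 22924 Q22924 (allL N22924 (tt N24034 (iv F47023)) (tt N22368 F44195) (tt N21201 F44196) (tt N22490 F44197) (tt N22364 F44198) (tt N21200 (iv D22962)))
theorem Q22926 : ∀ i, i < 22926 → P i := stepQ 22925 Q22925 (allL N22925 (tt N21206 (iv D22963)) (tt N21241 F44199) (tt N21243 F44200) (tt N22984 (iv F44374)) (tt N22814 F44201) (tt N22935 (iv F44224)))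
theorem Q22927 : ∀ i, i < 22927 → P i := stepQ 22926 Q22926 (allL N22926 (tt N22984 (iv F44373)) (tt N21207 F44202) (tt N22979 (iv F44353)) (tt N21206 (iv D22964)) (tt N23005 (iv F44445)) (tt N22938 (iv F44234)))
theorem Q22928 : ∀ i, i < 22928 → P i := stepQ 22927 Q22927 (allL N22927 (tt N22932 (iv F44213)) (tt N24133 D24171) (tt N21208 (iv D22965)) (tt N21321 F44203) (tt N24134 D24172) (tt N21319 F44204))
theorem Q22929 : ∀ i, i < 22929 → P i := stepQ 22928 Q22928 (allL N22928 (tt N23020 (iv F44495)) (tt N21210 F44205) (tt N24134 (iv F47316)) (tt N21213 F44206) (tt N21208 (iv D22966)) (tt N24135 D24173))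
theorem Q22930 : ∀ i, i < 22930 → P i := stepQ 22929 Q22929 (allL N22929 (tt N24136 D24174) (tt N21209 (iv D22967)) (tt N24133 (iv F47313)) (tt N22823 F44207) (tt N24137 D24175) (tt N22824 F44208))
theorem Q22931 : ∀ i, i < 22931 → P i := stepQ 22930 Q22930 (allL N22930 (tt N21558 F44209) (tt N24137 (iv F47323)) (tt N21210 F44210) (tt N24138 D24176) (tt N21209 (iv D22968)) (tt N24139 D24177))
theorem Q22932 : ∀ i, i < 22932 → P i := stepQ 22931 Q22931 (allL N22931 (tt N21556 F44211) (tt N24135 (iv F47318)) (tt N24139 (iv F47329)) (tt N21214 F44212) (tt N23004 (iv F44443)) (tt N21210 (iv D22969)))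
theorem Q22933 : ∀ i, i < 22933 → P i := stepQ 22932 Q22932 (allL N22932 (tt N22927 F44213) (tt N21549 F44214) (tt N21324 F44215) (tt N21212 (iv D22970)) (tt N24140 D24178) (tt N21331 F44216))
theorem Q22934 : ∀ i, i < 22934 → P i := stepQ 22933 Q22933 (allL N22933 (tt N23018 (iv F44490)) (tt N21550 F44217) (tt N21213 F44218) (tt N24141 D24179) (tt N21212 (iv D22971)) (tt N22656 F44219))
theorem Q22935 : ∀ i, i < 22935 → P i := stepQ 22934 Q22934 (allL N22934 (tt N23019 (iv F44492)) (tt N21214 F44220) (tt N22656 F44221) (tt N24135 (iv F47319)) (tt N21551 F44222) (tt N21213 (iv D22972)))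
theorem Q22936 : ∀ i, i < 22936 → P i := stepQ 22935 Q22935 (allL N22935 (tt N21219 F44223) (tt N22958 (iv F44293)) (tt N21215 (iv D22973)) (tt N24142 D24180) (tt N24143 D24181) (tt N22925 F44224))
theorem Q22937 : ∀ i, i < 22937 → P i := stepQ 22936 Q22936 (allL N22936 (tt N21220 F44225) (tt N21217 F44226) (tt N24143 (iv F47342)) (tt N21220 F44227) (tt N21215 (iv D22974)) (tt N23220 (iv F45018)))
theorem Q22938 : ∀ i, i < 22938 → P i := stepQ 22937 Q22937 (allL N22937 (tt N21221 F44228) (tt N21218 F44229) (tt N21271 F44230) (tt N22240 F44231) (tt N21216 (iv D22975)) (tt N21221 F44232))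
theorem Q22939 : ∀ i, i < 22939 → P i := stepQ 22938 Q22938 (allL N22938 (tt N24142 (iv F47337)) (tt N21619 F44233) (tt N24127 (iv F47290)) (tt N21219 (iv D22976)) (tt N23173 (iv F44909)) (tt N22926 F44234))
theorem Q22940 : ∀ i, i < 22940 → P i := stepQ 22939 Q22939 (allL N22939 (tt N24143 (iv F47341)) (tt N21615 F44235) (tt N21220 F44236) (tt N24144 D24182) (tt N21219 (iv D22977)) (tt N24074 (iv F47165)))
theorem Q22941 : ∀ i, i < 22941 → P i := stepQ 22940 Q22940 (allL N22940 (tt N23220 (iv F45015)) (tt N21222 F44237) (tt N24074 (iv F47163)) (tt N23220 (iv F45017)) (tt N22907 F44238) (tt N21220 (iv D22978)))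
theorem Q22942 : ∀ i, i < 22942 → P i := stepQ 22941 Q22941 (allL N22941 (tt N22240 F44239) (tt N21223 F44240) (tt N23540 (iv F45814)) (tt N21221 (iv D22979)) (tt N22241 F44241) (tt N22240 F44242))
theorem Q22943 : ∀ i, i < 22943 → P i := stepQ 22942 Q22942 (allL N22942 (tt N21236 F44243) (tt N23080 (iv F44683)) (tt N21255 F44244) (tt N21316 F44245) (tt N21254 F44246) (tt N21226 (iv D22980)))
theorem Q22944 : ∀ i, i < 22944 → P i := stepQ 22943 Q22943 (allL N22943 (tt N21238 F44247) (tt N23095 F44720) (tt N22431 (iv F44250)) (tt N21227 (iv D22981)) (tt N21253 F44248) (tt N21317 F44249))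
theorem Q22945 : ∀ i, i < 22945 → P i := stepQ 22944 Q22944 (allL N22944 (tt N23117 (iv F44780)) (tt N21321 F44251) (tt N21228 (iv D22982)) (tt N24133 (iv F47314)) (tt N24145 D24183) (tt N21318 F44252))
theorem Q22946 : ∀ i, i < 22946 → P i := stepQ 22945 Q22945 (allL N22945 (tt N23115 (iv F44771)) (tt N21229 F44253) (tt N24145 (iv F47345)) (tt N21233 F44254) (tt N21228 (iv D22983)) (tt N24124 (iv F47280)))
theorem Q22947 : ∀ i, i < 22947 → P i := stepQ 22946 Q22946 (allL N22946 (tt N21316 F44255) (tt N24124 (iv F47278)) (tt N21327 F44256) (tt N21236 F44257) (tt N21326 F44258) (tt N21229 (iv D22984)))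
theorem Q22948 : ∀ i, i < 22948 → P i := stepQ 22947 Q22947 (allL N22947 (tt N21317 F44259) (tt N23123 (iv F44796)) (tt N22408 F44262) (tt N21230 (iv D22985)) (tt N21325 F44260) (tt N21238 F44261))
theorem Q22949 : ∀ i, i < 22949 → P i := stepQ 22948 Q22948 (allL N22948 (tt N21233 F44263) (tt N23116 (iv F44776)) (tt N22176 F44264) (tt N23115 F44774) (tt N21231 (iv D22986)) (tt N24125 (iv F47283)))
theorem Q22950 : ∀ i, i < 22950 → P i := stepQ 22949 Q22949 (allL N22949 (tt N21405 F44265) (tt N21232 (iv D22987)) (tt N21234 F44266) (tt N22171 F44267) (tt N24146 D24184) (tt N21246 F44268))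
theorem Q22951 : ∀ i, i < 22951 → P i := stepQ 22950 Q22950 (allL N22950 (tt N22176 F44269) (tt N24146 (iv F47347)) (tt N21233 F44270) (tt N24147 D24185) (tt N21232 (iv D22988)) (tt N24148 D24186))
theorem Q22952 : ∀ i, i < 22952 → P i := stepQ 22951 Q22951 (allL N22951 (tt N24125 (iv F47281)) (tt N21236 F44271) (tt N24148 (iv F47352)) (tt N24124 (iv F47279)) (tt N23711 (iv F46245)) (tt N21233 (iv D22989)))
theorem Q22953 : ∀ i, i < 22953 → P i := stepQ 22952 Q22952 (allL N22952 (tt N21406 F44272) (tt N21235 F44273) (tt N24146 (iv F47348)) (tt N21446 F44274) (tt N21234 (iv D22990)) (tt N24149 D24187))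
theorem Q22954 : ∀ i, i < 22954 → P i := stepQ 22953 Q22953 (allL N22953 (tt N21255 F44275) (tt N24149 (iv F47354)) (tt N21236 F44276) (tt N21354 F44277) (tt N21248 F44278) (tt N21235 (iv D22991)))
theorem Q22955 : ∀ i, i < 22955 → P i := stepQ 22954 Q22954 (allL N22954 (tt N21254 F44279) (tt N23711 (iv F46244)) (tt N21248 F44280) (tt N22420 F44281) (tt N21236 (iv D22992)) (tt N21237 F44282))
theorem Q22956 : ∀ i, i < 22956 → P i := stepQ 22955 Q22955 (allL N22955 (tt N21253 F44283) (tt N23710 (iv F46242)) (tt N22419 F44284) (tt N21237 (iv D22993)) (tt N21238 F44285) (tt N22420 F44286))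
theorem Q22957 : ∀ i, i < 22957 → P i := stepQ 22956 Q22956 (allL N22956 (tt N22431 F44287) (tt N24150 D24188) (tt N21238 (iv D22994)) (tt N22407 F44290) (tt N22419 F44288) (tt N22408 F44289))
theorem Q22958 : ∀ i, i < 22958 → P i := stepQ 22957 Q22957 (allL N22957 (tt N22824 F44291) (tt N22984 F44375) (tt N23125 (iv F44802)) (tt N21241 (iv D22995)) (tt N23364 (iv F45382)) (tt N24136 (iv F47322)))
theorem Q22959 : ∀ i, i < 22959 → P i := stepQ 22958 Q22958 (allL N22958 (tt N22823 F44292) (tt N22935 F44293) (tt N21242 F44294) (tt N24136 (iv F47321)) (tt N24151 D24189) (tt N21241 (iv D22996)))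
theorem Q22960 : ∀ i, i < 22960 → P i := stepQ 22959 Q22959 (allL N22959 (tt N22911 F44295) (tt N21244 F44296) (tt N24151 (iv F47362)) (tt N21838 F44297) (tt N21242 (iv D22997)) (tt N21837 F44298))
theorem Q22961 : ∀ i, i < 22961 → P i := stepQ 22960 Q22960 (allL N22960 (tt N21246 F44299) (tt N21391 F44300) (tt N21245 (iv D22998)) (tt N22179 (iv F44302)) (tt N24152 D24190) (tt N21405 F44301))
theorem Q22962 : ∀ i, i < 22962 → P i := stepQ 22961 Q22961 (allL N22961 (tt N21247 F44303) (tt N21249 F44304) (tt N24152 (iv F47366)) (tt N21265 F44305) (tt N21245 (iv D22999)) (tt N24153 D24191))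
theorem Q22963 : ∀ i, i < 22963 → P i := stepQ 22962 Q22962 (allL N22962 (tt N22179 F44306) (tt N22172 F44307) (tt N21512 F44309) (tt N21246 (iv D23000)) (tt N24154 D24192) (tt N22171 F44308))
theorem Q22964 : ∀ i, i < 22964 → P i := stepQ 22963 Q22963 (allL N22963 (tt N24152 (iv F47364)) (tt N23709 (iv F46240)) (tt N21247 F44310) (tt N24155 D24193) (tt N21246 (iv D23001)) (tt N24156 D24194))
theorem Q22965 : ∀ i, i < 22965 → P i := stepQ 22964 Q22964 (allL N22964 (tt N24153 (iv F47367)) (tt N21248 F44311) (tt N24156 (iv F47374)) (tt N21268 F44312) (tt N24149 (iv F47356)) (tt N21247 (iv D23002)))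
theorem Q22966 : ∀ i, i < 22966 → P i := stepQ 22965 Q22965 (allL N22965 (tt N21250 F44313) (tt N24153 (iv F47368)) (tt N21396 F44314) (tt N21279 F44315) (tt N21407 F44316) (tt N21249 (iv D23003)))
theorem Q22967 : ∀ i, i < 22967 → P i := stepQ 22966 Q22966 (allL N22966 (tt N21252 F44317) (tt N23708 (iv F46237)) (tt N23071 F44658) (tt N23103 (iv F44738)) (tt N21251 (iv D23004)) (tt N23072 (iv F44662)))
theorem Q22968 : ∀ i, i < 22968 → P i := stepQ 22967 Q22967 (allL N22967 (tt N24127 (iv F47288)) (tt N21257 F44318) (tt N24142 (iv F47339)) (tt N21256 (iv D23005)) (tt N24157 D24195) (tt N21274 F44319))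
theorem Q22969 : ∀ i, i < 22969 → P i := stepQ 22968 Q22968 (allL N22968 (tt N21549 F44320) (tt N24158 D24196) (tt N21257 (iv D23006)) (tt N21461 F44321) (tt N24159 D24197) (tt N21531 (iv F44322)))
theorem Q22970 : ∀ i, i < 22970 → P i := stepQ 22969 Q22969 (allL N22969 (tt N21569 F44323) (tt N24157 (iv F47376)) (tt N24159 (iv F47384)) (tt N22398 F44324) (tt N21257 (iv D23007)) (tt N24160 D24198))
theorem Q22971 : ∀ i, i < 22971 → P i := stepQ 22970 Q22970 (allL N22970 (tt N21332 F44325) (tt N21274 F44326) (tt N21531 F44327) (tt N21258 F44328) (tt N24161 D24199) (tt N21257 (iv D23008)))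
theorem Q22972 : ∀ i, i < 22972 → P i := stepQ 22971 Q22971 (allL N22971 (tt N21568 F44329) (tt N21275 F44330) (tt N21259 F44331) (tt N24162 D24200) (tt N21258 (iv D23009)) (tt N22399 F44332))
theorem Q22973 : ∀ i, i < 22973 → P i := stepQ 22972 Q22972 (allL N22972 (tt N21266 F44333) (tt N21358 F44334) (tt N21552 F44335) (tt N21264 (iv D23010)) (tt N24163 D24201) (tt N21338 F44336))
theorem Q22974 : ∀ i, i < 22974 → P i := stepQ 22973 Q22973 (allL N22973 (tt N21267 F44337) (tt N24071 (iv F47153)) (tt N21265 F44338) (tt N24164 D24202) (tt N21264 (iv D23011)) (tt N24165 D24203))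
theorem Q22975 : ∀ i, i < 22975 → P i := stepQ 22974 Q22974 (allL N22974 (tt N21268 F44339) (tt N21279 F44340) (tt N24165 (iv F47405)) (tt N24153 (iv F47369)) (tt N21348 F44341) (tt N21265 (iv D23012)))
theorem Q22976 : ∀ i, i < 22976 → P i := stepQ 22975 Q22975 (allL N22975 (tt N21552 F44342) (tt N21355 F44343) (tt N21266 (iv D23013)) (tt N21355 F44344) (tt N24166 D24204) (tt N21340 F44345))
theorem Q22977 : ∀ i, i < 22977 → P i := stepQ 22976 Q22976 (allL N22976 (tt N24163 (iv F47399)) (tt N21305 F44346) (tt N24166 (iv F47409)) (tt N24167 D24205) (tt N21266 (iv D23014)) (tt N24168 D24206))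
theorem Q22978 : ∀ i, i < 22978 → P i := stepQ 22977 Q22977 (allL N22977 (tt N24164 (iv F47402)) (tt N21306 F44347) (tt N24169 D24207) (tt N21267 (iv D23015)) (tt N24167 (iv F47411)) (tt N24044 (iv F47061)))
theorem Q22979 : ∀ i, i < 22979 → P i := stepQ 22978 Q22978 (allL N22978 (tt N24165 (iv F47403)) (tt N21307 F44348) (tt N21268 F44349) (tt N24044 (iv F47059)) (tt N21343 F44350) (tt N21267 (iv D23016)))
theorem Q22980 : ∀ i, i < 22980 → P i := stepQ 22979 Q22979 (allL N22979 (tt N21274 F44351) (tt N21301 F44352) (tt N22926 F44353) (tt N21269 (iv D23017)) (tt N21300 (iv F44354)) (tt N24127 (iv F47292)))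
theorem Q22981 : ∀ i, i < 22981 → P i := stepQ 22980 Q22980 (allL N22980 (tt N21275 F44355) (tt N21578 F44356) (tt N21270 F44357) (tt N21576 F44358) (tt N21269 (iv D23018)) (tt N21583 (iv F44359)))
theorem Q22982 : ∀ i, i < 22982 → P i := stepQ 22981 Q22981 (allL N22981 (tt N21276 F44360) (tt N21272 F44361) (tt N21583 F44362) (tt N21276 F44363) (tt N22401 F44364) (tt N21270 (iv D23019)))
theorem Q22983 : ∀ i, i < 22983 → P i := stepQ 22982 Q22982 (allL N22982 (tt N21277 F44365) (tt N21273 F44366) (tt N24170 D24208) (tt N21271 (iv D23020)) (tt N22400 F44367) (tt N21277 F44368))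
theorem Q22984 : ∀ i, i < 22984 → P i := stepQ 22983 Q22983 (allL N22983 (tt N22407 F44369) (tt N24171 D24209) (tt N21273 (iv D23021)) (tt N22431 F44370) (tt N22391 F44371) (tt N21278 F44372))
theorem Q22985 : ∀ i, i < 22985 → P i := stepQ 22984 Q22984 (allL N22984 (tt N22926 F44373) (tt N22957 (iv F44375)) (tt N21274 (iv D23022)) (tt N22925 F44374) (tt N24172 D24210) (tt N24142 (iv F47340)))
theorem Q22986 : ∀ i, i < 22986 → P i := stepQ 22985 Q22985 (allL N22985 (tt N21300 F44376) (tt N24161 (iv F47390)) (tt N24172 (iv F47422)) (tt N21573 (iv F44377)) (tt N21274 (iv D23023)) (tt N21572 (iv F44378)))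
theorem Q22987 : ∀ i, i < 22987 → P i := stepQ 22986 Q22986 (allL N22986 (tt N21576 F44379) (tt N24162 (iv F47395)) (tt N21587 F44381) (tt N21275 (iv D23024)) (tt N21573 F44380) (tt N21580 F44382))
theorem Q22988 : ∀ i, i < 22988 → P i := stepQ 22987 Q22987 (allL N22987 (tt N21583 F44383) (tt N22399 F44384) (tt N21276 F44385) (tt N21580 F44386) (tt N22397 F44387) (tt N21275 (iv D23025)))
theorem Q22989 : ∀ i, i < 22989 → P i := stepQ 22988 Q22988 (allL N22988 (tt N24170 (iv F47414)) (tt N24173 D24211) (tt N21277 (iv D23026)) (tt N24174 D24212) (tt N22402 F44388) (tt N24170 (iv F47416)))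
theorem Q22990 : ∀ i, i < 22990 → P i := stepQ 22989 Q22989 (allL N22989 (tt N24175 D24213) (tt N21278 (iv D23027)) (tt N24173 (iv F47425)) (tt N23974 (iv F46896)) (tt N22387 F44389) (tt N24171 (iv F47419)))
theorem Q22991 : ∀ i, i < 22991 → P i := stepQ 22990 Q22990 (allL N22990 (tt N22408 F44390) (tt N23974 (iv F46894)) (tt N21317 F44391) (tt N21278 (iv D23028)) (tt N22392 F44392) (tt N22431 F44393))
theorem Q22992 : ∀ i, i < 22992 → P i := stepQ 22991 Q22991 (allL N22991 (tt N24047 (iv F47071)) (tt N21282 F44394) (tt N24176 D24214) (tt N21281 (iv D23029)) (tt N21467 F44395) (tt N22313 (iv F44396)))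
theorem Q22993 : ∀ i, i < 22993 → P i := stepQ 22992 Q22992 (allL N22992 (tt N24070 (iv F47148)) (tt N21283 F44397) (tt N21284 F44398) (tt N22313 F44399) (tt N21315 F44400) (tt N21281 (iv D23030)))
theorem Q22994 : ∀ i, i < 22994 → P i := stepQ 22993 Q22993 (allL N22993 (tt N21287 F44401) (tt N21295 F44402) (tt N21807 F44404) (tt N21286 (iv D23031)) (tt N21330 F44403) (tt N23576 (iv F45915)))
theorem Q22995 : ∀ i, i < 22995 → P i := stepQ 22994 Q22994 (allL N22994 (tt N21807 F44405) (tt N21548 (iv F44408)) (tt N21287 (iv D23032)) (tt N21806 F44407) (tt N21331 F44406) (tt N23577 (iv F45919)))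
theorem Q22996 : ∀ i, i < 22996 → P i := stepQ 22995 Q22995 (allL N22995 (tt N24161 (iv F47389)) (tt N21288 (iv D23033)) (tt N21548 F44409) (tt N21292 F44410) (tt N21332 F44411) (tt N21291 F44412))
theorem Q22997 : ∀ i, i < 22997 → P i := stepQ 22996 Q22996 (allL N22996 (tt N21303 F44413) (tt N23578 (iv F45920)) (tt N21293 F44414) (tt N21327 F44415) (tt N21289 (iv D23034)) (tt N21328 F44416))
theorem Q22998 : ∀ i, i < 22998 → P i := stepQ 22997 Q22997 (allL N22997 (tt N21291 F44417) (tt N21572 F44418) (tt N24177 D24215) (tt N21290 (iv D23035)) (tt N24160 F47388) (tt N24161 (iv F47392)))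
theorem Q22999 : ∀ i, i < 22999 → P i := stepQ 22998 Q22998 (allL N22998 (tt N21292 F44419) (tt N21573 F44420) (tt N21565 F44421) (tt N24161 F47393) (tt N24162 (iv F47396)) (tt N21290 (iv D23036)))
theorem Q23000 : ∀ i, i < 23000 → P i := stepQ 22999 Q22999 (allL N22999 (tt N24177 (iv F47436)) (tt N23577 (iv F45917)) (tt N21291 (iv D23037)) (tt N22226 F44423) (tt N24178 D24216) (tt N21548 F44422))
theorem Q23001 : ∀ i, i < 23001 → P i := stepQ 23000 Q23000 (allL N23000 (tt N24160 (iv F47385)) (tt N21293 F44424) (tt N24178 (iv F47440)) (tt N21455 F44425) (tt N21291 (iv D23038)) (tt N21569 F44426))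
theorem Q23002 : ∀ i, i < 23002 → P i := stepQ 23001 Q23001 (allL N23001 (tt N24162 (iv F47394)) (tt N21294 F44427) (tt N22473 F44428) (tt N21568 F44429) (tt N21292 (iv D23039)) (tt N21487 F44430))
theorem Q23003 : ∀ i, i < 23003 → P i := stepQ 23002 Q23002 (allL N23002 (tt N21577 F44431) (tt N21569 F44432) (tt N21328 F44433) (tt N21456 F44434) (tt N21329 F44435) (tt N21293 (iv D23040)))
theorem Q23004 : ∀ i, i < 23004 → P i := stepQ 23003 Q23003 (allL N23003 (tt N21578 F44436) (tt N21568 F44437) (tt N21570 F44438) (tt N21294 (iv D23041)) (tt N21333 F44439) (tt N21571 F44440))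
theorem Q23005 : ∀ i, i < 23005 → P i := stepQ 23004 Q23004 (allL N23004 (tt N21299 F44441) (tt N23576 (iv F45913)) (tt N24081 (iv F47188)) (tt N21296 F44442) (tt N22931 F44443) (tt N21295 (iv D23042)))
theorem Q23006 : ∀ i, i < 23006 → P i := stepQ 23005 Q23005 (allL N23005 (tt N24172 (iv F47420)) (tt N21297 (iv D23043)) (tt N21300 F44444) (tt N23813 (iv F46480)) (tt N22926 F44445) (tt N21574 (iv F44446)))
theorem Q23007 : ∀ i, i < 23007 → P i := stepQ 23006 Q23006 (allL N23006 (tt N24081 (iv F47186)) (tt N21574 F44447) (tt N21299 F44448) (tt N23812 (iv F46475)) (tt N23172 (iv F44907)) (tt N21297 (iv D23044)))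
theorem Q23008 : ∀ i, i < 23008 → P i := stepQ 23007 Q23007 (allL N23007 (tt N21360 F44449) (tt N24167 (iv F47410)) (tt N24045 (iv F47063)) (tt N21305 (iv D23045)) (tt N21306 F44450) (tt N23529 (iv F45787)))
theorem Q23009 : ∀ i, i < 23009 → P i := stepQ 23008 Q23008 (allL N23008 (tt N21361 F44451) (tt N24168 (iv F47412)) (tt N21357 F44452) (tt N23529 (iv F45786)) (tt N21345 F44453) (tt N21305 (iv D23046)))
theorem Q23010 : ∀ i, i < 23010 → P i := stepQ 23009 Q23009 (allL N23009 (tt N21504 F44454) (tt N21310 F44455) (tt N21335 F44456) (tt N22316 F44457) (tt N21308 (iv D23047)) (tt N22315 (iv F44458)))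
theorem Q23011 : ∀ i, i < 23011 → P i := stepQ 23010 Q23010 (allL N23010 (tt N21313 F44459) (tt N22369 F44460) (tt N22366 F44461) (tt N22446 (iv F44463)) (tt N21309 (iv D23048)) (tt N22640 F44462))
theorem Q23012 : ∀ i, i < 23012 → P i := stepQ 23011 Q23011 (allL N23011 (tt N21314 F44464) (tt N22316 F44465) (tt N22422 (iv F44468)) (tt N21310 (iv D23049)) (tt N22446 F44466) (tt N21535 F44467))
theorem Q23013 : ∀ i, i < 23013 → P i := stepQ 23012 Q23012 (allL N23012 (tt N21315 F44469) (tt N22315 F44470) (tt N21311 F44471) (tt N21535 F44472) (tt N24070 (iv F47152)) (tt N21310 (iv D23050)))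
theorem Q23014 : ∀ i, i < 23014 → P i := stepQ 23013 Q23013 (allL N23013 (tt N22366 F44473) (tt N22365 F44474) (tt N21313 F44475) (tt N24179 D24217) (tt N21312 (iv D23051)) (tt N24180 D24218))
theorem Q23015 : ∀ i, i < 23015 → P i := stepQ 23014 Q23014 (allL N23014 (tt N22446 F44476) (tt N21536 F44477) (tt N24181 D24219) (tt N21313 (iv D23052)) (tt N21314 F44478) (tt N22314 (iv F44479)))
theorem Q23016 : ∀ i, i < 23016 → P i := stepQ 23015 Q23015 (allL N23015 (tt N22640 F44480) (tt N21469 F44481) (tt N24180 (iv F47448)) (tt N22314 F44482) (tt N21468 F44483) (tt N21313 (iv D23053)))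
theorem Q23017 : ∀ i, i < 23017 → P i := stepQ 23016 Q23016 (allL N23016 (tt N22422 F44484) (tt N21533 F44485) (tt N21314 (iv D23054)) (tt N22472 F44487) (tt N24181 (iv F47452)) (tt N21532 F44486))
theorem Q23018 : ∀ i, i < 23018 → P i := stepQ 23017 Q23017 (allL N23017 (tt N23125 (iv F44800)) (tt N21319 F44488) (tt N22824 F44489) (tt N21318 (iv D23055)) (tt N23375 F45406) (tt N24133 (iv F47315)))
theorem Q23019 : ∀ i, i < 23019 → P i := stepQ 23018 Q23018 (allL N23018 (tt N22933 F44490) (tt N24145 (iv F47344)) (tt N21323 F44491) (tt N24182 D24220) (tt N21321 (iv D23056)) (tt N23958 (iv F46848)))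
theorem Q23020 : ∀ i, i < 23020 → P i := stepQ 23019 Q23019 (allL N23019 (tt N22934 F44492) (tt N21327 F44493) (tt N23958 (iv F46847)) (tt N23578 (iv F45921)) (tt N21322 (iv D23057)) (tt N21323 F44494))
theorem Q23021 : ∀ i, i < 23021 → P i := stepQ 23020 Q23020 (allL N23020 (tt N22928 F44495) (tt N21328 F44496) (tt N24140 (iv F47334)) (tt N21323 (iv D23058)) (tt N21324 F44497) (tt N23578 (iv F45922)))
theorem Q23022 : ∀ i, i < 23022 → P i := stepQ 23021 Q23021 (allL N23021 (tt N21335 F44498) (tt N21339 F44499) (tt N21504 F44500) (tt N23970 (iv F46882)) (tt N21334 (iv D23059)) (tt N22317 (iv F44501)))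
theorem Q23023 : ∀ i, i < 23023 → P i := stepQ 23022 Q23022 (allL N23022 (tt N23970 (iv F46881)) (tt N21336 F44502) (tt N22321 F44504) (tt N21335 (iv D23060)) (tt N22852 F44503) (tt N22379 (iv F44505)))
theorem Q23024 : ∀ i, i < 23024 → P i := stepQ 23023 Q23023 (allL N23023 (tt N22317 F44506) (tt N21337 F44507) (tt N22315 F44508) (tt N22379 F44509) (tt N24073 (iv F47162)) (tt N21335 (iv D23061)))
theorem Q23025 : ∀ i, i < 23025 → P i := stepQ 23024 Q23024 (allL N23024 (tt N21347 F44510) (tt N22379 F44511) (tt N22224 F44512) (tt N21337 F44513) (tt N22225 F44514) (tt N21336 (iv D23062)))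
theorem Q23026 : ∀ i, i < 23026 → P i := stepQ 23025 Q23025 (allL N23025 (tt N21341 F44515) (tt N22045 F44516) (tt N22867 F44517) (tt N23971 (iv F46887)) (tt N21338 (iv D23063)) (tt N24183 D24221))
theorem Q23027 : ∀ i, i < 23027 → P i := stepQ 23026 Q23026 (allL N23026 (tt N21342 F44518) (tt N23970 F46885) (tt N24184 D24222) (tt N21339 (iv D23064)) (tt N23971 (iv F46888)) (tt N24185 D24223))
theorem Q23028 : ∀ i, i < 23028 → P i := stepQ 23027 Q23027 (allL N23027 (tt N21343 F44519) (tt N22317 F44520) (tt N21348 F44521) (tt N24185 (iv F47463)) (tt N24165 (iv F47406)) (tt N21339 (iv D23065)))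
theorem Q23029 : ∀ i, i < 23029 → P i := stepQ 23028 Q23028 (allL N23028 (tt N22867 F44522) (tt N22870 F44523) (tt N21341 F44524) (tt N24186 D24224) (tt N21340 (iv D23066)) (tt N24187 D24225))
theorem Q23030 : ∀ i, i < 23030 → P i := stepQ 23029 Q23029 (allL N23029 (tt N23971 (iv F46886)) (tt N21344 F44525) (tt N23531 (iv F45791)) (tt N21341 (iv D23067)) (tt N21342 F44526) (tt N23525 (iv F45776)))
theorem Q23031 : ∀ i, i < 23031 → P i := stepQ 23030 Q23030 (allL N23030 (tt N24183 (iv F47455)) (tt N21345 F44527) (tt N24187 (iv F47469)) (tt N23525 (iv F45774)) (tt N24168 (iv F47413)) (tt N21341 (iv D23068)))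
theorem Q23032 : ∀ i, i < 23032 → P i := stepQ 23031 Q23031 (allL N23031 (tt N24184 (iv F47458)) (tt N22541 F44528) (tt N21342 (iv D23069)) (tt N22861 F44529) (tt N23531 F45793) (tt N23536 (iv F45801)))
theorem Q23033 : ∀ i, i < 23033 → P i := stepQ 23032 Q23032 (allL N23032 (tt N24185 (iv F47461)) (tt N21347 F44530) (tt N23536 (iv F45799)) (tt N21343 F44531) (tt N23528 (iv F45783)) (tt N21342 (iv D23070)))
theorem Q23034 : ∀ i, i < 23034 → P i := stepQ 23033 Q23033 (allL N23033 (tt N21500 F44532) (tt N22854 F44533) (tt N24188 D24226) (tt N21349 (iv D23071)) (tt N24189 D24227) (tt N22863 F44534))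
theorem Q23035 : ∀ i, i < 23035 → P i := stepQ 23034 Q23034 (allL N23034 (tt N21501 F44535) (tt N22855 F44536) (tt N21350 F44537) (tt N22863 F44538) (tt N24190 D24228) (tt N21349 (iv D23072)))
theorem Q23036 : ∀ i, i < 23036 → P i := stepQ 23035 Q23035 (allL N23035 (tt N21449 F44539) (tt N21354 F44540) (tt N24190 (iv F47479)) (tt N24149 (iv F47355)) (tt N21350 (iv D23073)) (tt N21446 F44541))
theorem Q23037 : ∀ i, i < 23037 → P i := stepQ 23036 Q23036 (allL N23036 (tt N22397 F44542) (tt N21352 F44543) (tt N22401 (iv F44545)) (tt N21351 (iv D23074)) (tt N21583 F44544) (tt N22395 (iv F44546)))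
theorem Q23038 : ∀ i, i < 23038 → P i := stepQ 23037 Q23037 (allL N23037 (tt N22396 F44547) (tt N21353 F44548) (tt N22855 F44549) (tt N22395 F44550) (tt N21582 F44551) (tt N21351 (iv D23075)))
theorem Q23039 : ∀ i, i < 23039 → P i := stepQ 23038 Q23038 (allL N23038 (tt N21553 F44552) (tt N24166 (iv F47408)) (tt N21356 F44553) (tt N24191 D24229) (tt N21355 (iv D23076)) (tt N24192 D24230))
theorem Q23040 : ∀ i, i < 23040 → P i := stepQ 23039 Q23039 (allL N23039 (tt N21554 F44554) (tt N21357 F44555) (tt N24192 (iv F47483)) (tt N24132 (iv F47311)) (tt N22875 F44556) (tt N21356 (iv D23077)))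
theorem Q23041 : ∀ i, i < 23041 → P i := stepQ 23040 Q23040 (allL N23040 (tt N21359 F44557) (tt N24163 (iv F47400)) (tt N21559 F44558) (tt N24193 D24231) (tt N21358 (iv D23078)) (tt N24194 D24232))
theorem Q23042 : ∀ i, i < 23042 → P i := stepQ 23041 Q23041 (allL N23041 (tt N24193 (iv F47485)) (tt N21360 F44559) (tt N24195 D24233) (tt N21359 (iv D23079)) (tt N24072 (iv F47158)) (tt N24196 D24234))
theorem Q23043 : ∀ i, i < 23043 → P i := stepQ 23042 Q23042 (allL N23042 (tt N24194 (iv F47486)) (tt N21361 F44560) (tt N21561 F44561) (tt N24196 (iv F47491)) (tt N22853 F44562) (tt N21359 (iv D23080)))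
theorem Q23044 : ∀ i, i < 23044 → P i := stepQ 23043 Q23043 (allL N23043 (tt N24045 (iv F47062)) (tt N23947 (iv F46828)) (tt N21360 (iv D23081)) (tt N22057 F44563) (tt N23539 (iv F45811)) (tt N22056 (iv F44564)))
theorem Q23045 : ∀ i, i < 23045 → P i := stepQ 23044 Q23044 (allL N23044 (tt N23529 (iv F45784)) (tt N24196 (iv F47490)) (tt N22056 F44565) (tt N21361 F44566) (tt N22347 (iv F44567)) (tt N21360 (iv D23082)))
theorem Q23046 : ∀ i, i < 23046 → P i := stepQ 23045 Q23045 (allL N23045 (tt N22720 F44568) (tt N22723 F44569) (tt N22859 (iv F44572)) (tt N21364 (iv D23083)) (tt N22821 F44570) (tt N22851 F44571))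
theorem Q23047 : ∀ i, i < 23047 → P i := stepQ 23046 Q23046 (allL N23046 (tt N21370 F44573) (tt N22198 F44574) (tt N21366 F44575) (tt N23483 (iv F45663)) (tt N21365 (iv D23084)) (tt N22534 F44576))
theorem Q23048 : ∀ i, i < 23048 → P i := stepQ 23047 Q23047 (allL N23047 (tt N21512 F44577) (tt N21369 F44578) (tt N22179 F44579) (tt N21368 (iv D23085)) (tt N24197 D24235) (tt N21377 F44580))
theorem Q23049 : ∀ i, i < 23049 → P i := stepQ 23048 Q23048 (allL N23048 (tt N21513 F44581) (tt N21370 F44582) (tt N21372 F44583) (tt N23495 (iv F45690)) (tt N21368 (iv D23086)) (tt N23961 (iv F46859)))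
theorem Q23050 : ∀ i, i < 23050 → P i := stepQ 23049 Q23049 (allL N23049 (tt N21386 F44584) (tt N24197 (iv F47494)) (tt N21385 F44585) (tt N23491 (iv F45681)) (tt N21369 (iv D23087)) (tt N24198 D24236))
theorem Q23051 : ∀ i, i < 23051 → P i := stepQ 23050 Q23050 (allL N23050 (tt N21417 F44586) (tt N21373 F44587) (tt N24199 D24237) (tt N21372 (iv D23088)) (tt N21380 F44588) (tt N24200 D24238))
theorem Q23052 : ∀ i, i < 23052 → P i := stepQ 23051 Q23051 (allL N23051 (tt N21514 F44589) (tt N21374 F44590) (tt N23961 (iv F46857)) (tt N24200 (iv F47504)) (tt N21379 F44591) (tt N21372 (iv D23089)))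
theorem Q23053 : ∀ i, i < 23053 → P i := stepQ 23052 Q23052 (allL N23052 (tt N21382 F44592) (tt N24200 (iv F47503)) (tt N21503 F44593) (tt N21374 F44594) (tt N21507 F44595) (tt N21373 (iv D23090)))
theorem Q23054 : ∀ i, i < 23054 → P i := stepQ 23053 Q23053 (allL N23053 (tt N21376 F44596) (tt N22182 F44597) (tt N23165 (iv F44895)) (tt N21375 (iv D23091)) (tt N22203 F44598) (tt N21389 F44599))
theorem Q23055 : ∀ i, i < 23055 → P i := stepQ 23054 Q23054 (allL N23054 (tt N22171 F44600) (tt N22174 F44601) (tt N21377 (iv D23092)) (tt N21405 F44602) (tt N24201 D24239) (tt N22179 F44603))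
theorem Q23056 : ∀ i, i < 23056 → P i := stepQ 23055 Q23055 (allL N23055 (tt N22187 F44604) (tt N22192 F44605) (tt N24201 (iv F47508)) (tt N24202 D24240) (tt N21377 (iv D23093)) (tt N24203 D24241))
theorem Q23057 : ∀ i, i < 23057 → P i := stepQ 23056 Q23056 (allL N23056 (tt N23713 (iv F46246)) (tt N23960 F46855) (tt N24204 D24242) (tt N21378 (iv D23094)) (tt N24202 (iv F47511)) (tt N23962 (iv F46861)))
theorem Q23058 : ∀ i, i < 23058 → P i := stepQ 23057 Q23057 (allL N23057 (tt N21416 F44606) (tt N21498 F44607) (tt N21380 (iv D23095)) (tt N21498 F44609) (tt N24199 (iv F47501)) (tt N21505 F44608))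
theorem Q23059 : ∀ i, i < 23059 → P i := stepQ 23058 Q23058 (allL N23058 (tt N21503 F44610) (tt N24205 D24243) (tt N21382 (iv D23096)) (tt N22859 F44611) (tt N21511 F44612) (tt N21383 F44613))
theorem Q23060 : ∀ i, i < 23060 → P i := stepQ 23059 Q23059 (allL N23059 (tt N24206 D24244) (tt N21383 (iv D23097)) (tt N21420 F44614) (tt N22857 F44615) (tt N21384 F44616) (tt N24205 (iv F47517)))
theorem Q23061 : ∀ i, i < 23061 → P i := stepQ 23060 Q23060 (allL N23060 (tt N21384 (iv D23098)) (tt N21497 F44617) (tt N21419 F44618) (tt N21496 F44619) (tt N24206 (iv F47521)) (tt N21508 F44620))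
theorem Q23062 : ∀ i, i < 23062 → P i := stepQ 23061 Q23061 (allL N23061 (tt N21387 F44621) (tt N22181 F44622) (tt N24198 (iv F47497)) (tt N21388 F44623) (tt N22204 F44624) (tt N21385 (iv D23099)))
theorem Q23063 : ∀ i, i < 23063 → P i := stepQ 23062 Q23062 (allL N23062 (tt N23491 (iv F45679)) (tt N22202 F44625) (tt N23234 (iv F45056)) (tt N21386 (iv D23100)) (tt N23483 (iv F45662)) (tt N24207 D24245))
theorem Q23064 : ∀ i, i < 23064 → P i := stepQ 23063 Q23063 (allL N23063 (tt N24198 (iv F47496)) (tt N22201 F44626) (tt N21387 F44627) (tt N24207 (iv F47523)) (tt N22195 F44628) (tt N21386 (iv D23101)))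
theorem Q23065 : ∀ i, i < 23065 → P i := stepQ 23064 Q23064 (allL N23064 (tt N21392 F44629) (tt N23071 (iv F44655)) (tt N22183 F44630) (tt N22290 F44631) (tt N21390 (iv D23102)) (tt N22289 (iv F44632)))
theorem Q23066 : ∀ i, i < 23066 → P i := stepQ 23065 Q23065 (allL N23065 (tt N22183 F44633) (tt N24152 (iv F47365)) (tt N21392 F44634) (tt N23638 (iv F46056)) (tt N21391 (iv D23103)) (tt N24208 D24246))
theorem Q23067 : ∀ i, i < 23067 → P i := stepQ 23066 Q23066 (allL N23066 (tt N22290 F44635) (tt N21395 F44636) (tt N22285 (iv F44638)) (tt N21392 (iv D23104)) (tt N21393 F44637) (tt N22284 (iv F44639)))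
theorem Q23068 : ∀ i, i < 23068 → P i := stepQ 23067 Q23067 (allL N23067 (tt N22289 F44640) (tt N21396 F44641) (tt N24208 (iv F47525)) (tt N22284 F44642) (tt N23706 (iv F46232)) (tt N21392 (iv D23105)))
theorem Q23069 : ∀ i, i < 23069 → P i := stepQ 23068 Q23068 (allL N23068 (tt N21488 F44643) (tt N22284 F44644) (tt N21495 F44645) (tt N21396 F44646) (tt N21494 F44647) (tt N21395 (iv D23106)))
theorem Q23070 : ∀ i, i < 23070 → P i := stepQ 23069 Q23069 (allL N23069 (tt N21411 F44648) (tt N23706 (iv F46230)) (tt N21407 F44649) (tt N23079 (iv F44680)) (tt N21396 (iv D23107)) (tt N21397 F44650))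
theorem Q23071 : ∀ i, i < 23071 → P i := stepQ 23070 Q23070 (allL N23070 (tt N21410 F44651) (tt N23705 (iv F46226)) (tt N22889 F44652) (tt N21397 (iv D23108)) (tt N21399 F44653) (tt N23079 (iv F44681)))
theorem Q23072 : ∀ i, i < 23072 → P i := stepQ 23071 Q23071 (allL N23071 (tt N21489 F44654) (tt N23064 F44655) (tt N22966 (iv F44658)) (tt N21398 (iv D23109)) (tt N21493 F44656) (tt N21399 F44657))
theorem Q23073 : ∀ i, i < 23073 → P i := stepQ 23072 Q23072 (allL N23072 (tt N22891 F44659) (tt N24209 D24247) (tt N21399 (iv D23110)) (tt N21526 F44660) (tt N22889 F44661) (tt N22966 F44662))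
theorem Q23074 : ∀ i, i < 23074 → P i := stepQ 23073 Q23073 (allL N23073 (tt N21402 F44663) (tt N23236 (iv F45061)) (tt N21400 (iv D23111)) (tt N23073 F44664) (tt N23584 (iv F45940)) (tt N24210 D24248))
theorem Q23075 : ∀ i, i < 23075 → P i := stepQ 23074 Q23074 (allL N23074 (tt N21403 F44665) (tt N22496 F44666) (tt N24210 (iv F47531)) (tt N21401 F44667) (tt N22776 (iv F44668)) (tt N21400 (iv D23112)))
theorem Q23076 : ∀ i, i < 23076 → P i := stepQ 23075 Q23075 (allL N23075 (tt N23569 (iv F45894)) (tt N21402 (iv D23113)) (tt N21404 F44669) (tt N23075 F44670) (tt N23588 (iv F45950)) (tt N21707 F44671))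
theorem Q23077 : ∀ i, i < 23077 → P i := stepQ 23076 Q23076 (allL N23076 (tt N24210 (iv F47530)) (tt N21707 F44672) (tt N21403 F44673) (tt N23076 F44674) (tt N22774 (iv F44675)) (tt N21402 (iv D23114)))
theorem Q23078 : ∀ i, i < 23078 → P i := stepQ 23077 Q23077 (allL N23077 (tt N24146 (iv F47346)) (tt N23704 (iv F46224)) (tt N21406 F44676) (tt N24211 D24249) (tt N21405 (iv D23115)) (tt N24212 D24250))
theorem Q23079 : ∀ i, i < 23079 → P i := stepQ 23078 Q23078 (allL N23078 (tt N24149 (iv F47353)) (tt N21407 F44677) (tt N24212 (iv F47534)) (tt N21449 F44678) (tt N24153 (iv F47370)) (tt N21406 (iv D23116)))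
theorem Q23080 : ∀ i, i < 23080 → P i := stepQ 23079 Q23079 (allL N23079 (tt N21409 F44679) (tt N23703 (iv F46221)) (tt N23116 (iv F44777)) (tt N23069 F44680) (tt N21408 (iv D23117)) (tt N23070 F44681))
theorem Q23081 : ∀ i, i < 23081 → P i := stepQ 23080 Q23080 (allL N23080 (tt N22889 F44682) (tt N22942 F44683) (tt N21410 (iv D23118)) (tt N21478 F44686) (tt N22891 F44684) (tt N21477 F44685))
theorem Q23082 : ∀ i, i < 23082 → P i := stepQ 23081 Q23081 (allL N23081 (tt N21413 F44687) (tt N24130 (iv F47303)) (tt N21412 (iv D23119)) (tt N21413 F44688) (tt N24213 D24251) (tt N24129 (iv F47301)))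
theorem Q23083 : ∀ i, i < 23083 → P i := stepQ 23082 Q23082 (allL N23082 (tt N21414 F44689) (tt N21600 F44690) (tt N24213 (iv F47536)) (tt N22050 F44691) (tt N21412 (iv D23120)) (tt N24090 (iv F47215)))
theorem Q23084 : ∀ i, i < 23084 → P i := stepQ 23083 Q23083 (allL N23083 (tt N24213 (iv F47535)) (tt N24131 (iv F47307)) (tt N21414 F44692) (tt N24096 (iv F47229)) (tt N21413 (iv D23121)) (tt N24214 D24252))
theorem Q23085 : ∀ i, i < 23085 → P i := stepQ 23084 Q23084 (allL N23084 (tt N24090 (iv F47212)) (tt N21415 F44693) (tt N24214 (iv F47537)) (tt N22053 F44694) (tt N22457 F44695) (tt N21414 (iv D23122)))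
theorem Q23086 : ∀ i, i < 23086 → P i := stepQ 23085 Q23085 (allL N23085 (tt N21498 F44696) (tt N24129 (iv F47298)) (tt N21497 F44697) (tt N21416 (iv D23123)) (tt N24215 D24253) (tt N24130 (iv F47305)))
theorem Q23087 : ∀ i, i < 23087 → P i := stepQ 23086 Q23086 (allL N23086 (tt N24199 (iv F47499)) (tt N23545 (iv F45825)) (tt N21417 F44698) (tt N24216 D24254) (tt N21416 (iv D23124)) (tt N24217 D24255))
theorem Q23088 : ∀ i, i < 23088 → P i := stepQ 23087 Q23087 (allL N23087 (tt N24200 (iv F47502)) (tt N21418 F44699) (tt N24217 (iv F47547)) (tt N21514 F44700) (tt N24132 (iv F47312)) (tt N21417 (iv D23125)))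
theorem Q23089 : ∀ i, i < 23089 → P i := stepQ 23088 Q23088 (allL N23088 (tt N21420 F44701) (tt N23544 (iv F45823)) (tt N24206 (iv F47519)) (tt N23543 (iv F45821)) (tt N21419 (iv D23126)) (tt N24218 D24256))
theorem Q23090 : ∀ i, i < 23090 → P i := stepQ 23089 Q23089 (allL N23089 (tt N23543 (iv F45819)) (tt N21421 F44702) (tt N22542 (iv F44704)) (tt N21420 (iv D23127)) (tt N21592 F44703) (tt N24040 (iv F47050)))
theorem Q23091 : ∀ i, i < 23091 → P i := stepQ 23090 Q23090 (allL N23090 (tt N24218 (iv F47548)) (tt N21422 F44705) (tt N24205 (iv F47514)) (tt N24040 (iv F47048)) (tt N21601 F44706) (tt N21420 (iv D23128)))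
theorem Q23092 : ∀ i, i < 23092 → P i := stepQ 23091 Q23091 (allL N23091 (tt N24002 (iv F46944)) (tt N24004 (iv F46949)) (tt N24219 D24257) (tt N21423 (iv D23129)) (tt N24001 (iv F46943)) (tt N24219 F47553))
theorem Q23093 : ∀ i, i < 23093 → P i := stepQ 23092 Q23092 (allL N23092 (tt N24128 (iv F47293)) (tt N24062 (iv F47119)) (tt N21424 F44707) (tt N24219 (iv F47552)) (tt N24220 D24258) (tt N21423 (iv D23130)))
theorem Q23094 : ∀ i, i < 23094 → P i := stepQ 23093 Q23093 (allL N23093 (tt N22357 F44708) (tt N21430 F44709) (tt N24220 (iv F47556)) (tt N21466 F44710) (tt N21424 (iv D23131)) (tt N21427 F44711))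
theorem Q23095 : ∀ i, i < 23095 → P i := stepQ 23094 Q23094 (allL N23094 (tt N22356 F44712) (tt N21451 F44713) (tt N21427 F44714) (tt N21906 F44715) (tt N21426 (iv D23132)) (tt N24220 (iv F47557)))
theorem Q23096 : ∀ i, i < 23096 → P i := stepQ 23095 Q23095 (allL N23095 (tt N21438 F44716) (tt N22943 (iv F44720)) (tt N21428 (iv D23133)) (tt N21433 F44717) (tt N21453 F44718) (tt N21432 F44719))
theorem Q23097 : ∀ i, i < 23097 → P i := stepQ 23096 Q23096 (allL N23096 (tt N21436 F44721) (tt N24059 (iv F47105)) (tt N24221 D24259) (tt N21435 (iv D23134)) (tt N24058 (iv F47102)) (tt N24222 D24260))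
theorem Q23098 : ∀ i, i < 23098 → P i := stepQ 23097 Q23097 (allL N23097 (tt N21437 F44722) (tt N24060 (iv F47109)) (tt N23418 (iv F45516)) (tt N24222 (iv F47562)) (tt N24223 D24261) (tt N21435 (iv D23135)))
theorem Q23099 : ∀ i, i < 23099 → P i := stepQ 23098 Q23098 (allL N23098 (tt N24221 (iv F47559)) (tt N24224 D24262) (tt N21436 (iv D23136)) (tt N24225 D24263) (tt N24226 D24264) (tt N24227 D24265))
theorem Q23100 : ∀ i, i < 23100 → P i := stepQ 23099 Q23099 (allL N23099 (tt N24058 (iv F47100)) (tt N21439 F44723) (tt N24226 (iv F47572)) (tt N21443 F44724) (tt N21436 (iv D23137)) (tt N21525 (iv F44725)))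
theorem Q23101 : ∀ i, i < 23101 → P i := stepQ 23100 Q23100 (allL N23100 (tt N24222 (iv F47560)) (tt N21440 F44726) (tt N24227 (iv F47575)) (tt N21437 F44727) (tt N22883 F44728) (tt N21436 (iv D23138)))
theorem Q23102 : ∀ i, i < 23102 → P i := stepQ 23101 Q23101 (allL N23101 (tt N24223 (iv F47564)) (tt N21441 F44729) (tt N22360 F44730) (tt N21524 F44731) (tt N21437 (iv D23139)) (tt N21444 F44732))
theorem Q23103 : ∀ i, i < 23103 → P i := stepQ 23102 Q23102 (allL N23102 (tt N22295 F44733) (tt N21438 (iv D23140)) (tt N24224 (iv F47569)) (tt N21472 F44734) (tt N24228 D24266) (tt N21474 F44735))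
theorem Q23104 : ∀ i, i < 23104 → P i := stepQ 23103 Q23103 (allL N23103 (tt N21453 F44736) (tt N24228 (iv F47580)) (tt N21439 F44737) (tt N22966 F44738) (tt N21438 (iv D23141)) (tt N21526 F44739))
theorem Q23105 : ∀ i, i < 23105 → P i := stepQ 23104 Q23104 (allL N23104 (tt N21444 F44740) (tt N21450 F44741) (tt N22358 F44742) (tt N21520 F44743) (tt N21442 (iv D23142)) (tt N24223 (iv F47568)))
theorem Q23106 : ∀ i, i < 23106 → P i := stepQ 23105 Q23105 (allL N23105 (tt N21447 F44744) (tt N21508 F44745) (tt N24130 (iv F47304)) (tt N21445 (iv D23143)) (tt N24229 D24267) (tt N21497 F44746))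
theorem Q23107 : ∀ i, i < 23107 → P i := stepQ 23106 Q23106 (allL N23106 (tt N21448 F44747) (tt N21581 F44748) (tt N21446 F44749) (tt N24230 D24268) (tt N21445 (iv D23144)) (tt N24190 (iv F47480)))
theorem Q23108 : ∀ i, i < 23108 → P i := stepQ 23107 Q23107 (allL N23107 (tt N24130 (iv F47302)) (tt N21505 F44750) (tt N21447 (iv D23145)) (tt N21505 F44751) (tt N24231 D24269) (tt N21498 F44752))
theorem Q23109 : ∀ i, i < 23109 → P i := stepQ 23108 Q23108 (allL N23108 (tt N24229 (iv F47583)) (tt N21481 F44753) (tt N24231 (iv F47588)) (tt N24232 D24270) (tt N21447 (iv D23146)) (tt N24233 D24271))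
theorem Q23110 : ∀ i, i < 23110 → P i := stepQ 23109 Q23109 (allL N23109 (tt N24230 (iv F47585)) (tt N21482 F44754) (tt N24234 D24272) (tt N21448 (iv D23147)) (tt N24232 (iv F47590)) (tt N24235 D24273))
theorem Q23111 : ∀ i, i < 23111 → P i := stepQ 23110 Q23110 (allL N23110 (tt N24190 (iv F47477)) (tt N21483 F44755) (tt N21449 F44756) (tt N24235 (iv F47594)) (tt N21501 F44757) (tt N21448 (iv D23148)))
theorem Q23112 : ∀ i, i < 23112 → P i := stepQ 23111 Q23111 (allL N23111 (tt N21452 F44758) (tt N24223 (iv F47565)) (tt N21898 F44759) (tt N21891 F44760) (tt N24060 (iv F47112)) (tt N21450 (iv D23149)))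
theorem Q23113 : ∀ i, i < 23113 → P i := stepQ 23112 Q23112 (allL N23112 (tt N21898 F44761) (tt N24220 (iv F47555)) (tt N21452 F44762) (tt N21896 F44763) (tt N24062 (iv F47121)) (tt N21451 (iv D23150)))
theorem Q23114 : ∀ i, i < 23114 → P i := stepQ 23113 Q23113 (allL N23113 (tt N21455 F44764) (tt N21579 F44765) (tt N21457 F44766) (tt N24160 (iv F47387)) (tt N21454 (iv D23151)) (tt N22398 F44767))
theorem Q23115 : ∀ i, i < 23115 → P i := stepQ 23114 Q23114 (allL N23114 (tt N21550 F44768) (tt N24236 D24274) (tt N21458 (iv D23152)) (tt N24237 D24275) (tt N21461 F44769) (tt N22344 F44770))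
theorem Q23116 : ∀ i, i < 23116 → P i := stepQ 23115 Q23115 (allL N23115 (tt N22945 F44771) (tt N21460 (iv D23153)) (tt N24236 (iv F47597)) (tt N22948 (iv F44774)) (tt N21462 F44772) (tt N22888 F44773))
theorem Q23117 : ∀ i, i < 23117 → P i := stepQ 23116 Q23116 (allL N23116 (tt N21477 F44775) (tt N22948 F44776) (tt N23079 F44777) (tt N21460 (iv D23154)) (tt N21475 F44778) (tt N22889 F44779))
theorem Q23118 : ∀ i, i < 23118 → P i := stepQ 23117 Q23117 (allL N23117 (tt N22944 F44780) (tt N21461 (iv D23155)) (tt N21462 F44781) (tt N24158 (iv F47381)) (tt N24236 (iv F47598)) (tt N21476 F44782))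
theorem Q23119 : ∀ i, i < 23119 → P i := stepQ 23118 Q23118 (allL N23118 (tt N24032 (iv F47016)) (tt N21464 F44783) (tt N24238 D24276) (tt N21463 (iv D23156)) (tt N21464 F44784) (tt N24239 D24277))
theorem Q23120 : ∀ i, i < 23120 → P i := stepQ 23119 Q23119 (allL N23119 (tt N24033 (iv F47019)) (tt N21465 F44785) (tt N21468 F44786) (tt N24239 (iv F47604)) (tt N24180 (iv F47449)) (tt N21463 (iv D23157)))
theorem Q23121 : ∀ i, i < 23121 → P i := stepQ 23120 Q23120 (allL N23120 (tt N24035 F47031) (tt N24239 (iv F47603)) (tt N21464 (iv D23158)) (tt N21465 F44787) (tt N24238 (iv F47602)) (tt N21464 (iv F44788)))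
theorem Q23122 : ∀ i, i < 23122 → P i := stepQ 23121 Q23121 (allL N23121 (tt N22368 F44789) (tt N24180 (iv F47447)) (tt N21466 F44790) (tt N24240 D24278) (tt N21465 (iv D23159)) (tt N22365 F44791))
theorem Q23123 : ∀ i, i < 23123 → P i := stepQ 23122 Q23122 (allL N23122 (tt N23912 (iv F46745)) (tt N21952 F44792) (tt N21467 (iv D23160)) (tt N22494 (iv F44794)) (tt N24176 (iv F47434)) (tt N21947 F44793))
theorem Q23124 : ∀ i, i < 23124 → P i := stepQ 23123 Q23123 (allL N23123 (tt N21474 F44795) (tt N22947 F44796) (tt N24241 D24279) (tt N21473 (iv D23161)) (tt N22885 F44797) (tt N22295 F44798))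
theorem Q23125 : ∀ i, i < 23125 → P i := stepQ 23124 Q23124 (allL N23124 (tt N24241 (iv F47608)) (tt N24227 (iv F47574)) (tt N21474 (iv D23162)) (tt N23625 (iv F46037)) (tt N22887 F44799) (tt N24224 F47571))
theorem Q23126 : ∀ i, i < 23126 → P i := stepQ 23125 Q23125 (allL N23125 (tt N23017 F44800) (tt N21531 F44801) (tt N22957 F44802) (tt N21476 (iv D23163)) (tt N24242 D24280) (tt N24158 (iv F47382)))
theorem Q23127 : ∀ i, i < 23127 → P i := stepQ 23126 Q23126 (allL N23126 (tt N21581 F44803) (tt N21480 F44804) (tt N21579 F44805) (tt N24243 D24281) (tt N21479 (iv D23164)) (tt N22858 F44806))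
theorem Q23128 : ∀ i, i < 23128 → P i := stepQ 23127 Q23127 (allL N23127 (tt N21482 F44807) (tt N24243 (iv F47617)) (tt N24244 D24282) (tt N21480 (iv D23165)) (tt N21510 F44808) (tt N22860 F44809))
theorem Q23129 : ∀ i, i < 23129 → P i := stepQ 23128 Q23128 (allL N23128 (tt N21510 F44810) (tt N24232 (iv F47589)) (tt N24245 D24283) (tt N21481 (iv D23166)) (tt N21482 F44811) (tt N24246 D24284))
theorem Q23130 : ∀ i, i < 23130 → P i := stepQ 23129 Q23129 (allL N23129 (tt N21511 F44812) (tt N24233 (iv F47591)) (tt N21507 F44813) (tt N24246 (iv F47630)) (tt N21503 F44814) (tt N21481 (iv D23167)))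
theorem Q23131 : ∀ i, i < 23131 → P i := stepQ 23130 Q23130 (allL N23130 (tt N24244 (iv F47620)) (tt N24247 D24285) (tt N21482 (iv D23168)) (tt N24139 (iv F47330)) (tt N24245 (iv F47626)) (tt N24138 F47327))
theorem Q23132 : ∀ i, i < 23132 → P i := stepQ 23131 Q23131 (allL N23131 (tt N22860 F44815) (tt N24235 (iv F47593)) (tt N24138 (iv F47326)) (tt N21483 F44816) (tt N22865 (iv F44817)) (tt N21482 (iv D23169)))
theorem Q23133 : ∀ i, i < 23133 → P i := stepQ 23132 Q23132 (allL N23132 (tt N21487 F44818) (tt N21580 F44819) (tt N21566 F44820) (tt N22399 F44821) (tt N21485 (iv D23170)) (tt N24162 (iv F47397)))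
theorem Q23134 : ∀ i, i < 23134 → P i := stepQ 23133 Q23133 (allL N23133 (tt N21566 F44822) (tt N21564 F44823) (tt N21487 F44824) (tt N24248 D24286) (tt N21486 (iv D23171)) (tt N22473 F44825))
theorem Q23135 : ∀ i, i < 23135 → P i := stepQ 23134 Q23134 (allL N23134 (tt N21499 F44826) (tt N24206 (iv F47518)) (tt N24215 (iv F47541)) (tt N24189 (iv F47476)) (tt N21497 (iv D23172)) (tt N24249 D24287))
theorem Q23136 : ∀ i, i < 23136 → P i := stepQ 23135 Q23135 (allL N23135 (tt N24215 (iv F47539)) (tt N24199 (iv F47500)) (tt N21499 F44827) (tt N24250 D24288) (tt N21498 (iv D23173)) (tt N24251 D24289))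
theorem Q23137 : ∀ i, i < 23137 → P i := stepQ 23136 Q23136 (allL N23136 (tt N24189 (iv F47473)) (tt N21502 F44828) (tt N22735 (iv F44830)) (tt N21499 (iv D23174)) (tt N21500 F44829) (tt N24252 D24290))
theorem Q23138 : ∀ i, i < 23138 → P i := stepQ 23137 Q23137 (allL N23137 (tt N24249 (iv F47637)) (tt N21503 F44831) (tt N24251 (iv F47640)) (tt N24252 (iv F47643)) (tt N24233 (iv F47592)) (tt N21499 (iv D23175)))
theorem Q23139 : ∀ i, i < 23139 → P i := stepQ 23138 Q23138 (allL N23138 (tt N24188 (iv F47470)) (tt N22539 F44832) (tt N21500 (iv D23176)) (tt N23536 (iv F45800)) (tt N22735 F44833) (tt N22861 F44834))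
theorem Q23140 : ∀ i, i < 23140 → P i := stepQ 23139 Q23139 (allL N23139 (tt N22859 F44835) (tt N24252 (iv F47641)) (tt N22720 F44836) (tt N21503 F44837) (tt N22866 F44838) (tt N21502 (iv D23177)))
theorem Q23141 : ∀ i, i < 23141 → P i := stepQ 23140 Q23140 (allL N23140 (tt N24131 (iv F47306)) (tt N24231 (iv F47587)) (tt N21506 F44839) (tt N24253 D24291) (tt N21505 (iv D23178)) (tt N24254 D24292))
theorem Q23142 : ∀ i, i < 23142 → P i := stepQ 23141 Q23141 (allL N23141 (tt N24132 (iv F47309)) (tt N21507 F44840) (tt N24254 (iv F47645)) (tt N21554 F44841) (tt N24200 (iv F47505)) (tt N21506 (iv D23179)))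
theorem Q23143 : ∀ i, i < 23143 → P i := stepQ 23142 Q23142 (allL N23142 (tt N21509 F44842) (tt N24229 (iv F47584)) (tt N21600 F44843) (tt N24255 D24293) (tt N21508 (iv D23180)) (tt N24256 D24294))
theorem Q23144 : ∀ i, i < 23144 → P i := stepQ 23143 Q23143 (allL N23143 (tt N24255 (iv F47646)) (tt N21510 F44844) (tt N24257 D24295) (tt N21509 (iv D23181)) (tt N24243 (iv F47618)) (tt N24258 D24296))
theorem Q23145 : ∀ i, i < 23145 → P i := stepQ 23144 Q23144 (allL N23144 (tt N24256 (iv F47648)) (tt N21511 F44845) (tt N21601 F44846) (tt N24258 (iv F47651)) (tt N24205 (iv F47516)) (tt N21509 (iv D23182)))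
theorem Q23146 : ∀ i, i < 23146 → P i := stepQ 23145 Q23145 (allL N23145 (tt N24245 (iv F47624)) (tt N24259 D24297) (tt N21510 (iv D23183)) (tt N22840 F44847) (tt N24244 (iv F47622)) (tt N22839 (iv F44848)))
theorem Q23147 : ∀ i, i < 23147 → P i := stepQ 23146 Q23146 (allL N23146 (tt N24246 (iv F47628)) (tt N24258 (iv F47650)) (tt N22839 F44849) (tt N21511 F44850) (tt N24260 D24298) (tt N21510 (iv D23184)))
theorem Q23148 : ∀ i, i < 23148 → P i := stepQ 23147 Q23147 (allL N23147 (tt N24197 (iv F47493)) (tt N22190 F44851) (tt N24154 (iv F47373)) (tt N24261 D24299) (tt N21512 (iv D23185)) (tt N24262 D24300))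
theorem Q23149 : ∀ i, i < 23149 → P i := stepQ 23148 Q23148 (allL N23148 (tt N23495 F45691) (tt N22528 F44852) (tt N24263 D24301) (tt N21513 (iv D23186)) (tt N24261 (iv F47659)) (tt N24264 D24302))
theorem Q23150 : ∀ i, i < 23150 → P i := stepQ 23149 Q23149 (allL N23149 (tt N23961 (iv F46856)) (tt N22533 F44853) (tt N21514 F44854) (tt N24264 (iv F47665)) (tt N23714 (iv F46252)) (tt N21513 (iv D23187)))
theorem Q23151 : ∀ i, i < 23151 → P i := stepQ 23150 Q23150 (allL N23150 (tt N21517 F44855) (tt N22442 F44856) (tt N21521 F44857) (tt N24265 D24303) (tt N21515 (iv D23188)) (tt N22440 F44858))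
theorem Q23152 : ∀ i, i < 23152 → P i := stepQ 23151 Q23151 (allL N23151 (tt N24265 (iv F47666)) (tt N21518 F44859) (tt N24266 D24304) (tt N21517 (iv D23189)) (tt N23305 (iv F45223)) (tt N23462 (iv F45615)))
theorem Q23153 : ∀ i, i < 23153 → P i := stepQ 23152 Q23152 (allL N23152 (tt N21522 F44860) (tt N22675 F44861) (tt N23262 (iv F45126)) (tt N21519 (iv D23190)) (tt N23654 (iv F46089)) (tt N22221 F44862))
theorem Q23154 : ∀ i, i < 23154 → P i := stepQ 23153 Q23153 (allL N23153 (tt N21523 F44863) (tt N22447 F44864) (tt N21520 F44865) (tt N24267 D24305) (tt N21519 (iv D23191)) (tt N24268 D24306))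
theorem Q23155 : ∀ i, i < 23155 → P i := stepQ 23154 Q23154 (allL N23154 (tt N21524 F44866) (tt N21891 F44867) (tt N24268 (iv F47677)) (tt N24223 (iv F47567)) (tt N22683 F44868) (tt N21520 (iv D23192)))
theorem Q23156 : ∀ i, i < 23156 → P i := stepQ 23155 Q23155 (allL N23155 (tt N21525 F44869) (tt N22890 F44870) (tt N24269 D24307) (tt N21521 (iv D23193)) (tt N22881 F44871) (tt N24058 (iv F47103)))
theorem Q23157 : ∀ i, i < 23157 → P i := stepQ 23156 Q23156 (allL N23156 (tt N24267 (iv F47672)) (tt N22880 F44872) (tt N24270 D24308) (tt N21523 (iv D23194)) (tt N23655 (iv F46092)) (tt N24271 D24309))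
theorem Q23158 : ∀ i, i < 23158 → P i := stepQ 23157 Q23157 (allL N23157 (tt N24268 (iv F47675)) (tt N21871 F44873) (tt N21524 F44874) (tt N24271 (iv F47684)) (tt N21869 F44875) (tt N21523 (iv D23195)))
theorem Q23159 : ∀ i, i < 23159 → P i := stepQ 23158 Q23158 (allL N23158 (tt N24269 (iv F47680)) (tt N24272 D24310) (tt N21525 (iv D23196)) (tt N24273 D24311) (tt N22882 F44876) (tt N24226 F47573))
theorem Q23160 : ∀ i, i < 23160 → P i := stepQ 23159 Q23159 (allL N23159 (tt N23782 (iv F46403)) (tt N21526 (iv D23197)) (tt N24272 (iv F47686)) (tt N24209 (iv F47527)) (tt N22884 F44877) (tt N24228 (iv F47582)))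
theorem Q23161 : ∀ i, i < 23161 → P i := stepQ 23160 Q23160 (allL N23160 (tt N22118 F44878) (tt N21529 F44879) (tt N24274 D24312) (tt N21528 (iv D23198)) (tt N24275 D24313) (tt N21644 F44880))
theorem Q23162 : ∀ i, i < 23162 → P i := stepQ 23161 Q23161 (allL N23161 (tt N21530 F44881) (tt N24275 (iv F47693)) (tt N23286 (iv F45183)) (tt N22143 F44882) (tt N21529 (iv D23199)) (tt N23302 (iv F45217)))
theorem Q23163 : ∀ i, i < 23163 → P i := stepQ 23162 Q23162 (allL N23162 (tt N21548 F44883) (tt N24242 (iv F47612)) (tt N24161 (iv F47391)) (tt N22343 F44884) (tt N21531 (iv D23200)) (tt N24177 (iv F47438)))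
theorem Q23164 : ∀ i, i < 23164 → P i := stepQ 23163 Q23163 (allL N23163 (tt N21532 (iv D23201)) (tt N22306 F44885) (tt N21535 F44886) (tt N22412 F44887) (tt N22302 F44888) (tt N22422 F44889))
theorem Q23165 : ∀ i, i < 23165 → P i := stepQ 23164 Q23164 (allL N23164 (tt N22308 F44890) (tt N24181 (iv F47451)) (tt N21534 F44891) (tt N24069 (iv F47146)) (tt N21533 (iv D23202)) (tt N22305 F44892))
theorem Q23166 : ∀ i, i < 23166 → P i := stepQ 23165 Q23165 (allL N23165 (tt N21645 F44893) (tt N22113 F44894) (tt N23053 F44895) (tt N21542 (iv D23203)) (tt N23302 (iv F45216)) (tt N21544 F44896))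
theorem Q23167 : ∀ i, i < 23167 → P i := stepQ 23166 Q23166 (allL N23166 (tt N22111 F44897) (tt N22186 F44898) (tt N21545 (iv D23204)) (tt N24276 D24314) (tt N22477 F44899) (tt N23588 (iv F45951)))
theorem Q23168 : ∀ i, i < 23168 → P i := stepQ 23167 Q23167 (allL N23167 (tt N24159 (iv F47383)) (tt N24140 (iv F47333)) (tt N21569 F44900) (tt N24277 D24315) (tt N21549 (iv D23205)) (tt N24178 (iv F47442)))
theorem Q23169 : ∀ i, i < 23169 → P i := stepQ 23168 Q23168 (allL N23168 (tt N24237 (iv F47600)) (tt N24141 (iv F47335)) (tt N24277 (iv F47702)) (tt N21550 (iv D23206)) (tt N24277 (iv F47700)) (tt N22654 F44901))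
theorem Q23170 : ∀ i, i < 23170 → P i := stepQ 23169 Q23169 (allL N23169 (tt N24166 (iv F47407)) (tt N22841 F44902) (tt N24163 (iv F47401)) (tt N24278 D24316) (tt N21552 (iv D23207)) (tt N24279 D24317))
theorem Q23171 : ∀ i, i < 23171 → P i := stepQ 23170 Q23170 (allL N23170 (tt N24191 (iv F47481)) (tt N22843 F44903) (tt N24280 D24318) (tt N21553 (iv D23208)) (tt N24278 (iv F47704)) (tt N24281 D24319))
theorem Q23172 : ∀ i, i < 23172 → P i := stepQ 23171 Q23171 (allL N23171 (tt N24192 (iv F47482)) (tt N22844 F44904) (tt N21554 F44905) (tt N24281 (iv F47708)) (tt N22872 F44906) (tt N21553 (iv D23209)))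
theorem Q23173 : ∀ i, i < 23173 → P i := stepQ 23172 Q23172 (allL N23172 (tt N24139 (iv F47328)) (tt N23187 (iv F44940)) (tt N21556 (iv D23210)) (tt N24244 (iv F47621)) (tt N23006 F44907) (tt N21558 F44908))
theorem Q23174 : ∀ i, i < 23174 → P i := stepQ 23173 Q23173 (allL N23173 (tt N24282 D24320) (tt N21558 (iv D23211)) (tt N23188 (iv F44944)) (tt N24283 D24321) (tt N22938 F44909) (tt N23187 (iv F44942)))
theorem Q23175 : ∀ i, i < 23175 → P i := stepQ 23174 Q23174 (allL N23174 (tt N24138 (iv F47324)) (tt N24283 (iv F47711)) (tt N22860 F44910) (tt N21558 (iv D23212)) (tt N23218 (iv F45010)) (tt N24244 (iv F47623)))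
theorem Q23176 : ∀ i, i < 23176 → P i := stepQ 23175 Q23175 (allL N23175 (tt N21560 F44911) (tt N22833 F44912) (tt N23549 (iv F45840)) (tt N21559 (iv D23213)) (tt N22815 F44913) (tt N23547 (iv F45834)))
theorem Q23177 : ∀ i, i < 23177 → P i := stepQ 23176 Q23176 (allL N23176 (tt N21561 F44914) (tt N22842 F44915) (tt N24194 (iv F47487)) (tt N23547 (iv F45833)) (tt N22046 F44916) (tt N21559 (iv D23214)))
theorem Q23178 : ∀ i, i < 23178 → P i := stepQ 23177 Q23177 (allL N23177 (tt N23549 (iv F45838)) (tt N24284 D24322) (tt N21560 (iv D23215)) (tt N24285 D24323) (tt N22642 F44917) (tt N23548 (iv F45837)))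
theorem Q23179 : ∀ i, i < 23179 → P i := stepQ 23178 Q23178 (allL N23178 (tt N24286 D24324) (tt N21562 (iv D23216)) (tt N24284 (iv F47713)) (tt N24287 D24325) (tt N22816 F44918) (tt N24288 D24326))
theorem Q23180 : ∀ i, i < 23180 → P i := stepQ 23179 Q23179 (allL N23179 (tt N22839 F44919) (tt N24287 (iv F47720)) (tt N24246 (iv F47629)) (tt N21562 (iv D23217)) (tt N22829 F44920) (tt N24245 F47627))
theorem Q23181 : ∀ i, i < 23181 → P i := stepQ 23180 Q23180 (allL N23180 (tt N22840 F44921) (tt N24288 (iv F47722)) (tt N21563 F44922) (tt N24245 (iv F47625)) (tt N22832 F44923) (tt N21562 (iv D23218)))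
theorem Q23182 : ∀ i, i < 23182 → P i := stepQ 23181 Q23181 (allL N23181 (tt N21567 F44924) (tt N24248 (iv F47633)) (tt N24248 (iv F47634)) (tt N21564 (iv D23219)) (tt N24248 (iv F47635)) (tt N22474 F44925))
theorem Q23183 : ∀ i, i < 23183 → P i := stepQ 23182 Q23182 (allL N23182 (tt N22473 F44926) (tt N21602 F44927) (tt N24162 (iv F47398)) (tt N22894 (iv F44929)) (tt N21565 (iv D23220)) (tt N21566 F44928))
theorem Q23184 : ∀ i, i < 23184 → P i := stepQ 23183 Q23183 (allL N23183 (tt N24248 (iv F47632)) (tt N21605 F44930) (tt N21567 F44933) (tt N21566 (iv D23221)) (tt N21567 F44931) (tt N22894 F44932))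
theorem Q23185 : ∀ i, i < 23185 → P i := stepQ 23184 Q23184 (allL N23184 (tt N21574 F44934) (tt N24289 D24327) (tt N21572 (iv D23222)) (tt N21594 F44935) (tt N24290 D24328) (tt N24172 F47424))
theorem Q23186 : ∀ i, i < 23186 → P i := stepQ 23185 Q23185 (allL N23185 (tt N21575 F44936) (tt N24160 (iv F47386)) (tt N24290 (iv F47729)) (tt N21579 F44937) (tt N21572 (iv D23223)) (tt N24157 (iv F47378)))
theorem Q23187 : ∀ i, i < 23187 → P i := stepQ 23186 Q23186 (allL N23186 (tt N21594 F44938) (tt N23812 (iv F46474)) (tt N21593 F44939) (tt N21574 (iv D23224)) (tt N24093 (iv F47223)) (tt N23813 (iv F46482)))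
theorem Q23188 : ∀ i, i < 23188 → P i := stepQ 23187 Q23187 (allL N23187 (tt N24290 (iv F47728)) (tt N23172 F44940) (tt N21575 F44941) (tt N24291 D24329) (tt N21574 (iv D23225)) (tt N23173 F44942))
theorem Q23189 : ∀ i, i < 23189 → P i := stepQ 23188 Q23188 (allL N23188 (tt N24157 (iv F47375)) (tt N21577 F44943) (tt N23173 F44944) (tt N21582 F44945) (tt N24127 (iv F47291)) (tt N21575 (iv D23226)))
theorem Q23190 : ∀ i, i < 23190 → P i := stepQ 23189 Q23189 (allL N23189 (tt N21582 F44946) (tt N22398 F44947) (tt N22858 F44948) (tt N24157 (iv F47377)) (tt N22396 F44949) (tt N21579 (iv D23227)))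
theorem Q23191 : ∀ i, i < 23191 → P i := stepQ 23190 Q23190 (allL N23190 (tt N24243 (iv F47616)) (tt N24230 (iv F47586)) (tt N24292 D24330) (tt N21581 (iv D23228)) (tt N24255 (iv F47647)) (tt N24293 D24331))
theorem Q23192 : ∀ i, i < 23192 → P i := stepQ 23191 Q23191 (allL N23191 (tt N22858 F44950) (tt N24190 (iv F47478)) (tt N21582 F44951) (tt N24293 (iv F47735)) (tt N22855 F44952) (tt N21581 (iv D23229)))
theorem Q23193 : ∀ i, i < 23193 → P i := stepQ 23192 Q23192 (allL N23192 (tt N23813 (iv F46478)) (tt N21793 F44953) (tt N21588 (iv D23230)) (tt N24172 (iv F47423)) (tt N23814 (iv F46486)) (tt N21594 F44954))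
theorem Q23194 : ∀ i, i < 23194 → P i := stepQ 23193 Q23193 (allL N23193 (tt N23523 (iv F45764)) (tt N21646 F44955) (tt N21592 (iv D23231)) (tt N23523 (iv F45766)) (tt N22542 F44956) (tt N23524 (iv F45771)))
theorem Q23195 : ∀ i, i < 23195 → P i := stepQ 23194 Q23194 (allL N23194 (tt N21595 F44957) (tt N22050 F44958) (tt N24093 (iv F47222)) (tt N21600 F44959) (tt N21593 (iv D23232)) (tt N24089 (iv F47210)))
theorem Q23196 : ∀ i, i < 23196 → P i := stepQ 23195 Q23195 (allL N23195 (tt N24087 (iv F47198)) (tt N21594 (iv D23233)) (tt N21596 F44960) (tt N24289 (iv F47726)) (tt N24294 D24332) (tt N21793 F44961))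
theorem Q23197 : ∀ i, i < 23197 → P i := stepQ 23196 Q23196 (allL N23196 (tt N24093 (iv F47220)) (tt N24294 (iv F47737)) (tt N21595 F44962) (tt N24295 D24333) (tt N21594 (iv D23234)) (tt N24091 (iv F47218)))
theorem Q23198 : ∀ i, i < 23198 → P i := stepQ 23197 Q23197 (allL N23197 (tt N24089 (iv F47207)) (tt N21598 F44963) (tt N24091 (iv F47217)) (tt N21601 F44964) (tt N24088 F47206) (tt N21595 (iv D23235)))
theorem Q23199 : ∀ i, i < 23199 → P i := stepQ 23198 Q23198 (allL N23198 (tt N21596 (iv D23236)) (tt N22054 F44965) (tt N24087 (iv F47200)) (tt N21792 F44966) (tt N24296 D24334) (tt N21791 F44967))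
theorem Q23200 : ∀ i, i < 23200 → P i := stepQ 23199 Q23199 (allL N23199 (tt N24296 (iv F47741)) (tt N21597 F44968) (tt N24294 (iv F47738)) (tt N24297 D24335) (tt N21596 (iv D23237)) (tt N24298 D24336))
theorem Q23201 : ∀ i, i < 23201 → P i := stepQ 23200 Q23200 (allL N23200 (tt N22056 F44969) (tt N24297 (iv F47745)) (tt N23529 (iv F45785)) (tt N21597 (iv D23238)) (tt N21796 F44970) (tt N24045 (iv F47065)))
theorem Q23202 : ∀ i, i < 23202 → P i := stepQ 23201 Q23201 (allL N23201 (tt N22057 F44971) (tt N24298 (iv F47748)) (tt N21598 F44972) (tt N24045 (iv F47064)) (tt N21795 F44973) (tt N21597 (iv D23239)))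
theorem Q23203 : ∀ i, i < 23203 → P i := stepQ 23202 Q23202 (allL N23202 (tt N21873 F44974) (tt N24088 (iv F47202)) (tt N21795 F44975) (tt N21872 F44976) (tt N21598 (iv D23240)) (tt N21599 F44977))
theorem Q23204 : ∀ i, i < 23204 → P i := stepQ 23203 Q23203 (allL N23203 (tt N21601 F44978) (tt N24090 (iv F47213)) (tt N24256 (iv F47649)) (tt N24089 F47211) (tt N24218 (iv F47551)) (tt N21600 (iv D23241)))
theorem Q23205 : ∀ i, i < 23205 → P i := stepQ 23204 Q23204 (allL N23204 (tt N21604 F44979) (tt N22894 F44980) (tt N24299 D24337) (tt N21602 (iv D23242)) (tt N22214 F44981) (tt N21605 F44982))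
theorem Q23206 : ∀ i, i < 23206 → P i := stepQ 23205 Q23205 (allL N23205 (tt N22214 F44983) (tt N22216 F44984) (tt N24300 D24338) (tt N21603 (iv D23243)) (tt N21604 F44985) (tt N22214 F44986))
theorem Q23207 : ∀ i, i < 23207 → P i := stepQ 23206 Q23206 (allL N23206 (tt N24299 (iv F47751)) (tt N24299 (iv F47752)) (tt N21604 (iv D23244)) (tt N24299 (iv F47753)) (tt N24300 (iv F47758)) (tt N21606 F44987))
theorem Q23208 : ∀ i, i < 23208 → P i := stepQ 23207 Q23207 (allL N23207 (tt N21606 F44988) (tt N21606 F44989) (tt N21605 (iv D23245)) (tt N21606 F44991) (tt N21606 F44990) (tt N24299 (iv F47755)))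
theorem Q23209 : ∀ i, i < 23209 → P i := stepQ 23208 Q23208 (allL N23208 (tt N21611 F44992) (tt N21633 F44993) (tt N22449 F44994) (tt N24301 D24339) (tt N21607 (iv D23246)) (tt N23695 (iv F46207)))
theorem Q23210 : ∀ i, i < 23210 → P i := stepQ 23209 Q23209 (allL N23209 (tt N21612 F44995) (tt N24018 (iv F46979)) (tt N24302 D24340) (tt N21608 (iv D23247)) (tt N24301 (iv F47763)) (tt N24303 D24341))
theorem Q23211 : ∀ i, i < 23211 → P i := stepQ 23210 Q23210 (allL N23210 (tt N21613 F44996) (tt N24019 (iv F46982)) (tt N21609 F44997) (tt N24303 (iv F47766)) (tt N21622 F44998) (tt N21608 (iv D23248)))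
theorem Q23212 : ∀ i, i < 23212 → P i := stepQ 23211 Q23211 (allL N23211 (tt N22449 F44999) (tt N21632 F45000) (tt N21611 F45001) (tt N24304 D24342) (tt N21610 (iv D23249)) (tt N22658 F45002))
theorem Q23213 : ∀ i, i < 23213 → P i := stepQ 23212 Q23212 (allL N23212 (tt N24301 (iv F47761)) (tt N21626 F45003) (tt N24305 D24343) (tt N21611 (iv D23250)) (tt N21612 F45004) (tt N24306 D24344))
theorem Q23214 : ∀ i, i < 23214 → P i := stepQ 23213 Q23213 (allL N23213 (tt N23695 (iv F46205)) (tt N21625 F45005) (tt N22658 F45006) (tt N24306 (iv F47775)) (tt N21623 F45007) (tt N21611 (iv D23251)))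
theorem Q23215 : ∀ i, i < 23215 → P i := stepQ 23214 Q23214 (allL N23214 (tt N24302 (iv F47764)) (tt N24307 D24345) (tt N21612 (iv D23252)) (tt N24308 D24346) (tt N24305 (iv F47773)) (tt N24309 D24347))
theorem Q23216 : ∀ i, i < 23216 → P i := stepQ 23215 Q23215 (allL N23215 (tt N24303 (iv F47765)) (tt N21627 F45008) (tt N24309 (iv F47779)) (tt N21613 F45009) (tt N24037 (iv F47038)) (tt N21612 (iv D23253)))
theorem Q23217 : ∀ i, i < 23217 → P i := stepQ 23216 Q23216 (allL N23216 (tt N24310 D24348) (tt N21614 (iv D23254)) (tt N24110 (iv F47250)) (tt N24311 D24349) (tt N24014 (iv F46966)) (tt N24107 (iv F47246)))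
theorem Q23218 : ∀ i, i < 23218 → P i := stepQ 23217 Q23217 (allL N23217 (tt N23675 (iv F46147)) (tt N24311 (iv F47780)) (tt N23407 (iv F45494)) (tt N21614 (iv D23255)) (tt N24029 (iv F47005)) (tt N23406 F45492))
theorem Q23219 : ∀ i, i < 23219 → P i := stepQ 23218 Q23218 (allL N23218 (tt N24079 (iv F47178)) (tt N24144 (iv F47343)) (tt N24084 (iv F47194)) (tt N21615 (iv D23256)) (tt N23174 F45010) (tt N24075 (iv F47168)))
theorem Q23220 : ∀ i, i < 23220 → P i := stepQ 23219 Q23219 (allL N23219 (tt N22813 F45011) (tt N21839 F45012) (tt N21617 (iv D23257)) (tt N22837 (iv F45014)) (tt N24312 D24350) (tt N22814 F45013))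
theorem Q23221 : ∀ i, i < 23221 → P i := stepQ 23220 Q23220 (allL N23220 (tt N22940 F45015) (tt N21618 F45016) (tt N24312 (iv F47783)) (tt N22940 F45017) (tt N21617 (iv D23258)) (tt N22936 F45018))
theorem Q23222 : ∀ i, i < 23222 → P i := stepQ 23221 Q23221 (allL N23221 (tt N24018 (iv F46978)) (tt N21621 F45019) (tt N23673 (iv F46141)) (tt N21620 (iv D23259)) (tt N21634 F45020) (tt N24076 (iv F47171)))
theorem Q23223 : ∀ i, i < 23223 → P i := stepQ 23222 Q23222 (allL N23222 (tt N21637 F45021) (tt N24306 (iv F47774)) (tt N22348 F45022) (tt N21625 (iv D23260)) (tt N22361 F45023) (tt N21626 F45024))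
theorem Q23224 : ∀ i, i < 23224 → P i := stepQ 23223 Q23223 (allL N23223 (tt N21636 F45025) (tt N22159 (iv F45029)) (tt N21626 (iv D23261)) (tt N22157 F45026) (tt N21628 F45027) (tt N22348 F45028))
theorem Q23225 : ∀ i, i < 23225 → P i := stepQ 23224 Q23224 (allL N23224 (tt N23672 (iv F46137)) (tt N24313 D24351) (tt N21627 (iv D23262)) (tt N23671 (iv F46135)) (tt N22362 F45030) (tt N21628 F45031))
theorem Q23226 : ∀ i, i < 23226 → P i := stepQ 23225 Q23225 (allL N23225 (tt N23402 (iv F45482)) (tt N21628 (iv D23263)) (tt N24307 (iv F47777)) (tt N22158 F45032) (tt N22159 F45033) (tt N24313 (iv F47787)))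
theorem Q23227 : ∀ i, i < 23227 → P i := stepQ 23226 Q23226 (allL N23226 (tt N21630 F45034) (tt N22029 F45035) (tt N22028 F45036) (tt N23414 (iv F45508)) (tt N21629 (iv D23264)) (tt N22028 F45037))
theorem Q23228 : ∀ i, i < 23228 → P i := stepQ 23227 Q23227 (allL N23227 (tt N22433 F45038) (tt N24304 (iv F47769)) (tt N22664 F45039) (tt N21632 (iv D23265)) (tt N22491 F45040) (tt N22659 F45041))
theorem Q23229 : ∀ i, i < 23229 → P i := stepQ 23228 Q23228 (allL N23228 (tt N21634 F45042) (tt N24301 (iv F47762)) (tt N24314 D24352) (tt N21633 (iv D23266)) (tt N24018 (iv F46980)) (tt N24064 F47128))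
theorem Q23230 : ∀ i, i < 23230 → P i := stepQ 23229 Q23229 (allL N23229 (tt N21635 F45043) (tt N23695 (iv F46206)) (tt N21887 F45044) (tt N24064 (iv F47127)) (tt N22322 F45045) (tt N21633 (iv D23267)))
theorem Q23231 : ∀ i, i < 23231 → P i := stepQ 23230 Q23230 (allL N23230 (tt N24314 (iv F47788)) (tt N23401 (iv F45478)) (tt N21634 (iv D23268)) (tt N23867 (iv F46631)) (tt N23673 (iv F46142)) (tt N24041 (iv F47054)))
theorem Q23232 : ∀ i, i < 23232 → P i := stepQ 23231 Q23231 (allL N23231 (tt N24064 (iv F47125)) (tt N21637 F45046) (tt N24041 (iv F47055)) (tt N21635 F45047) (tt N24061 (iv F47115)) (tt N21634 (iv D23269)))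
theorem Q23233 : ∀ i, i < 23233 → P i := stepQ 23232 Q23232 (allL N23232 (tt N22361 F45048) (tt N24061 (iv F47114)) (tt N22353 F45049) (tt N22373 F45050) (tt N21637 (iv D23270)) (tt N22372 F45051))
theorem Q23234 : ∀ i, i < 23234 → P i := stepQ 23233 Q23233 (allL N23233 (tt N23873 (iv F46648)) (tt N21642 F45052) (tt N22313 F45053) (tt N24067 (iv F47141)) (tt N21641 (iv D23271)) (tt N24176 (iv F47435)))
theorem Q23235 : ∀ i, i < 23235 → P i := stepQ 23234 Q23234 (allL N23234 (tt N21965 F45054) (tt N24067 (iv F47139)) (tt N23062 F45056) (tt N21642 (iv D23272)) (tt N21955 F45055) (tt N24315 D24353))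
theorem Q23236 : ∀ i, i < 23236 → P i := stepQ 23235 Q23235 (allL N23235 (tt N21964 F45057) (tt N24176 (iv F47433)) (tt N21643 F45058) (tt N24315 (iv F47793)) (tt N21952 F45059) (tt N21642 (iv D23273)))
theorem Q23237 : ∀ i, i < 23237 → P i := stepQ 23236 Q23236 (allL N23236 (tt N22116 F45060) (tt N23073 F45061) (tt N21644 (iv D23274)) (tt N23236 F45063) (tt N22112 F45062) (tt N24274 (iv F47691)))
theorem Q23238 : ∀ i, i < 23238 → P i := stepQ 23237 Q23237 (allL N23237 (tt N21647 (iv D23275)) (tt N21664 F45064) (tt N22278 F45065) (tt N21655 F45066) (tt N21694 F45067) (tt N21654 F45068))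
theorem Q23239 : ∀ i, i < 23239 → P i := stepQ 23238 Q23238 (allL N23238 (tt N21649 F45069) (tt N23317 (iv F45243)) (tt N24316 D24354) (tt N21648 (iv D23276)) (tt N22612 F45070) (tt N24317 D24355))
theorem Q23240 : ∀ i, i < 23240 → P i := stepQ 23239 Q23239 (allL N23239 (tt N21650 F45071) (tt N23318 (iv F45248)) (tt N21655 F45072) (tt N24317 (iv F47803)) (tt N23378 (iv F45420)) (tt N21648 (iv D23277)))
theorem Q23241 : ∀ i, i < 23241 → P i := stepQ 23240 Q23240 (allL N23240 (tt N24316 (iv F47795)) (tt N24318 D24356) (tt N21649 (iv D23278)) (tt N24319 D24357) (tt N24320 D24358) (tt N24318 F47809))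
theorem Q23242 : ∀ i, i < 23242 → P i := stepQ 23241 Q23241 (allL N23241 (tt N22612 F45073) (tt N21652 F45074) (tt N24320 (iv F47816)) (tt N21720 F45075) (tt N21649 (iv D23279)) (tt N22612 (iv F45076)))
theorem Q23243 : ∀ i, i < 23243 → P i := stepQ 23242 Q23242 (allL N23242 (tt N24317 (iv F47800)) (tt N21651 F45077) (tt N24318 (iv F47805)) (tt N21650 F45078) (tt N24317 (iv F47804)) (tt N21649 (iv D23280)))
theorem Q23244 : ∀ i, i < 23244 → P i := stepQ 23243 Q23243 (allL N23243 (tt N23378 (iv F45416)) (tt N21653 F45079) (tt N21656 F45080) (tt N23378 (iv F45419)) (tt N21650 (iv D23281)) (tt N21719 F45081))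
theorem Q23245 : ∀ i, i < 23245 → P i := stepQ 23244 Q23244 (allL N23244 (tt N23320 (iv F45257)) (tt N24317 (iv F47801)) (tt N21652 F45082) (tt N23318 (iv F45250)) (tt N21651 (iv D23282)) (tt N23317 F45246))
theorem Q23246 : ∀ i, i < 23246 → P i := stepQ 23245 Q23245 (allL N23245 (tt N23319 (iv F45252)) (tt N22612 F45083) (tt N23317 (iv F45245)) (tt N21721 F45084) (tt N23317 (iv F45244)) (tt N21652 (iv D23283)))
theorem Q23247 : ∀ i, i < 23247 → P i := stepQ 23246 Q23246 (allL N23246 (tt N21656 F45085) (tt N21724 F45086) (tt N23378 (iv F45418)) (tt N24321 D24359) (tt N21655 (iv D23284)) (tt N21722 F45087))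
theorem Q23248 : ∀ i, i < 23248 → P i := stepQ 23247 Q23247 (allL N23247 (tt N24321 (iv F47819)) (tt N21657 F45088) (tt N24322 D24360) (tt N21656 (iv D23285)) (tt N21695 F45089) (tt N21723 F45090))
theorem Q23249 : ∀ i, i < 23249 → P i := stepQ 23248 Q23248 (allL N23248 (tt N24323 D24361) (tt N21658 (iv D23286)) (tt N22254 F45091) (tt N24324 D24362) (tt N22266 (iv F45093)) (tt N22252 F45092))
theorem Q23250 : ∀ i, i < 23250 → P i := stepQ 23249 Q23249 (allL N23249 (tt N21661 F45094) (tt N24324 (iv F47831)) (tt N23330 (iv F45295)) (tt N21658 (iv D23287)) (tt N24325 D24363) (tt N22276 F45095))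
theorem Q23251 : ∀ i, i < 23251 → P i := stepQ 23250 Q23250 (allL N23250 (tt N21662 F45096) (tt N22266 F45097) (tt N21659 F45098) (tt N24326 D24364) (tt N21658 (iv D23288)) (tt N21675 F45099))
theorem Q23252 : ∀ i, i < 23252 → P i := stepQ 23251 Q23251 (allL N23251 (tt N21660 (iv D23289)) (tt N24323 (iv F47827)) (tt N21664 F45100) (tt N23332 (iv F45299)) (tt N24327 D24365) (tt N21699 F45101))
theorem Q23253 : ∀ i, i < 23253 → P i := stepQ 23252 Q23252 (allL N23252 (tt N23332 (iv F45298)) (tt N21661 F45102) (tt N23323 (iv F45270)) (tt N21660 (iv D23290)) (tt N24328 D24366) (tt N21701 F45103))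
theorem Q23254 : ∀ i, i < 23254 → P i := stepQ 23253 Q23253 (allL N23253 (tt N24327 (iv F47838)) (tt N21662 F45104) (tt N21665 F45105) (tt N24329 D24367) (tt N21660 (iv D23291)) (tt N21678 F45106))
theorem Q23255 : ∀ i, i < 23255 → P i := stepQ 23254 Q23254 (allL N23254 (tt N23330 (iv F45292)) (tt N24330 D24368) (tt N21661 (iv D23292)) (tt N23329 F45291) (tt N24331 D24369) (tt N23660 (iv F46110)))
theorem Q23256 : ∀ i, i < 23256 → P i := stepQ 23255 Q23255 (allL N23255 (tt N24325 (iv F47833)) (tt N24328 (iv F47842)) (tt N24331 (iv F47847)) (tt N24332 D24370) (tt N21661 (iv D23293)) (tt N24333 D24371))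
theorem Q23257 : ∀ i, i < 23257 → P i := stepQ 23256 Q23256 (allL N23256 (tt N22276 F45107) (tt N21701 F45108) (tt N23660 (iv F46109)) (tt N21663 F45109) (tt N24334 D24372) (tt N21661 (iv D23294)))
theorem Q23258 : ∀ i, i < 23258 → P i := stepQ 23257 Q23257 (allL N23257 (tt N24326 (iv F47834)) (tt N24329 (iv F47843)) (tt N24335 D24373) (tt N21662 (iv D23295)) (tt N24332 (iv F47848)) (tt N21680 F45110))
theorem Q23259 : ∀ i, i < 23259 → P i := stepQ 23258 Q23258 (allL N23258 (tt N21665 F45111) (tt N21694 F45112) (tt N24327 (iv F47840)) (tt N24336 D24374) (tt N21664 (iv D23296)) (tt N21681 F45113))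
theorem Q23260 : ∀ i, i < 23260 → P i := stepQ 23259 Q23259 (allL N23259 (tt N24336 (iv F47855)) (tt N21666 F45114) (tt N24337 D24375) (tt N21665 (iv D23297)) (tt N21725 F45115) (tt N21682 F45116))
theorem Q23261 : ∀ i, i < 23261 → P i := stepQ 23260 Q23260 (allL N23260 (tt N21668 F45117) (tt N22618 F45118) (tt N24338 D24376) (tt N21667 (iv D23298)) (tt N22623 F45119) (tt N21685 F45120))
theorem Q23262 : ∀ i, i < 23262 → P i := stepQ 23261 Q23261 (allL N23261 (tt N24338 (iv F47862)) (tt N22625 F45121) (tt N21668 (iv D23299)) (tt N24339 D24377) (tt N22625 F45122) (tt N21689 F45123))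
theorem Q23263 : ∀ i, i < 23263 → P i := stepQ 23262 Q23262 (allL N23262 (tt N21670 F45124) (tt N22617 F45125) (tt N23152 F45126) (tt N21770 F45127) (tt N22624 F45128) (tt N21669 (iv D23300)))
theorem Q23264 : ∀ i, i < 23264 → P i := stepQ 23263 Q23263 (allL N23263 (tt N21672 F45129) (tt N21696 F45130) (tt N24340 D24378) (tt N21671 (iv D23301)) (tt N21703 F45131) (tt N21728 F45132))
theorem Q23265 : ∀ i, i < 23265 → P i := stepQ 23264 Q23264 (allL N23264 (tt N24340 (iv F47870)) (tt N21704 F45133) (tt N21672 (iv D23302)) (tt N24341 D24379) (tt N21704 F45134) (tt N21729 F45135))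
theorem Q23266 : ∀ i, i < 23266 → P i := stepQ 23265 Q23265 (allL N23265 (tt N21860 F45136) (tt N21700 F45137) (tt N21859 F45138) (tt N24334 (iv F47851)) (tt N21673 (iv D23303)) (tt N24342 D24380))
theorem Q23267 : ∀ i, i < 23267 → P i := stepQ 23266 Q23266 (allL N23266 (tt N21679 F45139) (tt N22229 F45140) (tt N21845 F45141) (tt N24343 D24381) (tt N21674 (iv D23304)) (tt N24344 D24382))
theorem Q23268 : ∀ i, i < 23268 → P i := stepQ 23267 Q23267 (allL N23267 (tt N21680 F45142) (tt N22265 F45143) (tt N24339 (iv F47868)) (tt N21675 (iv D23305)) (tt N24343 (iv F47884)) (tt N24326 (iv F47836)))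
theorem Q23269 : ∀ i, i < 23269 → P i := stepQ 23268 Q23268 (allL N23268 (tt N21678 F45144) (tt N22231 F45145) (tt N21681 F45146) (tt N24345 D24383) (tt N21676 (iv D23306)) (tt N24327 (iv F47841)))
theorem Q23270 : ∀ i, i < 23270 → P i := stepQ 23269 Q23269 (allL N23269 (tt N21836 F45147) (tt N21679 F45148) (tt N21834 F45149) (tt N24346 D24384) (tt N21677 (iv D23307)) (tt N24347 D24385))
theorem Q23271 : ∀ i, i < 23271 → P i := stepQ 23270 Q23270 (allL N23270 (tt N24345 (iv F47889)) (tt N21680 F45150) (tt N24348 D24386) (tt N21678 (iv D23308)) (tt N24346 (iv F47894)) (tt N24329 (iv F47844)))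
theorem Q23272 : ∀ i, i < 23272 → P i := stepQ 23271 Q23271 (allL N23271 (tt N24343 (iv F47882)) (tt N24346 (iv F47893)) (tt N24349 D24387) (tt N21679 (iv D23309)) (tt N21680 F45151) (tt N24350 D24388))
theorem Q23273 : ∀ i, i < 23273 → P i := stepQ 23272 Q23272 (allL N23272 (tt N24344 (iv F47885)) (tt N24347 (iv F47896)) (tt N23620 (iv F46025)) (tt N24350 (iv F47900)) (tt N24342 (iv F47881)) (tt N21679 (iv D23310)))
theorem Q23274 : ∀ i, i < 23274 → P i := stepQ 23273 Q23273 (allL N23273 (tt N24339 (iv F47866)) (tt N24351 D24389) (tt N21680 (iv D23311)) (tt N24338 (iv F47863)) (tt N24349 (iv F47899)) (tt N24335 (iv F47853)))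
theorem Q23275 : ∀ i, i < 23275 → P i := stepQ 23274 Q23274 (allL N23274 (tt N21682 F45152) (tt N21703 F45153) (tt N24352 D24390) (tt N21681 (iv D23312)) (tt N21696 F45154) (tt N24336 (iv F47858)))
theorem Q23276 : ∀ i, i < 23276 → P i := stepQ 23275 Q23275 (allL N23275 (tt N24352 (iv F47901)) (tt N21697 F45155) (tt N21682 (iv D23313)) (tt N24353 D24391) (tt N21697 F45156) (tt N24337 (iv F47861)))
theorem Q23277 : ∀ i, i < 23277 → P i := stepQ 23276 Q23276 (allL N23276 (tt N21730 F45157) (tt N21685 F45158) (tt N24354 D24392) (tt N21683 (iv D23314)) (tt N21775 F45159) (tt N22618 F45160))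
theorem Q23278 : ∀ i, i < 23278 → P i := stepQ 23277 Q23277 (allL N23277 (tt N21687 F45161) (tt N21775 F45162) (tt N24355 D24393) (tt N21684 (iv D23315)) (tt N21685 F45163) (tt N24356 D24394))
theorem Q23279 : ∀ i, i < 23279 → P i := stepQ 23278 Q23278 (allL N23278 (tt N21688 F45164) (tt N21716 F45165) (tt N21717 F45166) (tt N24356 (iv F47912)) (tt N21770 F45167) (tt N21684 (iv D23316)))
theorem Q23280 : ∀ i, i < 23280 → P i := stepQ 23279 Q23279 (allL N23279 (tt N21689 F45168) (tt N24357 D24395) (tt N21685 (iv D23317)) (tt N24335 (iv F47854)) (tt N24355 (iv F47909)) (tt N24338 (iv F47865)))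
theorem Q23281 : ∀ i, i < 23281 → P i := stepQ 23280 Q23280 (allL N23280 (tt N21921 F45169) (tt N21773 F45170) (tt N23979 (iv F46904)) (tt N21686 (iv D23318)) (tt N21923 F45171) (tt N24358 D24396))
theorem Q23282 : ∀ i, i < 23282 → P i := stepQ 23281 Q23281 (allL N23281 (tt N21717 F45172) (tt N21774 F45173) (tt N21688 F45174) (tt N24358 (iv F47916)) (tt N21771 F45175) (tt N21686 (iv D23319)))
theorem Q23283 : ∀ i, i < 23283 → P i := stepQ 23282 Q23282 (allL N23282 (tt N24355 (iv F47908)) (tt N24359 D24397) (tt N21687 (iv D23320)) (tt N24360 D24398) (tt N21689 F45176) (tt N24359 F47920))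
theorem Q23284 : ∀ i, i < 23284 → P i := stepQ 23283 Q23283 (allL N23283 (tt N24356 (iv F47910)) (tt N21732 F45177) (tt N24359 (iv F47918)) (tt N21688 F45178) (tt N21733 F45179) (tt N21687 (iv D23321)))
theorem Q23285 : ∀ i, i < 23285 → P i := stepQ 23284 Q23284 (allL N23284 (tt N24361 D24399) (tt N21689 (iv D23322)) (tt N21733 F45180) (tt N24362 D24400) (tt N24359 (iv F47919)) (tt N22625 F45181))
theorem Q23286 : ∀ i, i < 23286 → P i := stepQ 23285 Q23285 (allL N23285 (tt N24335 (iv F47852)) (tt N24362 (iv F47923)) (tt N24326 (iv F47837)) (tt N21689 (iv D23323)) (tt N24363 D24401) (tt N24339 (iv F47869)))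
theorem Q23287 : ∀ i, i < 23287 → P i := stepQ 23286 Q23286 (allL N23286 (tt N21690 (iv D23324)) (tt N22776 F45182) (tt N23161 F45183) (tt N22204 F45184) (tt N22496 F45185) (tt N22203 F45186))
theorem Q23288 : ∀ i, i < 23288 → P i := stepQ 23287 Q23287 (allL N23287 (tt N21692 F45187) (tt N21728 F45188) (tt N24364 D24402) (tt N21691 (iv D23325)) (tt N21726 F45189) (tt N21696 F45190))
theorem Q23289 : ∀ i, i < 23289 → P i := stepQ 23288 Q23288 (allL N23288 (tt N24364 (iv F47925)) (tt N24337 (iv F47859)) (tt N21692 (iv D23326)) (tt N24365 D24403) (tt N21727 F45191) (tt N21697 F45192))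
theorem Q23290 : ∀ i, i < 23290 → P i := stepQ 23289 Q23289 (allL N23289 (tt N21693 (iv D23327)) (tt N22263 F45193) (tt N21694 F45194) (tt N23606 (iv F46000)) (tt N22278 F45195) (tt N21702 F45196))
theorem Q23291 : ∀ i, i < 23291 → P i := stepQ 23290 Q23290 (allL N23290 (tt N21695 F45197) (tt N24336 (iv F47856)) (tt N24366 D24404) (tt N21694 (iv D23328)) (tt N24321 (iv F47821)) (tt N21703 F45198))
theorem Q23292 : ∀ i, i < 23292 → P i := stepQ 23291 Q23291 (allL N23291 (tt N24366 (iv F47932)) (tt N21729 F45199) (tt N21695 (iv D23329)) (tt N24367 D24405) (tt N24322 (iv F47824)) (tt N21704 F45200))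
theorem Q23293 : ∀ i, i < 23293 → P i := stepQ 23292 Q23292 (allL N23292 (tt N21697 F45201) (tt N24368 D24406) (tt N21696 (iv D23330)) (tt N24369 D24407) (tt N24352 (iv F47902)) (tt N24364 (iv F47927)))
theorem Q23294 : ∀ i, i < 23294 → P i := stepQ 23293 Q23293 (allL N23293 (tt N24369 (iv F47937)) (tt N24353 (iv F47903)) (tt N24370 D24408) (tt N21697 (iv D23331)) (tt N24371 D24409) (tt N24365 (iv F47930)))
theorem Q23295 : ∀ i, i < 23295 → P i := stepQ 23294 Q23294 (allL N23294 (tt N22252 F45202) (tt N21699 F45203) (tt N22249 F45204) (tt N24372 D24410) (tt N21698 (iv D23332)) (tt N24323 (iv F47830)))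
theorem Q23296 : ∀ i, i < 23296 → P i := stepQ 23295 Q23295 (allL N23295 (tt N21701 F45205) (tt N24372 (iv F47944)) (tt N23334 (iv F45303)) (tt N21699 (iv D23333)) (tt N22166 F45206) (tt N23332 F45300))
theorem Q23297 : ∀ i, i < 23297 → P i := stepQ 23296 Q23296 (allL N23296 (tt N22166 F45207) (tt N24334 (iv F47850)) (tt N24373 D24411) (tt N21700 (iv D23334)) (tt N21701 F45208) (tt N24374 D24412))
theorem Q23298 : ∀ i, i < 23298 → P i := stepQ 23297 Q23297 (allL N23297 (tt N22167 F45209) (tt N24342 (iv F47879)) (tt N22164 F45210) (tt N24374 (iv F47951)) (tt N24347 (iv F47898)) (tt N21700 (iv D23335)))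
theorem Q23299 : ∀ i, i < 23299 → P i := stepQ 23298 Q23298 (allL N23298 (tt N23334 (iv F45301)) (tt N24375 D24413) (tt N21701 (iv D23336)) (tt N23325 (iv F45277)) (tt N24373 (iv F47948)) (tt N23323 F45271))
theorem Q23300 : ∀ i, i < 23300 → P i := stepQ 23299 Q23299 (allL N23299 (tt N21704 F45211) (tt N24376 D24414) (tt N21703 (iv D23337)) (tt N24377 D24415) (tt N24340 (iv F47872)) (tt N24366 (iv F47933)))
theorem Q23301 : ∀ i, i < 23301 → P i := stepQ 23300 Q23300 (allL N23300 (tt N24377 (iv F47955)) (tt N24341 (iv F47875)) (tt N24378 D24416) (tt N21704 (iv D23338)) (tt N24379 D24417) (tt N24367 (iv F47936)))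
theorem Q23302 : ∀ i, i < 23302 → P i := stepQ 23301 Q23301 (allL N23301 (tt N22477 F45212) (tt N23593 (iv F45964)) (tt N21705 (iv D23339)) (tt N24380 D24418) (tt N22111 F45213) (tt N22773 F45214))
theorem Q23303 : ∀ i, i < 23303 → P i := stepQ 23302 Q23302 (allL N23302 (tt N21706 (iv D23340)) (tt N23587 (iv F45947)) (tt N22203 F45215) (tt N23504 (iv F45715)) (tt N23165 F45216) (tt N23161 F45217))
theorem Q23304 : ∀ i, i < 23304 → P i := stepQ 23303 Q23303 (allL N23303 (tt N21931 F45218) (tt N23757 (iv F46341)) (tt N23922 (iv F46772)) (tt N21714 (iv D23341)) (tt N23755 (iv F46335)) (tt N21892 F45219))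
theorem Q23305 : ∀ i, i < 23305 → P i := stepQ 23304 Q23304 (allL N23304 (tt N21777 F45220) (tt N24356 (iv F47911)) (tt N24381 D24419) (tt N21716 (iv D23342)) (tt N24382 D24420) (tt N21775 F45221))
theorem Q23306 : ∀ i, i < 23306 → P i := stepQ 23305 Q23305 (allL N23305 (tt N24358 (iv F47914)) (tt N21718 F45222) (tt N23981 (iv F46908)) (tt N21717 (iv D23343)) (tt N23151 F45223) (tt N21921 F45224))
theorem Q23307 : ∀ i, i < 23307 → P i := stepQ 23306 Q23306 (allL N23306 (tt N21723 F45225) (tt N21726 F45226) (tt N24383 D24421) (tt N21722 (iv D23344)) (tt N21728 F45227) (tt N24321 (iv F47822)))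
theorem Q23308 : ∀ i, i < 23308 → P i := stepQ 23307 Q23307 (allL N23307 (tt N24383 (iv F47966)) (tt N24322 (iv F47823)) (tt N21723 (iv D23345)) (tt N24322 (iv F47826)) (tt N21729 F45228) (tt N24322 (iv F47825)))
theorem Q23309 : ∀ i, i < 23309 → P i := stepQ 23308 Q23308 (allL N23308 (tt N21725 F45229) (tt N24321 (iv F47820)) (tt N24384 D24422) (tt N21724 (iv D23346)) (tt N24336 (iv F47857)) (tt N21726 F45230))
theorem Q23310 : ∀ i, i < 23310 → P i := stepQ 23309 Q23309 (allL N23309 (tt N24384 (iv F47968)) (tt N21727 F45231) (tt N21725 (iv D23347)) (tt N24385 D24423) (tt N24337 (iv F47860)) (tt N21727 F45232))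
theorem Q23311 : ∀ i, i < 23311 → P i := stepQ 23310 Q23310 (allL N23310 (tt N21727 F45233) (tt N24386 D24424) (tt N21726 (iv D23348)) (tt N24387 D24425) (tt N24364 (iv F47926)) (tt N24384 (iv F47969)))
theorem Q23312 : ∀ i, i < 23312 → P i := stepQ 23311 Q23311 (allL N23311 (tt N24387 (iv F47972)) (tt N24385 (iv F47970)) (tt N23951 (iv F46836)) (tt N21727 (iv D23349)) (tt N24388 D24426) (tt N24385 (iv F47971)))
theorem Q23313 : ∀ i, i < 23313 → P i := stepQ 23312 Q23312 (allL N23312 (tt N21729 F45234) (tt N24389 D24427) (tt N21728 (iv D23350)) (tt N24390 D24428) (tt N24383 (iv F47967)) (tt N24340 (iv F47873)))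
theorem Q23314 : ∀ i, i < 23314 → P i := stepQ 23313 Q23313 (allL N23313 (tt N24390 (iv F47973)) (tt N24367 (iv F47934)) (tt N24126 (iv F47287)) (tt N21729 (iv D23351)) (tt N24367 (iv F47935)) (tt N24341 (iv F47876)))
theorem Q23315 : ∀ i, i < 23315 → P i := stepQ 23314 Q23314 (allL N23314 (tt N24354 (iv F47904)) (tt N24391 D24429) (tt N21730 (iv D23352)) (tt N24392 D24430) (tt N21776 F45235) (tt N22620 F45236))
theorem Q23316 : ∀ i, i < 23316 → P i := stepQ 23315 Q23315 (allL N23315 (tt N24382 (iv F47962)) (tt N21731 (iv D23353)) (tt N24391 (iv F47976)) (tt N21875 F45237) (tt N21777 F45238) (tt N21880 F45239))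
theorem Q23317 : ∀ i, i < 23317 → P i := stepQ 23316 Q23316 (allL N23316 (tt N21733 (iv D23354)) (tt N24382 (iv F47963)) (tt N24361 (iv F47921)) (tt N22624 F45240) (tt N24356 (iv F47913)) (tt N22623 F45241))
theorem Q23318 : ∀ i, i < 23318 → P i := stepQ 23317 Q23317 (allL N23317 (tt N21735 F45242) (tt N23238 F45243) (tt N23245 F45245) (tt N21734 (iv D23355)) (tt N23245 F45244) (tt N23244 (iv F45246)))
theorem Q23319 : ∀ i, i < 23319 → P i := stepQ 23318 Q23318 (allL N23318 (tt N21736 F45247) (tt N23239 F45248) (tt N21742 F45249) (tt N23244 F45250) (tt N21821 F45251) (tt N21734 (iv D23356)))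
theorem Q23320 : ∀ i, i < 23320 → P i := stepQ 23319 Q23319 (allL N23319 (tt N23245 F45252) (tt N21738 (iv F45254)) (tt N21735 (iv D23357)) (tt N21740 F45253) (tt N21735 (iv F45255)) (tt N21738 (iv F45256)))
theorem Q23321 : ∀ i, i < 23321 → P i := stepQ 23320 Q23320 (allL N23320 (tt N23244 F45257) (tt N21737 F45258) (tt N21738 F45259) (tt N21736 F45260) (tt N21737 F45261) (tt N21735 (iv D23358)))
theorem Q23322 : ∀ i, i < 23322 → P i := stepQ 23321 Q23321 (allL N23321 (tt N21744 F45262) (tt N21749 F45263) (tt N22703 F45264) (tt N21742 F45265) (tt N22645 (iv F45266)) (tt N21741 (iv D23359)))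
theorem Q23323 : ∀ i, i < 23323 → P i := stepQ 23322 Q23322 (allL N23322 (tt N23842 (iv F46543)) (tt N21747 (iv D23360)) (tt N22701 F45267) (tt N24393 D24431) (tt N22700 (iv F45268)) (tt N23840 (iv F46539)))
theorem Q23324 : ∀ i, i < 23324 → P i := stepQ 23323 Q23323 (allL N23323 (tt N21752 F45269) (tt N24393 (iv F47984)) (tt N23252 F45270) (tt N21747 (iv D23361)) (tt N24394 D24432) (tt N23298 (iv F45271)))
theorem Q23325 : ∀ i, i < 23325 → P i := stepQ 23324 Q23324 (allL N23324 (tt N21753 F45272) (tt N22700 F45273) (tt N21748 F45274) (tt N24395 D24433) (tt N21747 (iv D23362)) (tt N24396 D24434))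
theorem Q23326 : ∀ i, i < 23326 → P i := stepQ 23325 Q23325 (allL N23325 (tt N21754 F45275) (tt N23840 (iv F46537)) (tt N21749 F45276) (tt N23298 F45277) (tt N23841 (iv F46542)) (tt N21747 (iv D23363)))
theorem Q23327 : ∀ i, i < 23327 → P i := stepQ 23326 Q23326 (allL N23326 (tt N21755 F45278) (tt N21815 F45279) (tt N24396 (iv F47993)) (tt N21763 F45280) (tt N24397 D24435) (tt N21748 (iv D23364)))
theorem Q23328 : ∀ i, i < 23328 → P i := stepQ 23327 Q23327 (allL N23327 (tt N21756 F45281) (tt N22645 F45282) (tt N23841 (iv F46541)) (tt N22644 (iv F45283)) (tt N21749 (iv D23365)) (tt N24397 (iv F47997)))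
theorem Q23329 : ∀ i, i < 23329 → P i := stepQ 23328 Q23328 (allL N23328 (tt N21757 F45284) (tt N21813 F45285) (tt N22646 (iv F45288)) (tt N21750 (iv D23366)) (tt N22644 F45286) (tt N21764 F45287))
theorem Q23330 : ∀ i, i < 23330 → P i := stepQ 23329 Q23329 (allL N23329 (tt N21751 (iv D23367)) (tt N23842 (iv F46544)) (tt N21758 F45289) (tt N23254 (iv F45291)) (tt N24398 D24436) (tt N22217 F45290))
theorem Q23331 : ∀ i, i < 23331 → P i := stepQ 23330 Q23330 (allL N23330 (tt N23254 F45292) (tt N21752 F45293) (tt N23249 F45295) (tt N21751 (iv D23368)) (tt N24399 D24437) (tt N22218 F45294))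
theorem Q23332 : ∀ i, i < 23332 → P i := stepQ 23331 Q23331 (allL N23331 (tt N24398 (iv F47998)) (tt N21753 F45296) (tt N21759 F45297) (tt N24400 D24438) (tt N21751 (iv D23369)) (tt N23542 (iv F45818)))
theorem Q23333 : ∀ i, i < 23333 → P i := stepQ 23332 Q23332 (allL N23332 (tt N23252 F45298) (tt N24401 D24439) (tt N21752 (iv D23370)) (tt N23251 F45299) (tt N24402 D24440) (tt N23295 (iv F45300)))
theorem Q23334 : ∀ i, i < 23334 → P i := stepQ 23333 Q23333 (allL N23333 (tt N24394 (iv F47987)) (tt N24399 (iv F48002)) (tt N24402 (iv F48010)) (tt N24403 D24441) (tt N21752 (iv D23371)) (tt N24404 D24442))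
theorem Q23335 : ∀ i, i < 23335 → P i := stepQ 23334 Q23334 (allL N23334 (tt N23298 F45301) (tt N22218 F45302) (tt N23295 F45303) (tt N21754 F45304) (tt N23625 (iv F46036)) (tt N21752 (iv D23372)))
theorem Q23336 : ∀ i, i < 23336 → P i := stepQ 23335 Q23335 (allL N23335 (tt N24395 (iv F47989)) (tt N24400 (iv F48004)) (tt N24405 D24443) (tt N21753 (iv D23373)) (tt N24403 (iv F48011)) (tt N24406 D24444))
theorem Q23337 : ∀ i, i < 23337 → P i := stepQ 23336 Q23336 (allL N23336 (tt N24396 (iv F47991)) (tt N23542 (iv F45817)) (tt N21755 F45305) (tt N24406 (iv F48012)) (tt N24407 D24445) (tt N21753 (iv D23374)))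
theorem Q23338 : ∀ i, i < 23338 → P i := stepQ 23337 Q23337 (allL N23337 (tt N23841 (iv F46540)) (tt N22219 F45306) (tt N21756 F45307) (tt N22887 F45316) (tt N21754 (iv D23375)) (tt N24407 (iv F48015)))
theorem Q23339 : ∀ i, i < 23339 → P i := stepQ 23338 Q23338 (allL N23338 (tt N24397 (iv F47994)) (tt N21760 F45308) (tt N24407 (iv F48014)) (tt N21804 F45309) (tt N21755 (iv D23376)) (tt N21756 F45310))
theorem Q23340 : ∀ i, i < 23340 → P i := stepQ 23339 Q23339 (allL N23339 (tt N22644 F45311) (tt N21761 F45312) (tt N22649 (iv F45315)) (tt N21756 (iv D23377)) (tt N21757 F45313) (tt N21804 F45314))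
theorem Q23341 : ∀ i, i < 23341 → P i := stepQ 23340 Q23340 (allL N23340 (tt N22646 F45317) (tt N22650 (iv F45320)) (tt N21757 (iv D23378)) (tt N24408 D24446) (tt N22649 F45318) (tt N21767 F45319))
theorem Q23342 : ∀ i, i < 23342 → P i := stepQ 23341 Q23341 (allL N23341 (tt N21759 F45321) (tt N21822 F45322) (tt N24398 (iv F48000)) (tt N22086 F45323) (tt N21758 (iv D23379)) (tt N23465 (iv F45624)))
theorem Q23343 : ∀ i, i < 23343 → P i := stepQ 23342 Q23342 (allL N23342 (tt N22059 F45324) (tt N21762 (iv D23380)) (tt N22650 F45325) (tt N22059 F45326) (tt N21809 F45327) (tt N21768 F45328))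
theorem Q23344 : ∀ i, i < 23344 → P i := stepQ 23343 Q23343 (allL N23343 (tt N21767 F45329) (tt N22648 F45330) (tt N21764 (iv D23381)) (tt N24409 D24447) (tt N21799 F45331) (tt N22646 F45332))
theorem Q23345 : ∀ i, i < 23345 → P i := stepQ 23344 Q23344 (allL N23344 (tt N23942 (iv F46819)) (tt N24410 D24448) (tt N21765 (iv D23382)) (tt N24411 D24449) (tt N24042 (iv F47056)) (tt N24412 D24450))
theorem Q23346 : ∀ i, i < 23346 → P i := stepQ 23345 Q23345 (allL N23345 (tt N23943 (iv F46820)) (tt N21796 F45333) (tt N24412 (iv F48026)) (tt N21766 F45334) (tt N24297 (iv F47746)) (tt N21765 (iv D23383)))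
theorem Q23347 : ∀ i, i < 23347 → P i := stepQ 23346 Q23346 (allL N23346 (tt N22652 F45335) (tt N21767 (iv D23384)) (tt N21768 F45336) (tt N24413 D24451) (tt N21801 F45337) (tt N22650 F45338))
theorem Q23348 : ∀ i, i < 23348 → P i := stepQ 23347 Q23347 (allL N23347 (tt N24409 (iv F48021)) (tt N24413 (iv F48028)) (tt N24414 D24452) (tt N21767 (iv D23385)) (tt N24415 D24453) (tt N24408 (iv F48019)))
theorem Q23349 : ∀ i, i < 23349 → P i := stepQ 23348 Q23348 (allL N23348 (tt N21768 (iv D23386)) (tt N21769 F45339) (tt N22652 F45340) (tt N21768 (iv F45343)) (tt N21805 F45341) (tt N22059 F45342))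
theorem Q23350 : ∀ i, i < 23350 → P i := stepQ 23349 Q23349 (allL N23349 (tt N21919 F45344) (tt N21923 F45345) (tt N24416 D24454) (tt N21772 (iv D23387)) (tt N21773 F45346) (tt N23758 (iv F46347)))
theorem Q23351 : ∀ i, i < 23351 → P i := stepQ 23350 Q23350 (allL N23350 (tt N21989 F45347) (tt N24417 D24455) (tt N21773 (iv D23388)) (tt N23509 (iv F45730)) (tt N24416 (iv F48035)) (tt N23508 (iv F45727)))
theorem Q23352 : ∀ i, i < 23352 → P i := stepQ 23351 Q23351 (allL N23351 (tt N21993 F45348) (tt N24358 (iv F47915)) (tt N23508 (iv F45726)) (tt N21774 F45349) (tt N23794 (iv F46431)) (tt N21773 (iv D23389)))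
theorem Q23353 : ∀ i, i < 23353 → P i := stepQ 23352 Q23352 (allL N23352 (tt N21776 F45350) (tt N24418 D24456) (tt N21775 (iv D23390)) (tt N23352 F45351) (tt N24354 (iv F47905)) (tt N24381 (iv F47961)))
theorem Q23354 : ∀ i, i < 23354 → P i := stepQ 23353 Q23353 (allL N23353 (tt N24381 (iv F47959)) (tt N21776 (iv D23391)) (tt N21777 F45352) (tt N23353 F45353) (tt N24391 (iv F47977)) (tt N21776 F45354))
theorem Q23355 : ∀ i, i < 23355 → P i := stepQ 23354 Q23354 (allL N23354 (tt N21780 F45355) (tt N21892 F45356) (tt N24419 D24457) (tt N21778 (iv D23392)) (tt N21779 F45357) (tt N23757 (iv F46343)))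
theorem Q23356 : ∀ i, i < 23356 → P i := stepQ 23355 Q23355 (allL N23355 (tt N21781 F45358) (tt N24420 D24458) (tt N21779 (iv D23393)) (tt N23546 (iv F45829)) (tt N24419 (iv F48041)) (tt N22682 F45359))
theorem Q23357 : ∀ i, i < 23357 → P i := stepQ 23356 Q23356 (allL N23356 (tt N24419 (iv F48039)) (tt N22011 F45360) (tt N21780 (iv D23394)) (tt N23741 (iv F46308)) (tt N21781 F45361) (tt N23664 (iv F46122)))
theorem Q23358 : ∀ i, i < 23358 → P i := stepQ 23357 Q23357 (allL N23357 (tt N23839 (iv F46532)) (tt N21785 F45362) (tt N24421 D24459) (tt N21784 (iv D23395)) (tt N23935 (iv F46810)) (tt N24422 D24460))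
theorem Q23359 : ∀ i, i < 23359 → P i := stepQ 23358 Q23358 (allL N23358 (tt N21866 F45363) (tt N21786 F45364) (tt N21790 F45365) (tt N24422 (iv F48049)) (tt N21868 F45366) (tt N21784 (iv D23396)))
theorem Q23360 : ∀ i, i < 23360 → P i := stepQ 23359 Q23359 (allL N23359 (tt N22454 F45367) (tt N24423 D24461) (tt N21785 (iv D23397)) (tt N22451 F45368) (tt N24424 D24462) (tt N22450 (iv F45369)))
theorem Q23361 : ∀ i, i < 23361 → P i := stepQ 23360 Q23360 (allL N23360 (tt N23651 F46085) (tt N23935 (iv F46809)) (tt N24424 (iv F48055)) (tt N22215 F45370) (tt N21785 (iv D23398)) (tt N24425 D24463))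
theorem Q23362 : ∀ i, i < 23362 → P i := stepQ 23361 Q23361 (allL N23361 (tt N22453 F45371) (tt N24422 (iv F48048)) (tt N22450 F45372) (tt N21786 F45373) (tt N22485 (iv F45374)) (tt N21785 (iv D23399)))
theorem Q23363 : ∀ i, i < 23363 → P i := stepQ 23362 Q23362 (allL N23362 (tt N21864 F45375) (tt N21868 F45376) (tt N21787 F45377) (tt N21926 (iv F45379)) (tt N21786 (iv D23400)) (tt N22049 F45378))
theorem Q23364 : ∀ i, i < 23364 → P i := stepQ 23363 Q23363 (allL N23363 (tt N22153 F45380) (tt N23518 (iv F45755)) (tt N21789 (iv D23401)) (tt N24118 (iv F47262)) (tt N22060 F45381) (tt N23516 F45751))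
theorem Q23365 : ∀ i, i < 23365 → P i := stepQ 23364 Q23364 (allL N23364 (tt N24080 (iv F47181)) (tt N24172 (iv F47421)) (tt N24242 (iv F47613)) (tt N21793 (iv D23402)) (tt N22957 F45382) (tt N24289 (iv F47727)))
theorem Q23366 : ∀ i, i < 23366 → P i := stepQ 23365 Q23365 (allL N23365 (tt N23381 (iv F45427)) (tt N21795 F45383) (tt N23394 (iv F45464)) (tt N21797 F45384) (tt N24298 (iv F47750)) (tt N21794 (iv D23403)))
theorem Q23367 : ∀ i, i < 23367 → P i := stepQ 23366 Q23366 (allL N23366 (tt N24426 D24464) (tt N21798 (iv D23404)) (tt N24410 (iv F48025)) (tt N23528 (iv F45782)) (tt N24044 (iv F47060)) (tt N23527 F45779))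
theorem Q23368 : ∀ i, i < 23368 → P i := stepQ 23367 Q23367 (allL N23367 (tt N22226 (iv F45387)) (tt N21799 (iv D23405)) (tt N21810 F45385) (tt N24177 (iv F47437)) (tt N22648 F45386) (tt N22343 (iv F45388)))
theorem Q23369 : ∀ i, i < 23369 → P i := stepQ 23368 Q23368 (allL N23368 (tt N21802 F45389) (tt N24177 F47439) (tt N24289 (iv F47725)) (tt N21799 (iv D23406)) (tt N24427 D24465) (tt N24242 F47615))
theorem Q23370 : ∀ i, i < 23370 → P i := stepQ 23369 Q23369 (allL N23369 (tt N21803 F45390) (tt N22343 F45391) (tt N21800 F45392) (tt N24242 (iv F47614)) (tt N22341 F45393) (tt N21799 (iv D23407)))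
theorem Q23371 : ∀ i, i < 23371 → P i := stepQ 23370 Q23370 (allL N23370 (tt N21804 F45394) (tt N21814 F45395) (tt N22341 F45396) (tt N24397 (iv F47996)) (tt N21800 (iv D23408)) (tt N22644 F45397))
theorem Q23372 : ∀ i, i < 23372 → P i := stepQ 23371 Q23371 (allL N23371 (tt N21801 (iv D23409)) (tt N22226 F45398) (tt N21805 F45399) (tt N23577 (iv F45918)) (tt N22652 F45400) (tt N21806 F45401))
theorem Q23373 : ∀ i, i < 23373 → P i := stepQ 23372 Q23372 (allL N23372 (tt N23577 (iv F45916)) (tt N21802 F45402) (tt N23576 (iv F45914)) (tt N21801 (iv D23410)) (tt N24428 D24466) (tt N21807 F45403))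
theorem Q23374 : ∀ i, i < 23374 → P i := stepQ 23373 Q23373 (allL N23373 (tt N24289 (iv F47724)) (tt N24081 (iv F47187)) (tt N21802 (iv D23411)) (tt N24087 (iv F47201)) (tt N24429 D24467) (tt N24080 F47185))
theorem Q23375 : ∀ i, i < 23375 → P i := stepQ 23374 Q23374 (allL N23374 (tt N24427 (iv F48062)) (tt N24428 (iv F48063)) (tt N24429 (iv F48067)) (tt N24415 (iv F48033)) (tt N21802 (iv D23412)) (tt N24430 D24468))
theorem Q23376 : ∀ i, i < 23376 → P i := stepQ 23375 Q23375 (allL N23375 (tt N24242 (iv F47611)) (tt N21807 F45404) (tt N24080 (iv F47183)) (tt N21803 F45405) (tt N23017 (iv F45406)) (tt N21802 (iv D23413)))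
theorem Q23377 : ∀ i, i < 23377 → P i := stepQ 23376 Q23376 (allL N23376 (tt N22341 F45407) (tt N21808 F45408) (tt N21804 F45409) (tt N22340 F45410) (tt N21803 (iv D23414)) (tt N22649 F45411))
theorem Q23378 : ∀ i, i < 23378 → P i := stepQ 23377 Q23377 (allL N23377 (tt N21819 F45412) (tt N24397 (iv F47995)) (tt N22585 F45413) (tt N21814 (iv D23415)) (tt N21815 F45414) (tt N22645 F45415))
theorem Q23379 : ∀ i, i < 23379 → P i := stepQ 23378 Q23378 (allL N23378 (tt N23243 F45416) (tt N21821 F45417) (tt N23246 F45418) (tt N23243 F45419) (tt N23239 F45420) (tt N21820 (iv D23416)))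
theorem Q23380 : ∀ i, i < 23380 → P i := stepQ 23379 Q23379 (allL N23379 (tt N21831 F45421) (tt N22191 F45422) (tt N24431 D24469) (tt N21825 (iv D23417)) (tt N21826 F45423) (tt N22173 F45424))
theorem Q23381 : ∀ i, i < 23381 → P i := stepQ 23380 Q23380 (allL N23380 (tt N21832 F45425) (tt N24432 D24470) (tt N21826 (iv D23418)) (tt N24370 (iv F47941)) (tt N24431 (iv F48074)) (tt N21835 F45426))
theorem Q23382 : ∀ i, i < 23382 → P i := stepQ 23381 Q23381 (allL N23381 (tt N23365 F45427) (tt N22642 F45428) (tt N22816 F45429) (tt N21828 F45430) (tt N24284 (iv F47714)) (tt N21827 (iv D23419)))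
theorem Q23383 : ∀ i, i < 23383 → P i := stepQ 23382 Q23382 (allL N23382 (tt N22763 F45431) (tt N22439 F45432) (tt N21830 F45433) (tt N24433 D24471) (tt N21828 (iv D23420)) (tt N21829 F45434))
theorem Q23384 : ∀ i, i < 23384 → P i := stepQ 23383 Q23383 (allL N23383 (tt N22762 F45435) (tt N22438 F45436) (tt N24434 D24472) (tt N21829 (iv D23421)) (tt N22630 F45437) (tt N24433 (iv F48080)))
theorem Q23385 : ∀ i, i < 23385 → P i := stepQ 23384 Q23384 (allL N23384 (tt N24431 (iv F48073)) (tt N22185 F45438) (tt N21831 (iv D23422)) (tt N24435 D24473) (tt N21832 F45439) (tt N22178 F45440))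
theorem Q23386 : ∀ i, i < 23386 → P i := stepQ 23385 Q23385 (allL N23385 (tt N24436 D24474) (tt N21832 (iv D23423)) (tt N21833 F45441) (tt N24437 D24475) (tt N22185 F45442) (tt N21840 F45443))
theorem Q23387 : ∀ i, i < 23387 → P i := stepQ 23386 Q23386 (allL N23386 (tt N24370 (iv F47940)) (tt N24437 (iv F48088)) (tt N24369 (iv F47938)) (tt N21832 (iv D23424)) (tt N24438 D24476) (tt N21841 F45444))
theorem Q23388 : ∀ i, i < 23388 → P i := stepQ 23387 Q23387 (allL N23387 (tt N21833 (iv D23425)) (tt N22204 F45445) (tt N24436 (iv F48085)) (tt N22776 F45446) (tt N22181 F45447) (tt N21842 F45448))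
theorem Q23389 : ∀ i, i < 23389 → P i := stepQ 23388 Q23388 (allL N23388 (tt N21838 F45449) (tt N22239 F45450) (tt N24347 (iv F47897)) (tt N22911 F45451) (tt N22164 F45452) (tt N21834 (iv D23426)))
theorem Q23390 : ∀ i, i < 23390 → P i := stepQ 23389 Q23389 (allL N23389 (tt N24201 (iv F47506)) (tt N21835 (iv D23427)) (tt N22187 F45453) (tt N24439 D24477) (tt N22171 F45454) (tt N24432 (iv F48077)))
theorem Q23391 : ∀ i, i < 23391 → P i := stepQ 23390 Q23390 (allL N23390 (tt N21841 F45455) (tt N24439 (iv F48090)) (tt N24365 (iv F47931)) (tt N21835 (iv D23428)) (tt N24147 (iv F47350)) (tt N24370 (iv F47942)))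
theorem Q23392 : ∀ i, i < 23392 → P i := stepQ 23391 Q23391 (allL N23391 (tt N24346 (iv F47892)) (tt N22232 F45456) (tt N24440 D24478) (tt N21836 (iv D23429)) (tt N24345 (iv F47891)) (tt N24441 D24479))
theorem Q23393 : ∀ i, i < 23393 → P i := stepQ 23392 Q23392 (allL N23392 (tt N24347 (iv F47895)) (tt N22233 F45457) (tt N21838 F45458) (tt N24441 (iv F48092)) (tt N22167 F45459) (tt N21836 (iv D23430)))
theorem Q23394 : ∀ i, i < 23394 → P i := stepQ 23393 Q23393 (allL N23393 (tt N22828 F45460) (tt N24312 (iv F47782)) (tt N21837 (iv D23431)) (tt N24442 D24480) (tt N21839 F45461) (tt N24151 (iv F47363)))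
theorem Q23395 : ∀ i, i < 23395 → P i := stepQ 23394 Q23394 (allL N23394 (tt N22816 F45462) (tt N22837 F45463) (tt N23365 F45464) (tt N21839 (iv D23432)) (tt N24286 (iv F47719)) (tt N22830 F45465))
theorem Q23396 : ∀ i, i < 23396 → P i := stepQ 23395 Q23395 (allL N23395 (tt N21840 (iv D23433)) (tt N24201 (iv F47507)) (tt N21842 F45466) (tt N24443 D24481) (tt N22174 F45467) (tt N24436 (iv F48087)))
theorem Q23397 : ∀ i, i < 23397 → P i := stepQ 23396 Q23396 (allL N23396 (tt N24443 (iv F48094)) (tt N21841 F45468) (tt N24444 D24482) (tt N21840 (iv D23434)) (tt N24445 D24483) (tt N24437 (iv F48089)))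
theorem Q23398 : ∀ i, i < 23398 → P i := stepQ 23397 Q23397 (allL N23397 (tt N24365 (iv F47929)) (tt N24446 D24484) (tt N21841 (iv D23435)) (tt N24364 (iv F47928)) (tt N24447 D24485) (tt N24369 (iv F47939)))
theorem Q23399 : ∀ i, i < 23399 → P i := stepQ 23398 Q23398 (allL N23398 (tt N24147 (iv F47349)) (tt N24445 (iv F48095)) (tt N24447 (iv F48097)) (tt N22176 F45469) (tt N21841 (iv D23436)) (tt N24448 D24486))
theorem Q23400 : ∀ i, i < 23400 → P i := stepQ 23399 Q23399 (allL N23399 (tt N21843 F45470) (tt N22203 F45471) (tt N24449 D24487) (tt N21842 (iv D23437)) (tt N22182 F45472) (tt N22776 F45473))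
theorem Q23401 : ∀ i, i < 23401 → P i := stepQ 23400 Q23400 (allL N23400 (tt N24449 (iv F48099)) (tt N22477 F45474) (tt N21843 (iv D23438)) (tt N24450 D24488) (tt N22186 F45475) (tt N22774 F45476))
theorem Q23402 : ∀ i, i < 23402 → P i := stepQ 23401 Q23401 (allL N23401 (tt N21851 F45477) (tt N23230 F45478) (tt N21844 (iv D23439)) (tt N22544 F45479) (tt N22237 F45480) (tt N22760 F45481))
theorem Q23403 : ∀ i, i < 23403 → P i := stepQ 23402 Q23402 (allL N23402 (tt N23225 F45482) (tt N21848 F45483) (tt N24451 D24489) (tt N21845 (iv D23440)) (tt N21846 F45484) (tt N24452 D24490))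
theorem Q23404 : ∀ i, i < 23404 → P i := stepQ 23403 Q23403 (allL N23403 (tt N23620 (iv F46024)) (tt N21849 F45485) (tt N24344 (iv F47887)) (tt N24452 (iv F48108)) (tt N21862 F45486) (tt N21845 (iv D23441)))
theorem Q23405 : ∀ i, i < 23405 → P i := stepQ 23404 Q23404 (allL N23404 (tt N23621 (iv F46027)) (tt N24453 D24491) (tt N21846 (iv D23442)) (tt N24454 D24492) (tt N24451 (iv F48105)) (tt N24455 D24493))
theorem Q23406 : ∀ i, i < 23406 → P i := stepQ 23405 Q23405 (allL N23405 (tt N23622 (iv F46028)) (tt N21852 F45487) (tt N24455 (iv F48110)) (tt N21847 F45488) (tt N23746 (iv F46322)) (tt N21846 (iv D23443)))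
theorem Q23407 : ∀ i, i < 23407 → P i := stepQ 23406 Q23406 (allL N23406 (tt N22237 F45489) (tt N24456 D24494) (tt N21848 (iv D23444)) (tt N22862 F45491) (tt N21851 F45490) (tt N23217 (iv F45492)))
theorem Q23408 : ∀ i, i < 23408 → P i := stepQ 23407 Q23407 (allL N23407 (tt N22238 F45493) (tt N24452 (iv F48107)) (tt N23217 F45494) (tt N21849 F45495) (tt N24457 D24495) (tt N21848 (iv D23445)))
theorem Q23409 : ∀ i, i < 23409 → P i := stepQ 23408 Q23408 (allL N23408 (tt N21858 F45496) (tt N21862 F45497) (tt N21857 F45498) (tt N23742 (iv F46312)) (tt N21849 (iv D23446)) (tt N21850 F45499))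
theorem Q23410 : ∀ i, i < 23410 → P i := stepQ 23409 Q23409 (allL N23409 (tt N24458 D24496) (tt N21851 (iv D23447)) (tt N24453 (iv F48109)) (tt N23531 (iv F45792)) (tt N24456 (iv F48112)) (tt N23530 F45789))
theorem Q23411 : ∀ i, i < 23411 → P i := stepQ 23410 Q23410 (allL N23410 (tt N22795 F45500) (tt N23746 (iv F46321)) (tt N23532 (iv F45794)) (tt N22793 F45501) (tt N21852 (iv D23448)) (tt N24457 (iv F48117)))
theorem Q23412 : ∀ i, i < 23412 → P i := stepQ 23411 Q23411 (allL N23411 (tt N23551 (iv F45847)) (tt N23616 (iv F46013)) (tt N24459 D24497) (tt N21853 (iv D23449)) (tt N23616 (iv F46014)) (tt N24460 D24498))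
theorem Q23413 : ∀ i, i < 23413 → P i := stepQ 23412 Q23412 (allL N23412 (tt N23552 (iv F45848)) (tt N23617 (iv F46016)) (tt N21854 F45502) (tt N24460 (iv F48119)) (tt N23619 (iv F46023)) (tt N21853 (iv D23450)))
theorem Q23414 : ∀ i, i < 23414 → P i := stepQ 23413 Q23413 (allL N23413 (tt N22165 F45503) (tt N21860 F45504) (tt N21856 F45505) (tt N24461 D24499) (tt N21855 (iv D23451)) (tt N24462 D24500))
theorem Q23415 : ∀ i, i < 23415 → P i := stepQ 23414 Q23414 (allL N23414 (tt N22169 F45506) (tt N21857 F45507) (tt N24462 (iv F48126)) (tt N23226 F45508) (tt N22230 F45509) (tt N21856 (iv D23452)))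
theorem Q23416 : ∀ i, i < 23416 → P i := stepQ 23415 Q23415 (allL N23415 (tt N21862 F45510) (tt N22910 F45511) (tt N24342 (iv F47880)) (tt N22922 F45512) (tt N23620 (iv F46026)) (tt N21859 (iv D23453)))
theorem Q23417 : ∀ i, i < 23417 → P i := stepQ 23416 Q23416 (allL N23416 (tt N24334 (iv F47849)) (tt N24461 (iv F48121)) (tt N23661 (iv F46112)) (tt N21860 (iv D23454)) (tt N22276 F45513) (tt N24463 D24501))
theorem Q23418 : ∀ i, i < 23418 → P i := stepQ 23417 Q23417 (allL N23417 (tt N24342 (iv F47878)) (tt N24462 (iv F48125)) (tt N21862 F45514) (tt N24463 (iv F48129)) (tt N24344 (iv F47888)) (tt N21860 (iv D23455)))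
theorem Q23419 : ∀ i, i < 23419 → P i := stepQ 23418 Q23418 (allL N23418 (tt N22922 F45515) (tt N23742 (iv F46311)) (tt N23097 F45516) (tt N21862 F45517) (tt N23747 (iv F46324)) (tt N21861 (iv D23456)))
theorem Q23420 : ∀ i, i < 23420 → P i := stepQ 23419 Q23419 (allL N23419 (tt N24422 (iv F48047)) (tt N21867 F45518) (tt N24464 D24502) (tt N21866 (iv D23457)) (tt N24271 (iv F47685)) (tt N23839 (iv F46535)))
theorem Q23421 : ∀ i, i < 23421 → P i := stepQ 23420 Q23420 (allL N23420 (tt N23649 (iv F46075)) (tt N24465 D24503) (tt N21867 (iv D23458)) (tt N22298 F45519) (tt N24466 D24504) (tt N22297 F45520))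
theorem Q23422 : ∀ i, i < 23422 → P i := stepQ 23421 Q23421 (allL N23421 (tt N22345 F45521) (tt N24271 (iv F47683)) (tt N24466 (iv F48134)) (tt N21871 F45522) (tt N21867 (iv D23459)) (tt N22880 F45523))
theorem Q23423 : ∀ i, i < 23423 → P i := stepQ 23422 Q23422 (allL N23422 (tt N21869 F45524) (tt N21926 F45525) (tt N22683 (iv F45527)) (tt N21868 (iv D23460)) (tt N24268 (iv F47679)) (tt N22222 F45526))
theorem Q23424 : ∀ i, i < 23424 → P i := stepQ 23423 Q23423 (allL N23423 (tt N22455 F45528) (tt N21872 (iv D23461)) (tt N22741 F45529) (tt N24088 (iv F47204)) (tt N24040 (iv F47049)) (tt N23515 (iv F45748)))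
theorem Q23425 : ∀ i, i < 23425 → P i := stepQ 23424 Q23424 (allL N23424 (tt N24467 D24505) (tt N21874 (iv D23462)) (tt N21875 F45530) (tt N24468 D24506) (tt N22619 F45531) (tt N21877 F45532))
theorem Q23426 : ∀ i, i < 23426 → P i := stepQ 23425 Q23425 (allL N23425 (tt N24126 (iv F47285)) (tt N24468 (iv F48141)) (tt N24390 (iv F47974)) (tt N21874 (iv D23463)) (tt N23608 (iv F46002)) (tt N21878 F45533))
theorem Q23427 : ∀ i, i < 23427 → P i := stepQ 23426 Q23426 (allL N23426 (tt N21875 (iv D23464)) (tt N22624 F45534) (tt N24467 (iv F48138)) (tt N24382 (iv F47964)) (tt N22617 F45535) (tt N21879 F45536))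
theorem Q23428 : ∀ i, i < 23428 → P i := stepQ 23427 Q23427 (allL N23427 (tt N21878 F45537) (tt N23565 (iv F45881)) (tt N24341 (iv F47877)) (tt N21876 (iv D23465)) (tt N23562 (iv F45874)) (tt N24126 (iv F47286)))
theorem Q23429 : ∀ i, i < 23429 → P i := stepQ 23428 Q23428 (allL N23428 (tt N21877 (iv D23466)) (tt N22069 F45538) (tt N21879 F45539) (tt N24469 D24507) (tt N22068 F45540) (tt N24467 (iv F48140)))
theorem Q23430 : ∀ i, i < 23430 → P i := stepQ 23429 Q23429 (allL N23429 (tt N24469 (iv F48143)) (tt N21878 F45541) (tt N24470 D24508) (tt N21877 (iv D23467)) (tt N24471 D24509) (tt N24468 (iv F48142)))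
theorem Q23431 : ∀ i, i < 23431 → P i := stepQ 23430 Q23430 (allL N23430 (tt N24341 (iv F47874)) (tt N24472 D24510) (tt N21878 (iv D23468)) (tt N24340 (iv F47871)) (tt N24473 D24511) (tt N24390 (iv F47975)))
theorem Q23432 : ∀ i, i < 23432 → P i := stepQ 23431 Q23431 (allL N23431 (tt N23562 (iv F45872)) (tt N24471 (iv F48147)) (tt N24473 (iv F48149)) (tt N22614 F45542) (tt N21878 (iv D23469)) (tt N24474 D24512))
theorem Q23433 : ∀ i, i < 23433 → P i := stepQ 23432 Q23432 (allL N23432 (tt N21880 F45543) (tt N22623 F45544) (tt N24475 D24513) (tt N21879 (iv D23470)) (tt N22618 F45545) (tt N24382 (iv F47965)))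
theorem Q23434 : ∀ i, i < 23434 → P i := stepQ 23433 Q23433 (allL N23433 (tt N24475 (iv F48151)) (tt N22620 F45546) (tt N21880 (iv D23471)) (tt N24476 D24514) (tt N22620 F45547) (tt N24391 (iv F47978)))
theorem Q23435 : ∀ i, i < 23435 → P i := stepQ 23434 Q23434 (allL N23434 (tt N21882 F45548) (tt N24477 D24515) (tt N21881 (iv D23472)) (tt N24063 (iv F47123)) (tt N21915 F45549) (tt N23848 (iv F46561)))
theorem Q23436 : ∀ i, i < 23436 → P i := stepQ 23435 Q23435 (allL N23435 (tt N24063 (iv F47122)) (tt N23923 (iv F46775)) (tt N24061 (iv F47117)) (tt N21882 (iv D23473)) (tt N24041 (iv F47053)) (tt N23849 (iv F46563)))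
theorem Q23437 : ∀ i, i < 23437 → P i := stepQ 23436 Q23436 (allL N23436 (tt N21886 F45550) (tt N24268 (iv F47676)) (tt N21885 (iv D23474)) (tt N22485 F45553) (tt N21926 F45551) (tt N22447 F45552))
theorem Q23438 : ∀ i, i < 23438 → P i := stepQ 23437 Q23437 (allL N23437 (tt N22485 F45554) (tt N22345 F45555) (tt N22452 F45558) (tt N21886 (iv D23475)) (tt N22453 F45556) (tt N22448 F45557))
theorem Q23439 : ∀ i, i < 23439 → P i := stepQ 23438 Q23438 (allL N23438 (tt N21916 F45559) (tt N22021 (iv F45562)) (tt N21892 (iv D23476)) (tt N21915 F45560) (tt N21893 F45561) (tt N23922 (iv F46773)))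
theorem Q23440 : ∀ i, i < 23440 → P i := stepQ 23439 Q23439 (allL N23439 (tt N22018 F45563) (tt N21893 (iv D23477)) (tt N24420 (iv F48043)) (tt N24478 D24516) (tt N22021 F45564) (tt N24479 D24517))
theorem Q23441 : ∀ i, i < 23441 → P i := stepQ 23440 Q23440 (allL N23440 (tt N24041 (iv F47051)) (tt N24478 (iv F48158)) (tt N24064 (iv F47126)) (tt N21893 (iv D23478)) (tt N24063 F47124) (tt N24314 (iv F47790)))
theorem Q23442 : ∀ i, i < 23442 → P i := stepQ 23441 Q23441 (allL N23441 (tt N23867 F46634) (tt N24479 (iv F48161)) (tt N21894 F45565) (tt N24314 (iv F47789)) (tt N23868 (iv F46636)) (tt N21893 (iv D23479)))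
theorem Q23443 : ∀ i, i < 23443 → P i := stepQ 23442 Q23442 (allL N23442 (tt N24480 D24518) (tt N21896 (iv D23480)) (tt N21949 F45566) (tt N24220 F47558) (tt N24024 (iv F46995)) (tt N21906 F45567))
theorem Q23444 : ∀ i, i < 23444 → P i := stepQ 23443 Q23443 (allL N23443 (tt N21897 (iv D23481)) (tt N24480 (iv F48165)) (tt N21899 F45568) (tt N24066 (iv F47136)) (tt N21943 F45569) (tt N21908 F45570))
theorem Q23445 : ∀ i, i < 23445 → P i := stepQ 23444 Q23444 (allL N23444 (tt N24066 (iv F47133)) (tt N21898 F45571) (tt N24065 (iv F47131)) (tt N21897 (iv D23482)) (tt N23847 (iv F46558)) (tt N21909 F45572))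
theorem Q23446 : ∀ i, i < 23446 → P i := stepQ 23445 Q23445 (allL N23445 (tt N24062 (iv F47118)) (tt N23847 (iv F46555)) (tt N24060 (iv F47110)) (tt N24008 (iv F46954)) (tt N21898 (iv D23483)) (tt N23846 (iv F46553)))
theorem Q23447 : ∀ i, i < 23447 → P i := stepQ 23446 Q23446 (allL N23446 (tt N21901 F45573) (tt N24481 D24519) (tt N21900 (iv D23484)) (tt N22335 F45575) (tt N23858 (iv F46595)) (tt N21911 F45574))
theorem Q23448 : ∀ i, i < 23448 → P i := stepQ 23447 Q23447 (allL N23447 (tt N22335 F45576) (tt N21972 F45577) (tt N22331 F45579) (tt N21901 (iv D23485)) (tt N23897 (iv F46717)) (tt N21913 F45578))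
theorem Q23449 : ∀ i, i < 23449 → P i := stepQ 23448 Q23448 (allL N23448 (tt N22303 F45580) (tt N21903 F45581) (tt N21933 F45582) (tt N22302 F45583) (tt N21902 (iv D23486)) (tt N22328 (iv F45584)))
theorem Q23450 : ∀ i, i < 23450 → P i := stepQ 23449 Q23449 (allL N23449 (tt N21906 (iv D23487)) (tt N21908 F45585) (tt N21946 F45586) (tt N22356 F45587) (tt N21932 F45588) (tt N24480 (iv F48169)))
theorem Q23451 : ∀ i, i < 23451 → P i := stepQ 23450 Q23450 (allL N23450 (tt N24029 (iv F47004)) (tt N23849 (iv F46562)) (tt N23676 (iv F46151)) (tt N21910 (iv D23488)) (tt N23675 F46150) (tt N23923 (iv F46777)))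
theorem Q23452 : ∀ i, i < 23452 → P i := stepQ 23451 Q23451 (allL N23451 (tt N24482 D24520) (tt N21911 (iv D23489)) (tt N24477 (iv F48155)) (tt N24483 D24521) (tt N23994 (iv F46928)) (tt N24481 (iv F48172)))
theorem Q23453 : ∀ i, i < 23453 → P i := stepQ 23452 Q23452 (allL N23452 (tt N21913 F45589) (tt N24483 (iv F48177)) (tt N22336 F45590) (tt N21911 (iv D23490)) (tt N24484 D24522) (tt N22335 F45591))
theorem Q23454 : ∀ i, i < 23454 → P i := stepQ 23453 Q23453 (allL N23453 (tt N21912 (iv D23491)) (tt N24482 (iv F48173)) (tt N21914 F45592) (tt N24485 D24523) (tt N23889 (iv F46699)) (tt N21971 F45593))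
theorem Q23455 : ∀ i, i < 23455 → P i := stepQ 23454 Q23454 (allL N23454 (tt N24485 (iv F48181)) (tt N21913 F45594) (tt N24486 D24524) (tt N21912 (iv D23492)) (tt N24487 D24525) (tt N21972 F45595))
theorem Q23456 : ∀ i, i < 23456 → P i := stepQ 23455 Q23455 (allL N23455 (tt N22336 F45596) (tt N24488 D24526) (tt N21913 (iv D23493)) (tt N22332 F45597) (tt N24489 D24527) (tt N22331 F45598))
theorem Q23457 : ∀ i, i < 23457 → P i := stepQ 23456 Q23456 (allL N23456 (tt N24484 (iv F48179)) (tt N24487 (iv F48187)) (tt N24489 (iv F48193)) (tt N23997 (iv F46931)) (tt N21913 (iv D23494)) (tt N24490 D24528))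
theorem Q23458 : ∀ i, i < 23458 → P i := stepQ 23457 Q23457 (allL N23457 (tt N22022 F45599) (tt N21915 (iv D23495)) (tt N23994 (iv F46927)) (tt N22021 F45600) (tt N24477 (iv F48156)) (tt N23921 (iv F46769)))
theorem Q23459 : ∀ i, i < 23459 → P i := stepQ 23458 Q23458 (allL N23458 (tt N24416 (iv F48034)) (tt N21917 (iv D23496)) (tt N21919 F45601) (tt N22637 F45602) (tt N21989 F45603) (tt N23795 (iv F46434)))
theorem Q23460 : ∀ i, i < 23460 → P i := stepQ 23459 Q23459 (allL N23459 (tt N22629 F45604) (tt N23795 (iv F46432)) (tt N21918 F45605) (tt N22638 F45606) (tt N23796 (iv F46436)) (tt N21917 (iv D23497)))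
theorem Q23461 : ∀ i, i < 23461 → P i := stepQ 23460 Q23460 (allL N23460 (tt N22627 F45607) (tt N21920 F45608) (tt N23796 (iv F46435)) (tt N21985 F45609) (tt N21918 (iv D23498)) (tt N21992 F45610))
theorem Q23462 : ∀ i, i < 23462 → P i := stepQ 23461 Q23461 (allL N23461 (tt N21924 F45611) (tt N23758 (iv F46345)) (tt N23986 (iv F46916)) (tt N22228 F45612) (tt N23792 (iv F46427)) (tt N21923 (iv D23499)))
theorem Q23463 : ∀ i, i < 23463 → P i := stepQ 23462 Q23462 (allL N23462 (tt N23792 (iv F46425)) (tt N21925 F45613) (tt N23988 (iv F46919)) (tt N22767 F45614) (tt N21924 (iv D23500)) (tt N23151 F45615))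
theorem Q23464 : ∀ i, i < 23464 → P i := stepQ 23463 Q23463 (allL N23463 (tt N21940 F45616) (tt N21927 (iv D23501)) (tt N22328 F45617) (tt N21934 F45618) (tt N23998 (iv F46934)) (tt N21933 F45619))
theorem Q23465 : ∀ i, i < 23465 → P i := stepQ 23464 Q23464 (allL N23464 (tt N23993 (iv F46923)) (tt N24491 D24529) (tt N21928 (iv D23502)) (tt N23996 (iv F46930)) (tt N22326 F45620) (tt N23991 (iv F46922)))
theorem Q23466 : ∀ i, i < 23466 → P i := stepQ 23465 Q23465 (allL N23465 (tt N22039 F45621) (tt N21929 (iv D23503)) (tt N24491 (iv F48198)) (tt N22038 F45622) (tt N22327 F45623) (tt N23341 F45624))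
theorem Q23467 : ∀ i, i < 23467 → P i := stepQ 23466 Q23466 (allL N23466 (tt N21933 F45625) (tt N21936 F45626) (tt N22303 F45627) (tt N21932 (iv D23504)) (tt N22355 F45628) (tt N21940 F45629))
theorem Q23468 : ∀ i, i < 23468 → P i := stepQ 23467 Q23467 (allL N23467 (tt N21941 F45630) (tt N21935 F45631) (tt N21950 F45632) (tt N24492 D24530) (tt N21934 (iv D23505)) (tt N24024 (iv F46996)))
theorem Q23469 : ∀ i, i < 23469 → P i := stepQ 23468 Q23468 (allL N23468 (tt N21937 F45633) (tt N24492 (iv F48202)) (tt N24022 (iv F46991)) (tt N21935 (iv D23506)) (tt N23999 (iv F46937)) (tt N24025 (iv F46998)))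
theorem Q23470 : ∀ i, i < 23470 → P i := stepQ 23469 Q23469 (allL N23469 (tt N24022 (iv F46990)) (tt N24493 D24531) (tt N21937 (iv D23507)) (tt N24016 (iv F46973)) (tt N24000 (iv F46939)) (tt N24026 (iv F46999)))
theorem Q23471 : ∀ i, i < 23471 → P i := stepQ 23470 Q23470 (allL N23470 (tt N22328 F45634) (tt N22301 F45635) (tt N21940 (iv D23508)) (tt N22304 F45636) (tt N23851 (iv F46572)) (tt N22303 F45637))
theorem Q23472 : ∀ i, i < 23472 → P i := stepQ 23471 Q23471 (allL N23471 (tt N24492 (iv F48201)) (tt N21942 F45638) (tt N23870 (iv F46638)) (tt N21941 (iv D23509)) (tt N23870 (iv F46640)) (tt N23929 (iv F46797)))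
theorem Q23473 : ∀ i, i < 23473 → P i := stepQ 23472 Q23472 (allL N23472 (tt N24024 (iv F46993)) (tt N21943 F45639) (tt N23875 (iv F46658)) (tt N23929 (iv F46796)) (tt N24480 (iv F48168)) (tt N21941 (iv D23510)))
theorem Q23474 : ∀ i, i < 23474 → P i := stepQ 23473 Q23473 (allL N23473 (tt N23866 (iv F46626)) (tt N21944 (iv D23511)) (tt N24493 (iv F48203)) (tt N23865 F46625) (tt N23866 (iv F46628)) (tt N23928 (iv F46794)))
theorem Q23475 : ∀ i, i < 23475 → P i := stepQ 23474 Q23474 (allL N23474 (tt N21948 F45640) (tt N21956 F45641) (tt N24240 (iv F47606)) (tt N21946 (iv D23512)) (tt N23911 (iv F46743)) (tt N24494 D24532))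
theorem Q23476 : ∀ i, i < 23476 → P i := stepQ 23475 Q23475 (allL N23475 (tt N21949 F45642) (tt N21957 F45643) (tt N24480 (iv F48166)) (tt N24494 (iv F48207)) (tt N23875 (iv F46659)) (tt N21946 (iv D23513)))
theorem Q23477 : ∀ i, i < 23477 → P i := stepQ 23476 Q23476 (allL N23476 (tt N23911 (iv F46741)) (tt N21951 F45644) (tt N24495 D24533) (tt N21947 (iv D23514)) (tt N21948 F45645) (tt N22494 F45646))
theorem Q23478 : ∀ i, i < 23478 → P i := stepQ 23477 Q23477 (allL N23477 (tt N24240 (iv F47605)) (tt N22490 F45647) (tt N21948 (iv D23515)) (tt N22368 F45648) (tt N24495 (iv F48209)) (tt N22367 (iv F45649)))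
theorem Q23479 : ∀ i, i < 23479 → P i := stepQ 23478 Q23478 (allL N23478 (tt N24494 (iv F48204)) (tt N21953 F45650) (tt N22367 F45651) (tt N21949 F45652) (tt N24496 D24534) (tt N21948 (iv D23516)))
theorem Q23480 : ∀ i, i < 23480 → P i := stepQ 23479 Q23479 (allL N23479 (tt N23875 (iv F46656)) (tt N21954 F45653) (tt N24024 (iv F46994)) (tt N24497 D24535) (tt N21949 (iv D23517)) (tt N21950 F45654))
theorem Q23481 : ∀ i, i < 23481 → P i := stepQ 23480 Q23480 (allL N23480 (tt N23874 (iv F46652)) (tt N21955 F45655) (tt N23850 F46568) (tt N21950 (iv D23518)) (tt N24067 (iv F47140)) (tt N24497 (iv F48215)))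
theorem Q23482 : ∀ i, i < 23482 → P i := stepQ 23481 Q23481 (allL N23481 (tt N21968 F45656) (tt N24496 (iv F48211)) (tt N21984 F45657) (tt N24498 D24536) (tt N21953 (iv D23519)) (tt N22493 F45658))
theorem Q23483 : ∀ i, i < 23483 → P i := stepQ 23482 Q23482 (allL N23482 (tt N21969 F45659) (tt N24497 (iv F48214)) (tt N23860 (iv F46603)) (tt N21954 (iv D23520)) (tt N24498 (iv F48217)) (tt N21955 F45660))
theorem Q23484 : ∀ i, i < 23484 → P i := stepQ 23483 Q23483 (allL N23483 (tt N21970 F45661) (tt N23650 (iv F46079)) (tt N21955 (iv D23521)) (tt N23046 F45663) (tt N23062 F45662) (tt N23860 (iv F46604)))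
theorem Q23485 : ∀ i, i < 23485 → P i := stepQ 23484 Q23484 (allL N23484 (tt N21960 F45664) (tt N24499 D24537) (tt N21956 (iv D23522)) (tt N24486 (iv F48185)) (tt N23913 (iv F46751)) (tt N24500 D24538))
theorem Q23486 : ∀ i, i < 23486 → P i := stepQ 23485 Q23485 (allL N23485 (tt N21961 F45665) (tt N24494 (iv F48205)) (tt N24500 (iv F48222)) (tt N21957 F45666) (tt N24500 (iv F48224)) (tt N21956 (iv D23523)))
theorem Q23487 : ∀ i, i < 23487 → P i := stepQ 23486 Q23486 (allL N23486 (tt N23913 (iv F46749)) (tt N21963 F45667) (tt N21958 (iv D23524)) (tt N21959 F45669) (tt N21960 F45668) (tt N21958 (iv F45670)))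
theorem Q23488 : ∀ i, i < 23488 → P i := stepQ 23487 Q23487 (allL N23487 (tt N22493 (iv F45673)) (tt N21960 (iv D23525)) (tt N21966 F45671) (tt N24501 D24539) (tt N21963 F45672) (tt N21968 (iv F45674)))
theorem Q23489 : ∀ i, i < 23489 → P i := stepQ 23488 Q23488 (allL N23488 (tt N24486 (iv F48184)) (tt N24501 (iv F48226)) (tt N24485 (iv F48183)) (tt N21960 (iv D23526)) (tt N23882 F46680) (tt N23886 (iv F46693)))
theorem Q23490 : ∀ i, i < 23490 → P i := stepQ 23489 Q23489 (allL N23489 (tt N24500 (iv F48221)) (tt N21968 F45675) (tt N21961 F45676) (tt N23886 (iv F46692)) (tt N21961 F45677) (tt N21960 (iv D23527)))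
theorem Q23491 : ∀ i, i < 23491 → P i := stepQ 23490 Q23490 (allL N23490 (tt N24315 (iv F47791)) (tt N23882 (iv F46678)) (tt N24502 D24540) (tt N21964 (iv D23528)) (tt N24501 (iv F48227)) (tt N21965 F45678))
theorem Q23492 : ∀ i, i < 23492 → P i := stepQ 23491 Q23491 (allL N23491 (tt N23062 F45679) (tt N24503 D24541) (tt N21965 (iv D23529)) (tt N23049 F45681) (tt N21970 F45680) (tt N24502 (iv F48231)))
theorem Q23493 : ∀ i, i < 23493 → P i := stepQ 23492 Q23492 (allL N23492 (tt N21984 F45682) (tt N21967 F45683) (tt N21968 F45684) (tt N21977 F45685) (tt N21967 F45686) (tt N21966 (iv D23530)))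
theorem Q23494 : ∀ i, i < 23494 → P i := stepQ 23493 Q23493 (allL N23493 (tt N24498 (iv F48216)) (tt N23886 (iv F46690)) (tt N24504 D24542) (tt N21968 (iv D23531)) (tt N21969 F45687) (tt N24501 (iv F48228)))
theorem Q23495 : ∀ i, i < 23495 → P i := stepQ 23494 Q23494 (allL N23494 (tt N23860 (iv F46601)) (tt N24505 D24543) (tt N21969 (iv D23532)) (tt N22661 F45688) (tt N24504 (iv F48235)) (tt N21970 F45689))
theorem Q23496 : ∀ i, i < 23496 → P i := stepQ 23495 Q23495 (allL N23495 (tt N23148 (iv F45691)) (tt N21970 (iv D23533)) (tt N23883 (iv F46681)) (tt N23048 F45690) (tt N24503 (iv F48234)) (tt N24505 (iv F48239)))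
theorem Q23497 : ∀ i, i < 23497 → P i := stepQ 23496 Q23496 (allL N23496 (tt N24481 (iv F48170)) (tt N21971 (iv D23534)) (tt N24028 (iv F47002)) (tt N24506 D24544) (tt N23880 (iv F46675)) (tt N24482 (iv F48176)))
theorem Q23498 : ∀ i, i < 23498 → P i := stepQ 23497 Q23497 (allL N23497 (tt N21972 F45692) (tt N24506 (iv F48241)) (tt N23886 (iv F46691)) (tt N21971 (iv D23535)) (tt N23885 F46688) (tt N24485 (iv F48182)))
theorem Q23499 : ∀ i, i < 23499 → P i := stepQ 23498 Q23498 (allL N23498 (tt N23886 (iv F46689)) (tt N24507 D24545) (tt N21972 (iv D23536)) (tt N24500 (iv F48223)) (tt N23879 F46672) (tt N24486 (iv F48186)))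
theorem Q23500 : ∀ i, i < 23500 → P i := stepQ 23499 Q23499 (allL N23499 (tt N22478 F45693) (tt N22436 (iv F45696)) (tt N21973 (iv D23537)) (tt N22674 (iv F45697)) (tt N21975 F45694) (tt N22434 F45695))
theorem Q23501 : ∀ i, i < 23501 → P i := stepQ 23500 Q23500 (allL N23500 (tt N22492 (iv F45701)) (tt N21975 (iv D23538)) (tt N21977 F45698) (tt N24508 D24546) (tt N22436 F45699) (tt N22432 F45700))
theorem Q23502 : ∀ i, i < 23502 → P i := stepQ 23501 Q23501 (allL N23501 (tt N22480 F45702) (tt N24508 (iv F48244)) (tt N22448 F45703) (tt N21975 (iv D23539)) (tt N24509 D24547) (tt N22452 F45704))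
theorem Q23503 : ∀ i, i < 23503 → P i := stepQ 23502 Q23502 (allL N23502 (tt N21981 F45705) (tt N21976 (iv D23540)) (tt N22436 F45706) (tt N21976 (iv F45709)) (tt N21977 F45707) (tt N22435 F45708))
theorem Q23504 : ∀ i, i < 23504 → P i := stepQ 23503 Q23503 (allL N23503 (tt N22120 F45710) (tt N21980 F45711) (tt N23572 (iv F45904)) (tt N21979 F45712) (tt N24510 D24548) (tt N21978 (iv D23541)))
theorem Q23505 : ∀ i, i < 23505 → P i := stepQ 23504 Q23504 (allL N23504 (tt N22149 F45713) (tt N24510 (iv F48253)) (tt N22670 F45714) (tt N23302 F45715) (tt N21980 (iv D23542)) (tt N22143 F45716))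
theorem Q23506 : ∀ i, i < 23506 → P i := stepQ 23505 Q23505 (allL N23505 (tt N22436 F45717) (tt N23677 (iv F46155)) (tt N21981 (iv D23543)) (tt N22147 F45718) (tt N22492 F45719) (tt N22146 F45720))
theorem Q23507 : ∀ i, i < 23507 → P i := stepQ 23506 Q23506 (allL N23506 (tt N21983 F45721) (tt N21984 F45722) (tt N24039 (iv F47043)) (tt N21982 (iv D23544)) (tt N21983 F45723) (tt N22488 F45724))
theorem Q23508 : ∀ i, i < 23508 → P i := stepQ 23507 Q23507 (allL N23507 (tt N24417 (iv F48037)) (tt N21987 (iv D23545)) (tt N23975 (iv F46898)) (tt N24511 D24549) (tt N23820 (iv F46505)) (tt N24512 D24550))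
theorem Q23509 : ∀ i, i < 23509 → P i := stepQ 23508 Q23508 (allL N23508 (tt N21990 F45725) (tt N24511 (iv F48256)) (tt N23351 F45726) (tt N21987 (iv D23546)) (tt N24513 D24551) (tt N23350 F45727))
theorem Q23510 : ∀ i, i < 23510 → P i := stepQ 23509 Q23509 (allL N23509 (tt N21991 F45728) (tt N24512 (iv F48259)) (tt N21988 F45729) (tt N23350 F45730) (tt N24514 D24552) (tt N21987 (iv D23547)))
theorem Q23511 : ∀ i, i < 23511 → P i := stepQ 23510 Q23510 (allL N23510 (tt N21992 F45731) (tt N23914 (iv F46755)) (tt N24514 (iv F48266)) (tt N22628 F45732) (tt N21988 (iv D23548)) (tt N22627 F45733))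
theorem Q23512 : ∀ i, i < 23512 → P i := stepQ 23511 Q23511 (allL N23511 (tt N24513 (iv F48261)) (tt N23512 (iv F45737)) (tt N22445 F45734) (tt N22634 F45735) (tt N21990 (iv D23549)) (tt N22444 (iv F45736)))
theorem Q23513 : ∀ i, i < 23513 → P i := stepQ 23512 Q23512 (allL N23512 (tt N24514 (iv F48265)) (tt N23511 F45737) (tt N21992 F45738) (tt N23946 (iv F46826)) (tt N21991 (iv D23550)) (tt N23796 (iv F46437)))
theorem Q23514 : ∀ i, i < 23514 → P i := stepQ 23513 Q23513 (allL N23513 (tt N22000 F45739) (tt N23552 (iv F45849)) (tt N21995 (iv D23551)) (tt N24515 D24553) (tt N21997 F45740) (tt N22102 F45741))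
theorem Q23515 : ∀ i, i < 23515 → P i := stepQ 23514 Q23514 (allL N23514 (tt N23619 (iv F46020)) (tt N21997 (iv D23552)) (tt N22107 F45742) (tt N23926 (iv F46787)) (tt N23552 (iv F45851)) (tt N22106 F45743))
theorem Q23516 : ∀ i, i < 23516 → P i := stepQ 23515 Q23515 (allL N23515 (tt N21998 (iv D23553)) (tt N22005 F45744) (tt N22010 F45745) (tt N22877 F45746) (tt N22040 F45747) (tt N23423 F45748))
theorem Q23517 : ∀ i, i < 23517 → P i := stepQ 23516 Q23516 (allL N23516 (tt N23617 (iv F46015)) (tt N22000 (iv D23554)) (tt N22036 F45749) (tt N24516 D24554) (tt N22002 F45750) (tt N23363 (iv F45751)))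
theorem Q23518 : ∀ i, i < 23518 → P i := stepQ 23517 Q23517 (allL N23517 (tt N24515 (iv F48268)) (tt N24516 (iv F48271)) (tt N22874 F45752) (tt N22000 (iv D23555)) (tt N24517 D24555) (tt N22873 (iv F45753)))
theorem Q23519 : ∀ i, i < 23519 → P i := stepQ 23518 Q23518 (allL N23518 (tt N22102 F45754) (tt N23363 F45755) (tt N22001 F45756) (tt N22873 F45757) (tt N22101 F45758) (tt N22000 (iv D23556)))
theorem Q23520 : ∀ i, i < 23520 → P i := stepQ 23519 Q23519 (allL N23519 (tt N22002 (iv D23557)) (tt N23619 (iv F46021)) (tt N22038 F45759) (tt N24518 D24556) (tt N23617 (iv F46018)) (tt N23568 F45893))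
theorem Q23521 : ∀ i, i < 23521 → P i := stepQ 23520 Q23520 (allL N23520 (tt N24518 (iv F48275)) (tt N22003 F45760) (tt N24519 D24557) (tt N22002 (iv D23558)) (tt N24520 D24558) (tt N23924 (iv F46781)))
theorem Q23522 : ∀ i, i < 23522 → P i := stepQ 23521 Q23521 (allL N23521 (tt N23568 (iv F45890)) (tt N22004 F45761) (tt N22037 F45762) (tt N23924 (iv F46779)) (tt N22105 F45763) (tt N22002 (iv D23559)))
theorem Q23523 : ∀ i, i < 23523 → P i := stepQ 23522 Q23522 (allL N23522 (tt N23927 (iv F46788)) (tt N24520 (iv F48276)) (tt N23925 (iv F46783)) (tt N24517 (iv F48274)) (tt N22003 (iv D23560)) (tt N23927 (iv F46790)))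
theorem Q23524 : ∀ i, i < 23524 → P i := stepQ 23523 Q23523 (allL N23523 (tt N23193 F45764) (tt N22007 (iv D23561)) (tt N22042 F45765) (tt N23193 F45766) (tt N23865 (iv F46623)) (tt N22008 F45767))
theorem Q23525 : ∀ i, i < 23525 → P i := stepQ 23524 Q23524 (allL N23524 (tt N22008 (iv D23562)) (tt N22009 F45768) (tt N22040 F45769) (tt N22008 (iv F45772)) (tt N22010 F45770) (tt N23193 F45771))
theorem Q23526 : ∀ i, i < 23526 → P i := stepQ 23525 Q23525 (allL N23525 (tt N24420 (iv F48042)) (tt N22012 (iv D23563)) (tt N22018 F45773) (tt N23030 F45774) (tt N22014 F45775) (tt N23029 F45776))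
theorem Q23527 : ∀ i, i < 23527 → P i := stepQ 23526 Q23526 (allL N23526 (tt N22014 (iv D23564)) (tt N24419 (iv F48040)) (tt N22021 F45777) (tt N24521 D24559) (tt N24420 (iv F48045)) (tt N24522 D24560))
theorem Q23528 : ∀ i, i < 23528 → P i := stepQ 23527 Q23527 (allL N23527 (tt N24521 (iv F48277)) (tt N22015 F45778) (tt N24523 D24561) (tt N22014 (iv D23565)) (tt N24524 D24562) (tt N23366 (iv F45779)))
theorem Q23529 : ∀ i, i < 23529 → P i := stepQ 23528 Q23528 (allL N23528 (tt N24522 (iv F48279)) (tt N22016 F45780) (tt N22023 F45781) (tt N23366 F45782) (tt N23032 F45783) (tt N22014 (iv D23566)))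
theorem Q23530 : ∀ i, i < 23530 → P i := stepQ 23529 Q23529 (allL N23529 (tt N23044 F45784) (tt N24524 (iv F48285)) (tt N23200 F45785) (tt N23008 F45786) (tt N22015 (iv D23567)) (tt N23007 F45787))
theorem Q23531 : ∀ i, i < 23531 → P i := stepQ 23530 Q23530 (allL N23530 (tt N24478 (iv F48157)) (tt N22019 F45788) (tt N24525 D24563) (tt N22018 (iv D23568)) (tt N24526 D24564) (tt N23409 (iv F45789)))
theorem Q23532 : ∀ i, i < 23532 → P i := stepQ 23531 Q23531 (allL N23531 (tt N24479 (iv F48160)) (tt N22020 F45790) (tt N23029 F45791) (tt N23409 F45792) (tt N23031 (iv F45793)) (tt N22018 (iv D23569)))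
theorem Q23533 : ∀ i, i < 23533 → P i := stepQ 23532 Q23532 (allL N23532 (tt N23923 (iv F46774)) (tt N24526 (iv F48290)) (tt N23410 F45794) (tt N22024 F45795) (tt N22019 (iv D23570)) (tt N24029 (iv F47006)))
theorem Q23534 : ∀ i, i < 23534 → P i := stepQ 23533 Q23533 (allL N23533 (tt N22023 F45796) (tt N23922 (iv F46771)) (tt N24522 (iv F48280)) (tt N23921 (iv F46767)) (tt N24527 D24565) (tt N22021 (iv D23571)))
theorem Q23535 : ∀ i, i < 23535 → P i := stepQ 23534 Q23534 (allL N23534 (tt N23994 (iv F46926)) (tt N23889 (iv F46698)) (tt N22022 (iv D23572)) (tt N24528 D24566) (tt N24482 (iv F48175)) (tt N23890 (iv F46703)))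
theorem Q23536 : ∀ i, i < 23536 → P i := stepQ 23535 Q23535 (allL N23535 (tt N24477 (iv F48154)) (tt N22024 F45797) (tt N24482 (iv F48174)) (tt N24526 (iv F48291)) (tt N22022 (iv D23573)) (tt N24028 (iv F47003)))
theorem Q23537 : ∀ i, i < 23537 → P i := stepQ 23536 Q23536 (allL N23536 (tt N24527 (iv F48292)) (tt N22025 F45798) (tt N23032 F45799) (tt N23138 F45800) (tt N22023 (iv D23574)) (tt N23031 F45801))
theorem Q23538 : ∀ i, i < 23538 → P i := stepQ 23537 Q23537 (allL N23537 (tt N24529 D24567) (tt N22026 (iv D23575)) (tt N22637 F45802) (tt N23664 (iv F46120)) (tt N24530 D24568) (tt N23741 (iv F46309)))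
theorem Q23539 : ∀ i, i < 23539 → P i := stepQ 23538 Q23538 (allL N23538 (tt N22764 F45803) (tt N24530 (iv F48298)) (tt N22027 F45804) (tt N22805 F45805) (tt N22026 (iv D23576)) (tt N22804 F45806))
theorem Q23540 : ∀ i, i < 23540 → P i := stepQ 23539 Q23539 (allL N23539 (tt N22765 F45807) (tt N22635 F45808) (tt N22804 F45809) (tt N22034 F45810) (tt N23043 F45811) (tt N22027 (iv D23577)))
theorem Q23541 : ∀ i, i < 23541 → P i := stepQ 23540 Q23540 (allL N23540 (tt N22031 F45812) (tt N22033 F45813) (tt N22941 F45814) (tt N24009 (iv F46958)) (tt N22030 (iv D23578)) (tt N22031 F45815))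
theorem Q23542 : ∀ i, i < 23542 → P i := stepQ 23541 Q23541 (allL N23541 (tt N24009 (iv F46956)) (tt N22032 F45816) (tt N24531 D24569) (tt N22031 (iv D23579)) (tt N23928 (iv F46793)) (tt N24009 (iv F46959)))
theorem Q23543 : ∀ i, i < 23543 → P i := stepQ 23542 Q23542 (allL N23542 (tt N24491 (iv F48197)) (tt N23336 F45817) (tt N22039 (iv D23580)) (tt N24532 D24570) (tt N23663 (iv F46118)) (tt N23331 F45818))
theorem Q23544 : ∀ i, i < 23544 → P i := stepQ 23543 Q23543 (allL N23543 (tt N23089 F45819) (tt N22043 F45820) (tt N23865 (iv F46622)) (tt N23088 F45821) (tt N22042 (iv D23581)) (tt N23803 (iv F46457)))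
theorem Q23545 : ∀ i, i < 23545 → P i := stepQ 23544 Q23544 (allL N23544 (tt N22044 F45822) (tt N23088 F45823) (tt N23809 (iv F46469)) (tt N22043 (iv D23582)) (tt N22912 F45824) (tt N23804 (iv F46459)))
theorem Q23546 : ∀ i, i < 23546 → P i := stepQ 23545 Q23545 (allL N23545 (tt N23809 (iv F46468)) (tt N23086 F45825) (tt N22044 (iv D23583)) (tt N23806 (iv F46463)) (tt N22913 F45826) (tt N23805 (iv F46460)))
theorem Q23547 : ∀ i, i < 23547 → P i := stepQ 23546 Q23546 (allL N23546 (tt N22853 F45827) (tt N24183 (iv F47456)) (tt N22046 F45828) (tt N23355 F45829) (tt N24194 (iv F47488)) (tt N22045 (iv D23584)))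
theorem Q23548 : ∀ i, i < 23548 → P i := stepQ 23547 Q23547 (allL N23547 (tt N22476 F45830) (tt N22052 F45831) (tt N22055 F45832) (tt N23176 F45833) (tt N22051 (iv D23585)) (tt N23175 F45834))
theorem Q23549 : ∀ i, i < 23549 → P i := stepQ 23548 Q23548 (allL N23548 (tt N22055 F45835) (tt N24296 (iv F47742)) (tt N22476 F45836) (tt N23945 (iv F46825)) (tt N22054 (iv D23586)) (tt N23177 F45837))
theorem Q23550 : ∀ i, i < 23550 → P i := stepQ 23549 Q23549 (allL N23549 (tt N23177 F45838) (tt N22057 F45839) (tt N23175 F45840) (tt N23947 (iv F46829)) (tt N22346 F45841) (tt N22055 (iv D23587)))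
theorem Q23551 : ∀ i, i < 23551 → P i := stepQ 23550 Q23550 (allL N23550 (tt N22104 F45842) (tt N22221 F45843) (tt N22672 F45844) (tt N22311 F45845) (tt N22058 (iv D23588)) (tt N22675 (iv F45846)))
theorem Q23552 : ∀ i, i < 23552 → P i := stepQ 23551 Q23551 (allL N23551 (tt N23411 F45847) (tt N23579 (iv F45924)) (tt N24533 D24571) (tt N22061 (iv D23589)) (tt N24118 (iv F47263)) (tt N24534 D24572))
theorem Q23553 : ∀ i, i < 23553 → P i := stepQ 23552 Q23552 (allL N23552 (tt N23412 F45848) (tt N23513 F45849) (tt N22062 F45850) (tt N24534 (iv F48314)) (tt N23514 F45851) (tt N22061 (iv D23590)))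
theorem Q23554 : ∀ i, i < 23554 → P i := stepQ 23553 Q23553 (allL N23553 (tt N22063 (iv D23591)) (tt N22614 F45852) (tt N22072 F45853) (tt N24471 (iv F48148)) (tt N22067 F45854) (tt N23560 (iv F45867)))
theorem Q23555 : ∀ i, i < 23555 → P i := stepQ 23554 Q23554 (allL N23554 (tt N24471 (iv F48146)) (tt N22064 F45855) (tt N24535 D24573) (tt N22063 (iv D23592)) (tt N24469 (iv F48145)) (tt N24536 D24574))
theorem Q23556 : ∀ i, i < 23556 → P i := stepQ 23555 Q23555 (allL N23555 (tt N23560 (iv F45865)) (tt N22065 F45856) (tt N22074 F45857) (tt N24536 (iv F48317)) (tt N22093 F45858) (tt N22063 (iv D23593)))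
theorem Q23557 : ∀ i, i < 23557 → P i := stepQ 23556 Q23556 (allL N23556 (tt N23564 (iv F45877)) (tt N24536 (iv F48316)) (tt N22064 (iv D23594)) (tt N22065 F45859) (tt N24537 D24575) (tt N22064 (iv F45860)))
theorem Q23558 : ∀ i, i < 23558 → P i := stepQ 23557 Q23557 (allL N23557 (tt N23565 (iv F45880)) (tt N24469 (iv F48144)) (tt N24537 (iv F48318)) (tt N22069 F45861) (tt N22064 (iv D23595)) (tt N24538 D24576))
theorem Q23559 : ∀ i, i < 23559 → P i := stepQ 23558 Q23558 (allL N23558 (tt N23566 (iv F45883)) (tt N22093 F45862) (tt N22066 F45863) (tt N23968 (iv F46876)) (tt N22065 (iv D23596)) (tt N22071 F45864))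
theorem Q23560 : ∀ i, i < 23560 → P i := stepQ 23559 Q23559 (allL N23559 (tt N23582 (iv F45935)) (tt N24467 (iv F48137)) (tt N23659 (iv F46106)) (tt N24538 (iv F48319)) (tt N23965 F46870) (tt N22069 (iv D23597)))
theorem Q23561 : ∀ i, i < 23561 → P i := stepQ 23560 Q23560 (allL N23560 (tt N23555 F45865) (tt N23932 (iv F46804)) (tt N22073 (iv D23598)) (tt N24539 D24577) (tt N22094 F45866) (tt N23553 F45867))
theorem Q23562 : ∀ i, i < 23562 → P i := stepQ 23561 Q23561 (allL N23561 (tt N22081 F45868) (tt N22075 (iv D23599)) (tt N23932 (iv F46805)) (tt N22081 F45869) (tt N22095 F45870) (tt N22080 F45871))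
theorem Q23563 : ∀ i, i < 23563 → P i := stepQ 23562 Q23562 (allL N23562 (tt N23431 F45872) (tt N22077 F45873) (tt N24540 D24578) (tt N22076 (iv D23600)) (tt N23427 F45874) (tt N24541 D24579))
theorem Q23564 : ∀ i, i < 23564 → P i := stepQ 23563 Q23563 (allL N23563 (tt N23932 (iv F46803)) (tt N22078 F45875) (tt N22081 F45876) (tt N24541 (iv F48331)) (tt N24054 (iv F47091)) (tt N22076 (iv D23601)))
theorem Q23565 : ∀ i, i < 23565 → P i := stepQ 23564 Q23564 (allL N23564 (tt N23556 F45877) (tt N24541 (iv F48329)) (tt N22077 (iv D23602)) (tt N22078 F45878) (tt N24542 D24580) (tt N22077 (iv F45879)))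
theorem Q23566 : ∀ i, i < 23566 → P i := stepQ 23565 Q23565 (allL N23565 (tt N23557 F45880) (tt N23427 F45881) (tt N24542 (iv F48335)) (tt N22109 F45882) (tt N22077 (iv D23603)) (tt N24543 D24581))
theorem Q23567 : ∀ i, i < 23567 → P i := stepQ 23566 Q23566 (allL N23566 (tt N23558 F45883) (tt N24054 (iv F47089)) (tt N22079 F45884) (tt N24544 D24582) (tt N22078 (iv D23604)) (tt N22108 F45885))
theorem Q23568 : ∀ i, i < 23568 → P i := stepQ 23567 Q23567 (allL N23567 (tt N22125 F45886) (tt N24056 (iv F47094)) (tt N22128 F45887) (tt N22082 (iv D23605)) (tt N22096 F45888) (tt N22110 F45889))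
theorem Q23569 : ∀ i, i < 23569 → P i := stepQ 23568 Q23568 (allL N23568 (tt N23521 F45890) (tt N22155 F45891) (tt N22086 F45892) (tt N24545 D24583) (tt N22085 (iv D23606)) (tt N23519 (iv F45893)))
theorem Q23570 : ∀ i, i < 23570 → P i := stepQ 23569 Q23569 (allL N23569 (tt N23075 F45894) (tt N22116 F45895) (tt N22087 (iv D23607)) (tt N23569 F45896) (tt N22114 F45897) (tt N22163 F45898))
theorem Q23571 : ∀ i, i < 23571 → P i := stepQ 23570 Q23570 (allL N23570 (tt N22778 F45899) (tt N22090 F45900) (tt N22777 F45901) (tt N23597 (iv F45975)) (tt N22089 (iv D23608)) (tt N23573 (iv F45907)))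
theorem Q23572 : ∀ i, i < 23572 → P i := stepQ 23571 Q23571 (allL N23571 (tt N22619 F45902) (tt N23965 (iv F46867)) (tt N22617 F45903) (tt N23600 (iv F45984)) (tt N24467 (iv F48139)) (tt N22091 (iv D23609)))
theorem Q23573 : ∀ i, i < 23573 → P i := stepQ 23572 Q23572 (allL N23572 (tt N23574 (iv F45908)) (tt N23968 (iv F46874)) (tt N23503 F45904) (tt N22093 F45905) (tt N24546 D24584) (tt N22092 (iv D23610)))
theorem Q23574 : ∀ i, i < 23574 → P i := stepQ 23573 Q23573 (allL N23573 (tt N24054 (iv F47088)) (tt N22094 (iv D23611)) (tt N22095 F45906) (tt N24547 D24585) (tt N23932 (iv F46806)) (tt N23570 F45907))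
theorem Q23575 : ∀ i, i < 23575 → P i := stepQ 23574 Q23574 (allL N23574 (tt N23572 F45908) (tt N24547 (iv F48347)) (tt N22120 F45909) (tt N22094 (iv D23612)) (tt N24548 D24586) (tt N22126 F45910))
theorem Q23576 : ∀ i, i < 23576 → P i := stepQ 23575 Q23575 (allL N23575 (tt N24056 (iv F47093)) (tt N22096 F45911) (tt N24549 D24587) (tt N22095 (iv D23613)) (tt N24056 (iv F47096)) (tt N23687 (iv F46189)))
theorem Q23577 : ∀ i, i < 23577 → P i := stepQ 23576 Q23576 (allL N23576 (tt N22100 F45912) (tt N23004 F45913) (tt N23372 F45914) (tt N22099 (iv D23614)) (tt N24135 (iv F47320)) (tt N22993 F45915))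
theorem Q23578 : ∀ i, i < 23578 → P i := stepQ 23577 Q23577 (allL N23577 (tt N23372 F45916) (tt N22999 F45917) (tt N22100 (iv D23615)) (tt N23371 F45918) (tt N24550 D24588) (tt N22994 F45919))
theorem Q23579 : ∀ i, i < 23579 → P i := stepQ 23578 Q23578 (allL N23578 (tt N24135 (iv F47317)) (tt N22996 F45920) (tt N24550 (iv F48358)) (tt N23019 F45921) (tt N22100 (iv D23616)) (tt N23020 F45922))
theorem Q23580 : ∀ i, i < 23580 → P i := stepQ 23579 Q23579 (allL N23579 (tt N22873 F45923) (tt N23551 F45924) (tt N22868 F45925) (tt N22102 (iv D23617)) (tt N22873 F45926) (tt N24515 (iv F48270)))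
theorem Q23581 : ∀ i, i < 23581 → P i := stepQ 23580 Q23580 (allL N23580 (tt N22672 F45927) (tt N22339 F45928) (tt N22104 F45929) (tt N22671 (iv F45931)) (tt N22103 (iv D23618)) (tt N22676 (iv F45930)))
theorem Q23582 : ∀ i, i < 23582 → P i := stepQ 23581 Q23581 (allL N23581 (tt N22673 F45932) (tt N24053 (iv F47085)) (tt N22482 F45934) (tt N22108 (iv D23619)) (tt N22671 F45933) (tt N24544 (iv F48341)))
theorem Q23583 : ∀ i, i < 23583 → P i := stepQ 23582 Q23582 (allL N23582 (tt N23559 F45935) (tt N22892 F45936) (tt N22677 F45937) (tt N24543 (iv F48338)) (tt N22676 F45938) (tt N22109 (iv D23620)))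
theorem Q23584 : ∀ i, i < 23584 → P i := stepQ 23583 Q23583 (allL N23583 (tt N24276 (iv F47696)) (tt N23591 (iv F45959)) (tt N24551 D24589) (tt N22111 (iv D23621)) (tt N24552 D24590) (tt N23589 (iv F45954)))
theorem Q23585 : ∀ i, i < 23585 → P i := stepQ 23584 Q23584 (allL N23584 (tt N22291 (iv F45941)) (tt N22112 (iv D23622)) (tt N22286 F45939) (tt N24553 D24591) (tt N23073 F45940) (tt N23635 (iv F46050)))
theorem Q23586 : ∀ i, i < 23586 → P i := stepQ 23585 Q23585 (allL N23585 (tt N22115 F45942) (tt N24553 (iv F48365)) (tt N23589 (iv F45955)) (tt N22112 (iv D23623)) (tt N23585 F45943) (tt N24551 (iv F48362)))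
theorem Q23587 : ∀ i, i < 23587 → P i := stepQ 23586 Q23586 (allL N23586 (tt N22117 F45944) (tt N23635 (iv F46049)) (tt N22113 F45945) (tt N24551 (iv F48361)) (tt N24554 D24592) (tt N22112 (iv D23624)))
theorem Q23588 : ∀ i, i < 23588 → P i := stepQ 23587 Q23587 (allL N23587 (tt N22119 F45946) (tt N23302 F45947) (tt N24554 (iv F48370)) (tt N24510 (iv F48254)) (tt N22113 (iv D23625)) (tt N24275 (iv F47695)))
theorem Q23589 : ∀ i, i < 23589 → P i := stepQ 23588 Q23588 (allL N23588 (tt N22114 (iv D23626)) (tt N22291 F45948) (tt N22121 F45949) (tt N23590 (iv F45958)) (tt N23075 F45950) (tt N23166 F45951))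
theorem Q23590 : ∀ i, i < 23590 → P i := stepQ 23589 Q23589 (allL N23589 (tt N23590 (iv F45956)) (tt N22115 F45952) (tt N23585 F45955) (tt N22114 (iv D23627)) (tt N23589 F45953) (tt N23583 F45954))
theorem Q23591 : ∀ i, i < 23591 → P i := stepQ 23590 Q23590 (allL N23590 (tt N23589 F45956) (tt N23707 (iv F46233)) (tt N22115 (iv D23628)) (tt N23588 F45958) (tt N23590 F45957) (tt N24276 (iv F47699)))
theorem Q23592 : ∀ i, i < 23592 → P i := stepQ 23591 Q23591 (allL N23591 (tt N24551 (iv F48360)) (tt N23583 F45959) (tt N24276 (iv F47698)) (tt N22117 F45960) (tt N24555 D24593) (tt N22115 (iv D23629)))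
theorem Q23593 : ∀ i, i < 23593 → P i := stepQ 23592 Q23592 (allL N23592 (tt N24274 (iv F47688)) (tt N22163 F45961) (tt N22118 F45962) (tt N23592 F45963) (tt N24048 (iv F47076)) (tt N22116 (iv D23630)))
theorem Q23594 : ∀ i, i < 23594 → P i := stepQ 23593 Q23593 (allL N23593 (tt N24554 (iv F48368)) (tt N23301 F45964) (tt N22119 F45965) (tt N24556 D24594) (tt N22117 (iv D23631)) (tt N24048 (iv F47077)))
theorem Q23595 : ∀ i, i < 23595 → P i := stepQ 23594 Q23594 (allL N23594 (tt N24275 (iv F47692)) (tt N22122 F45966) (tt N24048 (iv F47075)) (tt N22135 F45967) (tt N22118 (iv D23632)) (tt N22119 F45968))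
theorem Q23596 : ∀ i, i < 23596 → P i := stepQ 23595 Q23595 (allL N23595 (tt N24510 (iv F48252)) (tt N22123 F45969) (tt N24548 (iv F48353)) (tt N22119 (iv D23633)) (tt N22120 F45970) (tt N22135 F45971))
theorem Q23597 : ∀ i, i < 23597 → P i := stepQ 23596 Q23596 (allL N23596 (tt N24557 D24595) (tt N22124 (iv D23634)) (tt N24547 F48349) (tt N23702 (iv F46218)) (tt N22141 F45972) (tt N22127 F45973))
theorem Q23598 : ∀ i, i < 23598 → P i := stepQ 23597 Q23597 (allL N23597 (tt N24053 (iv F47084)) (tt N22126 (iv D23635)) (tt N22127 F45974) (tt N23570 F45975) (tt N22133 F45976) (tt N24547 (iv F48348)))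
theorem Q23599 : ∀ i, i < 23599 → P i := stepQ 23598 Q23598 (allL N23598 (tt N22127 (iv D23636)) (tt N22150 F45977) (tt N24053 F47087) (tt N24558 D24596) (tt N22136 F45978) (tt N24557 (iv F48376)))
theorem Q23600 : ∀ i, i < 23600 → P i := stepQ 23599 Q23599 (allL N23599 (tt N24558 (iv F48377)) (tt N22128 F45979) (tt N24559 D24597) (tt N22127 (iv D23637)) (tt N22142 F45980) (tt N23702 (iv F46219)))
theorem Q23601 : ∀ i, i < 23601 → P i := stepQ 23600 Q23600 (allL N23600 (tt N22134 F45981) (tt N22668 F45982) (tt N22132 F45983) (tt N23571 F45984) (tt N24560 D24598) (tt N22131 (iv D23638)))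
theorem Q23602 : ∀ i, i < 23602 → P i := stepQ 23601 Q23601 (allL N23601 (tt N22135 F45985) (tt N22143 F45986) (tt N24560 (iv F48383)) (tt N24275 (iv F47694)) (tt N22132 (iv D23639)) (tt N24510 (iv F48255)))
theorem Q23603 : ∀ i, i < 23603 → P i := stepQ 23602 Q23602 (allL N23602 (tt N22133 (iv D23640)) (tt N22671 F45987) (tt N22136 F45988) (tt N22339 F45989) (tt N24053 (iv F47086)) (tt N22137 F45990))
theorem Q23604 : ∀ i, i < 23604 → P i := stepQ 23603 Q23603 (allL N23603 (tt N24560 (iv F48381)) (tt N22140 F45991) (tt N22135 F45992) (tt N24561 D24599) (tt N22134 (iv D23641)) (tt N24548 (iv F48354)))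
theorem Q23605 : ∀ i, i < 23605 → P i := stepQ 23604 Q23604 (allL N23604 (tt N22668 F45993) (tt N22137 (iv D23642)) (tt N22667 F45994) (tt N22676 F45995) (tt N24562 D24600) (tt N22671 F45996))
theorem Q23606 : ∀ i, i < 23606 → P i := stepQ 23605 Q23605 (allL N23605 (tt N22140 F45997) (tt N24562 (iv F48388)) (tt N22138 F45998) (tt N24563 D24601) (tt N22137 (iv D23643)) (tt N24564 D24602))
theorem Q23607 : ∀ i, i < 23607 → P i := stepQ 23606 Q23606 (allL N23606 (tt N22141 F45999) (tt N23689 (iv F46193)) (tt N24564 (iv F48395)) (tt N23289 F46000) (tt N24557 (iv F48375)) (tt N22138 (iv D23644)))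
theorem Q23608 : ∀ i, i < 23608 → P i := stepQ 23607 Q23607 (allL N23607 (tt N22142 F46001) (tt N23683 (iv F46175)) (tt N24565 D24603) (tt N22139 (iv D23645)) (tt N24558 (iv F48379)) (tt N23679 (iv F46164)))
theorem Q23609 : ∀ i, i < 23609 → P i := stepQ 23608 Q23608 (allL N23608 (tt N24563 (iv F48390)) (tt N24561 (iv F48385)) (tt N24566 D24604) (tt N22140 (iv D23646)) (tt N23425 F46002) (tt N24567 D24605))
theorem Q23610 : ∀ i, i < 23610 → P i := stepQ 23609 Q23609 (allL N23609 (tt N24564 (iv F48394)) (tt N24548 (iv F48352)) (tt N22141 F46003) (tt N24567 (iv F48405)) (tt N24547 F48350) (tt N22140 (iv D23647)))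
theorem Q23611 : ∀ i, i < 23611 → P i := stepQ 23610 Q23610 (allL N23610 (tt N24565 (iv F48397)) (tt N24549 (iv F48355)) (tt N22142 (iv D23648)) (tt N24565 (iv F48398)) (tt N24559 (iv F48380)) (tt N23686 (iv F46185)))
theorem Q23612 : ∀ i, i < 23612 → P i := stepQ 23611 Q23611 (allL N23611 (tt N23678 (iv F46158)) (tt N22147 F46004) (tt N22152 F46005) (tt N23677 (iv F46157)) (tt N23693 (iv F46200)) (tt N22145 (iv D23649)))
theorem Q23613 : ∀ i, i < 23613 → P i := stepQ 23612 Q23612 (allL N23612 (tt N22670 F46006) (tt N23693 (iv F46198)) (tt N22149 F46007) (tt N24568 D24606) (tt N22147 (iv D23650)) (tt N22148 F46008))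
theorem Q23614 : ∀ i, i < 23614 → P i := stepQ 23613 Q23613 (allL N23613 (tt N22666 F46009) (tt N23692 (iv F46197)) (tt N23646 (iv F46070)) (tt N22148 (iv D23651)) (tt N22659 F46010) (tt N24568 (iv F48409)))
theorem Q23615 : ∀ i, i < 23615 → P i := stepQ 23614 Q23614 (allL N23614 (tt N22151 F46011) (tt N24558 (iv F48378)) (tt N23683 (iv F46176)) (tt N22150 (iv D23652)) (tt N23683 F46178) (tt N23682 F46173))
theorem Q23616 : ∀ i, i < 23616 → P i := stepQ 23615 Q23615 (allL N23615 (tt N22152 F46012) (tt N24557 (iv F48374)) (tt N23678 (iv F46159)) (tt N23682 (iv F46172)) (tt N23689 (iv F46195)) (tt N22150 (iv D23653)))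
theorem Q23617 : ∀ i, i < 23617 → P i := stepQ 23616 Q23616 (allL N23616 (tt N24118 (iv F47261)) (tt N23411 F46013) (tt N24569 D24607) (tt N22153 (iv D23654)) (tt N23411 F46014) (tt N24570 D24608))
theorem Q23618 : ∀ i, i < 23618 → P i := stepQ 23617 Q23617 (allL N23617 (tt N23516 F46015) (tt N23412 F46016) (tt N22154 F46017) (tt N24570 (iv F48413)) (tt N23519 F46018) (tt N22153 (iv D23655)))
theorem Q23619 : ∀ i, i < 23619 → P i := stepQ 23618 Q23618 (allL N23618 (tt N22605 F46019) (tt N24545 (iv F48343)) (tt N24571 D24609) (tt N22155 (iv D23656)) (tt N24545 (iv F48344)) (tt N24572 D24610))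
theorem Q23620 : ∀ i, i < 23620 → P i := stepQ 23619 Q23619 (allL N23619 (tt N23514 F46020) (tt N23519 F46021) (tt N22156 F46022) (tt N24572 (iv F48421)) (tt N23412 F46023) (tt N22155 (iv D23657)))
theorem Q23621 : ∀ i, i < 23621 → P i := stepQ 23620 Q23620 (allL N23620 (tt N23403 F46024) (tt N23671 (iv F46133)) (tt N23272 F46025) (tt N24313 (iv F47785)) (tt N23415 F46026) (tt N22158 (iv D23658)))
theorem Q23622 : ∀ i, i < 23622 → P i := stepQ 23621 Q23621 (allL N23621 (tt N23404 F46027) (tt N24305 (iv F47772)) (tt N22159 (iv D23659)) (tt N24573 D24611) (tt N24307 (iv F47778)) (tt N24574 D24612))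
theorem Q23623 : ∀ i, i < 23623 → P i := stepQ 23622 Q23622 (allL N23622 (tt N23405 F46028) (tt N22348 F46029) (tt N24574 (iv F48426)) (tt N22160 F46030) (tt N22359 (iv F46031)) (tt N22159 (iv D23660)))
theorem Q23624 : ∀ i, i < 23624 → P i := stepQ 23623 Q23623 (allL N23623 (tt N24461 (iv F48120)) (tt N22166 F46032) (tt N24461 (iv F48123)) (tt N22165 (iv D23661)) (tt N24372 (iv F47945)) (tt N24575 D24613))
theorem Q23625 : ∀ i, i < 23625 → P i := stepQ 23624 Q23624 (allL N23624 (tt N24462 (iv F48124)) (tt N22167 F46033) (tt N22169 F46034) (tt N24575 (iv F48430)) (tt N22233 F46035) (tt N22165 (iv D23662)))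
theorem Q23626 : ∀ i, i < 23626 → P i := stepQ 23625 Q23625 (allL N23625 (tt N24373 (iv F47947)) (tt N23661 (iv F46111)) (tt N22166 (iv D23663)) (tt N23124 F46037) (tt N23334 F46036) (tt N24576 D24614))
theorem Q23627 : ∀ i, i < 23627 → P i := stepQ 23626 Q23626 (allL N23626 (tt N24374 (iv F47950)) (tt N24575 (iv F48429)) (tt N24576 (iv F48432)) (tt N22167 F46038) (tt N24577 D24615) (tt N22166 (iv D23664)))
theorem Q23628 : ∀ i, i < 23628 → P i := stepQ 23627 Q23627 (allL N23627 (tt N22178 F46039) (tt N24154 (iv F47372)) (tt N22173 F46040) (tt N24578 D24616) (tt N22172 (iv D23665)) (tt N24431 (iv F48075)))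
theorem Q23629 : ∀ i, i < 23629 → P i := stepQ 23628 Q23628 (allL N23628 (tt N23704 (iv F46223)) (tt N22176 F46041) (tt N23703 (iv F46222)) (tt N24445 (iv F48096)) (tt N22175 (iv D23666)) (tt N24579 D24617))
theorem Q23630 : ∀ i, i < 23630 → P i := stepQ 23629 Q23629 (allL N23629 (tt N24148 (iv F47351)) (tt N24579 (iv F48438)) (tt N24125 F47284) (tt N24448 (iv F48098)) (tt N24580 D24618) (tt N22176 (iv D23667)))
theorem Q23631 : ∀ i, i < 23631 → P i := stepQ 23630 Q23630 (allL N23630 (tt N23709 (iv F46239)) (tt N22183 F46042) (tt N23708 (iv F46238)) (tt N24581 D24619) (tt N22177 (iv D23668)) (tt N24580 (iv F48443)))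
theorem Q23632 : ∀ i, i < 23632 → P i := stepQ 23631 Q23631 (allL N23631 (tt N24578 (iv F48437)) (tt N22184 F46043) (tt N24582 D24620) (tt N22178 (iv D23669)) (tt N24581 (iv F48445)) (tt N24435 (iv F48084)))
theorem Q23633 : ∀ i, i < 23633 → P i := stepQ 23632 Q23632 (allL N23632 (tt N24154 (iv F47371)) (tt N22180 F46044) (tt N24197 (iv F47495)) (tt N24583 D24621) (tt N22179 (iv D23670)) (tt N24584 D24622))
theorem Q23634 : ∀ i, i < 23634 → P i := stepQ 23633 Q23633 (allL N23633 (tt N22184 F46045) (tt N24583 (iv F48447)) (tt N23636 (iv F46052)) (tt N22180 (iv D23671)) (tt N23638 (iv F46055)) (tt N24585 D24623))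
theorem Q23635 : ∀ i, i < 23635 → P i := stepQ 23634 Q23634 (allL N23634 (tt N22185 F46046) (tt N24584 (iv F48448)) (tt N22181 F46047) (tt N24585 (iv F48450)) (tt N24436 (iv F48086)) (tt N22180 (iv D23672)))
theorem Q23636 : ∀ i, i < 23636 → P i := stepQ 23635 Q23635 (allL N23635 (tt N22186 F46048) (tt N23586 F46049) (tt N22182 (iv D23673)) (tt N24586 D24624) (tt N24449 (iv F48100)) (tt N23584 F46050))
theorem Q23637 : ∀ i, i < 23637 → P i := stepQ 23636 Q23636 (allL N23636 (tt N23638 (iv F46054)) (tt N24581 (iv F48444)) (tt N23633 F46052) (tt N22183 (iv D23674)) (tt N22184 F46051) (tt N24587 D24625))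
theorem Q23638 : ∀ i, i < 23638 → P i := stepQ 23637 Q23637 (allL N23637 (tt N24208 (iv F47524)) (tt N24580 (iv F48441)) (tt N22289 F46053) (tt N24587 (iv F48456)) (tt N24579 (iv F48440)) (tt N22183 (iv D23675)))
theorem Q23639 : ∀ i, i < 23639 → P i := stepQ 23638 Q23638 (allL N23638 (tt N23636 F46054) (tt N24588 D24626) (tt N22184 (iv D23676)) (tt N23065 F46056) (tt N23633 F46055) (tt N24589 D24627))
theorem Q23640 : ∀ i, i < 23640 → P i := stepQ 23639 Q23639 (allL N23639 (tt N24585 (iv F48449)) (tt N24435 (iv F48083)) (tt N24589 (iv F48461)) (tt N22185 F46057) (tt N24590 D24628) (tt N22184 (iv D23677)))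
theorem Q23641 : ∀ i, i < 23641 → P i := stepQ 23640 Q23640 (allL N23640 (tt N24586 (iv F48451)) (tt N24276 (iv F47697)) (tt N24586 (iv F48453)) (tt N22186 (iv D23678)) (tt N24591 D24629) (tt N23707 (iv F46235)))
theorem Q23642 : ∀ i, i < 23642 → P i := stepQ 23641 Q23641 (allL N23641 (tt N24202 (iv F47509)) (tt N22188 F46058) (tt N24592 D24630) (tt N22187 (iv D23679)) (tt N23713 (iv F46248)) (tt N24593 D24631))
theorem Q23643 : ∀ i, i < 23643 → P i := stepQ 23642 Q23642 (allL N23642 (tt N24203 (iv F47512)) (tt N22189 F46059) (tt N24432 (iv F48076)) (tt N24593 (iv F48466)) (tt N24262 (iv F47661)) (tt N22187 (iv D23680)))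
theorem Q23644 : ∀ i, i < 23644 → P i := stepQ 23643 Q23643 (allL N23643 (tt N22200 F46060) (tt N24593 (iv F48465)) (tt N22207 F46061) (tt N22189 F46062) (tt N24120 (iv F47265)) (tt N22188 (iv D23681)))
theorem Q23645 : ∀ i, i < 23645 → P i := stepQ 23644 Q23644 (allL N23644 (tt N22201 F46063) (tt N24262 (iv F47660)) (tt N22191 F46064) (tt N24594 D24632) (tt N22189 (iv D23682)) (tt N22190 F46065))
theorem Q23646 : ∀ i, i < 23646 → P i := stepQ 23645 Q23645 (allL N23645 (tt N22202 F46066) (tt N24261 (iv F47658)) (tt N22526 F46068) (tt N22190 (iv D23683)) (tt N22528 F46067) (tt N24594 (iv F48469)))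
theorem Q23647 : ∀ i, i < 23647 → P i := stepQ 23646 Q23646 (allL N23646 (tt N22194 F46069) (tt N24202 (iv F47510)) (tt N23613 F46070) (tt N22192 (iv D23684)) (tt N23960 (iv F46853)) (tt N24595 D24633))
theorem Q23648 : ∀ i, i < 23648 → P i := stepQ 23647 Q23647 (allL N23647 (tt N22195 F46071) (tt N24203 (iv F47513)) (tt N22204 F46072) (tt N24595 (iv F48472)) (tt N24198 (iv F47498)) (tt N22192 (iv D23685)))
theorem Q23649 : ∀ i, i < 23649 → P i := stepQ 23648 Q23648 (allL N23648 (tt N24595 (iv F48470)) (tt N22200 F46073) (tt N23963 (iv F46862)) (tt N22195 F46074) (tt N24596 D24634) (tt N22194 (iv D23686)))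
theorem Q23650 : ∀ i, i < 23650 → P i := stepQ 23649 Q23649 (allL N23649 (tt N23420 F46075) (tt N23789 (iv F46418)) (tt N22502 F46076) (tt N22197 F46077) (tt N23740 (iv F46306)) (tt N22196 (iv D23687)))
theorem Q23651 : ∀ i, i < 23651 → P i := stepQ 23650 Q23650 (allL N23650 (tt N22528 F46078) (tt N23483 F46079) (tt N22521 F46082) (tt N22198 (iv D23688)) (tt N22202 F46080) (tt N22535 F46081))
theorem Q23652 : ∀ i, i < 23652 → P i := stepQ 23651 Q23651 (allL N23651 (tt N23360 (iv F46085)) (tt N22199 (iv D23689)) (tt N23802 (iv F46453)) (tt N22499 F46083) (tt N22500 F46084) (tt N23799 (iv F46445)))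
theorem Q23653 : ∀ i, i < 23653 → P i := stepQ 23652 Q23652 (allL N23652 (tt N24120 (iv F47264)) (tt N24596 (iv F48473)) (tt N23719 F46263) (tt N24597 D24635) (tt N22200 (iv D23690)) (tt N23740 (iv F46307)))
theorem Q23654 : ∀ i, i < 23654 → P i := stepQ 23653 Q23653 (allL N23653 (tt N24594 (iv F48467)) (tt N24207 (iv F47522)) (tt N22800 F46086) (tt N22201 (iv D23691)) (tt N24597 (iv F48476)) (tt N22202 F46087))
theorem Q23655 : ∀ i, i < 23655 → P i := stepQ 23654 Q23654 (allL N23654 (tt N22206 (iv D23692)) (tt N23659 (iv F46105)) (tt N22624 F46088) (tt N24598 D24636) (tt N23152 F46089) (tt N22621 F46090))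
theorem Q23656 : ∀ i, i < 23656 → P i := stepQ 23655 Q23655 (allL N23655 (tt N24598 (iv F48478)) (tt N22207 F46091) (tt N24599 D24637) (tt N22206 (iv D23693)) (tt N23156 F46092) (tt N22622 F46093))
theorem Q23657 : ∀ i, i < 23657 → P i := stepQ 23656 Q23656 (allL N23656 (tt N22212 F46094) (tt N22212 F46095) (tt N22211 (iv D23694)) (tt N24300 (iv F47760)) (tt N22212 F46096) (tt N22212 F46097))
theorem Q23658 : ∀ i, i < 23658 → P i := stepQ 23657 Q23657 (allL N23657 (tt N24300 (iv F47756)) (tt N24300 (iv F47757)) (tt N22214 F46098) (tt N22212 (iv D23695)) (tt N24299 (iv F47754)) (tt N24300 (iv F47759)))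
theorem Q23659 : ∀ i, i < 23659 → P i := stepQ 23658 Q23658 (allL N23658 (tt N22895 F46099) (tt N22214 F46100) (tt N22216 F46101) (tt N22213 (iv D23696)) (tt N22894 F46102) (tt N22216 F46103))
theorem Q23660 : ∀ i, i < 23660 → P i := stepQ 23659 Q23659 (allL N23659 (tt N22677 F46104) (tt N23654 F46105) (tt N23559 F46106) (tt N24425 (iv F48060)) (tt N22675 F46107) (tt N22215 (iv D23697)))
theorem Q23661 : ∀ i, i < 23661 → P i := stepQ 23660 Q23660 (allL N23660 (tt N22218 F46108) (tt N23843 (iv F46546)) (tt N23256 F46109) (tt N22217 (iv D23698)) (tt N24600 D24638) (tt N23254 F46110))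
theorem Q23662 : ∀ i, i < 23662 → P i := stepQ 23661 Q23661 (allL N23661 (tt N24600 (iv F48484)) (tt N23625 F46111) (tt N23416 F46112) (tt N24227 F47577) (tt N22218 (iv D23699)) (tt N24225 (iv F47578)))
theorem Q23663 : ∀ i, i < 23663 → P i := stepQ 23662 Q23662 (allL N23662 (tt N23844 (iv F46547)) (tt N22887 F46113) (tt N22883 F46114) (tt N22219 (iv D23700)) (tt N24227 (iv F47576)) (tt N22882 (iv F46115)))
theorem Q23664 : ∀ i, i < 23664 → P i := stepQ 23663 Q23663 (allL N23663 (tt N23725 F46276) (tt N24407 (iv F48013)) (tt N22220 F46116) (tt N22882 F46117) (tt N23542 F46118) (tt N22219 (iv D23701)))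
theorem Q23665 : ∀ i, i < 23665 → P i := stepQ 23664 Q23664 (allL N23664 (tt N24601 D24639) (tt N22225 (iv D23702)) (tt N22380 F46119) (tt N23537 F46120) (tt N22379 F46121) (tt N23356 F46122))
theorem Q23666 : ∀ i, i < 23666 → P i := stepQ 23665 Q23665 (allL N23665 (tt N22232 F46123) (tt N24343 (iv F47883)) (tt N24602 D24640) (tt N22229 (iv D23703)) (tt N22265 F46124) (tt N24603 D24641))
theorem Q23667 : ∀ i, i < 23667 → P i := stepQ 23666 Q23666 (allL N23666 (tt N22233 F46125) (tt N24344 (iv F47886)) (tt N22230 F46126) (tt N24603 (iv F48497)) (tt N24462 (iv F48127)) (tt N22229 (iv D23704)))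
theorem Q23668 : ∀ i, i < 23668 → P i := stepQ 23667 Q23667 (allL N23667 (tt N22265 F46127) (tt N24345 (iv F47890)) (tt N24604 D24642) (tt N22231 (iv D23705)) (tt N22232 F46128) (tt N24605 D24643))
theorem Q23669 : ∀ i, i < 23669 → P i := stepQ 23668 Q23668 (allL N23668 (tt N22266 F46129) (tt N24327 (iv F47839)) (tt N22263 F46130) (tt N24605 (iv F48501)) (tt N24323 (iv F47829)) (tt N22231 (iv D23706)))
theorem Q23670 : ∀ i, i < 23670 → P i := stepQ 23669 Q23669 (allL N23669 (tt N24602 (iv F48491)) (tt N24606 D24644) (tt N22232 (iv D23707)) (tt N24607 D24645) (tt N24604 (iv F48499)) (tt N24608 D24646))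
theorem Q23671 : ∀ i, i < 23671 → P i := stepQ 23670 Q23670 (allL N23670 (tt N24603 (iv F48495)) (tt N24441 (iv F48091)) (tt N24608 (iv F48506)) (tt N22233 F46131) (tt N24609 D24647) (tt N22232 (iv D23708)))
theorem Q23672 : ∀ i, i < 23672 → P i := stepQ 23671 Q23671 (allL N23671 (tt N22236 F46132) (tt N23620 F46133) (tt N22239 F46134) (tt N23224 F46135) (tt N22910 F46136) (tt N22234 (iv D23709)))
theorem Q23673 : ∀ i, i < 23673 → P i := stepQ 23672 Q23672 (allL N23672 (tt N23224 F46137) (tt N22238 F46138) (tt N22820 F46139) (tt N22236 F46140) (tt N23744 (iv F46317)) (tt N22235 (iv D23710)))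
theorem Q23674 : ∀ i, i < 23674 → P i := stepQ 23673 Q23673 (allL N23673 (tt N24610 D24648) (tt N22237 (iv D23711)) (tt N23221 F46141) (tt N24611 D24649) (tt N23230 F46142) (tt N24612 D24650))
theorem Q23675 : ∀ i, i < 23675 → P i := stepQ 23674 Q23674 (allL N23674 (tt N22862 F46143) (tt N24611 (iv F48510)) (tt N22731 F46144) (tt N22237 (iv D23712)) (tt N22546 F46145) (tt N22730 F46146))
theorem Q23676 : ∀ i, i < 23676 → P i := stepQ 23675 Q23675 (allL N23675 (tt N23217 F46147) (tt N24612 (iv F48513)) (tt N22238 F46148) (tt N22730 F46149) (tt N23450 (iv F46150)) (tt N22237 (iv D23713)))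
theorem Q23677 : ∀ i, i < 23677 → P i := stepQ 23676 Q23676 (allL N23676 (tt N24457 (iv F48114)) (tt N23744 (iv F46315)) (tt N23450 F46151) (tt N22796 F46152) (tt N22238 (iv D23714)) (tt N22795 F46153))
theorem Q23678 : ∀ i, i < 23678 → P i := stepQ 23677 Q23677 (allL N23677 (tt N22246 F46154) (tt N23505 F46155) (tt N22244 F46156) (tt N23611 F46157) (tt N23823 (iv F46512)) (tt N22243 (iv D23715)))
theorem Q23679 : ∀ i, i < 23679 → P i := stepQ 23678 Q23678 (allL N23678 (tt N23611 F46158) (tt N23822 (iv F46508)) (tt N23615 F46159) (tt N22246 F46160) (tt N24613 D24651) (tt N22245 (iv D23716)))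
theorem Q23680 : ∀ i, i < 23680 → P i := stepQ 23679 Q23679 (allL N23679 (tt N22260 F46161) (tt N22250 F46162) (tt N24614 D24652) (tt N22248 (iv D23717)) (tt N22277 F46163) (tt N23607 F46164))
theorem Q23681 : ∀ i, i < 23681 → P i := stepQ 23680 Q23680 (allL N23680 (tt N22253 F46165) (tt N22277 F46166) (tt N24615 D24653) (tt N22249 (iv D23718)) (tt N22250 F46167) (tt N24615 F48528))
theorem Q23682 : ∀ i, i < 23682 → P i := stepQ 23681 Q23681 (allL N23681 (tt N22254 F46168) (tt N22278 F46169) (tt N24323 (iv F47828)) (tt N24615 (iv F48526)) (tt N22263 F46170) (tt N22249 (iv D23719)))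
theorem Q23683 : ∀ i, i < 23683 → P i := stepQ 23682 Q23682 (allL N23682 (tt N22255 F46171) (tt N24616 D24654) (tt N22250 (iv D23720)) (tt N23615 F46172) (tt N24615 (iv F48527)) (tt N23614 (iv F46173)))
theorem Q23684 : ∀ i, i < 23684 → P i := stepQ 23683 Q23683 (allL N23683 (tt N22256 F46174) (tt N23607 F46175) (tt N23614 F46176) (tt N22251 F46177) (tt N23614 (iv F46178)) (tt N22250 (iv D23721)))
theorem Q23685 : ∀ i, i < 23685 → P i := stepQ 23684 Q23684 (allL N23684 (tt N24372 (iv F47943)) (tt N22276 F46179) (tt N24372 (iv F47946)) (tt N22252 (iv D23722)) (tt N24461 (iv F48122)) (tt N24324 (iv F47832)))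
theorem Q23686 : ∀ i, i < 23686 → P i := stepQ 23685 Q23685 (allL N23685 (tt N24615 (iv F48524)) (tt N22269 F46180) (tt N22253 (iv D23723)) (tt N22254 (iv F46182)) (tt N22255 F46181) (tt N22253 (iv F46183)))
theorem Q23687 : ∀ i, i < 23687 → P i := stepQ 23686 Q23686 (allL N23686 (tt N24614 (iv F48520)) (tt N24617 D24655) (tt N22260 (iv D23724)) (tt N24614 (iv F48521)) (tt N22279 F46184) (tt N23610 F46185))
theorem Q23688 : ∀ i, i < 23688 → P i := stepQ 23687 Q23687 (allL N23687 (tt N22779 F46186) (tt N22261 (iv D23725)) (tt N24617 (iv F48533)) (tt N22777 F46187) (tt N22281 F46188) (tt N23575 F46189))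
theorem Q23689 : ∀ i, i < 23689 → P i := stepQ 23688 Q23688 (allL N23688 (tt N22267 F46190) (tt N23964 (iv F46865)) (tt N22262 (iv D23726)) (tt N24618 D24656) (tt N22264 F46191) (tt N24613 (iv F48519)))
theorem Q23690 : ∀ i, i < 23690 → P i := stepQ 23689 Q23689 (allL N23689 (tt N22268 F46192) (tt N23606 F46193) (tt N24613 (iv F48518)) (tt N22263 F46194) (tt N23615 F46195) (tt N22262 (iv D23727)))
theorem Q23691 : ∀ i, i < 23691 → P i := stepQ 23690 Q23690 (allL N23690 (tt N24604 (iv F48498)) (tt N24619 D24657) (tt N22265 (iv D23728)) (tt N24620 D24658) (tt N24602 (iv F48492)) (tt N24621 D24659))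
theorem Q23692 : ∀ i, i < 23692 → P i := stepQ 23691 Q23691 (allL N23691 (tt N24605 (iv F48500)) (tt N24326 (iv F47835)) (tt N24621 (iv F48541)) (tt N22266 F46196) (tt N24622 D24660) (tt N22265 (iv D23729)))
theorem Q23693 : ∀ i, i < 23693 → P i := stepQ 23692 Q23692 (allL N23692 (tt N24618 (iv F48537)) (tt N23613 F46197) (tt N24623 D24661) (tt N22267 (iv D23730)) (tt N23959 (iv F46850)) (tt N24624 D24662))
theorem Q23694 : ∀ i, i < 23694 → P i := stepQ 23693 Q23693 (allL N23693 (tt N24613 (iv F48517)) (tt N23612 F46198) (tt N22268 F46199) (tt N24624 (iv F48543)) (tt N23611 F46200) (tt N22267 (iv D23731)))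
theorem Q23695 : ∀ i, i < 23695 → P i := stepQ 23694 Q23694 (allL N23694 (tt N22275 F46201) (tt N22846 F46202) (tt N22273 F46203) (tt N23750 (iv F46327)) (tt N22272 (iv D23732)) (tt N22753 F46204))
theorem Q23696 : ∀ i, i < 23696 → P i := stepQ 23695 Q23695 (allL N23695 (tt N23213 F46205) (tt N23229 F46206) (tt N23801 (iv F46450)) (tt N24625 D24663) (tt N22274 (iv D23733)) (tt N23208 F46207))
theorem Q23697 : ∀ i, i < 23697 → P i := stepQ 23696 Q23696 (allL N23696 (tt N23750 F46328) (tt N22792 F46208) (tt N24626 D24664) (tt N22275 (iv D23734)) (tt N24625 (iv F48546)) (tt N23829 (iv F46518)))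
theorem Q23698 : ∀ i, i < 23698 → P i := stepQ 23697 Q23697 (allL N23697 (tt N22279 F46209) (tt N24319 (iv F47811)) (tt N22277 (iv D23735)) (tt N24318 F47807) (tt N24614 (iv F48522)) (tt N24319 (iv F47813)))
theorem Q23699 : ∀ i, i < 23699 → P i := stepQ 23698 Q23698 (allL N23698 (tt N22280 F46210) (tt N24615 (iv F48525)) (tt N24319 (iv F47812)) (tt N22278 F46211) (tt N24616 (iv F48531)) (tt N22277 (iv D23736)))
theorem Q23700 : ∀ i, i < 23700 → P i := stepQ 23699 Q23699 (allL N23699 (tt N22781 (iv F46213)) (tt N22279 (iv D23737)) (tt N22281 F46212) (tt N24320 F47818) (tt N24617 (iv F48534)) (tt N22781 (iv F46214)))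
theorem Q23701 : ∀ i, i < 23701 → P i := stepQ 23700 Q23700 (allL N23700 (tt N24318 F47806) (tt N24320 (iv F47815)) (tt N24317 (iv F47802)) (tt N22279 (iv D23738)) (tt N24318 F47808) (tt N24316 F47799))
theorem Q23702 : ∀ i, i < 23702 → P i := stepQ 23701 Q23701 (allL N23701 (tt N24319 (iv F47810)) (tt N22781 F46215) (tt N22280 F46216) (tt N24316 (iv F47798)) (tt N24627 D24665) (tt N22279 (iv D23739)))
theorem Q23703 : ∀ i, i < 23703 → P i := stepQ 23702 Q23702 (allL N23702 (tt N24616 (iv F48529)) (tt N22282 F46217) (tt N24627 (iv F48549)) (tt N23596 F46218) (tt N22280 (iv D23740)) (tt N23599 F46219))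
theorem Q23704 : ∀ i, i < 23704 → P i := stepQ 23703 Q23703 (allL N23703 (tt N22288 F46220) (tt N23079 F46221) (tt N23628 F46222) (tt N23706 (iv F46231)) (tt N22283 (iv D23741)) (tt N23705 F46228))
theorem Q23705 : ∀ i, i < 23705 → P i := stepQ 23704 Q23704 (allL N23704 (tt N23628 F46223) (tt N23077 F46224) (tt N22288 F46225) (tt N24628 D24666) (tt N22287 (iv D23742)) (tt N24629 D24667))
theorem Q23706 : ∀ i, i < 23706 → P i := stepQ 23705 Q23705 (allL N23705 (tt N23706 (iv F46229)) (tt N23070 F46226) (tt N24579 (iv F48439)) (tt N22288 (iv D23743)) (tt N22289 F46227) (tt N23703 (iv F46228)))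
theorem Q23707 : ∀ i, i < 23707 → P i := stepQ 23706 Q23706 (allL N23706 (tt N23705 F46229) (tt N23069 F46230) (tt N24629 (iv F48557)) (tt N23703 F46231) (tt N23067 F46232) (tt N22288 (iv D23744)))
theorem Q23708 : ∀ i, i < 23708 → P i := stepQ 23707 Q23707 (allL N23707 (tt N24553 (iv F48364)) (tt N23590 F46233) (tt N24553 (iv F48367)) (tt N22291 (iv D23745)) (tt N23707 F46234) (tt N23640 F46235))
theorem Q23709 : ∀ i, i < 23709 → P i := stepQ 23708 Q23708 (allL N23708 (tt N22294 F46236) (tt N22966 F46237) (tt N23630 F46238) (tt N24228 (iv F47581)) (tt N22292 (iv D23746)) (tt N24209 (iv F47529)))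
theorem Q23710 : ∀ i, i < 23710 → P i := stepQ 23709 Q23709 (allL N23709 (tt N23630 F46239) (tt N22963 F46240) (tt N22294 F46241) (tt N24630 D24668) (tt N22293 (iv D23747)) (tt N24631 D24669))
theorem Q23711 : ∀ i, i < 23711 → P i := stepQ 23710 Q23710 (allL N23710 (tt N24228 (iv F47579)) (tt N22955 F46242) (tt N24632 D24670) (tt N22294 (iv D23748)) (tt N22295 F46243) (tt N23782 (iv F46406)))
theorem Q23712 : ∀ i, i < 23712 → P i := stepQ 23711 Q23711 (allL N23711 (tt N24209 (iv F47526)) (tt N22954 F46244) (tt N24631 (iv F48564)) (tt N23782 (iv F46404)) (tt N22951 F46245) (tt N22294 (iv D23749)))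
theorem Q23713 : ∀ i, i < 23713 → P i := stepQ 23712 Q23712 (allL N23712 (tt N24224 F47570) (tt N24633 D24671) (tt N22295 (iv D23750)) (tt N24634 D24672) (tt N24632 (iv F48566)) (tt N24241 (iv F47610)))
theorem Q23714 : ∀ i, i < 23714 → P i := stepQ 23713 Q23713 (allL N23713 (tt N23056 F46246) (tt N22297 F46247) (tt N24635 D24673) (tt N22296 (iv D23751)) (tt N23641 F46248) (tt N24465 (iv F48132)))
theorem Q23715 : ∀ i, i < 23715 → P i := stepQ 23714 Q23714 (allL N23714 (tt N22663 F46249) (tt N22298 F46250) (tt N22299 F46251) (tt N24465 (iv F48131)) (tt N23149 F46252) (tt N22296 (iv D23752)))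
theorem Q23716 : ∀ i, i < 23716 → P i := stepQ 23715 Q23715 (allL N23715 (tt N22329 F46253) (tt N22305 F46254) (tt N22314 F46255) (tt N24636 D24674) (tt N22304 (iv D23753)) (tt N24181 (iv F47453)))
theorem Q23717 : ∀ i, i < 23717 → P i := stepQ 23716 Q23716 (allL N23716 (tt N22309 F46256) (tt N24636 (iv F48574)) (tt N23861 (iv F46606)) (tt N22305 (iv D23754)) (tt N23852 F46576) (tt N24069 (iv F47147)))
theorem Q23718 : ∀ i, i < 23718 → P i := stepQ 23717 Q23717 (allL N23717 (tt N24069 (iv F47145)) (tt N22336 F46257) (tt N24637 D24675) (tt N22308 (iv D23755)) (tt N23856 (iv F46589)) (tt N22309 F46258))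
theorem Q23719 : ∀ i, i < 23719 → P i := stepQ 23718 Q23718 (allL N23718 (tt N23861 (iv F46605)) (tt N24638 D24676) (tt N22309 (iv D23756)) (tt N24466 (iv F48135)) (tt N23857 F46593) (tt N24637 (iv F48578)))
theorem Q23720 : ∀ i, i < 23720 → P i := stepQ 23719 Q23719 (allL N23719 (tt N22880 F46259) (tt N22448 F46260) (tt N23652 (iv F46263)) (tt N22310 (iv D23757)) (tt N22893 F46261) (tt N22345 F46262))
theorem Q23721 : ∀ i, i < 23721 → P i := stepQ 23720 Q23720 (allL N23720 (tt N22313 F46264) (tt N22319 F46265) (tt N23873 (iv F46650)) (tt N24070 (iv F47151)) (tt N22312 (iv D23758)) (tt N24047 (iv F47074)))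
theorem Q23722 : ∀ i, i < 23722 → P i := stepQ 23721 Q23721 (allL N23721 (tt N22318 F46266) (tt N24070 (iv F47149)) (tt N24073 (iv F47161)) (tt N22319 F46267) (tt N22315 (iv D23759)) (tt N24046 (iv F47070)))
theorem Q23723 : ∀ i, i < 23723 → P i := stepQ 23722 Q23722 (allL N23722 (tt N22379 F46268) (tt N24185 (iv F47462)) (tt N22378 F46269) (tt N22317 (iv D23760)) (tt N24601 (iv F48489)) (tt N23970 (iv F46884)))
theorem Q23724 : ∀ i, i < 23724 → P i := stepQ 23723 Q23723 (allL N23723 (tt N24073 (iv F47159)) (tt N24165 (iv F47404)) (tt N22318 F46270) (tt N24639 D24677) (tt N22317 (iv D23761)) (tt N24071 F47156))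
theorem Q23725 : ∀ i, i < 23725 → P i := stepQ 23724 Q23724 (allL N23724 (tt N22326 F46271) (tt N24640 D24678) (tt N22325 (iv D23762)) (tt N22417 F46273) (tt N23993 (iv F46925)) (tt N22506 F46272))
theorem Q23726 : ∀ i, i < 23726 → P i := stepQ 23725 Q23725 (allL N23725 (tt N23663 (iv F46276)) (tt N22326 (iv D23763)) (tt N22327 F46274) (tt N24121 (iv F47268)) (tt N24491 (iv F48199)) (tt N22509 F46275))
theorem Q23727 : ∀ i, i < 23727 → P i := stepQ 23726 Q23726 (allL N23726 (tt N22417 F46277) (tt N24121 (iv F47267)) (tt N22411 F46279) (tt N22326 (iv D23764)) (tt N24641 D24679) (tt N22510 F46278))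
theorem Q23728 : ∀ i, i < 23728 → P i := stepQ 23727 Q23727 (allL N23727 (tt N23851 (iv F46569)) (tt N22330 F46280) (tt N23998 (iv F46933)) (tt N24642 D24680) (tt N22328 (iv D23765)) (tt N22425 F46281))
theorem Q23729 : ∀ i, i < 23729 → P i := stepQ 23728 Q23728 (allL N23728 (tt N24636 (iv F48573)) (tt N22331 F46282) (tt N24507 (iv F48242)) (tt N22329 (iv D23766)) (tt N24642 (iv F48592)) (tt N24488 (iv F48189)))
theorem Q23730 : ∀ i, i < 23730 → P i := stepQ 23729 Q23729 (allL N23729 (tt N24181 (iv F47450)) (tt N22332 F46283) (tt N22446 F46284) (tt N24488 (iv F48188)) (tt N22422 F46285) (tt N22329 (iv D23767)))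
theorem Q23731 : ∀ i, i < 23731 → P i := stepQ 23730 Q23730 (allL N23730 (tt N22334 F46286) (tt N24642 (iv F48591)) (tt N23897 (iv F46718)) (tt N22330 (iv D23768)) (tt N22331 F46287) (tt N23853 (iv F46580)))
theorem Q23732 : ∀ i, i < 23732 → P i := stepQ 23731 Q23731 (allL N23731 (tt N22337 F46288) (tt N23969 (iv F46878)) (tt N22510 F46289) (tt N22333 (iv D23769)) (tt N24643 D24681) (tt N22411 F46290))
theorem Q23733 : ∀ i, i < 23733 → P i := stepQ 23732 Q23732 (allL N23732 (tt N23897 F46719) (tt N24644 D24682) (tt N22334 (iv D23770)) (tt N23896 (iv F46720)) (tt N22335 F46291) (tt N23855 (iv F46585)))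
theorem Q23734 : ∀ i, i < 23734 → P i := stepQ 23733 Q23733 (allL N23733 (tt N24506 (iv F48240)) (tt N22335 (iv D23771)) (tt N24638 (iv F48579)) (tt N24481 (iv F48171)) (tt N24644 (iv F48598)) (tt N24483 (iv F48178)))
theorem Q23735 : ∀ i, i < 23735 → P i := stepQ 23734 Q23734 (allL N23734 (tt N24489 (iv F48191)) (tt N23856 (iv F46587)) (tt N24484 (iv F48180)) (tt N22423 F46292) (tt N22336 (iv D23772)) (tt N23854 (iv F46584)))
theorem Q23736 : ∀ i, i < 23736 → P i := stepQ 23735 Q23735 (allL N23735 (tt N22510 F46293) (tt N24123 (iv F47274)) (tt N22337 (iv D23773)) (tt N22506 F46294) (tt N24645 D24683) (tt N22417 F46295))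
theorem Q23737 : ∀ i, i < 23737 → P i := stepQ 23736 Q23736 (allL N23736 (tt N24643 (iv F48594)) (tt N22408 F46296) (tt N24645 (iv F48602)) (tt N22406 F46297) (tt N22337 (iv D23774)) (tt N24150 (iv F47359)))
theorem Q23738 : ∀ i, i < 23738 → P i := stepQ 23737 Q23737 (allL N23737 (tt N22342 F46298) (tt N22655 F46299) (tt N22886 F46300) (tt N22649 F46301) (tt N24646 D24684) (tt N22340 (iv D23775)))
theorem Q23739 : ∀ i, i < 23739 → P i := stepQ 23738 Q23738 (allL N23738 (tt N24646 (iv F48604)) (tt N22344 F46302) (tt N22888 F46303) (tt N24647 D24685) (tt N22342 (iv D23776)) (tt N24236 (iv F47599)))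
theorem Q23740 : ∀ i, i < 23740 → P i := stepQ 23739 Q23739 (allL N23739 (tt N22654 F46304) (tt N24647 (iv F48608)) (tt N24648 D24686) (tt N22344 (iv D23777)) (tt N22647 F46305) (tt N24237 (iv F47601)))
theorem Q23741 : ∀ i, i < 23741 → P i := stepQ 23740 Q23740 (allL N23740 (tt N24466 (iv F48133)) (tt N24649 D24687) (tt N22345 (iv D23778)) (tt N23861 (iv F46607)) (tt N23649 F46306) (tt N23652 F46307))
theorem Q23742 : ∀ i, i < 23742 → P i := stepQ 23741 Q23741 (allL N23741 (tt N24650 D24688) (tt N22347 (iv D23779)) (tt N23949 (iv F46832)) (tt N23356 F46308) (tt N24196 F47492) (tt N23537 F46309))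
theorem Q23743 : ∀ i, i < 23743 → P i := stepQ 23742 Q23742 (allL N23742 (tt N22351 F46310) (tt N23418 F46311) (tt N23847 (iv F46556)) (tt N23408 F46312) (tt N24065 (iv F47132)) (tt N22349 (iv D23780)))
theorem Q23744 : ∀ i, i < 23744 → P i := stepQ 23743 Q23743 (allL N23743 (tt N23847 (iv F46554)) (tt N24128 (iv F47294)) (tt N22351 F46313) (tt N23930 F46801) (tt N24066 (iv F47137)) (tt N22350 (iv D23781)))
theorem Q23745 : ∀ i, i < 23745 → P i := stepQ 23744 Q23744 (allL N23744 (tt N22362 F46314) (tt N23676 F46315) (tt N22372 F46316) (tt N22352 (iv D23782)) (tt N23672 F46317) (tt N22353 F46318))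
theorem Q23746 : ∀ i, i < 23746 → P i := stepQ 23745 Q23745 (allL N23745 (tt N24220 (iv F47554)) (tt N24066 (iv F47134)) (tt N22357 F46319) (tt N24480 (iv F48167)) (tt N24128 (iv F47296)) (tt N22356 (iv D23783)))
theorem Q23747 : ∀ i, i < 23747 → P i := stepQ 23746 Q23746 (allL N23746 (tt N22359 F46320) (tt N23410 F46321) (tt N24651 D24689) (tt N22358 (iv D23784)) (tt N23405 F46322) (tt N24652 D24690))
theorem Q23748 : ∀ i, i < 23748 → P i := stepQ 23747 Q23747 (allL N23747 (tt N22360 F46323) (tt N24065 (iv F47130)) (tt N24223 (iv F47566)) (tt N24652 (iv F48624)) (tt N23418 F46324) (tt N22358 (iv D23785)))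
theorem Q23749 : ∀ i, i < 23749 → P i := stepQ 23748 Q23748 (allL N23748 (tt N24651 (iv F48620)) (tt N24653 D24691) (tt N22359 (iv D23786)) (tt N24654 D24692) (tt N24574 F48428) (tt N24655 D24693))
theorem Q23750 : ∀ i, i < 23750 → P i := stepQ 23749 Q23749 (allL N23749 (tt N24652 (iv F48622)) (tt N22362 F46325) (tt N24655 (iv F48631)) (tt N22360 F46326) (tt N24313 (iv F47786)) (tt N22359 (iv D23787)))
theorem Q23751 : ∀ i, i < 23751 → P i := stepQ 23750 Q23750 (allL N23750 (tt N23696 (iv F46328)) (tt N22361 (iv D23788)) (tt N24653 (iv F48626)) (tt N23694 F46327) (tt N24306 (iv F47776)) (tt N24037 (iv F47039)))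
theorem Q23752 : ∀ i, i < 23752 → P i := stepQ 23751 Q23751 (allL N23751 (tt N22367 F46329) (tt N24179 (iv F47444)) (tt N24494 (iv F48206)) (tt N22365 (iv D23789)) (tt N24179 (iv F47445)) (tt N24240 (iv F47607)))
theorem Q23753 : ∀ i, i < 23753 → P i := stepQ 23752 Q23752 (allL N23752 (tt N24179 (iv F47443)) (tt N24039 (iv F47042)) (tt N24496 (iv F48212)) (tt N22366 (iv D23790)) (tt N22367 F46330) (tt N24656 D24694))
theorem Q23754 : ∀ i, i < 23754 → P i := stepQ 23753 Q23753 (allL N23753 (tt N24180 (iv F47446)) (tt N24034 (iv F47024)) (tt N22640 F46331) (tt N24656 (iv F48634)) (tt N24033 (iv F47022)) (tt N22366 (iv D23791)))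
theorem Q23755 : ∀ i, i < 23755 → P i := stepQ 23754 Q23754 (allL N23754 (tt N24057 (iv F47097)) (tt N22372 F46332) (tt N23849 (iv F46564)) (tt N22371 (iv D23792)) (tt N24076 (iv F47170)) (tt N24061 (iv F47116)))
theorem Q23756 : ∀ i, i < 23756 → P i := stepQ 23755 Q23755 (allL N23755 (tt N22376 F46333) (tt N22378 F46334) (tt N24657 D24695) (tt N22375 (iv D23793)) (tt N23303 F46335) (tt N22878 F46336))
theorem Q23757 : ∀ i, i < 23757 → P i := stepQ 23756 Q23756 (allL N23756 (tt N24657 (iv F48636)) (tt N22547 F46337) (tt N22376 (iv D23794)) (tt N24658 D24696) (tt N22601 F46338) (tt N22545 F46339))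
theorem Q23758 : ∀ i, i < 23758 → P i := stepQ 23757 Q23757 (allL N23757 (tt N22380 F46340) (tt N23303 F46341) (tt N24601 (iv F48487)) (tt N22381 F46342) (tt N22378 (iv D23795)) (tt N23354 F46343))
theorem Q23759 : ∀ i, i < 23759 → P i := stepQ 23758 Q23758 (allL N23758 (tt N22443 F46344) (tt N23461 F46345) (tt N24659 D24697) (tt N22382 (iv D23796)) (tt N22441 F46346) (tt N23349 F46347))
theorem Q23760 : ∀ i, i < 23760 → P i := stepQ 23759 Q23759 (allL N23759 (tt N22385 F46348) (tt N24660 D24698) (tt N22383 (iv D23797)) (tt N24661 D24699) (tt N24660 F48648) (tt N24662 D24700))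
theorem Q23761 : ∀ i, i < 23761 → P i := stepQ 23760 Q23760 (allL N23760 (tt N22386 F46349) (tt N22403 F46350) (tt N24660 (iv F48646)) (tt N22393 F46351) (tt N22383 (iv D23798)) (tt N24663 D24701))
theorem Q23762 : ∀ i, i < 23762 → P i := stepQ 23761 Q23761 (allL N23761 (tt N22387 F46352) (tt N22404 F46353) (tt N24662 (iv F48654)) (tt N22384 F46354) (tt N24175 (iv F47432)) (tt N22383 (iv D23799)))
theorem Q23763 : ∀ i, i < 23763 → P i := stepQ 23762 Q23762 (allL N23762 (tt N24664 D24702) (tt N22385 (iv D23800)) (tt N22389 F46355) (tt N24665 D24703) (tt N24664 F48662) (tt N22402 (iv F46356)))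
theorem Q23764 : ∀ i, i < 23764 → P i := stepQ 23763 Q23763 (allL N23763 (tt N24661 (iv F48650)) (tt N24665 (iv F48664)) (tt N24666 D24704) (tt N22385 (iv D23801)) (tt N24667 D24705) (tt N24668 D24706))
theorem Q23765 : ∀ i, i < 23765 → P i := stepQ 23764 Q23764 (allL N23764 (tt N24660 F48647) (tt N24664 (iv F48658)) (tt N22386 F46357) (tt N22848 (iv F46358)) (tt N22385 (iv D23802)) (tt N24669 D24707))
theorem Q23766 : ∀ i, i < 23766 → P i := stepQ 23765 Q23765 (allL N23765 (tt N24662 (iv F48653)) (tt N22402 F46359) (tt N22387 F46360) (tt N24668 (iv F48672)) (tt N24173 (iv F47426)) (tt N22385 (iv D23803)))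
theorem Q23767 : ∀ i, i < 23767 → P i := stepQ 23766 Q23766 (allL N23766 (tt N24663 (iv F48655)) (tt N22391 F46361) (tt N24669 (iv F48675)) (tt N22394 F46362) (tt N24171 (iv F47418)) (tt N22386 (iv D23804)))
theorem Q23768 : ∀ i, i < 23768 → P i := stepQ 23767 Q23767 (allL N23767 (tt N22389 (iv D23805)) (tt N22390 F46363) (tt N24664 (iv F48659)) (tt N22401 F46364) (tt N22389 (iv F46366)) (tt N22400 F46365))
theorem Q23769 : ∀ i, i < 23769 → P i := stepQ 23768 Q23768 (allL N23768 (tt N22394 F46367) (tt N22409 F46368) (tt N22470 F46369) (tt N24663 (iv F48657)) (tt N22429 F46370) (tt N22393 (iv D23806)))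
theorem Q23770 : ∀ i, i < 23770 → P i := stepQ 23769 Q23769 (allL N23769 (tt N22402 F46371) (tt N24669 (iv F48674)) (tt N22400 (iv D23807)) (tt N22856 F46372) (tt N24170 (iv F47415)) (tt N24664 (iv F48660)))
theorem Q23771 : ∀ i, i < 23771 → P i := stepQ 23770 Q23770 (allL N23770 (tt N22856 F46373) (tt N24668 (iv F48671)) (tt N22854 F46374) (tt N22402 (iv D23808)) (tt N24670 D24708) (tt N24665 (iv F48666)))
theorem Q23772 : ∀ i, i < 23772 → P i := stepQ 23771 Q23771 (allL N23771 (tt N22405 F46375) (tt N24663 (iv F48656)) (tt N22404 F46376) (tt N22409 F46377) (tt N24671 D24709) (tt N22403 (iv D23809)))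
theorem Q23773 : ∀ i, i < 23773 → P i := stepQ 23772 Q23772 (allL N23772 (tt N22406 F46378) (tt N24175 (iv F47431)) (tt N24671 (iv F48682)) (tt N24643 (iv F48596)) (tt N22404 (iv D23810)) (tt N24671 (iv F48683)))
theorem Q23774 : ∀ i, i < 23774 → P i := stepQ 23773 Q23773 (allL N23773 (tt N24671 (iv F48681)) (tt N22407 F46379) (tt N22406 F46380) (tt N24150 (iv F47357)) (tt N22405 (iv D23811)) (tt N22406 F46381))
theorem Q23775 : ∀ i, i < 23775 → P i := stepQ 23774 Q23774 (allL N23774 (tt N22415 F46382) (tt N22429 F46383) (tt N22423 F46384) (tt N24672 D24710) (tt N22409 (iv D23812)) (tt N22410 F46385))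
theorem Q23776 : ∀ i, i < 23776 → P i := stepQ 23775 Q23775 (allL N23775 (tt N22416 F46386) (tt N22428 F46387) (tt N24641 (iv F48590)) (tt N22410 (iv D23813)) (tt N22411 F46388) (tt N24672 (iv F48686)))
theorem Q23777 : ∀ i, i < 23777 → P i := stepQ 23776 Q23776 (allL N23776 (tt N22472 F46389) (tt N22413 F46390) (tt N22418 F46391) (tt N22422 F46392) (tt N22427 F46393) (tt N22412 (iv D23814)))
theorem Q23778 : ∀ i, i < 23778 → P i := stepQ 23777 Q23777 (allL N23777 (tt N22423 F46394) (tt N22427 F46395) (tt N22415 F46396) (tt N24489 (iv F48194)) (tt N22413 (iv D23815)) (tt N22414 F46397))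
theorem Q23779 : ∀ i, i < 23779 → P i := stepQ 23778 Q23778 (allL N23778 (tt N23854 (iv F46581)) (tt N22426 F46398) (tt N24490 (iv F48196)) (tt N22414 (iv D23816)) (tt N23853 (iv F46579)) (tt N24489 (iv F48195)))
theorem Q23780 : ∀ i, i < 23780 → P i := stepQ 23779 Q23779 (allL N23779 (tt N24672 (iv F48684)) (tt N22419 F46399) (tt N24673 D24711) (tt N22415 (iv D23817)) (tt N24150 (iv F47358)) (tt N22416 F46400))
theorem Q23781 : ∀ i, i < 23781 → P i := stepQ 23780 Q23780 (allL N23780 (tt N24641 (iv F48588)) (tt N24674 D24712) (tt N22416 (iv D23818)) (tt N24675 D24713) (tt N22417 F46401) (tt N24673 (iv F48689)))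
theorem Q23782 : ∀ i, i < 23782 → P i := stepQ 23781 Q23781 (allL N23781 (tt N24122 (iv F47270)) (tt N22417 (iv D23819)) (tt N22421 F46402) (tt N24640 (iv F48585)) (tt N24674 (iv F48692)) (tt N24123 (iv F47275)))
theorem Q23783 : ∀ i, i < 23783 → P i := stepQ 23782 Q23782 (allL N23782 (tt N23159 F46403) (tt N22420 (iv D23820)) (tt N24674 (iv F48691)) (tt N23711 F46404) (tt N22421 F46405) (tt N23710 F46406))
theorem Q23784 : ∀ i, i < 23784 → P i := stepQ 23783 Q23783 (allL N23783 (tt N23850 (iv F46565)) (tt N23853 (iv F46578)) (tt N23874 (iv F46655)) (tt N22425 (iv D23821)) (tt N22426 F46407) (tt N24642 (iv F48593)))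
theorem Q23785 : ∀ i, i < 23785 → P i := stepQ 23784 Q23784 (allL N23784 (tt N24067 (iv F47138)) (tt N23876 (iv F46661)) (tt N22426 (iv D23822)) (tt N23873 (iv F46651)) (tt N23874 (iv F46654)) (tt N24676 D24714))
theorem Q23786 : ∀ i, i < 23786 → P i := stepQ 23785 Q23785 (allL N23785 (tt N24068 (iv F47142)) (tt N24489 (iv F48192)) (tt N24676 (iv F48694)) (tt N22427 F46408) (tt N24488 F48190) (tt N22426 (iv D23823)))
theorem Q23787 : ∀ i, i < 23787 → P i := stepQ 23786 Q23786 (allL N23786 (tt N22430 F46409) (tt N24672 (iv F48685)) (tt N22787 F46410) (tt N22429 F46411) (tt N24677 D24715) (tt N22428 (iv D23824)))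
theorem Q23788 : ∀ i, i < 23788 → P i := stepQ 23787 Q23787 (allL N23787 (tt N24677 (iv F48695)) (tt N22431 F46412) (tt N22790 F46413) (tt N24171 (iv F47417)) (tt N22430 (iv D23825)) (tt N23974 (iv F46897)))
theorem Q23789 : ∀ i, i < 23789 → P i := stepQ 23788 Q23788 (allL N23788 (tt N22491 F46414) (tt N22452 F46415) (tt N24649 (iv F48613)) (tt N22432 (iv D23826)) (tt N22433 F46416) (tt N24508 (iv F48246)))
theorem Q23790 : ∀ i, i < 23790 → P i := stepQ 23789 Q23789 (allL N23789 (tt N22664 F46417) (tt N23649 F46418) (tt N22433 (iv D23827)) (tt N22657 F46420) (tt N24649 (iv F48614)) (tt N22665 F46419))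
theorem Q23791 : ∀ i, i < 23791 → P i := stepQ 23790 Q23790 (allL N23790 (tt N22634 F46421) (tt N24678 D24716) (tt N22438 (iv D23828)) (tt N24513 (iv F48263)) (tt N22632 F46422) (tt N24679 D24717))
theorem Q23792 : ∀ i, i < 23792 → P i := stepQ 23791 Q23791 (allL N23791 (tt N22635 F46423) (tt N24433 (iv F48079)) (tt N24679 (iv F48699)) (tt N22439 F46424) (tt N24285 (iv F47716)) (tt N22438 (iv D23829)))
theorem Q23793 : ∀ i, i < 23793 → P i := stepQ 23792 Q23792 (allL N23792 (tt N23462 F46425) (tt N22441 F46426) (tt N24680 D24718) (tt N22440 (iv D23830)) (tt N23461 F46427) (tt N24265 (iv F47668)))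
theorem Q23794 : ∀ i, i < 23794 → P i := stepQ 23793 Q23793 (allL N23793 (tt N22444 F46428) (tt N24681 D24719) (tt N22441 (iv D23831)) (tt N24679 (iv F48700)) (tt N24659 (iv F48644)) (tt N24513 (iv F48264)))
theorem Q23795 : ∀ i, i < 23795 → P i := stepQ 23794 Q23794 (allL N23794 (tt N22445 F46429) (tt N24265 (iv F47667)) (tt N24513 (iv F48262)) (tt N22442 F46430) (tt N23351 F46431) (tt N22441 (iv D23832)))
theorem Q23796 : ∀ i, i < 23796 → P i := stepQ 23795 Q23795 (allL N23795 (tt N24659 (iv F48643)) (tt N23459 F46432) (tt N22443 (iv D23833)) (tt N23949 (iv F46833)) (tt N22444 F46433) (tt N23458 F46434))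
theorem Q23797 : ∀ i, i < 23797 → P i := stepQ 23796 Q23796 (allL N23796 (tt N23939 (iv F46812)) (tt N22444 (iv D23834)) (tt N23460 F46435) (tt N24682 D24720) (tt N23459 F46436) (tt N23512 F46437))
theorem Q23798 : ∀ i, i < 23798 → P i := stepQ 23797 Q23797 (allL N23797 (tt N24679 (iv F48698)) (tt N24682 (iv F48703)) (tt N22635 F46439) (tt N22444 (iv D23835)) (tt N24683 D24721) (tt N22634 F46438))
theorem Q23799 : ∀ i, i < 23799 → P i := stepQ 23798 Q23798 (allL N23798 (tt N22448 F46440) (tt N24267 (iv F47673)) (tt N22480 F46441) (tt N22447 (iv D23836)) (tt N24425 (iv F48061)) (tt N22485 F46442))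
theorem Q23800 : ∀ i, i < 23800 → P i := stepQ 23799 Q23799 (allL N23799 (tt N24425 (iv F48058)) (tt N22893 F46443) (tt N24509 (iv F48249)) (tt N22677 F46444) (tt N22448 (iv D23837)) (tt N23651 F46445))
theorem Q23801 : ∀ i, i < 23801 → P i := stepQ 23800 Q23800 (allL N23800 (tt N24304 (iv F47768)) (tt N22450 F46446) (tt N24684 D24722) (tt N22449 (iv D23838)) (tt N22484 F46447) (tt N24423 (iv F48053)))
theorem Q23802 : ∀ i, i < 23802 → P i := stepQ 23801 Q23801 (allL N23801 (tt N22658 F46448) (tt N22451 F46449) (tt N23695 F46450) (tt N24423 (iv F48052)) (tt N22660 F46451) (tt N22449 (iv D23839)))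
theorem Q23803 : ∀ i, i < 23803 → P i := stepQ 23802 Q23802 (allL N23802 (tt N24424 (iv F48054)) (tt N22666 F46452) (tt N23651 F46453) (tt N22669 F46454) (tt N22454 (iv D23840)) (tt N24509 (iv F48251)))
theorem Q23804 : ∀ i, i < 23804 → P i := stepQ 23803 Q23803 (allL N23803 (tt N24040 (iv F47046)) (tt N22456 F46455) (tt N22608 F46456) (tt N24218 (iv F47550)) (tt N22455 (iv D23841)) (tt N23543 F46457))
theorem Q23805 : ∀ i, i < 23805 → P i := stepQ 23804 Q23804 (allL N23804 (tt N22457 F46458) (tt N24218 (iv F47549)) (tt N24685 D24723) (tt N22456 (iv D23842)) (tt N24090 (iv F47214)) (tt N23544 F46459))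
theorem Q23806 : ∀ i, i < 23806 → P i := stepQ 23805 Q23805 (allL N23805 (tt N24685 (iv F48711)) (tt N24217 (iv F47546)) (tt N22457 (iv D23843)) (tt N24686 D24724) (tt N24214 (iv F47538)) (tt N23545 F46460))
theorem Q23807 : ∀ i, i < 23807 → P i := stepQ 23806 Q23806 (allL N23806 (tt N22460 F46461) (tt N24216 (iv F47543)) (tt N22458 (iv D23844)) (tt N23545 F46463) (tt N22460 F46462) (tt N24686 (iv F48716)))
theorem Q23808 : ∀ i, i < 23808 → P i := stepQ 23807 Q23807 (allL N23807 (tt N22461 F46464) (tt N22566 F46465) (tt N24686 (iv F48715)) (tt N22459 F46466) (tt N24687 D24725) (tt N22458 (iv D23845)))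
theorem Q23809 : ∀ i, i < 23809 → P i := stepQ 23808 Q23808 (allL N23808 (tt N24250 (iv F47638)) (tt N22460 (iv D23846)) (tt N22594 F46467) (tt N24215 F47542) (tt N24216 (iv F47544)) (tt N24688 D24726))
theorem Q23810 : ∀ i, i < 23810 → P i := stepQ 23809 Q23809 (allL N23809 (tt N23545 F46468) (tt N24215 (iv F47540)) (tt N23544 F46469) (tt N22460 (iv D23847)) (tt N24129 (iv F47300)) (tt N24685 (iv F48713)))
theorem Q23811 : ∀ i, i < 23811 → P i := stepQ 23810 Q23810 (allL N23810 (tt N24686 (iv F48714)) (tt N24688 (iv F48721)) (tt N22461 F46470) (tt N24685 (iv F48712)) (tt N24689 D24727) (tt N22460 (iv D23848)))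
theorem Q23812 : ∀ i, i < 23812 → P i := stepQ 23811 Q23811 (allL N23811 (tt N24687 (iv F48717)) (tt N22593 F46471) (tt N24689 (iv F48723)) (tt N22607 F46472) (tt N22461 (iv D23849)) (tt N24687 (iv F48720)))
theorem Q23813 : ∀ i, i < 23813 → P i := stepQ 23812 Q23812 (allL N23812 (tt N22832 F46473) (tt N23186 F46474) (tt N22462 (iv D23850)) (tt N23006 F46475) (tt N22840 F46476) (tt N22463 F46477))
theorem Q23814 : ∀ i, i < 23814 → P i := stepQ 23813 Q23813 (allL N23813 (tt N23192 F46478) (tt N22463 (iv D23851)) (tt N22876 F46479) (tt N23005 F46480) (tt N22464 F46481) (tt N23186 F46482))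
theorem Q23815 : ∀ i, i < 23815 → P i := stepQ 23814 Q23814 (allL N23814 (tt N22464 (iv D23852)) (tt N22830 F46483) (tt N22877 F46484) (tt N22814 F46485) (tt N23192 F46486) (tt N22837 F46487))
theorem Q23816 : ∀ i, i < 23816 → P i := stepQ 23815 Q23815 (allL N23815 (tt N22577 F46488) (tt N24690 D24728) (tt N22465 (iv D23853)) (tt N24691 D24729) (tt N22467 F46489) (tt N24692 D24730))
theorem Q23817 : ∀ i, i < 23817 → P i := stepQ 23816 Q23816 (allL N23816 (tt N22576 F46490) (tt N22604 F46491) (tt N24692 (iv F48733)) (tt N22466 F46492) (tt N24693 D24731) (tt N22465 (iv D23854)))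
theorem Q23818 : ∀ i, i < 23818 → P i := stepQ 23817 Q23817 (allL N23817 (tt N24571 (iv F48414)) (tt N22467 (iv D23855)) (tt N22605 F46493) (tt N22696 F46494) (tt N24690 (iv F48725)) (tt N22695 F46495))
theorem Q23819 : ∀ i, i < 23819 → P i := stepQ 23818 Q23818 (allL N23818 (tt N22597 F46496) (tt N22607 F46497) (tt N22697 F46498) (tt N22593 F46499) (tt N22468 (iv D23856)) (tt N24693 (iv F48740)))
theorem Q23820 : ∀ i, i < 23820 → P i := stepQ 23819 Q23819 (allL N23819 (tt N22894 F46500) (tt N22474 F46501) (tt N22474 F46502) (tt N22473 (iv D23857)) (tt N22895 F46503) (tt N24248 (iv F47636)))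
theorem Q23821 : ∀ i, i < 23821 → P i := stepQ 23820 Q23820 (allL N23820 (tt N24694 D24732) (tt N22475 (iv D23858)) (tt N22689 F46504) (tt N23944 (iv F46823)) (tt N23507 F46505) (tt N23940 (iv F46815)))
theorem Q23822 : ∀ i, i < 23822 → P i := stepQ 23821 Q23821 (allL N23821 (tt N24380 (iv F47956)) (tt N24450 (iv F48102)) (tt N24695 D24733) (tt N22477 (iv D23859)) (tt N24696 D24734) (tt N22775 F46506))
theorem Q23823 : ∀ i, i < 23823 → P i := stepQ 23822 Q23822 (allL N23822 (tt N22674 F46507) (tt N23678 F46508) (tt N24544 (iv F48340)) (tt N22478 (iv D23860)) (tt N24697 D24735) (tt N22482 F46509))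
theorem Q23824 : ∀ i, i < 23824 → P i := stepQ 23823 Q23823 (allL N23823 (tt N22479 (iv D23861)) (tt N22492 F46510) (tt N22481 F46511) (tt N24698 D24736) (tt N23677 F46512) (tt N22483 F46513))
theorem Q23825 : ∀ i, i < 23825 → P i := stepQ 23824 Q23824 (allL N23824 (tt N24698 (iv F48752)) (tt N22480 F46514) (tt N24699 D24737) (tt N22479 (iv D23862)) (tt N24700 D24738) (tt N22484 F46515))
theorem Q23826 : ∀ i, i < 23826 → P i := stepQ 23825 Q23825 (allL N23825 (tt N24509 (iv F48247)) (tt N24700 (iv F48758)) (tt N24425 (iv F48059)) (tt N24697 (iv F48750)) (tt N22480 (iv D23863)) (tt N24424 (iv F48057)))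
theorem Q23827 : ∀ i, i < 23827 → P i := stepQ 23826 Q23826 (allL N23826 (tt N22484 F46516) (tt N22491 F46517) (tt N24701 D24739) (tt N22483 (iv D23864)) (tt N24304 (iv F47770)) (tt N24698 (iv F48755)))
theorem Q23828 : ∀ i, i < 23828 → P i := stepQ 23827 Q23827 (allL N23827 (tt N24701 (iv F48763)) (tt N24654 (iv F48629)) (tt N22484 (iv D23865)) (tt N24653 F48628) (tt N24684 (iv F48710)) (tt N24699 (iv F48756)))
theorem Q23829 : ∀ i, i < 23829 → P i := stepQ 23828 Q23828 (allL N23828 (tt N24271 (iv F47682)) (tt N22485 (iv D23866)) (tt N24654 (iv F48630)) (tt N24268 (iv F47678)) (tt N24422 F48050) (tt N24267 F47674))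
theorem Q23830 : ∀ i, i < 23830 → P i := stepQ 23829 Q23829 (allL N23829 (tt N24037 (iv F47036)) (tt N24057 (iv F47098)) (tt N24702 D24740) (tt N22486 (iv D23867)) (tt N24303 F47767) (tt N23696 F46518))
theorem Q23831 : ∀ i, i < 23831 → P i := stepQ 23830 Q23830 (allL N23830 (tt N22489 F46519) (tt N24495 (iv F48208)) (tt N22487 (iv D23868)) (tt N24036 (iv F47034)) (tt N22490 F46520) (tt N22489 F46521))
theorem Q23832 : ∀ i, i < 23832 → P i := stepQ 23831 Q23831 (allL N23831 (tt N22490 F46522) (tt N24656 (iv F48632)) (tt N22488 (iv D23869)) (tt N24034 (iv F47026)) (tt N22489 F46523) (tt N24039 (iv F47045)))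
theorem Q23833 : ∀ i, i < 23833 → P i := stepQ 23832 Q23832 (allL N23832 (tt N24703 D24741) (tt N22489 (iv D23870)) (tt N22494 F46524) (tt N24038 (iv F47040)) (tt N24656 (iv F48635)) (tt N24495 (iv F48210)))
theorem Q23834 : ∀ i, i < 23834 → P i := stepQ 23833 Q23833 (allL N23833 (tt N24649 F48616) (tt N24704 D24742) (tt N22491 (iv D23871)) (tt N24504 (iv F48236)) (tt N22664 F46525) (tt N24705 D24743))
theorem Q23835 : ∀ i, i < 23835 → P i := stepQ 23834 Q23834 (allL N23834 (tt N24508 (iv F48243)) (tt N24698 (iv F48753)) (tt N24705 (iv F48770)) (tt N22492 F46526) (tt N24568 (iv F48408)) (tt N22491 (iv D23872)))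
theorem Q23836 : ∀ i, i < 23836 → P i := stepQ 23835 Q23835 (allL N23835 (tt N24499 (iv F48219)) (tt N22493 (iv D23873)) (tt N24656 (iv F48633)) (tt N24706 D24744) (tt N22494 F46527) (tt N24496 (iv F48213)))
theorem Q23837 : ∀ i, i < 23837 → P i := stepQ 23836 Q23836 (allL N23836 (tt N24501 (iv F48225)) (tt N24706 (iv F48772)) (tt N24707 D24745) (tt N22493 (iv D23874)) (tt N24315 F47794) (tt N24498 (iv F48218)))
theorem Q23838 : ∀ i, i < 23838 → P i := stepQ 23837 Q23837 (allL N23837 (tt N22494 (iv D23875)) (tt N23913 F46752) (tt N24703 (iv F48767)) (tt N23912 (iv F46748)) (tt N24499 (iv F48220)) (tt N23911 F46744))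
theorem Q23839 : ∀ i, i < 23839 → P i := stepQ 23838 Q23838 (allL N23838 (tt N22849 F46528) (tt N22536 F46529) (tt N24708 D24746) (tt N22495 (iv D23876)) (tt N22729 F46530) (tt N22847 F46531))
theorem Q23840 : ∀ i, i < 23840 → P i := stepQ 23839 Q23839 (allL N23839 (tt N23357 F46532) (tt N22498 F46533) (tt N24709 D24747) (tt N22497 (iv D23877)) (tt N22622 F46534) (tt N23419 F46535))
theorem Q23841 : ∀ i, i < 23841 → P i := stepQ 23840 Q23840 (allL N23840 (tt N22508 F46536) (tt N23325 F46537) (tt N22505 (iv D23878)) (tt N24375 (iv F47954)) (tt N22506 F46538) (tt N23322 F46539))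
theorem Q23842 : ∀ i, i < 23842 → P i := stepQ 23841 Q23841 (allL N23841 (tt N23337 F46540) (tt N22506 (iv D23879)) (tt N23327 F46541) (tt N24123 (iv F47276)) (tt N23325 F46542) (tt N24640 (iv F48587)))
theorem Q23843 : ∀ i, i < 23843 → P i := stepQ 23842 Q23842 (allL N23842 (tt N23322 F46543) (tt N23329 F46544) (tt N22507 (iv D23880)) (tt N24330 (iv F47845)) (tt N23991 (iv F46921)) (tt N22508 F46545))
theorem Q23844 : ∀ i, i < 23844 → P i := stepQ 23843 Q23843 (allL N23843 (tt N24375 (iv F47952)) (tt N23660 F46546) (tt N24375 (iv F47953)) (tt N22508 (iv D23881)) (tt N24710 D24748) (tt N24330 (iv F47846)))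
theorem Q23845 : ∀ i, i < 23845 → P i := stepQ 23844 Q23844 (allL N23844 (tt N23662 F46547) (tt N22510 F46548) (tt N23972 (iv F46891)) (tt N22509 (iv D23882)) (tt N24711 D24749) (tt N24121 (iv F47269)))
theorem Q23846 : ∀ i, i < 23846 → P i := stepQ 23845 Q23845 (allL N23845 (tt N24645 (iv F48600)) (tt N24711 (iv F48786)) (tt N24643 (iv F48595)) (tt N24710 (iv F48784)) (tt N22510 (iv D23883)) (tt N24712 D24750))
theorem Q23847 : ∀ i, i < 23847 → P i := stepQ 23846 Q23846 (allL N23846 (tt N22789 F46549) (tt N22515 F46550) (tt N22786 F46551) (tt N22714 F46552) (tt N22514 (iv D23884)) (tt N23445 F46553))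
theorem Q23848 : ∀ i, i < 23848 → P i := stepQ 23847 Q23847 (allL N23847 (tt N23743 F46554) (tt N23445 F46555) (tt N23742 F46556) (tt N22717 F46557) (tt N23444 F46558) (tt N22515 (iv D23885)))
theorem Q23849 : ∀ i, i < 23849 → P i := stepQ 23848 Q23848 (allL N23848 (tt N22519 F46559) (tt N24713 D24751) (tt N22518 (iv D23886)) (tt N24714 D24752) (tt N22718 F46560) (tt N23434 F46561))
theorem Q23850 : ∀ i, i < 23850 → P i := stepQ 23849 Q23849 (allL N23849 (tt N24714 (iv F48796)) (tt N23450 F46562) (tt N23754 F46564) (tt N22519 (iv D23887)) (tt N24612 (iv F48516)) (tt N23435 F46563))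
theorem Q23851 : ∀ i, i < 23851 → P i := stepQ 23850 Q23850 (allL N23850 (tt N23783 F46565) (tt N22521 F46566) (tt N23480 (iv F46568)) (tt N22520 (iv D23888)) (tt N22798 F46567) (tt N24715 D24753))
theorem Q23852 : ∀ i, i < 23852 → P i := stepQ 23851 Q23851 (allL N23851 (tt N23727 F46569) (tt N22522 F46570) (tt N22706 F46571) (tt N24715 (iv F48802)) (tt N23470 F46572) (tt N22520 (iv D23889)))
theorem Q23853 : ∀ i, i < 23853 → P i := stepQ 23852 Q23852 (allL N23852 (tt N22529 F46573) (tt N24715 (iv F48800)) (tt N22535 F46574) (tt N22522 F46575) (tt N23716 (iv F46576)) (tt N22521 (iv D23890)))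
theorem Q23854 : ∀ i, i < 23854 → P i := stepQ 23853 Q23853 (allL N23853 (tt N22525 F46577) (tt N23783 F46578) (tt N24716 D24754) (tt N22523 (iv D23891)) (tt N23778 F46579) (tt N23730 F46580))
theorem Q23855 : ∀ i, i < 23855 → P i := stepQ 23854 Q23854 (allL N23854 (tt N23778 F46581) (tt N22526 F46582) (tt N24717 D24755) (tt N22524 (iv D23892)) (tt N22525 F46583) (tt N23734 F46584))
theorem Q23856 : ∀ i, i < 23856 → P i := stepQ 23855 Q23855 (allL N23855 (tt N24716 (iv F48804)) (tt N24263 (iv F47663)) (tt N22525 (iv D23893)) (tt N24718 D24756) (tt N24717 (iv F48810)) (tt N23732 F46585))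
theorem Q23857 : ∀ i, i < 23857 → P i := stepQ 23856 Q23856 (allL N23856 (tt N22800 F46586) (tt N23734 F46587) (tt N24594 (iv F48468)) (tt N22527 F46588) (tt N23717 F46589) (tt N22526 (iv D23894)))
theorem Q23858 : ∀ i, i < 23858 → P i := stepQ 23857 Q23857 (allL N23857 (tt N22535 F46590) (tt N24264 (iv F47664)) (tt N22529 F46591) (tt N22533 F46592) (tt N23718 (iv F46593)) (tt N22528 (iv D23895)))
theorem Q23859 : ∀ i, i < 23859 → P i := stepQ 23858 Q23858 (allL N23858 (tt N22532 F46594) (tt N24719 D24757) (tt N22530 (iv D23896)) (tt N24720 D24758) (tt N23446 F46595) (tt N22581 F46596))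
theorem Q23860 : ∀ i, i < 23860 → P i := stepQ 23859 Q23859 (allL N23859 (tt N24720 (iv F48820)) (tt N22564 F46597) (tt N22572 (iv F46599)) (tt N22532 (iv D23897)) (tt N22572 (iv F46600)) (tt N22582 F46598))
theorem Q23861 : ∀ i, i < 23861 → P i := stepQ 23860 Q23860 (allL N23860 (tt N23494 F46601) (tt N22535 F46602) (tt N23482 F46603) (tt N22534 (iv D23898)) (tt N24721 D24759) (tt N23483 F46604))
theorem Q23862 : ∀ i, i < 23862 → P i := stepQ 23861 Q23861 (allL N23861 (tt N23718 F46605) (tt N24721 (iv F48826)) (tt N23716 F46606) (tt N23740 F46607) (tt N22535 (iv D23899)) (tt N24597 (iv F48477)))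
theorem Q23863 : ∀ i, i < 23863 → P i := stepQ 23862 Q23862 (allL N23862 (tt N22539 F46608) (tt N24658 (iv F48640)) (tt N22536 (iv D23900)) (tt N22547 F46609) (tt N22552 F46610) (tt N22546 F46611))
theorem Q23864 : ∀ i, i < 23864 → P i := stepQ 23863 Q23863 (allL N23863 (tt N22608 F46612) (tt N22537 (iv D23901)) (tt N24040 (iv F47047)) (tt N22715 F46613) (tt N22741 F46614) (tt N22542 F46615))
theorem Q23865 : ∀ i, i < 23865 → P i := stepQ 23864 Q23864 (allL N23864 (tt N22716 F46616) (tt N22611 F46617) (tt N22711 F46618) (tt N22742 F46619) (tt N22540 (iv D23902)) (tt N22611 F46620))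
theorem Q23866 : ∀ i, i < 23866 → P i := stepQ 23865 Q23865 (allL N23865 (tt N22542 (iv D23903)) (tt N22548 F46621) (tt N23543 F46622) (tt N23473 (iv F46625)) (tt N23523 F46623) (tt N22608 F46624))
theorem Q23867 : ∀ i, i < 23867 → P i := stepQ 23866 Q23866 (allL N23866 (tt N23473 F46626) (tt N22543 F46627) (tt N24722 D24760) (tt N22542 (iv D23904)) (tt N23473 F46628) (tt N22715 F46629))
theorem Q23868 : ∀ i, i < 23868 → P i := stepQ 23867 Q23867 (allL N23867 (tt N23441 (iv F46634)) (tt N22544 (iv D23905)) (tt N22879 F46630) (tt N23230 F46631) (tt N22545 F46632) (tt N22759 F46633))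
theorem Q23869 : ∀ i, i < 23869 → P i := stepQ 23868 Q23868 (allL N23868 (tt N22545 (iv D23906)) (tt N24184 (iv F47459)) (tt N22878 F46635) (tt N24666 (iv F48669)) (tt N23441 F46636) (tt N24657 (iv F48639)))
theorem Q23870 : ∀ i, i < 23870 → P i := stepQ 23869 Q23869 (allL N23869 (tt N24666 (iv F48667)) (tt N22546 F46637) (tt N24661 (iv F48652)) (tt N22545 (iv D23907)) (tt N24611 (iv F48511)) (tt N24658 (iv F48642)))
theorem Q23871 : ∀ i, i < 23871 → P i := stepQ 23870 Q23870 (allL N23870 (tt N24723 D24761) (tt N22550 (iv D23908)) (tt N23471 F46638) (tt N22706 F46639) (tt N23471 F46640) (tt N22710 F46641))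
theorem Q23872 : ∀ i, i < 23872 → P i := stepQ 23871 Q23871 (allL N23871 (tt N22551 (iv D23909)) (tt N22734 F46642) (tt N22553 F46643) (tt N24724 D24762) (tt N22600 F46644) (tt N22718 F46645))
theorem Q23873 : ∀ i, i < 23873 → P i := stepQ 23872 Q23872 (allL N23872 (tt N24724 (iv F48839)) (tt N22552 F46646) (tt N24725 D24763) (tt N22551 (iv D23910)) (tt N24658 (iv F48641)) (tt N22719 F46647))
theorem Q23874 : ∀ i, i < 23874 → P i := stepQ 23873 Q23873 (allL N23873 (tt N23233 F46648) (tt N22556 F46649) (tt N23720 F46650) (tt N23784 F46651) (tt N22554 (iv D23911)) (tt N24726 D24764))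
theorem Q23875 : ∀ i, i < 23875 → P i := stepQ 23874 Q23874 (allL N23874 (tt N23480 F46652) (tt N22557 F46653) (tt N23783 F46655) (tt N22555 (iv D23912)) (tt N23784 F46654) (tt N24727 D24765))
theorem Q23876 : ∀ i, i < 23876 → P i := stepQ 23875 Q23875 (allL N23875 (tt N23479 F46656) (tt N22558 F46657) (tt N23472 F46658) (tt N24727 (iv F48855)) (tt N23475 F46659) (tt N22555 (iv D23913)))
theorem Q23877 : ∀ i, i < 23877 → P i := stepQ 23876 Q23876 (allL N23876 (tt N22560 F46660) (tt N23784 F46661) (tt N24728 D24766) (tt N22556 (iv D23914)) (tt N22557 F46662) (tt N24729 D24767))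
theorem Q23878 : ∀ i, i < 23878 → P i := stepQ 23877 Q23877 (allL N23877 (tt N22561 F46663) (tt N24726 (iv F48848)) (tt N22590 F46664) (tt N24729 (iv F48864)) (tt N22589 F46665) (tt N22556 (iv D23915)))
theorem Q23879 : ∀ i, i < 23879 → P i := stepQ 23878 Q23878 (allL N23878 (tt N22562 F46666) (tt N24716 (iv F48805)) (tt N22557 (iv D23916)) (tt N22574 F46667) (tt N24728 (iv F48859)) (tt N22573 (iv F46668)))
theorem Q23880 : ∀ i, i < 23880 → P i := stepQ 23879 Q23879 (allL N23879 (tt N22563 F46669) (tt N24727 (iv F48853)) (tt N22573 F46670) (tt N22558 F46671) (tt N23498 (iv F46672)) (tt N22557 (iv D23917)))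
theorem Q23881 : ∀ i, i < 23881 → P i := stepQ 23880 Q23880 (allL N23880 (tt N24719 (iv F48815)) (tt N22559 (iv D23918)) (tt N22736 F46673) (tt N22594 F46674) (tt N23496 F46675) (tt N22569 F46676))
theorem Q23882 : ∀ i, i < 23882 → P i := stepQ 23881 Q23881 (allL N23881 (tt N24728 (iv F48857)) (tt N24730 D24768) (tt N22560 (iv D23919)) (tt N24731 D24769) (tt N22562 F46677) (tt N24732 D24770))
theorem Q23883 : ∀ i, i < 23883 → P i := stepQ 23882 Q23882 (allL N23882 (tt N24729 (iv F48861)) (tt N23490 F46678) (tt N24732 (iv F48869)) (tt N22561 F46679) (tt N23488 (iv F46680)) (tt N22560 (iv D23920)))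
theorem Q23884 : ∀ i, i < 23884 → P i := stepQ 23883 Q23883 (allL N23883 (tt N24263 (iv F47662)) (tt N22562 (iv D23921)) (tt N23495 F46681) (tt N24733 D24771) (tt N24730 (iv F48867)) (tt N24734 D24772))
theorem Q23885 : ∀ i, i < 23885 → P i := stepQ 23884 Q23884 (allL N23884 (tt N22574 F46682) (tt N24733 (iv F48871)) (tt N22566 F46683) (tt N22562 (iv D23922)) (tt N24735 D24773) (tt N22565 F46684))
theorem Q23886 : ∀ i, i < 23886 → P i := stepQ 23885 Q23885 (allL N23885 (tt N22573 F46685) (tt N24734 (iv F48874)) (tt N22563 F46686) (tt N22565 F46687) (tt N23497 (iv F46688)) (tt N22562 (iv D23923)))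
theorem Q23887 : ∀ i, i < 23887 → P i := stepQ 23886 Q23886 (allL N23886 (tt N23498 F46689) (tt N23493 F46690) (tt N23497 F46691) (tt N23489 F46692) (tt N22563 (iv D23924)) (tt N23488 F46693))
theorem Q23888 : ∀ i, i < 23888 → P i := stepQ 23887 Q23887 (allL N23887 (tt N24736 D24774) (tt N22565 (iv D23925)) (tt N24216 F47545) (tt N24734 (iv F48876)) (tt N22594 F46694) (tt N24733 F48872))
theorem Q23889 : ∀ i, i < 23889 → P i := stepQ 23888 Q23888 (allL N23888 (tt N22575 F46695) (tt N24687 (iv F48718)) (tt N24735 (iv F48879)) (tt N24693 (iv F48739)) (tt N22566 (iv D23926)) (tt N22593 F46696))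
theorem Q23890 : ∀ i, i < 23890 → P i := stepQ 23889 Q23889 (allL N23889 (tt N22578 F46697) (tt N23534 F46698) (tt N22567 (iv D23927)) (tt N24737 D24775) (tt N23453 F46699) (tt N22568 F46700))
theorem Q23891 : ∀ i, i < 23891 → P i := stepQ 23890 Q23890 (allL N23890 (tt N24738 D24776) (tt N22568 (iv D23928)) (tt N22598 F46701) (tt N24739 D24777) (tt N22569 F46702) (tt N23534 F46703))
theorem Q23892 : ∀ i, i < 23892 → P i := stepQ 23891 Q23891 (allL N23891 (tt N22580 F46704) (tt N24739 (iv F48892)) (tt N24740 D24778) (tt N22568 (iv D23929)) (tt N24741 D24779) (tt N24737 (iv F48887)))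
theorem Q23893 : ∀ i, i < 23893 → P i := stepQ 23892 Q23892 (allL N23892 (tt N22569 (iv D23930)) (tt N22581 F46705) (tt N22734 F46706) (tt N24742 D24780) (tt N24738 (iv F48890)) (tt N24719 (iv F48818)))
theorem Q23894 : ∀ i, i < 23894 → P i := stepQ 23893 Q23893 (allL N23893 (tt N24742 (iv F48899)) (tt N22570 F46707) (tt N24688 (iv F48722)) (tt N22569 (iv D23931)) (tt N24743 D24781) (tt N22594 F46708))
theorem Q23895 : ∀ i, i < 23895 → P i := stepQ 23894 Q23894 (allL N23894 (tt N22583 F46709) (tt N24743 (iv F48902)) (tt N22593 F46710) (tt N24741 (iv F48898)) (tt N22570 (iv D23932)) (tt N24735 (iv F48880)))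
theorem Q23896 : ∀ i, i < 23896 → P i := stepQ 23895 Q23895 (allL N23895 (tt N22593 F46711) (tt N22575 F46712) (tt N22583 F46713) (tt N22597 F46714) (tt N22571 (iv D23933)) (tt N22575 F46715))
theorem Q23897 : ∀ i, i < 23897 → P i := stepQ 23896 Q23896 (allL N23896 (tt N22572 (iv D23934)) (tt N24736 (iv F48881)) (tt N24720 (iv F48822)) (tt N23732 F46720) (tt N24720 (iv F48823)) (tt N24718 (iv F48814)))
theorem Q23898 : ∀ i, i < 23898 → P i := stepQ 23897 Q23897 (allL N23897 (tt N23732 (iv F46719)) (tt N22573 F46716) (tt N23730 F46718) (tt N22572 (iv D23935)) (tt N23447 F46717) (tt N24716 (iv F48807)))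
theorem Q23899 : ∀ i, i < 23899 → P i := stepQ 23898 Q23898 (allL N23898 (tt N24718 (iv F48812)) (tt N22574 F46721) (tt N22582 F46722) (tt N24716 (iv F48808)) (tt N24744 D24782) (tt N22572 (iv D23936)))
theorem Q23900 : ∀ i, i < 23900 → P i := stepQ 23899 Q23899 (allL N23899 (tt N24735 (iv F48878)) (tt N24744 (iv F48903)) (tt N22575 F46723) (tt N24745 D24783) (tt N22574 (iv D23937)) (tt N22583 F46724))
theorem Q23901 : ∀ i, i < 23901 → P i := stepQ 23900 Q23900 (allL N23900 (tt N24693 (iv F48736)) (tt N22597 F46725) (tt N24746 D24784) (tt N22575 (iv D23938)) (tt N22576 F46726) (tt N22597 F46727))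
theorem Q23902 : ∀ i, i < 23902 → P i := stepQ 23901 Q23901 (allL N23901 (tt N24692 (iv F48731)) (tt N24747 D24785) (tt N22576 (iv D23939)) (tt N24740 (iv F48895)) (tt N24746 (iv F48908)) (tt N22577 F46728))
theorem Q23903 : ∀ i, i < 23903 → P i := stepQ 23902 Q23902 (allL N23902 (tt N24748 D24786) (tt N22577 (iv D23940)) (tt N22595 F46729) (tt N24749 D24787) (tt N22595 F46730) (tt N24747 (iv F48911)))
theorem Q23904 : ∀ i, i < 23904 → P i := stepQ 23903 Q23903 (allL N23903 (tt N24691 (iv F48727)) (tt N24749 (iv F48914)) (tt N24737 (iv F48886)) (tt N22577 (iv D23941)) (tt N24750 D24788) (tt N24740 (iv F48896)))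
theorem Q23905 : ∀ i, i < 23905 → P i := stepQ 23904 Q23904 (allL N23904 (tt N24737 (iv F48884)) (tt N22705 F46731) (tt N24691 (iv F48729)) (tt N22578 (iv D23942)) (tt N24751 D24789) (tt N22580 F46732))
theorem Q23906 : ∀ i, i < 23906 → P i := stepQ 23905 Q23905 (allL N23905 (tt N22579 (iv D23943)) (tt N24738 (iv F48888)) (tt N22584 F46733) (tt N24752 D24790) (tt N22581 F46734) (tt N22704 F46735))
theorem Q23907 : ∀ i, i < 23907 → P i := stepQ 23906 Q23906 (allL N23906 (tt N24752 (iv F48920)) (tt N22580 F46736) (tt N24753 D24791) (tt N22579 (iv D23944)) (tt N24754 D24792) (tt N22705 F46737))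
theorem Q23908 : ∀ i, i < 23908 → P i := stepQ 23907 Q23907 (allL N23907 (tt N24740 (iv F48894)) (tt N24755 D24793) (tt N22580 (iv D23945)) (tt N24692 (iv F48734)) (tt N24756 D24794) (tt N24691 F48730))
theorem Q23909 : ∀ i, i < 23909 → P i := stepQ 23908 Q23908 (allL N23908 (tt N24741 (iv F48897)) (tt N24754 (iv F48926)) (tt N24756 (iv F48929)) (tt N22583 F46738) (tt N22580 (iv D23946)) (tt N24745 (iv F48906)))
theorem Q23910 : ∀ i, i < 23910 → P i := stepQ 23909 Q23909 (allL N23909 (tt N22582 F46739) (tt N24742 (iv F48900)) (tt N24718 (iv F48813)) (tt N22581 (iv D23947)) (tt N24757 D24795) (tt N24720 (iv F48824)))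
theorem Q23911 : ∀ i, i < 23911 → P i := stepQ 23910 Q23910 (allL N23910 (tt N24757 (iv F48930)) (tt N22583 F46740) (tt N24744 (iv F48904)) (tt N24754 (iv F48927)) (tt N22582 (iv D23948)) (tt N24744 (iv F48905)))
theorem Q23912 : ∀ i, i < 23912 → P i := stepQ 23911 Q23911 (allL N23911 (tt N23476 F46741) (tt N22588 F46742) (tt N24758 D24796) (tt N22587 (iv D23949)) (tt N23474 F46743) (tt N23837 (iv F46744)))
theorem Q23913 : ∀ i, i < 23913 → P i := stepQ 23912 Q23912 (allL N23912 (tt N23122 F46745) (tt N22589 F46746) (tt N22770 F46747) (tt N23837 F46748) (tt N24726 (iv F48851)) (tt N22587 (iv D23950)))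
theorem Q23914 : ∀ i, i < 23914 → P i := stepQ 23913 Q23913 (allL N23913 (tt N23486 F46749) (tt N23837 (iv F46752)) (tt N22588 (iv D23951)) (tt N22589 F46750) (tt N23484 F46751) (tt N22588 (iv F46753)))
theorem Q23915 : ∀ i, i < 23915 → P i := stepQ 23914 Q23914 (allL N23914 (tt N22693 F46754) (tt N23510 F46755) (tt N24759 D24797) (tt N22590 (iv D23952)) (tt N22688 F46756) (tt N22591 F46757))
theorem Q23916 : ∀ i, i < 23916 → P i := stepQ 23915 Q23915 (allL N23915 (tt N22698 F46758) (tt N24760 D24798) (tt N22591 (iv D23953)) (tt N24750 (iv F48916)) (tt N22592 F46759) (tt N24759 (iv F48938)))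
theorem Q23917 : ∀ i, i < 23917 → P i := stepQ 23916 Q23916 (allL N23916 (tt N24761 D24799) (tt N22592 (iv D23954)) (tt N23940 (iv F46814)) (tt N22595 F46760) (tt N24760 (iv F48939)) (tt N22689 F46761))
theorem Q23918 : ∀ i, i < 23918 → P i := stepQ 23917 Q23917 (allL N23917 (tt N22594 (iv D23955)) (tt N24720 (iv F48821)) (tt N24250 F47639) (tt N24719 F48819) (tt N24736 (iv F48883)) (tt N24742 (iv F48901)))
theorem Q23919 : ∀ i, i < 23919 → P i := stepQ 23918 Q23918 (allL N23918 (tt N22595 (iv D23956)) (tt N24571 F48417) (tt N24748 (iv F48912)) (tt N24761 (iv F48941)) (tt N24748 (iv F48913)) (tt N24762 D24800))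
theorem Q23920 : ∀ i, i < 23920 → P i := stepQ 23919 Q23919 (allL N23919 (tt N24762 (iv F48943)) (tt N22596 F46762) (tt N24747 (iv F48910)) (tt N22689 F46763) (tt N24763 D24801) (tt N22595 (iv D23957)))
theorem Q23921 : ∀ i, i < 23921 → P i := stepQ 23920 Q23920 (allL N23920 (tt N22697 F46764) (tt N24763 (iv F48946)) (tt N22597 F46765) (tt N24764 D24802) (tt N22596 (iv D23958)) (tt N24746 (iv F48909)))
theorem Q23922 : ∀ i, i < 23922 → P i := stepQ 23921 Q23921 (allL N23921 (tt N22598 (iv D23959)) (tt N22600 F46766) (tt N24738 (iv F48889)) (tt N23533 F46767) (tt N22734 F46768) (tt N23457 F46769))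
theorem Q23923 : ∀ i, i < 23923 → P i := stepQ 23922 Q23922 (allL N23922 (tt N22601 F46770) (tt N23533 F46771) (tt N23303 F46772) (tt N22600 (iv D23960)) (tt N24657 (iv F48638)) (tt N23438 F46773))
theorem Q23924 : ∀ i, i < 23924 → P i := stepQ 23923 Q23923 (allL N23923 (tt N23532 F46774) (tt N23435 F46775) (tt N22795 F46778) (tt N22602 (iv D23961)) (tt N22760 F46776) (tt N23450 F46777))
theorem Q23925 : ∀ i, i < 23925 → P i := stepQ 23924 Q23924 (allL N23924 (tt N24545 (iv F48342)) (tt N22603 (iv D23962)) (tt N24690 (iv F48724)) (tt N23521 F46779) (tt N22605 F46780) (tt N23520 F46781))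
theorem Q23926 : ∀ i, i < 23926 → P i := stepQ 23925 Q23925 (allL N23925 (tt N22607 F46782) (tt N24693 (iv F48737)) (tt N23522 F46783) (tt N24687 (iv F48719)) (tt N22604 (iv D23963)) (tt N22607 F46784))
theorem Q23927 : ∀ i, i < 23927 → P i := stepQ 23926 Q23926 (allL N23926 (tt N24572 (iv F48418)) (tt N22606 F46785) (tt N22695 F46786) (tt N23514 F46787) (tt N24765 D24803) (tt N22605 (iv D23964)))
theorem Q23928 : ∀ i, i < 23928 → P i := stepQ 23927 Q23927 (allL N23927 (tt N23522 F46788) (tt N24765 (iv F48949)) (tt N22607 F46789) (tt N24766 D24804) (tt N22606 (iv D23965)) (tt N23522 F46790))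
theorem Q23929 : ∀ i, i < 23929 → P i := stepQ 23928 Q23928 (allL N23928 (tt N22715 F46791) (tt N22609 F46792) (tt N24767 D24805) (tt N22608 (iv D23966)) (tt N23541 F46793) (tt N23473 F46794))
theorem Q23930 : ∀ i, i < 23930 → P i := stepQ 23929 Q23929 (allL N23929 (tt N24768 D24806) (tt N22610 (iv D23967)) (tt N22710 F46795) (tt N23472 F46796) (tt N24769 D24807) (tt N23471 F46797))
theorem Q23931 : ∀ i, i < 23931 → P i := stepQ 23930 Q23930 (allL N23930 (tt N22717 F46798) (tt N24769 (iv F48966)) (tt N22611 F46799) (tt N23743 (iv F46801)) (tt N22610 (iv D23968)) (tt N22711 F46800))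
theorem Q23932 : ∀ i, i < 23932 → P i := stepQ 23931 Q23931 (allL N23931 (tt N24320 (iv F47814)) (tt N24316 (iv F47796)) (tt N22612 (iv D23969)) (tt N22781 F46802) (tt N24316 (iv F47797)) (tt N24320 (iv F47817)))
theorem Q23933 : ∀ i, i < 23933 → P i := stepQ 23932 Q23932 (allL N23932 (tt N23563 F46803) (tt N23560 F46804) (tt N23561 F46805) (tt N24474 (iv F48150)) (tt N23573 F46806) (tt N22614 (iv D23970)))

end Cfsg.Agent.Helper17.ONS1TC
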