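import Cfsg.Agent.Helper17.ONS1TC.Fin5

set_option autoImplicit false
set_option linter.all false
set_option maxRecDepth 100000

noncomputable section

namespace Cfsg.Agent.Helper17.ONS1TC

theorem Q23934 : ∀ i, i < 23934 → P i := stepQ 23933 Q23933 (allL N23933 (tt N22620 F46807) (tt N24770 D24808) (tt N22618 (iv D23971)) (tt N24695 (iv F48745)) (tt N24475 (iv F48152)) (tt N24354 (iv F47906)))
theorem Q23935 : ∀ i, i < 23935 → P i := stepQ 23934 Q23934 (allL N23934 (tt N24695 (iv F48744)) (tt N24476 (iv F48153)) (tt N24380 (iv F47957)) (tt N22620 (iv D23972)) (tt N24771 D24809) (tt N24392 (iv F47981)))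
theorem Q23936 : ∀ i, i < 23936 → P i := stepQ 23935 Q23935 (allL N23935 (tt N22622 F46808) (tt N23360 F46809) (tt N24772 D24810) (tt N22621 (iv D23973)) (tt N23357 F46810) (tt N24598 (iv F48481)))
theorem Q23937 : ∀ i, i < 23937 → P i := stepQ 23936 Q23936 (allL N23936 (tt N24772 (iv F48971)) (tt N24592 (iv F48464)) (tt N22622 (iv D23974)) (tt N24773 D24811) (tt N24709 (iv F48781)) (tt N24599 (iv F48483)))
theorem Q23938 : ∀ i, i < 23938 → P i := stepQ 23937 Q23937 (allL N23937 (tt N22625 F46811) (tt N24774 D24812) (tt N22623 (iv D23975)) (tt N24775 D24813) (tt N24338 (iv F47864)) (tt N24361 (iv F47922)))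
theorem Q23939 : ∀ i, i < 23939 → P i := stepQ 23938 Q23938 (allL N23938 (tt N24775 (iv F48973)) (tt N24339 (iv F47867)) (tt N24619 (iv F48540)) (tt N22625 (iv D23976)) (tt N24776 D24814) (tt N24362 (iv F47924)))
theorem Q23940 : ∀ i, i < 23940 → P i := stepQ 23939 Q23939 (allL N23939 (tt N23796 F46812) (tt N24777 D24815) (tt N22627 (iv D23977)) (tt N24778 D24816) (tt N22629 F46813) (tt N24514 (iv F48267)))
theorem Q23941 : ∀ i, i < 23941 → P i := stepQ 23940 Q23940 (allL N23940 (tt N24779 D24817) (tt N22629 (iv D23978)) (tt N23916 F46814) (tt N24780 D24818) (tt N24777 (iv F48976)) (tt N23820 F46815))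
theorem Q23942 : ∀ i, i < 23942 → P i := stepQ 23941 Q23941 (allL N23941 (tt N22638 F46816) (tt N24780 (iv F48982)) (tt N22633 F46817) (tt N22629 (iv D23979)) (tt N24781 D24819) (tt N22632 F46818))
theorem Q23943 : ∀ i, i < 23943 → P i := stepQ 23942 Q23942 (allL N23942 (tt N23344 F46819) (tt N24782 D24820) (tt N22630 (iv D23980)) (tt N24783 D24821) (tt N24434 (iv F48082)) (tt N24784 D24822))
theorem Q23944 : ∀ i, i < 23944 → P i := stepQ 23943 Q23943 (allL N23943 (tt N23345 F46820) (tt N22633 F46821) (tt N24784 (iv F48991)) (tt N22631 F46822) (tt N24785 D24823) (tt N22630 (iv D23981)))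
theorem Q23945 : ∀ i, i < 23945 → P i := stepQ 23944 Q23944 (allL N23944 (tt N24786 D24824) (tt N22632 (iv D23982)) (tt N24782 (iv F48986)) (tt N23820 F46823) (tt N24678 (iv F48697)) (tt N24780 (iv F48983)))
theorem Q23946 : ∀ i, i < 23946 → P i := stepQ 23945 Q23945 (allL N23945 (tt N22639 F46824) (tt N24785 (iv F48994)) (tt N24781 (iv F48985)) (tt N23548 F46825) (tt N22633 (iv D23983)) (tt N24285 (iv F47717)))
theorem Q23947 : ∀ i, i < 23947 → P i := stepQ 23946 Q23946 (allL N23946 (tt N24787 D24825) (tt N22634 (iv D23984)) (tt N24530 (iv F48299)) (tt N23512 F46826) (tt N22637 F46827) (tt N24682 (iv F48705)))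
theorem Q23948 : ∀ i, i < 23948 → P i := stepQ 23947 Q23947 (allL N23947 (tt N24285 (iv F47715)) (tt N23043 F46828) (tt N24683 (iv F48708)) (tt N23549 F46829) (tt N22635 (iv D23985)) (tt N22639 F46830))
theorem Q23949 : ∀ i, i < 23949 → P i := stepQ 23948 Q23948 (allL N23948 (tt N22637 (iv D23986)) (tt N24786 (iv F48996)) (tt N24529 (iv F48297)) (tt N24416 F48036) (tt N24787 (iv F49000)) (tt N24788 D24826))
theorem Q23950 : ∀ i, i < 23950 → P i := stepQ 23949 Q23949 (allL N23949 (tt N24788 (iv F49002)) (tt N22638 F46831) (tt N23741 F46832) (tt N23795 F46833) (tt N24789 D24827) (tt N22637 (iv D23987)))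
theorem Q23951 : ∀ i, i < 23951 → P i := stepQ 23950 Q23950 (allL N23950 (tt N24781 (iv F48984)) (tt N24789 (iv F49005)) (tt N22639 F46834) (tt N24195 (iv F47489)) (tt N22638 (iv D23988)) (tt N24683 (iv F48709)))
theorem Q23952 : ∀ i, i < 23952 → P i := stepQ 23951 Q23951 (allL N23951 (tt N24408 (iv F48017)) (tt N22647 F46835) (tt N23311 F46836) (tt N22646 (iv D23989)) (tt N24647 (iv F48609)) (tt N24409 (iv F48024)))
theorem Q23953 : ∀ i, i < 23953 → P i := stepQ 23952 Q23952 (allL N23952 (tt N22653 F46837) (tt N24409 (iv F48022)) (tt N22647 (iv D23990)) (tt N22648 F46838) (tt N24648 (iv F48612)) (tt N22647 (iv F46839)))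
theorem Q23954 : ∀ i, i < 23954 → P i := stepQ 23953 Q23953 (allL N23953 (tt N22651 F46840) (tt N24408 (iv F48018)) (tt N24790 D24828) (tt N22650 (iv D23991)) (tt N24791 D24829) (tt N24413 (iv F48029)))
theorem Q23955 : ∀ i, i < 23955 → P i := stepQ 23954 Q23954 (allL N23954 (tt N24790 (iv F49009)) (tt N24792 D24830) (tt N22651 (iv D23992)) (tt N24792 F49015) (tt N24793 D24831) (tt N24792 F49014))
theorem Q23956 : ∀ i, i < 23956 → P i := stepQ 23955 Q23955 (allL N23955 (tt N24791 (iv F49010)) (tt N22654 F46841) (tt N24793 (iv F49016)) (tt N22656 F46842) (tt N22651 (iv D23993)) (tt N24141 (iv F47336)))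
theorem Q23957 : ∀ i, i < 23957 → P i := stepQ 23956 Q23956 (allL N23956 (tt N24413 (iv F48027)) (tt N22653 F46843) (tt N24792 (iv F49013)) (tt N22652 F46844) (tt N24794 D24832) (tt N22651 (iv D23994)))
theorem Q23958 : ∀ i, i < 23958 → P i := stepQ 23957 Q23957 (allL N23957 (tt N24648 (iv F48611)) (tt N24794 (iv F49017)) (tt N22654 F46845) (tt N24178 (iv F47441)) (tt N22653 (iv D23995)) (tt N24277 (iv F47701)))
theorem Q23959 : ∀ i, i < 23959 → P i := stepQ 23958 Q23958 (allL N23958 (tt N22656 F46846) (tt N24646 (iv F48605)) (tt N23019 F46847) (tt N24791 (iv F49011)) (tt N22655 (iv D23996)) (tt N23018 F46848))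
theorem Q23960 : ∀ i, i < 23960 → P i := stepQ 23959 Q23959 (allL N23959 (tt N24423 (iv F48051)) (tt N22659 F46849) (tt N24795 D24833) (tt N22658 (iv D23997)) (tt N23692 F46850) (tt N24304 (iv F47771)))
theorem Q23961 : ∀ i, i < 23961 → P i := stepQ 23960 Q23960 (allL N23960 (tt N22665 F46851) (tt N23056 (iv F46855)) (tt N22659 (iv D23998)) (tt N22662 F46852) (tt N23646 F46853) (tt N22664 F46854))
theorem Q23962 : ∀ i, i < 23962 → P i := stepQ 23961 Q23961 (allL N23961 (tt N23149 F46856) (tt N22661 (iv D23999)) (tt N23051 F46857) (tt N24505 (iv F48238)) (tt N22663 F46858) (tt N23048 F46859))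
theorem Q23963 : ∀ i, i < 23963 → P i := stepQ 23962 Q23962 (allL N23962 (tt N24465 (iv F48130)) (tt N22664 F46860) (tt N24796 D24834) (tt N22663 (iv D24000)) (tt N24704 (iv F48768)) (tt N23056 F46861))
theorem Q23964 : ∀ i, i < 23964 → P i := stepQ 23963 Q23963 (allL N23963 (tt N24568 (iv F48407)) (tt N24509 (iv F48248)) (tt N23648 F46862) (tt N22670 F46863) (tt N24508 (iv F48245)) (tt N22666 (iv D24001)))
theorem Q23965 : ∀ i, i < 23965 → P i := stepQ 23964 Q23964 (allL N23964 (tt N22669 F46864) (tt N23688 F46865) (tt N24562 (iv F48389)) (tt N24424 (iv F48056)) (tt N22667 (iv D24002)) (tt N24697 (iv F48751)))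
theorem Q23966 : ∀ i, i < 23966 → P i := stepQ 23965 Q23965 (allL N23965 (tt N22676 F46866) (tt N23571 F46867) (tt N22675 F46868) (tt N22668 (iv D24003)) (tt N23559 (iv F46870)) (tt N22672 F46869))
theorem Q23967 : ∀ i, i < 23967 → P i := stepQ 23966 Q23966 (allL N23966 (tt N24562 (iv F48387)) (tt N24560 (iv F48382)) (tt N22669 F46871) (tt N24797 D24835) (tt N22668 (iv D24004)) (tt N24798 D24836))
theorem Q23968 : ∀ i, i < 23968 → P i := stepQ 23967 Q23967 (allL N23967 (tt N24697 (iv F48748)) (tt N22670 F46872) (tt N24798 (iv F49026)) (tt N24509 (iv F48250)) (tt N22674 F46873) (tt N22669 (iv D24005)))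
theorem Q23969 : ∀ i, i < 23969 → P i := stepQ 23968 Q23968 (allL N23968 (tt N24544 (iv F48339)) (tt N23572 F46874) (tt N22674 F46875) (tt N23558 F46876) (tt N24798 (iv F49028)) (tt N22673 (iv D24006)))
theorem Q23970 : ∀ i, i < 23970 → P i := stepQ 23969 Q23969 (allL N23969 (tt N22685 F46877) (tt N23731 F46878) (tt N22684 F46879) (tt N22679 F46880) (tt N24799 D24837) (tt N22678 (iv D24007)))
theorem Q23971 : ∀ i, i < 23971 → P i := stepQ 23970 Q23970 (allL N23970 (tt N23022 F46881) (tt N23026 (iv F46885)) (tt N22681 (iv D24008)) (tt N23021 F46882) (tt N22682 F46883) (tt N23722 F46884))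
theorem Q23972 : ∀ i, i < 23972 → P i := stepQ 23971 Q23971 (allL N23971 (tt N23029 F46886) (tt N22682 (iv D24009)) (tt N24479 (iv F48162)) (tt N23025 F46887) (tt N23026 F46888) (tt N24420 (iv F48046)))
theorem Q23973 : ∀ i, i < 23973 → P i := stepQ 23972 Q23972 (allL N23972 (tt N22883 F46889) (tt N22684 F46890) (tt N23844 F46891) (tt N22683 (iv D24010)) (tt N24222 (iv F47563)) (tt N22881 F46892))
theorem Q23974 : ∀ i, i < 23974 → P i := stepQ 23973 Q23973 (allL N23973 (tt N22686 F46893) (tt N24222 (iv F47561)) (tt N24799 (iv F49031)) (tt N24060 (iv F47111)) (tt N22684 (iv D24011)) (tt N24059 F47107))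
theorem Q23975 : ∀ i, i < 23975 → P i := stepQ 23974 Q23974 (allL N23974 (tt N24799 (iv F49029)) (tt N22990 F46894) (tt N22686 F46895) (tt N22989 F46896) (tt N22685 (iv D24012)) (tt N23787 F46897))
theorem Q23976 : ∀ i, i < 23976 → P i := stepQ 23975 Q23975 (allL N23975 (tt N24800 D24838) (tt N22687 (iv D24013)) (tt N23507 F46898) (tt N24801 D24839) (tt N22689 F46899) (tt N24802 D24840))
theorem Q23977 : ∀ i, i < 23977 → P i := stepQ 23976 Q23976 (allL N23976 (tt N22691 F46900) (tt N24801 (iv F49037)) (tt N24803 D24841) (tt N22687 (iv D24014)) (tt N24764 (iv F48948)) (tt N24803 F49042))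
theorem Q23978 : ∀ i, i < 23978 → P i := stepQ 23977 Q23977 (allL N23977 (tt N22692 F46901) (tt N24802 (iv F49038)) (tt N22688 F46902) (tt N24803 (iv F49041)) (tt N24759 (iv F48937)) (tt N22687 (iv D24015)))
theorem Q23979 : ∀ i, i < 23979 → P i := stepQ 23978 Q23978 (allL N23978 (tt N22689 (iv D24016)) (tt N22694 F46903) (tt N24694 (iv F48742)) (tt N24762 (iv F48945)) (tt N24800 (iv F49036)) (tt N24761 (iv F48942)))
theorem Q23980 : ∀ i, i < 23980 → P i := stepQ 23979 Q23979 (allL N23979 (tt N22690 (iv D24017)) (tt N24800 (iv F49034)) (tt N23280 F46904) (tt N24804 D24842) (tt N22694 F46905) (tt N24805 D24843))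
theorem Q23981 : ∀ i, i < 23981 → P i := stepQ 23980 Q23980 (allL N23980 (tt N24804 (iv F49043)) (tt N22691 F46906) (tt N24806 D24844) (tt N22690 (iv D24018)) (tt N24807 D24845) (tt N24808 D24846))
theorem Q23982 : ∀ i, i < 23982 → P i := stepQ 23981 Q23981 (allL N23981 (tt N24805 (iv F49044)) (tt N22692 F46907) (tt N23305 F46908) (tt N24808 (iv F49053)) (tt N24266 (iv F47670)) (tt N22690 (iv D24019)))
theorem Q23983 : ∀ i, i < 23983 → P i := stepQ 23982 Q23982 (allL N23982 (tt N24803 (iv F49040)) (tt N24808 (iv F49051)) (tt N22691 (iv D24020)) (tt N22692 F46909) (tt N24809 D24847) (tt N22691 (iv F46910)))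
theorem Q23984 : ∀ i, i < 23984 → P i := stepQ 23983 Q23983 (allL N23983 (tt N24764 (iv F48947)) (tt N24807 (iv F49049)) (tt N24809 (iv F49054)) (tt N22697 F46911) (tt N22691 (iv D24021)) (tt N24810 D24848))
theorem Q23985 : ∀ i, i < 23985 → P i := stepQ 23984 Q23984 (allL N23984 (tt N24759 (iv F48936)) (tt N24266 (iv F47669)) (tt N22693 F46912) (tt N24811 D24849) (tt N22692 (iv D24022)) (tt N22698 F46913))
theorem Q23986 : ∀ i, i < 23986 → P i := stepQ 23985 Q23985 (allL N23985 (tt N22695 F46914) (tt N24762 (iv F48944)) (tt N24572 (iv F48420)) (tt N22694 (iv D24023)) (tt N24812 D24850) (tt N24571 F48416))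
theorem Q23987 : ∀ i, i < 23987 → P i := stepQ 23986 Q23986 (allL N23986 (tt N22696 F46915) (tt N24761 (iv F48940)) (tt N23461 F46916) (tt N24571 (iv F48415)) (tt N24680 (iv F48702)) (tt N22694 (iv D24024)))
theorem Q23988 : ∀ i, i < 23988 → P i := stepQ 23987 Q23987 (allL N23987 (tt N24812 (iv F49057)) (tt N22697 F46917) (tt N24765 (iv F48950)) (tt N24807 (iv F49050)) (tt N22695 (iv D24025)) (tt N24813 D24851))
theorem Q23989 : ∀ i, i < 23989 → P i := stepQ 23988 Q23988 (allL N23988 (tt N24680 (iv F48701)) (tt N22698 F46918) (tt N23462 F46919) (tt N24814 D24852) (tt N22696 (iv D24026)) (tt N24266 (iv F47671)))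
theorem Q23990 : ∀ i, i < 23990 → P i := stepQ 23989 Q23989 (allL N23989 (tt N24746 (iv F48907)) (tt N24813 (iv F49058)) (tt N24693 (iv F48738)) (tt N24810 (iv F49055)) (tt N24692 (iv F48735)) (tt N22697 (iv D24027)))
theorem Q23991 : ∀ i, i < 23991 → P i := stepQ 23990 Q23990 (allL N23990 (tt N24750 (iv F48915)) (tt N24814 (iv F49061)) (tt N24751 (iv F48918)) (tt N22698 (iv D24028)) (tt N24691 (iv F48728)) (tt N24811 (iv F49056)))
theorem Q23992 : ∀ i, i < 23992 → P i := stepQ 23991 Q23991 (allL N23991 (tt N22700 F46920) (tt N24398 (iv F47999)) (tt N22699 (iv D24029)) (tt N24753 (iv F48925)) (tt N23842 F46921) (tt N23464 F46922))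
theorem Q23993 : ∀ i, i < 23993 → P i := stepQ 23992 Q23992 (allL N23992 (tt N24753 (iv F48923)) (tt N24395 (iv F47990)) (tt N24752 (iv F48921)) (tt N22700 (iv D24030)) (tt N24815 D24853) (tt N24816 D24854))
theorem Q23994 : ∀ i, i < 23994 → P i := stepQ 23993 Q23993 (allL N23993 (tt N23464 F46923) (tt N24396 (iv F47992)) (tt N22702 F46924) (tt N24816 (iv F49064)) (tt N23724 F46925) (tt N22700 (iv D24031)))
theorem Q23995 : ∀ i, i < 23995 → P i := stepQ 23994 Q23994 (allL N23994 (tt N23534 F46926) (tt N22704 (iv D24032)) (tt N23457 F46927) (tt N24817 D24855) (tt N23451 F46928) (tt N24738 (iv F48891)))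
theorem Q23996 : ∀ i, i < 23996 → P i := stepQ 23995 Q23995 (allL N23995 (tt N22705 F46929) (tt N24817 (iv F49067)) (tt N24816 (iv F49063)) (tt N22704 (iv D24033)) (tt N24818 D24856) (tt N24752 (iv F48922)))
theorem Q23997 : ∀ i, i < 23997 → P i := stepQ 23996 Q23996 (allL N23996 (tt N24816 (iv F49062)) (tt N24819 D24857) (tt N22705 (iv D24034)) (tt N23464 F46930) (tt N24820 D24858) (tt N24753 (iv F48924)))
theorem Q23998 : ∀ i, i < 23998 → P i := stepQ 23997 Q23997 (allL N23997 (tt N24818 (iv F49068)) (tt N24751 (iv F48917)) (tt N24820 (iv F49074)) (tt N23456 F46931) (tt N22705 (iv D24035)) (tt N24821 D24859))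
theorem Q23999 : ∀ i, i < 23999 → P i := stepQ 23998 Q23998 (allL N23998 (tt N22706 (iv D24036)) (tt N22707 F46932) (tt N23727 F46933) (tt N24723 (iv F48836)) (tt N23463 F46934) (tt N22709 F46935))
theorem Q24000 : ∀ i, i < 24000 → P i := stepQ 23999 Q23999 (allL N23999 (tt N22708 F46936) (tt N24723 (iv F48834)) (tt N24822 D24860) (tt N22707 (iv D24037)) (tt N23468 F46937) (tt N22712 F46938))
theorem Q24001 : ∀ i, i < 24001 → P i := stepQ 24000 Q24000 (allL N24000 (tt N24822 (iv F49077)) (tt N24722 (iv F48831)) (tt N22708 (iv D24038)) (tt N24823 D24861) (tt N23469 F46939) (tt N22713 F46940))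
theorem Q24002 : ∀ i, i < 24002 → P i := stepQ 24001 Q24001 (allL N24001 (tt N22710 F46941) (tt N22712 F46942) (tt N24768 (iv F48961)) (tt N22709 (iv D24039)) (tt N23091 F46943) (tt N24723 (iv F48838)))
theorem Q24003 : ∀ i, i < 24003 → P i := stepQ 24002 Q24002 (allL N24002 (tt N23091 F46944) (tt N22711 F46945) (tt N24769 (iv F48967)) (tt N22908 F46946) (tt N22710 (iv D24040)) (tt N24769 (iv F48969)))
theorem Q24004 : ∀ i, i < 24004 → P i := stepQ 24003 Q24003 (allL N24003 (tt N22713 F46947) (tt N24824 D24862) (tt N22712 (iv D24041)) (tt N24725 (iv F48846)) (tt N24825 D24863) (tt N24822 (iv F49081)))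
theorem Q24005 : ∀ i, i < 24005 → P i := stepQ 24004 Q24004 (allL N24004 (tt N22714 F46948) (tt N23091 F46949) (tt N24825 (iv F49090)) (tt N22789 F46950) (tt N22712 (iv D24042)) (tt N24826 D24864))
theorem Q24006 : ∀ i, i < 24006 → P i := stepQ 24005 Q24005 (allL N24005 (tt N24767 (iv F48955)) (tt N22713 (iv D24043)) (tt N22715 F46951) (tt N24670 (iv F48680)) (tt N24174 F47430) (tt N24722 (iv F48833)))
theorem Q24007 : ∀ i, i < 24007 → P i := stepQ 24006 Q24006 (allL N24006 (tt N24725 (iv F48843)) (tt N24670 (iv F48678)) (tt N24724 (iv F48842)) (tt N22713 (iv D24044)) (tt N24668 F48673) (tt N24823 (iv F49084)))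
theorem Q24008 : ∀ i, i < 24008 → P i := stepQ 24007 Q24007 (allL N24007 (tt N24825 (iv F49089)) (tt N24174 (iv F47428)) (tt N22714 F46952) (tt N24173 F47427) (tt N22713 (iv D24045)) (tt N24827 D24865))
theorem Q24009 : ∀ i, i < 24009 → P i := stepQ 24008 Q24008 (allL N24008 (tt N24826 (iv F49091)) (tt N22717 F46953) (tt N24827 (iv F49096)) (tt N23445 F46954) (tt N22733 F46955) (tt N22714 (iv D24046)))
theorem Q24010 : ∀ i, i < 24010 → P i := stepQ 24009 Q24009 (allL N24009 (tt N23541 F46956) (tt N22716 F46957) (tt N24174 (iv F47429)) (tt N23540 F46958) (tt N22715 (iv D24047)) (tt N23541 F46959))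
theorem Q24011 : ∀ i, i < 24011 → P i := stepQ 24010 Q24010 (allL N24010 (tt N22736 F46960) (tt N22718 (iv D24048)) (tt N24719 (iv F48816)) (tt N24828 D24866) (tt N24713 (iv F48794)) (tt N22734 F46961))
theorem Q24012 : ∀ i, i < 24012 → P i := stepQ 24011 Q24011 (allL N24011 (tt N22719 F46962) (tt N24828 (iv F49099)) (tt N24823 (iv F49083)) (tt N22718 (iv D24049)) (tt N24829 D24867) (tt N24724 (iv F48841)))
theorem Q24013 : ∀ i, i < 24013 → P i := stepQ 24012 Q24012 (allL N24012 (tt N24823 (iv F49082)) (tt N22728 F46963) (tt N22719 (iv D24050)) (tt N24822 (iv F49079)) (tt N24830 D24868) (tt N24725 (iv F48845)))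
theorem Q24014 : ∀ i, i < 24014 → P i := stepQ 24013 Q24013 (allL N24013 (tt N24829 (iv F49102)) (tt N22730 F46964) (tt N24830 (iv F49105)) (tt N24612 (iv F48515)) (tt N22719 (iv D24051)) (tt N24611 F48512))
theorem Q24015 : ∀ i, i < 24015 → P i := stepQ 24014 Q24014 (allL N24014 (tt N24828 (iv F49098)) (tt N22721 (iv D24052)) (tt N24252 (iv F47642)) (tt N22736 F46965) (tt N23216 F46966) (tt N22735 F46967))
theorem Q24016 : ∀ i, i < 24016 → P i := stepQ 24015 Q24015 (allL N24015 (tt N22726 F46968) (tt N22821 F46969) (tt N24831 D24869) (tt N22722 (iv D24053)) (tt N22723 F46970) (tt N22826 F46971))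
theorem Q24017 : ∀ i, i < 24017 → P i := stepQ 24016 Q24016 (allL N24016 (tt N22728 F46972) (tt N24832 D24870) (tt N22723 (iv D24054)) (tt N23469 F46973) (tt N24831 (iv F49108)) (tt N24833 D24871))
theorem Q24018 : ∀ i, i < 24018 → P i := stepQ 24017 Q24017 (allL N24017 (tt N22729 F46974) (tt N22851 F46975) (tt N24833 (iv F49115)) (tt N22724 F46976) (tt N22849 F46977) (tt N22723 (iv D24055)))
theorem Q24019 : ∀ i, i < 24019 → P i := stepQ 24018 Q24018 (allL N24018 (tt N23221 F46978) (tt N23209 F46979) (tt N24610 (iv F48508)) (tt N22725 (iv D24056)) (tt N23228 F46980) (tt N24834 D24872))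
theorem Q24020 : ∀ i, i < 24020 → P i := stepQ 24019 Q24019 (allL N24019 (tt N22819 F46981) (tt N23210 F46982) (tt N22727 F46983) (tt N24834 (iv F49120)) (tt N22817 F46984) (tt N22725 (iv D24057)))
theorem Q24021 : ∀ i, i < 24021 → P i := stepQ 24020 Q24020 (allL N24020 (tt N24831 (iv F49107)) (tt N24830 (iv F49104)) (tt N22726 (iv D24058)) (tt N24830 (iv F49106)) (tt N22728 F46985) (tt N24835 D24873))
theorem Q24022 : ∀ i, i < 24022 → P i := stepQ 24021 Q24021 (allL N24021 (tt N22826 F46986) (tt N22731 F46987) (tt N24835 (iv F49123)) (tt N22727 F46988) (tt N22847 F46989) (tt N22726 (iv D24059)))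
theorem Q24023 : ∀ i, i < 24023 → P i := stepQ 24022 Q24022 (allL N24022 (tt N23469 F46990) (tt N24822 (iv F49078)) (tt N23468 F46991) (tt N22728 (iv D24060)) (tt N24822 (iv F49080)) (tt N24824 (iv F49088)))
theorem Q24024 : ∀ i, i < 24024 → P i := stepQ 24023 Q24023 (allL N24023 (tt N24833 (iv F49113)) (tt N24725 (iv F48844)) (tt N22729 F46992) (tt N24824 (iv F49087)) (tt N24708 (iv F48777)) (tt N22728 (iv D24061)))
theorem Q24025 : ∀ i, i < 24025 → P i := stepQ 24024 Q24024 (allL N24024 (tt N23472 F46993) (tt N22732 (iv D24062)) (tt N23479 F46994) (tt N24768 (iv F48962)) (tt N23442 F46995) (tt N23467 F46996))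
theorem Q24026 : ∀ i, i < 24026 → P i := stepQ 24025 Q24025 (allL N24025 (tt N22733 F46997) (tt N24768 (iv F48960)) (tt N24824 (iv F49086)) (tt N22732 (iv D24063)) (tt N24826 (iv F49094)) (tt N23468 F46998))
theorem Q24027 : ∀ i, i < 24027 → P i := stepQ 24026 Q24026 (allL N24026 (tt N24824 (iv F49085)) (tt N24767 (iv F48956)) (tt N22733 (iv D24064)) (tt N24833 (iv F49116)) (tt N24827 (iv F49097)) (tt N23469 F46999))
theorem Q24028 : ∀ i, i < 24028 → P i := stepQ 24027 Q24027 (allL N24027 (tt N22735 F47000) (tt N24724 (iv F48840)) (tt N24189 (iv F47475)) (tt N22734 (iv D24065)) (tt N24188 F47472) (tt N24828 (iv F49100)))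
theorem Q24029 : ∀ i, i < 24029 → P i := stepQ 24028 Q24028 (allL N24028 (tt N24713 (iv F48792)) (tt N22737 F47001) (tt N23496 F47002) (tt N24836 D24874) (tt N22736 (iv D24066)) (tt N23535 F47003))
theorem Q24030 : ∀ i, i < 24030 → P i := stepQ 24029 Q24029 (allL N24029 (tt N23450 F47004) (tt N24836 (iv F49125)) (tt N24457 (iv F48115)) (tt N22737 (iv D24067)) (tt N23217 F47005) (tt N23532 F47006))
theorem Q24031 : ∀ i, i < 24031 → P i := stepQ 24030 Q24030 (allL N24030 (tt N22751 F47007) (tt N24837 D24875) (tt N22744 (iv D24068)) (tt N22748 F47008) (tt N22754 F47009) (tt N22747 (iv F47010)))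
theorem Q24032 : ∀ i, i < 24032 → P i := stepQ 24031 Q24031 (allL N24031 (tt N22750 F47011) (tt N22752 F47012) (tt N22747 F47013) (tt N22745 F47014) (tt N22750 F47015) (tt N22744 (iv D24069)))
theorem Q24033 : ∀ i, i < 24033 → P i := stepQ 24032 Q24032 (allL N24032 (tt N23118 F47016) (tt N22747 F47017) (tt N24838 D24876) (tt N22746 (iv D24070)) (tt N22918 F47018) (tt N24837 (iv F49132)))
theorem Q24034 : ∀ i, i < 24034 → P i := stepQ 24033 Q24033 (allL N24033 (tt N23119 F47019) (tt N22748 F47020) (tt N22771 F47021) (tt N24837 (iv F49130)) (tt N23753 F47022) (tt N22746 (iv D24071)))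
theorem Q24035 : ∀ i, i < 24035 → P i := stepQ 24034 Q24034 (allL N24034 (tt N22924 F47023) (tt N23753 F47024) (tt N22749 F47025) (tt N23831 F47026) (tt N22748 (iv D24072)) (tt N22755 F47027))
theorem Q24036 : ∀ i, i < 24036 → P i := stepQ 24035 Q24035 (allL N24035 (tt N23120 (iv F47031)) (tt N22751 (iv D24073)) (tt N22918 F47028) (tt N22919 F47029) (tt N24838 (iv F49135)) (tt N22918 F47030))
theorem Q24037 : ∀ i, i < 24037 → P i := stepQ 24036 Q24036 (allL N24036 (tt N22754 F47032) (tt N24838 (iv F49134)) (tt N22752 F47033) (tt N23830 F47034) (tt N22751 (iv D24074)) (tt N22754 F47035))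
theorem Q24038 : ∀ i, i < 24038 → P i := stepQ 24037 Q24037 (allL N24037 (tt N23829 F47036) (tt N22845 F47037) (tt N24839 D24877) (tt N22753 (iv D24075)) (tt N23215 F47038) (tt N23750 F47039))
theorem Q24039 : ∀ i, i < 24039 → P i := stepQ 24038 Q24038 (allL N24038 (tt N24840 D24878) (tt N22754 (iv D24076)) (tt N24837 (iv F49129)) (tt N23832 F47040) (tt N24837 (iv F49131)) (tt N24838 (iv F49136)))
theorem Q24040 : ∀ i, i < 24040 → P i := stepQ 24039 Q24039 (allL N24039 (tt N22923 F47041) (tt N23752 F47042) (tt N23506 F47043) (tt N22755 (iv D24077)) (tt N22923 F47044) (tt N23831 F47045))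
theorem Q24041 : ∀ i, i < 24041 → P i := stepQ 24040 Q24040 (allL N24040 (tt N23803 F47046) (tt N22757 (iv D24078)) (tt N23863 F47047) (tt N23090 F47048) (tt N23423 F47049) (tt N23089 F47050))
theorem Q24042 : ∀ i, i < 24042 → P i := stepQ 24041 Q24041 (allL N24041 (tt N23440 F47051) (tt N22760 F47052) (tt N23231 F47055) (tt N22759 (iv D24079)) (tt N23435 F47053) (tt N23230 F47054))
theorem Q24043 : ∀ i, i < 24043 → P i := stepQ 24042 Q24042 (allL N24042 (tt N24434 (iv F48081)) (tt N24841 D24879) (tt N22762 (iv D24080)) (tt N24582 (iv F48446)) (tt N23344 F47056) (tt N24842 D24880))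
theorem Q24044 : ∀ i, i < 24044 → P i := stepQ 24043 Q24043 (allL N24043 (tt N24433 (iv F48078)) (tt N22765 F47057) (tt N24842 (iv F49152)) (tt N22763 F47058) (tt N24843 D24881) (tt N22762 (iv D24081)))
theorem Q24045 : ∀ i, i < 24045 → P i := stepQ 24044 Q24044 (allL N24044 (tt N24844 D24882) (tt N22764 (iv D24082)) (tt N24841 (iv F49148)) (tt N22978 F47059) (tt N23366 F47060) (tt N22977 F47061))
theorem Q24046 : ∀ i, i < 24046 → P i := stepQ 24045 Q24045 (allL N24045 (tt N23043 F47062) (tt N24843 (iv F49153)) (tt N23007 F47063) (tt N23201 F47064) (tt N22765 (iv D24083)) (tt N23200 F47065))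
theorem Q24047 : ∀ i, i < 24047 → P i := stepQ 24046 Q24046 (allL N24046 (tt N22921 F47066) (tt N22801 F47067) (tt N22803 F47068) (tt N22772 F47069) (tt N22769 (iv D24084)) (tt N23721 F47070))
theorem Q24048 : ∀ i, i < 24048 → P i := stepQ 24047 Q24047 (allL N24047 (tt N22991 F47071) (tt N22772 F47072) (tt N24726 (iv F48849)) (tt N22801 F47073) (tt N22770 (iv D24085)) (tt N23720 F47074))
theorem Q24049 : ∀ i, i < 24049 → P i := stepQ 24048 Q24048 (allL N24048 (tt N24845 D24883) (tt N22773 (iv D24086)) (tt N23594 F47075) (tt N24846 D24884) (tt N23592 F47076) (tt N23593 F47077))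
theorem Q24050 : ∀ i, i < 24050 → P i := stepQ 24049 Q24049 (allL N24049 (tt N22775 F47078) (tt N24846 (iv F49164)) (tt N24392 (iv F47982)) (tt N22773 (iv D24087)) (tt N24049 F47079) (tt N24380 (iv F47958)))
theorem Q24051 : ∀ i, i < 24051 → P i := stepQ 24050 Q24050 (allL N24050 (tt N22774 (iv D24088)) (tt N24845 (iv F49160)) (tt N22776 F47080) (tt N24847 D24885) (tt N24210 F47533) (tt N24449 (iv F48101)))
theorem Q24052 : ∀ i, i < 24052 → P i := stepQ 24051 Q24051 (allL N24051 (tt N24847 (iv F49167)) (tt N22775 F47081) (tt N24848 D24886) (tt N22774 (iv D24089)) (tt N24051 F47082) (tt N24450 (iv F48103)))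
theorem Q24053 : ∀ i, i < 24053 → P i := stepQ 24052 Q24052 (allL N24052 (tt N24392 (iv F47979)) (tt N24849 D24887) (tt N22775 (iv D24090)) (tt N24354 (iv F47907)) (tt N24052 F47083) (tt N24695 (iv F48746)))
theorem Q24054 : ∀ i, i < 24054 → P i := stepQ 24053 Q24053 (allL N24053 (tt N23597 F47084) (tt N23581 F47085) (tt N23598 (iv F47087)) (tt N22778 (iv D24091)) (tt N23602 F47086) (tt N24850 D24888))
theorem Q24055 : ∀ i, i < 24055 → P i := stepQ 24054 Q24054 (allL N24054 (tt N23573 F47088) (tt N23566 F47089) (tt N22780 F47090) (tt N24850 (iv F49174)) (tt N23563 F47091) (tt N22778 (iv D24092)))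
theorem Q24056 : ∀ i, i < 24056 → P i := stepQ 24055 Q24055 (allL N24055 (tt N24617 F48536) (tt N24627 (iv F48548)) (tt N22779 (iv D24093)) (tt N24627 (iv F48550)) (tt N22781 F47092) (tt N24851 D24889))
theorem Q24057 : ∀ i, i < 24057 → P i := stepQ 24056 Q24056 (allL N24056 (tt N23575 F47093) (tt N23567 F47094) (tt N24851 (iv F49178)) (tt N22780 F47095) (tt N23575 F47096) (tt N22779 (iv D24094)))
theorem Q24058 : ∀ i, i < 24058 → P i := stepQ 24057 Q24057 (allL N24057 (tt N23754 F47097) (tt N23829 F47098) (tt N24714 (iv F48797)) (tt N22784 (iv D24095)) (tt N24834 (iv F49121)) (tt N22792 F47099))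
theorem Q24059 : ∀ i, i < 24059 → P i := stepQ 24058 Q24058 (allL N24058 (tt N23099 F47100) (tt N22787 F47101) (tt N24852 D24890) (tt N22785 (iv D24096)) (tt N23096 F47102) (tt N23155 F47103))
theorem Q24060 : ∀ i, i < 24060 → P i := stepQ 24059 Q24059 (allL N24059 (tt N22790 F47104) (tt N23096 F47105) (tt N24677 (iv F48696)) (tt N22786 (iv D24097)) (tt N22787 F47106) (tt N23973 (iv F47107)))
theorem Q24061 : ∀ i, i < 24061 → P i := stepQ 24060 Q24060 (allL N24060 (tt N22791 F47108) (tt N23097 F47109) (tt N23445 F47110) (tt N23973 F47111) (tt N23111 F47112) (tt N22786 (iv D24098)))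
theorem Q24062 : ∀ i, i < 24062 → P i := stepQ 24061 Q24061 (allL N24061 (tt N22792 F47113) (tt N23232 F47114) (tt N23435 F47117) (tt N22788 (iv D24099)) (tt N23231 F47115) (tt N23754 F47116))
theorem Q24063 : ∀ i, i < 24063 → P i := stepQ 24062 Q24062 (allL N24062 (tt N23445 F47118) (tt N23092 F47119) (tt N22791 F47120) (tt N24826 (iv F49093)) (tt N23112 F47121) (tt N22789 (iv D24100)))
theorem Q24064 : ∀ i, i < 24064 → P i := stepQ 24063 Q24063 (allL N24063 (tt N23435 F47122) (tt N24853 D24891) (tt N22792 (iv D24101)) (tt N23434 F47123) (tt N23440 (iv F47124)) (tt N24714 (iv F48798)))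
theorem Q24065 : ∀ i, i < 24065 → P i := stepQ 24064 Q24064 (allL N24064 (tt N23231 F47125) (tt N24625 (iv F48545)) (tt N23440 F47126) (tt N23229 F47127) (tt N22792 (iv D24102)) (tt N23228 (iv F47128)))
theorem Q24066 : ∀ i, i < 24066 → P i := stepQ 24065 Q24065 (allL N24065 (tt N22796 F47129) (tt N23747 F47130) (tt N23444 F47131) (tt N24457 (iv F48116)) (tt N23742 F47132) (tt N22793 (iv D24103)))
theorem Q24067 : ∀ i, i < 24067 → P i := stepQ 24066 Q24066 (allL N24066 (tt N23444 F47133) (tt N23745 F47134) (tt N22796 F47135) (tt N23443 F47136) (tt N23743 F47137) (tt N22794 (iv D24104)))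
theorem Q24068 : ∀ i, i < 24068 → P i := stepQ 24067 Q24067 (allL N24067 (tt N23784 F47138) (tt N23234 F47139) (tt N22798 (iv D24105)) (tt N23233 F47141) (tt N23480 F47140) (tt N24854 D24892))
theorem Q24069 : ∀ i, i < 24069 → P i := stepQ 24068 Q24068 (allL N24068 (tt N23785 F47142) (tt N22800 F47143) (tt N24854 (iv F49189)) (tt N22799 F47144) (tt N24855 D24893) (tt N22798 (iv D24106)))
theorem Q24070 : ∀ i, i < 24070 → P i := stepQ 24069 Q24069 (allL N24069 (tt N23717 F47145) (tt N24855 (iv F49193)) (tt N24597 (iv F48475)) (tt N23164 F47146) (tt N22800 (iv D24107)) (tt N23716 F47147))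
theorem Q24071 : ∀ i, i < 24071 → P i := stepQ 24070 Q24070 (allL N24070 (tt N22992 F47148) (tt N23721 F47149) (tt N22802 F47150) (tt N23720 F47151) (tt N23012 F47152) (tt N22801 (iv D24108)))
theorem Q24072 : ∀ i, i < 24072 → P i := stepQ 24071 Q24071 (allL N24071 (tt N22803 (iv D24109)) (tt N22973 F47153) (tt N22921 F47154) (tt N24856 D24894) (tt N22920 F47155) (tt N23723 (iv F47156)))
theorem Q24073 : ∀ i, i < 24073 → P i := stepQ 24072 Q24072 (allL N24072 (tt N24856 (iv F49197)) (tt N22804 F47157) (tt N24682 (iv F48706)) (tt N22803 (iv D24110)) (tt N23041 F47158) (tt N24530 (iv F48301)))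
theorem Q24074 : ∀ i, i < 24074 → P i := stepQ 24073 Q24073 (allL N24073 (tt N23723 F47159) (tt N22805 F47160) (tt N23721 F47161) (tt N24530 (iv F48300)) (tt N23023 F47162) (tt N22803 (iv D24111)))
theorem Q24075 : ∀ i, i < 24075 → P i := stepQ 24074 Q24074 (allL N24074 (tt N24312 (iv F47781)) (tt N22812 (iv D24112)) (tt N22940 F47163) (tt N24857 D24895) (tt N22813 F47164) (tt N22939 F47165))
theorem Q24076 : ∀ i, i < 24076 → P i := stepQ 24075 Q24075 (allL N24075 (tt N22829 F47166) (tt N24857 (iv F49202)) (tt N24260 (iv F47655)) (tt N22812 (iv D24113)) (tt N22839 F47167) (tt N23218 F47168))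
theorem Q24077 : ∀ i, i < 24077 → P i := stepQ 24076 Q24076 (allL N24076 (tt N24834 (iv F49118)) (tt N22820 F47169) (tt N24612 (iv F48514)) (tt N22819 (iv D24114)) (tt N23754 F47170) (tt N23221 F47171))
theorem Q24078 : ∀ i, i < 24078 → P i := stepQ 24077 Q24077 (allL N24077 (tt N22866 F47172) (tt N24858 D24896) (tt N22821 (iv D24115)) (tt N24260 (iv F47656)) (tt N22859 F47173) (tt N22827 F47174))
theorem Q24079 : ∀ i, i < 24079 → P i := stepQ 24078 Q24078 (allL N24078 (tt N24151 (iv F47360)) (tt N22822 (iv D24116)) (tt N22911 F47175) (tt N24859 D24897) (tt N22823 F47176) (tt N22828 F47177))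
theorem Q24080 : ∀ i, i < 24080 → P i := stepQ 24079 Q24079 (allL N24079 (tt N23218 F47178) (tt N24859 (iv F49207)) (tt N22865 F47180) (tt N22822 (iv D24117)) (tt N24138 (iv F47325)) (tt N22829 F47179))
theorem Q24081 : ∀ i, i < 24081 → P i := stepQ 24080 Q24080 (allL N24080 (tt N23364 F47181) (tt N22825 F47182) (tt N23375 F47183) (tt N22831 F47184) (tt N22824 (iv D24118)) (tt N23373 (iv F47185)))
theorem Q24082 : ∀ i, i < 24082 → P i := stepQ 24081 Q24081 (allL N24081 (tt N23006 F47186) (tt N23373 F47187) (tt N23004 F47188) (tt N22832 F47189) (tt N24139 (iv F47331)) (tt N22825 (iv D24119)))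
theorem Q24083 : ∀ i, i < 24083 → P i := stepQ 24082 Q24082 (allL N24082 (tt N24835 (iv F49122)) (tt N24860 D24898) (tt N22826 (iv D24120)) (tt N24667 (iv F48670)) (tt N22848 F47190) (tt N24831 (iv F49109)))
theorem Q24084 : ∀ i, i < 24084 → P i := stepQ 24083 Q24083 (allL N24083 (tt N24861 D24899) (tt N22827 (iv D24121)) (tt N24860 (iv F49209)) (tt N24862 D24900) (tt N22850 F47191) (tt N24858 (iv F49206)))
theorem Q24085 : ∀ i, i < 24085 → P i := stepQ 24084 Q24084 (allL N24084 (tt N22865 F47192) (tt N24862 (iv F49213)) (tt N23218 F47194) (tt N22827 (iv D24122)) (tt N22860 F47193) (tt N24260 (iv F47657)))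
theorem Q24086 : ∀ i, i < 24086 → P i := stepQ 24085 Q24085 (allL N24085 (tt N24442 (iv F48093)) (tt N22829 F47195) (tt N24863 D24901) (tt N22828 (iv D24123)) (tt N24287 (iv F47721)) (tt N24859 (iv F49208)))
theorem Q24087 : ∀ i, i < 24087 → P i := stepQ 24086 Q24086 (allL N24086 (tt N24260 (iv F47654)) (tt N24864 D24902) (tt N22829 (iv D24124)) (tt N22866 F47196) (tt N24246 (iv F47631)) (tt N22865 F47197))
theorem Q24088 : ∀ i, i < 24088 → P i := stepQ 24087 Q24087 (allL N24087 (tt N23195 F47198) (tt N22832 F47199) (tt N23198 F47200) (tt N23373 F47201) (tt N24288 (iv F47723)) (tt N22831 (iv D24125)))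
theorem Q24089 : ∀ i, i < 24089 → P i := stepQ 24088 Q24088 (allL N24088 (tt N22834 (iv D24126)) (tt N23202 F47202) (tt N22837 F47203) (tt N23423 F47204) (tt N23197 (iv F47206)) (tt N22877 F47205))
theorem Q24090 : ∀ i, i < 24090 → P i := stepQ 24089 Q24089 (allL N24089 (tt N23197 F47207) (tt N22835 F47208) (tt N22838 F47209) (tt N23203 (iv F47211)) (tt N22834 (iv D24127)) (tt N23194 F47210))
theorem Q24091 : ∀ i, i < 24091 → P i := stepQ 24090 Q24090 (allL N24090 (tt N23084 F47212) (tt N23203 F47213) (tt N24865 D24903) (tt N22835 (iv D24128)) (tt N23804 F47214) (tt N23082 F47215))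
theorem Q24092 : ∀ i, i < 24092 → P i := stepQ 24091 Q24091 (allL N24091 (tt N22838 F47216) (tt N24286 (iv F47718)) (tt N23197 F47217) (tt N24866 D24904) (tt N22837 (iv D24129)) (tt N23196 F47218))
theorem Q24093 : ∀ i, i < 24093 → P i := stepQ 24092 Q24092 (allL N24092 (tt N24866 (iv F49220)) (tt N22839 F47219) (tt N24867 D24905) (tt N22838 (iv D24130)) (tt N24857 (iv F49203)) (tt N24259 (iv F47653)))
theorem Q24094 : ∀ i, i < 24094 → P i := stepQ 24093 Q24093 (allL N24093 (tt N23196 F47220) (tt N22840 F47221) (tt N23194 F47222) (tt N24259 (iv F47652)) (tt N23186 F47223) (tt N22838 (iv D24131)))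
theorem Q24095 : ∀ i, i < 24095 → P i := stepQ 24094 Q24094 (allL N24094 (tt N22843 F47224) (tt N24278 (iv F47703)) (tt N24868 D24906) (tt N22841 (iv D24132)) (tt N22843 F47225) (tt N24869 D24907))
theorem Q24096 : ∀ i, i < 24096 → P i := stepQ 24095 Q24095 (allL N24095 (tt N22844 F47226) (tt N24279 (iv F47705)) (tt N22842 F47227) (tt N24869 (iv F49227)) (tt N22869 F47228) (tt N22841 (iv D24133)))
theorem Q24097 : ∀ i, i < 24097 → P i := stepQ 24096 Q24096 (allL N24096 (tt N24868 (iv F49223)) (tt N24870 D24908) (tt N22843 (iv D24134)) (tt N23083 F47229) (tt N24868 (iv F49224)) (tt N24871 D24909))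
theorem Q24098 : ∀ i, i < 24098 → P i := stepQ 24097 Q24097 (allL N24097 (tt N24869 (iv F49226)) (tt N24281 (iv F47707)) (tt N24871 (iv F49230)) (tt N22844 F47230) (tt N24872 D24910) (tt N22843 (iv D24135)))
theorem Q24099 : ∀ i, i < 24099 → P i := stepQ 24098 Q24098 (allL N24098 (tt N22848 F47231) (tt N24661 (iv F48651)) (tt N22847 (iv D24136)) (tt N24660 F48649) (tt N24835 (iv F49124)) (tt N24708 (iv F48778)))
theorem Q24100 : ∀ i, i < 24100 → P i := stepQ 24099 Q24099 (allL N24099 (tt N24665 (iv F48663)) (tt N22848 (iv D24137)) (tt N22850 F47232) (tt N24664 F48661) (tt N24860 (iv F49210)) (tt N22856 (iv F47233)))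
theorem Q24101 : ∀ i, i < 24101 → P i := stepQ 24100 Q24100 (allL N24100 (tt N24708 (iv F48776)) (tt N22856 F47234) (tt N22849 F47235) (tt N24669 (iv F48676)) (tt N24833 (iv F49117)) (tt N22848 (iv D24138)))
theorem Q24102 : ∀ i, i < 24102 → P i := stepQ 24101 Q24101 (allL N24101 (tt N22850 (iv D24139)) (tt N22863 F47236) (tt N24665 (iv F48665)) (tt N22855 F47237) (tt N24861 (iv F49212)) (tt N22854 F47238))
theorem Q24103 : ∀ i, i < 24103 → P i := stepQ 24102 Q24102 (allL N24102 (tt N22857 F47239) (tt N24189 (iv F47474)) (tt N24670 (iv F48679)) (tt N24206 (iv F47520)) (tt N22854 (iv D24140)) (tt N24873 D24911))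
theorem Q24104 : ∀ i, i < 24104 → P i := stepQ 24103 Q24103 (allL N24103 (tt N24670 (iv F48677)) (tt N24833 (iv F49114)) (tt N22857 F47240) (tt N24767 (iv F48959)) (tt N22856 (iv D24141)) (tt N24832 F49112))
theorem Q24105 : ∀ i, i < 24105 → P i := stepQ 24104 Q24104 (allL N24104 (tt N24873 (iv F49233)) (tt N22859 F47241) (tt N24832 (iv F49110)) (tt N24205 (iv F47515)) (tt N24858 (iv F49205)) (tt N22857 (iv D24142)))
theorem Q24106 : ∀ i, i < 24106 → P i := stepQ 24105 Q24105 (allL N24105 (tt N24293 (iv F47734)) (tt N22860 F47242) (tt N24874 D24912) (tt N22858 (iv D24143)) (tt N24862 (iv F49214)) (tt N24243 (iv F47619)))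
theorem Q24107 : ∀ i, i < 24107 → P i := stepQ 24106 Q24106 (allL N24106 (tt N22861 (iv D24144)) (tt N24666 (iv F48668)) (tt N22863 F47243) (tt N24184 (iv F47460)) (tt N24875 D24913) (tt N24188 (iv F47471)))
theorem Q24108 : ∀ i, i < 24108 → P i := stepQ 24107 Q24107 (allL N24107 (tt N24875 (iv F49234)) (tt N22862 F47244) (tt N22864 F47245) (tt N24456 (iv F48111)) (tt N22861 (iv D24145)) (tt N23216 F47246))
theorem Q24109 : ∀ i, i < 24109 → P i := stepQ 24108 Q24108 (allL N24108 (tt N22864 F47247) (tt N24861 (iv F49211)) (tt N24875 (iv F49235)) (tt N24876 D24914) (tt N22863 (iv D24146)) (tt N24877 D24915))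
theorem Q24110 : ∀ i, i < 24110 → P i := stepQ 24109 Q24109 (allL N24109 (tt N24876 (iv F49237)) (tt N22865 F47248) (tt N24878 D24916) (tt N22864 (iv D24147)) (tt N24235 F47595) (tt N24864 (iv F49216)))
theorem Q24111 : ∀ i, i < 24111 → P i := stepQ 24110 Q24110 (allL N24110 (tt N24877 (iv F49238)) (tt N22866 F47249) (tt N23216 F47250) (tt N24864 (iv F49215)) (tt N24252 (iv F47644)) (tt N22864 (iv D24148)))
theorem Q24112 : ∀ i, i < 24112 → P i := stepQ 24111 Q24111 (allL N24111 (tt N24186 (iv F47464)) (tt N22868 F47251) (tt N24879 D24917) (tt N22867 (iv D24149)) (tt N22871 F47252) (tt N24880 D24918))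
theorem Q24113 : ∀ i, i < 24113 → P i := stepQ 24112 Q24112 (allL N24112 (tt N24187 (iv F47467)) (tt N22869 F47253) (tt N24183 (iv F47457)) (tt N24880 (iv F49244)) (tt N24279 (iv F47706)) (tt N22867 (iv D24150)))
theorem Q24114 : ∀ i, i < 24114 → P i := stepQ 24113 Q24113 (allL N24113 (tt N22874 F47254) (tt N24880 (iv F49243)) (tt N24515 (iv F48269)) (tt N22869 F47255) (tt N24881 D24919) (tt N22868 (iv D24151)))
theorem Q24115 : ∀ i, i < 24115 → P i := stepQ 24114 Q24114 (allL N24114 (tt N22871 F47256) (tt N24186 (iv F47465)) (tt N24882 D24920) (tt N22870 (iv D24152)) (tt N24186 (iv F47466)) (tt N24883 D24921))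
theorem Q24116 : ∀ i, i < 24116 → P i := stepQ 24115 Q24115 (allL N24115 (tt N22872 F47257) (tt N24187 (iv F47468)) (tt N22875 F47258) (tt N24883 (iv F49251)) (tt N24192 (iv F47484)) (tt N22870 (iv D24153)))
theorem Q24117 : ∀ i, i < 24117 → P i := stepQ 24116 Q24116 (allL N24116 (tt N24882 (iv F49248)) (tt N24884 D24922) (tt N22871 (iv D24154)) (tt N24885 D24923) (tt N24879 (iv F49241)) (tt N24886 D24924))
theorem Q24118 : ∀ i, i < 24118 → P i := stepQ 24117 Q24117 (allL N24117 (tt N24883 (iv F49250)) (tt N22874 F47259) (tt N24886 (iv F49260)) (tt N22872 F47260) (tt N24887 D24925) (tt N22871 (iv D24155)))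
theorem Q24119 : ∀ i, i < 24119 → P i := stepQ 24118 Q24118 (allL N24118 (tt N23616 F47261) (tt N22873 (iv D24156)) (tt N24884 (iv F49252)) (tt N23363 F47262) (tt N23551 F47263) (tt N24516 (iv F48272)))
theorem Q24120 : ∀ i, i < 24120 → P i := stepQ 24119 Q24119 (allL N24119 (tt N24881 (iv F49245)) (tt N24887 (iv F49262)) (tt N24517 (iv F48273)) (tt N24872 (iv F49232)) (tt N22874 (iv D24157)) (tt N24881 (iv F49247)))
theorem Q24121 : ∀ i, i < 24121 → P i := stepQ 24120 Q24120 (allL N24120 (tt N23652 F47264) (tt N24888 D24926) (tt N22880 (iv D24158)) (tt N24637 (iv F48576)) (tt N23643 F47265) (tt N24466 (iv F48136)))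
theorem Q24122 : ∀ i, i < 24122 → P i := stepQ 24121 Q24121 (allL N24121 (tt N22882 F47266) (tt N23726 F47267) (tt N22881 (iv D24159)) (tt N23725 F47268) (tt N24269 (iv F47681)) (tt N23844 F47269))
theorem Q24123 : ∀ i, i < 24123 → P i := stepQ 24122 Q24122 (allL N24122 (tt N23781 F47270) (tt N22882 (iv D24160)) (tt N22884 F47271) (tt N24407 F48016) (tt N24272 (iv F47687)) (tt N22887 F47272))
theorem Q24124 : ∀ i, i < 24124 → P i := stepQ 24123 Q24123 (allL N24123 (tt N22887 F47273) (tt N23735 F47274) (tt N22885 (iv D24161)) (tt N23841 F47276) (tt N24241 (iv F47609)) (tt N23781 F47275))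
theorem Q24125 : ∀ i, i < 24125 → P i := stepQ 24124 Q24124 (allL N24124 (tt N22888 F47277) (tt N22946 F47278) (tt N24646 (iv F48606)) (tt N22951 F47279) (tt N22886 (iv D24162)) (tt N22945 F47280))
theorem Q24126 : ∀ i, i < 24126 → P i := stepQ 24125 Q24125 (allL N24125 (tt N22951 F47281) (tt N22889 F47282) (tt N23629 (iv F47284)) (tt N22888 (iv D24163)) (tt N24209 (iv F47528)) (tt N22948 F47283))
theorem Q24127 : ∀ i, i < 24127 → P i := stepQ 24126 Q24126 (allL N24126 (tt N23425 F47285) (tt N24543 (iv F48337)) (tt N23313 F47287) (tt N22892 (iv D24164)) (tt N24563 (iv F48391)) (tt N23427 F47286))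
theorem Q24128 : ∀ i, i < 24128 → P i := stepQ 24127 Q24127 (allL N24127 (tt N22967 F47288) (tt N22897 F47289) (tt N22938 F47290) (tt N22896 (iv D24165)) (tt N23188 F47291) (tt N22979 F47292))
theorem Q24129 : ∀ i, i < 24129 → P i := stepQ 24128 Q24128 (allL N24128 (tt N23092 F47293) (tt N23743 F47294) (tt N22909 F47295) (tt N24769 (iv F48968)) (tt N23745 F47296) (tt N22908 (iv D24166)))
theorem Q24130 : ∀ i, i < 24130 → P i := stepQ 24129 Q24129 (allL N24129 (tt N22913 F47297) (tt N23085 F47298) (tt N22912 (iv D24167)) (tt N22913 F47299) (tt N23809 F47300) (tt N23081 F47301))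
theorem Q24131 : ∀ i, i < 24131 → P i := stepQ 24130 Q24130 (allL N24130 (tt N23107 F47302) (tt N23081 F47303) (tt N23105 F47304) (tt N22914 (iv D24168)) (tt N24889 D24927) (tt N23085 F47305))
theorem Q24132 : ∀ i, i < 24132 → P i := stepQ 24131 Q24131 (allL N24131 (tt N23140 F47306) (tt N23083 F47307) (tt N22915 F47308) (tt N24870 (iv F49228)) (tt N22914 (iv D24169)) (tt N24890 D24928))
theorem Q24133 : ∀ i, i < 24133 → P i := stepQ 24132 Q24132 (allL N24132 (tt N23141 F47309) (tt N22916 F47310) (tt N24890 (iv F49269)) (tt N23039 F47311) (tt N23087 F47312) (tt N22915 (iv D24170)))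
theorem Q24134 : ∀ i, i < 24134 → P i := stepQ 24133 Q24133 (allL N24133 (tt N24158 (iv F47379)) (tt N22927 (iv D24171)) (tt N22929 F47313) (tt N22944 F47314) (tt N24430 (iv F48072)) (tt N23017 F47315))
theorem Q24135 : ∀ i, i < 24135 → P i := stepQ 24134 Q24134 (allL N24134 (tt N24140 (iv F47332)) (tt N24430 (iv F48070)) (tt N22928 F47316) (tt N24891 D24929) (tt N22927 (iv D24172)) (tt N24428 (iv F48065)))
theorem Q24136 : ∀ i, i < 24136 → P i := stepQ 24135 Q24135 (allL N24135 (tt N23578 F47317) (tt N22931 F47318) (tt N24428 (iv F48064)) (tt N22934 F47319) (tt N23576 F47320) (tt N22928 (iv D24173)))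
theorem Q24137 : ∀ i, i < 24137 → P i := stepQ 24136 Q24136 (allL N24136 (tt N22929 (iv D24174)) (tt N24142 (iv F47338)) (tt N24158 (iv F47380)) (tt N22958 F47321) (tt N24892 D24930) (tt N22957 F47322))
theorem Q24138 : ∀ i, i < 24138 → P i := stepQ 24137 Q24137 (allL N24137 (tt N24892 (iv F49272)) (tt N22930 F47323) (tt N24430 (iv F48071)) (tt N24893 D24931) (tt N22929 (iv D24175)) (tt N24429 (iv F48068)))
theorem Q24139 : ∀ i, i < 24139 → P i := stepQ 24138 Q24138 (allL N24138 (tt N23174 F47324) (tt N24893 (iv F49274)) (tt N23131 F47326) (tt N22930 (iv D24176)) (tt N24079 F47325) (tt N23130 (iv F47327)))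
theorem Q24140 : ∀ i, i < 24140 → P i := stepQ 24139 Q24139 (allL N24139 (tt N23172 F47328) (tt N24429 (iv F48066)) (tt N22931 F47329) (tt N23130 F47330) (tt N24081 F47331) (tt N22930 (iv D24177)))
theorem Q24141 : ∀ i, i < 24141 → P i := stepQ 24140 Q24140 (allL N24140 (tt N24134 F47332) (tt N23167 F47333) (tt N23020 F47334) (tt N24894 D24932) (tt N22932 (iv D24178)) (tt N24550 (iv F48359)))
theorem Q24142 : ∀ i, i < 24142 → P i := stepQ 24141 Q24141 (allL N24141 (tt N24182 (iv F47454)) (tt N23168 F47335) (tt N24895 D24933) (tt N22933 (iv D24179)) (tt N24894 (iv F49279)) (tt N23955 F47336))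
theorem Q24143 : ∀ i, i < 24143 → P i := stepQ 24142 Q24142 (allL N24142 (tt N22938 F47337) (tt N24136 F47338) (tt N22967 F47339) (tt N22935 (iv D24180)) (tt N24282 (iv F47710)) (tt N22984 F47340))
theorem Q24144 : ∀ i, i < 24144 → P i := stepQ 24143 Q24143 (allL N24143 (tt N22939 F47341) (tt N24151 (iv F47361)) (tt N22936 F47342) (tt N24896 D24934) (tt N22935 (iv D24181)) (tt N24312 (iv F47784)))
theorem Q24145 : ∀ i, i < 24145 → P i := stepQ 24144 Q24144 (allL N24144 (tt N24896 (iv F49282)) (tt N23218 F47343) (tt N24897 D24935) (tt N22939 (iv D24182)) (tt N24283 (iv F47712)) (tt N24857 (iv F49204)))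
theorem Q24146 : ∀ i, i < 24146 → P i := stepQ 24145 Q24145 (allL N24145 (tt N24236 (iv F47596)) (tt N23018 F47344) (tt N22945 F47345) (tt N24898 D24936) (tt N22944 (iv D24183)) (tt N24646 (iv F48607)))
theorem Q24147 : ∀ i, i < 24147 → P i := stepQ 24146 Q24146 (allL N24146 (tt N23077 F47346) (tt N22950 F47347) (tt N22952 F47348) (tt N24899 D24937) (tt N22949 (iv D24184)) (tt N24900 D24938))
theorem Q24148 : ∀ i, i < 24148 → P i := stepQ 24147 Q24147 (allL N24147 (tt N23398 F47349) (tt N24899 (iv F49285)) (tt N24901 D24939) (tt N22950 (iv D24185)) (tt N23390 F47350) (tt N24902 D24940))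
theorem Q24149 : ∀ i, i < 24149 → P i := stepQ 24148 Q24148 (allL N24148 (tt N23629 F47351) (tt N24900 (iv F49288)) (tt N22951 F47352) (tt N24902 (iv F49295)) (tt N24631 (iv F48565)) (tt N22950 (iv D24186)))
theorem Q24150 : ∀ i, i < 24150 → P i := stepQ 24149 Q24149 (allL N24149 (tt N23078 F47353) (tt N22953 F47354) (tt N24900 (iv F49289)) (tt N23035 F47355) (tt N22964 F47356) (tt N22952 (iv D24187)))
theorem Q24151 : ∀ i, i < 24151 → P i := stepQ 24150 Q24150 (allL N24150 (tt N24903 D24941) (tt N22956 (iv D24188)) (tt N24633 (iv F48567)) (tt N23773 F47357) (tt N23779 F47358) (tt N23736 F47359))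
theorem Q24152 : ∀ i, i < 24152 → P i := stepQ 24151 Q24151 (allL N24151 (tt N24078 F47360) (tt N24143 F47361) (tt N22959 F47362) (tt N24904 D24942) (tt N22958 (iv D24189)) (tt N23393 F47363))
theorem Q24153 : ∀ i, i < 24153 → P i := stepQ 24152 Q24152 (allL N24152 (tt N22963 F47364) (tt N23065 F47365) (tt N22961 F47366) (tt N24588 (iv F48457)) (tt N22960 (iv D24190)) (tt N24905 D24943))
theorem Q24154 : ∀ i, i < 24154 → P i := stepQ 24153 Q24153 (allL N24153 (tt N22964 F47367) (tt N22965 F47368) (tt N24905 (iv F49306)) (tt N22974 F47369) (tt N23078 F47370) (tt N22961 (iv D24191)))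
theorem Q24155 : ∀ i, i < 24155 → P i := stepQ 24154 Q24154 (allL N24154 (tt N23632 F47371) (tt N23627 F47372) (tt N23147 F47373) (tt N24906 D24944) (tt N22962 (iv D24192)) (tt N24907 D24945))
theorem Q24156 : ∀ i, i < 24156 → P i := stepQ 24155 Q24155 (allL N24155 (tt N24588 F48459) (tt N24630 (iv F48560)) (tt N24908 D24946) (tt N22963 (iv D24193)) (tt N24906 (iv F49310)) (tt N24909 D24947))
theorem Q24157 : ∀ i, i < 24157 → P i := stepQ 24156 Q24156 (allL N24156 (tt N24905 (iv F49304)) (tt N24631 (iv F48563)) (tt N22964 F47374) (tt N24909 (iv F49315)) (tt N24900 (iv F49290)) (tt N22963 (iv D24194)))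
theorem Q24158 : ∀ i, i < 24158 → P i := stepQ 24157 Q24157 (allL N24157 (tt N23188 F47375) (tt N22969 F47376) (tt N24282 (iv F47709)) (tt N23189 F47377) (tt N22967 (iv D24195)) (tt N23185 F47378))
theorem Q24159 : ∀ i, i < 24159 → P i := stepQ 24158 Q24158 (allL N24158 (tt N24133 F47379) (tt N22968 (iv D24196)) (tt N24136 F47380) (tt N23117 F47381) (tt N24910 D24948) (tt N23125 F47382))
theorem Q24160 : ∀ i, i < 24160 → P i := stepQ 24159 Q24159 (allL N24159 (tt N23167 F47383) (tt N24910 (iv F49317)) (tt N22969 F47384) (tt N24911 D24949) (tt N22968 (iv D24197)) (tt N24912 D24950))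
theorem Q24161 : ∀ i, i < 24161 → P i := stepQ 24160 Q24160 (allL N24160 (tt N23000 F47385) (tt N23185 F47386) (tt N24912 (iv F49326)) (tt N23113 F47387) (tt N22997 (iv F47388)) (tt N22969 (iv D24198)))
theorem Q24162 : ∀ i, i < 24162 → P i := stepQ 24161 Q24161 (allL N24161 (tt N22995 F47389) (tt N22985 F47390) (tt N23162 F47391) (tt N22998 (iv F47393)) (tt N22970 (iv D24199)) (tt N22997 F47392))
theorem Q24163 : ∀ i, i < 24163 → P i := stepQ 24162 Q24162 (allL N24162 (tt N23001 F47394) (tt N22986 F47395) (tt N23182 F47398) (tt N22971 (iv D24200)) (tt N22998 F47396) (tt N23132 F47397))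
theorem Q24164 : ∀ i, i < 24164 → P i := stepQ 24163 Q24163 (allL N24163 (tt N22976 F47399) (tt N23040 F47400) (tt N23169 F47401) (tt N24913 D24951) (tt N22972 (iv D24201)) (tt N24914 D24952))
theorem Q24165 : ∀ i, i < 24165 → P i := stepQ 24164 Q24164 (allL N24164 (tt N22977 F47402) (tt N24856 (iv F49198)) (tt N24915 D24953) (tt N22973 (iv D24202)) (tt N24913 (iv F49331)) (tt N24844 (iv F49159)))
theorem Q24166 : ∀ i, i < 24166 → P i := stepQ 24165 Q24165 (allL N24165 (tt N22978 F47403) (tt N23723 F47404) (tt N22974 F47405) (tt N24844 (iv F49157)) (tt N23027 F47406) (tt N22973 (iv D24203)))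
theorem Q24167 : ∀ i, i < 24167 → P i := stepQ 24166 Q24166 (allL N24166 (tt N23169 F47407) (tt N23038 F47408) (tt N22976 F47409) (tt N24916 D24954) (tt N22975 (iv D24204)) (tt N24917 D24955))
theorem Q24168 : ∀ i, i < 24168 → P i := stepQ 24167 Q24167 (allL N24167 (tt N24913 (iv F49329)) (tt N23007 F47410) (tt N24918 D24956) (tt N22976 (iv D24205)) (tt N22977 F47411) (tt N24524 (iv F48287)))
theorem Q24169 : ∀ i, i < 24169 → P i := stepQ 24168 Q24168 (allL N24168 (tt N24914 (iv F49332)) (tt N23008 F47412) (tt N24917 (iv F49342)) (tt N24524 (iv F48286)) (tt N23030 F47413) (tt N22976 (iv D24206)))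
theorem Q24170 : ∀ i, i < 24170 → P i := stepQ 24169 Q24169 (allL N24169 (tt N24915 (iv F49336)) (tt N24842 (iv F49151)) (tt N22977 (iv D24207)) (tt N24919 D24957) (tt N24918 (iv F49344)) (tt N24841 F49150))
theorem Q24171 : ∀ i, i < 24171 → P i := stepQ 24170 Q24170 (allL N24170 (tt N22988 F47414) (tt N24920 D24958) (tt N22982 (iv D24208)) (tt N24531 (iv F48304)) (tt N23769 F47415) (tt N22988 F47416))
theorem Q24172 : ∀ i, i < 24172 → P i := stepQ 24171 Q24171 (allL N24171 (tt N24921 D24959) (tt N22983 (iv D24209)) (tt N24920 (iv F49345)) (tt N23787 F47417) (tt N23766 F47418) (tt N22989 F47419))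
theorem Q24173 : ∀ i, i < 24173 → P i := stepQ 24172 Q24172 (allL N24172 (tt N23005 F47420) (tt N23364 F47421) (tt N22985 F47422) (tt N23192 F47423) (tt N22984 (iv D24210)) (tt N23184 (iv F47424)))
theorem Q24174 : ∀ i, i < 24174 → P i := stepQ 24173 Q24173 (allL N24173 (tt N24922 D24960) (tt N22988 (iv D24211)) (tt N22989 F47425) (tt N24007 (iv F47427)) (tt N23765 F47426) (tt N24920 (iv F49348)))
theorem Q24175 : ∀ i, i < 24175 → P i := stepQ 24174 Q24174 (allL N24174 (tt N24531 (iv F48302)) (tt N24007 F47428) (tt N24009 F47429) (tt N22988 (iv D24212)) (tt N24005 (iv F47430)) (tt N24531 (iv F48303)))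
theorem Q24176 : ∀ i, i < 24176 → P i := stepQ 24175 Q24175 (allL N24175 (tt N22989 (iv D24213)) (tt N23772 F47431) (tt N24922 (iv F49353)) (tt N24799 (iv F49032)) (tt N23761 F47432) (tt N24921 (iv F49352)))
theorem Q24177 : ∀ i, i < 24177 → P i := stepQ 24176 Q24176 (allL N24176 (tt N24726 (iv F48847)) (tt N23235 F47433) (tt N22991 (iv D24214)) (tt N24854 (iv F49190)) (tt N23122 F47434) (tt N23233 F47435))
theorem Q24178 : ∀ i, i < 24178 → P i := stepQ 24177 Q24177 (allL N24177 (tt N22999 F47436) (tt N23368 (iv F47439)) (tt N22997 (iv D24215)) (tt N23367 F47437) (tt N24912 (iv F49328)) (tt N23162 F47438))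
theorem Q24179 : ∀ i, i < 24179 → P i := stepQ 24178 Q24178 (allL N24178 (tt N24912 (iv F49324)) (tt N24550 (iv F48357)) (tt N23000 F47440) (tt N23957 F47441) (tt N22999 (iv D24216)) (tt N23167 F47442))
theorem Q24180 : ∀ i, i < 24180 → P i := stepQ 24179 Q24179 (allL N24179 (tt N23752 F47443) (tt N23751 F47444) (tt N24923 D24961) (tt N23013 (iv D24217)) (tt N23751 F47445) (tt N24924 D24962))
theorem Q24181 : ∀ i, i < 24181 → P i := stepQ 24180 Q24180 (allL N24180 (tt N23753 F47446) (tt N23121 F47447) (tt N23015 F47448) (tt N24924 (iv F49364)) (tt N23119 F47449) (tt N23013 (iv D24218)))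
theorem Q24182 : ∀ i, i < 24182 → P i := stepQ 24181 Q24181 (allL N24181 (tt N23729 F47450) (tt N23164 F47451) (tt N23014 (iv D24219)) (tt N24855 (iv F49195)) (tt N23016 F47452) (tt N23715 F47453))
theorem Q24183 : ∀ i, i < 24183 → P i := stepQ 24182 Q24182 (allL N24182 (tt N24141 F47454) (tt N24898 (iv F49283)) (tt N24925 D24963) (tt N23018 (iv D24220)) (tt N24891 (iv F49271)) (tt N24791 F49012))
theorem Q24184 : ∀ i, i < 24184 → P i := stepQ 24183 Q24183 (allL N24183 (tt N23030 F47455) (tt N23546 F47456) (tt N24112 F47457) (tt N24420 (iv F48044)) (tt N24914 (iv F49335)) (tt N23025 (iv D24221)))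
theorem Q24185 : ∀ i, i < 24185 → P i := stepQ 24184 Q24184 (allL N24184 (tt N23031 F47458) (tt N23868 F47459) (tt N23026 (iv D24222)) (tt N24106 F47460) (tt N24479 F48164) (tt N24527 (iv F48295)))
theorem Q24186 : ∀ i, i < 24186 → P i := stepQ 24185 Q24185 (allL N24185 (tt N23032 F47461) (tt N23722 F47462) (tt N24527 (iv F48293)) (tt N23027 F47463) (tt N24522 (iv F48282)) (tt N23026 (iv D24223)))
theorem Q24187 : ∀ i, i < 24187 → P i := stepQ 24186 Q24186 (allL N24186 (tt N24111 F47464) (tt N24114 F47465) (tt N24926 D24964) (tt N23028 (iv D24224)) (tt N24114 F47466) (tt N24927 D24965))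
theorem Q24188 : ∀ i, i < 24188 → P i := stepQ 24187 Q24187 (allL N24187 (tt N24112 F47467) (tt N24115 F47468) (tt N23030 F47469) (tt N24927 (iv F49371)) (tt N24917 (iv F49343)) (tt N23028 (iv D24225)))
theorem Q24189 : ∀ i, i < 24189 → P i := stepQ 24188 Q24188 (allL N24188 (tt N23138 F47470) (tt N24928 D24966) (tt N23033 (iv D24226)) (tt N24527 (iv F48294)) (tt N24027 (iv F47472)) (tt N24106 F47471))
theorem Q24190 : ∀ i, i < 24190 → P i := stepQ 24189 Q24189 (allL N24189 (tt N23136 F47473) (tt N24102 F47474) (tt N24027 F47475) (tt N23134 F47476) (tt N23033 (iv D24227)) (tt N24929 D24967))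
theorem Q24191 : ∀ i, i < 24191 → P i := stepQ 24190 Q24190 (allL N24190 (tt N23110 F47477) (tt N23191 F47478) (tt N23035 F47479) (tt N24930 D24968) (tt N23034 (iv D24228)) (tt N23106 F47480))
theorem Q24192 : ∀ i, i < 24192 → P i := stepQ 24191 Q24191 (allL N24191 (tt N23170 F47481) (tt N24916 (iv F49338)) (tt N24931 D24969) (tt N23038 (iv D24229)) (tt N24916 (iv F49339)) (tt N24932 D24970))
theorem Q24193 : ∀ i, i < 24193 → P i := stepQ 24192 Q24192 (allL N24192 (tt N23171 F47482) (tt N24917 (iv F49341)) (tt N23039 F47483) (tt N24932 (iv F49388)) (tt N24115 F47484) (tt N23038 (iv D24230)))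
theorem Q24194 : ∀ i, i < 24194 → P i := stepQ 24193 Q24193 (allL N24193 (tt N23041 F47485) (tt N24913 (iv F49330)) (tt N24933 D24971) (tt N23040 (iv D24231)) (tt N24856 (iv F49200)) (tt N24934 D24972))
theorem Q24195 : ∀ i, i < 24195 → P i := stepQ 24194 Q24194 (allL N24194 (tt N23042 F47486) (tt N24914 (iv F49333)) (tt N23176 F47487) (tt N24934 (iv F49393)) (tt N23546 F47488) (tt N23040 (iv D24232)))
theorem Q24196 : ∀ i, i < 24196 → P i := stepQ 24195 Q24195 (allL N24195 (tt N24933 (iv F49389)) (tt N24683 (iv F48707)) (tt N23041 (iv D24233)) (tt N23950 F47489) (tt N24682 (iv F48704)) (tt N24789 (iv F49008)))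
theorem Q24197 : ∀ i, i < 24197 → P i := stepQ 24196 Q24196 (allL N24196 (tt N24934 (iv F49392)) (tt N23044 F47490) (tt N24789 (iv F49006)) (tt N23042 F47491) (tt N23741 (iv F47492)) (tt N23041 (iv D24234)))
theorem Q24198 : ∀ i, i < 24198 → P i := stepQ 24197 Q24197 (allL N24197 (tt N23147 F47493) (tt N23049 F47494) (tt N23632 F47495) (tt N24503 (iv F48233)) (tt N23047 (iv D24235)) (tt N24935 D24973))
theorem Q24199 : ∀ i, i < 24199 → P i := stepQ 24198 Q24198 (allL N24198 (tt N23063 F47496) (tt N24935 (iv F49396)) (tt N23061 F47497) (tt N24502 (iv F48230)) (tt N23647 F47498) (tt N23049 (iv D24236)))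
theorem Q24200 : ∀ i, i < 24200 → P i := stepQ 24199 Q24199 (allL N24199 (tt N23086 F47499) (tt N23135 F47500) (tt N23050 (iv D24237)) (tt N24936 D24974) (tt N23057 F47501) (tt N24937 D24975))
theorem Q24201 : ∀ i, i < 24201 → P i := stepQ 24200 Q24200 (allL N24200 (tt N23087 F47502) (tt N23052 F47503) (tt N24937 (iv F49405)) (tt N23051 F47504) (tt N23141 F47505) (tt N23050 (iv D24238)))
theorem Q24202 : ∀ i, i < 24202 → P i := stepQ 24201 Q24201 (allL N24201 (tt N23389 F47506) (tt N23395 F47507) (tt N23055 F47508) (tt N24938 D24976) (tt N23054 (iv D24239)) (tt N24939 D24977))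
theorem Q24203 : ∀ i, i < 24203 → P i := stepQ 24202 Q24202 (allL N24202 (tt N23641 F47509) (tt N23646 F47510) (tt N24940 D24978) (tt N23055 (iv D24240)) (tt N23056 F47511) (tt N24941 D24979))
theorem Q24204 : ∀ i, i < 24204 → P i := stepQ 24203 Q24203 (allL N24203 (tt N23642 F47512) (tt N23647 F47513) (tt N24939 (iv F49412)) (tt N24941 (iv F49419)) (tt N24935 (iv F49398)) (tt N23055 (iv D24241)))
theorem Q24205 : ∀ i, i < 24205 → P i := stepQ 24204 Q24204 (allL N24204 (tt N24635 (iv F48571)) (tt N24795 (iv F49019)) (tt N23056 (iv D24242)) (tt N24942 D24980) (tt N24940 (iv F49416)) (tt N24796 (iv F49021)))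
theorem Q24206 : ∀ i, i < 24206 → P i := stepQ 24205 Q24205 (allL N24205 (tt N24943 D24981) (tt N23058 (iv D24243)) (tt N23090 F47514) (tt N24104 F47515) (tt N23144 F47516) (tt N23059 F47517))
theorem Q24207 : ∀ i, i < 24207 → P i := stepQ 24206 Q24206 (allL N24206 (tt N23059 (iv D24244)) (tt N23134 F47518) (tt N23088 F47519) (tt N24102 F47520) (tt N23060 F47521) (tt N24943 (iv F49427)))
theorem Q24208 : ∀ i, i < 24208 → P i := stepQ 24207 Q24207 (allL N24207 (tt N24502 (iv F48229)) (tt N23653 F47522) (tt N24315 (iv F47792)) (tt N23063 F47523) (tt N24707 (iv F48774)) (tt N23062 (iv D24245)))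
theorem Q24209 : ∀ i, i < 24209 → P i := stepQ 24208 Q24208 (allL N24208 (tt N23637 F47524) (tt N24905 (iv F49305)) (tt N23067 F47525) (tt N24589 (iv F48462)) (tt N24629 (iv F48558)) (tt N23065 (iv D24246)))
theorem Q24210 : ∀ i, i < 24210 → P i := stepQ 24209 Q24209 (allL N24209 (tt N23711 F47526) (tt N23072 (iv D24247)) (tt N24580 (iv F48442)) (tt N23159 F47527) (tt N24125 F47528) (tt N23708 F47529))
theorem Q24211 : ∀ i, i < 24211 → P i := stepQ 24210 Q24210 (allL N24210 (tt N23076 F47530) (tt N24274 (iv F47689)) (tt N23074 F47531) (tt N24210 F47532) (tt N24050 (iv F47533)) (tt N23073 (iv D24248)))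
theorem Q24212 : ∀ i, i < 24212 → P i := stepQ 24211 Q24211 (allL N24211 (tt N24899 (iv F49284)) (tt N24628 (iv F48553)) (tt N24944 D24982) (tt N23077 (iv D24249)) (tt N24938 (iv F49409)) (tt N24945 D24983))
theorem Q24213 : ∀ i, i < 24213 → P i := stepQ 24212 Q24212 (allL N24212 (tt N24900 (iv F49287)) (tt N24629 (iv F48556)) (tt N23078 F47534) (tt N24945 (iv F49428)) (tt N24905 (iv F49307)) (tt N23077 (iv D24250)))
theorem Q24214 : ∀ i, i < 24214 → P i := stepQ 24213 Q24213 (allL N24213 (tt N23083 F47535) (tt N24889 (iv F49265)) (tt N23082 F47536) (tt N24868 (iv F49225)) (tt N23081 (iv D24251)) (tt N24865 (iv F49219)))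
theorem Q24215 : ∀ i, i < 24215 → P i := stepQ 24214 Q24214 (allL N24214 (tt N24865 (iv F49217)) (tt N24890 (iv F49268)) (tt N23084 F47537) (tt N24871 (iv F49231)) (tt N23805 F47538) (tt N23083 (iv D24252)))
theorem Q24216 : ∀ i, i < 24216 → P i := stepQ 24215 Q24215 (allL N24215 (tt N23135 F47539) (tt N23809 F47540) (tt N23134 F47541) (tt N23808 (iv F47542)) (tt N23085 (iv D24253)) (tt N24946 D24984))
theorem Q24217 : ∀ i, i < 24217 → P i := stepQ 24216 Q24216 (allL N24216 (tt N24936 (iv F49399)) (tt N23806 F47543) (tt N23887 (iv F47545)) (tt N23086 (iv D24254)) (tt N23808 F47544) (tt N24947 D24985))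
theorem Q24218 : ∀ i, i < 24218 → P i := stepQ 24217 Q24217 (allL N24217 (tt N24937 (iv F49403)) (tt N23805 F47546) (tt N23087 F47547) (tt N24947 (iv F49435)) (tt N24890 (iv F49270)) (tt N23086 (iv D24255)))
theorem Q24219 : ∀ i, i < 24219 → P i := stepQ 24218 Q24218 (allL N24218 (tt N23090 F47548) (tt N23804 F47549) (tt N24943 (iv F49424)) (tt N23803 F47550) (tt N23203 F47551) (tt N23088 (iv D24256)))
theorem Q24220 : ∀ i, i < 24220 → P i := stepQ 24219 Q24219 (allL N24219 (tt N24769 (iv F48965)) (tt N24826 (iv F49092)) (tt N23091 (iv D24257)) (tt N23092 F47552) (tt N24768 F48964) (tt N23091 (iv F47553)))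
theorem Q24221 : ∀ i, i < 24221 → P i := stepQ 24220 Q24220 (allL N24220 (tt N23745 F47554) (tt N23112 F47555) (tt N23093 F47556) (tt N23442 (iv F47558)) (tt N23092 (iv D24258)) (tt N23094 F47557))
theorem Q24222 : ∀ i, i < 24222 → P i := stepQ 24221 Q24221 (allL N24221 (tt N23098 F47559) (tt N24712 (iv F48791)) (tt N23096 (iv D24259)) (tt N24948 D24986) (tt N24852 (iv F49182)) (tt N24711 (iv F48789)))
theorem Q24223 : ∀ i, i < 24223 → P i := stepQ 24222 Q24222 (allL N24222 (tt N23100 F47560) (tt N23973 F47561) (tt N24711 (iv F48787)) (tt N23097 F47562) (tt N23972 F47563) (tt N23096 (iv D24260)))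
theorem Q24224 : ∀ i, i < 24224 → P i := stepQ 24223 Q24223 (allL N24223 (tt N23101 F47564) (tt N23111 F47565) (tt N23747 F47566) (tt N23154 F47567) (tt N23097 (iv D24261)) (tt N23104 F47568))
theorem Q24225 : ∀ i, i < 24225 → P i := stepQ 24224 Q24224 (allL N24224 (tt N23712 (iv F47570)) (tt N23098 (iv D24262)) (tt N23102 F47569) (tt N24576 (iv F48433)) (tt N24949 D24987) (tt N23124 (iv F47571)))
theorem Q24226 : ∀ i, i < 24226 → P i := stepQ 24225 Q24225 (allL N24225 (tt N24948 (iv F49436)) (tt N24576 (iv F48431)) (tt N24463 (iv F48128)) (tt N23098 (iv D24263)) (tt N24950 D24988) (tt N23661 F47578))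
theorem Q24227 : ∀ i, i < 24227 → P i := stepQ 24226 Q24226 (allL N24226 (tt N24852 (iv F49181)) (tt N24949 (iv F49439)) (tt N23099 F47572) (tt N24951 D24989) (tt N23098 (iv D24264)) (tt N23158 (iv F47573)))
theorem Q24228 : ∀ i, i < 24228 → P i := stepQ 24227 Q24227 (allL N24227 (tt N24711 (iv F48785)) (tt N23124 F47574) (tt N23100 F47575) (tt N23661 (iv F47577)) (tt N23662 F47576) (tt N23098 (iv D24265)))
theorem Q24229 : ∀ i, i < 24229 → P i := stepQ 24228 Q24228 (allL N24228 (tt N23710 F47579) (tt N23103 F47580) (tt N24949 (iv F49440)) (tt N23708 F47581) (tt N23102 (iv D24266)) (tt N23159 F47582))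
theorem Q24230 : ∀ i, i < 24230 → P i := stepQ 24229 Q24229 (allL N24229 (tt N23108 F47583) (tt N23142 F47584) (tt N24889 (iv F49266)) (tt N24952 D24990) (tt N23105 (iv D24267)) (tt N24953 D24991))
theorem Q24231 : ∀ i, i < 24231 → P i := stepQ 24230 Q24230 (allL N24230 (tt N23109 F47585) (tt N23190 F47586) (tt N24954 D24992) (tt N23106 (iv D24268)) (tt N24952 (iv F49447)) (tt N24930 (iv F49385)))
theorem Q24232 : ∀ i, i < 24232 → P i := stepQ 24231 Q24231 (allL N24231 (tt N24889 (iv F49264)) (tt N23140 F47587) (tt N23108 F47588) (tt N24955 D24993) (tt N23107 (iv D24269)) (tt N24956 D24994))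
theorem Q24233 : ∀ i, i < 24233 → P i := stepQ 24232 Q24232 (allL N24232 (tt N24952 (iv F49445)) (tt N23128 F47589) (tt N24957 D24995) (tt N23108 (iv D24270)) (tt N23109 F47590) (tt N24958 D24996))
theorem Q24234 : ∀ i, i < 24234 → P i := stepQ 24233 Q24233 (allL N24233 (tt N24953 (iv F49448)) (tt N23129 F47591) (tt N24956 (iv F49455)) (tt N24958 (iv F49459)) (tt N23137 F47592) (tt N23108 (iv D24271)))
theorem Q24235 : ∀ i, i < 24235 → P i := stepQ 24234 Q24234 (allL N24234 (tt N24954 (iv F49451)) (tt N24959 D24997) (tt N23109 (iv D24272)) (tt N24960 D24998) (tt N24957 (iv F49457)) (tt N24961 D24999))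
theorem Q24236 : ∀ i, i < 24236 → P i := stepQ 24235 Q24235 (allL N24235 (tt N24930 (iv F49382)) (tt N23131 F47593) (tt N24961 (iv F49462)) (tt N23110 F47594) (tt N24109 (iv F47595)) (tt N23109 (iv D24273)))
theorem Q24237 : ∀ i, i < 24237 → P i := stepQ 24236 Q24236 (allL N24236 (tt N24145 F47596) (tt N23114 (iv D24274)) (tt N23115 F47597) (tt N24962 D25000) (tt N23117 F47598) (tt N23738 F47599))
theorem Q24238 : ∀ i, i < 24238 → P i := stepQ 24237 Q24237 (allL N24237 (tt N23168 F47600) (tt N24962 (iv F49465)) (tt N24911 (iv F49321)) (tt N23114 (iv D24275)) (tt N24911 (iv F49322)) (tt N23739 F47601))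
theorem Q24239 : ∀ i, i < 24239 → P i := stepQ 24238 Q24238 (allL N24238 (tt N24838 (iv F49133)) (tt N24840 (iv F49143)) (tt N23118 (iv D24276)) (tt N24758 (iv F48935)) (tt N23120 F47602) (tt N24840 (iv F49147)))
theorem Q24240 : ∀ i, i < 24240 → P i := stepQ 24239 Q24239 (allL N24239 (tt N24837 (iv F49128)) (tt N23120 F47603) (tt N24840 (iv F49144)) (tt N23119 F47604) (tt N24840 (iv F49146)) (tt N23118 (iv D24277)))
theorem Q24241 : ∀ i, i < 24241 → P i := stepQ 24240 Q24240 (allL N24240 (tt N23477 F47605) (tt N24924 (iv F49362)) (tt N23474 F47606) (tt N23121 (iv D24278)) (tt N24758 (iv F48933)) (tt N23751 F47607))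
theorem Q24242 : ∀ i, i < 24242 → P i := stepQ 24241 Q24241 (allL N24241 (tt N23124 F47608) (tt N24645 (iv F48601)) (tt N23123 (iv D24279)) (tt N24373 (iv F47949)) (tt N24123 F47609) (tt N23712 F47610))
theorem Q24243 : ∀ i, i < 24243 → P i := stepQ 24242 Q24242 (allL N24242 (tt N23375 F47611) (tt N23162 F47612) (tt N23364 F47613) (tt N23369 F47614) (tt N23125 (iv D24280)) (tt N23368 (iv F47615)))
theorem Q24244 : ∀ i, i < 24244 → P i := stepQ 24243 Q24243 (allL N24243 (tt N23190 F47616) (tt N23127 F47617) (tt N24963 D25001) (tt N23126 (iv D24281)) (tt N23143 F47618) (tt N24105 F47619))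
theorem Q24245 : ∀ i, i < 24245 → P i := stepQ 24244 Q24244 (allL N24244 (tt N23130 F47620) (tt N24291 (iv F47731)) (tt N23127 (iv D24282)) (tt N23172 F47621) (tt N23145 F47622) (tt N23174 F47623))
theorem Q24246 : ∀ i, i < 24246 → P i := stepQ 24245 Q24245 (allL N24245 (tt N23145 F47624) (tt N24964 D25002) (tt N23128 (iv D24283)) (tt N23180 F47625) (tt N23130 F47626) (tt N23179 (iv F47627)))
theorem Q24247 : ∀ i, i < 24247 → P i := stepQ 24246 Q24246 (allL N24246 (tt N23146 F47628) (tt N24958 (iv F49458)) (tt N23179 F47629) (tt N23129 F47630) (tt N24086 F47631) (tt N23128 (iv D24284)))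
theorem Q24248 : ∀ i, i < 24248 → P i := stepQ 24247 Q24247 (allL N24247 (tt N24965 D25003) (tt N23130 (iv D24285)) (tt N24959 (iv F49461)) (tt N24429 F48069) (tt N24964 (iv F49471)) (tt N24893 (iv F49276)))
theorem Q24249 : ∀ i, i < 24249 → P i := stepQ 24248 Q24248 (allL N24248 (tt N23183 F47632) (tt N23181 F47633) (tt N23181 F47634) (tt N23133 (iv D24286)) (tt N23181 F47635) (tt N23819 F47636))
theorem Q24250 : ∀ i, i < 24250 → P i := stepQ 24249 Q24249 (allL N24249 (tt N23137 F47637) (tt N24943 (iv F49423)) (tt N24946 (iv F49431)) (tt N24929 (iv F49380)) (tt N24953 (iv F49450)) (tt N23134 (iv D24287)))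
theorem Q24251 : ∀ i, i < 24251 → P i := stepQ 24250 Q24250 (allL N24250 (tt N23808 F47638) (tt N24936 (iv F49400)) (tt N23917 (iv F47639)) (tt N23135 (iv D24288)) (tt N24936 (iv F49401)) (tt N24966 D25004))
theorem Q24252 : ∀ i, i < 24252 → P i := stepQ 24251 Q24251 (allL N24251 (tt N24946 (iv F49429)) (tt N24937 (iv F49404)) (tt N23137 F47640) (tt N24966 (iv F49475)) (tt N24956 (iv F49456)) (tt N23135 (iv D24289)))
theorem Q24253 : ∀ i, i < 24253 → P i := stepQ 24252 Q24252 (allL N24252 (tt N24929 (iv F49377)) (tt N23139 F47641) (tt N24014 F47642) (tt N23137 F47643) (tt N24110 F47644) (tt N23136 (iv D24290)))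
theorem Q24254 : ∀ i, i < 24254 → P i := stepQ 24253 Q24253 (allL N24253 (tt N24870 F49229) (tt N24955 (iv F49452)) (tt N24967 D25005) (tt N23140 (iv D24291)) (tt N24955 (iv F49453)) (tt N24968 D25006))
theorem Q24255 : ∀ i, i < 24255 → P i := stepQ 24254 Q24254 (allL N24254 (tt N24890 (iv F49267)) (tt N24956 (iv F49454)) (tt N23141 F47645) (tt N24968 (iv F49476)) (tt N24937 (iv F49406)) (tt N23140 (iv D24292)))
theorem Q24256 : ∀ i, i < 24256 → P i := stepQ 24255 Q24255 (allL N24255 (tt N23143 F47646) (tt N24952 (iv F49446)) (tt N24969 D25007) (tt N23142 (iv D24293)) (tt N23190 F47647) (tt N24970 D25008))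
theorem Q24257 : ∀ i, i < 24257 → P i := stepQ 24256 Q24256 (allL N24256 (tt N23144 F47648) (tt N24953 (iv F49449)) (tt N23203 F47649) (tt N24970 (iv F49480)) (tt N24943 (iv F49426)) (tt N23142 (iv D24294)))
theorem Q24258 : ∀ i, i < 24258 → P i := stepQ 24257 Q24257 (allL N24257 (tt N24969 (iv F49477)) (tt N24971 D25009) (tt N23143 (iv D24295)) (tt N24867 (iv F49222)) (tt N24963 (iv F49468)) (tt N24972 D25010))
theorem Q24259 : ∀ i, i < 24259 → P i := stepQ 24258 Q24258 (allL N24258 (tt N24970 (iv F49479)) (tt N23146 F47650) (tt N24972 (iv F49484)) (tt N23144 F47651) (tt N24973 D25011) (tt N23143 (iv D24296)))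
theorem Q24260 : ∀ i, i < 24260 → P i := stepQ 24259 Q24259 (allL N24259 (tt N24295 (iv F47740)) (tt N23145 (iv D24297)) (tt N24971 (iv F49481)) (tt N24093 F47652) (tt N24291 (iv F47732)) (tt N24092 F47653))
theorem Q24261 : ∀ i, i < 24261 → P i := stepQ 24260 Q24260 (allL N24260 (tt N24086 F47654) (tt N24973 (iv F49486)) (tt N24075 F47655) (tt N24077 F47656) (tt N23146 (iv D24298)) (tt N24084 F47657))
theorem Q24262 : ∀ i, i < 24262 → P i := stepQ 24261 Q24261 (allL N24261 (tt N24503 (iv F48232)) (tt N23645 F47658) (tt N24974 D25012) (tt N23147 (iv D24299)) (tt N23148 F47659) (tt N24975 D25013))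
theorem Q24263 : ∀ i, i < 24263 → P i := stepQ 24262 Q24262 (allL N24262 (tt N24935 (iv F49395)) (tt N23644 F47660) (tt N24907 (iv F49313)) (tt N24975 (iv F49493)) (tt N23642 F47661) (tt N23147 (iv D24300)))
theorem Q24264 : ∀ i, i < 24264 → P i := stepQ 24263 Q24263 (allL N24263 (tt N23883 F47662) (tt N23855 F47663) (tt N23148 (iv D24301)) (tt N24976 D25014) (tt N24974 (iv F49491)) (tt N24644 (iv F48599)))
theorem Q24265 : ∀ i, i < 24265 → P i := stepQ 24264 Q24264 (allL N24264 (tt N24505 (iv F48237)) (tt N23857 F47664) (tt N24644 (iv F48597)) (tt N23149 F47665) (tt N24638 (iv F48580)) (tt N23148 (iv D24302)))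
theorem Q24266 : ∀ i, i < 24266 → P i := stepQ 24265 Q24265 (allL N24265 (tt N23151 F47666) (tt N23794 F47667) (tt N24977 D25015) (tt N23150 (iv D24303)) (tt N24358 (iv F47917)) (tt N23792 F47668))
theorem Q24267 : ∀ i, i < 24267 → P i := stepQ 24266 Q24266 (allL N24266 (tt N24977 (iv F49497)) (tt N23984 F47669) (tt N23151 (iv D24304)) (tt N24978 D25016) (tt N23981 F47670) (tt N23988 F47671))
theorem Q24268 : ∀ i, i < 24268 → P i := stepQ 24267 Q24267 (allL N24267 (tt N23156 F47672) (tt N23798 F47673) (tt N24979 D25017) (tt N23153 (iv D24305)) (tt N24598 (iv F48480)) (tt N23828 (iv F47674)))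
theorem Q24269 : ∀ i, i < 24269 → P i := stepQ 24268 Q24268 (allL N24268 (tt N23157 F47675) (tt N23436 F47676) (tt N23154 F47677) (tt N23828 F47678) (tt N23422 F47679) (tt N23153 (iv D24306)))
theorem Q24270 : ∀ i, i < 24270 → P i := stepQ 24269 Q24269 (allL N24269 (tt N23158 F47680) (tt N24641 (iv F48589)) (tt N23155 (iv D24307)) (tt N24980 D25018) (tt N24121 F47681) (tt N24852 (iv F49183)))
theorem Q24271 : ∀ i, i < 24271 → P i := stepQ 24270 Q24270 (allL N24270 (tt N24979 (iv F49502)) (tt N24981 D25019) (tt N23156 (iv D24308)) (tt N24982 D25020) (tt N24599 (iv F48482)) (tt N24983 D25021))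
theorem Q24272 : ∀ i, i < 24272 → P i := stepQ 24271 Q24271 (allL N24271 (tt N23828 F47682) (tt N23421 F47683) (tt N24983 (iv F49515)) (tt N23157 F47684) (tt N23419 F47685) (tt N23156 (iv D24309)))
theorem Q24273 : ∀ i, i < 24273 → P i := stepQ 24272 Q24272 (allL N24272 (tt N24674 (iv F48690)) (tt N23158 (iv D24310)) (tt N23159 F47686) (tt N24984 D25022) (tt N24122 F47687) (tt N24949 (iv F49441)))
theorem Q24274 : ∀ i, i < 24274 → P i := stepQ 24273 Q24273 (allL N24273 (tt N24980 (iv F49506)) (tt N24984 (iv F49518)) (tt N24985 D25023) (tt N23158 (iv D24311)) (tt N24532 (iv F48306)) (tt N24951 (iv F49444)))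
theorem Q24275 : ∀ i, i < 24275 → P i := stepQ 24274 Q24274 (allL N24274 (tt N23592 F47688) (tt N24210 F47689) (tt N23160 (iv D24312)) (tt N24274 F47690) (tt N24845 (iv F49162)) (tt N23236 F47691))
theorem Q24276 : ∀ i, i < 24276 → P i := stepQ 24275 Q24275 (allL N24275 (tt N23594 F47692) (tt N23161 F47693) (tt N24845 (iv F49161)) (tt N23601 F47694) (tt N23160 (iv D24313)) (tt N23587 F47695))
theorem Q24277 : ∀ i, i < 24277 → P i := stepQ 24276 Q24276 (allL N24276 (tt N23583 F47696) (tt N23640 F47697) (tt N23591 F47698) (tt N23166 (iv D24314)) (tt N24986 D25024) (tt N23590 F47699))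
theorem Q24278 : ∀ i, i < 24278 → P i := stepQ 24277 Q24277 (allL N24277 (tt N24911 (iv F49320)) (tt N24894 (iv F49278)) (tt N23168 F47702) (tt N23167 (iv D24315)) (tt N23168 F47700) (tt N23957 F47701))
theorem Q24279 : ∀ i, i < 24279 → P i := stepQ 24278 Q24278 (allL N24278 (tt N24916 (iv F49337)) (tt N24094 F47703) (tt N24987 D25025) (tt N23169 (iv D24316)) (tt N23170 F47704) (tt N24988 D25026))
theorem Q24280 : ∀ i, i < 24280 → P i := stepQ 24279 Q24279 (allL N24279 (tt N24917 (iv F49340)) (tt N24095 F47705) (tt N24914 (iv F49334)) (tt N24988 (iv F49529)) (tt N24112 F47706) (tt N23169 (iv D24317)))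
theorem Q24281 : ∀ i, i < 24281 → P i := stepQ 24280 Q24280 (allL N24280 (tt N24931 (iv F49386)) (tt N24989 D25027) (tt N23170 (iv D24318)) (tt N24990 D25028) (tt N24987 (iv F49527)) (tt N24991 D25029))
theorem Q24282 : ∀ i, i < 24282 → P i := stepQ 24281 Q24281 (allL N24281 (tt N24932 (iv F49387)) (tt N24097 F47707) (tt N24991 (iv F49534)) (tt N23171 F47708) (tt N24992 D25030) (tt N23170 (iv D24319)))
theorem Q24283 : ∀ i, i < 24283 → P i := stepQ 24282 Q24282 (allL N24282 (tt N23173 (iv D24320)) (tt N24892 (iv F49273)) (tt N24157 F47709) (tt N24993 D25031) (tt N24142 F47710) (tt N24290 (iv F47730)))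
theorem Q24284 : ∀ i, i < 24284 → P i := stepQ 24283 Q24283 (allL N24283 (tt N24993 (iv F49538)) (tt N23174 F47711) (tt N24994 D25032) (tt N23173 (iv D24321)) (tt N24144 F47712) (tt N24291 (iv F47733)))
theorem Q24285 : ∀ i, i < 24285 → P i := stepQ 24284 Q24284 (allL N24284 (tt N24298 (iv F47747)) (tt N23177 (iv D24322)) (tt N23178 F47713) (tt N24995 D25033) (tt N23381 F47714) (tt N24296 (iv F47744)))
theorem Q24286 : ∀ i, i < 24286 → P i := stepQ 24285 Q24285 (allL N24285 (tt N23947 F47715) (tt N24995 (iv F49544)) (tt N24996 D25034) (tt N23177 (iv D24323)) (tt N23791 F47716) (tt N23945 F47717))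
theorem Q24287 : ∀ i, i < 24287 → P i := stepQ 24286 Q24286 (allL N24286 (tt N23178 (iv D24324)) (tt N24091 F47718) (tt N24298 (iv F47749)) (tt N24997 D25035) (tt N23394 F47719) (tt N24294 (iv F47739)))
theorem Q24288 : ∀ i, i < 24288 → P i := stepQ 24287 Q24287 (allL N24287 (tt N24997 (iv F49550)) (tt N23179 F47720) (tt N24998 D25036) (tt N23178 (iv D24325)) (tt N24085 F47721) (tt N24964 (iv F49472)))
theorem Q24289 : ∀ i, i < 24289 → P i := stepQ 24288 Q24288 (allL N24288 (tt N24294 (iv F47736)) (tt N23180 F47722) (tt N24296 (iv F47743)) (tt N24964 (iv F49470)) (tt N24087 F47723) (tt N23178 (iv D24326)))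
theorem Q24290 : ∀ i, i < 24290 → P i := stepQ 24289 Q24289 (allL N24289 (tt N23373 F47724) (tt N23184 (iv D24327)) (tt N23368 F47725) (tt N23195 F47726) (tt N24999 D25037) (tt N23364 F47727))
theorem Q24291 : ∀ i, i < 24291 → P i := stepQ 24290 Q24290 (allL N24290 (tt N23187 F47728) (tt N24999 (iv F49555)) (tt N23185 F47729) (tt N25000 D25038) (tt N23184 (iv D24328)) (tt N24282 F47730))
theorem Q24292 : ∀ i, i < 24292 → P i := stepQ 24291 Q24291 (allL N24291 (tt N25000 (iv F49559)) (tt N24244 F47731) (tt N25001 D25039) (tt N23187 (iv D24329)) (tt N24259 F47732) (tt N24283 F47733))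
theorem Q24293 : ∀ i, i < 24293 → P i := stepQ 24292 Q24292 (allL N24292 (tt N24963 (iv F49467)) (tt N25002 D25040) (tt N23190 (iv D24330)) (tt N25003 D25041) (tt N24969 (iv F49478)) (tt N25004 D25042))
theorem Q24294 : ∀ i, i < 24294 → P i := stepQ 24293 Q24293 (allL N24293 (tt N24105 F47734) (tt N24930 (iv F49383)) (tt N25004 (iv F49570)) (tt N23191 F47735) (tt N25005 D25043) (tt N23190 (iv D24331)))
theorem Q24295 : ∀ i, i < 24295 → P i := stepQ 24294 Q24294 (allL N24294 (tt N24288 F47736) (tt N23196 F47737) (tt N23199 F47738) (tt N25006 D25044) (tt N23195 (iv D24332)) (tt N24286 F47739))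
theorem Q24296 : ∀ i, i < 24296 → P i := stepQ 24295 Q24295 (allL N24295 (tt N24259 F47740) (tt N25006 (iv F49575)) (tt N25007 D25045) (tt N23196 (iv D24333)) (tt N25000 (iv F49561)) (tt N24866 (iv F49221)))
theorem Q24297 : ∀ i, i < 24297 → P i := stepQ 24296 Q24296 (allL N24296 (tt N23199 F47741) (tt N23548 F47742) (tt N24288 F47743) (tt N24785 (iv F48995)) (tt N23198 (iv D24334)) (tt N24284 F47744))
theorem Q24298 : ∀ i, i < 24298 → P i := stepQ 24297 Q24297 (allL N24297 (tt N24785 (iv F48993)) (tt N23200 F47745) (tt N25008 D25046) (tt N23199 (iv D24335)) (tt N23345 F47746) (tt N24843 (iv F49155)))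
theorem Q24299 : ∀ i, i < 24299 → P i := stepQ 24298 Q24298 (allL N24298 (tt N24284 F47747) (tt N23201 F47748) (tt N24286 F47749) (tt N24843 (iv F49154)) (tt N23365 F47750) (tt N23199 (iv D24336)))
theorem Q24300 : ∀ i, i < 24300 → P i := stepQ 24299 Q24299 (allL N24299 (tt N23206 F47751) (tt N23206 F47752) (tt N23204 (iv D24337)) (tt N23206 F47753) (tt N23657 F47754) (tt N23207 F47755))
theorem Q24301 : ∀ i, i < 24301 → P i := stepQ 24300 Q24300 (allL N24300 (tt N23657 F47756) (tt N23657 F47757) (tt N23205 (iv D24338)) (tt N23656 F47760) (tt N23206 F47758) (tt N23657 F47759))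
theorem Q24302 : ∀ i, i < 24302 → P i := stepQ 24301 Q24301 (allL N24301 (tt N23212 F47761) (tt N23228 F47762) (tt N25009 D25047) (tt N23208 (iv D24339)) (tt N23209 F47763) (tt N24625 (iv F48547)))
theorem Q24303 : ∀ i, i < 24303 → P i := stepQ 24302 Q24302 (allL N24302 (tt N23214 F47764) (tt N25010 D25048) (tt N23209 (iv D24340)) (tt N24608 (iv F48507)) (tt N25009 (iv F49581)) (tt N24607 (iv F48504)))
theorem Q24304 : ∀ i, i < 24304 → P i := stepQ 24303 Q24303 (allL N24303 (tt N23215 F47765) (tt N24834 (iv F49119)) (tt N24607 (iv F48503)) (tt N23210 F47766) (tt N23829 (iv F47767)) (tt N23209 (iv D24341)))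
theorem Q24305 : ∀ i, i < 24305 → P i := stepQ 24304 Q24304 (allL N24304 (tt N23800 F47768) (tt N23227 F47769) (tt N25011 D25049) (tt N23211 (iv D24342)) (tt N23826 F47770) (tt N23959 F47771))
theorem Q24306 : ∀ i, i < 24306 → P i := stepQ 24305 Q24305 (allL N24305 (tt N25009 (iv F49580)) (tt N23621 F47772) (tt N23212 (iv D24343)) (tt N25012 D25050) (tt N23214 F47773) (tt N25013 D25051))
theorem Q24307 : ∀ i, i < 24307 → P i := stepQ 24306 Q24306 (allL N24306 (tt N24625 (iv F48544)) (tt N23222 F47774) (tt N25013 (iv F49588)) (tt N23213 F47775) (tt N23750 F47776) (tt N23212 (iv D24344)))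
theorem Q24308 : ∀ i, i < 24308 → P i := stepQ 24307 Q24307 (allL N24307 (tt N24451 (iv F48104)) (tt N23214 (iv D24345)) (tt N23225 F47777) (tt N25014 D25052) (tt N23621 F47778) (tt N25015 D25053))
theorem Q24309 : ∀ i, i < 24309 → P i := stepQ 24308 Q24308 (allL N24308 (tt N24608 (iv F48505)) (tt N25014 (iv F49590)) (tt N24603 (iv F48496)) (tt N23214 (iv D24346)) (tt N25016 D25054) (tt N24602 F48494))
theorem Q24310 : ∀ i, i < 24310 → P i := stepQ 24309 Q24309 (allL N24309 (tt N24607 (iv F48502)) (tt N25015 (iv F49591)) (tt N23215 F47779) (tt N24602 (iv F48493)) (tt N24839 (iv F49141)) (tt N23214 (iv D24347)))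
theorem Q24311 : ∀ i, i < 24311 → P i := stepQ 24310 Q24310 (allL N24310 (tt N23216 (iv D24348)) (tt N24829 (iv F49103)) (tt N24877 (iv F49239)) (tt N25017 D25055) (tt N24828 F49101) (tt N24875 (iv F49236)))
theorem Q24312 : ∀ i, i < 24312 → P i := stepQ 24311 Q24311 (allL N24311 (tt N25017 (iv F49594)) (tt N23217 F47780) (tt N25018 D25056) (tt N23216 (iv D24349)) (tt N24836 (iv F49126)) (tt N24456 (iv F48113)))
theorem Q24313 : ∀ i, i < 24313 → P i := stepQ 24312 Q24312 (allL N24312 (tt N24074 F47781) (tt N23393 F47782) (tt N23220 F47783) (tt N25019 D25057) (tt N23219 (iv D24350)) (tt N24143 F47784))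
theorem Q24314 : ∀ i, i < 24314 → P i := stepQ 24313 Q24313 (allL N24313 (tt N24452 (iv F48106)) (tt N23224 (iv D24351)) (tt N25015 (iv F49592)) (tt N23620 F47785) (tt N23749 F47786) (tt N23225 F47787))
theorem Q24315 : ∀ i, i < 24315 → P i := stepQ 24314 Q24314 (allL N24314 (tt N23230 F47788) (tt N24458 (iv F48118)) (tt N23228 (iv D24352)) (tt N23441 F47789) (tt N24610 (iv F48509)) (tt N23440 F47790))
theorem Q24316 : ∀ i, i < 24316 → P i := stepQ 24315 Q24315 (allL N24315 (tt N23490 F47791) (tt N24854 (iv F49188)) (tt N24207 F47792) (tt N23235 F47793) (tt N23836 (iv F47794)) (tt N23234 (iv D24353)))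
theorem Q24317 : ∀ i, i < 24317 → P i := stepQ 24316 Q24316 (allL N24316 (tt N23240 F47795) (tt N23931 F47796) (tt N23238 (iv D24354)) (tt N23701 F47798) (tt N23931 F47797) (tt N23700 (iv F47799)))
theorem Q24318 : ∀ i, i < 24318 → P i := stepQ 24317 Q24317 (allL N24317 (tt N23242 F47800) (tt N23244 F47801) (tt N23700 F47802) (tt N23239 F47803) (tt N23242 F47804) (tt N23238 (iv D24355)))
theorem Q24319 : ∀ i, i < 24319 → P i := stepQ 24318 Q24318 (allL N24318 (tt N23700 (iv F47806)) (tt N23240 (iv D24356)) (tt N23242 F47805) (tt N23697 (iv F47807)) (tt N23700 (iv F47808)) (tt N23240 (iv F47809)))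
theorem Q24320 : ∀ i, i < 24320 → P i := stepQ 24319 Q24319 (allL N24319 (tt N23701 F47810) (tt N23697 F47811) (tt N23698 F47812) (tt N23240 (iv D24357)) (tt N25020 D25058) (tt N23697 F47813))
theorem Q24321 : ∀ i, i < 24321 → P i := stepQ 24320 Q24320 (allL N24320 (tt N23931 F47814) (tt N23700 F47815) (tt N23241 F47816) (tt N23699 (iv F47818)) (tt N23240 (iv D24358)) (tt N23931 F47817))
theorem Q24322 : ∀ i, i < 24322 → P i := stepQ 24321 Q24321 (allL N24321 (tt N23247 F47819) (tt N23308 F47820) (tt N25021 D25059) (tt N23246 (iv D24359)) (tt N23290 F47821) (tt N23306 F47822))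
theorem Q24323 : ∀ i, i < 24323 → P i := stepQ 24322 Q24322 (allL N24322 (tt N25021 (iv F49603)) (tt N23307 F47823) (tt N23247 (iv D24360)) (tt N23307 F47826) (tt N23291 F47824) (tt N23307 F47825))
theorem Q24324 : ∀ i, i < 24324 → P i := stepQ 24323 Q24323 (allL N24323 (tt N23248 (iv D24361)) (tt N23251 F47827) (tt N23681 F47828) (tt N24401 (iv F48007)) (tt N23668 F47829) (tt N23294 F47830))
theorem Q24325 : ∀ i, i < 24325 → P i := stepQ 24324 Q24324 (allL N24324 (tt N24401 (iv F48005)) (tt N23249 F47831) (tt N24401 (iv F48006)) (tt N23248 (iv D24362)) (tt N25022 D25060) (tt N23684 F47832))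
theorem Q24326 : ∀ i, i < 24326 → P i := stepQ 24325 Q24325 (allL N24325 (tt N23255 F47833) (tt N25022 (iv F49607)) (tt N24399 (iv F48003)) (tt N25023 D25061) (tt N23249 (iv D24363)) (tt N25024 D25062))
theorem Q24327 : ∀ i, i < 24327 → P i := stepQ 24326 Q24326 (allL N24326 (tt N23257 F47834) (tt N23691 F47835) (tt N23285 F47837) (tt N23250 (iv D24364)) (tt N25023 (iv F49611)) (tt N23267 F47836))
theorem Q24328 : ∀ i, i < 24328 → P i := stepQ 24327 Q24327 (allL N24327 (tt N23253 F47838) (tt N23668 F47839) (tt N23258 F47840) (tt N25025 D25063) (tt N23251 (iv D24365)) (tt N23268 F47841))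
theorem Q24329 : ∀ i, i < 24329 → P i := stepQ 24328 Q24328 (allL N24328 (tt N24402 (iv F48009)) (tt N23255 F47842) (tt N24394 (iv F47988)) (tt N25026 D25064) (tt N23252 (iv D24366)) (tt N25027 D25065))
theorem Q24330 : ∀ i, i < 24330 → P i := stepQ 24329 Q24329 (allL N24329 (tt N25025 (iv F49616)) (tt N23257 F47843) (tt N25028 D25066) (tt N23253 (iv D24367)) (tt N25026 (iv F49620)) (tt N23270 F47844))
theorem Q24331 : ∀ i, i < 24331 → P i := stepQ 24330 Q24330 (allL N24330 (tt N24393 (iv F47983)) (tt N23254 (iv D24368)) (tt N24393 (iv F47985)) (tt N23842 F47845) (tt N25029 D25067) (tt N23843 F47846))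
theorem Q24332 : ∀ i, i < 24332 → P i := stepQ 24331 Q24331 (allL N24331 (tt N24399 (iv F48001)) (tt N25029 (iv F49625)) (tt N23255 F47847) (tt N25030 D25068) (tt N23254 (iv D24369)) (tt N25031 D25069))
theorem Q24333 : ∀ i, i < 24333 → P i := stepQ 24332 Q24332 (allL N24332 (tt N25023 (iv F49609)) (tt N25026 (iv F49619)) (tt N25032 D25070) (tt N23255 (iv D24370)) (tt N23257 F47848) (tt N25033 D25071))
theorem Q24334 : ∀ i, i < 24334 → P i := stepQ 24333 Q24333 (allL N24333 (tt N25024 (iv F49613)) (tt N25027 (iv F49622)) (tt N25031 (iv F49627)) (tt N25033 (iv F49631)) (tt N25034 D25072) (tt N23255 (iv D24371)))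
theorem Q24335 : ∀ i, i < 24335 → P i := stepQ 24334 Q24334 (allL N24334 (tt N23416 F47849) (tt N23296 F47850) (tt N24600 (iv F48485)) (tt N23265 F47851) (tt N23256 (iv D24372)) (tt N25034 (iv F49637)))
theorem Q24336 : ∀ i, i < 24336 → P i := stepQ 24335 Q24335 (allL N24335 (tt N23285 F47852) (tt N25035 D25073) (tt N23257 (iv D24373)) (tt N23279 F47854) (tt N25032 (iv F49630)) (tt N23273 F47853))
theorem Q24337 : ∀ i, i < 24337 → P i := stepQ 24336 Q24336 (allL N24336 (tt N23259 F47855) (tt N23290 F47856) (tt N25036 D25074) (tt N23258 (iv D24374)) (tt N23308 F47857) (tt N23274 F47858))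
theorem Q24338 : ∀ i, i < 24338 → P i := stepQ 24337 Q24337 (allL N24337 (tt N25036 (iv F49640)) (tt N23288 F47859) (tt N23259 (iv D24375)) (tt N25037 D25075) (tt N23309 F47860) (tt N23275 F47861))
theorem Q24339 : ∀ i, i < 24339 → P i := stepQ 24338 Q24338 (allL N24338 (tt N23261 F47862) (tt N25038 D25076) (tt N23260 (iv D24376)) (tt N23273 F47863) (tt N23937 F47864) (tt N23279 F47865))
theorem Q24340 : ∀ i, i < 24340 → P i := stepQ 24339 Q24339 (allL N24339 (tt N23273 F47866) (tt N23938 F47867) (tt N23267 F47868) (tt N23261 (iv D24377)) (tt N25039 D25077) (tt N23285 F47869))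
theorem Q24341 : ∀ i, i < 24341 → P i := stepQ 24340 Q24340 (allL N24340 (tt N23264 F47870) (tt N25040 D25078) (tt N23263 (iv D24378)) (tt N23430 F47871) (tt N23299 F47872) (tt N23312 F47873))
theorem Q24342 : ∀ i, i < 24342 → P i := stepQ 24341 Q24341 (allL N24341 (tt N23430 F47874) (tt N23300 F47875) (tt N23427 F47877) (tt N23264 (iv D24379)) (tt N24540 (iv F48324)) (tt N23313 F47876))
theorem Q24343 : ∀ i, i < 24343 → P i := stepQ 24342 Q24342 (allL N24342 (tt N23417 F47878) (tt N23297 F47879) (tt N23415 F47880) (tt N25034 (iv F49636)) (tt N23272 F47881) (tt N23265 (iv D24380)))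
theorem Q24344 : ∀ i, i < 24344 → P i := stepQ 24343 Q24343 (allL N24343 (tt N23271 F47882) (tt N23665 F47883) (tt N25039 (iv F49652)) (tt N23266 (iv D24381)) (tt N23267 F47884) (tt N25041 D25079))
theorem Q24345 : ∀ i, i < 24345 → P i := stepQ 24344 Q24344 (allL N24344 (tt N23272 F47885) (tt N23666 F47886) (tt N23403 F47887) (tt N25041 (iv F49661)) (tt N23417 F47888) (tt N23266 (iv D24382)))
theorem Q24346 : ∀ i, i < 24346 → P i := stepQ 24345 Q24345 (allL N24345 (tt N23270 F47889) (tt N23667 F47890) (tt N25042 D25080) (tt N23268 (iv D24383)) (tt N23391 F47891) (tt N25025 (iv F49618)))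
theorem Q24347 : ∀ i, i < 24347 → P i := stepQ 24346 Q24346 (allL N24346 (tt N23391 F47892) (tt N23271 F47893) (tt N25043 D25081) (tt N23269 (iv D24384)) (tt N23270 F47894) (tt N25044 D25082))
theorem Q24348 : ∀ i, i < 24348 → P i := stepQ 24347 Q24347 (allL N24347 (tt N23392 F47895) (tt N23272 F47896) (tt N23388 F47897) (tt N25044 (iv F49668)) (tt N23297 F47898) (tt N23269 (iv D24385)))
theorem Q24349 : ∀ i, i < 24349 → P i := stepQ 24348 Q24348 (allL N24348 (tt N25042 (iv F49662)) (tt N25045 D25083) (tt N23270 (iv D24386)) (tt N25046 D25084) (tt N25043 (iv F49665)) (tt N25028 (iv F49624)))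
theorem Q24350 : ∀ i, i < 24350 → P i := stepQ 24349 Q24349 (allL N24349 (tt N25039 (iv F49650)) (tt N25047 D25085) (tt N23271 (iv D24387)) (tt N25048 D25086) (tt N23273 F47899) (tt N25049 D25087))
theorem Q24351 : ∀ i, i < 24351 → P i := stepQ 24350 Q24350 (allL N24350 (tt N25041 (iv F49659)) (tt N25044 (iv F49667)) (tt N25049 (iv F49673)) (tt N23272 F47900) (tt N25033 (iv F49632)) (tt N23271 (iv D24388)))
theorem Q24352 : ∀ i, i < 24352 → P i := stepQ 24351 Q24351 (allL N24351 (tt N25050 D25088) (tt N23273 (iv D24389)) (tt N25045 (iv F49669)) (tt N25038 (iv F49647)) (tt N25047 (iv F49670)) (tt N25035 (iv F49639)))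
theorem Q24353 : ∀ i, i < 24353 → P i := stepQ 24352 Q24352 (allL N24352 (tt N23275 F47901) (tt N25051 D25089) (tt N23274 (iv D24390)) (tt N25052 D25090) (tt N23292 F47902) (tt N25036 (iv F49642)))
theorem Q24354 : ∀ i, i < 24354 → P i := stepQ 24353 Q24353 (allL N24353 (tt N25052 (iv F49679)) (tt N23293 F47903) (tt N25053 D25091) (tt N23275 (iv D24391)) (tt N25054 D25092) (tt N25037 (iv F49644)))
theorem Q24355 : ∀ i, i < 24355 → P i := stepQ 24354 Q24354 (allL N24354 (tt N23314 F47904) (tt N25055 D25093) (tt N23276 (iv D24392)) (tt N24052 F47907) (tt N23352 F47905) (tt N23933 F47906))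
theorem Q24356 : ∀ i, i < 24356 → P i := stepQ 24355 Q24355 (allL N24355 (tt N23282 F47908) (tt N25056 D25094) (tt N23277 (iv D24393)) (tt N25057 D25095) (tt N23279 F47909) (tt N25058 D25096))
theorem Q24357 : ∀ i, i < 24357 → P i := stepQ 24356 Q24356 (allL N24356 (tt N23283 F47910) (tt N23304 F47911) (tt N25058 (iv F49690)) (tt N23278 F47912) (tt N23316 F47913) (tt N23277 (iv D24394)))
theorem Q24358 : ∀ i, i < 24358 → P i := stepQ 24357 Q24357 (allL N24357 (tt N25059 D25097) (tt N23279 (iv D24395)) (tt N25055 (iv F49682)) (tt N25035 (iv F49638)) (tt N25056 (iv F49687)) (tt N25038 (iv F49649)))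
theorem Q24359 : ∀ i, i < 24359 → P i := stepQ 24358 Q24358 (allL N24358 (tt N23305 F47914) (tt N23351 F47915) (tt N24805 (iv F49045)) (tt N23281 F47916) (tt N24265 F47917) (tt N23280 (iv D24396)))
theorem Q24360 : ∀ i, i < 24360 → P i := stepQ 24359 Q24359 (allL N24359 (tt N25058 (iv F49689)) (tt N23282 (iv D24397)) (tt N23283 F47918) (tt N24806 (iv F49046)) (tt N23284 F47919) (tt N23282 (iv F47920)))
theorem Q24361 : ∀ i, i < 24361 → P i := stepQ 24360 Q24360 (allL N24360 (tt N25057 (iv F49688)) (tt N24806 F49047) (tt N24808 (iv F49052)) (tt N23282 (iv D24398)) (tt N25060 D25098) (tt N24806 F49048))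
theorem Q24362 : ∀ i, i < 24362 → P i := stepQ 24361 Q24361 (allL N24361 (tt N23284 (iv D24399)) (tt N25059 (iv F49692)) (tt N23316 F47921) (tt N25061 D25099) (tt N25058 (iv F49691)) (tt N23937 F47922))
theorem Q24363 : ∀ i, i < 24363 → P i := stepQ 24362 Q24362 (allL N24362 (tt N25061 (iv F49695)) (tt N23285 F47923) (tt N25062 D25100) (tt N23284 (iv D24400)) (tt N25063 D25101) (tt N23938 F47924))
theorem Q24364 : ∀ i, i < 24364 → P i := stepQ 24363 Q24363 (allL N24363 (tt N25032 (iv F49629)) (tt N25063 (iv F49702)) (tt N25023 F49612) (tt N25060 (iv F49694)) (tt N23285 (iv D24401)) (tt N25064 D25102))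
theorem Q24365 : ∀ i, i < 24365 → P i := stepQ 24364 Q24364 (allL N24364 (tt N23288 F47925) (tt N25065 D25103) (tt N23287 (iv D24402)) (tt N23397 F47928) (tt N23310 F47926) (tt N23292 F47927))
theorem Q24366 : ∀ i, i < 24366 → P i := stepQ 24365 Q24365 (allL N24365 (tt N23397 F47929) (tt N25037 (iv F49643)) (tt N23390 F47931) (tt N23288 (iv D24403)) (tt N24901 (iv F49292)) (tt N23293 F47930))
theorem Q24367 : ∀ i, i < 24367 → P i := stepQ 24366 Q24366 (allL N24366 (tt N23291 F47932) (tt N25066 D25104) (tt N23290 (iv D24404)) (tt N24566 (iv F48400)) (tt N25021 (iv F49605)) (tt N23299 F47933))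
theorem Q24368 : ∀ i, i < 24368 → P i := stepQ 24367 Q24367 (allL N24367 (tt N24566 (iv F48399)) (tt N23313 F47934) (tt N24563 (iv F48392)) (tt N23291 (iv D24405)) (tt N23313 F47935) (tt N23300 F47936))
theorem Q24369 : ∀ i, i < 24369 → P i := stepQ 24368 Q24368 (allL N24368 (tt N25051 (iv F49676)) (tt N23292 (iv D24406)) (tt N25040 (iv F49655)) (tt N25067 D25105) (tt N25051 (iv F49678)) (tt N25065 (iv F49706)))
theorem Q24370 : ∀ i, i < 24370 → P i := stepQ 24369 Q24369 (allL N24369 (tt N23293 F47937) (tt N25067 (iv F49709)) (tt N23386 F47938) (tt N23292 (iv D24407)) (tt N25068 D25106) (tt N23397 F47939))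
theorem Q24371 : ∀ i, i < 24371 → P i := stepQ 24370 Q24370 (allL N24370 (tt N23386 F47940) (tt N25069 D25107) (tt N23293 (iv D24408)) (tt N23380 F47941) (tt N25070 D25108) (tt N23390 F47942))
theorem Q24372 : ∀ i, i < 24372 → P i := stepQ 24371 Q24371 (allL N24371 (tt N25068 (iv F49711)) (tt N25054 (iv F49680)) (tt N25070 (iv F49716)) (tt N25054 (iv F49681)) (tt N23293 (iv D24409)) (tt N25071 D25109))
theorem Q24373 : ∀ i, i < 24373 → P i := stepQ 24372 Q24372 (allL N24372 (tt N23684 F47943) (tt N23295 F47944) (tt N23684 F47946) (tt N23294 (iv D24410)) (tt N23623 F47945) (tt N24401 (iv F48008)))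
theorem Q24374 : ∀ i, i < 24374 → P i := stepQ 24373 Q24373 (allL N24373 (tt N23625 F47947) (tt N25072 D25110) (tt N23296 (iv D24411)) (tt N24241 F47949) (tt N23298 F47948) (tt N24634 (iv F48570)))
theorem Q24375 : ∀ i, i < 24375 → P i := stepQ 24374 Q24374 (allL N24374 (tt N23626 F47950) (tt N25034 (iv F49634)) (tt N24634 (iv F48569)) (tt N23297 F47951) (tt N25027 (iv F49623)) (tt N23296 (iv D24412)))
theorem Q24376 : ∀ i, i < 24376 → P i := stepQ 24375 Q24375 (allL N24375 (tt N23843 F47952) (tt N23298 (iv D24413)) (tt N23843 F47953) (tt N23840 F47954) (tt N25072 (iv F49720)) (tt N24393 (iv F47986)))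
theorem Q24377 : ∀ i, i < 24377 → P i := stepQ 24376 Q24376 (allL N24376 (tt N25040 (iv F49654)) (tt N23299 (iv D24414)) (tt N25051 (iv F49677)) (tt N25073 D25111) (tt N25040 (iv F49657)) (tt N25066 (iv F49708)))
theorem Q24378 : ∀ i, i < 24378 → P i := stepQ 24377 Q24377 (allL N24377 (tt N23300 F47955) (tt N25073 (iv F49722)) (tt N24567 (iv F48404)) (tt N23299 (iv D24415)) (tt N25074 D25112) (tt N24566 F48402))
theorem Q24379 : ∀ i, i < 24379 → P i := stepQ 24378 Q24378 (allL N24378 (tt N24567 (iv F48403)) (tt N24542 (iv F48334)) (tt N23300 (iv D24416)) (tt N24564 (iv F48396)) (tt N24541 F48332) (tt N24563 F48393))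
theorem Q24380 : ∀ i, i < 24380 → P i := stepQ 24379 Q24379 (allL N24379 (tt N25074 (iv F49723)) (tt N24540 F48325) (tt N24541 (iv F48330)) (tt N24540 F48326) (tt N23300 (iv D24417)) (tt N24540 F48327))
theorem Q24381 : ∀ i, i < 24381 → P i := stepQ 24380 Q24380 (allL N24380 (tt N23821 F47956) (tt N24556 (iv F48373)) (tt N23934 F47957) (tt N23301 (iv D24418)) (tt N25075 D25113) (tt N24049 F47958))
theorem Q24382 : ∀ i, i < 24382 → P i := stepQ 24381 Q24381 (allL N24381 (tt N23353 F47959) (tt N25076 D25114) (tt N23304 (iv D24419)) (tt N24381 F47960) (tt N25077 D25115) (tt N23352 F47961))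
theorem Q24383 : ∀ i, i < 24383 → P i := stepQ 24382 Q24382 (allL N24382 (tt N23315 F47962) (tt N23316 F47963) (tt N25077 (iv F49735)) (tt N23426 F47964) (tt N23304 (iv D24420)) (tt N23432 F47965))
theorem Q24384 : ∀ i, i < 24384 → P i := stepQ 24383 Q24383 (allL N24383 (tt N23307 F47966) (tt N25078 D25116) (tt N23306 (iv D24421)) (tt N25021 (iv F49604)) (tt N23312 F47967) (tt N25021 (iv F49606)))
theorem Q24385 : ∀ i, i < 24385 → P i := stepQ 24384 Q24384 (allL N24384 (tt N23309 F47968) (tt N25079 D25117) (tt N23308 (iv D24422)) (tt N24414 (iv F48031)) (tt N25036 (iv F49641)) (tt N23310 F47969))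
theorem Q24386 : ∀ i, i < 24386 → P i := stepQ 24385 Q24385 (allL N24385 (tt N24414 (iv F48030)) (tt N23311 F47970) (tt N24409 (iv F48023)) (tt N23309 (iv D24423)) (tt N25080 D25118) (tt N23311 F47971))
theorem Q24387 : ∀ i, i < 24387 → P i := stepQ 24386 Q24386 (allL N24386 (tt N25079 (iv F49739)) (tt N23310 (iv D24424)) (tt N25078 (iv F49737)) (tt N25081 D25119) (tt N25065 (iv F49705)) (tt N25079 (iv F49740)))
theorem Q24388 : ∀ i, i < 24388 → P i := stepQ 24387 Q24387 (allL N24387 (tt N23311 F47972) (tt N25081 (iv F49742)) (tt N24408 (iv F48020)) (tt N23310 (iv D24425)) (tt N25082 D25120) (tt N24414 (iv F48032)))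
theorem Q24389 : ∀ i, i < 24389 → P i := stepQ 24388 Q24388 (allL N24388 (tt N25082 (iv F49743)) (tt N25080 (iv F49741)) (tt N24647 F48610) (tt N24901 (iv F49293)) (tt N23311 (iv D24426)) (tt N25083 D25121))
theorem Q24390 : ∀ i, i < 24390 → P i := stepQ 24389 Q24389 (allL N24389 (tt N25066 (iv F49707)) (tt N23312 (iv D24427)) (tt N25065 (iv F49703)) (tt N25084 D25122) (tt N25078 (iv F49738)) (tt N25040 (iv F49658)))
theorem Q24391 : ∀ i, i < 24391 → P i := stepQ 24390 Q24390 (allL N24390 (tt N23313 F47973) (tt N25084 (iv F49746)) (tt N23425 F47974) (tt N23312 (iv D24428)) (tt N24566 (iv F48401)) (tt N23430 F47975))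
theorem Q24392 : ∀ i, i < 24392 → P i := stepQ 24391 Q24391 (allL N24391 (tt N25077 (iv F49734)) (tt N23314 (iv D24429)) (tt N23315 F47976) (tt N25085 D25123) (tt N23353 F47977) (tt N23433 F47978))
theorem Q24393 : ∀ i, i < 24393 → P i := stepQ 24392 Q24392 (allL N24392 (tt N24052 F47979) (tt N25085 (iv F49748)) (tt N24049 F47982) (tt N23314 (iv D24430)) (tt N24392 F47980) (tt N23934 F47981))
theorem Q24394 : ∀ i, i < 24394 → P i := stepQ 24393 Q24393 (allL N24393 (tt N24330 F47983) (tt N23323 F47984) (tt N24330 F47985) (tt N23322 (iv D24431)) (tt N25086 D25124) (tt N24375 F47986))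
theorem Q24395 : ∀ i, i < 24395 → P i := stepQ 24394 Q24394 (allL N24394 (tt N23333 F47987) (tt N25086 (iv F49752)) (tt N24328 F47988) (tt N25087 D25125) (tt N23323 (iv D24432)) (tt N25088 D25126))
theorem Q24396 : ∀ i, i < 24396 → P i := stepQ 24395 Q24395 (allL N24395 (tt N23335 F47989) (tt N23992 F47990) (tt N25089 D25127) (tt N23324 (iv D24433)) (tt N25087 (iv F49757)) (tt N25090 D25128))
theorem Q24397 : ∀ i, i < 24397 → P i := stepQ 24396 Q24396 (allL N24396 (tt N23336 F47991) (tt N23993 F47992) (tt N23326 F47993) (tt N25090 (iv F49767)) (tt N24640 (iv F48586)) (tt N23324 (iv D24434)))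
theorem Q24398 : ∀ i, i < 24398 → P i := stepQ 24397 Q24397 (allL N24397 (tt N23338 F47994) (tt N23377 F47995) (tt N24640 (iv F48584)) (tt N23370 F47996) (tt N23326 (iv D24435)) (tt N23327 F47997))
theorem Q24399 : ∀ i, i < 24399 → P i := stepQ 24398 Q24398 (allL N24398 (tt N23331 F47998) (tt N23991 F47999) (tt N23341 F48000) (tt N25091 D25129) (tt N23329 (iv D24436)) (tt N24491 (iv F48200)))
theorem Q24400 : ∀ i, i < 24400 → P i := stepQ 24399 Q24399 (allL N24399 (tt N24331 F48001) (tt N23333 F48002) (tt N24325 F48003) (tt N25092 D25130) (tt N23330 (iv D24437)) (tt N24950 (iv F49443)))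
theorem Q24401 : ∀ i, i < 24401 → P i := stepQ 24400 Q24400 (allL N24400 (tt N25091 (iv F49768)) (tt N23335 F48004) (tt N25093 D25131) (tt N23331 (iv D24438)) (tt N25092 (iv F49775)) (tt N24532 (iv F48307)))
theorem Q24402 : ∀ i, i < 24402 → P i := stepQ 24401 Q24401 (allL N24401 (tt N24324 F48005) (tt N23332 (iv D24439)) (tt N24324 F48006) (tt N24323 F48007) (tt N25094 D25132) (tt N24372 F48008))
theorem Q24403 : ∀ i, i < 24403 → P i := stepQ 24402 Q24402 (allL N24402 (tt N24328 F48009) (tt N25094 (iv F49778)) (tt N23333 F48010) (tt N25095 D25133) (tt N23332 (iv D24440)) (tt N24577 (iv F48436)))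
theorem Q24404 : ∀ i, i < 24404 → P i := stepQ 24403 Q24403 (allL N24403 (tt N25087 (iv F49755)) (tt N25092 (iv F49774)) (tt N25096 D25134) (tt N23333 (iv D24441)) (tt N23335 F48011) (tt N25097 D25135))
theorem Q24405 : ∀ i, i < 24405 → P i := stepQ 24404 Q24404 (allL N24404 (tt N25088 (iv F49758)) (tt N24950 (iv F49442)) (tt N24577 (iv F48435)) (tt N25097 (iv F49783)) (tt N24576 (iv F48434)) (tt N23333 (iv D24442)))
theorem Q24406 : ∀ i, i < 24406 → P i := stepQ 24405 Q24405 (allL N24405 (tt N25089 (iv F49761)) (tt N25098 D25136) (tt N23335 (iv D24443)) (tt N24784 (iv F48992)) (tt N25096 (iv F49782)) (tt N24783 F48989))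
theorem Q24407 : ∀ i, i < 24407 → P i := stepQ 24406 Q24406 (allL N24406 (tt N25090 (iv F49764)) (tt N24532 (iv F48305)) (tt N24783 (iv F48988)) (tt N23336 F48012) (tt N24984 (iv F49519)) (tt N23335 (iv D24444)))
theorem Q24408 : ∀ i, i < 24408 → P i := stepQ 24407 Q24407 (allL N24407 (tt N24640 (iv F48583)) (tt N23663 F48013) (tt N23338 F48014) (tt N24122 (iv F48016)) (tt N23336 (iv D24445)) (tt N23337 F48015))
theorem Q24409 : ∀ i, i < 24409 → P i := stepQ 24408 Q24408 (allL N24408 (tt N23951 F48017) (tt N23953 F48018) (tt N24387 F48020) (tt N23340 (iv D24446)) (tt N25099 D25137) (tt N23347 F48019))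
theorem Q24410 : ∀ i, i < 24410 → P i := stepQ 24409 Q24409 (allL N24409 (tt N23347 F48021) (tt N23952 F48022) (tt N24385 F48023) (tt N23343 (iv D24447)) (tt N25100 D25138) (tt N23951 F48024))
theorem Q24411 : ∀ i, i < 24411 → P i := stepQ 24410 Q24410 (allL N24410 (tt N25101 D25139) (tt N23344 (iv D24448)) (tt N23366 F48025) (tt N25102 D25140) (tt N24841 (iv F49149)) (tt N24523 (iv F48284)))
theorem Q24412 : ∀ i, i < 24412 → P i := stepQ 24411 Q24411 (allL N24411 (tt N24783 (iv F48987)) (tt N25102 (iv F49794)) (tt N25090 (iv F49766)) (tt N23344 (iv D24449)) (tt N25103 D25141) (tt N25089 F49763))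
theorem Q24413 : ∀ i, i < 24413 → P i := stepQ 24412 Q24412 (allL N24412 (tt N24784 (iv F48990)) (tt N24523 (iv F48283)) (tt N23345 F48026) (tt N25089 (iv F49762)) (tt N25008 (iv F49579)) (tt N23344 (iv D24450)))
theorem Q24414 : ∀ i, i < 24414 → P i := stepQ 24413 Q24413 (allL N24413 (tt N23956 F48027) (tt N23347 F48028) (tt N25104 D25142) (tt N23346 (iv D24451)) (tt N25105 D25143) (tt N23953 F48029))
theorem Q24415 : ∀ i, i < 24415 → P i := stepQ 24414 Q24414 (allL N24414 (tt N24385 F48030) (tt N25106 D25144) (tt N23347 (iv D24452)) (tt N24384 F48031) (tt N25107 D25145) (tt N24387 F48032))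
theorem Q24416 : ∀ i, i < 24416 → P i := stepQ 24415 Q24415 (allL N24415 (tt N25100 (iv F49789)) (tt N25105 (iv F49800)) (tt N25107 (iv F49807)) (tt N23374 F48033) (tt N23347 (iv D24453)) (tt N25108 D25146))
theorem Q24417 : ∀ i, i < 24417 → P i := stepQ 24416 Q24416 (allL N24416 (tt N23458 F48034) (tt N24694 (iv F48741)) (tt N23349 (iv D24454)) (tt N23948 (iv F48036)) (tt N23350 F48035) (tt N24659 (iv F48645)))
theorem Q24418 : ∀ i, i < 24418 → P i := stepQ 24417 Q24417 (allL N24417 (tt N23507 F48037) (tt N23350 (iv D24455)) (tt N24800 (iv F49035)) (tt N24512 (iv F48260)) (tt N24694 (iv F48743)) (tt N24511 F48257))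
theorem Q24419 : ∀ i, i < 24419 → P i := stepQ 24418 Q24418 (allL N24418 (tt N25076 (iv F49731)) (tt N23352 (iv D24456)) (tt N25056 (iv F49686)) (tt N24418 F48038) (tt N25055 (iv F49684)) (tt N25076 (iv F49733)))
theorem Q24420 : ∀ i, i < 24420 → P i := stepQ 24419 Q24419 (allL N24419 (tt N23356 F48039) (tt N23526 F48040) (tt N23354 (iv D24457)) (tt N24650 (iv F48618)) (tt N23355 F48041) (tt N24601 (iv F48490)))
theorem Q24421 : ∀ i, i < 24421 → P i := stepQ 24420 Q24420 (allL N24420 (tt N23525 F48042) (tt N23355 (iv D24458)) (tt N23439 F48043) (tt N24183 F48044) (tt N23526 F48045) (tt N23971 F48046))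
theorem Q24422 : ∀ i, i < 24422 → P i := stepQ 24421 Q24421 (allL N24421 (tt N24709 (iv F48779)) (tt N25109 D25147) (tt N23357 (iv D24459)) (tt N25110 D25148) (tt N24772 (iv F48972)) (tt N25111 D25149))
theorem Q24423 : ∀ i, i < 24423 → P i := stepQ 24422 Q24422 (allL N24422 (tt N23419 F48047) (tt N23361 F48048) (tt N25111 (iv F49818)) (tt N23358 F48049) (tt N23828 (iv F48050)) (tt N23357 (iv D24460)))
theorem Q24424 : ∀ i, i < 24424 → P i := stepQ 24423 Q24423 (allL N24423 (tt N23959 F48051) (tt N23359 (iv D24461)) (tt N25109 (iv F49812)) (tt N23801 F48052) (tt N24618 (iv F48539)) (tt N23800 F48053))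
theorem Q24425 : ∀ i, i < 24425 → P i := stepQ 24424 Q24424 (allL N24424 (tt N23802 F48054) (tt N24618 (iv F48538)) (tt N23360 F48055) (tt N23964 F48056) (tt N23359 (iv D24462)) (tt N23825 F48057))
theorem Q24426 : ∀ i, i < 24426 → P i := stepQ 24425 Q24425 (allL N24425 (tt N23799 F48058) (tt N24598 (iv F48479)) (tt N23825 F48059) (tt N23659 F48060) (tt N23798 F48061) (tt N23360 (iv D24463)))
theorem Q24427 : ∀ i, i < 24427 → P i := stepQ 24426 Q24426 (allL N24426 (tt N23366 (iv D24464)) (tt N24529 (iv F48296)) (tt N25101 (iv F49793)) (tt N24522 (iv F48281)) (tt N24844 (iv F49158)) (tt N24521 F48278))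
theorem Q24428 : ∀ i, i < 24428 → P i := stepQ 24427 Q24427 (allL N24427 (tt N23374 F48062) (tt N24912 (iv F49325)) (tt N24999 (iv F49556)) (tt N25100 (iv F49792)) (tt N23368 (iv D24465)) (tt N24910 (iv F49319)))
theorem Q24429 : ∀ i, i < 24429 → P i := stepQ 24428 Q24428 (allL N24428 (tt N24550 (iv F48356)) (tt N23374 F48063) (tt N24135 F48064) (tt N25105 (iv F49801)) (tt N23372 (iv D24466)) (tt N24134 F48065))
theorem Q24430 : ∀ i, i < 24430 → P i := stepQ 24429 Q24429 (allL N24429 (tt N24999 (iv F49554)) (tt N24139 F48066) (tt N23374 F48067) (tt N24247 (iv F48069)) (tt N23373 (iv D24467)) (tt N24137 F48068))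
theorem Q24431 : ∀ i, i < 24431 → P i := stepQ 24430 Q24430 (allL N24430 (tt N24910 (iv F49316)) (tt N24134 F48070) (tt N24137 F48071) (tt N25108 (iv F49809)) (tt N24133 F48072) (tt N23374 (iv D24468)))
theorem Q24432 : ∀ i, i < 24432 → P i := stepQ 24431 Q24431 (allL N24431 (tt N23384 F48073) (tt N24907 (iv F49312)) (tt N23379 (iv D24469)) (tt N25112 D25150) (tt N23380 F48074) (tt N23627 F48075))
theorem Q24433 : ∀ i, i < 24433 → P i := stepQ 24432 Q24432 (allL N24432 (tt N24939 (iv F49410)) (tt N23380 (iv D24470)) (tt N23642 F48076) (tt N25069 (iv F49713)) (tt N24907 (iv F49314)) (tt N23389 F48077))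
theorem Q24434 : ∀ i, i < 24434 → P i := stepQ 24433 Q24433 (allL N24433 (tt N24043 F48078) (tt N23791 F48079) (tt N25113 D25151) (tt N23382 (iv D24471)) (tt N24995 (iv F49545)) (tt N23383 F48080))
theorem Q24435 : ∀ i, i < 24435 → P i := stepQ 24434 Q24434 (allL N24434 (tt N24042 F48081) (tt N25114 D25152) (tt N23383 (iv D24472)) (tt N25115 D25153) (tt N23942 F48082) (tt N25113 (iv F49824)))
theorem Q24436 : ∀ i, i < 24436 → P i := stepQ 24435 Q24435 (allL N24435 (tt N25112 (iv F49821)) (tt N23639 F48083) (tt N25116 D25154) (tt N23384 (iv D24473)) (tt N25117 D25155) (tt N23631 F48084))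
theorem Q24437 : ∀ i, i < 24437 → P i := stepQ 24436 Q24436 (allL N24436 (tt N23385 (iv D24474)) (tt N24939 (iv F49411)) (tt N23387 F48085) (tt N25118 D25156) (tt N23634 F48086) (tt N23395 F48087))
theorem Q24438 : ∀ i, i < 24438 → P i := stepQ 24437 Q24437 (allL N24437 (tt N25118 (iv F49834)) (tt N23386 F48088) (tt N25119 D25157) (tt N23385 (iv D24475)) (tt N25120 D25158) (tt N23396 F48089))
theorem Q24439 : ∀ i, i < 24439 → P i := stepQ 24438 Q24438 (allL N24438 (tt N25070 (iv F49715)) (tt N25120 (iv F49837)) (tt N25068 (iv F49712)) (tt N25117 (iv F49833)) (tt N23386 (iv D24476)) (tt N25121 D25159))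
theorem Q24440 : ∀ i, i < 24440 → P i := stepQ 24439 Q24439 (allL N24439 (tt N24938 (iv F49407)) (tt N23390 F48090) (tt N25122 D25160) (tt N23389 (iv D24477)) (tt N24899 (iv F49286)) (tt N25069 (iv F49714)))
theorem Q24441 : ∀ i, i < 24441 → P i := stepQ 24440 Q24440 (allL N24440 (tt N25043 (iv F49664)) (tt N25123 D25161) (tt N23391 (iv D24478)) (tt N25124 D25162) (tt N25042 (iv F49663)) (tt N25125 D25163))
theorem Q24442 : ∀ i, i < 24442 → P i := stepQ 24441 Q24441 (allL N24441 (tt N25044 (iv F49666)) (tt N23670 F48091) (tt N25125 (iv F49845)) (tt N23392 F48092) (tt N25126 D25164) (tt N23391 (iv D24479)))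
theorem Q24443 : ∀ i, i < 24443 → P i := stepQ 24442 Q24442 (allL N24442 (tt N24085 F48093) (tt N25019 (iv F49596)) (tt N25127 D25165) (tt N23393 (iv D24480)) (tt N24997 (iv F49552)) (tt N24904 (iv F49303)))
theorem Q24444 : ∀ i, i < 24444 → P i := stepQ 24443 Q24443 (allL N24443 (tt N23396 F48094) (tt N24938 (iv F49408)) (tt N25128 D25166) (tt N23395 (iv D24481)) (tt N24628 (iv F48554)) (tt N25118 (iv F49835)))
theorem Q24445 : ∀ i, i < 24445 → P i := stepQ 24444 Q24444 (allL N24444 (tt N25128 (iv F49851)) (tt N25129 D25167) (tt N23396 (iv D24482)) (tt N25130 D25168) (tt N25131 D25169) (tt N25119 (iv F49836)))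
theorem Q24446 : ∀ i, i < 24446 → P i := stepQ 24445 Q24445 (allL N24445 (tt N24628 (iv F48552)) (tt N23398 F48095) (tt N25131 (iv F49857)) (tt N23628 F48096) (tt N23396 (iv D24483)) (tt N25132 D25170))
theorem Q24447 : ∀ i, i < 24447 → P i := stepQ 24446 Q24446 (allL N24446 (tt N25133 D25171) (tt N23397 (iv D24484)) (tt N25129 (iv F49853)) (tt N25065 (iv F49704)) (tt N25134 D25172) (tt N25067 (iv F49710)))
theorem Q24448 : ∀ i, i < 24448 → P i := stepQ 24447 Q24447 (allL N24447 (tt N24901 (iv F49291)) (tt N25134 (iv F49861)) (tt N23398 F48097) (tt N25082 (iv F49744)) (tt N23397 (iv D24485)) (tt N25135 D25173))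
theorem Q24449 : ∀ i, i < 24449 → P i := stepQ 24448 Q24448 (allL N24448 (tt N24902 (iv F49294)) (tt N25132 (iv F49859)) (tt N25135 (iv F49862)) (tt N23629 F48098) (tt N25121 (iv F49839)) (tt N23398 (iv D24486)))
theorem Q24450 : ∀ i, i < 24450 → P i := stepQ 24449 Q24449 (allL N24449 (tt N23400 F48099) (tt N24554 (iv F48369)) (tt N23399 (iv D24487)) (tt N25136 D25174) (tt N23635 F48100) (tt N24050 F48101))
theorem Q24451 : ∀ i, i < 24451 → P i := stepQ 24450 Q24450 (allL N24450 (tt N25136 (iv F49863)) (tt N23821 F48102) (tt N25137 D25175) (tt N23400 (iv D24488)) (tt N25138 D25176) (tt N24051 F48103))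
theorem Q24452 : ∀ i, i < 24452 → P i := stepQ 24451 Q24451 (allL N24451 (tt N24307 F48104) (tt N25139 D25177) (tt N23402 (iv D24489)) (tt N25140 D25178) (tt N23404 F48105) (tt N25141 D25179))
theorem Q24453 : ∀ i, i < 24453 → P i := stepQ 24452 Q24452 (allL N24452 (tt N24313 F48106) (tt N23407 F48107) (tt N25141 (iv F49876)) (tt N23403 F48108) (tt N24652 (iv F48625)) (tt N23402 (iv D24490)))
theorem Q24454 : ∀ i, i < 24454 → P i := stepQ 24453 Q24453 (allL N24453 (tt N25142 D25180) (tt N23404 (iv D24491)) (tt N23409 F48109) (tt N25143 D25181) (tt N25139 (iv F49871)) (tt N24525 (iv F48289)))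
theorem Q24455 : ∀ i, i < 24455 → P i := stepQ 24454 Q24454 (allL N24454 (tt N24573 (iv F48422)) (tt N25143 (iv F49881)) (tt N24534 (iv F48313)) (tt N23404 (iv D24492)) (tt N25144 D25182) (tt N24533 F48310))
theorem Q24456 : ∀ i, i < 24456 → P i := stepQ 24455 Q24455 (allL N24455 (tt N24574 (iv F48425)) (tt N24525 (iv F48288)) (tt N23405 F48110) (tt N24533 (iv F48309)) (tt N24651 (iv F48621)) (tt N23404 (iv D24493)))
theorem Q24457 : ∀ i, i < 24457 → P i := stepQ 24456 Q24456 (allL N24456 (tt N25145 D25183) (tt N23406 (iv D24494)) (tt N25139 (iv F49870)) (tt N24107 F48111) (tt N23409 F48112) (tt N24311 F48113))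
theorem Q24458 : ∀ i, i < 24458 → P i := stepQ 24457 Q24457 (allL N24457 (tt N23676 F48114) (tt N24652 (iv F48623)) (tt N24029 F48115) (tt N24065 F48116) (tt N23407 (iv D24495)) (tt N23410 F48117))
theorem Q24459 : ∀ i, i < 24459 → P i := stepQ 24458 Q24458 (allL N24458 (tt N23409 (iv D24496)) (tt N24314 F48118) (tt N25142 (iv F49879)) (tt N24479 (iv F48163)) (tt N25145 (iv F49887)) (tt N24478 F48159))
theorem Q24460 : ∀ i, i < 24460 → P i := stepQ 24459 Q24459 (allL N24459 (tt N24533 (iv F48308)) (tt N25146 D25184) (tt N23411 (iv D24497)) (tt N24574 (iv F48427)) (tt N24569 (iv F48410)) (tt N24573 (iv F48424)))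
theorem Q24461 : ∀ i, i < 24461 → P i := stepQ 24460 Q24460 (allL N24460 (tt N24534 (iv F48311)) (tt N24570 (iv F48412)) (tt N24573 (iv F48423)) (tt N23412 F48119) (tt N25147 D25185) (tt N23411 (iv D24498)))
theorem Q24462 : ∀ i, i < 24462 → P i := stepQ 24461 Q24461 (allL N24461 (tt N23623 F48120) (tt N23416 F48121) (tt N23623 F48123) (tt N23413 (iv D24499)) (tt N23684 F48122) (tt N25148 D25186))
theorem Q24463 : ∀ i, i < 24463 → P i := stepQ 24462 Q24462 (allL N24462 (tt N23624 F48124) (tt N23417 F48125) (tt N23414 F48126) (tt N25148 (iv F49894)) (tt N23666 F48127) (tt N23413 (iv D24500)))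
theorem Q24464 : ∀ i, i < 24464 → P i := stepQ 24463 Q24463 (allL N24463 (tt N25034 (iv F49633)) (tt N25148 (iv F49892)) (tt N24225 F48128) (tt N23417 F48129) (tt N25024 (iv F49615)) (tt N23416 (iv D24501)))
theorem Q24465 : ∀ i, i < 24465 → P i := stepQ 24464 Q24464 (allL N24464 (tt N25111 (iv F49816)) (tt N24885 (iv F49257)) (tt N23419 (iv D24502)) (tt N24884 F49255) (tt N24983 (iv F49517)) (tt N24709 (iv F48782)))
theorem Q24466 : ∀ i, i < 24466 → P i := stepQ 24465 Q24465 (allL N24465 (tt N23962 F48130) (tt N23420 (iv D24503)) (tt N24885 (iv F49258)) (tt N23714 F48131) (tt N25149 D25187) (tt N23713 F48132))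
theorem Q24467 : ∀ i, i < 24467 → P i := stepQ 24466 Q24466 (allL N24466 (tt N23740 F48133) (tt N25149 (iv F49896)) (tt N23421 F48134) (tt N23718 F48135) (tt N23420 (iv D24504)) (tt N24120 F48136))
theorem Q24468 : ∀ i, i < 24468 → P i := stepQ 24467 Q24467 (allL N24467 (tt N23424 (iv D24505)) (tt N23559 F48137) (tt N23426 F48138) (tt N25150 D25188) (tt N23571 F48139) (tt N23428 F48140))
theorem Q24469 : ∀ i, i < 24469 → P i := stepQ 24468 Q24468 (allL N24468 (tt N25150 (iv F49899)) (tt N23425 F48141) (tt N25151 D25189) (tt N23424 (iv D24506)) (tt N24561 (iv F48386)) (tt N23429 F48142))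
theorem Q24470 : ∀ i, i < 24470 → P i := stepQ 24469 Q24469 (allL N24469 (tt N23429 F48143) (tt N23557 F48144) (tt N25152 D25190) (tt N23428 (iv D24507)) (tt N23554 F48145) (tt N25150 (iv F49901)))
theorem Q24471 : ∀ i, i < 24471 → P i := stepQ 24470 Q24470 (allL N24470 (tt N25152 (iv F49903)) (tt N25153 D25191) (tt N23429 (iv D24508)) (tt N25154 D25192) (tt N25155 D25193) (tt N25151 (iv F49902)))
theorem Q24472 : ∀ i, i < 24472 → P i := stepQ 24471 Q24471 (allL N24471 (tt N23554 F48146) (tt N23431 F48147) (tt N25155 (iv F49907)) (tt N23553 F48148) (tt N23429 (iv D24509)) (tt N24539 (iv F48322)))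
theorem Q24473 : ∀ i, i < 24473 → P i := stepQ 24472 Q24472 (allL N24472 (tt N25073 (iv F49721)) (tt N23430 (iv D24510)) (tt N25153 (iv F49905)) (tt N25040 (iv F49656)) (tt N25156 D25194) (tt N25084 (iv F49747)))
theorem Q24474 : ∀ i, i < 24474 → P i := stepQ 24473 Q24473 (allL N24473 (tt N24540 (iv F48323)) (tt N25156 (iv F49910)) (tt N23431 F48149) (tt N25074 (iv F49725)) (tt N23430 (iv D24511)) (tt N25074 (iv F49726)))
theorem Q24475 : ∀ i, i < 24475 → P i := stepQ 24474 Q24474 (allL N24474 (tt N24541 (iv F48328)) (tt N24539 (iv F48321)) (tt N25074 (iv F49724)) (tt N23932 F48150) (tt N24567 (iv F48406)) (tt N23431 (iv D24512)))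
theorem Q24476 : ∀ i, i < 24476 → P i := stepQ 24475 Q24475 (allL N24475 (tt N23433 F48151) (tt N25157 D25195) (tt N23432 (iv D24513)) (tt N25158 D25196) (tt N23933 F48152) (tt N25077 (iv F49736)))
theorem Q24477 : ∀ i, i < 24477 → P i := stepQ 24476 Q24476 (allL N24476 (tt N25158 (iv F49914)) (tt N23934 F48153) (tt N25159 D25197) (tt N23433 (iv D24514)) (tt N25160 D25198) (tt N25085 (iv F49750)))
theorem Q24478 : ∀ i, i < 24478 → P i := stepQ 24477 Q24477 (allL N24477 (tt N23535 F48154) (tt N23434 (iv D24515)) (tt N23451 F48155) (tt N24853 (iv F49185)) (tt N23457 F48156) (tt N24713 (iv F48795)))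
theorem Q24479 : ∀ i, i < 24479 → P i := stepQ 24478 Q24478 (allL N24478 (tt N23530 F48157) (tt N23440 F48158) (tt N25161 D25199) (tt N23439 (iv D24516)) (tt N24853 (iv F49186)) (tt N24458 (iv F48159)))
theorem Q24480 : ∀ i, i < 24480 → P i := stepQ 24479 Q24479 (allL N24479 (tt N23531 F48160) (tt N23441 F48161) (tt N23971 F48162) (tt N24458 F48163) (tt N24184 (iv F48164)) (tt N23439 (iv D24517)))
theorem Q24481 : ∀ i, i < 24481 → P i := stepQ 24480 Q24480 (allL N24480 (tt N23442 (iv D24518)) (tt N23443 F48165) (tt N23475 F48166) (tt N23745 F48167) (tt N23472 F48168) (tt N23449 F48169))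
theorem Q24482 : ∀ i, i < 24482 → P i := stepQ 24481 Q24481 (allL N24481 (tt N23496 F48170) (tt N23446 (iv D24519)) (tt N24713 (iv F48793)) (tt N23733 F48171) (tt N24719 (iv F48817)) (tt N23451 F48172))
theorem Q24483 : ∀ i, i < 24483 → P i := stepQ 24482 Q24482 (allL N24482 (tt N23451 (iv D24520)) (tt N23453 F48173) (tt N23535 F48174) (tt N25162 D25200) (tt N23534 F48175) (tt N23496 F48176))
theorem Q24484 : ∀ i, i < 24484 → P i := stepQ 24483 Q24483 (allL N24483 (tt N25162 (iv F49921)) (tt N23452 F48177) (tt N25163 D25201) (tt N23451 (iv D24521)) (tt N25164 D25202) (tt N23733 F48178))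
theorem Q24485 : ∀ i, i < 24485 → P i := stepQ 24484 Q24484 (allL N24484 (tt N23456 F48179) (tt N25164 (iv F49928)) (tt N23734 F48180) (tt N24818 (iv F49070)) (tt N23452 (iv D24522)) (tt N24717 (iv F48811)))
theorem Q24486 : ∀ i, i < 24486 → P i := stepQ 24485 Q24485 (allL N24485 (tt N23454 F48181) (tt N25162 (iv F49922)) (tt N23488 F48183) (tt N23453 (iv D24523)) (tt N24732 (iv F48870)) (tt N23497 F48182))
theorem Q24487 : ∀ i, i < 24487 → P i := stepQ 24486 Q24486 (allL N24486 (tt N23488 F48184) (tt N25165 D25203) (tt N23454 (iv D24524)) (tt N23484 F48185) (tt N24729 (iv F48865)) (tt N23498 F48186))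
theorem Q24488 : ∀ i, i < 24488 → P i := stepQ 24487 Q24487 (allL N24487 (tt N24732 (iv F48868)) (tt N23456 F48187) (tt N24729 (iv F48863)) (tt N24751 (iv F48919)) (tt N23454 (iv D24525)) (tt N24728 F48860))
theorem Q24489 : ∀ i, i < 24489 → P i := stepQ 24488 Q24488 (allL N24488 (tt N24855 (iv F49192)) (tt N23455 (iv D24526)) (tt N25165 (iv F49932)) (tt N23729 F48188) (tt N23785 (iv F48190)) (tt N23728 F48189))
theorem Q24490 : ∀ i, i < 24490 → P i := stepQ 24489 Q24489 (allL N24489 (tt N23734 F48191) (tt N23785 F48192) (tt N23456 F48193) (tt N23777 F48194) (tt N23455 (iv D24527)) (tt N23778 F48195))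
theorem Q24491 : ∀ i, i < 24491 → P i := stepQ 24490 Q24490 (allL N24490 (tt N24717 (iv F48809)) (tt N24728 (iv F48858)) (tt N23778 F48196) (tt N24821 (iv F49076)) (tt N24716 (iv F48806)) (tt N23456 (iv D24528)))
theorem Q24492 : ∀ i, i < 24492 → P i := stepQ 24491 Q24491 (allL N24491 (tt N23542 F48197) (tt N23464 (iv D24529)) (tt N23465 F48198) (tt N24819 (iv F49071)) (tt N23725 F48199) (tt N24398 F48200))
theorem Q24493 : ∀ i, i < 24493 → P i := stepQ 24492 Q24492 (allL N24492 (tt N23471 F48201) (tt N23468 F48202) (tt N24723 (iv F48835)) (tt N23467 (iv D24530)) (tt N24723 (iv F48837)) (tt N24768 (iv F48963)))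
theorem Q24494 : ∀ i, i < 24494 → P i := stepQ 24493 Q24493 (allL N24493 (tt N24722 (iv F48830)) (tt N23469 (iv D24531)) (tt N23473 F48203) (tt N24832 (iv F49111)) (tt N24722 (iv F48832)) (tt N24767 (iv F48958)))
theorem Q24495 : ∀ i, i < 24495 → P i := stepQ 24494 Q24494 (allL N24494 (tt N23478 F48204) (tt N23485 F48205) (tt N23751 F48206) (tt N23475 F48207) (tt N24923 (iv F49359)) (tt N23474 (iv D24532)))
theorem Q24496 : ∀ i, i < 24496 → P i := stepQ 24495 Q24495 (allL N24495 (tt N24758 (iv F48931)) (tt N23830 F48208) (tt N23476 (iv D24533)) (tt N24838 (iv F49137)) (tt N23477 F48209) (tt N23832 F48210))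
theorem Q24497 : ∀ i, i < 24497 → P i := stepQ 24496 Q24496 (allL N24496 (tt N24923 (iv F49356)) (tt N23481 F48211) (tt N23752 F48212) (tt N25166 D25204) (tt N23478 (iv D24534)) (tt N23835 F48213))
theorem Q24498 : ∀ i, i < 24498 → P i := stepQ 24497 Q24497 (allL N24497 (tt N24727 (iv F48852)) (tt N23482 F48214) (tt N24715 (iv F48801)) (tt N23479 (iv D24535)) (tt N25166 (iv F49939)) (tt N23480 F48215))
theorem Q24499 : ∀ i, i < 24499 → P i := stepQ 24498 Q24498 (allL N24498 (tt N23493 F48216) (tt N25166 (iv F49937)) (tt N24721 (iv F48827)) (tt N23481 (iv D24536)) (tt N23482 F48217) (tt N23836 F48218))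
theorem Q24500 : ∀ i, i < 24500 → P i := stepQ 24499 Q24499 (allL N24499 (tt N23835 F48219) (tt N23484 (iv D24537)) (tt N24924 (iv F49363)) (tt N25165 (iv F49933)) (tt N23837 F48220) (tt N24923 F49360))
theorem Q24501 : ∀ i, i < 24501 → P i := stepQ 24500 Q24500 (allL N24500 (tt N23489 F48221) (tt N24923 (iv F49357)) (tt N23485 F48222) (tt N23498 F48223) (tt N23485 F48224) (tt N23484 (iv D24538)))
theorem Q24502 : ∀ i, i < 24502 → P i := stepQ 24501 Q24501 (allL N24501 (tt N23836 F48225) (tt N23488 F48226) (tt N25167 D25205) (tt N23487 (iv D24539)) (tt N23490 F48227) (tt N23493 F48228))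
theorem Q24503 : ∀ i, i < 24503 → P i := stepQ 24502 Q24502 (allL N24502 (tt N24207 F48229) (tt N25168 D25206) (tt N23490 (iv D24540)) (tt N24198 F48230) (tt N25167 (iv F49943)) (tt N23491 F48231))
theorem Q24504 : ∀ i, i < 24504 → P i := stepQ 24503 Q24503 (allL N24503 (tt N24261 F48232) (tt N23491 (iv D24541)) (tt N24730 (iv F48866)) (tt N24197 F48233) (tt N23495 F48234) (tt N25168 (iv F49947)))
theorem Q24505 : ∀ i, i < 24505 → P i := stepQ 24504 Q24504 (allL N24504 (tt N24721 (iv F48825)) (tt N25169 D25207) (tt N23493 (iv D24542)) (tt N23833 F48236) (tt N23494 F48235) (tt N25167 (iv F49944)))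
theorem Q24506 : ∀ i, i < 24506 → P i := stepQ 24505 Q24505 (allL N24505 (tt N24264 F48237) (tt N23494 (iv D24543)) (tt N24734 (iv F48875)) (tt N23961 F48238) (tt N25169 (iv F49951)) (tt N23495 F48239))
theorem Q24507 : ∀ i, i < 24507 → P i := stepQ 24506 Q24506 (allL N24506 (tt N23733 F48240) (tt N23497 F48241) (tt N25169 (iv F49949)) (tt N23496 (iv D24544)) (tt N24734 F48877) (tt N25162 (iv F49923)))
theorem Q24508 : ∀ i, i < 24508 → P i := stepQ 24507 Q24507 (allL N24507 (tt N25166 (iv F49936)) (tt N23498 (iv D24545)) (tt N23728 F48242) (tt N24923 (iv F49358)) (tt N24727 F48856) (tt N25165 (iv F49935)))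
theorem Q24509 : ∀ i, i < 24509 → P i := stepQ 24508 Q24508 (allL N24508 (tt N23834 F48243) (tt N23501 F48244) (tt N24596 (iv F48474)) (tt N23500 (iv D24546)) (tt N23963 F48245) (tt N23788 F48246))
theorem Q24510 : ∀ i, i < 24510 → P i := stepQ 24509 Q24509 (allL N24509 (tt N23825 F48247) (tt N23963 F48248) (tt N23799 F48249) (tt N23967 F48250) (tt N23501 (iv D24547)) (tt N23802 F48251))
theorem Q24511 : ∀ i, i < 24511 → P i := stepQ 24510 Q24510 (allL N24510 (tt N23595 F48252) (tt N23504 F48253) (tt N24546 (iv F48346)) (tt N23587 F48254) (tt N23503 (iv D24548)) (tt N23601 F48255))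
theorem Q24512 : ∀ i, i < 24512 → P i := stepQ 24511 Q24511 (allL N24511 (tt N24512 (iv F48258)) (tt N23508 F48256) (tt N25170 D25208) (tt N23507 (iv D24549)) (tt N25171 D25209) (tt N24417 (iv F48257)))
theorem Q24513 : ∀ i, i < 24513 → P i := stepQ 24512 Q24512 (allL N24512 (tt N24511 F48258) (tt N23509 F48259) (tt N24802 (iv F49039)) (tt N24417 F48260) (tt N25172 D25210) (tt N23507 (iv D24550)))
theorem Q24514 : ∀ i, i < 24514 → P i := stepQ 24513 Q24513 (allL N24513 (tt N23511 F48261) (tt N25171 (iv F49955)) (tt N23794 F48262) (tt N23790 F48263) (tt N23508 (iv D24551)) (tt N23793 F48264))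
theorem Q24515 : ∀ i, i < 24515 → P i := stepQ 24514 Q24514 (allL N24514 (tt N23512 F48265) (tt N25172 (iv F49959)) (tt N23510 F48266) (tt N24787 (iv F48999)) (tt N23509 (iv D24552)) (tt N23939 F48267))
theorem Q24516 : ∀ i, i < 24516 → P i := stepQ 24515 Q24515 (allL N24515 (tt N23517 F48268) (tt N24534 (iv F48312)) (tt N24113 F48269) (tt N23513 (iv D24553)) (tt N24766 (iv F48953)) (tt N23579 F48270))
theorem Q24517 : ∀ i, i < 24517 → P i := stepQ 24516 Q24516 (allL N24516 (tt N24570 (iv F48411)) (tt N23517 F48271) (tt N25173 D25211) (tt N23516 (iv D24554)) (tt N25174 D25212) (tt N24118 F48272))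
theorem Q24518 : ∀ i, i < 24518 → P i := stepQ 24517 Q24517 (allL N24517 (tt N24766 (iv F48952)) (tt N25174 (iv F49965)) (tt N24119 F48273) (tt N23522 F48274) (tt N23517 (iv D24555)) (tt N24766 (iv F48954)))
theorem Q24519 : ∀ i, i < 24519 → P i := stepQ 24518 Q24518 (allL N24518 (tt N23520 F48275) (tt N24572 (iv F48419)) (tt N25175 D25213) (tt N23519 (iv D24556)) (tt N25176 D25214) (tt N24545 (iv F48345)))
theorem Q24520 : ∀ i, i < 24520 → P i := stepQ 24519 Q24519 (allL N24519 (tt N25175 (iv F49967)) (tt N24692 (iv F48732)) (tt N23520 (iv D24557)) (tt N24755 (iv F48928)) (tt N24813 (iv F49060)) (tt N24690 F48726))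
theorem Q24521 : ∀ i, i < 24521 → P i := stepQ 24520 Q24520 (allL N24520 (tt N25176 (iv F49969)) (tt N23522 F48276) (tt N24813 (iv F49059)) (tt N25174 (iv F49966)) (tt N23520 (iv D24558)) (tt N24765 (iv F48951)))
theorem Q24522 : ∀ i, i < 24522 → P i := stepQ 24521 Q24521 (allL N24521 (tt N23527 F48277) (tt N24650 (iv F48617)) (tt N25177 D25215) (tt N23526 (iv D24559)) (tt N25178 D25216) (tt N24426 (iv F48278)))
theorem Q24523 : ∀ i, i < 24523 → P i := stepQ 24522 Q24522 (allL N24522 (tt N23528 F48279) (tt N24601 (iv F48486)) (tt N23533 F48280) (tt N24426 F48281) (tt N24185 F48282) (tt N23526 (iv D24560)))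
theorem Q24524 : ∀ i, i < 24524 → P i := stepQ 24523 Q24523 (allL N24523 (tt N25177 (iv F49970)) (tt N24412 F48283) (tt N23527 (iv D24561)) (tt N25179 D25217) (tt N25180 D25218) (tt N24410 F48284))
theorem Q24525 : ∀ i, i < 24525 → P i := stepQ 24524 Q24524 (allL N24524 (tt N25178 (iv F49972)) (tt N23529 F48285) (tt N25180 (iv F49979)) (tt N24168 F48286) (tt N23527 (iv D24562)) (tt N24167 F48287))
theorem Q24526 : ∀ i, i < 24526 → P i := stepQ 24525 Q24525 (allL N24525 (tt N25161 (iv F49918)) (tt N24455 F48288) (tt N23530 (iv D24563)) (tt N24879 (iv F49242)) (tt N25181 D25219) (tt N24453 F48289))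
theorem Q24527 : ∀ i, i < 24527 → P i := stepQ 24526 Q24526 (allL N24526 (tt N24853 (iv F49184)) (tt N23532 F48290) (tt N25181 (iv F49982)) (tt N23535 F48291) (tt N23530 (iv D24564)) (tt N24836 (iv F49127)))
theorem Q24528 : ∀ i, i < 24528 → P i := stepQ 24527 Q24527 (allL N24527 (tt N23536 F48292) (tt N24657 (iv F48637)) (tt N24185 F48293) (tt N24188 F48294) (tt N23533 (iv D24565)) (tt N24184 F48295))
theorem Q24529 : ∀ i, i < 24529 → P i := stepQ 24528 Q24528 (allL N24528 (tt N24817 (iv F49066)) (tt N24737 (iv F48885)) (tt N25182 D25220) (tt N23534 (iv D24566)) (tt N25183 D25221) (tt N24739 (iv F48893)))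
theorem Q24530 : ∀ i, i < 24530 → P i := stepQ 24529 Q24529 (allL N24529 (tt N23537 (iv D24567)) (tt N24426 F48296) (tt N23948 F48297) (tt N24601 (iv F48488)) (tt N24639 (iv F48582)) (tt N24650 (iv F48619)))
theorem Q24531 : ∀ i, i < 24531 → P i := stepQ 24530 Q24530 (allL N24530 (tt N24639 (iv F48581)) (tt N23538 F48298) (tt N23946 F48299) (tt N24073 F48300) (tt N23537 (iv D24568)) (tt N24072 F48301))
theorem Q24532 : ∀ i, i < 24532 → P i := stepQ 24531 Q24531 (allL N24531 (tt N24174 F48302) (tt N24827 (iv F49095)) (tt N23541 (iv D24569)) (tt N24170 F48304) (tt N24767 (iv F48957)) (tt N24174 F48303))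
theorem Q24533 : ∀ i, i < 24533 → P i := stepQ 24532 Q24532 (allL N24532 (tt N24819 F49072) (tt N24406 F48305) (tt N25184 D25222) (tt N23542 (iv D24570)) (tt N24273 F48306) (tt N24400 F48307))
theorem Q24534 : ∀ i, i < 24534 → P i := stepQ 24533 Q24533 (allL N24533 (tt N24459 F48308) (tt N24879 (iv F49240)) (tt N23551 (iv D24571)) (tt N24455 F48309) (tt N24884 (iv F49253)) (tt N24454 (iv F48310)))
theorem Q24535 : ∀ i, i < 24535 → P i := stepQ 24534 Q24534 (allL N24534 (tt N24460 F48311) (tt N24515 F48312) (tt N24454 F48313) (tt N23552 F48314) (tt N25185 D25223) (tt N23551 (iv D24572)))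
theorem Q24536 : ∀ i, i < 24536 → P i := stepQ 24535 Q24535 (allL N24535 (tt N25155 (iv F49906)) (tt N25186 D25224) (tt N23554 (iv D24573)) (tt N24535 F48315) (tt N25152 (iv F49904)) (tt N25186 (iv F49994)))
theorem Q24537 : ∀ i, i < 24537 → P i := stepQ 24536 Q24536 (allL N24536 (tt N24539 (iv F48320)) (tt N23556 F48316) (tt N25186 (iv F49992)) (tt N23555 F48317) (tt N25187 D25225) (tt N23554 (iv D24574)))
theorem Q24538 : ∀ i, i < 24538 → P i := stepQ 24537 Q24537 (allL N24537 (tt N24542 (iv F48333)) (tt N25187 (iv F49995)) (tt N23557 F48318) (tt N24798 (iv F49027)) (tt N23556 (iv D24575)) (tt N24797 (iv F49024)))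
theorem Q24539 : ∀ i, i < 24539 → P i := stepQ 24538 Q24538 (allL N24538 (tt N24543 (iv F48336)) (tt N25150 (iv F49900)) (tt N24797 (iv F49023)) (tt N23559 F48319) (tt N24797 (iv F49022)) (tt N23557 (iv D24576)))
theorem Q24540 : ∀ i, i < 24540 → P i := stepQ 24539 Q24539 (allL N24539 (tt N24536 F48320) (tt N24474 F48321) (tt N25188 D25226) (tt N23560 (iv D24577)) (tt N25189 D25227) (tt N24471 F48322))
theorem Q24541 : ∀ i, i < 24541 → P i := stepQ 24540 Q24540 (allL N24540 (tt N24473 F48323) (tt N24379 (iv F48325)) (tt N23562 (iv D24578)) (tt N24379 (iv F48326)) (tt N24341 F48324) (tt N24379 (iv F48327)))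
theorem Q24542 : ∀ i, i < 24542 → P i := stepQ 24541 Q24541 (allL N24541 (tt N24474 F48328) (tt N23564 F48329) (tt N24379 F48330) (tt N23563 F48331) (tt N24378 (iv F48332)) (tt N23562 (iv D24579)))
theorem Q24543 : ∀ i, i < 24543 → P i := stepQ 24542 Q24542 (allL N24542 (tt N24537 F48333) (tt N24378 F48334) (tt N23565 F48335) (tt N25190 D25228) (tt N23564 (iv D24580)) (tt N25191 D25229))
theorem Q24544 : ∀ i, i < 24544 → P i := stepQ 24543 Q24543 (allL N24543 (tt N24538 F48336) (tt N24126 F48337) (tt N25191 (iv F50011)) (tt N23582 F48338) (tt N25191 (iv F50013)) (tt N23565 (iv D24581)))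
theorem Q24545 : ∀ i, i < 24545 → P i := stepQ 24544 Q24544 (allL N24544 (tt N23968 F48339) (tt N24850 (iv F49172)) (tt N23822 F48340) (tt N23566 (iv D24582)) (tt N25190 (iv F50007)) (tt N23581 F48341))
theorem Q24546 : ∀ i, i < 24546 → P i := stepQ 24545 Q24545 (allL N24545 (tt N23924 F48342) (tt N23618 F48343) (tt N25192 D25230) (tt N23568 (iv D24583)) (tt N23618 F48344) (tt N24518 F48345))
theorem Q24547 : ∀ i, i < 24547 → P i := stepQ 24546 Q24546 (allL N24546 (tt N24548 (iv F48351)) (tt N24798 (iv F49025)) (tt N24510 F48346) (tt N25187 (iv F49996)) (tt N23572 (iv D24584)) (tt N24560 (iv F48384)))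
theorem Q24548 : ∀ i, i < 24548 → P i := stepQ 24547 Q24547 (allL N24547 (tt N24850 (iv F49171)) (tt N23574 F48347) (tt N23596 (iv F48349)) (tt N23573 (iv D24585)) (tt N23609 (iv F48350)) (tt N23597 F48348))
theorem Q24549 : ∀ i, i < 24549 → P i := stepQ 24548 Q24548 (allL N24548 (tt N24546 F48351) (tt N23609 F48352) (tt N23595 F48353) (tt N25189 (iv F50002)) (tt N23574 (iv D24586)) (tt N23603 F48354))
theorem Q24550 : ∀ i, i < 24550 → P i := stepQ 24549 Q24549 (allL N24549 (tt N24851 (iv F49176)) (tt N23610 F48355) (tt N23575 (iv D24587)) (tt N25193 D25231) (tt N24851 (iv F49180)) (tt N24617 (iv F48535)))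
theorem Q24551 : ∀ i, i < 24551 → P i := stepQ 24550 Q24550 (allL N24550 (tt N24428 F48356) (tt N24178 F48357) (tt N23578 F48358) (tt N24794 (iv F49018)) (tt N23577 (iv D24588)) (tt N24140 F48359))
theorem Q24552 : ∀ i, i < 24552 → P i := stepQ 24551 Q24551 (allL N24551 (tt N23591 F48360) (tt N24586 (iv F48452)) (tt N23583 (iv D24589)) (tt N23586 F48361) (tt N25194 D25232) (tt N23585 F48362))
theorem Q24553 : ∀ i, i < 24553 → P i := stepQ 24552 Q24552 (allL N24552 (tt N24986 (iv F49522)) (tt N24555 (iv F48371)) (tt N25194 (iv F50025)) (tt N25075 (iv F49729)) (tt N23583 (iv D24590)) (tt N24552 F48363))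
theorem Q24554 : ∀ i, i < 24554 → P i := stepQ 24553 Q24553 (allL N24553 (tt N23707 F48364) (tt N23585 F48365) (tt N23707 F48367) (tt N23584 (iv D24591)) (tt N24553 F48366) (tt N24586 (iv F48454)))
theorem Q24555 : ∀ i, i < 24555 → P i := stepQ 24554 Q24554 (allL N24554 (tt N23593 F48368) (tt N24449 F48369) (tt N23587 F48370) (tt N25195 D25233) (tt N23586 (iv D24592)) (tt N24845 (iv F49163)))
theorem Q24556 : ∀ i, i < 24556 → P i := stepQ 24555 Q24555 (allL N24555 (tt N25194 (iv F50024)) (tt N24552 F48371) (tt N24986 (iv F49524)) (tt N25196 D25234) (tt N23591 (iv D24593)) (tt N24555 F48372))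
theorem Q24557 : ∀ i, i < 24557 → P i := stepQ 24556 Q24556 (allL N24556 (tt N25195 (iv F50027)) (tt N24380 F48373) (tt N25197 D25235) (tt N23593 (iv D24594)) (tt N25196 (iv F50030)) (tt N24846 (iv F49166)))
theorem Q24558 : ∀ i, i < 24558 → P i := stepQ 24557 Q24557 (allL N24557 (tt N23596 (iv D24595)) (tt N23615 F48374) (tt N24850 (iv F49173)) (tt N24616 (iv F48530)) (tt N23606 F48375) (tt N23598 F48376))
theorem Q24559 : ∀ i, i < 24559 → P i := stepQ 24558 Q24558 (allL N24558 (tt N23599 F48377) (tt N23614 F48378) (tt N25193 (iv F50021)) (tt N23598 (iv D24596)) (tt N23607 F48379) (tt N24616 (iv F48532)))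
theorem Q24560 : ∀ i, i < 24560 → P i := stepQ 24559 Q24559 (allL N24559 (tt N25193 (iv F50019)) (tt N24851 (iv F49177)) (tt N23599 (iv D24597)) (tt N24851 (iv F49179)) (tt N23610 F48380) (tt N24627 (iv F48551)))
theorem Q24561 : ∀ i, i < 24561 → P i := stepQ 24560 Q24560 (allL N24560 (tt N23603 F48381) (tt N23966 F48382) (tt N23601 F48383) (tt N25198 D25236) (tt N23600 (iv D24598)) (tt N24546 F48384))
theorem Q24562 : ∀ i, i < 24562 → P i := stepQ 24561 Q24561 (allL N24561 (tt N25198 (iv F50033)) (tt N23608 F48385) (tt N25199 D25237) (tt N23603 (iv D24599)) (tt N24468 F48386) (tt N25189 (iv F50003)))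
theorem Q24563 : ∀ i, i < 24563 → P i := stepQ 24562 Q24562 (allL N24562 (tt N23966 F48387) (tt N23605 F48388) (tt N23964 F48389) (tt N25191 (iv F50012)) (tt N23604 (iv D24600)) (tt N25190 (iv F50008)))
theorem Q24564 : ∀ i, i < 24564 → P i := stepQ 24563 Q24563 (allL N24563 (tt N23608 F48390) (tt N25191 (iv F50010)) (tt N24367 F48392) (tt N23605 (iv D24601)) (tt N24126 F48391) (tt N24378 (iv F48393)))
theorem Q24565 : ∀ i, i < 24565 → P i := stepQ 24564 Q24564 (allL N24564 (tt N23609 F48394) (tt N25190 (iv F50005)) (tt N23606 F48395) (tt N24378 F48396) (tt N24850 (iv F49175)) (tt N23605 (iv D24602)))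
theorem Q24566 : ∀ i, i < 24566 → P i := stepQ 24565 Q24565 (allL N24565 (tt N23610 F48397) (tt N25193 (iv F50020)) (tt N23607 (iv D24603)) (tt N23610 F48398) (tt N25193 (iv F50022)) (tt N24614 (iv F48523)))
theorem Q24567 : ∀ i, i < 24567 → P i := stepQ 24566 Q24566 (allL N24566 (tt N24367 F48399) (tt N25200 D25238) (tt N23608 (iv D24604)) (tt N24366 F48400) (tt N24390 F48401) (tt N24377 (iv F48402)))
theorem Q24568 : ∀ i, i < 24568 → P i := stepQ 24567 Q24567 (allL N24567 (tt N24378 F48403) (tt N25189 (iv F50001)) (tt N24377 F48404) (tt N23609 F48405) (tt N24474 F48406) (tt N23608 (iv D24605)))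
theorem Q24569 : ∀ i, i < 24569 → P i := stepQ 24568 Q24568 (allL N24568 (tt N23963 F48407) (tt N24624 (iv F48542)) (tt N24595 (iv F48471)) (tt N23612 (iv D24606)) (tt N23834 F48408) (tt N23613 F48409))
theorem Q24570 : ∀ i, i < 24570 → P i := stepQ 24569 Q24569 (allL N24569 (tt N24884 F49254) (tt N25201 D25239) (tt N23616 (iv D24607)) (tt N25111 (iv F49819)) (tt N24459 F48410) (tt N25110 (iv F49815)))
theorem Q24571 : ∀ i, i < 24571 → P i := stepQ 24570 Q24570 (allL N24570 (tt N24516 F48411) (tt N24460 F48412) (tt N25110 (iv F49814)) (tt N23617 F48413) (tt N25202 D25240) (tt N23616 (iv D24608)))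
theorem Q24572 : ∀ i, i < 24572 → P i := stepQ 24571 Q24571 (allL N24571 (tt N23817 F48414) (tt N23918 (iv F48417)) (tt N23618 (iv D24609)) (tt N23986 F48415) (tt N25192 (iv F50017)) (tt N23985 (iv F48416)))
theorem Q24573 : ∀ i, i < 24573 → P i := stepQ 24572 Q24572 (allL N24572 (tt N23926 F48418) (tt N24518 F48419) (tt N23985 F48420) (tt N23619 F48421) (tt N25203 D25241) (tt N23618 (iv D24610)))
theorem Q24574 : ∀ i, i < 24574 → P i := stepQ 24573 Q24573 (allL N24573 (tt N24454 F48422) (tt N25012 (iv F49586)) (tt N24460 F48423) (tt N23621 (iv D24611)) (tt N25204 D25242) (tt N24459 F48424))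
theorem Q24575 : ∀ i, i < 24575 → P i := stepQ 24574 Q24574 (allL N24574 (tt N24455 F48425) (tt N25013 (iv F49587)) (tt N23622 F48426) (tt N24459 F48427) (tt N23748 (iv F48428)) (tt N23621 (iv D24612)))
theorem Q24576 : ∀ i, i < 24576 → P i := stepQ 24575 Q24575 (allL N24575 (tt N25148 (iv F49891)) (tt N23626 F48429) (tt N25148 (iv F49893)) (tt N23624 F48430) (tt N25205 D25243) (tt N23623 (iv D24613)))
theorem Q24577 : ∀ i, i < 24577 → P i := stepQ 24576 Q24576 (allL N24576 (tt N24634 (iv F48568)) (tt N24225 F48431) (tt N23626 F48432) (tt N24224 F48433) (tt N24404 F48434) (tt N23625 (iv D24614)))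
theorem Q24578 : ∀ i, i < 24578 → P i := stepQ 24577 Q24577 (allL N24577 (tt N25027 (iv F49621)) (tt N25205 (iv F50056)) (tt N24404 F48435) (tt N25126 (iv F49848)) (tt N23626 (iv D24615)) (tt N24402 F48436))
theorem Q24579 : ∀ i, i < 24579 → P i := stepQ 24578 Q24578 (allL N24578 (tt N23631 F48437) (tt N24906 (iv F49309)) (tt N25115 (iv F49828)) (tt N23627 (iv D24616)) (tt N24630 (iv F48561)) (tt N25112 (iv F49822)))
theorem Q24580 : ∀ i, i < 24580 → P i := stepQ 24579 Q24579 (allL N24579 (tt N24629 (iv F48555)) (tt N23629 F48438) (tt N23705 F48439) (tt N25132 (iv F49860)) (tt N23637 F48440) (tt N23628 (iv D24617)))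
theorem Q24581 : ∀ i, i < 24581 → P i := stepQ 24580 Q24580 (allL N24580 (tt N24631 (iv F48562)) (tt N23637 F48441) (tt N24209 F48442) (tt N25206 D25244) (tt N23629 (iv D24618)) (tt N23630 F48443))
theorem Q24582 : ∀ i, i < 24582 → P i := stepQ 24581 Q24581 (allL N24581 (tt N24630 (iv F48559)) (tt N23636 F48444) (tt N25207 D25245) (tt N23630 (iv D24619)) (tt N23631 F48445) (tt N25206 (iv F50060)))
theorem Q24583 : ∀ i, i < 24583 → P i := stepQ 24582 Q24582 (allL N24582 (tt N25115 (iv F49827)) (tt N25208 D25246) (tt N23631 (iv D24620)) (tt N24042 F48446) (tt N25207 (iv F50061)) (tt N25116 (iv F49830)))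
theorem Q24584 : ∀ i, i < 24584 → P i := stepQ 24583 Q24583 (allL N24583 (tt N24906 (iv F49308)) (tt N23633 F48447) (tt N25209 D25247) (tt N23632 (iv D24621)) (tt N24588 (iv F48458)) (tt N25210 D25248))
theorem Q24585 : ∀ i, i < 24585 → P i := stepQ 24584 Q24584 (allL N24584 (tt N24907 (iv F49311)) (tt N23634 F48448) (tt N24935 (iv F49397)) (tt N25210 (iv F50070)) (tt N24939 (iv F49413)) (tt N23632 (iv D24622)))
theorem Q24586 : ∀ i, i < 24586 → P i := stepQ 24585 Q24585 (allL N24585 (tt N23639 F48449) (tt N25210 (iv F50069)) (tt N24587 (iv F48455)) (tt N23634 F48450) (tt N25211 D25249) (tt N23633 (iv D24623)))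
theorem Q24587 : ∀ i, i < 24587 → P i := stepQ 24586 Q24586 (allL N24586 (tt N23640 F48451) (tt N24551 F48452) (tt N23640 F48453) (tt N23635 (iv D24624)) (tt N25212 D25250) (tt N24553 F48454))
theorem Q24588 : ∀ i, i < 24588 → P i := stepQ 24587 Q24587 (allL N24587 (tt N24589 (iv F48460)) (tt N25206 (iv F50059)) (tt N24585 F48455) (tt N23637 F48456) (tt N25213 D25251) (tt N23636 (iv D24625)))
theorem Q24589 : ∀ i, i < 24589 → P i := stepQ 24588 Q24588 (allL N24588 (tt N24155 (iv F48459)) (tt N23638 (iv D24626)) (tt N25208 (iv F50063)) (tt N24152 F48457) (tt N24583 F48458) (tt N25214 D25252))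
theorem Q24590 : ∀ i, i < 24590 → P i := stepQ 24589 Q24589 (allL N24589 (tt N24587 F48460) (tt N25214 (iv F50079)) (tt N23639 F48461) (tt N24208 F48462) (tt N25215 D25253) (tt N23638 (iv D24627)))
theorem Q24591 : ∀ i, i < 24591 → P i := stepQ 24590 Q24590 (allL N24590 (tt N25211 (iv F50071)) (tt N25117 (iv F49832)) (tt N25215 (iv F50083)) (tt N25120 (iv F49838)) (tt N23639 (iv D24628)) (tt N25213 (iv F50077)))
theorem Q24592 : ∀ i, i < 24592 → P i := stepQ 24591 Q24591 (allL N24591 (tt N25212 (iv F50072)) (tt N24986 (iv F49523)) (tt N25212 (iv F50074)) (tt N25138 (iv F49867)) (tt N23640 (iv D24629)) (tt N24591 F48463))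
theorem Q24593 : ∀ i, i < 24593 → P i := stepQ 24592 Q24592 (allL N24592 (tt N24940 (iv F49414)) (tt N23936 F48464) (tt N23641 (iv D24630)) (tt N25216 D25254) (tt N24635 (iv F48572)) (tt N25217 D25255))
theorem Q24594 : ∀ i, i < 24594 → P i := stepQ 24593 Q24593 (allL N24593 (tt N24941 (iv F49417)) (tt N23643 F48465) (tt N25217 (iv F50087)) (tt N23642 F48466) (tt N24888 (iv F49263)) (tt N23641 (iv D24631)))
theorem Q24595 : ∀ i, i < 24595 → P i := stepQ 24594 Q24594 (allL N24594 (tt N23653 F48467) (tt N24975 (iv F49492)) (tt N23856 F48468) (tt N23644 (iv D24632)) (tt N24637 (iv F48577)) (tt N23645 F48469))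
theorem Q24596 : ∀ i, i < 24596 → P i := stepQ 24595 Q24595 (allL N24595 (tt N23648 F48470) (tt N24941 (iv F49418)) (tt N24568 F48471) (tt N23647 F48472) (tt N24705 (iv F48771)) (tt N23646 (iv D24633)))
theorem Q24597 : ∀ i, i < 24597 → P i := stepQ 24596 Q24596 (allL N24596 (tt N24705 (iv F48769)) (tt N23652 F48473) (tt N24508 F48474) (tt N24707 (iv F48773)) (tt N23648 (iv D24634)) (tt N24649 (iv F48615)))
theorem Q24598 : ∀ i, i < 24598 → P i := stepQ 24597 Q24597 (allL N24597 (tt N24637 (iv F48575)) (tt N24707 F48775) (tt N24069 F48475) (tt N23652 (iv D24635)) (tt N23653 F48476) (tt N23861 F48477))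
theorem Q24599 : ∀ i, i < 24599 → P i := stepQ 24598 Q24598 (allL N24598 (tt N23655 F48478) (tt N24425 F48479) (tt N25218 D25256) (tt N23654 (iv D24636)) (tt N24267 F48480) (tt N23935 F48481))
theorem Q24600 : ∀ i, i < 24600 → P i := stepQ 24599 Q24599 (allL N24599 (tt N25218 (iv F50089)) (tt N25217 (iv F50086)) (tt N23655 (iv D24637)) (tt N25219 D25257) (tt N24270 F48482) (tt N23936 F48483))
theorem Q24601 : ∀ i, i < 24601 → P i := stepQ 24600 Q24600 (allL N24600 (tt N23661 F48484) (tt N24710 (iv F48783)) (tt N24334 F48485) (tt N24711 (iv F48788)) (tt N23660 (iv D24638)) (tt N24948 (iv F49437)))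
theorem Q24602 : ∀ i, i < 24602 → P i := stepQ 24601 Q24601 (allL N24601 (tt N23664 (iv D24639)) (tt N24522 F48486) (tt N23757 F48487) (tt N24529 F48488) (tt N23722 F48489) (tt N24419 F48490))
theorem Q24603 : ∀ i, i < 24603 → P i := stepQ 24602 Q24602 (allL N24602 (tt N23669 F48491) (tt N25220 D25258) (tt N23665 (iv D24640)) (tt N24309 F48493) (tt N23690 F48492) (tt N24308 (iv F48494)))
theorem Q24604 : ∀ i, i < 24604 → P i := stepQ 24603 Q24603 (allL N24603 (tt N23670 F48495) (tt N25041 (iv F49660)) (tt N24308 F48496) (tt N23666 F48497) (tt N25221 D25259) (tt N23665 (iv D24641)))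
theorem Q24605 : ∀ i, i < 24605 → P i := stepQ 24604 Q24604 (allL N24604 (tt N23690 F48498) (tt N25222 D25260) (tt N23667 (iv D24642)) (tt N25223 D25261) (tt N23669 F48499) (tt N25224 D25262))
theorem Q24606 : ∀ i, i < 24606 → P i := stepQ 24605 Q24605 (allL N24605 (tt N23691 F48500) (tt N25025 (iv F49617)) (tt N25224 (iv F50109)) (tt N23668 F48501) (tt N25225 D25263) (tt N23667 (iv D24643)))
theorem Q24607 : ∀ i, i < 24607 → P i := stepQ 24606 Q24606 (allL N24606 (tt N25226 D25264) (tt N23669 (iv D24644)) (tt N25123 (iv F49840)) (tt N25227 D25265) (tt N25222 (iv F50104)) (tt N25228 D25266))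
theorem Q24608 : ∀ i, i < 24608 → P i := stepQ 24607 Q24607 (allL N24607 (tt N24309 F48502) (tt N25227 (iv F50115)) (tt N24303 F48503) (tt N23669 (iv D24645)) (tt N24702 (iv F48765)) (tt N24302 F48504))
theorem Q24609 : ∀ i, i < 24609 → P i := stepQ 24608 Q24608 (allL N24608 (tt N24308 F48505) (tt N25228 (iv F50120)) (tt N23670 F48506) (tt N24302 F48507) (tt N25229 D25267) (tt N23669 (iv D24646)))
theorem Q24610 : ∀ i, i < 24610 → P i := stepQ 24609 Q24609 (allL N24609 (tt N25221 (iv F50101)) (tt N25126 (iv F49847)) (tt N25229 (iv F50123)) (tt N25205 (iv F50057)) (tt N23670 (iv D24647)) (tt N25225 (iv F50114)))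
theorem Q24611 : ∀ i, i < 24611 → P i := stepQ 24610 Q24610 (allL N24610 (tt N23673 (iv D24648)) (tt N25145 (iv F49884)) (tt N24018 F48508) (tt N25230 D25268) (tt N24314 F48509) (tt N25231 D25269))
theorem Q24612 : ∀ i, i < 24612 → P i := stepQ 24611 Q24611 (allL N24611 (tt N25230 (iv F50124)) (tt N23674 F48510) (tt N25232 D25270) (tt N23673 (iv D24649)) (tt N23869 F48511) (tt N24013 (iv F48512)))
theorem Q24613 : ∀ i, i < 24613 → P i := stepQ 24612 Q24612 (allL N24612 (tt N25231 (iv F50129)) (tt N23675 F48513) (tt N24076 F48514) (tt N24013 F48515) (tt N23849 F48516) (tt N23673 (iv D24650)))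
theorem Q24614 : ∀ i, i < 24614 → P i := stepQ 24613 Q24613 (allL N24613 (tt N23693 F48517) (tt N24697 (iv F48749)) (tt N23689 F48518) (tt N24700 (iv F48759)) (tt N23678 (iv D24651)) (tt N23688 F48519))
theorem Q24615 : ∀ i, i < 24615 → P i := stepQ 24614 Q24614 (allL N24614 (tt N23686 F48520) (tt N25020 (iv F49600)) (tt N23679 (iv D24652)) (tt N23686 F48521) (tt N23697 F48522) (tt N24565 F48523))
theorem Q24616 : ∀ i, i < 24616 → P i := stepQ 24615 Q24615 (allL N24615 (tt N23685 F48524) (tt N23698 F48525) (tt N23680 (iv D24653)) (tt N23681 F48526) (tt N23682 F48527) (tt N23680 (iv F48528)))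
theorem Q24617 : ∀ i, i < 24617 → P i := stepQ 24616 Q24616 (allL N24616 (tt N23702 F48529) (tt N23682 (iv D24654)) (tt N25020 (iv F49601)) (tt N24557 F48530) (tt N23698 F48531) (tt N24558 F48532))
theorem Q24618 : ∀ i, i < 24618 → P i := stepQ 24617 Q24617 (allL N24617 (tt N24055 (iv F48536)) (tt N23686 (iv D24655)) (tt N23687 F48533) (tt N25020 (iv F49602)) (tt N23699 F48534) (tt N24549 F48535))
theorem Q24619 : ∀ i, i < 24619 → P i := stepQ 24618 Q24618 (allL N24618 (tt N23692 F48537) (tt N24424 F48538) (tt N25233 D25271) (tt N23688 (iv D24656)) (tt N24423 F48539) (tt N24700 (iv F48760)))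
theorem Q24620 : ∀ i, i < 24620 → P i := stepQ 24619 Q24619 (allL N24619 (tt N25219 (iv F50094)) (tt N23690 (iv D24657)) (tt N23938 F48540) (tt N25218 (iv F50091)) (tt N25220 (iv F50099)) (tt N25062 (iv F49700)))
theorem Q24621 : ∀ i, i < 24621 → P i := stepQ 24620 Q24620 (allL N24620 (tt N25223 (iv F50105)) (tt N25218 (iv F50090)) (tt N24700 F48761) (tt N23690 (iv D24658)) (tt N24699 (iv F48762)) (tt N25233 (iv F50143)))
theorem Q24622 : ∀ i, i < 24622 → P i := stepQ 24621 Q24621 (allL N24621 (tt N25224 (iv F50108)) (tt N25062 (iv F49699)) (tt N23691 F48541) (tt N25233 (iv F50141)) (tt N25234 D25272) (tt N23690 (iv D24659)))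
theorem Q24623 : ∀ i, i < 24623 → P i := stepQ 24622 Q24622 (allL N24622 (tt N25225 (iv F50111)) (tt N25023 (iv F49610)) (tt N25234 (iv F50144)) (tt N25022 (iv F49608)) (tt N23691 (iv D24660)) (tt N25221 (iv F50103)))
theorem Q24624 : ∀ i, i < 24624 → P i := stepQ 24623 Q24623 (allL N24623 (tt N25233 (iv F50139)) (tt N24940 (iv F49415)) (tt N23692 (iv D24661)) (tt N25224 (iv F50110)) (tt N24795 (iv F49020)) (tt N25223 F50107))
theorem Q24625 : ∀ i, i < 24625 → P i := stepQ 24624 Q24624 (allL N24624 (tt N24700 (iv F48757)) (tt N24568 F48542) (tt N25223 (iv F50106)) (tt N23693 F48543) (tt N24698 (iv F48754)) (tt N23692 (iv D24662)))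
theorem Q24626 : ∀ i, i < 24626 → P i := stepQ 24625 Q24625 (allL N24625 (tt N24306 F48544) (tt N24064 F48545) (tt N25235 D25273) (tt N23695 (iv D24663)) (tt N23696 F48546) (tt N24301 F48547))
theorem Q24627 : ∀ i, i < 24627 → P i := stepQ 24626 Q24626 (allL N24626 (tt N24653 F48627) (tt N25236 D25274) (tt N23696 (iv D24664)) (tt N24701 (iv F48764)) (tt N25235 (iv F50148)) (tt N24702 (iv F48766)))
theorem Q24628 : ∀ i, i < 24628 → P i := stepQ 24627 Q24627 (allL N24627 (tt N25020 (iv F49599)) (tt N24055 F48548) (tt N23702 F48549) (tt N24055 F48550) (tt N23701 (iv D24665)) (tt N24559 F48551))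
theorem Q24629 : ∀ i, i < 24629 → P i := stepQ 24628 Q24628 (allL N24628 (tt N24445 F48552) (tt N24211 F48553) (tt N25237 D25275) (tt N23704 (iv D24666)) (tt N24443 F48554) (tt N25238 D25276))
theorem Q24630 : ∀ i, i < 24630 → P i := stepQ 24629 Q24629 (allL N24629 (tt N24579 F48555) (tt N24212 F48556) (tt N23706 F48557) (tt N25238 (iv F50158)) (tt N24208 F48558) (tt N23704 (iv D24667)))
theorem Q24631 : ∀ i, i < 24631 → P i := stepQ 24630 Q24630 (allL N24630 (tt N24581 F48559) (tt N24155 F48560) (tt N25239 D25277) (tt N23709 (iv D24668)) (tt N24578 F48561) (tt N25240 D25278))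
theorem Q24632 : ∀ i, i < 24632 → P i := stepQ 24631 Q24631 (allL N24631 (tt N24580 F48562) (tt N24156 F48563) (tt N23711 F48564) (tt N25240 (iv F50163)) (tt N24148 F48565) (tt N23709 (iv D24669)))
theorem Q24633 : ∀ i, i < 24633 → P i := stepQ 24632 Q24632 (allL N24632 (tt N24949 (iv F49438)) (tt N24673 (iv F48687)) (tt N23710 (iv D24670)) (tt N25241 D25279) (tt N23712 F48566) (tt N24674 (iv F48693)))
theorem Q24634 : ∀ i, i < 24634 → P i := stepQ 24633 Q24633 (allL N24633 (tt N24712 (iv F48790)) (tt N23712 (iv D24671)) (tt N24150 F48567) (tt N25242 D25280) (tt N24673 (iv F48688)) (tt N24645 F48603))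
theorem Q24635 : ∀ i, i < 24635 → P i := stepQ 24634 Q24634 (allL N24634 (tt N24576 F48568) (tt N25242 (iv F50164)) (tt N24374 F48569) (tt N23712 (iv D24672)) (tt N25088 (iv F49760)) (tt N24373 F48570))
theorem Q24636 : ∀ i, i < 24636 → P i := stepQ 24635 Q24635 (allL N24635 (tt N24204 F48571) (tt N24709 (iv F48780)) (tt N23713 (iv D24673)) (tt N24886 (iv F49261)) (tt N24592 F48572) (tt N24885 (iv F49259)))
theorem Q24637 : ∀ i, i < 24637 → P i := stepQ 24636 Q24636 (allL N24636 (tt N23728 F48573) (tt N23716 F48574) (tt N25166 (iv F49938)) (tt N23715 (iv D24674)) (tt N24715 F48803) (tt N24855 (iv F49196)))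
theorem Q24638 : ∀ i, i < 24638 → P i := stepQ 24637 Q24637 (allL N24637 (tt N24597 F48575) (tt N25163 (iv F49924)) (tt N23717 (iv D24675)) (tt N24120 F48576) (tt N24594 F48577) (tt N23718 F48578))
theorem Q24639 : ∀ i, i < 24639 → P i := stepQ 24638 Q24638 (allL N24638 (tt N25169 (iv F49948)) (tt N23718 (iv D24676)) (tt N23733 F48579) (tt N25149 (iv F49897)) (tt N24264 F48580) (tt N25163 (iv F49925)))
theorem Q24640 : ∀ i, i < 24640 → P i := stepQ 24639 Q24639 (allL N24639 (tt N24530 F48581) (tt N24844 (iv F49156)) (tt N24787 (iv F48998)) (tt N23723 (iv D24677)) (tt N24529 F48582) (tt N24856 (iv F49201)))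
theorem Q24641 : ∀ i, i < 24641 → P i := stepQ 24640 Q24640 (allL N24640 (tt N24407 F48583) (tt N23724 (iv D24678)) (tt N24397 F48584) (tt N23781 F48585) (tt N24396 F48586) (tt N23841 F48587))
theorem Q24642 : ∀ i, i < 24642 → P i := stepQ 24641 Q24641 (allL N24641 (tt N23780 F48588) (tt N24269 F48589) (tt N23775 F48590) (tt N24820 (iv F49075)) (tt N23726 (iv D24679)) (tt N25243 D25281))
theorem Q24643 : ∀ i, i < 24643 → P i := stepQ 24642 Q24642 (allL N24642 (tt N24715 (iv F48799)) (tt N23730 F48591) (tt N24727 (iv F48854)) (tt N23727 (iv D24680)) (tt N23728 F48592) (tt N23783 F48593))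
theorem Q24644 : ∀ i, i < 24644 → P i := stepQ 24643 Q24643 (allL N24643 (tt N23736 F48594) (tt N24799 (iv F49030)) (tt N23845 F48595) (tt N23772 F48596) (tt N23731 (iv D24681)) (tt N24903 (iv F49300)))
theorem Q24645 : ∀ i, i < 24645 → P i := stepQ 24644 Q24644 (allL N24644 (tt N24734 (iv F48873)) (tt N23732 (iv D24682)) (tt N24264 F48597) (tt N24736 (iv F48882)) (tt N23733 F48598) (tt N24263 F48599))
theorem Q24646 : ∀ i, i < 24646 → P i := stepQ 24645 Q24645 (allL N24645 (tt N23845 F48600) (tt N24241 F48601) (tt N23736 F48602) (tt N25072 (iv F49719)) (tt N23735 (iv D24683)) (tt N24633 (iv F48603)))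
theorem Q24647 : ∀ i, i < 24647 → P i := stepQ 24646 Q24646 (allL N24646 (tt N23738 F48604) (tt N23958 F48605) (tt N24124 F48606) (tt N25099 (iv F49787)) (tt N23737 (iv D24684)) (tt N24145 F48607))
theorem Q24648 : ∀ i, i < 24648 → P i := stepQ 24647 Q24647 (allL N24647 (tt N25099 (iv F49784)) (tt N23739 F48608) (tt N24388 (iv F48610)) (tt N23738 (iv D24685)) (tt N23951 F48609) (tt N24962 (iv F49466)))
theorem Q24649 : ∀ i, i < 24649 → P i := stepQ 24648 Q24648 (allL N24648 (tt N23957 F48611) (tt N25100 (iv F49790)) (tt N23739 (iv D24686)) (tt N24912 (iv F49327)) (tt N23952 F48612) (tt N24911 (iv F49323)))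
theorem Q24650 : ∀ i, i < 24650 → P i := stepQ 24649 Q24649 (allL N24649 (tt N23833 (iv F48616)) (tt N23740 (iv D24687)) (tt N23788 F48613) (tt N24721 (iv F48828)) (tt N23789 F48614) (tt N24596 F48615))
theorem Q24651 : ∀ i, i < 24651 → P i := stepQ 24650 Q24650 (allL N24650 (tt N23741 (iv D24688)) (tt N24521 F48617) (tt N24788 (iv F49003)) (tt N24419 F48618) (tt N24934 (iv F49394)) (tt N24529 F48619))
theorem Q24652 : ∀ i, i < 24652 → P i := stepQ 24651 Q24651 (allL N24651 (tt N23748 F48620) (tt N25181 (iv F49981)) (tt N23746 (iv D24689)) (tt N24983 (iv F49516)) (tt N24455 F48621) (tt N24982 (iv F49513)))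
theorem Q24653 : ∀ i, i < 24653 → P i := stepQ 24652 Q24652 (allL N24652 (tt N23749 F48622) (tt N24457 F48623) (tt N24982 (iv F49512)) (tt N23747 F48624) (tt N24452 F48625) (tt N23746 (iv D24690)))
theorem Q24654 : ∀ i, i < 24654 → P i := stepQ 24653 Q24653 (allL N24653 (tt N24626 (iv F48627)) (tt N23748 (iv D24691)) (tt N23750 F48626) (tt N23827 (iv F48628)) (tt N25013 (iv F49589)) (tt N24839 (iv F49142)))
theorem Q24655 : ∀ i, i < 24655 → P i := stepQ 24654 Q24654 (allL N24654 (tt N24983 (iv F49514)) (tt N23827 F48629) (tt N23828 F48630) (tt N23748 (iv D24692)) (tt N25111 F49820) (tt N24979 (iv F49504)))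
theorem Q24656 : ∀ i, i < 24656 → P i := stepQ 24655 Q24655 (allL N24655 (tt N24982 (iv F49511)) (tt N24839 (iv F49139)) (tt N23749 F48631) (tt N24979 (iv F49505)) (tt N25015 (iv F49593)) (tt N23748 (iv D24693)))
theorem Q24657 : ∀ i, i < 24657 → P i := stepQ 24656 Q24656 (allL N24656 (tt N24924 (iv F49361)) (tt N23831 F48632) (tt N23835 F48633) (tt N23753 F48634) (tt N23832 F48635) (tt N23752 (iv D24694)))
theorem Q24658 : ∀ i, i < 24658 → P i := stepQ 24657 Q24657 (allL N24657 (tt N23756 F48636) (tt N24527 F48637) (tt N23755 (iv D24695)) (tt N24928 (iv F49374)) (tt N23922 F48638) (tt N23868 F48639))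
theorem Q24659 : ∀ i, i < 24659 → P i := stepQ 24658 Q24658 (allL N24658 (tt N24928 (iv F49372)) (tt N23862 F48640) (tt N25244 D25282) (tt N23756 (iv D24696)) (tt N23872 F48641) (tt N23869 F48642))
theorem Q24660 : ∀ i, i < 24660 → P i := stepQ 24659 Q24659 (allL N24659 (tt N23795 F48643) (tt N24779 (iv F48978)) (tt N23758 (iv D24697)) (tt N24788 (iv F49004)) (tt N23793 F48644) (tt N24416 F48645))
theorem Q24661 : ∀ i, i < 24661 → P i := stepQ 24660 Q24660 (allL N24660 (tt N23764 (iv F48647)) (tt N23759 (iv D24698)) (tt N23760 F48646) (tt N24098 (iv F48649)) (tt N23759 (iv F48648)) (tt N25245 D25283))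
theorem Q24662 : ∀ i, i < 24662 → P i := stepQ 24661 Q24661 (allL N24661 (tt N23763 F48650) (tt N24098 F48651) (tt N23869 F48652) (tt N23759 (iv D24699)) (tt N25232 (iv F50136)) (tt N25244 (iv F50174)))
theorem Q24663 : ∀ i, i < 24663 → P i := stepQ 24662 Q24662 (allL N24662 (tt N23765 F48653) (tt N25245 (iv F50176)) (tt N23761 F48654) (tt N25244 (iv F50172)) (tt N24922 (iv F49355)) (tt N23759 (iv D24700)))
theorem Q24664 : ∀ i, i < 24664 → P i := stepQ 24663 Q24663 (allL N24663 (tt N23766 F48655) (tt N23771 F48656) (tt N25245 (iv F50177)) (tt N23768 F48657) (tt N24921 (iv F49351)) (tt N23760 (iv D24701)))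
theorem Q24665 : ∀ i, i < 24665 → P i := stepQ 24664 Q24664 (allL N24664 (tt N23762 (iv D24702)) (tt N23764 F48658) (tt N23767 F48659) (tt N24099 (iv F48661)) (tt N23762 (iv F48662)) (tt N23769 F48660))
theorem Q24666 : ∀ i, i < 24666 → P i := stepQ 24665 Q24665 (allL N24665 (tt N24099 F48663) (tt N23763 F48664) (tt N24101 F48665) (tt N23762 (iv D24703)) (tt N25246 D25284) (tt N23770 F48666))
theorem Q24667 : ∀ i, i < 24667 → P i := stepQ 24666 Q24666 (allL N24666 (tt N23869 F48667) (tt N24106 F48668) (tt N23763 (iv D24704)) (tt N23868 F48669) (tt N25230 (iv F50127)) (tt N24928 (iv F49376)))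
theorem Q24668 : ∀ i, i < 24668 → P i := stepQ 24667 Q24667 (allL N24667 (tt N25232 (iv F50134)) (tt N25246 (iv F50180)) (tt N25230 (iv F50126)) (tt N24082 F48670) (tt N23763 (iv D24705)) (tt N25247 D25285))
theorem Q24669 : ∀ i, i < 24669 → P i := stepQ 24668 Q24668 (allL N24668 (tt N25244 (iv F50170)) (tt N23770 F48671) (tt N24928 (iv F49373)) (tt N23765 F48672) (tt N24006 (iv F48673)) (tt N23763 (iv D24706)))
theorem Q24670 : ∀ i, i < 24670 → P i := stepQ 24669 Q24669 (allL N24669 (tt N25245 (iv F50175)) (tt N23769 F48674) (tt N23766 F48675) (tt N24100 F48676) (tt N24920 (iv F49347)) (tt N23764 (iv D24707)))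
theorem Q24671 : ∀ i, i < 24671 → P i := stepQ 24670 Q24670 (allL N24670 (tt N24103 F48677) (tt N24006 F48678) (tt N24102 F48679) (tt N24005 F48680) (tt N23770 (iv D24708)) (tt N25248 D25286))
theorem Q24672 : ∀ i, i < 24672 → P i := stepQ 24671 Q24671 (allL N24671 (tt N23773 F48681) (tt N24921 (iv F49349)) (tt N23772 F48682) (tt N24903 (iv F49298)) (tt N23771 (iv D24709)) (tt N23772 F48683))
theorem Q24673 : ∀ i, i < 24673 → P i := stepQ 24672 Q24672 (allL N24672 (tt N23779 F48684) (tt N23786 F48685) (tt N25243 (iv F50168)) (tt N23774 (iv D24710)) (tt N24903 (iv F49299)) (tt N23775 F48686))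
theorem Q24674 : ∀ i, i < 24674 → P i := stepQ 24673 Q24673 (allL N24673 (tt N25243 (iv F50166)) (tt N24632 F48687) (tt N23779 (iv D24711)) (tt N25249 D25287) (tt N24633 F48688) (tt N23780 F48689))
theorem Q24675 : ∀ i, i < 24675 → P i := stepQ 24674 Q24674 (allL N24674 (tt N24272 F48690) (tt N23780 (iv D24712)) (tt N23782 F48691) (tt N25250 D25288) (tt N23781 F48692) (tt N24632 F48693))
theorem Q24676 : ∀ i, i < 24676 → P i := stepQ 24675 Q24675 (allL N24675 (tt N24820 (iv F49073)) (tt N25250 (iv F50194)) (tt N24818 (iv F49069)) (tt N23780 (iv D24713)) (tt N24816 F49065) (tt N25249 (iv F50192)))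
theorem Q24677 : ∀ i, i < 24677 → P i := stepQ 24676 Q24676 (allL N24676 (tt N24854 (iv F49187)) (tt N24729 (iv F48862)) (tt N23785 F48694) (tt N24726 (iv F48850)) (tt N25165 (iv F49934)) (tt N23784 (iv D24714)))
theorem Q24678 : ∀ i, i < 24678 → P i := stepQ 24677 Q24677 (allL N24677 (tt N23787 F48695) (tt N24903 (iv F49296)) (tt N24059 F48696) (tt N24921 (iv F49350)) (tt N23786 (iv D24715)) (tt N24799 (iv F49033)))
theorem Q24679 : ∀ i, i < 24679 → P i := stepQ 24678 Q24678 (allL N24678 (tt N25251 D25289) (tt N23790 (iv D24716)) (tt N25114 (iv F49825)) (tt N25171 (iv F49956)) (tt N23944 F48697) (tt N25252 D25290))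
theorem Q24680 : ∀ i, i < 24680 → P i := stepQ 24679 Q24679 (allL N24679 (tt N23797 F48698) (tt N25252 (iv F50201)) (tt N23791 F48699) (tt N23793 F48700) (tt N24996 (iv F49548)) (tt N23790 (iv D24717)))
theorem Q24681 : ∀ i, i < 24681 → P i := stepQ 24680 Q24680 (allL N24680 (tt N23988 F48701) (tt N25253 D25291) (tt N23792 (iv D24718)) (tt N24985 (iv F49521)) (tt N23986 F48702) (tt N24977 (iv F49499)))
theorem Q24682 : ∀ i, i < 24682 → P i := stepQ 24681 Q24681 (allL N24681 (tt N24777 (iv F48974)) (tt N23793 (iv D24719)) (tt N25253 (iv F50204)) (tt N25252 (iv F50202)) (tt N24779 (iv F48980)) (tt N25171 (iv F49957)))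
theorem Q24683 : ∀ i, i < 24683 → P i := stepQ 24682 Q24682 (allL N24682 (tt N24778 (iv F48977)) (tt N23797 F48703) (tt N24072 F48706) (tt N23796 (iv D24720)) (tt N24195 F48704) (tt N23946 F48705))
theorem Q24684 : ∀ i, i < 24684 → P i := stepQ 24683 Q24683 (allL N24683 (tt N24996 (iv F49547)) (tt N24195 F48707) (tt N23947 F48708) (tt N24789 (iv F49007)) (tt N23797 (iv D24721)) (tt N23950 F48709))
theorem Q24685 : ∀ i, i < 24685 → P i := stepQ 24684 Q24684 (allL N24684 (tt N25011 (iv F49582)) (tt N25111 (iv F49817)) (tt N23800 (iv D24722)) (tt N25201 (iv F50043)) (tt N23827 F48710) (tt N25109 F49813))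
theorem Q24686 : ∀ i, i < 24686 → P i := stepQ 24685 Q24685 (allL N24685 (tt N23805 F48711) (tt N24946 (iv F49430)) (tt N23804 (iv D24723)) (tt N23810 F48712) (tt N24865 (iv F49218)) (tt N23809 F48713))
theorem Q24687 : ∀ i, i < 24687 → P i := stepQ 24686 Q24686 (allL N24686 (tt N23810 F48714) (tt N24947 (iv F49433)) (tt N23807 F48715) (tt N23805 (iv D24724)) (tt N25254 D25292) (tt N23806 F48716))
theorem Q24688 : ∀ i, i < 24688 → P i := stepQ 24687 Q24687 (allL N24687 (tt N23811 F48717) (tt N23888 F48718) (tt N25254 (iv F50207)) (tt N23925 F48719) (tt N23807 (iv D24725)) (tt N23811 F48720))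
theorem Q24689 : ∀ i, i < 24689 → P i := stepQ 24688 Q24688 (allL N24688 (tt N24966 (iv F49473)) (tt N23810 F48721) (tt N23893 F48722) (tt N24946 (iv F49432)) (tt N25255 D25293) (tt N23808 (iv D24726)))
theorem Q24690 : ∀ i, i < 24690 → P i := stepQ 24689 Q24689 (allL N24689 (tt N25254 (iv F50206)) (tt N25255 (iv F50209)) (tt N23811 F48723) (tt N25256 D25294) (tt N23810 (iv D24727)) (tt N25254 (iv F50208)))
theorem Q24691 : ∀ i, i < 24691 → P i := stepQ 24690 Q24690 (allL N24690 (tt N25192 (iv F50014)) (tt N23815 (iv D24728)) (tt N23924 F48724) (tt N25257 D25295) (tt N23817 F48725) (tt N24519 (iv F48726)))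
theorem Q24692 : ∀ i, i < 24692 → P i := stepQ 24691 Q24691 (allL N24691 (tt N23903 F48727) (tt N25257 (iv F50212)) (tt N23904 F48729) (tt N23815 (iv D24729)) (tt N23990 F48728) (tt N23907 (iv F48730)))
theorem Q24693 : ∀ i, i < 24693 → P i := stepQ 24692 Q24692 (allL N24692 (tt N23901 F48731) (tt N24519 F48732) (tt N23816 F48733) (tt N23907 F48734) (tt N23989 F48735) (tt N23815 (iv D24730)))
theorem Q24694 : ∀ i, i < 24694 → P i := stepQ 24693 Q24693 (allL N24693 (tt N23900 F48736) (tt N23925 F48737) (tt N23989 F48738) (tt N23888 F48739) (tt N23816 (iv D24731)) (tt N23818 F48740))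
theorem Q24695 : ∀ i, i < 24695 → P i := stepQ 24694 Q24694 (allL N24694 (tt N23820 (iv D24732)) (tt N24416 F48741) (tt N23978 F48742) (tt N24786 (iv F48997)) (tt N24417 F48743) (tt N24779 (iv F48981)))
theorem Q24696 : ∀ i, i < 24696 → P i := stepQ 24695 Q24695 (allL N24695 (tt N23934 F48744) (tt N25258 D25296) (tt N23821 (iv D24733)) (tt N23933 F48745) (tt N25259 D25297) (tt N24052 F48746))
theorem Q24697 : ∀ i, i < 24697 → P i := stepQ 24696 Q24696 (allL N24696 (tt N25075 (iv F49727)) (tt N25138 (iv F49866)) (tt N25259 (iv F50219)) (tt N24986 (iv F49525)) (tt N23821 (iv D24734)) (tt N24696 F48747))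
theorem Q24698 : ∀ i, i < 24698 → P i := stepQ 24697 Q24697 (allL N24697 (tt N23967 F48748) (tt N24613 F48749) (tt N25190 (iv F50006)) (tt N23825 F48750) (tt N23822 (iv D24735)) (tt N23964 F48751))
theorem Q24699 : ∀ i, i < 24699 → P i := stepQ 24698 Q24698 (allL N24698 (tt N23824 F48752) (tt N23834 F48753) (tt N25260 D25298) (tt N23823 (iv D24736)) (tt N24624 F48754) (tt N23826 F48755))
theorem Q24700 : ∀ i, i < 24700 → P i := stepQ 24699 Q24699 (allL N24699 (tt N25260 (iv F50221)) (tt N24979 (iv F49503)) (tt N23824 (iv D24737)) (tt N24839 (iv F49140)) (tt N24620 F48762) (tt N23827 F48756))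
theorem Q24701 : ∀ i, i < 24701 → P i := stepQ 24700 Q24700 (allL N24700 (tt N24624 F48757) (tt N23825 F48758) (tt N24620 (iv F48761)) (tt N24613 F48759) (tt N23824 (iv D24738)) (tt N24618 F48760))
theorem Q24702 : ∀ i, i < 24702 → P i := stepQ 24701 Q24701 (allL N24701 (tt N23827 F48763) (tt N25261 D25299) (tt N23826 (iv D24739)) (tt N24626 F48764) (tt N25011 (iv F49584)) (tt N25260 (iv F50224)))
theorem Q24703 : ∀ i, i < 24703 → P i := stepQ 24702 Q24702 (allL N24702 (tt N24839 (iv F49138)) (tt N25262 D25300) (tt N23829 (iv D24740)) (tt N25260 (iv F50222)) (tt N24607 F48765) (tt N24626 F48766))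
theorem Q24704 : ∀ i, i < 24704 → P i := stepQ 24703 Q24703 (allL N24703 (tt N23832 (iv D24741)) (tt N24758 (iv F48932)) (tt N23837 F48767) (tt N24840 (iv F49145)) (tt N24924 (iv F49365)) (tt N24758 (iv F48934)))
theorem Q24705 : ∀ i, i < 24705 → P i := stepQ 24704 Q24704 (allL N24704 (tt N25149 (iv F49895)) (tt N23833 (iv D24742)) (tt N25261 (iv F50225)) (tt N25169 (iv F49950)) (tt N23962 F48768) (tt N25263 D25301))
theorem Q24706 : ∀ i, i < 24706 → P i := stepQ 24705 Q24705 (allL N24705 (tt N24596 F48769) (tt N25263 (iv F50231)) (tt N23834 F48770) (tt N25167 (iv F49942)) (tt N24595 F48771) (tt N23833 (iv D24743)))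
theorem Q24707 : ∀ i, i < 24707 → P i := stepQ 24706 Q24706 (allL N24706 (tt N25165 (iv F49931)) (tt N23836 F48772) (tt N24855 (iv F49194)) (tt N23835 (iv D24744)) (tt N24854 F49191) (tt N25166 (iv F49940)))
theorem Q24708 : ∀ i, i < 24708 → P i := stepQ 24707 Q24707 (allL N24707 (tt N25167 (iv F49941)) (tt N24597 (iv F48775)) (tt N23836 (iv D24745)) (tt N24596 F48773) (tt N24207 F48774) (tt N24721 (iv F48829)))
theorem Q24709 : ∀ i, i < 24709 → P i := stepQ 24708 Q24708 (allL N24708 (tt N24100 F48776) (tt N25244 (iv F50171)) (tt N23838 (iv D24746)) (tt N25245 (iv F50178)) (tt N24023 F48777) (tt N24098 F48778))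
theorem Q24710 : ∀ i, i < 24710 → P i := stepQ 24709 Q24709 (allL N24709 (tt N24421 F48779) (tt N24635 F48780) (tt N23839 (iv D24747)) (tt N25173 (iv F49963)) (tt N23936 F48781) (tt N24464 F48782))
theorem Q24711 : ∀ i, i < 24711 → P i := stepQ 24710 Q24710 (allL N24710 (tt N25072 (iv F49717)) (tt N24600 F48783) (tt N25072 (iv F49718)) (tt N23845 F48784) (tt N23843 (iv D24748)) (tt N25264 D25302))
theorem Q24712 : ∀ i, i < 24712 → P i := stepQ 24711 Q24711 (allL N24711 (tt N24227 F48785) (tt N23845 F48786) (tt N24222 F48787) (tt N24600 F48788) (tt N23844 (iv D24749)) (tt N24221 F48789))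
theorem Q24713 : ∀ i, i < 24713 → P i := stepQ 24712 Q24712 (allL N24712 (tt N24633 F48790) (tt N24221 F48791) (tt N24903 (iv F49297)) (tt N25264 (iv F50236)) (tt N25243 (iv F50169)) (tt N23845 (iv D24750)))
theorem Q24714 : ∀ i, i < 24714 → P i := stepQ 24713 Q24713 (allL N24713 (tt N24028 F48792) (tt N23848 (iv D24751)) (tt N24481 F48793) (tt N25265 D25303) (tt N24010 F48794) (tt N24477 F48795))
theorem Q24715 : ∀ i, i < 24715 → P i := stepQ 24714 Q24714 (allL N24714 (tt N23849 F48796) (tt N25265 (iv F50238)) (tt N24057 F48797) (tt N23848 (iv D24752)) (tt N25231 (iv F50133)) (tt N24063 F48798))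
theorem Q24716 : ∀ i, i < 24716 → P i := stepQ 24715 Q24715 (allL N24715 (tt N24642 F48799) (tt N23852 F48800) (tt N24497 F48801) (tt N23851 F48802) (tt N24636 (iv F48803)) (tt N23850 (iv D24753)))
theorem Q24717 : ∀ i, i < 24717 → P i := stepQ 24716 Q24716 (allL N24716 (tt N23855 F48804) (tt N23878 F48805) (tt N23853 (iv D24754)) (tt N23898 F48808) (tt N24490 F48806) (tt N23897 F48807))
theorem Q24718 : ∀ i, i < 24718 → P i := stepQ 24717 Q24717 (allL N24717 (tt N24490 F48809) (tt N24974 (iv F49490)) (tt N23854 (iv D24755)) (tt N25266 D25304) (tt N23855 F48810) (tt N24484 F48811))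
theorem Q24719 : ∀ i, i < 24719 → P i := stepQ 24718 Q24718 (allL N24718 (tt N23898 F48812) (tt N24976 (iv F49495)) (tt N23909 F48813) (tt N23855 (iv D24756)) (tt N25267 D25305) (tt N23896 F48814))
theorem Q24720 : ∀ i, i < 24720 → P i := stepQ 24719 Q24719 (allL N24719 (tt N23880 F48815) (tt N23858 (iv D24757)) (tt N24010 F48816) (tt N23917 (iv F48819)) (tt N24481 F48817) (tt N23892 F48818))
theorem Q24721 : ∀ i, i < 24721 → P i := stepQ 24720 Q24720 (allL N24720 (tt N23859 F48820) (tt N23917 F48821) (tt N23896 F48822) (tt N23858 (iv D24758)) (tt N23896 F48823) (tt N23909 F48824))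
theorem Q24722 : ∀ i, i < 24722 → P i := stepQ 24721 Q24721 (allL N24721 (tt N24504 F48825) (tt N23861 F48826) (tt N24498 F48827) (tt N24649 F48828) (tt N23860 (iv D24759)) (tt N24707 F48829))
theorem Q24723 : ∀ i, i < 24723 → P i := stepQ 24722 Q24722 (allL N24722 (tt N24493 F48830) (tt N24000 F48831) (tt N23866 (iv D24760)) (tt N25248 (iv F50190)) (tt N24493 F48832) (tt N24005 F48833))
theorem Q24724 : ∀ i, i < 24724 → P i := stepQ 24723 Q24723 (allL N24723 (tt N23870 (iv D24761)) (tt N23999 F48834) (tt N24492 F48835) (tt N23998 F48836) (tt N24492 F48837) (tt N24001 F48838))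
theorem Q24725 : ∀ i, i < 24725 → P i := stepQ 24724 Q24724 (allL N24724 (tt N23872 F48839) (tt N24027 F48840) (tt N24006 F48842) (tt N23871 (iv D24762)) (tt N24928 (iv F49375)) (tt N24011 F48841))
theorem Q24726 : ∀ i, i < 24726 → P i := stepQ 24725 Q24725 (allL N24725 (tt N24006 F48843) (tt N24023 F48844) (tt N23872 (iv D24763)) (tt N24003 F48846) (tt N25244 (iv F50173)) (tt N24012 F48845))
theorem Q24727 : ∀ i, i < 24727 → P i := stepQ 24726 Q24726 (allL N24726 (tt N24176 F48847) (tt N23877 F48848) (tt N24047 F48849) (tt N24676 F48850) (tt N23912 F48851) (tt N23873 (iv D24764)))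
theorem Q24728 : ∀ i, i < 24728 → P i := stepQ 24727 Q24727 (allL N24727 (tt N24497 F48852) (tt N23879 F48853) (tt N24642 F48854) (tt N23875 F48855) (tt N24507 (iv F48856)) (tt N23874 (iv D24765)))
theorem Q24729 : ∀ i, i < 24729 → P i := stepQ 24728 Q24728 (allL N24728 (tt N23881 F48857) (tt N24490 F48858) (tt N23876 (iv D24766)) (tt N25268 D25306) (tt N23878 F48859) (tt N24487 (iv F48860)))
theorem Q24730 : ∀ i, i < 24730 → P i := stepQ 24729 Q24729 (allL N24729 (tt N23882 F48861) (tt N24676 F48862) (tt N24487 F48863) (tt N23877 F48864) (tt N24486 F48865) (tt N23876 (iv D24767)))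
theorem Q24731 : ∀ i, i < 24731 → P i := stepQ 24730 Q24730 (allL N24730 (tt N24974 (iv F49489)) (tt N23881 (iv D24768)) (tt N24503 F48866) (tt N25269 D25307) (tt N23883 F48867) (tt N25270 D25308))
theorem Q24732 : ∀ i, i < 24732 → P i := stepQ 24731 Q24731 (allL N24731 (tt N25268 (iv F50248)) (tt N25269 (iv F50253)) (tt N25271 D25309) (tt N23881 (iv D24769)) (tt N25272 D25310) (tt N25273 D25311))
theorem Q24733 : ∀ i, i < 24733 → P i := stepQ 24732 Q24732 (allL N24732 (tt N24487 F48868) (tt N25270 (iv F50255)) (tt N23882 F48869) (tt N25273 (iv F50269)) (tt N24485 F48870) (tt N23881 (iv D24770)))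
theorem Q24734 : ∀ i, i < 24734 → P i := stepQ 24733 Q24733 (allL N24733 (tt N24976 (iv F49494)) (tt N23884 F48871) (tt N24947 (iv F49434)) (tt N23883 (iv D24771)) (tt N25274 D25312) (tt N23887 (iv F48872)))
theorem Q24735 : ∀ i, i < 24735 → P i := stepQ 24734 Q24734 (allL N24734 (tt N24644 F48873) (tt N23885 F48874) (tt N24505 F48875) (tt N23887 F48876) (tt N24506 (iv F48877)) (tt N23883 (iv D24772)))
theorem Q24736 : ∀ i, i < 24736 → P i := stepQ 24735 Q24735 (allL N24735 (tt N23899 F48878) (tt N25274 (iv F50271)) (tt N23888 F48879) (tt N25272 (iv F50264)) (tt N23884 (iv D24773)) (tt N23894 F48880))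
theorem Q24737 : ∀ i, i < 24737 → P i := stepQ 24736 Q24736 (allL N24736 (tt N23887 (iv D24774)) (tt N23896 F48881) (tt N24936 (iv F49402)) (tt N24644 F48882) (tt N23917 F48883) (tt N24976 (iv F49496)))
theorem Q24738 : ∀ i, i < 24738 → P i := stepQ 24737 Q24737 (allL N24737 (tt N23904 F48884) (tt N24528 F48885) (tt N23903 F48886) (tt N23889 (iv D24775)) (tt N25273 (iv F50270)) (tt N23891 F48887))
theorem Q24739 : ∀ i, i < 24739 → P i := stepQ 24738 Q24738 (allL N24738 (tt N23890 (iv D24776)) (tt N23905 F48888) (tt N23921 F48889) (tt N25275 D25313) (tt N23892 F48890) (tt N23994 F48891))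
theorem Q24740 : ∀ i, i < 24740 → P i := stepQ 24739 Q24739 (allL N24739 (tt N25275 (iv F50273)) (tt N23891 F48892) (tt N25276 D25314) (tt N23890 (iv D24777)) (tt N25277 D25315) (tt N24528 F48893))
theorem Q24741 : ∀ i, i < 24741 → P i := stepQ 24740 Q24740 (allL N24740 (tt N23907 F48894) (tt N25278 D25316) (tt N23891 (iv D24778)) (tt N23901 F48895) (tt N25279 D25317) (tt N23903 F48896))
theorem Q24742 : ∀ i, i < 24742 → P i := stepQ 24741 Q24741 (allL N24741 (tt N23908 F48897) (tt N25277 (iv F50280)) (tt N25279 (iv F50285)) (tt N23894 F48898) (tt N23891 (iv D24779)) (tt N25272 F50265))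
theorem Q24743 : ∀ i, i < 24743 → P i := stepQ 24742 Q24742 (allL N24742 (tt N23893 F48899) (tt N23909 F48900) (tt N24966 (iv F49474)) (tt N23892 (iv D24780)) (tt N25280 D25318) (tt N23917 F48901))
theorem Q24744 : ∀ i, i < 24744 → P i := stepQ 24743 Q24743 (allL N24743 (tt N25280 (iv F50286)) (tt N23894 F48902) (tt N25255 (iv F50210)) (tt N25277 (iv F50281)) (tt N23893 (iv D24781)) (tt N25274 (iv F50272)))
theorem Q24745 : ∀ i, i < 24745 → P i := stepQ 24744 Q24744 (allL N24744 (tt N25267 (iv F50245)) (tt N23899 F48903) (tt N23910 F48904) (tt N25281 D25319) (tt N23898 (iv D24782)) (tt N23910 F48905))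
theorem Q24746 : ∀ i, i < 24746 → P i := stepQ 24745 Q24745 (allL N24745 (tt N25272 (iv F50263)) (tt N25281 (iv F50288)) (tt N25282 D25320) (tt N23899 (iv D24783)) (tt N25268 (iv F50250)) (tt N23908 F48906))
theorem Q24747 : ∀ i, i < 24747 → P i := stepQ 24746 Q24746 (allL N24746 (tt N23989 F48907) (tt N25283 D25321) (tt N23900 (iv D24784)) (tt N25284 D25322) (tt N23901 F48908) (tt N23920 F48909))
theorem Q24748 : ∀ i, i < 24748 → P i := stepQ 24747 Q24747 (allL N24747 (tt N25285 D25323) (tt N23901 (iv D24785)) (tt N23919 F48910) (tt N25278 (iv F50282)) (tt N25283 (iv F50295)) (tt N23902 F48911))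
theorem Q24749 : ∀ i, i < 24749 → P i := stepQ 24748 Q24748 (allL N24748 (tt N23902 (iv D24786)) (tt N25192 (iv F50015)) (tt N23918 F48912) (tt N25286 D25324) (tt N23918 F48913) (tt N25285 (iv F50301)))
theorem Q24750 : ∀ i, i < 24750 → P i := stepQ 24749 Q24749 (allL N24749 (tt N25286 (iv F50302)) (tt N23903 F48914) (tt N25287 D25325) (tt N23902 (iv D24787)) (tt N25288 D25326) (tt N25278 (iv F50283)))
theorem Q24751 : ∀ i, i < 24751 → P i := stepQ 24750 Q24750 (allL N24750 (tt N23990 F48915) (tt N25288 (iv F50305)) (tt N25273 (iv F50268)) (tt N23915 F48916) (tt N23903 (iv D24788)) (tt N25271 F50262))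
theorem Q24752 : ∀ i, i < 24752 → P i := stepQ 24751 Q24751 (allL N24751 (tt N25273 (iv F50266)) (tt N23997 F48917) (tt N23990 F48918) (tt N24487 F48919) (tt N23904 (iv D24789)) (tt N25268 (iv F50251)))
theorem Q24753 : ∀ i, i < 24753 → P i := stepQ 24752 Q24752 (allL N24752 (tt N23906 F48920) (tt N25275 (iv F50274)) (tt N23992 F48921) (tt N23905 (iv D24790)) (tt N25289 D25327) (tt N23995 F48922))
theorem Q24754 : ∀ i, i < 24754 → P i := stepQ 24753 Q24753 (allL N24753 (tt N23992 F48923) (tt N25091 (iv F49769)) (tt N23906 (iv D24791)) (tt N23991 F48925) (tt N25290 D25328) (tt N23996 F48924))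
theorem Q24755 : ∀ i, i < 24755 → P i := stepQ 24754 Q24754 (allL N24754 (tt N25289 (iv F50307)) (tt N23908 F48926) (tt N25290 (iv F50312)) (tt N23910 F48927) (tt N23906 (iv D24792)) (tt N25281 (iv F50290)))
theorem Q24756 : ∀ i, i < 24756 → P i := stepQ 24755 Q24755 (allL N24755 (tt N25093 (iv F49776)) (tt N23907 (iv D24793)) (tt N25091 (iv F49772)) (tt N24519 F48928) (tt N25291 D25329) (tt N25257 (iv F50215)))
theorem Q24757 : ∀ i, i < 24757 → P i := stepQ 24756 Q24756 (allL N24756 (tt N25279 (iv F50284)) (tt N25291 (iv F50314)) (tt N23908 F48929) (tt N25292 D25330) (tt N23907 (iv D24794)) (tt N25282 (iv F50292)))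
theorem Q24758 : ∀ i, i < 24758 → P i := stepQ 24757 Q24757 (allL N24757 (tt N23910 F48930) (tt N25280 (iv F50287)) (tt N25267 (iv F50246)) (tt N25289 (iv F50309)) (tt N23909 (iv D24795)) (tt N25267 (iv F50247)))
theorem Q24759 : ∀ i, i < 24759 → P i := stepQ 24758 Q24758 (allL N24758 (tt N24495 F48931) (tt N24703 F48932) (tt N23911 (iv D24796)) (tt N24238 F48935) (tt N24240 F48933) (tt N24703 F48934))
theorem Q24760 : ∀ i, i < 24760 → P i := stepQ 24759 Q24759 (allL N24759 (tt N23984 F48936) (tt N25293 D25331) (tt N23914 (iv D24797)) (tt N25271 (iv F50261)) (tt N23977 F48937) (tt N23915 F48938))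
theorem Q24761 : ∀ i, i < 24761 → P i := stepQ 24760 Q24760 (allL N24760 (tt N25253 (iv F50203)) (tt N23915 (iv D24798)) (tt N24777 (iv F48975)) (tt N25288 (iv F50306)) (tt N23916 F48939) (tt N25293 (iv F50321)))
theorem Q24762 : ∀ i, i < 24762 → P i := stepQ 24761 Q24761 (allL N24761 (tt N23916 (iv D24799)) (tt N23986 F48940) (tt N24779 (iv F48979)) (tt N23918 F48941) (tt N25253 (iv F50205)) (tt N23978 F48942))
theorem Q24763 : ∀ i, i < 24763 → P i := stepQ 24762 Q24762 (allL N24762 (tt N23919 F48943) (tt N23985 F48944) (tt N25285 (iv F50300)) (tt N23978 F48945) (tt N25294 D25332) (tt N23918 (iv D24800)))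
theorem Q24764 : ∀ i, i < 24764 → P i := stepQ 24763 Q24763 (allL N24763 (tt N25294 (iv F50322)) (tt N23920 F48946) (tt N25283 (iv F50294)) (tt N25295 D25333) (tt N23919 (iv D24801)) (tt N25283 (iv F50296)))
theorem Q24765 : ∀ i, i < 24765 → P i := stepQ 24764 Q24764 (allL N24764 (tt N23983 F48947) (tt N25295 (iv F50324)) (tt N25296 D25334) (tt N23920 (iv D24802)) (tt N23976 F48948) (tt N25284 (iv F50298)))
theorem Q24766 : ∀ i, i < 24766 → P i := stepQ 24765 Q24765 (allL N24765 (tt N25203 (iv F50049)) (tt N23927 F48949) (tt N23987 F48950) (tt N25185 (iv F49990)) (tt N23926 (iv D24803)) (tt N24520 F48951))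
theorem Q24767 : ∀ i, i < 24767 → P i := stepQ 24766 Q24766 (allL N24766 (tt N24517 F48952) (tt N25185 (iv F49988)) (tt N24881 (iv F49246)) (tt N23927 (iv D24804)) (tt N24515 F48953) (tt N24517 F48954))
theorem Q24768 : ∀ i, i < 24768 → P i := stepQ 24767 Q24767 (allL N24767 (tt N24005 F48955) (tt N24026 F48956) (tt N23928 (iv D24805)) (tt N24103 F48959) (tt N24531 F48957) (tt N24493 F48958))
theorem Q24769 : ∀ i, i < 24769 → P i := stepQ 24768 Q24768 (allL N24768 (tt N23929 (iv D24806)) (tt N24025 F48960) (tt N24001 F48961) (tt N24024 F48962) (tt N24219 (iv F48964)) (tt N24492 F48963))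
theorem Q24770 : ∀ i, i < 24770 → P i := stepQ 24769 Q24769 (allL N24769 (tt N24219 F48965) (tt N23930 F48966) (tt N24002 F48967) (tt N24128 F48968) (tt N23929 (iv D24807)) (tt N24002 F48969))
theorem Q24771 : ∀ i, i < 24771 → P i := stepQ 24770 Q24770 (allL N24770 (tt N25157 (iv F49911)) (tt N23933 (iv D24808)) (tt N25038 (iv F49646)) (tt N25258 (iv F50216)) (tt N25157 (iv F49913)) (tt N25055 (iv F49685)))
theorem Q24772 : ∀ i, i < 24772 → P i := stepQ 24771 Q24771 (allL N24771 (tt N25259 (iv F50218)) (tt N25160 (iv F49915)) (tt N25075 (iv F49728)) (tt N25160 (iv F49916)) (tt N23934 (iv D24809)) (tt N24771 F48970))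
theorem Q24773 : ∀ i, i < 24773 → P i := stepQ 24772 Q24772 (allL N24772 (tt N23936 F48971) (tt N25233 (iv F50140)) (tt N23935 (iv D24810)) (tt N25062 (iv F49701)) (tt N24421 F48972) (tt N25218 (iv F50093)))
theorem Q24774 : ∀ i, i < 24774 → P i := stepQ 24773 Q24773 (allL N24773 (tt N25062 (iv F49698)) (tt N25216 (iv F50085)) (tt N25061 (iv F49697)) (tt N23936 (iv D24811)) (tt N25297 D25335) (tt N25219 (iv F50096)))
theorem Q24775 : ∀ i, i < 24775 → P i := stepQ 24774 Q24774 (allL N24774 (tt N25038 (iv F49645)) (tt N23937 (iv D24812)) (tt N25157 (iv F49912)) (tt N25050 (iv F49675)) (tt N25038 (iv F49648)) (tt N25059 (iv F49693)))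
theorem Q24776 : ∀ i, i < 24776 → P i := stepQ 24775 Q24775 (allL N24775 (tt N23938 F48973) (tt N25050 (iv F49674)) (tt N25219 (iv F50095)) (tt N23937 (iv D24813)) (tt N25048 (iv F49672)) (tt N25061 (iv F49696)))
theorem Q24777 : ∀ i, i < 24777 → P i := stepQ 24776 Q24776 (allL N24776 (tt N25048 (iv F49671)) (tt N25039 (iv F49651)) (tt N25220 (iv F50097)) (tt N25039 (iv F49653)) (tt N23938 (iv D24814)) (tt N25298 D25336))
theorem Q24778 : ∀ i, i < 24778 → P i := stepQ 24777 Q24777 (allL N24777 (tt N24681 F48974) (tt N23939 (iv D24815)) (tt N24760 F48975) (tt N25299 D25337) (tt N23940 F48976) (tt N25172 (iv F49960)))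
theorem Q24779 : ∀ i, i < 24779 → P i := stepQ 24778 Q24778 (allL N24778 (tt N24682 F48977) (tt N25299 (iv F50330)) (tt N24856 (iv F49199)) (tt N23939 (iv D24816)) (tt N24933 (iv F49391)) (tt N24787 (iv F49001)))
theorem Q24780 : ∀ i, i < 24780 → P i := stepQ 24779 Q24779 (allL N24779 (tt N23940 (iv D24817)) (tt N24659 F48978) (tt N24761 F48979) (tt N25300 D25338) (tt N24681 F48980) (tt N24694 F48981))
theorem Q24781 : ∀ i, i < 24781 → P i := stepQ 24780 Q24780 (allL N24780 (tt N25300 (iv F50332)) (tt N23941 F48982) (tt N25301 D25339) (tt N23940 (iv D24818)) (tt N25302 D25340) (tt N23944 F48983))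
theorem Q24782 : ∀ i, i < 24782 → P i := stepQ 24781 Q24781 (allL N24781 (tt N23950 F48984) (tt N25302 (iv F50338)) (tt N23945 F48985) (tt N24933 (iv F49390)) (tt N23941 (iv D24819)) (tt N24996 (iv F49549)))
theorem Q24783 : ∀ i, i < 24783 → P i := stepQ 24782 Q24782 (allL N24782 (tt N25303 D25341) (tt N23942 (iv D24820)) (tt N23944 F48986) (tt N25304 D25342) (tt N25114 (iv F49826)) (tt N25301 (iv F50336)))
theorem Q24784 : ∀ i, i < 24784 → P i := stepQ 24783 Q24783 (allL N24783 (tt N24411 F48987) (tt N25304 (iv F50343)) (tt N24406 F48988) (tt N23942 (iv D24821)) (tt N25305 D25343) (tt N24405 (iv F48989)))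
theorem Q24785 : ∀ i, i < 24785 → P i := stepQ 24784 Q24784 (allL N24784 (tt N24412 F48990) (tt N25301 (iv F50335)) (tt N23943 F48991) (tt N24405 F48992) (tt N25306 D25344) (tt N23942 (iv D24822)))
theorem Q24786 : ∀ i, i < 24786 → P i := stepQ 24785 Q24785 (allL N24785 (tt N24297 F48993) (tt N23945 F48994) (tt N25306 (iv F50350)) (tt N24296 F48995) (tt N23943 (iv D24823)) (tt N24995 (iv F49546)))
theorem Q24787 : ∀ i, i < 24787 → P i := stepQ 24786 Q24786 (allL N24786 (tt N23944 (iv D24824)) (tt N23948 F48996) (tt N25303 (iv F50340)) (tt N24694 F48997) (tt N25251 (iv F50200)) (tt N25300 (iv F50334)))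
theorem Q24788 : ∀ i, i < 24788 → P i := stepQ 24787 Q24787 (allL N24787 (tt N23946 (iv D24825)) (tt N25251 (iv F50198)) (tt N24639 F48998) (tt N24514 F48999) (tt N23948 F49000) (tt N24778 F49001))
theorem Q24789 : ∀ i, i < 24789 → P i := stepQ 24788 Q24788 (allL N24788 (tt N23949 F49002) (tt N25300 (iv F50333)) (tt N24650 F49003) (tt N24659 F49004) (tt N25307 D25345) (tt N23948 (iv D24826)))
theorem Q24790 : ∀ i, i < 24790 → P i := stepQ 24789 Q24789 (allL N24789 (tt N25307 (iv F50351)) (tt N23950 F49005) (tt N24196 F49006) (tt N24683 F49007) (tt N23949 (iv D24827)) (tt N24195 F49008))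
theorem Q24791 : ∀ i, i < 24791 → P i := stepQ 24790 Q24790 (allL N24790 (tt N23954 F49009) (tt N25308 D25346) (tt N23953 (iv D24828)) (tt N25104 (iv F49797)) (tt N25309 D25347) (tt N25104 (iv F49798)))
theorem Q24792 : ∀ i, i < 24792 → P i := stepQ 24791 Q24791 (allL N24791 (tt N23955 F49010) (tt N25099 (iv F49785)) (tt N25309 (iv F50357)) (tt N23958 F49011) (tt N23953 (iv D24829)) (tt N24182 (iv F49012)))
theorem Q24793 : ∀ i, i < 24793 → P i := stepQ 24792 Q24792 (allL N24792 (tt N25104 (iv F49796)) (tt N23954 (iv D24830)) (tt N23956 F49013) (tt N23954 (iv F49015)) (tt N25310 D25348) (tt N23954 (iv F49014)))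
theorem Q24794 : ∀ i, i < 24794 → P i := stepQ 24793 Q24793 (allL N24793 (tt N25309 (iv F50356)) (tt N25310 (iv F50359)) (tt N23955 F49016) (tt N25311 D25349) (tt N23954 (iv D24831)) (tt N24895 (iv F49281)))
theorem Q24795 : ∀ i, i < 24795 → P i := stepQ 24794 Q24794 (allL N24794 (tt N25105 (iv F49799)) (tt N23957 F49017) (tt N25310 (iv F50360)) (tt N24550 F49018) (tt N23956 (iv D24832)) (tt N24894 (iv F49280)))
theorem Q24796 : ∀ i, i < 24796 → P i := stepQ 24795 Q24795 (allL N24795 (tt N25109 (iv F49811)) (tt N24204 F49019) (tt N23959 (iv D24833)) (tt N25312 D25350) (tt N24623 F49020) (tt N25011 (iv F49585)))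
theorem Q24797 : ∀ i, i < 24797 → P i := stepQ 24796 Q24796 (allL N24796 (tt N24885 (iv F49256)) (tt N25011 (iv F49583)) (tt N23962 (iv D24834)) (tt N24882 (iv F49249)) (tt N25261 (iv F50227)) (tt N24204 F49021))
theorem Q24798 : ∀ i, i < 24798 → P i := stepQ 24797 Q24797 (allL N24797 (tt N25191 (iv F50009)) (tt N25198 (iv F50034)) (tt N24538 F49023) (tt N23966 (iv D24835)) (tt N24538 F49022) (tt N24537 F49024))
theorem Q24799 : ∀ i, i < 24799 → P i := stepQ 24798 Q24798 (allL N24798 (tt N25190 (iv F50004)) (tt N24546 F49025) (tt N23967 F49026) (tt N24537 F49027) (tt N23968 F49028) (tt N23966 (iv D24836)))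
theorem Q24800 : ∀ i, i < 24800 → P i := stepQ 24799 Q24799 (allL N24799 (tt N23974 F49029) (tt N24643 F49030) (tt N23973 F49031) (tt N24175 F49032) (tt N23969 (iv D24837)) (tt N24677 F49033))
theorem Q24801 : ∀ i, i < 24801 → P i := stepQ 24800 Q24800 (allL N24800 (tt N23975 (iv D24838)) (tt N23979 F49034) (tt N24417 F49035) (tt N25313 D25351) (tt N23978 F49036) (tt N25170 (iv F49954)))
theorem Q24802 : ∀ i, i < 24802 → P i := stepQ 24801 Q24801 (allL N24801 (tt N25313 (iv F50367)) (tt N23976 F49037) (tt N25314 D25352) (tt N23975 (iv D24839)) (tt N25295 (iv F50325)) (tt N25315 D25353))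
theorem Q24803 : ∀ i, i < 24803 → P i := stepQ 24802 Q24802 (allL N24802 (tt N25170 (iv F49952)) (tt N23977 F49038) (tt N24512 F49039) (tt N25315 (iv F50371)) (tt N25293 (iv F50320)) (tt N23975 (iv D24840)))
theorem Q24804 : ∀ i, i < 24804 → P i := stepQ 24803 Q24803 (allL N24803 (tt N23982 F49040) (tt N25315 (iv F50370)) (tt N23976 (iv D24841)) (tt N23977 F49041) (tt N25296 (iv F50327)) (tt N23976 (iv F49042)))
theorem Q24805 : ∀ i, i < 24805 → P i := stepQ 24804 Q24804 (allL N24804 (tt N23980 F49043) (tt N25313 (iv F50368)) (tt N25316 D25354) (tt N23979 (iv D24842)) (tt N25317 D25355) (tt N25318 D25356))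
theorem Q24806 : ∀ i, i < 24806 → P i := stepQ 24805 Q24805 (allL N24805 (tt N23981 F49044) (tt N25170 (iv F49953)) (tt N24358 F49045) (tt N25318 (iv F50379)) (tt N24977 (iv F49498)) (tt N23979 (iv D24843)))
theorem Q24807 : ∀ i, i < 24807 → P i := stepQ 24806 Q24806 (allL N24806 (tt N25316 (iv F50372)) (tt N24360 (iv F49047)) (tt N23980 (iv D24844)) (tt N24359 F49046) (tt N25319 D25357) (tt N24360 (iv F49048)))
theorem Q24808 : ∀ i, i < 24808 → P i := stepQ 24807 Q24807 (allL N24807 (tt N25317 (iv F50375)) (tt N23983 F49049) (tt N25319 (iv F50381)) (tt N23987 F49050) (tt N23980 (iv D24845)) (tt N25320 D25358))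
theorem Q24809 : ∀ i, i < 24809 → P i := stepQ 24808 Q24808 (allL N24808 (tt N25318 (iv F50377)) (tt N23982 F49051) (tt N24360 F49052) (tt N23981 F49053) (tt N25321 D25359) (tt N23980 (iv D24846)))
theorem Q24810 : ∀ i, i < 24810 → P i := stepQ 24809 Q24809 (allL N24809 (tt N25296 (iv F50326)) (tt N25321 (iv F50385)) (tt N23983 F49054) (tt N25282 (iv F50293)) (tt N23982 (iv D24847)) (tt N25292 (iv F50317)))
theorem Q24811 : ∀ i, i < 24811 → P i := stepQ 24810 Q24810 (allL N24810 (tt N25284 (iv F50297)) (tt N25320 (iv F50383)) (tt N25292 (iv F50318)) (tt N23989 F49055) (tt N25292 (iv F50316)) (tt N23983 (iv D24848)))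
theorem Q24812 : ∀ i, i < 24812 → P i := stepQ 24811 Q24811 (allL N24811 (tt N25271 (iv F50260)) (tt N24978 (iv F49500)) (tt N25268 (iv F50252)) (tt N23984 (iv D24849)) (tt N25282 (iv F50291)) (tt N23990 F49056))
theorem Q24813 : ∀ i, i < 24813 → P i := stepQ 24812 Q24812 (allL N24812 (tt N23987 F49057) (tt N25294 (iv F50323)) (tt N25203 (iv F50051)) (tt N25317 (iv F50376)) (tt N23985 (iv D24850)) (tt N25322 D25360))
theorem Q24814 : ∀ i, i < 24814 → P i := stepQ 24813 Q24813 (allL N24813 (tt N25322 (iv F50387)) (tt N23989 F49058) (tt N24520 F49059) (tt N25320 (iv F50384)) (tt N24519 F49060) (tt N23987 (iv D24851)))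
theorem Q24815 : ∀ i, i < 24815 → P i := stepQ 24814 Q24814 (allL N24814 (tt N24985 (iv F49520)) (tt N23990 F49061) (tt N24980 (iv F49509)) (tt N23988 (iv D24852)) (tt N25257 (iv F50214)) (tt N24978 (iv F49501)))
theorem Q24816 : ∀ i, i < 24816 → P i := stepQ 24815 Q24815 (allL N24815 (tt N25290 (iv F50310)) (tt N25087 (iv F49756)) (tt N25289 (iv F50308)) (tt N25086 (iv F49754)) (tt N23992 (iv D24853)) (tt N25323 D25361))
theorem Q24817 : ∀ i, i < 24817 → P i := stepQ 24816 Q24816 (allL N24816 (tt N23996 F49062) (tt N25090 (iv F49765)) (tt N23995 F49063) (tt N23993 F49064) (tt N24675 (iv F49065)) (tt N23992 (iv D24854)))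
theorem Q24818 : ∀ i, i < 24818 → P i := stepQ 24817 Q24817 (allL N24817 (tt N24528 F49066) (tt N23995 F49067) (tt N25102 (iv F49795)) (tt N23994 (iv D24855)) (tt N25324 D25362) (tt N25275 (iv F50276)))
theorem Q24819 : ∀ i, i < 24819 → P i := stepQ 24818 Q24818 (allL N24818 (tt N23997 F49068) (tt N25324 (iv F50392)) (tt N24675 F49069) (tt N24484 F49070) (tt N23995 (iv D24856)) (tt N25266 (iv F50244)))
theorem Q24820 : ∀ i, i < 24820 → P i := stepQ 24819 Q24819 (allL N24819 (tt N24532 (iv F49072)) (tt N23996 (iv D24857)) (tt N25257 (iv F50213)) (tt N24491 F49071) (tt N24980 (iv F49508)) (tt N25091 (iv F49771)))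
theorem Q24821 : ∀ i, i < 24821 → P i := stepQ 24820 Q24820 (allL N24820 (tt N24675 F49073) (tt N24980 (iv F49507)) (tt N23997 F49074) (tt N24641 F49075) (tt N23996 (iv D24858)) (tt N25325 D25363))
theorem Q24822 : ∀ i, i < 24822 → P i := stepQ 24821 Q24821 (allL N24821 (tt N25266 (iv F50242)) (tt N25268 (iv F50249)) (tt N25325 (iv F50395)) (tt N24490 F49076) (tt N25281 (iv F50289)) (tt N23997 (iv D24859)))
theorem Q24823 : ∀ i, i < 24823 → P i := stepQ 24822 Q24822 (allL N24822 (tt N24000 F49077) (tt N24022 F49078) (tt N23999 (iv D24860)) (tt N24012 F49079) (tt N24022 F49080) (tt N24003 F49081))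
theorem Q24824 : ∀ i, i < 24824 → P i := stepQ 24823 Q24823 (allL N24823 (tt N24012 F49082) (tt N25248 (iv F50188)) (tt N24011 F49083) (tt N24000 (iv D24861)) (tt N25247 (iv F50186)) (tt N24006 F49084))
theorem Q24825 : ∀ i, i < 24825 → P i := stepQ 24824 Q24824 (allL N24824 (tt N24026 F49085) (tt N24003 (iv D24862)) (tt N24025 F49086) (tt N24023 F49087) (tt N25326 D25364) (tt N24022 F49088))
theorem Q24826 : ∀ i, i < 24826 → P i := stepQ 24825 Q24825 (allL N24825 (tt N24007 F49089) (tt N25326 (iv F50398)) (tt N24004 F49090) (tt N24922 (iv F49354)) (tt N24003 (iv D24863)) (tt N25326 (iv F50400)))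
theorem Q24827 : ∀ i, i < 24827 → P i := stepQ 24826 Q24826 (allL N24826 (tt N24008 F49091) (tt N24219 F49092) (tt N25326 (iv F50399)) (tt N24062 F49093) (tt N24025 F49094) (tt N24004 (iv D24864)))
theorem Q24828 : ∀ i, i < 24828 → P i := stepQ 24827 Q24827 (allL N24827 (tt N25326 (iv F50397)) (tt N24531 F49095) (tt N24008 F49096) (tt N24920 (iv F49346)) (tt N24026 F49097) (tt N24007 (iv D24865)))
theorem Q24829 : ∀ i, i < 24829 → P i := stepQ 24828 Q24828 (allL N24828 (tt N24014 F49098) (tt N24011 F49099) (tt N24929 (iv F49379)) (tt N24010 (iv D24866)) (tt N24310 (iv F49101)) (tt N24027 F49100))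
theorem Q24830 : ∀ i, i < 24830 → P i := stepQ 24829 Q24829 (allL N24829 (tt N24013 F49102) (tt N24310 F49103) (tt N25247 (iv F50184)) (tt N25231 (iv F50132)) (tt N24011 (iv D24867)) (tt N25230 (iv F50128)))
theorem Q24831 : ∀ i, i < 24831 → P i := stepQ 24830 Q24830 (allL N24830 (tt N25247 (iv F50183)) (tt N24020 F49104) (tt N24013 F49105) (tt N24020 F49106) (tt N24012 (iv D24868)) (tt N25232 (iv F50137)))
theorem Q24832 : ∀ i, i < 24832 → P i := stepQ 24831 Q24831 (allL N24831 (tt N24020 F49107) (tt N25327 D25365) (tt N24015 (iv D24869)) (tt N25247 (iv F50185)) (tt N24016 F49108) (tt N24082 F49109))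
theorem Q24833 : ∀ i, i < 24833 → P i := stepQ 24832 Q24832 (allL N24832 (tt N25248 (iv F50187)) (tt N24016 (iv D24870)) (tt N24104 F49110) (tt N24493 F49111) (tt N25327 (iv F50402)) (tt N24103 (iv F49112)))
theorem Q24834 : ∀ i, i < 24834 → P i := stepQ 24833 Q24833 (allL N24833 (tt N24023 F49113) (tt N24103 F49114) (tt N24017 F49115) (tt N24026 F49116) (tt N24100 F49117) (tt N24016 (iv D24871)))
theorem Q24835 : ∀ i, i < 24835 → P i := stepQ 24834 Q24834 (allL N24834 (tt N24076 F49118) (tt N24303 F49119) (tt N25231 (iv F50131)) (tt N24019 F49120) (tt N24057 F49121) (tt N24018 (iv D24872)))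
theorem Q24836 : ∀ i, i < 24836 → P i := stepQ 24835 Q24835 (allL N24835 (tt N24082 F49122) (tt N25232 (iv F50135)) (tt N24021 F49123) (tt N25232 (iv F50138)) (tt N24098 F49124) (tt N24020 (iv D24873)))
theorem Q24837 : ∀ i, i < 24837 → P i := stepQ 24836 Q24836 (allL N24836 (tt N25265 (iv F50237)) (tt N24029 F49125) (tt N25328 D25366) (tt N24028 (iv D24874)) (tt N24311 F49126) (tt N24526 F49127))
theorem Q24838 : ∀ i, i < 24838 → P i := stepQ 24837 Q24837 (allL N24837 (tt N24239 F49128) (tt N24030 (iv D24875)) (tt N24038 F49129) (tt N24033 F49130) (tt N24038 F49131) (tt N24032 F49132))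
theorem Q24839 : ∀ i, i < 24839 → P i := stepQ 24838 Q24838 (allL N24838 (tt N24238 F49133) (tt N24036 F49134) (tt N24032 (iv D24876)) (tt N24495 F49137) (tt N24035 F49135) (tt N24038 F49136))
theorem Q24840 : ∀ i, i < 24840 → P i := stepQ 24839 Q24839 (allL N24839 (tt N24702 F49138) (tt N24655 F49139) (tt N24037 (iv D24877)) (tt N24699 F49140) (tt N24309 F49141) (tt N24653 F49142))
theorem Q24841 : ∀ i, i < 24841 → P i := stepQ 24840 Q24840 (allL N24840 (tt N24038 (iv D24878)) (tt N24238 F49143) (tt N24239 F49144) (tt N24703 F49145) (tt N24239 F49146) (tt N24238 F49147))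
theorem Q24842 : ∀ i, i < 24842 → P i := stepQ 24841 Q24841 (allL N24841 (tt N25329 D25367) (tt N24042 (iv D24879)) (tt N24044 F49148) (tt N25208 (iv F50064)) (tt N24410 F49149) (tt N24169 (iv F49150)))
theorem Q24843 : ∀ i, i < 24843 → P i := stepQ 24842 Q24842 (allL N24842 (tt N25113 (iv F49823)) (tt N24169 F49151) (tt N24043 F49152) (tt N25116 (iv F49829)) (tt N25330 D25368) (tt N24042 (iv D24880)))
theorem Q24844 : ∀ i, i < 24844 → P i := stepQ 24843 Q24843 (allL N24843 (tt N24995 (iv F49543)) (tt N24045 F49153) (tt N25330 (iv F50414)) (tt N24298 F49154) (tt N24043 (iv D24881)) (tt N24297 F49155))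
theorem Q24845 : ∀ i, i < 24845 → P i := stepQ 24844 Q24844 (allL N24844 (tt N24044 (iv D24882)) (tt N24639 F49156) (tt N25329 (iv F50409)) (tt N24165 F49157) (tt N24426 F49158) (tt N24164 F49159))
theorem Q24846 : ∀ i, i < 24846 → P i := stepQ 24845 Q24845 (allL N24845 (tt N24048 (iv D24883)) (tt N24050 F49160) (tt N24275 F49161) (tt N25331 D25369) (tt N24274 F49162) (tt N24554 F49163))
theorem Q24847 : ∀ i, i < 24847 → P i := stepQ 24846 Q24846 (allL N24846 (tt N25331 (iv F50416)) (tt N24049 F49164) (tt N25332 D25370) (tt N24048 (iv D24884)) (tt N24846 F49165) (tt N24556 F49166))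
theorem Q24848 : ∀ i, i < 24848 → P i := stepQ 24847 Q24847 (allL N24847 (tt N24051 F49167) (tt N25331 (iv F50417)) (tt N25130 (iv F49855)) (tt N24050 (iv D24885)) (tt N24847 F49168) (tt N25136 (iv F49864)))
theorem Q24849 : ∀ i, i < 24849 → P i := stepQ 24848 Q24848 (allL N24848 (tt N25130 (iv F49854)) (tt N25333 D25371) (tt N24051 (iv D24886)) (tt N25128 (iv F49852)) (tt N24848 F49169) (tt N25137 (iv F49865)))
theorem Q24850 : ∀ i, i < 24850 → P i := stepQ 24849 Q24849 (allL N24849 (tt N25334 D25372) (tt N24052 (iv D24887)) (tt N25333 (iv F50422)) (tt N25055 (iv F49683)) (tt N24849 F49170) (tt N25258 (iv F50217)))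
theorem Q24851 : ∀ i, i < 24851 → P i := stepQ 24850 Q24850 (allL N24850 (tt N24547 F49171) (tt N24544 F49172) (tt N24557 F49173) (tt N24054 F49174) (tt N24564 F49175) (tt N24053 (iv D24888)))
theorem Q24852 : ∀ i, i < 24852 → P i := stepQ 24851 Q24851 (allL N24851 (tt N24549 F49176) (tt N24559 F49177) (tt N24056 F49178) (tt N24559 F49179) (tt N24549 F49180) (tt N24055 (iv D24889)))
theorem Q24853 : ∀ i, i < 24853 → P i := stepQ 24852 Q24852 (allL N24852 (tt N24226 F49181) (tt N25243 (iv F50167)) (tt N24058 (iv D24890)) (tt N25335 D25373) (tt N24221 F49182) (tt N24269 F49183))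
theorem Q24854 : ∀ i, i < 24854 → P i := stepQ 24853 Q24853 (allL N24853 (tt N24526 F49184) (tt N24063 (iv D24891)) (tt N25236 (iv F50151)) (tt N24477 F49185) (tt N24478 F49186) (tt N25265 (iv F50240)))
theorem Q24855 : ∀ i, i < 24855 → P i := stepQ 24854 Q24854 (allL N24854 (tt N24676 F49187) (tt N24315 F49188) (tt N24068 F49189) (tt N24176 F49190) (tt N24706 (iv F49191)) (tt N24067 (iv D24892)))
theorem Q24856 : ∀ i, i < 24856 → P i := stepQ 24855 Q24855 (allL N24855 (tt N24488 F49192) (tt N24069 F49193) (tt N24706 F49194) (tt N24181 F49195) (tt N24068 (iv D24893)) (tt N24636 F49196))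
theorem Q24857 : ∀ i, i < 24857 → P i := stepQ 24856 Q24856 (allL N24856 (tt N24072 F49197) (tt N24164 F49198) (tt N24778 F49199) (tt N24071 (iv D24894)) (tt N24193 F49200) (tt N24639 F49201))
theorem Q24858 : ∀ i, i < 24858 → P i := stepQ 24857 Q24857 (allL N24857 (tt N25019 (iv F49595)) (tt N24075 F49202) (tt N25336 D25374) (tt N24074 (iv D24895)) (tt N24092 F49203) (tt N24144 F49204))
theorem Q24859 : ∀ i, i < 24859 → P i := stepQ 24858 Q24858 (allL N24858 (tt N25337 D25375) (tt N24077 (iv D24896)) (tt N25327 (iv F50401)) (tt N24973 (iv F49487)) (tt N24104 F49205) (tt N24083 F49206))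
theorem Q24860 : ∀ i, i < 24860 → P i := stepQ 24859 Q24859 (allL N24859 (tt N24904 (iv F49301)) (tt N24079 F49207) (tt N25124 (iv F49841)) (tt N24078 (iv D24897)) (tt N24893 (iv F49275)) (tt N24085 F49208))
theorem Q24861 : ∀ i, i < 24861 → P i := stepQ 24860 Q24860 (allL N24860 (tt N25246 (iv F50179)) (tt N24082 (iv D24898)) (tt N24083 F49209) (tt N25246 (iv F50182)) (tt N24099 F49210) (tt N25327 (iv F50403)))
theorem Q24862 : ∀ i, i < 24862 → P i := stepQ 24861 Q24861 (allL N24861 (tt N24083 (iv D24899)) (tt N24108 F49211) (tt N25246 (iv F50181)) (tt N25005 (iv F49573)) (tt N24101 F49212) (tt N25337 (iv F50434)))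
theorem Q24863 : ∀ i, i < 24863 → P i := stepQ 24862 Q24862 (allL N24862 (tt N25005 (iv F49571)) (tt N24084 F49213) (tt N25338 D25376) (tt N24083 (iv D24900)) (tt N24105 F49214) (tt N24973 (iv F49488)))
theorem Q24864 : ∀ i, i < 24864 → P i := stepQ 24863 Q24863 (allL N24863 (tt N25127 (iv F49850)) (tt N25339 D25377) (tt N24085 (iv D24901)) (tt N25125 (iv F49846)) (tt N24998 (iv F49553)) (tt N25124 F49843))
theorem Q24865 : ∀ i, i < 24865 → P i := stepQ 24864 Q24864 (allL N24864 (tt N25340 D25378) (tt N24086 (iv D24902)) (tt N25339 (iv F50437)) (tt N24110 F49215) (tt N24958 (iv F49460)) (tt N24109 F49216))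
theorem Q24866 : ∀ i, i < 24866 → P i := stepQ 24865 Q24865 (allL N24865 (tt N24214 F49217) (tt N25341 D25379) (tt N24090 (iv D24903)) (tt N25342 D25380) (tt N24685 F49218) (tt N24213 F49219))
theorem Q24867 : ∀ i, i < 24867 → P i := stepQ 24866 Q24866 (allL N24866 (tt N24092 F49220) (tt N24997 (iv F49551)) (tt N25343 D25381) (tt N24091 (iv D24904)) (tt N25019 (iv F49597)) (tt N24295 F49221))
theorem Q24868 : ∀ i, i < 24868 → P i := stepQ 24867 Q24867 (allL N24867 (tt N25343 (iv F50449)) (tt N24972 (iv F49483)) (tt N24092 (iv D24905)) (tt N24257 F49222) (tt N25336 (iv F50429)) (tt N24971 F49482))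
theorem Q24869 : ∀ i, i < 24869 → P i := stepQ 24868 Q24868 (allL N24868 (tt N24096 F49223) (tt N25344 D25382) (tt N24094 (iv D24906)) (tt N24213 F49225) (tt N24096 F49224) (tt N25342 (iv F50448)))
theorem Q24870 : ∀ i, i < 24870 → P i := stepQ 24869 Q24869 (allL N24869 (tt N24097 F49226) (tt N24988 (iv F49528)) (tt N25342 (iv F50446)) (tt N24095 F49227) (tt N25345 D25383) (tt N24094 (iv D24907)))
theorem Q24871 : ∀ i, i < 24871 → P i := stepQ 24870 Q24870 (allL N24870 (tt N24253 (iv F49229)) (tt N24096 (iv D24908)) (tt N24989 (iv F49530)) (tt N24131 F49228) (tt N25344 (iv F50454)) (tt N25346 D25384))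
theorem Q24872 : ∀ i, i < 24872 → P i := stepQ 24871 Q24871 (allL N24871 (tt N25342 (iv F50445)) (tt N25346 (iv F50460)) (tt N24097 F49230) (tt N24214 F49231) (tt N25347 D25385) (tt N24096 (iv D24909)))
theorem Q24873 : ∀ i, i < 24873 → P i := stepQ 24872 Q24872 (allL N24872 (tt N25345 (iv F50455)) (tt N24992 (iv F49536)) (tt N25347 (iv F50464)) (tt N24119 F49232) (tt N24097 (iv D24910)) (tt N25345 (iv F50458)))
theorem Q24874 : ∀ i, i < 24874 → P i := stepQ 24873 Q24873 (allL N24873 (tt N24104 F49233) (tt N24929 (iv F49378)) (tt N25248 (iv F50189)) (tt N24943 (iv F49425)) (tt N25337 (iv F50433)) (tt N24102 (iv D24911)))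
theorem Q24875 : ∀ i, i < 24875 → P i := stepQ 24874 Q24874 (allL N24874 (tt N25004 (iv F49569)) (tt N24994 (iv F49540)) (tt N24105 (iv D24912)) (tt N25001 (iv F49566)) (tt N25338 (iv F50436)) (tt N24963 (iv F49469)))
theorem Q24876 : ∀ i, i < 24876 → P i := stepQ 24875 Q24875 (allL N24875 (tt N24107 F49234) (tt N25230 (iv F50125)) (tt N24108 F49235) (tt N25145 (iv F49886)) (tt N24106 (iv D24913)) (tt N24310 F49236))
theorem Q24877 : ∀ i, i < 24877 → P i := stepQ 24876 Q24876 (allL N24876 (tt N24109 F49237) (tt N25005 (iv F49572)) (tt N25348 D25386) (tt N24108 (iv D24914)) (tt N24930 (iv F49384)) (tt N25340 (iv F50440)))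
theorem Q24878 : ∀ i, i < 24878 → P i := stepQ 24877 Q24877 (allL N24877 (tt N24110 F49238) (tt N25337 (iv F50432)) (tt N24310 F49239) (tt N25340 (iv F50439)) (tt N24929 (iv F49381)) (tt N24108 (iv D24915)))
theorem Q24879 : ∀ i, i < 24879 → P i := stepQ 24878 Q24878 (allL N24878 (tt N25348 (iv F50467)) (tt N25124 F49842) (tt N24109 (iv D24916)) (tt N25123 (iv F49844)) (tt N24961 F49463) (tt N25339 (iv F50438)))
theorem Q24880 : ∀ i, i < 24880 → P i := stepQ 24879 Q24879 (allL N24879 (tt N24926 (iv F49367)) (tt N24533 F49240) (tt N24111 (iv D24917)) (tt N24525 F49242) (tt N24116 F49241) (tt N25143 (iv F49882)))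
theorem Q24881 : ∀ i, i < 24881 → P i := stepQ 24880 Q24880 (allL N24880 (tt N24927 (iv F49369)) (tt N24113 F49243) (tt N25143 (iv F49883)) (tt N24112 F49244) (tt N25349 D25387) (tt N24111 (iv D24918)))
theorem Q24882 : ∀ i, i < 24882 → P i := stepQ 24881 Q24881 (allL N24881 (tt N24119 F49245) (tt N25349 (iv F50468)) (tt N24766 F49246) (tt N25345 (iv F50457)) (tt N24113 (iv D24919)) (tt N24119 F49247))
theorem Q24883 : ∀ i, i < 24883 → P i := stepQ 24882 Q24882 (allL N24882 (tt N24116 F49248) (tt N25350 D25388) (tt N24114 (iv D24920)) (tt N24796 F49249) (tt N24926 (iv F49368)) (tt N24942 (iv F49422)))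
theorem Q24884 : ∀ i, i < 24884 → P i := stepQ 24883 Q24883 (allL N24883 (tt N24117 F49250) (tt N24927 (iv F49370)) (tt N24942 (iv F49421)) (tt N24115 F49251) (tt N25351 D25389) (tt N24114 (iv D24921)))
theorem Q24885 : ∀ i, i < 24885 → P i := stepQ 24884 Q24884 (allL N24884 (tt N24569 (iv F49254)) (tt N24116 (iv D24922)) (tt N24118 F49252) (tt N24464 (iv F49255)) (tt N24533 F49253) (tt N25173 (iv F49964)))
theorem Q24886 : ∀ i, i < 24886 → P i := stepQ 24885 Q24885 (allL N24885 (tt N24796 F49256) (tt N24464 F49257) (tt N24465 F49258) (tt N24116 (iv D24923)) (tt N25352 D25390) (tt N24635 F49259))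
theorem Q24887 : ∀ i, i < 24887 → P i := stepQ 24886 Q24886 (allL N24886 (tt N24942 (iv F49420)) (tt N25173 (iv F49962)) (tt N24117 F49260) (tt N24635 F49261) (tt N25353 D25391) (tt N24116 (iv D24924)))
theorem Q24888 : ∀ i, i < 24888 → P i := stepQ 24887 Q24887 (allL N24887 (tt N25351 (iv F50473)) (tt N24119 F49262) (tt N25353 (iv F50479)) (tt N24992 (iv F49537)) (tt N24117 (iv D24925)) (tt N25349 (iv F50469)))
theorem Q24889 : ∀ i, i < 24889 → P i := stepQ 24888 Q24888 (allL N24888 (tt N25263 (iv F50230)) (tt N24120 (iv D24926)) (tt N24981 (iv F49510)) (tt N25163 F49926) (tt N24593 F49263) (tt N25149 (iv F49898)))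
theorem Q24890 : ∀ i, i < 24890 → P i := stepQ 24889 Q24889 (allL N24889 (tt N24231 F49264) (tt N24213 F49265) (tt N24229 F49266) (tt N25344 (iv F50453)) (tt N24130 (iv D24927)) (tt N25341 (iv F50444)))
theorem Q24891 : ∀ i, i < 24891 → P i := stepQ 24890 Q24890 (allL N24890 (tt N24254 F49267) (tt N24214 F49268) (tt N24132 F49269) (tt N25346 (iv F50462)) (tt N24217 F49270) (tt N24131 (iv D24928)))
theorem Q24892 : ∀ i, i < 24892 → P i := stepQ 24891 Q24891 (allL N24891 (tt N24894 (iv F49277)) (tt N25108 (iv F49808)) (tt N25354 D25392) (tt N24134 (iv D24929)) (tt N24182 F49271) (tt N25105 (iv F49802)))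
theorem Q24893 : ∀ i, i < 24893 → P i := stepQ 24892 Q24892 (allL N24892 (tt N24137 F49272) (tt N24282 F49273) (tt N24910 (iv F49318)) (tt N25355 D25393) (tt N24136 (iv D24930)) (tt N24999 (iv F49557)))
theorem Q24894 : ∀ i, i < 24894 → P i := stepQ 24893 Q24893 (allL N24893 (tt N25355 (iv F50483)) (tt N24138 F49274) (tt N25356 D25394) (tt N24137 (iv D24931)) (tt N24859 F49275) (tt N24247 F49276))
theorem Q24895 : ∀ i, i < 24895 → P i := stepQ 24894 Q24894 (allL N24894 (tt N24891 F49277) (tt N24277 F49278) (tt N25311 (iv F50365)) (tt N24140 (iv D24932)) (tt N24141 F49279) (tt N24794 F49280))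
theorem Q24896 : ∀ i, i < 24896 → P i := stepQ 24895 Q24895 (allL N24895 (tt N24925 (iv F49366)) (tt N25311 (iv F50362)) (tt N24141 (iv D24933)) (tt N25310 F50361) (tt N25311 (iv F50363)) (tt N24793 F49281))
theorem Q24897 : ∀ i, i < 24897 → P i := stepQ 24896 Q24896 (allL N24896 (tt N24144 F49282) (tt N24904 (iv F49302)) (tt N25357 D25395) (tt N24143 (iv D24934)) (tt N24993 (iv F49539)) (tt N25019 (iv F49598)))
theorem Q24898 : ∀ i, i < 24898 → P i := stepQ 24897 Q24897 (allL N24897 (tt N25357 (iv F50490)) (tt N25338 (iv F50435)) (tt N24144 (iv D24935)) (tt N25336 (iv F50431)) (tt N24994 (iv F49541)) (tt N25336 (iv F50430)))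
theorem Q24899 : ∀ i, i < 24899 → P i := stepQ 24898 Q24898 (allL N24898 (tt N24962 (iv F49464)) (tt N24182 F49283) (tt N25358 D25396) (tt N24145 (iv D24936)) (tt N25108 (iv F49810)) (tt N25099 F49788))
theorem Q24900 : ∀ i, i < 24900 → P i := stepQ 24899 Q24899 (allL N24899 (tt N24211 F49284) (tt N24147 F49285) (tt N25359 D25397) (tt N24146 (iv D24937)) (tt N24439 F49286) (tt N25360 D25398))
theorem Q24901 : ∀ i, i < 24901 → P i := stepQ 24900 Q24900 (allL N24900 (tt N24212 F49287) (tt N24148 F49288) (tt N24149 F49289) (tt N25360 (iv F50502)) (tt N24156 F49290) (tt N24146 (iv D24938)))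
theorem Q24902 : ∀ i, i < 24902 → P i := stepQ 24901 Q24901 (allL N24901 (tt N24447 F49291) (tt N25361 D25399) (tt N24147 (iv D24939)) (tt N24388 F49293) (tt N24365 F49292) (tt N25362 D25400))
theorem Q24903 : ∀ i, i < 24903 → P i := stepQ 24902 Q24902 (allL N24902 (tt N24448 F49294) (tt N25360 (iv F50500)) (tt N25362 (iv F50506)) (tt N24148 F49295) (tt N25363 D25401) (tt N24147 (iv D24940)))
theorem Q24904 : ∀ i, i < 24904 → P i := stepQ 24903 Q24903 (allL N24903 (tt N24150 (iv D24941)) (tt N24677 F49296) (tt N24712 F49297) (tt N24671 F49298) (tt N24672 F49299) (tt N24643 F49300))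
theorem Q24905 : ∀ i, i < 24905 → P i := stepQ 24904 Q24904 (allL N24904 (tt N24859 F49301) (tt N24896 F49302) (tt N25364 D25402) (tt N24151 (iv D24942)) (tt N25355 (iv F50485)) (tt N24442 F49303))
theorem Q24906 : ∀ i, i < 24906 → P i := stepQ 24905 Q24905 (allL N24905 (tt N24156 F49304) (tt N24208 F49305) (tt N24153 F49306) (tt N25214 (iv F50081)) (tt N24212 F49307) (tt N24152 (iv D24943)))
theorem Q24907 : ∀ i, i < 24907 → P i := stepQ 24906 Q24906 (allL N24906 (tt N24583 F49308) (tt N24578 F49309) (tt N25365 D25403) (tt N24154 (iv D24944)) (tt N24155 F49310) (tt N25366 D25404))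
theorem Q24908 : ∀ i, i < 24908 → P i := stepQ 24907 Q24907 (allL N24907 (tt N24584 F49311) (tt N24431 F49312) (tt N24262 F49313) (tt N25366 (iv F50519)) (tt N24432 F49314) (tt N24154 (iv D24945)))
theorem Q24909 : ∀ i, i < 24909 → P i := stepQ 24908 Q24908 (allL N24908 (tt N25208 (iv F50066)) (tt N25367 D25405) (tt N24155 (iv D24946)) (tt N25329 (iv F50410)) (tt N25365 (iv F50516)) (tt N25368 D25406))
theorem Q24910 : ∀ i, i < 24910 → P i := stepQ 24909 Q24909 (allL N24909 (tt N25214 (iv F50078)) (tt N25240 (iv F50162)) (tt N25368 (iv F50521)) (tt N24156 F49315) (tt N25369 D25407) (tt N24155 (iv D24947)))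
theorem Q24911 : ∀ i, i < 24911 → P i := stepQ 24910 Q24910 (allL N24910 (tt N24430 F49316) (tt N24159 F49317) (tt N24892 F49318) (tt N25370 D25408) (tt N24158 (iv D24948)) (tt N24427 F49319))
theorem Q24912 : ∀ i, i < 24912 → P i := stepQ 24911 Q24911 (allL N24911 (tt N24277 F49320) (tt N25370 (iv F50524)) (tt N24237 F49321) (tt N24159 (iv D24949)) (tt N24237 F49322) (tt N24648 F49323))
theorem Q24913 : ∀ i, i < 24913 → P i := stepQ 24912 Q24912 (allL N24912 (tt N24178 F49324) (tt N24427 F49325) (tt N24160 F49326) (tt N24648 F49327) (tt N24177 F49328) (tt N24159 (iv D24950)))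
theorem Q24914 : ∀ i, i < 24914 → P i := stepQ 24913 Q24913 (allL N24913 (tt N24167 F49329) (tt N24193 F49330) (tt N25371 D25409) (tt N24163 (iv D24951)) (tt N24164 F49331) (tt N25178 (iv F49975)))
theorem Q24915 : ∀ i, i < 24915 → P i := stepQ 24914 Q24914 (allL N24914 (tt N24168 F49332) (tt N24194 F49333) (tt N24279 F49334) (tt N25178 (iv F49974)) (tt N24183 F49335) (tt N24163 (iv D24952)))
theorem Q24916 : ∀ i, i < 24916 → P i := stepQ 24915 Q24915 (allL N24915 (tt N24169 F49336) (tt N25372 D25410) (tt N24164 (iv D24953)) (tt N25368 (iv F50522)) (tt N25371 (iv F50528)) (tt N25329 (iv F50412)))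
theorem Q24917 : ∀ i, i < 24917 → P i := stepQ 24916 Q24916 (allL N24916 (tt N24278 F49337) (tt N24191 F49338) (tt N25373 D25411) (tt N24166 (iv D24954)) (tt N24191 F49339) (tt N25374 D25412))
theorem Q24918 : ∀ i, i < 24918 → P i := stepQ 24917 Q24917 (allL N24917 (tt N24279 F49340) (tt N24192 F49341) (tt N24168 F49342) (tt N25374 (iv F50534)) (tt N24187 F49343) (tt N24166 (iv D24955)))
theorem Q24919 : ∀ i, i < 24919 → P i := stepQ 24918 Q24918 (allL N24918 (tt N25371 (iv F50527)) (tt N25330 (iv F50413)) (tt N24167 (iv D24956)) (tt N25375 D25413) (tt N24169 F49344) (tt N25180 (iv F49980)))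
theorem Q24920 : ∀ i, i < 24920 → P i := stepQ 24919 Q24919 (allL N24919 (tt N25368 (iv F50520)) (tt N25116 F49831) (tt N25214 (iv F50080)) (tt N24169 (iv D24957)) (tt N25376 D25414) (tt N25208 (iv F50065)))
theorem Q24921 : ∀ i, i < 24921 → P i := stepQ 24920 Q24920 (allL N24920 (tt N25377 D25415) (tt N24170 (iv D24958)) (tt N24171 F49345) (tt N24827 F49346) (tt N24669 F49347) (tt N24173 F49348))
theorem Q24922 : ∀ i, i < 24922 → P i := stepQ 24921 Q24921 (allL N24921 (tt N24171 (iv D24959)) (tt N24671 F49349) (tt N25377 (iv F50536)) (tt N24677 F49350) (tt N24663 F49351) (tt N24175 F49352))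
theorem Q24923 : ∀ i, i < 24923 → P i := stepQ 24922 Q24922 (allL N24922 (tt N24173 (iv D24960)) (tt N25377 (iv F50535)) (tt N24175 F49353) (tt N24825 F49354) (tt N24662 F49355) (tt N25377 (iv F50539)))
theorem Q24924 : ∀ i, i < 24924 → P i := stepQ 24923 Q24923 (allL N24923 (tt N24496 F49356) (tt N24500 F49357) (tt N24179 (iv D24961)) (tt N24507 F49358) (tt N24494 F49359) (tt N24499 (iv F49360)))
theorem Q24925 : ∀ i, i < 24925 → P i := stepQ 24924 Q24924 (allL N24924 (tt N24656 F49361) (tt N24240 F49362) (tt N24499 F49363) (tt N24180 F49364) (tt N24703 F49365) (tt N24179 (iv D24962)))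
theorem Q24926 : ∀ i, i < 24926 → P i := stepQ 24925 Q24925 (allL N24925 (tt N24895 F49366) (tt N25378 D25416) (tt N24182 (iv D24963)) (tt N25379 D25417) (tt N25354 (iv F50482)) (tt N25309 F50358))
theorem Q24927 : ∀ i, i < 24927 → P i := stepQ 24926 Q24926 (allL N24926 (tt N24879 F49367) (tt N25380 D25418) (tt N24186 (iv D24964)) (tt N25161 (iv F49919)) (tt N24882 F49368) (tt N25381 D25419))
theorem Q24928 : ∀ i, i < 24928 → P i := stepQ 24927 Q24927 (allL N24927 (tt N24880 F49369) (tt N24883 F49370) (tt N25381 (iv F50549)) (tt N24187 F49371) (tt N25382 D25420) (tt N24186 (iv D24965)))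
theorem Q24929 : ∀ i, i < 24929 → P i := stepQ 24928 Q24928 (allL N24928 (tt N24658 F49372) (tt N24188 (iv D24966)) (tt N24668 F49373) (tt N24657 F49374) (tt N24724 F49375) (tt N24666 F49376))
theorem Q24930 : ∀ i, i < 24930 → P i := stepQ 24929 Q24929 (allL N24929 (tt N24252 F49377) (tt N24873 F49378) (tt N24828 F49379) (tt N24249 F49380) (tt N24877 F49381) (tt N24189 (iv D24967)))
theorem Q24931 : ∀ i, i < 24931 → P i := stepQ 24930 Q24930 (allL N24930 (tt N24235 F49382) (tt N24293 F49383) (tt N25383 D25421) (tt N24190 (iv D24968)) (tt N24876 F49384) (tt N24230 F49385))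
theorem Q24932 : ∀ i, i < 24932 → P i := stepQ 24931 Q24931 (allL N24931 (tt N24280 F49386) (tt N25384 D25422) (tt N24191 (iv D24969)) (tt N25385 D25423) (tt N25373 (iv F50531)) (tt N25386 D25424))
theorem Q24933 : ∀ i, i < 24933 → P i := stepQ 24932 Q24932 (allL N24932 (tt N24281 F49387) (tt N25374 (iv F50533)) (tt N25386 (iv F50562)) (tt N24192 F49388) (tt N25387 D25425) (tt N24191 (iv D24970)))
theorem Q24934 : ∀ i, i < 24934 → P i := stepQ 24933 Q24933 (allL N24933 (tt N24195 F49389) (tt N25388 D25426) (tt N24193 (iv D24971)) (tt N24781 F49390) (tt N24778 F49391) (tt N25307 (iv F50354)))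
theorem Q24935 : ∀ i, i < 24935 → P i := stepQ 24934 Q24934 (allL N24934 (tt N24196 F49392) (tt N25178 (iv F49973)) (tt N25307 (iv F50352)) (tt N24194 F49393) (tt N24650 F49394) (tt N24193 (iv D24972)))
theorem Q24936 : ∀ i, i < 24936 → P i := stepQ 24935 Q24935 (allL N24935 (tt N24262 F49395) (tt N24198 F49396) (tt N24584 F49397) (tt N25168 (iv F49946)) (tt N24203 F49398) (tt N24197 (iv D24973)))
theorem Q24937 : ∀ i, i < 24937 → P i := stepQ 24936 Q24936 (allL N24936 (tt N24216 F49399) (tt N24250 F49400) (tt N24736 F49402) (tt N24199 (iv D24974)) (tt N24250 F49401) (tt N25389 D25427))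
theorem Q24938 : ∀ i, i < 24938 → P i := stepQ 24937 Q24937 (allL N24937 (tt N24217 F49403) (tt N24251 F49404) (tt N24200 F49405) (tt N25389 (iv F50571)) (tt N24254 F49406) (tt N24199 (iv D24975)))
theorem Q24939 : ∀ i, i < 24939 → P i := stepQ 24938 Q24938 (allL N24938 (tt N24439 F49407) (tt N24443 F49408) (tt N25390 D25428) (tt N24201 (iv D24976)) (tt N24211 F49409) (tt N25391 D25429))
theorem Q24940 : ∀ i, i < 24940 → P i := stepQ 24939 Q24939 (allL N24939 (tt N24432 F49410) (tt N24436 F49411) (tt N24203 F49412) (tt N25391 (iv F50576)) (tt N24584 F49413) (tt N24201 (iv D24977)))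
theorem Q24941 : ∀ i, i < 24941 → P i := stepQ 24940 Q24940 (allL N24940 (tt N24592 F49414) (tt N24623 F49415) (tt N24202 (iv D24978)) (tt N25392 D25430) (tt N24204 F49416) (tt N25393 D25431))
theorem Q24942 : ∀ i, i < 24942 → P i := stepQ 24941 Q24941 (allL N24941 (tt N24593 F49417) (tt N24595 F49418) (tt N25393 (iv F50582)) (tt N24203 F49419) (tt N25263 (iv F50232)) (tt N24202 (iv D24979)))
theorem Q24943 : ∀ i, i < 24943 → P i := stepQ 24942 Q24942 (allL N24942 (tt N24886 F49420) (tt N25312 (iv F50366)) (tt N24883 F49421) (tt N24204 (iv D24980)) (tt N25394 D25432) (tt N24882 F49422))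
theorem Q24944 : ∀ i, i < 24944 → P i := stepQ 24943 Q24943 (allL N24943 (tt N24205 (iv D24981)) (tt N24249 F49423) (tt N24218 F49424) (tt N24873 F49425) (tt N24256 F49426) (tt N24206 F49427))
theorem Q24945 : ∀ i, i < 24945 → P i := stepQ 24944 Q24944 (allL N24944 (tt N25359 (iv F50495)) (tt N25395 D25433) (tt N24211 (iv D24982)) (tt N25383 (iv F50555)) (tt N25390 (iv F50573)) (tt N25396 D25434))
theorem Q24946 : ∀ i, i < 24946 → P i := stepQ 24945 Q24945 (allL N24945 (tt N25360 (iv F50499)) (tt N25238 (iv F50157)) (tt N25396 (iv F50587)) (tt N24212 F49428) (tt N25397 D25435) (tt N24211 (iv D24983)))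
theorem Q24947 : ∀ i, i < 24947 → P i := stepQ 24946 Q24946 (allL N24946 (tt N24251 F49429) (tt N24685 F49430) (tt N24249 F49431) (tt N24688 F49432) (tt N25341 (iv F50443)) (tt N24215 (iv D24984)))
theorem Q24948 : ∀ i, i < 24948 → P i := stepQ 24947 Q24947 (allL N24947 (tt N25389 (iv F50568)) (tt N24686 F49433) (tt N24733 F49434) (tt N24217 F49435) (tt N25398 D25436) (tt N24216 (iv D24985)))
theorem Q24949 : ∀ i, i < 24949 → P i := stepQ 24948 Q24948 (allL N24948 (tt N24225 F49436) (tt N25264 (iv F50234)) (tt N25034 (iv F49635)) (tt N24221 (iv D24986)) (tt N25031 (iv F49628)) (tt N24600 F49437))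
theorem Q24950 : ∀ i, i < 24950 → P i := stepQ 24949 Q24949 (allL N24949 (tt N24632 F49438) (tt N24226 F49439) (tt N24228 F49440) (tt N25399 D25437) (tt N24224 (iv D24987)) (tt N24272 F49441))
theorem Q24951 : ∀ i, i < 24951 → P i := stepQ 24950 Q24950 (allL N24950 (tt N25031 (iv F49626)) (tt N24404 F49442) (tt N25024 (iv F49614)) (tt N25400 D25438) (tt N24225 (iv D24988)) (tt N24399 F49443))
theorem Q24952 : ∀ i, i < 24952 → P i := stepQ 24951 Q24951 (allL N24951 (tt N25335 (iv F50425)) (tt N25399 (iv F50593)) (tt N25401 D25439) (tt N24226 (iv D24989)) (tt N25400 (iv F50597)) (tt N24273 F49444))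
theorem Q24953 : ∀ i, i < 24953 → P i := stepQ 24952 Q24952 (allL N24952 (tt N24232 F49445) (tt N24255 F49446) (tt N25402 D25440) (tt N24229 (iv D24990)) (tt N24230 F49447) (tt N25403 D25441))
theorem Q24954 : ∀ i, i < 24954 → P i := stepQ 24953 Q24953 (allL N24953 (tt N24233 F49448) (tt N24256 F49449) (tt N25341 (iv F50442)) (tt N25403 (iv F50606)) (tt N24249 F49450) (tt N24229 (iv D24991)))
theorem Q24955 : ∀ i, i < 24955 → P i := stepQ 24954 Q24954 (allL N24954 (tt N24234 F49451) (tt N25404 D25442) (tt N24230 (iv D24992)) (tt N25396 (iv F50588)) (tt N25402 (iv F50603)) (tt N25383 (iv F50557)))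
theorem Q24956 : ∀ i, i < 24956 → P i := stepQ 24955 Q24955 (allL N24955 (tt N25344 (iv F50452)) (tt N24253 F49452) (tt N25405 D25443) (tt N24231 (iv D24993)) (tt N24253 F49453) (tt N25406 D25444))
theorem Q24957 : ∀ i, i < 24957 → P i := stepQ 24956 Q24956 (allL N24956 (tt N25341 (iv F50441)) (tt N24254 F49454) (tt N24233 F49455) (tt N25406 (iv F50611)) (tt N24251 F49456) (tt N24231 (iv D24994)))
theorem Q24958 : ∀ i, i < 24958 → P i := stepQ 24957 Q24957 (allL N24957 (tt N25402 (iv F50602)) (tt N25407 D25445) (tt N24232 (iv D24995)) (tt N25408 D25446) (tt N24234 F49457) (tt N25409 D25447))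
theorem Q24959 : ∀ i, i < 24959 → P i := stepQ 24958 Q24958 (allL N24958 (tt N25403 (iv F50604)) (tt N24246 F49458) (tt N25409 (iv F50616)) (tt N24233 F49459) (tt N24864 F49460) (tt N24232 (iv D24996)))
theorem Q24960 : ∀ i, i < 24960 → P i := stepQ 24959 Q24959 (allL N24959 (tt N25410 D25448) (tt N24234 (iv D24997)) (tt N24247 F49461) (tt N25411 D25449) (tt N25407 (iv F50613)) (tt N25356 (iv F50489)))
theorem Q24961 : ∀ i, i < 24961 → P i := stepQ 24960 Q24960 (allL N24960 (tt N25396 (iv F50586)) (tt N25411 (iv F50619)) (tt N25360 (iv F50501)) (tt N24234 (iv D24998)) (tt N25412 D25450) (tt N25359 F50498))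
theorem Q24962 : ∀ i, i < 24962 → P i := stepQ 24961 Q24961 (allL N24961 (tt N25383 (iv F50554)) (tt N25356 (iv F50487)) (tt N24235 F49462) (tt N25359 (iv F50497)) (tt N24878 (iv F49463)) (tt N24234 (iv D24999)))
theorem Q24963 : ∀ i, i < 24963 → P i := stepQ 24962 Q24962 (allL N24962 (tt N24898 F49464) (tt N24237 F49465) (tt N25083 (iv F49745)) (tt N24236 (iv D25000)) (tt N25370 (iv F50525)) (tt N24647 F49466))
theorem Q24964 : ∀ i, i < 24964 → P i := stepQ 24963 Q24963 (allL N24963 (tt N24292 F49467) (tt N25001 (iv F49563)) (tt N24243 (iv D25001)) (tt N24994 (iv F49542)) (tt N24257 F49468) (tt N24874 F49469))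
theorem Q24965 : ∀ i, i < 24965 → P i := stepQ 24964 Q24964 (allL N24964 (tt N25006 (iv F49574)) (tt N24245 (iv D25002)) (tt N25407 (iv F50612)) (tt N24288 F49470) (tt N24247 F49471) (tt N24287 F49472))
theorem Q24966 : ∀ i, i < 24966 → P i := stepQ 24965 Q24965 (allL N24965 (tt N24247 (iv D25003)) (tt N25000 (iv F49560)) (tt N25410 (iv F50618)) (tt N24999 F49558) (tt N25006 (iv F49576)) (tt N25355 (iv F50486)))
theorem Q24967 : ∀ i, i < 24967 → P i := stepQ 24966 Q24966 (allL N24966 (tt N24688 F49473) (tt N25389 (iv F50569)) (tt N24742 F49474) (tt N24251 F49475) (tt N25413 D25451) (tt N24250 (iv D25004)))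
theorem Q24968 : ∀ i, i < 24968 → P i := stepQ 24967 Q24967 (allL N24967 (tt N24989 F49531) (tt N25414 D25452) (tt N24253 (iv D25005)) (tt N25386 (iv F50563)) (tt N25405 (iv F50609)) (tt N25385 (iv F50560)))
theorem Q24969 : ∀ i, i < 24969 → P i := stepQ 24968 Q24968 (allL N24968 (tt N25346 (iv F50459)) (tt N25406 (iv F50610)) (tt N25385 (iv F50559)) (tt N24254 F49476) (tt N25415 D25453) (tt N24253 (iv D25006)))
theorem Q24970 : ∀ i, i < 24970 → P i := stepQ 24969 Q24969 (allL N24969 (tt N24257 F49477) (tt N25416 D25454) (tt N24255 (iv D25007)) (tt N25343 (iv F50450)) (tt N24292 F49478) (tt N25417 D25455))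
theorem Q24971 : ∀ i, i < 24971 → P i := stepQ 24970 Q24970 (allL N24970 (tt N24258 F49479) (tt N25403 (iv F50605)) (tt N25417 (iv F50625)) (tt N24256 F49480) (tt N25418 D25456) (tt N24255 (iv D25008)))
theorem Q24972 : ∀ i, i < 24972 → P i := stepQ 24971 Q24971 (allL N24971 (tt N25007 (iv F49578)) (tt N24257 (iv D25009)) (tt N24259 F49481) (tt N24972 (iv F49485)) (tt N25001 (iv F49564)) (tt N24867 (iv F49482)))
theorem Q24973 : ∀ i, i < 24973 → P i := stepQ 24972 Q24972 (allL N24972 (tt N25417 (iv F50624)) (tt N24867 F49483) (tt N24258 F49484) (tt N24971 F49485) (tt N25419 D25457) (tt N24257 (iv D25010)))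
theorem Q24974 : ∀ i, i < 24974 → P i := stepQ 24973 Q24973 (allL N24973 (tt N25418 (iv F50627)) (tt N24260 F49486) (tt N25419 (iv F50632)) (tt N24858 F49487) (tt N24258 (iv D25011)) (tt N24862 F49488))
theorem Q24975 : ∀ i, i < 24975 → P i := stepQ 24974 Q24974 (allL N24974 (tt N24730 F49489) (tt N24717 F49490) (tt N24261 (iv D25012)) (tt N25420 D25458) (tt N24263 F49491) (tt N25164 (iv F49930)))
theorem Q24976 : ∀ i, i < 24976 → P i := stepQ 24975 Q24975 (allL N24975 (tt N25168 (iv F49945)) (tt N24594 F49492) (tt N25164 (iv F49929)) (tt N24262 F49493) (tt N25163 F49927) (tt N24261 (iv D25013)))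
theorem Q24977 : ∀ i, i < 24977 → P i := stepQ 24976 Q24976 (allL N24976 (tt N24733 F49494) (tt N24718 F49495) (tt N25389 (iv F50570)) (tt N24263 (iv D25014)) (tt N25421 D25459) (tt N24736 F49496))
theorem Q24978 : ∀ i, i < 24978 → P i := stepQ 24977 Q24977 (allL N24977 (tt N24266 F49497) (tt N25422 D25460) (tt N24265 (iv D25015)) (tt N25401 (iv F50600)) (tt N24805 F49498) (tt N24680 F49499))
theorem Q24979 : ∀ i, i < 24979 → P i := stepQ 24978 Q24978 (allL N24978 (tt N25401 (iv F50599)) (tt N24811 F49500) (tt N25335 (iv F50427)) (tt N24266 (iv D25016)) (tt N25423 D25461) (tt N24814 F49501))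
theorem Q24980 : ∀ i, i < 24980 → P i := stepQ 24979 Q24979 (allL N24979 (tt N24270 F49502) (tt N24699 F49503) (tt N24267 (iv D25017)) (tt N24655 F49505) (tt N25218 (iv F50092)) (tt N24654 F49504))
theorem Q24981 : ∀ i, i < 24981 → P i := stepQ 24980 Q24980 (allL N24980 (tt N24273 F49506) (tt N24820 F49507) (tt N24814 F49509) (tt N24269 (iv D25018)) (tt N24819 F49508) (tt N25335 (iv F50428)))
theorem Q24982 : ∀ i, i < 24982 → P i := stepQ 24981 Q24981 (allL N24981 (tt N25424 D25462) (tt N24270 (iv D25019)) (tt N24888 F49510) (tt N25328 (iv F50406)) (tt N25217 F50088) (tt N25352 (iv F50478)))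
theorem Q24983 : ∀ i, i < 24983 → P i := stepQ 24982 Q24982 (allL N24982 (tt N24655 F49511) (tt N25328 (iv F50405)) (tt N24652 F49512) (tt N24270 (iv D25020)) (tt N25141 (iv F49877)) (tt N24651 F49513))
theorem Q24984 : ∀ i, i < 24984 → P i := stepQ 24983 Q24983 (allL N24983 (tt N24654 F49514) (tt N25352 (iv F50475)) (tt N24271 F49515) (tt N24651 F49516) (tt N24464 F49517) (tt N24270 (iv D25021)))
theorem Q24985 : ∀ i, i < 24985 → P i := stepQ 24984 Q24984 (allL N24984 (tt N25250 (iv F50193)) (tt N24273 F49518) (tt N25305 (iv F50347)) (tt N24272 (iv D25022)) (tt N24406 F49519) (tt N25399 (iv F50595)))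
theorem Q24986 : ∀ i, i < 24986 → P i := stepQ 24985 Q24985 (allL N24985 (tt N24814 F49520) (tt N25425 D25463) (tt N24273 (iv D25023)) (tt N24680 F49521) (tt N25184 (iv F49985)) (tt N25401 (iv F50601)))
theorem Q24987 : ∀ i, i < 24987 → P i := stepQ 24986 Q24986 (allL N24986 (tt N24552 F49522) (tt N24591 F49523) (tt N24555 F49524) (tt N24696 F49525) (tt N24276 (iv D25024)) (tt N24986 F49526))
theorem Q24988 : ∀ i, i < 24988 → P i := stepQ 24987 Q24987 (allL N24987 (tt N25373 (iv F50530)) (tt N25426 D25464) (tt N24278 (iv D25025)) (tt N25427 D25465) (tt N24280 F49527) (tt N25428 D25466))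
theorem Q24989 : ∀ i, i < 24989 → P i := stepQ 24988 Q24988 (allL N24988 (tt N25374 (iv F50532)) (tt N24869 F49528) (tt N25428 (iv F50659)) (tt N24279 F49529) (tt N25429 D25467) (tt N24278 (iv D25026)))
theorem Q24990 : ∀ i, i < 24990 → P i := stepQ 24989 Q24989 (allL N24989 (tt N24967 (iv F49531)) (tt N24280 (iv D25027)) (tt N24870 F49530) (tt N24991 (iv F49535)) (tt N25426 (iv F50657)) (tt N24990 (iv F49532)))
theorem Q24991 : ∀ i, i < 24991 → P i := stepQ 24990 Q24990 (allL N24990 (tt N25385 (iv F50558)) (tt N24991 (iv F49533)) (tt N25346 (iv F50461)) (tt N24280 (iv D25028)) (tt N25430 D25468) (tt N24989 F49532))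
theorem Q24992 : ∀ i, i < 24992 → P i := stepQ 24991 Q24991 (allL N24991 (tt N25386 (iv F50561)) (tt N24990 F49533) (tt N24281 F49534) (tt N24989 F49535) (tt N25431 D25469) (tt N24280 (iv D25029)))
theorem Q24993 : ∀ i, i < 24993 → P i := stepQ 24992 Q24992 (allL N24992 (tt N25387 (iv F50564)) (tt N24872 F49536) (tt N25431 (iv F50664)) (tt N24887 F49537) (tt N24281 (iv D25030)) (tt N25429 (iv F50662)))
theorem Q24994 : ∀ i, i < 24994 → P i := stepQ 24993 Q24993 (allL N24993 (tt N24283 F49538) (tt N25355 (iv F50484)) (tt N25003 (iv F49568)) (tt N24282 (iv D25031)) (tt N24896 F49539) (tt N25000 (iv F49562)))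
theorem Q24995 : ∀ i, i < 24995 → P i := stepQ 24994 Q24994 (allL N24994 (tt N25003 (iv F49567)) (tt N24874 F49540) (tt N24283 (iv D25032)) (tt N24963 F49542) (tt N24897 F49541) (tt N25001 (iv F49565)))
theorem Q24996 : ∀ i, i < 24996 → P i := stepQ 24995 Q24995 (allL N24995 (tt N24843 F49543) (tt N24285 F49544) (tt N25432 D25470) (tt N24284 (iv D25033)) (tt N24433 F49545) (tt N24785 F49546))
theorem Q24997 : ∀ i, i < 24997 → P i := stepQ 24996 Q24996 (allL N24996 (tt N24683 F49547) (tt N25433 D25471) (tt N24285 (iv D25034)) (tt N25307 (iv F50353)) (tt N24679 F49548) (tt N24781 F49549))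
theorem Q24998 : ∀ i, i < 24998 → P i := stepQ 24997 Q24997 (allL N24997 (tt N24287 F49550) (tt N24866 F49551) (tt N25434 D25472) (tt N24286 (iv D25035)) (tt N24442 F49552) (tt N25006 (iv F49577)))
theorem Q24999 : ∀ i, i < 24999 → P i := stepQ 24998 Q24998 (allL N24998 (tt N25434 (iv F50671)) (tt N25409 (iv F50615)) (tt N24287 (iv D25036)) (tt N25435 D25473) (tt N24863 F49553) (tt N25407 F50614))
theorem Q25000 : ∀ i, i < 25000 → P i := stepQ 24999 Q24999 (allL N24999 (tt N24429 F49554) (tt N24290 F49555) (tt N24427 F49556) (tt N24965 (iv F49558)) (tt N24289 (iv D25037)) (tt N24892 F49557))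
theorem Q25001 : ∀ i, i < 25001 → P i := stepQ 25000 Q25000 (allL N25000 (tt N24291 F49559) (tt N24965 F49560) (tt N25436 D25474) (tt N24290 (iv D25038)) (tt N24295 F49561) (tt N24993 F49562))
theorem Q25002 : ∀ i, i < 25002 → P i := stepQ 25001 Q25001 (allL N25001 (tt N25436 (iv F50673)) (tt N24963 F49563) (tt N24291 (iv D25039)) (tt N24874 F49566) (tt N24971 F49564) (tt N24994 F49565))
theorem Q25003 : ∀ i, i < 25003 → P i := stepQ 25002 Q25002 (allL N25002 (tt N25437 D25475) (tt N24292 (iv D25040)) (tt N25404 (iv F50608)) (tt N25438 D25476) (tt N25416 (iv F50623)) (tt N25439 D25477))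
theorem Q25004 : ∀ i, i < 25004 → P i := stepQ 25003 Q25003 (allL N25003 (tt N24994 F49567) (tt N25438 (iv F50678)) (tt N24993 F49568) (tt N24292 (iv D25041)) (tt N25357 (iv F50491)) (tt N25436 (iv F50676)))
theorem Q25005 : ∀ i, i < 25005 → P i := stepQ 25004 Q25004 (allL N25004 (tt N24874 F49569) (tt N25439 (iv F50681)) (tt N24293 F49570) (tt N25436 (iv F50674)) (tt N25440 D25478) (tt N24292 (iv D25042)))
theorem Q25006 : ∀ i, i < 25006 → P i := stepQ 25005 Q25005 (allL N25005 (tt N24862 F49571) (tt N24876 F49572) (tt N25440 (iv F50684)) (tt N24861 F49573) (tt N24293 (iv D25043)) (tt N25418 (iv F50630)))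
theorem Q25007 : ∀ i, i < 25007 → P i := stepQ 25006 Q25006 (allL N25006 (tt N24964 F49574) (tt N24295 F49575) (tt N25441 D25479) (tt N24294 (iv D25044)) (tt N24965 F49576) (tt N24997 F49577))
theorem Q25008 : ∀ i, i < 25008 → P i := stepQ 25007 Q25007 (allL N25007 (tt N24971 F49578) (tt N25442 D25480) (tt N24295 (iv D25045)) (tt N25417 (iv F50626)) (tt N25436 (iv F50675)) (tt N25343 (iv F50451)))
theorem Q25009 : ∀ i, i < 25009 → P i := stepQ 25008 Q25008 (allL N25008 (tt N25306 (iv F50349)) (tt N25180 (iv F49978)) (tt N24297 (iv D25046)) (tt N25443 D25481) (tt N24412 F49579) (tt N25330 (iv F50415)))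
theorem Q25010 : ∀ i, i < 25010 → P i := stepQ 25009 Q25009 (allL N25009 (tt N24305 F49580) (tt N25142 (iv F49878)) (tt N24301 (iv D25047)) (tt N25444 D25482) (tt N24302 F49581) (tt N25235 (iv F50149)))
theorem Q25011 : ∀ i, i < 25011 → P i := stepQ 25010 Q25010 (allL N25010 (tt N25139 (iv F49869)) (tt N24302 (iv D25048)) (tt N25145 (iv F49885)) (tt N25228 (iv F50121)) (tt N25142 (iv F49880)) (tt N25227 (iv F50117)))
theorem Q25012 : ∀ i, i < 25012 → P i := stepQ 25011 Q25011 (allL N25011 (tt N24684 F49582) (tt N24796 F49583) (tt N24304 (iv D25049)) (tt N25350 (iv F50471)) (tt N24701 F49584) (tt N24795 F49585))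
theorem Q25013 : ∀ i, i < 25013 → P i := stepQ 25012 Q25012 (allL N25012 (tt N25444 (iv F50691)) (tt N24573 F49586) (tt N25445 D25483) (tt N24305 (iv D25050)) (tt N25446 D25484) (tt N25146 (iv F49890)))
theorem Q25014 : ∀ i, i < 25014 → P i := stepQ 25013 Q25013 (allL N25013 (tt N25235 (iv F50146)) (tt N24574 F49587) (tt N24306 F49588) (tt N25146 (iv F49889)) (tt N24653 F49589) (tt N24305 (iv D25051)))
theorem Q25015 : ∀ i, i < 25015 → P i := stepQ 25014 Q25014 (allL N25014 (tt N25140 (iv F49873)) (tt N24308 F49590) (tt N25298 (iv F50328)) (tt N24307 (iv D25052)) (tt N25447 D25485) (tt N25220 (iv F50100)))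
theorem Q25016 : ∀ i, i < 25016 → P i := stepQ 25015 Q25015 (allL N25015 (tt N25141 (iv F49874)) (tt N24309 F49591) (tt N24313 F49592) (tt N25220 (iv F50098)) (tt N24655 F49593) (tt N24307 (iv D25053)))
theorem Q25017 : ∀ i, i < 25017 → P i := stepQ 25016 Q25016 (allL N25016 (tt N25229 (iv F50122)) (tt N25447 (iv F50701)) (tt N25221 (iv F50102)) (tt N25446 (iv F50700)) (tt N24308 (iv D25054)) (tt N25234 (iv F50145)))
theorem Q25018 : ∀ i, i < 25018 → P i := stepQ 25017 Q25017 (allL N25017 (tt N24311 F49594) (tt N25231 (iv F50130)) (tt N25227 (iv F50116)) (tt N24310 (iv D25055)) (tt N25265 (iv F50239)) (tt N25145 (iv F49888)))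
theorem Q25019 : ∀ i, i < 25019 → P i := stepQ 25018 Q25018 (allL N25018 (tt N25227 F50118) (tt N25141 (iv F49875)) (tt N24311 (iv D25056)) (tt N25226 (iv F50119)) (tt N25328 (iv F50407)) (tt N25139 F49872))
theorem Q25020 : ∀ i, i < 25020 → P i := stepQ 25019 Q25019 (allL N25019 (tt N24857 F49595) (tt N24442 F49596) (tt N25448 D25486) (tt N24312 (iv D25057)) (tt N24866 F49597) (tt N24896 F49598))
theorem Q25021 : ∀ i, i < 25021 → P i := stepQ 25020 Q25020 (allL N25020 (tt N24627 F49599) (tt N24614 F49600) (tt N24616 F49601) (tt N24617 F49602) (tt N24319 (iv D25058)) (tt N25193 (iv F50023)))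
theorem Q25022 : ∀ i, i < 25022 → P i := stepQ 25021 Q25021 (allL N25021 (tt N24322 F49603) (tt N25449 D25487) (tt N24321 (iv D25059)) (tt N24383 F49604) (tt N24366 F49605) (tt N24383 F49606))
theorem Q25023 : ∀ i, i < 25023 → P i := stepQ 25022 Q25022 (allL N25022 (tt N25094 (iv F49777)) (tt N24325 F49607) (tt N25094 (iv F49779)) (tt N24622 F49608) (tt N24324 (iv D25060)) (tt N25450 D25488))
theorem Q25024 : ∀ i, i < 25024 → P i := stepQ 25023 Q25023 (allL N25023 (tt N24332 F49609) (tt N24622 F49610) (tt N24363 (iv F49612)) (tt N24325 (iv D25061)) (tt N24326 F49611) (tt N25451 D25489))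
theorem Q25025 : ∀ i, i < 25025 → P i := stepQ 25024 Q25024 (allL N25024 (tt N24333 F49613) (tt N25450 (iv F50713)) (tt N24950 F49614) (tt N25451 (iv F50720)) (tt N24463 F49615) (tt N24325 (iv D25062)))
theorem Q25026 : ∀ i, i < 25026 → P i := stepQ 25025 Q25025 (allL N25025 (tt N24329 F49616) (tt N24605 F49617) (tt N25452 D25490) (tt N24327 (iv D25063)) (tt N25095 (iv F49781)) (tt N24345 F49618))
theorem Q25027 : ∀ i, i < 25027 → P i := stepQ 25026 Q25026 (allL N25026 (tt N25095 (iv F49780)) (tt N24332 F49619) (tt N25453 D25491) (tt N24328 (iv D25064)) (tt N24329 F49620) (tt N25454 D25492))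
theorem Q25028 : ∀ i, i < 25028 → P i := stepQ 25027 Q25027 (allL N25027 (tt N24577 F49621) (tt N24333 F49622) (tt N25088 (iv F49759)) (tt N25454 (iv F50728)) (tt N24374 F49623) (tt N24328 (iv D25065)))
theorem Q25029 : ∀ i, i < 25029 → P i := stepQ 25028 Q25028 (allL N25028 (tt N25452 (iv F50722)) (tt N25455 D25493) (tt N24329 (iv D25066)) (tt N25456 D25494) (tt N25453 (iv F50725)) (tt N24348 F49624))
theorem Q25030 : ∀ i, i < 25030 → P i := stepQ 25029 Q25029 (allL N25029 (tt N25086 (iv F49751)) (tt N24331 F49625) (tt N25086 (iv F49753)) (tt N25290 (iv F50313)) (tt N24330 (iv D25067)) (tt N25457 D25495))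
theorem Q25031 : ∀ i, i < 25031 → P i := stepQ 25030 Q25030 (allL N25030 (tt N25092 (iv F49773)) (tt N25290 (iv F50311)) (tt N25291 (iv F50315)) (tt N24331 (iv D25068)) (tt N25091 (iv F49770)) (tt N25458 D25496))
theorem Q25032 : ∀ i, i < 25032 → P i := stepQ 25031 Q25031 (allL N25031 (tt N24950 F49626) (tt N25457 (iv F50735)) (tt N24333 F49627) (tt N25458 (iv F50739)) (tt N24948 F49628) (tt N24331 (iv D25069)))
theorem Q25033 : ∀ i, i < 25033 → P i := stepQ 25032 Q25032 (allL N25032 (tt N24363 F49629) (tt N25459 D25497) (tt N24332 (iv D25070)) (tt N25460 D25498) (tt N24335 F49630) (tt N25461 D25499))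
theorem Q25034 : ∀ i, i < 25034 → P i := stepQ 25033 Q25033 (allL N25033 (tt N25451 (iv F50717)) (tt N25454 (iv F50727)) (tt N25461 (iv F50745)) (tt N24333 F49631) (tt N24350 F49632) (tt N24332 (iv D25071)))
theorem Q25035 : ∀ i, i < 25035 → P i := stepQ 25034 Q25034 (allL N25034 (tt N24463 F49633) (tt N24374 F49634) (tt N24948 F49635) (tt N24342 F49636) (tt N24333 (iv D25072)) (tt N24334 F49637))
theorem Q25036 : ∀ i, i < 25036 → P i := stepQ 25035 Q25035 (allL N25035 (tt N25462 D25500) (tt N24335 (iv D25073)) (tt N25455 (iv F50730)) (tt N24357 F49638) (tt N25459 (iv F50741)) (tt N24351 F49639))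
theorem Q25037 : ∀ i, i < 25037 → P i := stepQ 25036 Q25036 (allL N25036 (tt N24337 F49640) (tt N25463 D25501) (tt N24336 (iv D25074)) (tt N25464 D25502) (tt N24384 F49641) (tt N24352 F49642))
theorem Q25038 : ∀ i, i < 25038 → P i := stepQ 25037 Q25037 (allL N25037 (tt N25464 (iv F50755)) (tt N24365 F49643) (tt N25465 D25503) (tt N24337 (iv D25075)) (tt N25361 (iv F50504)) (tt N24353 F49644))
theorem Q25039 : ∀ i, i < 25039 → P i := stepQ 25038 Q25038 (allL N25038 (tt N24774 F49645) (tt N24338 (iv D25076)) (tt N24770 F49646) (tt N24351 F49647) (tt N24774 F49648) (tt N24357 F49649))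
theorem Q25040 : ∀ i, i < 25040 → P i := stepQ 25039 Q25039 (allL N25039 (tt N24349 F49650) (tt N24776 F49651) (tt N24343 F49652) (tt N24776 F49653) (tt N24339 (iv D25077)) (tt N25466 D25504))
theorem Q25041 : ∀ i, i < 25041 → P i := stepQ 25040 Q25040 (allL N25040 (tt N24376 F49654) (tt N24340 (iv D25078)) (tt N24368 F49655) (tt N24472 F49656) (tt N24376 F49657) (tt N24389 F49658))
theorem Q25042 : ∀ i, i < 25042 → P i := stepQ 25041 Q25041 (allL N25041 (tt N24350 F49659) (tt N24603 F49660) (tt N25466 (iv F50765)) (tt N24344 F49661) (tt N25451 (iv F50721)) (tt N24343 (iv D25079)))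
theorem Q25043 : ∀ i, i < 25043 → P i := stepQ 25042 Q25042 (allL N25042 (tt N24348 F49662) (tt N25467 D25505) (tt N24345 (iv D25080)) (tt N25465 (iv F50761)) (tt N24440 F49663) (tt N25452 (iv F50723)))
theorem Q25044 : ∀ i, i < 25044 → P i := stepQ 25043 Q25043 (allL N25043 (tt N24440 F49664) (tt N25468 D25506) (tt N24346 (iv D25081)) (tt N25364 (iv F50513)) (tt N24348 F49665) (tt N25469 D25507))
theorem Q25045 : ∀ i, i < 25045 → P i := stepQ 25044 Q25044 (allL N25044 (tt N24441 F49666) (tt N24350 F49667) (tt N25469 (iv F50774)) (tt N24347 F49668) (tt N25454 (iv F50729)) (tt N24346 (iv D25082)))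
theorem Q25046 : ∀ i, i < 25046 → P i := stepQ 25045 Q25045 (allL N25045 (tt N25470 D25508) (tt N24348 (iv D25083)) (tt N24351 F49669) (tt N25471 D25509) (tt N25468 (iv F50772)) (tt N25455 (iv F50731)))
theorem Q25047 : ∀ i, i < 25047 → P i := stepQ 25046 Q25046 (allL N25046 (tt N25465 (iv F50759)) (tt N25471 (iv F50777)) (tt N25464 (iv F50757)) (tt N24348 (iv D25084)) (tt N25472 D25510) (tt N25456 (iv F50733)))
theorem Q25048 : ∀ i, i < 25048 → P i := stepQ 25047 Q25047 (allL N25047 (tt N25473 D25511) (tt N24349 (iv D25085)) (tt N25468 (iv F50771)) (tt N25473 F50780) (tt N24351 F49670) (tt N25474 D25512))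
theorem Q25049 : ∀ i, i < 25049 → P i := stepQ 25048 Q25048 (allL N25048 (tt N24776 F49671) (tt N25473 (iv F50778)) (tt N25475 D25513) (tt N24349 (iv D25086)) (tt N24775 F49672) (tt N25476 D25514))
theorem Q25050 : ∀ i, i < 25050 → P i := stepQ 25049 Q25049 (allL N25049 (tt N25466 (iv F50763)) (tt N25474 (iv F50781)) (tt N24350 F49673) (tt N25476 (iv F50789)) (tt N25461 (iv F50746)) (tt N24349 (iv D25087)))
theorem Q25051 : ∀ i, i < 25051 → P i := stepQ 25050 Q25050 (allL N25050 (tt N24351 (iv D25088)) (tt N24775 F49674) (tt N25470 (iv F50776)) (tt N24774 F49675) (tt N25473 (iv F50779)) (tt N25462 (iv F50749)))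
theorem Q25052 : ∀ i, i < 25052 → P i := stepQ 25051 Q25051 (allL N25051 (tt N24368 F49676) (tt N24352 (iv D25089)) (tt N24376 F49677) (tt N25477 D25515) (tt N24368 F49678) (tt N25463 (iv F50753)))
theorem Q25053 : ∀ i, i < 25053 → P i := stepQ 25052 Q25052 (allL N25052 (tt N24353 F49679) (tt N25477 (iv F50791)) (tt N25456 (iv F50734)) (tt N24352 (iv D25090)) (tt N25478 D25516) (tt N25464 (iv F50758)))
theorem Q25054 : ∀ i, i < 25054 → P i := stepQ 25053 Q25053 (allL N25053 (tt N25456 (iv F50732)) (tt N25479 D25517) (tt N24353 (iv D25091)) (tt N25452 (iv F50724)) (tt N25480 D25518) (tt N25465 (iv F50762)))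
theorem Q25055 : ∀ i, i < 25055 → P i := stepQ 25054 Q25054 (allL N25054 (tt N25478 (iv F50793)) (tt N24371 F49680) (tt N25480 (iv F50797)) (tt N24371 F49681) (tt N24353 (iv D25092)) (tt N25481 D25519))
theorem Q25056 : ∀ i, i < 25056 → P i := stepQ 25055 Q25055 (allL N25055 (tt N25482 D25520) (tt N24354 (iv D25093)) (tt N24357 F49682) (tt N24849 F49683) (tt N24418 F49684) (tt N24770 F49685))
theorem Q25057 : ∀ i, i < 25057 → P i := stepQ 25056 Q25056 (allL N25056 (tt N25483 D25521) (tt N24355 (iv D25094)) (tt N24418 F49686) (tt N25484 D25522) (tt N24357 F49687) (tt N25483 F50808))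
theorem Q25058 : ∀ i, i < 25058 → P i := stepQ 25057 Q25057 (allL N25057 (tt N24360 F49688) (tt N25484 (iv F50809)) (tt N25318 (iv F50378)) (tt N24355 (iv D25095)) (tt N25460 (iv F50743)) (tt N25316 F50374))
theorem Q25059 : ∀ i, i < 25059 → P i := stepQ 25058 Q25058 (allL N25058 (tt N24359 F49689) (tt N25483 (iv F50805)) (tt N24356 F49690) (tt N25316 (iv F50373)) (tt N24361 F49691) (tt N24355 (iv D25096)))
theorem Q25060 : ∀ i, i < 25060 → P i := stepQ 25059 Q25059 (allL N25059 (tt N24357 (iv D25097)) (tt N24361 F49692) (tt N25482 (iv F50801)) (tt N25462 (iv F50748)) (tt N25483 (iv F50807)) (tt N24774 F49693))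
theorem Q25061 : ∀ i, i < 25061 → P i := stepQ 25060 Q25060 (allL N25060 (tt N25460 (iv F50742)) (tt N25319 (iv F50380)) (tt N25321 (iv F50386)) (tt N24363 F49694) (tt N24360 (iv D25098)) (tt N25485 D25523))
theorem Q25062 : ∀ i, i < 25062 → P i := stepQ 25061 Q25061 (allL N25061 (tt N24362 F49695) (tt N25462 (iv F50747)) (tt N24773 F49697) (tt N24361 (iv D25099)) (tt N25486 D25524) (tt N24775 F49696))
theorem Q25063 : ∀ i, i < 25063 → P i := stepQ 25062 Q25062 (allL N25062 (tt N24773 F49698) (tt N24621 F49699) (tt N24362 (iv D25100)) (tt N24772 F49701) (tt N25487 D25525) (tt N24619 F49700))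
theorem Q25064 : ∀ i, i < 25064 → P i := stepQ 25063 Q25063 (allL N25063 (tt N25486 (iv F50811)) (tt N24363 F49702) (tt N25487 (iv F50815)) (tt N25319 (iv F50382)) (tt N24362 (iv D25101)) (tt N25488 D25526))
theorem Q25065 : ∀ i, i < 25065 → P i := stepQ 25064 Q25064 (allL N25064 (tt N25461 (iv F50744)) (tt N25488 (iv F50817)) (tt N25451 (iv F50719)) (tt N25485 (iv F50810)) (tt N25466 (iv F50767)) (tt N24363 (iv D25102)))
theorem Q25066 : ∀ i, i < 25066 → P i := stepQ 25065 Q25065 (allL N25065 (tt N25463 (iv F50750)) (tt N24364 (iv D25103)) (tt N24389 F49703) (tt N24446 F49704) (tt N24386 F49705) (tt N24368 F49706))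
theorem Q25067 : ∀ i, i < 25067 → P i := stepQ 25066 Q25066 (allL N25066 (tt N24389 F49707) (tt N24366 (iv D25104)) (tt N25463 (iv F50751)) (tt N25200 (iv F50039)) (tt N25449 (iv F50710)) (tt N24376 F49708))
theorem Q25068 : ∀ i, i < 25068 → P i := stepQ 25067 Q25067 (allL N25067 (tt N25477 (iv F50790)) (tt N24369 F49709) (tt N25489 D25527) (tt N24368 (iv D25105)) (tt N25490 D25528) (tt N24446 F49710))
theorem Q25069 : ∀ i, i < 25069 → P i := stepQ 25068 Q25068 (allL N25068 (tt N24371 F49711) (tt N25490 (iv F50822)) (tt N24438 F49712) (tt N25478 (iv F50794)) (tt N24369 (iv D25106)) (tt N25491 D25529))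
theorem Q25070 : ∀ i, i < 25070 → P i := stepQ 25069 Q25069 (allL N25069 (tt N25391 (iv F50574)) (tt N24370 (iv D25107)) (tt N25479 (iv F50795)) (tt N24432 F49713) (tt N25492 D25530) (tt N24439 F49714))
theorem Q25071 : ∀ i, i < 25071 → P i := stepQ 25070 Q25070 (allL N25070 (tt N24438 F49715) (tt N25492 (iv F50826)) (tt N24371 F49716) (tt N25493 D25531) (tt N24370 (iv D25108)) (tt N25363 (iv F50511)))
theorem Q25072 : ∀ i, i < 25072 → P i := stepQ 25071 Q25071 (allL N25071 (tt N25491 (iv F50823)) (tt N25481 (iv F50798)) (tt N25363 (iv F50510)) (tt N25481 (iv F50799)) (tt N25362 (iv F50508)) (tt N24371 (iv D25109)))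
theorem Q25073 : ∀ i, i < 25073 → P i := stepQ 25072 Q25072 (allL N25072 (tt N24710 F49717) (tt N24373 (iv D25110)) (tt N24710 F49718) (tt N24645 F49719) (tt N24375 F49720) (tt N25242 (iv F50165)))
theorem Q25074 : ∀ i, i < 25074 → P i := stepQ 25073 Q25073 (allL N25073 (tt N24472 F49721) (tt N24377 F49722) (tt N25494 D25532) (tt N24376 (iv D25111)) (tt N25495 D25533) (tt N25200 (iv F50041)))
theorem Q25075 : ∀ i, i < 25075 → P i := stepQ 25074 Q25074 (allL N25074 (tt N24379 F49723) (tt N25495 (iv F50831)) (tt N24474 F49724) (tt N24473 F49725) (tt N24377 (iv D25112)) (tt N24473 F49726))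
theorem Q25076 : ∀ i, i < 25076 → P i := stepQ 25075 Q25075 (allL N25075 (tt N24696 F49727) (tt N25196 (iv F50029)) (tt N24771 F49728) (tt N24552 F49729) (tt N24380 (iv D25113)) (tt N25075 F49730))
theorem Q25077 : ∀ i, i < 25077 → P i := stepQ 25076 Q25076 (allL N25076 (tt N24418 F49731) (tt N24381 (iv D25114)) (tt N25483 (iv F50806)) (tt N25076 F49732) (tt N25482 (iv F50803)) (tt N24418 F49733))
theorem Q25078 : ∀ i, i < 25078 → P i := stepQ 25077 Q25077 (allL N25077 (tt N24391 F49734) (tt N25482 (iv F50800)) (tt N24382 F49735) (tt N25496 D25534) (tt N24381 (iv D25115)) (tt N24475 F49736))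
theorem Q25079 : ∀ i, i < 25079 → P i := stepQ 25078 Q25078 (allL N25078 (tt N25449 (iv F50707)) (tt N24383 (iv D25116)) (tt N24386 F49737) (tt N25449 (iv F50709)) (tt N24389 F49738) (tt N25449 (iv F50711)))
theorem Q25080 : ∀ i, i < 25080 → P i := stepQ 25079 Q25079 (allL N25079 (tt N24386 F49739) (tt N24384 (iv D25117)) (tt N25449 (iv F50708)) (tt N25106 (iv F49804)) (tt N25463 (iv F50752)) (tt N24386 F49740))
theorem Q25081 : ∀ i, i < 25081 → P i := stepQ 25080 Q25080 (allL N25080 (tt N25107 (iv F49806)) (tt N24388 F49741) (tt N25100 (iv F49791)) (tt N25361 (iv F50503)) (tt N24385 (iv D25118)) (tt N25497 D25535))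
theorem Q25082 : ∀ i, i < 25082 → P i := stepQ 25081 Q25081 (allL N25081 (tt N25106 (iv F49803)) (tt N24387 F49742) (tt N25308 (iv F50355)) (tt N24386 (iv D25119)) (tt N25498 D25536) (tt N25106 (iv F49805)))
theorem Q25083 : ∀ i, i < 25083 → P i := stepQ 25082 Q25082 (allL N25082 (tt N24388 F49743) (tt N25498 (iv F50842)) (tt N25099 (iv F49786)) (tt N24447 F49744) (tt N24387 (iv D25120)) (tt N25358 (iv F50494)))
theorem Q25084 : ∀ i, i < 25084 → P i := stepQ 25083 Q25083 (allL N25083 (tt N25358 (iv F50492)) (tt N25497 (iv F50839)) (tt N24962 F49745) (tt N25362 (iv F50507)) (tt N25497 (iv F50841)) (tt N24388 (iv D25121)))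
theorem Q25085 : ∀ i, i < 25085 → P i := stepQ 25084 Q25084 (allL N25084 (tt N25200 (iv F50038)) (tt N24390 F49746) (tt N25499 D25537) (tt N24389 (iv D25122)) (tt N25200 (iv F50040)) (tt N24472 F49747))
theorem Q25086 : ∀ i, i < 25086 → P i := stepQ 25085 Q25085 (allL N25085 (tt N25496 (iv F50834)) (tt N24392 F49748) (tt N25500 D25538) (tt N24391 (iv D25123)) (tt N25085 F49749) (tt N24476 F49750))
theorem Q25087 : ∀ i, i < 25087 → P i := stepQ 25086 Q25086 (allL N25086 (tt N25029 F49751) (tt N24394 F49752) (tt N25029 F49753) (tt N24815 F49754) (tt N24393 (iv D25124)) (tt N25501 D25539))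
theorem Q25088 : ∀ i, i < 25088 → P i := stepQ 25087 Q25087 (allL N25087 (tt N24403 F49755) (tt N24815 F49756) (tt N25502 D25540) (tt N24394 (iv D25125)) (tt N24395 F49757) (tt N25503 D25541))
theorem Q25089 : ∀ i, i < 25089 → P i := stepQ 25088 Q25088 (allL N25088 (tt N24404 F49758) (tt N25501 (iv F50852)) (tt N25027 F49759) (tt N25503 (iv F50860)) (tt N24634 F49760) (tt N24394 (iv D25126)))
theorem Q25090 : ∀ i, i < 25090 → P i := stepQ 25089 Q25089 (allL N25089 (tt N24405 F49761) (tt N25179 (iv F49976)) (tt N24395 (iv D25127)) (tt N24412 F49762) (tt N25502 (iv F50857)) (tt N24411 (iv F49763)))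
theorem Q25091 : ∀ i, i < 25091 → P i := stepQ 25090 Q25090 (allL N25090 (tt N24406 F49764) (tt N24816 F49765) (tt N24411 F49766) (tt N24396 F49767) (tt N25250 (iv F50195)) (tt N24395 (iv D25128)))
theorem Q25092 : ∀ i, i < 25092 → P i := stepQ 25091 Q25091 (allL N25091 (tt N24400 F49768) (tt N24753 F49769) (tt N24755 F49772) (tt N24398 (iv D25129)) (tt N25030 F49770) (tt N24819 F49771))
theorem Q25093 : ∀ i, i < 25093 → P i := stepQ 25092 Q25092 (allL N25092 (tt N25030 F49773) (tt N24403 F49774) (tt N25504 D25542) (tt N24399 (iv D25130)) (tt N24400 F49775) (tt N25400 (iv F50598)))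
theorem Q25094 : ∀ i, i < 25094 → P i := stepQ 25093 Q25093 (allL N25093 (tt N24755 F49776) (tt N25505 D25543) (tt N24400 (iv D25131)) (tt N25175 (iv F49968)) (tt N25504 (iv F50863)) (tt N25184 (iv F49986)))
theorem Q25095 : ∀ i, i < 25095 → P i := stepQ 25094 Q25094 (allL N25094 (tt N25022 F49777) (tt N24402 F49778) (tt N25022 F49779) (tt N25225 (iv F50113)) (tt N24401 (iv D25132)) (tt N25205 (iv F50058)))
theorem Q25096 : ∀ i, i < 25096 → P i := stepQ 25095 Q25095 (allL N25095 (tt N25026 F49780) (tt N25225 (iv F50112)) (tt N25506 D25544) (tt N24402 (iv D25133)) (tt N25025 F49781) (tt N25126 (iv F49849)))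
theorem Q25097 : ∀ i, i < 25097 → P i := stepQ 25096 Q25096 (allL N25096 (tt N25502 (iv F50856)) (tt N25507 D25545) (tt N24403 (iv D25134)) (tt N25508 D25546) (tt N24405 F49782) (tt N25509 D25547))
theorem Q25098 : ∀ i, i < 25098 → P i := stepQ 25097 Q25097 (allL N25097 (tt N25503 (iv F50858)) (tt N25400 (iv F50596)) (tt N25509 (iv F50871)) (tt N24404 F49783) (tt N25399 (iv F50594)) (tt N24403 (iv D25135)))
theorem Q25099 : ∀ i, i < 25099 → P i := stepQ 25098 Q25098 (allL N25098 (tt N25510 D25548) (tt N24405 (iv D25136)) (tt N25505 (iv F50865)) (tt N25301 F50337) (tt N25507 (iv F50870)) (tt N25304 (iv F50344)))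
theorem Q25100 : ∀ i, i < 25100 → P i := stepQ 25099 Q25099 (allL N25099 (tt N24647 F49784) (tt N24791 F49785) (tt N25082 F49786) (tt N24646 F49787) (tt N24408 (iv D25137)) (tt N24898 (iv F49788)))
theorem Q25101 : ∀ i, i < 25101 → P i := stepQ 25100 Q25100 (allL N25100 (tt N24415 F49789) (tt N24648 F49790) (tt N25080 F49791) (tt N24427 F49792) (tt N24409 (iv D25138)) (tt N25370 (iv F50526)))
theorem Q25102 : ∀ i, i < 25102 → P i := stepQ 25101 Q25101 (allL N25101 (tt N24410 (iv D25139)) (tt N25303 (iv F50339)) (tt N24426 F49793) (tt N25182 (iv F49984)) (tt N25329 (iv F50411)) (tt N25177 (iv F49971)))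
theorem Q25103 : ∀ i, i < 25103 → P i := stepQ 25102 Q25102 (allL N25102 (tt N25182 (iv F49983)) (tt N24411 F49794) (tt N24817 F49795) (tt N24410 (iv D25140)) (tt N25511 D25549) (tt N25179 (iv F49977)))
theorem Q25104 : ∀ i, i < 25104 → P i := stepQ 25103 Q25103 (allL N25103 (tt N25305 (iv F50346)) (tt N25511 (iv F50875)) (tt N25250 (iv F50197)) (tt N25207 F50062) (tt N24411 (iv D25141)) (tt N25512 D25550))
theorem Q25105 : ∀ i, i < 25105 → P i := stepQ 25104 Q25104 (allL N25104 (tt N24792 F49796) (tt N25513 D25551) (tt N24413 (iv D25142)) (tt N24790 F49797) (tt N25379 (iv F50542)) (tt N24790 F49798))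
theorem Q25106 : ∀ i, i < 25106 → P i := stepQ 25105 Q25105 (allL N25105 (tt N24794 F49799) (tt N24415 F49800) (tt N25379 (iv F50541)) (tt N24428 F49801) (tt N24413 (iv D25143)) (tt N24891 F49802))
theorem Q25107 : ∀ i, i < 25107 → P i := stepQ 25106 Q25106 (allL N25106 (tt N25081 F49803) (tt N24414 (iv D25144)) (tt N25513 (iv F50880)) (tt N25079 F49804) (tt N25514 D25552) (tt N25081 F49805))
theorem Q25108 : ∀ i, i < 25108 → P i := stepQ 25107 Q25107 (allL N25107 (tt N25080 F49806) (tt N25514 (iv F50884)) (tt N24415 F49807) (tt N25515 D25553) (tt N24414 (iv D25145)) (tt N25516 D25554))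
theorem Q25109 : ∀ i, i < 25109 → P i := stepQ 25108 Q25108 (allL N25108 (tt N25370 (iv F50523)) (tt N24891 F49808) (tt N25516 (iv F50889)) (tt N24430 F49809) (tt N24898 F49810) (tt N24415 (iv D25146)))
theorem Q25110 : ∀ i, i < 25110 → P i := stepQ 25109 Q25109 (allL N25109 (tt N24795 F49811) (tt N24421 (iv D25147)) (tt N24423 F49812) (tt N25445 (iv F50697)) (tt N25233 (iv F50142)) (tt N24684 (iv F49813)))
theorem Q25111 : ∀ i, i < 25111 → P i := stepQ 25110 Q25110 (allL N25110 (tt N25173 (iv F49961)) (tt N25445 (iv F50696)) (tt N24570 F49814) (tt N24421 (iv D25148)) (tt N25517 D25555) (tt N24569 F49815))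
theorem Q25112 : ∀ i, i < 25112 → P i := stepQ 25111 Q25111 (allL N25111 (tt N24464 F49816) (tt N24684 F49817) (tt N24422 F49818) (tt N24569 F49819) (tt N24654 (iv F49820)) (tt N24421 (iv D25149)))
theorem Q25113 : ∀ i, i < 25113 → P i := stepQ 25112 Q25112 (allL N25112 (tt N24435 F49821) (tt N25366 (iv F50518)) (tt N25518 D25556) (tt N24431 (iv D25150)) (tt N25493 (iv F50828)) (tt N24578 F49822))
theorem Q25114 : ∀ i, i < 25114 → P i := stepQ 25113 Q25113 (allL N25113 (tt N24842 F49823) (tt N25519 D25557) (tt N24433 (iv D25151)) (tt N25518 (iv F50895)) (tt N25432 (iv F50666)) (tt N24434 F49824))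
theorem Q25115 : ∀ i, i < 25115 → P i := stepQ 25114 Q25114 (allL N25114 (tt N25520 D25558) (tt N24434 (iv D25152)) (tt N24678 F49825) (tt N25521 D25559) (tt N24782 F49826) (tt N25519 (iv F50899)))
theorem Q25116 : ∀ i, i < 25116 → P i := stepQ 25115 Q25115 (allL N25115 (tt N24582 F49827) (tt N25521 (iv F50906)) (tt N24578 F49828) (tt N24434 (iv D25153)) (tt N25239 (iv F50160)) (tt N25518 (iv F50896)))
theorem Q25117 : ∀ i, i < 25117 → P i := stepQ 25116 Q25116 (allL N25116 (tt N25518 (iv F50894)) (tt N24919 (iv F49831)) (tt N24435 (iv D25154)) (tt N24842 F49829) (tt N25522 D25560) (tt N24582 F49830))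
theorem Q25118 : ∀ i, i < 25118 → P i := stepQ 25117 Q25117 (allL N25117 (tt N25493 (iv F50827)) (tt N24590 F49832) (tt N25522 (iv F50908)) (tt N24438 F49833) (tt N24435 (iv D25155)) (tt N25523 D25561))
theorem Q25119 : ∀ i, i < 25119 → P i := stepQ 25118 Q25118 (allL N25118 (tt N24437 F49834) (tt N25391 (iv F50575)) (tt N25524 D25562) (tt N24436 (iv D25156)) (tt N25525 D25563) (tt N24443 F49835))
theorem Q25120 : ∀ i, i < 25120 → P i := stepQ 25119 Q25119 (allL N25119 (tt N25524 (iv F50912)) (tt N25489 (iv F50820)) (tt N24437 (iv D25157)) (tt N25526 D25564) (tt N25527 D25565) (tt N24444 F49836))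
theorem Q25121 : ∀ i, i < 25121 → P i := stepQ 25120 Q25120 (allL N25120 (tt N25525 (iv F50915)) (tt N24438 F49837) (tt N25527 (iv F50920)) (tt N24590 F49838) (tt N24437 (iv D25158)) (tt N25528 D25566))
theorem Q25122 : ∀ i, i < 25122 → P i := stepQ 25121 Q25121 (allL N25121 (tt N25363 (iv F50509)) (tt N25528 (iv F50921)) (tt N25491 (iv F50824)) (tt N25523 (iv F50910)) (tt N24448 F49839) (tt N24438 (iv D25159)))
theorem Q25123 : ∀ i, i < 25123 → P i := stepQ 25122 Q25122 (allL N25122 (tt N25390 (iv F50572)) (tt N25465 (iv F50760)) (tt N24439 (iv D25160)) (tt N25467 (iv F50769)) (tt N25359 (iv F50496)) (tt N25479 (iv F50796)))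
theorem Q25124 : ∀ i, i < 25124 → P i := stepQ 25123 Q25123 (allL N25123 (tt N25529 D25567) (tt N24440 (iv D25161)) (tt N24606 F49840) (tt N24878 F49844) (tt N25467 (iv F50770)) (tt N25530 D25568))
theorem Q25125 : ∀ i, i < 25125 → P i := stepQ 25124 Q25124 (allL N25124 (tt N25364 (iv F50512)) (tt N24878 (iv F49842)) (tt N24859 F49841) (tt N24440 (iv D25162)) (tt N25356 (iv F50488)) (tt N24863 (iv F49843)))
theorem Q25126 : ∀ i, i < 25126 → P i := stepQ 25125 Q25125 (allL N25125 (tt N25469 (iv F50773)) (tt N25530 (iv F50926)) (tt N24441 F49845) (tt N24863 F49846) (tt N25531 D25569) (tt N24440 (iv D25163)))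
theorem Q25127 : ∀ i, i < 25127 → P i := stepQ 25126 Q25126 (allL N25126 (tt N25454 (iv F50726)) (tt N24609 F49847) (tt N25531 (iv F50929)) (tt N24577 F49848) (tt N24441 (iv D25164)) (tt N25095 F49849))
theorem Q25128 : ∀ i, i < 25128 → P i := stepQ 25127 Q25127 (allL N25127 (tt N24863 F49850) (tt N25532 D25570) (tt N24442 (iv D25165)) (tt N25469 (iv F50775)) (tt N25434 (iv F50672)) (tt N25364 (iv F50514)))
theorem Q25129 : ∀ i, i < 25129 → P i := stepQ 25128 Q25128 (allL N25128 (tt N24444 F49851) (tt N25533 D25571) (tt N24443 (iv D25166)) (tt N24848 F49852) (tt N25237 (iv F50154)) (tt N25524 (iv F50914)))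
theorem Q25130 : ∀ i, i < 25130 → P i := stepQ 25129 Q25129 (allL N25129 (tt N25534 D25572) (tt N24444 (iv D25167)) (tt N24446 F49853) (tt N25535 D25573) (tt N25536 D25574) (tt N25489 (iv F50821)))
theorem Q25131 : ∀ i, i < 25131 → P i := stepQ 25130 Q25130 (allL N25130 (tt N24848 F49854) (tt N25535 (iv F50933)) (tt N24847 F49855) (tt N24444 (iv D25168)) (tt N25130 F49856) (tt N25526 (iv F50919)))
theorem Q25132 : ∀ i, i < 25132 → P i := stepQ 25131 Q25131 (allL N25131 (tt N25237 (iv F50153)) (tt N25536 (iv F50935)) (tt N24445 F49857) (tt N25131 F49858) (tt N24444 (iv D25169)) (tt N25537 D25575))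
theorem Q25133 : ∀ i, i < 25133 → P i := stepQ 25132 Q25132 (allL N25132 (tt N25238 (iv F50156)) (tt N24448 F49859) (tt N25537 (iv F50938)) (tt N24579 F49860) (tt N25528 (iv F50923)) (tt N24445 (iv D25170)))
theorem Q25134 : ∀ i, i < 25134 → P i := stepQ 25133 Q25133 (allL N25133 (tt N24446 (iv D25171)) (tt N25464 (iv F50756)) (tt N25534 (iv F50932)) (tt N25463 F50754) (tt N25538 D25576) (tt N25477 (iv F50792)))
theorem Q25135 : ∀ i, i < 25135 → P i := stepQ 25134 Q25134 (allL N25134 (tt N25538 (iv F50940)) (tt N24447 F49861) (tt N25536 (iv F50936)) (tt N25498 (iv F50843)) (tt N24446 (iv D25172)) (tt N25539 D25577))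
theorem Q25136 : ∀ i, i < 25136 → P i := stepQ 25135 Q25135 (allL N25135 (tt N25362 (iv F50505)) (tt N25539 (iv F50943)) (tt N24448 F49862) (tt N25358 (iv F50493)) (tt N25491 (iv F50825)) (tt N24447 (iv D25173)))
theorem Q25137 : ∀ i, i < 25137 → P i := stepQ 25136 Q25136 (allL N25136 (tt N24450 F49863) (tt N25195 (iv F50028)) (tt N25526 (iv F50918)) (tt N24449 (iv D25174)) (tt N25540 D25578) (tt N24847 F49864))
theorem Q25138 : ∀ i, i < 25138 → P i := stepQ 25137 Q25137 (allL N25137 (tt N25526 (iv F50917)) (tt N25541 D25579) (tt N24450 (iv D25175)) (tt N25524 (iv F50913)) (tt N25542 D25580) (tt N24848 F49865))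
theorem Q25139 : ∀ i, i < 25139 → P i := stepQ 25138 Q25138 (allL N25138 (tt N25540 (iv F50944)) (tt N24696 F49866) (tt N25542 (iv F50949)) (tt N24591 F49867) (tt N24450 (iv D25176)) (tt N25138 F49868))
theorem Q25140 : ∀ i, i < 25140 → P i := stepQ 25139 Q25139 (allL N25139 (tt N25010 F49869) (tt N24451 (iv D25177)) (tt N24456 F49870) (tt N25543 D25581) (tt N24453 F49871) (tt N25018 (iv F49872)))
theorem Q25141 : ∀ i, i < 25141 → P i := stepQ 25140 Q25140 (allL N25140 (tt N25014 F49873) (tt N25543 (iv F50952)) (tt N25476 (iv F50788)) (tt N24451 (iv D25178)) (tt N25544 D25582) (tt N25475 F50786))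
theorem Q25142 : ∀ i, i < 25142 → P i := stepQ 25141 Q25141 (allL N25141 (tt N25015 F49874) (tt N25018 F49875) (tt N24452 F49876) (tt N25475 (iv F50783)) (tt N24982 F49877) (tt N24451 (iv D25179)))
theorem Q25143 : ∀ i, i < 25143 → P i := stepQ 25142 Q25142 (allL N25142 (tt N24453 (iv D25180)) (tt N25009 F49878) (tt N24458 F49879) (tt N25381 (iv F50550)) (tt N25010 F49880) (tt N25161 (iv F49920)))
theorem Q25144 : ∀ i, i < 25144 → P i := stepQ 25143 Q25143 (allL N25143 (tt N25381 (iv F50548)) (tt N24454 F49881) (tt N24880 F49883) (tt N24453 (iv D25181)) (tt N25545 D25583) (tt N24879 F49882))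
theorem Q25145 : ∀ i, i < 25145 → P i := stepQ 25144 Q25144 (allL N25144 (tt N25204 (iv F50054)) (tt N25545 (iv F50957)) (tt N25185 (iv F49989)) (tt N25544 (iv F50955)) (tt N24454 (iv D25182)) (tt N25546 D25584))
theorem Q25146 : ∀ i, i < 25146 → P i := stepQ 25145 Q25145 (allL N25145 (tt N24456 (iv D25183)) (tt N24610 F49884) (tt N25010 F49885) (tt N24875 F49886) (tt N24458 F49887) (tt N25017 F49888))
theorem Q25147 : ∀ i, i < 25147 → P i := stepQ 25146 Q25146 (allL N25146 (tt N25380 (iv F50544)) (tt N24459 (iv D25184)) (tt N25201 (iv F50042)) (tt N25013 F49889) (tt N25201 (iv F50044)) (tt N25012 F49890))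
theorem Q25148 : ∀ i, i < 25148 → P i := stepQ 25147 Q25147 (allL N25147 (tt N25185 (iv F49987)) (tt N25202 (iv F50046)) (tt N25204 (iv F50055)) (tt N25203 (iv F50052)) (tt N24460 (iv D25185)) (tt N25202 (iv F50048)))
theorem Q25149 : ∀ i, i < 25149 → P i := stepQ 25148 Q25148 (allL N25148 (tt N24575 F49891) (tt N24463 F49892) (tt N24575 F49893) (tt N24462 F49894) (tt N25450 (iv F50716)) (tt N24461 (iv D25186)))
theorem Q25150 : ∀ i, i < 25150 → P i := stepQ 25149 Q25149 (allL N25149 (tt N24704 F49895) (tt N24466 F49896) (tt N25352 (iv F50476)) (tt N24638 F49897) (tt N24465 (iv D25187)) (tt N24888 F49898))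
theorem Q25151 : ∀ i, i < 25151 → P i := stepQ 25150 Q25150 (allL N25150 (tt N24468 F49899) (tt N24538 F49900) (tt N25547 D25585) (tt N24467 (iv D25188)) (tt N25198 (iv F50035)) (tt N24469 F49901))
theorem Q25152 : ∀ i, i < 25152 → P i := stepQ 25151 Q25151 (allL N25151 (tt N25547 (iv F50965)) (tt N25499 (iv F50844)) (tt N24468 (iv D25189)) (tt N25548 D25586) (tt N25199 (iv F50037)) (tt N24470 F49902))
theorem Q25153 : ∀ i, i < 25153 → P i := stepQ 25152 Q25152 (allL N25152 (tt N24470 F49903) (tt N25549 D25587) (tt N24469 (iv D25190)) (tt N25500 (iv F50850)) (tt N24535 F49904) (tt N25547 (iv F50967)))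
theorem Q25154 : ∀ i, i < 25154 → P i := stepQ 25153 Q25153 (allL N25153 (tt N25494 (iv F50829)) (tt N24470 (iv D25191)) (tt N24472 F49905) (tt N25550 D25588) (tt N25551 D25589) (tt N25499 (iv F50845)))
theorem Q25155 : ∀ i, i < 25155 → P i := stepQ 25154 Q25154 (allL N25154 (tt N25500 (iv F50846)) (tt N25550 (iv F50974)) (tt N25496 (iv F50838)) (tt N24470 (iv D25192)) (tt N25154 F49909) (tt N25548 (iv F50970)))
theorem Q25156 : ∀ i, i < 25156 → P i := stepQ 25155 Q25155 (allL N25155 (tt N24535 F49906) (tt N25551 (iv F50976)) (tt N24471 F49907) (tt N25155 F49908) (tt N24470 (iv D25193)) (tt N25188 (iv F49999)))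
theorem Q25157 : ∀ i, i < 25157 → P i := stepQ 25156 Q25156 (allL N25156 (tt N25495 (iv F50830)) (tt N24473 F49910) (tt N25551 (iv F50977)) (tt N25495 (iv F50832)) (tt N24472 (iv D25194)) (tt N25495 (iv F50833)))
theorem Q25158 : ∀ i, i < 25158 → P i := stepQ 25157 Q25157 (allL N25157 (tt N24770 F49911) (tt N24475 (iv D25195)) (tt N24774 F49912) (tt N25552 D25590) (tt N24770 F49913) (tt N25482 (iv F50804)))
theorem Q25159 : ∀ i, i < 25159 → P i := stepQ 25158 Q25158 (allL N25158 (tt N24476 F49914) (tt N25552 (iv F50980)) (tt N25548 (iv F50969)) (tt N24475 (iv D25196)) (tt N25553 D25591) (tt N25496 (iv F50837)))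
theorem Q25160 : ∀ i, i < 25160 → P i := stepQ 25159 Q25159 (allL N25159 (tt N25548 (iv F50968)) (tt N25197 (iv F50032)) (tt N24476 (iv D25197)) (tt N25547 (iv F50966)) (tt N25554 D25592) (tt N25500 (iv F50849)))
theorem Q25161 : ∀ i, i < 25161 → P i := stepQ 25160 Q25160 (allL N25160 (tt N25553 (iv F50982)) (tt N24771 F49915) (tt N25554 (iv F50985)) (tt N24771 F49916) (tt N24476 (iv D25198)) (tt N25160 F49917))
theorem Q25162 : ∀ i, i < 25162 → P i := stepQ 25161 Q25161 (allL N25161 (tt N24525 F49918) (tt N25235 (iv F50147)) (tt N24478 (iv D25199)) (tt N24926 F49919) (tt N25236 (iv F50152)) (tt N25142 F49920))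
theorem Q25163 : ∀ i, i < 25163 → P i := stepQ 25162 Q25162 (allL N25162 (tt N24483 F49921) (tt N24485 F49922) (tt N25555 D25593) (tt N24482 (iv D25200)) (tt N25270 (iv F50257)) (tt N24506 F49923))
theorem Q25164 : ∀ i, i < 25164 → P i := stepQ 25163 Q25163 (allL N25163 (tt N25555 (iv F50987)) (tt N24637 F49924) (tt N24483 (iv D25201)) (tt N24888 (iv F49926)) (tt N24975 (iv F49927)) (tt N24638 F49925))
theorem Q25165 : ∀ i, i < 25165 → P i := stepQ 25164 Q25164 (allL N25164 (tt N25270 (iv F50254)) (tt N24484 F49928) (tt N24975 F49929) (tt N25324 (iv F50393)) (tt N24483 (iv D25202)) (tt N24974 F49930))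
theorem Q25166 : ∀ i, i < 25166 → P i := stepQ 25165 Q25165 (allL N25165 (tt N24706 F49931) (tt N24486 (iv D25203)) (tt N24488 F49932) (tt N24499 F49933) (tt N24676 F49934) (tt N24507 F49935))
theorem Q25167 : ∀ i, i < 25167 → P i := stepQ 25166 Q25166 (allL N25166 (tt N24507 F49936) (tt N24498 F49937) (tt N24636 F49938) (tt N24496 (iv D25204)) (tt N24497 F49939) (tt N24706 F49940))
theorem Q25168 : ∀ i, i < 25168 → P i := stepQ 25167 Q25167 (allL N25167 (tt N24707 F49941) (tt N25555 (iv F50988)) (tt N24501 (iv D25205)) (tt N24705 F49942) (tt N24502 F49943) (tt N24504 F49944))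
theorem Q25169 : ∀ i, i < 25169 → P i := stepQ 25168 Q25168 (allL N25168 (tt N24975 F49945) (tt N24502 (iv D25206)) (tt N25270 (iv F50256)) (tt N24935 F49946) (tt N25555 (iv F50990)) (tt N24503 F49947))
theorem Q25170 : ∀ i, i < 25170 → P i := stepQ 25169 Q25169 (allL N25169 (tt N24638 F49948) (tt N24504 (iv D25207)) (tt N24506 F49949) (tt N24704 F49950) (tt N24505 F49951) (tt N25555 (iv F50991)))
theorem Q25171 : ∀ i, i < 25171 → P i := stepQ 25170 Q25170 (allL N25170 (tt N24802 F49952) (tt N24805 F49953) (tt N24511 (iv D25208)) (tt N25556 D25594) (tt N25422 (iv F50643)) (tt N24800 F49954))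
theorem Q25172 : ∀ i, i < 25172 → P i := stepQ 25171 Q25171 (allL N25171 (tt N25172 (iv F49958)) (tt N24513 F49955) (tt N25422 (iv F50642)) (tt N24678 F49956) (tt N24511 (iv D25209)) (tt N24681 F49957))
theorem Q25173 : ∀ i, i < 25173 → P i := stepQ 25172 Q25172 (allL N25172 (tt N25171 F49958) (tt N24514 F49959) (tt N25293 (iv F50319)) (tt N25251 (iv F50199)) (tt N24512 (iv D25210)) (tt N24777 F49960))
theorem Q25174 : ∀ i, i < 25174 → P i := stepQ 25173 Q25173 (allL N25173 (tt N25110 F49961) (tt N24886 F49962) (tt N24516 (iv D25211)) (tt N24709 F49963) (tt N25546 (iv F50964)) (tt N24884 F49964))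
theorem Q25175 : ∀ i, i < 25175 → P i := stepQ 25174 Q25174 (allL N25174 (tt N25202 (iv F50045)) (tt N24517 F49965) (tt N25546 (iv F50962)) (tt N24520 F49966) (tt N24516 (iv D25212)) (tt N25185 (iv F49991)))
theorem Q25176 : ∀ i, i < 25176 → P i := stepQ 25175 Q25175 (allL N25175 (tt N24519 F49967) (tt N25285 (iv F50299)) (tt N24518 (iv D25213)) (tt N25093 F49968) (tt N25322 (iv F50389)) (tt N25192 (iv F50018)))
theorem Q25177 : ∀ i, i < 25177 → P i := stepQ 25176 Q25176 (allL N25176 (tt N24520 F49969) (tt N25203 (iv F50050)) (tt N25322 (iv F50388)) (tt N25202 (iv F50047)) (tt N24518 (iv D25214)) (tt N25203 (iv F50053)))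
theorem Q25178 : ∀ i, i < 25178 → P i := stepQ 25177 Q25177 (allL N25177 (tt N24523 F49970) (tt N25557 D25595) (tt N24521 (iv D25215)) (tt N25276 (iv F50278)) (tt N25558 D25596) (tt N25101 F49971))
theorem Q25179 : ∀ i, i < 25179 → P i := stepQ 25178 Q25178 (allL N25178 (tt N24524 F49972) (tt N24934 F49973) (tt N25558 (iv F51000)) (tt N24914 F49974) (tt N24521 (iv D25216)) (tt N24913 F49975))
theorem Q25180 : ∀ i, i < 25180 → P i := stepQ 25179 Q25179 (allL N25179 (tt N25276 (iv F50277)) (tt N25089 F49976) (tt N25275 (iv F50275)) (tt N24523 (iv D25217)) (tt N25559 D25597) (tt N25102 F49977))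
theorem Q25181 : ∀ i, i < 25181 → P i := stepQ 25180 Q25180 (allL N25180 (tt N25558 (iv F50999)) (tt N25008 F49978) (tt N24524 F49979) (tt N25560 D25598) (tt N24523 (iv D25218)) (tt N24918 F49980))
theorem Q25182 : ∀ i, i < 25182 → P i := stepQ 25181 Q25181 (allL N25181 (tt N25236 (iv F50150)) (tt N24651 F49981) (tt N24526 F49982) (tt N25352 (iv F50477)) (tt N24525 (iv D25219)) (tt N25328 (iv F50408)))
theorem Q25183 : ∀ i, i < 25183 → P i := stepQ 25182 Q25182 (allL N25182 (tt N25102 F49983) (tt N25287 (iv F50304)) (tt N24528 (iv D25220)) (tt N25101 F49984) (tt N25561 D25599) (tt N25276 (iv F50279)))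
theorem Q25184 : ∀ i, i < 25184 → P i := stepQ 25183 Q25183 (allL N25183 (tt N25324 (iv F50391)) (tt N25273 (iv F50267)) (tt N25561 (iv F51007)) (tt N25270 F50258) (tt N24528 (iv D25221)) (tt N25269 (iv F50259)))
theorem Q25185 : ∀ i, i < 25185 → P i := stepQ 25184 Q25184 (allL N25184 (tt N25257 (iv F50211)) (tt N25286 (iv F50303)) (tt N24532 (iv D25222)) (tt N25192 (iv F50016)) (tt N24985 F49985) (tt N25093 F49986))
theorem Q25186 : ∀ i, i < 25186 → P i := stepQ 25185 Q25185 (allL N25185 (tt N25147 F49987) (tt N24766 F49988) (tt N25144 F49989) (tt N24765 F49990) (tt N24534 (iv D25223)) (tt N25174 F49991))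
theorem Q25187 : ∀ i, i < 25187 → P i := stepQ 25186 Q25186 (allL N25186 (tt N25188 (iv F49997)) (tt N24535 (iv D25224)) (tt N24536 F49992) (tt N25186 F49993) (tt N25549 (iv F50973)) (tt N24535 F49994))
theorem Q25188 : ∀ i, i < 25188 → P i := stepQ 25187 Q25187 (allL N25187 (tt N25189 (iv F50000)) (tt N24537 F49995) (tt N25549 (iv F50971)) (tt N24546 F49996) (tt N24536 (iv D25225)) (tt N25198 (iv F50036)))
theorem Q25189 : ∀ i, i < 25189 → P i := stepQ 25188 Q25188 (allL N25188 (tt N25186 F49997) (tt N25562 D25600) (tt N24539 (iv D25226)) (tt N25188 F49998) (tt N25563 D25601) (tt N25155 F49999))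
theorem Q25190 : ∀ i, i < 25190 → P i := stepQ 25189 Q25189 (allL N25189 (tt N25187 F50000) (tt N24567 F50001) (tt N25563 (iv F51016)) (tt N24548 F50002) (tt N24539 (iv D25227)) (tt N24561 F50003))
theorem Q25191 : ∀ i, i < 25191 → P i := stepQ 25190 Q25190 (allL N25190 (tt N24798 F50004) (tt N24564 F50005) (tt N24697 F50006) (tt N24542 (iv D25228)) (tt N24544 F50007) (tt N24562 F50008))
theorem Q25192 : ∀ i, i < 25192 → P i := stepQ 25191 Q25191 (allL N25191 (tt N24797 F50009) (tt N24563 F50010) (tt N24543 F50011) (tt N24562 F50012) (tt N24543 F50013) (tt N24542 (iv D25229)))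
theorem Q25193 : ∀ i, i < 25193 → P i := stepQ 25192 Q25192 (allL N25192 (tt N24690 F50014) (tt N24748 F50015) (tt N24545 (iv D25230)) (tt N25184 F50016) (tt N24571 F50017) (tt N25175 F50018))
theorem Q25194 : ∀ i, i < 25194 → P i := stepQ 25193 Q25193 (allL N25193 (tt N24559 F50019) (tt N24565 F50020) (tt N24558 F50021) (tt N24549 (iv D25231)) (tt N24565 F50022) (tt N25020 F50023))
theorem Q25195 : ∀ i, i < 25195 → P i := stepQ 25194 Q25194 (allL N25194 (tt N24555 F50024) (tt N25212 (iv F50073)) (tt N24552 F50025) (tt N25564 D25602) (tt N24551 (iv D25232)) (tt N25194 F50026))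
theorem Q25196 : ∀ i, i < 25196 → P i := stepQ 25195 Q25195 (allL N25195 (tt N24556 F50027) (tt N25136 F50028) (tt N25565 D25603) (tt N24554 (iv D25233)) (tt N25564 (iv F51020)) (tt N25331 (iv F50419)))
theorem Q25197 : ∀ i, i < 25197 → P i := stepQ 25196 Q25196 (allL N25196 (tt N25564 (iv F51018)) (tt N25075 F50029) (tt N25566 D25604) (tt N24555 (iv D25234)) (tt N24556 F50030) (tt N25196 F50031))
theorem Q25198 : ∀ i, i < 25198 → P i := stepQ 25197 Q25197 (allL N25197 (tt N25565 (iv F51022)) (tt N25159 F50032) (tt N24556 (iv D25235)) (tt N25567 D25605) (tt N25566 (iv F51025)) (tt N25332 (iv F50421)))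
theorem Q25199 : ∀ i, i < 25199 → P i := stepQ 25198 Q25198 (allL N25198 (tt N24561 F50033) (tt N24797 F50034) (tt N25567 (iv F51032)) (tt N24560 (iv D25236)) (tt N25150 F50035) (tt N25187 F50036))
theorem Q25200 : ∀ i, i < 25200 → P i := stepQ 25199 Q25199 (allL N25199 (tt N25567 (iv F51028)) (tt N25568 D25606) (tt N24561 (iv D25237)) (tt N25565 (iv F51023)) (tt N25151 F50037) (tt N25563 (iv F51017)))
theorem Q25201 : ∀ i, i < 25201 → P i := stepQ 25200 Q25200 (allL N25200 (tt N25084 F50038) (tt N24566 (iv D25238)) (tt N25568 (iv F51034)) (tt N25066 F50039) (tt N25084 F50040) (tt N25073 F50041))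
theorem Q25202 : ∀ i, i < 25202 → P i := stepQ 25201 Q25201 (allL N25201 (tt N25350 (iv F50470)) (tt N24569 (iv D25239)) (tt N25146 F50042) (tt N24684 F50043) (tt N25146 F50044) (tt N25445 (iv F50698)))
theorem Q25203 : ∀ i, i < 25203 → P i := stepQ 25202 Q25202 (allL N25202 (tt N25174 F50045) (tt N25147 F50046) (tt N25517 (iv F50891)) (tt N25176 F50047) (tt N24570 (iv D25240)) (tt N25147 F50048))
theorem Q25204 : ∀ i, i < 25204 → P i := stepQ 25203 Q25203 (allL N25203 (tt N24765 F50049) (tt N25176 F50050) (tt N24812 F50051) (tt N25147 F50052) (tt N24572 (iv D25241)) (tt N25176 F50053))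
theorem Q25205 : ∀ i, i < 25205 → P i := stepQ 25204 Q25204 (allL N25204 (tt N25144 F50054) (tt N25446 (iv F50699)) (tt N25147 F50055) (tt N25447 (iv F50702)) (tt N24573 (iv D25242)) (tt N25517 (iv F50893)))
theorem Q25206 : ∀ i, i < 25206 → P i := stepQ 25205 Q25205 (allL N25205 (tt N25450 (iv F50712)) (tt N24577 F50056) (tt N25450 (iv F50714)) (tt N24609 F50057) (tt N24575 (iv D25243)) (tt N25094 F50058))
theorem Q25207 : ∀ i, i < 25207 → P i := stepQ 25206 Q25206 (allL N25206 (tt N25240 (iv F50161)) (tt N24587 F50059) (tt N25569 D25607) (tt N24580 (iv D25244)) (tt N25523 (iv F50911)) (tt N24581 F50060))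
theorem Q25208 : ∀ i, i < 25208 → P i := stepQ 25207 Q25207 (allL N25207 (tt N25239 (iv F50159)) (tt N25209 (iv F50067)) (tt N24581 (iv D25245)) (tt N25103 (iv F50062)) (tt N24582 F50061) (tt N25569 (iv F51038)))
theorem Q25209 : ∀ i, i < 25209 → P i := stepQ 25208 Q25208 (allL N25208 (tt N24908 F50066) (tt N24582 (iv D25246)) (tt N24588 F50063) (tt N24841 F50064) (tt N25209 (iv F50068)) (tt N24919 F50065))
theorem Q25210 : ∀ i, i < 25210 → P i := stepQ 25209 Q25209 (allL N25209 (tt N25365 (iv F50515)) (tt N25207 F50067) (tt N24583 (iv D25247)) (tt N25511 (iv F50877)) (tt N25208 F50068) (tt N25570 D25608))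
theorem Q25211 : ∀ i, i < 25211 → P i := stepQ 25210 Q25210 (allL N25210 (tt N25366 (iv F50517)) (tt N24585 F50069) (tt N25570 (iv F51040)) (tt N24584 F50070) (tt N25571 D25609) (tt N24583 (iv D25248)))
theorem Q25212 : ∀ i, i < 25212 → P i := stepQ 25211 Q25211 (allL N25211 (tt N24590 F50071) (tt N25571 (iv F51041)) (tt N25213 (iv F50076)) (tt N25525 (iv F50916)) (tt N24585 (iv D25249)) (tt N25215 (iv F50084)))
theorem Q25213 : ∀ i, i < 25213 → P i := stepQ 25212 Q25212 (allL N25212 (tt N24591 F50072) (tt N25194 F50073) (tt N24591 F50074) (tt N25540 (iv F50945)) (tt N24586 (iv D25250)) (tt N25212 F50075))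
theorem Q25214 : ∀ i, i < 25214 → P i := stepQ 25213 Q25213 (allL N25213 (tt N25215 (iv F50082)) (tt N25523 (iv F50909)) (tt N25211 F50076) (tt N25528 (iv F50922)) (tt N24587 (iv D25251)) (tt N24590 F50077))
theorem Q25215 : ∀ i, i < 25215 → P i := stepQ 25214 Q25214 (allL N25214 (tt N24909 F50078) (tt N24589 F50079) (tt N24919 F50080) (tt N24905 F50081) (tt N25572 D25610) (tt N24588 (iv D25252)))
theorem Q25216 : ∀ i, i < 25216 → P i := stepQ 25215 Q25215 (allL N25215 (tt N25213 F50082) (tt N25572 (iv F51043)) (tt N24590 F50083) (tt N25573 D25611) (tt N24589 (iv D25253)) (tt N25211 F50084))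
theorem Q25217 : ∀ i, i < 25217 → P i := stepQ 25216 Q25216 (allL N25216 (tt N25392 (iv F50577)) (tt N24773 F50085) (tt N25574 D25612) (tt N24592 (iv D25254)) (tt N25575 D25613) (tt N25576 D25614))
theorem Q25218 : ∀ i, i < 25218 → P i := stepQ 25217 Q25217 (allL N25217 (tt N25393 (iv F50580)) (tt N24599 F50086) (tt N24593 F50087) (tt N25576 (iv F51055)) (tt N24981 (iv F50088)) (tt N24592 (iv D25255)))
theorem Q25219 : ∀ i, i < 25219 → P i := stepQ 25218 Q25218 (allL N25218 (tt N24599 F50089) (tt N24620 F50090) (tt N24598 (iv D25256)) (tt N24619 F50091) (tt N24979 F50092) (tt N24772 F50093))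
theorem Q25220 : ∀ i, i < 25220 → P i := stepQ 25219 Q25219 (allL N25219 (tt N24619 F50094) (tt N25576 (iv F51054)) (tt N24775 F50095) (tt N24599 (iv D25257)) (tt N25475 (iv F50784)) (tt N24773 F50096))
theorem Q25221 : ∀ i, i < 25221 → P i := stepQ 25220 Q25220 (allL N25220 (tt N25475 (iv F50782)) (tt N24602 (iv D25258)) (tt N24776 F50097) (tt N25015 F50098) (tt N24619 F50099) (tt N25014 F50100))
theorem Q25222 : ∀ i, i < 25222 → P i := stepQ 25221 Q25221 (allL N25221 (tt N24609 F50101) (tt N25451 (iv F50718)) (tt N25016 F50102) (tt N25450 (iv F50715)) (tt N24603 (iv D25259)) (tt N24622 F50103))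
theorem Q25223 : ∀ i, i < 25223 → P i := stepQ 25222 Q25222 (allL N25222 (tt N25576 (iv F51053)) (tt N24604 (iv D25260)) (tt N25467 (iv F50768)) (tt N25393 (iv F50583)) (tt N24606 F50104) (tt N25392 F50579))
theorem Q25224 : ∀ i, i < 25224 → P i := stepQ 25223 Q25223 (allL N25223 (tt N24620 F50105) (tt N25393 (iv F50581)) (tt N24624 F50106) (tt N24604 (iv D25261)) (tt N25260 (iv F50223)) (tt N24623 (iv F50107)))
theorem Q25225 : ∀ i, i < 25225 → P i := stepQ 25224 Q25224 (allL N25224 (tt N24621 F50108) (tt N25392 (iv F50578)) (tt N24605 F50109) (tt N24623 F50110) (tt N25577 D25615) (tt N24604 (iv D25262)))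
theorem Q25226 : ∀ i, i < 25226 → P i := stepQ 25225 Q25225 (allL N25225 (tt N24622 F50111) (tt N25095 F50112) (tt N25577 (iv F51058)) (tt N25094 F50113) (tt N24605 (iv D25263)) (tt N24609 F50114))
theorem Q25227 : ∀ i, i < 25227 → P i := stepQ 25226 Q25226 (allL N25226 (tt N24606 (iv D25264)) (tt N25475 F50785) (tt N25529 (iv F50924)) (tt N25018 F50119) (tt N25576 F51056) (tt N25543 (iv F50953)))
theorem Q25228 : ∀ i, i < 25228 → P i := stepQ 25227 Q25227 (allL N25227 (tt N25018 (iv F50118)) (tt N24607 F50115) (tt N25017 F50116) (tt N24606 (iv D25265)) (tt N25262 (iv F50228)) (tt N25010 F50117))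
theorem Q25229 : ∀ i, i < 25229 → P i := stepQ 25228 Q25228 (allL N25228 (tt N25543 (iv F50951)) (tt N24608 F50120) (tt N25530 (iv F50927)) (tt N25010 F50121) (tt N25578 D25616) (tt N24606 (iv D25266)))
theorem Q25230 : ∀ i, i < 25230 → P i := stepQ 25229 Q25229 (allL N25229 (tt N25016 F50122) (tt N25578 (iv F51060)) (tt N24609 F50123) (tt N25579 D25617) (tt N24608 (iv D25267)) (tt N25577 (iv F51059)))
theorem Q25231 : ∀ i, i < 25231 → P i := stepQ 25230 Q25230 (allL N25230 (tt N24611 F50124) (tt N24875 F50125) (tt N24667 F50126) (tt N24610 (iv D25268)) (tt N24666 F50127) (tt N24829 F50128))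
theorem Q25232 : ∀ i, i < 25232 → P i := stepQ 25231 Q25231 (allL N25231 (tt N24612 F50129) (tt N25017 F50130) (tt N24834 F50131) (tt N24829 F50132) (tt N24714 F50133) (tt N24610 (iv D25269)))
theorem Q25233 : ∀ i, i < 25233 → P i := stepQ 25232 Q25232 (allL N25232 (tt N24667 F50134) (tt N24835 F50135) (tt N24611 (iv D25270)) (tt N24835 F50138) (tt N24661 F50136) (tt N24830 F50137))
theorem Q25234 : ∀ i, i < 25234 → P i := stepQ 25233 Q25233 (allL N25233 (tt N24623 F50139) (tt N24772 F50140) (tt N24618 (iv D25271)) (tt N24621 F50141) (tt N25109 F50142) (tt N24620 F50143))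
theorem Q25235 : ∀ i, i < 25235 → P i := stepQ 25234 Q25234 (allL N25234 (tt N25577 (iv F51057)) (tt N25487 (iv F50814)) (tt N24622 F50144) (tt N25580 D25618) (tt N24621 (iv D25272)) (tt N25016 F50145))
theorem Q25236 : ∀ i, i < 25236 → P i := stepQ 25235 Q25235 (allL N25235 (tt N25013 F50146) (tt N25161 F50147) (tt N24625 (iv D25273)) (tt N25380 (iv F50546)) (tt N24626 F50148) (tt N25009 F50149))
theorem Q25237 : ∀ i, i < 25237 → P i := stepQ 25236 Q25236 (allL N25236 (tt N25181 F50150) (tt N24626 (iv D25274)) (tt N24853 F50151) (tt N25261 (iv F50226)) (tt N25161 F50152) (tt N25262 (iv F50229)))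
theorem Q25238 : ∀ i, i < 25238 → P i := stepQ 25237 Q25237 (allL N25237 (tt N25131 F50153) (tt N25581 D25619) (tt N24628 (iv D25275)) (tt N25237 F50155) (tt N25128 F50154) (tt N25582 D25620))
theorem Q25239 : ∀ i, i < 25239 → P i := stepQ 25238 Q25238 (allL N25238 (tt N25132 F50156) (tt N24945 F50157) (tt N25582 (iv F51071)) (tt N24629 F50158) (tt N25573 (iv F51049)) (tt N24628 (iv D25276)))
theorem Q25240 : ∀ i, i < 25240 → P i := stepQ 25239 Q25239 (allL N25239 (tt N25207 F50159) (tt N25583 D25621) (tt N24630 (iv D25277)) (tt N25305 (iv F50348)) (tt N25115 F50160) (tt N25584 D25622))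
theorem Q25241 : ∀ i, i < 25241 → P i := stepQ 25240 Q25240 (allL N25240 (tt N25206 F50161) (tt N24909 F50162) (tt N25584 (iv F51076)) (tt N24631 F50163) (tt N25585 D25623) (tt N24630 (iv D25278)))
theorem Q25242 : ∀ i, i < 25242 → P i := stepQ 25241 Q25241 (allL N25241 (tt N25399 (iv F50592)) (tt N25249 (iv F50191)) (tt N25512 (iv F50878)) (tt N24632 (iv D25279)) (tt N25503 (iv F50861)) (tt N25250 (iv F50196)))
theorem Q25243 : ∀ i, i < 25243 → P i := stepQ 25242 Q25242 (allL N25242 (tt N25264 (iv F50233)) (tt N24634 F50164) (tt N25264 (iv F50235)) (tt N24633 (iv D25280)) (tt N25501 (iv F50855)) (tt N25072 F50165))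
theorem Q25244 : ∀ i, i < 25244 → P i := stepQ 25243 Q25243 (allL N25243 (tt N24673 F50166) (tt N24852 F50167) (tt N24672 F50168) (tt N25325 (iv F50396)) (tt N24712 F50169) (tt N24641 (iv D25281)))
theorem Q25245 : ∀ i, i < 25245 → P i := stepQ 25244 Q25244 (allL N25244 (tt N24668 F50170) (tt N24708 F50171) (tt N24658 (iv D25282)) (tt N24662 F50172) (tt N24725 F50173) (tt N24661 F50174))
theorem Q25246 : ∀ i, i < 25246 → P i := stepQ 25245 Q25245 (allL N25245 (tt N24669 F50175) (tt N24662 F50176) (tt N24663 F50177) (tt N24708 F50178) (tt N25377 (iv F50538)) (tt N24660 (iv D25283)))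
theorem Q25247 : ∀ i, i < 25247 → P i := stepQ 25246 Q25246 (allL N25246 (tt N24860 F50179) (tt N24667 F50180) (tt N24861 F50181) (tt N24860 F50182) (tt N24665 (iv D25284)) (tt N25586 D25624))
theorem Q25248 : ∀ i, i < 25248 → P i := stepQ 25247 Q25247 (allL N25247 (tt N24830 F50183) (tt N25586 (iv F51082)) (tt N24829 F50184) (tt N24831 F50185) (tt N24823 F50186) (tt N24667 (iv D25285)))
theorem Q25249 : ∀ i, i < 25249 → P i := stepQ 25248 Q25248 (allL N25248 (tt N24832 F50187) (tt N24823 F50188) (tt N24873 F50189) (tt N24722 F50190) (tt N25586 (iv F51085)) (tt N24670 (iv D25286)))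
theorem Q25250 : ∀ i, i < 25250 → P i := stepQ 25249 Q25249 (allL N25249 (tt N25325 (iv F50394)) (tt N25241 F50191) (tt N25266 (iv F50243)) (tt N24673 (iv D25287)) (tt N25323 (iv F50390)) (tt N24675 F50192))
theorem Q25251 : ∀ i, i < 25251 → P i := stepQ 25250 Q25250 (allL N25250 (tt N24984 F50193) (tt N24675 F50194) (tt N25103 F50197) (tt N24674 (iv D25288)) (tt N25090 F50195) (tt N25241 F50196))
theorem Q25252 : ∀ i, i < 25252 → P i := stepQ 25251 Q25251 (allL N25251 (tt N24678 (iv D25289)) (tt N24787 F50198) (tt N25520 (iv F50901)) (tt N25172 F50199) (tt N24786 F50200) (tt N25299 (iv F50331)))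
theorem Q25253 : ∀ i, i < 25253 → P i := stepQ 25252 Q25252 (allL N25252 (tt N25299 (iv F50329)) (tt N24679 F50201) (tt N25519 (iv F50898)) (tt N24681 F50202) (tt N25433 (iv F50669)) (tt N24678 (iv D25290)))
theorem Q25254 : ∀ i, i < 25254 → P i := stepQ 25253 Q25253 (allL N25253 (tt N24760 F50203) (tt N24680 (iv D25291)) (tt N24681 F50204) (tt N25425 (iv F50654)) (tt N24761 F50205) (tt N25422 (iv F50644)))
theorem Q25255 : ∀ i, i < 25255 → P i := stepQ 25254 Q25254 (allL N25254 (tt N24689 F50206) (tt N25398 (iv F50589)) (tt N24687 F50207) (tt N25347 (iv F50465)) (tt N24686 (iv D25292)) (tt N24689 F50208))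
theorem Q25256 : ∀ i, i < 25256 → P i := stepQ 25255 Q25255 (allL N25255 (tt N25413 (iv F50620)) (tt N24689 F50209) (tt N24743 F50210) (tt N25587 D25625) (tt N24688 (iv D25293)) (tt N25398 (iv F50591)))
theorem Q25257 : ∀ i, i < 25257 → P i := stepQ 25256 Q25256 (allL N25256 (tt N25347 (iv F50463)) (tt N25587 (iv F51086)) (tt N25345 (iv F50456)) (tt N24689 (iv D25294)) (tt N25342 (iv F50447)) (tt N25347 (iv F50466)))
theorem Q25258 : ∀ i, i < 25258 → P i := stepQ 25257 Q25257 (allL N25257 (tt N25184 F50211) (tt N24691 F50212) (tt N24819 F50213) (tt N24690 (iv D25295)) (tt N24814 F50214) (tt N24755 F50215))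
theorem Q25259 : ∀ i, i < 25259 → P i := stepQ 25258 Q25258 (allL N25258 (tt N25552 (iv F50979)) (tt N24695 (iv D25296)) (tt N25541 (iv F50947)) (tt N24770 F50216) (tt N25588 D25626) (tt N24849 F50217))
theorem Q25260 : ∀ i, i < 25260 → P i := stepQ 25259 Q25259 (allL N25259 (tt N24771 F50218) (tt N25588 (iv F51087)) (tt N24696 F50219) (tt N25553 (iv F50983)) (tt N24695 (iv D25297)) (tt N25259 F50220))
theorem Q25261 : ∀ i, i < 25261 → P i := stepQ 25260 Q25260 (allL N25260 (tt N24699 F50221) (tt N25424 (iv F50648)) (tt N24698 (iv D25298)) (tt N24702 F50222) (tt N25223 F50223) (tt N24701 F50224))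
theorem Q25262 : ∀ i, i < 25262 → P i := stepQ 25261 Q25261 (allL N25261 (tt N25352 (iv F50474)) (tt N24701 (iv D25299)) (tt N24704 F50225) (tt N25236 F50226) (tt N24796 F50227) (tt N25424 (iv F50652)))
theorem Q25263 : ∀ i, i < 25263 → P i := stepQ 25262 Q25262 (allL N25262 (tt N25328 (iv F50404)) (tt N24702 (iv D25300)) (tt N25265 F50241) (tt N25424 (iv F50650)) (tt N25227 F50228) (tt N25236 F50229))
theorem Q25264 : ∀ i, i < 25264 → P i := stepQ 25263 Q25263 (allL N25263 (tt N24888 F50230) (tt N24705 F50231) (tt N25424 (iv F50649)) (tt N25555 (iv F50989)) (tt N24941 F50232) (tt N24704 (iv D25301)))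
theorem Q25265 : ∀ i, i < 25265 → P i := stepQ 25264 Q25264 (allL N25264 (tt N25242 F50233) (tt N24948 F50234) (tt N25242 F50235) (tt N24712 F50236) (tt N25457 (iv F50736)) (tt N24710 (iv D25302)))
theorem Q25266 : ∀ i, i < 25266 → P i := stepQ 25265 Q25265 (allL N25265 (tt N24836 F50237) (tt N24714 F50238) (tt N25262 (iv F50241)) (tt N24713 (iv D25303)) (tt N25017 F50239) (tt N24853 F50240))
theorem Q25267 : ∀ i, i < 25267 → P i := stepQ 25266 Q25266 (allL N25266 (tt N24821 F50242) (tt N25420 (iv F50636)) (tt N25249 F50243) (tt N24717 (iv D25304)) (tt N25589 D25627) (tt N24818 F50244))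
theorem Q25268 : ∀ i, i < 25268 → P i := stepQ 25267 Q25267 (allL N25267 (tt N24744 F50245) (tt N25421 (iv F50639)) (tt N24757 F50246) (tt N25589 (iv F51091)) (tt N24718 (iv D25305)) (tt N24757 F50247))
theorem Q25269 : ∀ i, i < 25269 → P i := stepQ 25268 Q25268 (allL N25268 (tt N24731 F50248) (tt N24821 F50249) (tt N24811 F50252) (tt N24728 (iv D25306)) (tt N24745 F50250) (tt N24751 F50251))
theorem Q25270 : ∀ i, i < 25270 → P i := stepQ 25269 Q25269 (allL N25269 (tt N25420 (iv F50635)) (tt N24731 F50253) (tt N25590 D25628) (tt N24730 (iv D25307)) (tt N25591 D25629) (tt N25183 F50259))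
theorem Q25271 : ∀ i, i < 25271 → P i := stepQ 25270 Q25270 (allL N25270 (tt N25164 F50254) (tt N24732 F50255) (tt N25168 F50256) (tt N25183 (iv F50258)) (tt N25162 F50257) (tt N24730 (iv D25308)))
theorem Q25272 : ∀ i, i < 25272 → P i := stepQ 25271 Q25271 (allL N25271 (tt N24811 F50260) (tt N25592 D25630) (tt N24731 (iv D25309)) (tt N24759 F50261) (tt N25593 D25631) (tt N24750 (iv F50262)))
theorem Q25273 : ∀ i, i < 25273 → P i := stepQ 25272 Q25272 (allL N25272 (tt N24745 F50263) (tt N25591 (iv F51094)) (tt N25593 (iv F51100)) (tt N24735 F50264) (tt N24731 (iv D25310)) (tt N24741 (iv F50265)))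
theorem Q25274 : ∀ i, i < 25274 → P i := stepQ 25273 Q25273 (allL N25273 (tt N24751 F50266) (tt N25183 F50267) (tt N24750 F50268) (tt N24732 F50269) (tt N24737 F50270) (tt N24731 (iv D25311)))
theorem Q25275 : ∀ i, i < 25275 → P i := stepQ 25274 Q25274 (allL N25274 (tt N25421 (iv F50638)) (tt N24735 F50271) (tt N25398 (iv F50590)) (tt N25591 (iv F51095)) (tt N24733 (iv D25312)) (tt N24743 F50272))
theorem Q25276 : ∀ i, i < 25276 → P i := stepQ 25275 Q25275 (allL N25275 (tt N24739 F50273) (tt N24752 F50274) (tt N25179 F50275) (tt N24738 (iv D25313)) (tt N25594 D25632) (tt N24817 F50276))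
theorem Q25277 : ∀ i, i < 25277 → P i := stepQ 25276 Q25276 (allL N25276 (tt N25179 F50277) (tt N25510 (iv F50872)) (tt N24739 (iv D25314)) (tt N25177 F50278) (tt N25595 D25633) (tt N25182 F50279))
theorem Q25278 : ∀ i, i < 25278 → P i := stepQ 25277 Q25277 (allL N25277 (tt N25594 (iv F51103)) (tt N24741 F50280) (tt N25595 (iv F51108)) (tt N24743 F50281) (tt N24739 (iv D25315)) (tt N25591 (iv F51096)))
theorem Q25279 : ∀ i, i < 25279 → P i := stepQ 25278 Q25278 (allL N25278 (tt N25505 (iv F50864)) (tt N24740 (iv D25316)) (tt N25510 (iv F50873)) (tt N24747 F50282) (tt N25596 D25634) (tt N24749 F50283))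
theorem Q25280 : ∀ i, i < 25280 → P i := stepQ 25279 Q25279 (allL N25279 (tt N24756 F50284) (tt N25596 (iv F51109)) (tt N24741 F50285) (tt N25597 D25635) (tt N24740 (iv D25317)) (tt N25593 (iv F51102)))
theorem Q25281 : ∀ i, i < 25281 → P i := stepQ 25280 Q25280 (allL N25280 (tt N24743 F50286) (tt N24757 F50287) (tt N25413 (iv F50621)) (tt N25594 (iv F51106)) (tt N24742 (iv D25318)) (tt N25421 (iv F50640)))
theorem Q25282 : ∀ i, i < 25282 → P i := stepQ 25281 Q25281 (allL N25281 (tt N25589 (iv F51089)) (tt N24745 F50288) (tt N25598 D25636) (tt N24744 (iv D25319)) (tt N24821 F50289) (tt N24754 F50290))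
theorem Q25283 : ∀ i, i < 25283 → P i := stepQ 25282 Q25282 (allL N25282 (tt N25593 (iv F51099)) (tt N25423 (iv F50645)) (tt N24745 (iv D25320)) (tt N24809 F50293) (tt N24811 F50291) (tt N24756 F50292))
theorem Q25284 : ∀ i, i < 25284 → P i := stepQ 25283 Q25283 (allL N25283 (tt N25599 D25637) (tt N24746 (iv D25321)) (tt N24763 F50294) (tt N25600 D25638) (tt N24747 F50295) (tt N24763 F50296))
theorem Q25285 : ∀ i, i < 25285 → P i := stepQ 25284 Q25284 (allL N25284 (tt N24810 F50297) (tt N25600 (iv F51123)) (tt N25597 (iv F51111)) (tt N24746 (iv D25322)) (tt N25597 (iv F51112)) (tt N24764 F50298))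
theorem Q25286 : ∀ i, i < 25286 → P i := stepQ 25285 Q25285 (allL N25285 (tt N24747 (iv D25323)) (tt N25175 F50299) (tt N24762 F50300) (tt N25505 (iv F50866)) (tt N25599 (iv F51121)) (tt N24748 F50301))
theorem Q25287 : ∀ i, i < 25287 → P i := stepQ 25286 Q25286 (allL N25286 (tt N24749 F50302) (tt N25184 F50303) (tt N25304 (iv F50345)) (tt N24748 (iv D25324)) (tt N25425 (iv F50655)) (tt N25505 (iv F50867)))
theorem Q25288 : ∀ i, i < 25288 → P i := stepQ 25287 Q25287 (allL N25287 (tt N25304 (iv F50342)) (tt N25182 F50304) (tt N24749 (iv D25325)) (tt N25303 F50341) (tt N25601 D25639) (tt N25510 (iv F50874)))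
theorem Q25289 : ∀ i, i < 25289 → P i := stepQ 25288 Q25288 (allL N25288 (tt N25425 (iv F50653)) (tt N24750 F50305) (tt N25601 (iv F51126)) (tt N24760 F50306) (tt N24749 (iv D25326)) (tt N25592 (iv F51098)))
theorem Q25290 : ∀ i, i < 25290 → P i := stepQ 25289 Q25289 (allL N25289 (tt N24754 F50307) (tt N25594 (iv F51104)) (tt N24815 F50308) (tt N24757 F50309) (tt N24752 (iv D25327)) (tt N25589 (iv F51092)))
theorem Q25291 : ∀ i, i < 25291 → P i := stepQ 25290 Q25290 (allL N25290 (tt N24815 F50310) (tt N25030 F50311) (tt N24754 F50312) (tt N25029 F50313) (tt N24753 (iv D25328)) (tt N25598 (iv F51118)))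
theorem Q25292 : ∀ i, i < 25292 → P i := stepQ 25291 Q25291 (allL N25291 (tt N25504 (iv F50862)) (tt N24756 F50314) (tt N25030 F50315) (tt N25602 D25640) (tt N24755 (iv D25329)) (tt N25423 (iv F50647)))
theorem Q25293 : ∀ i, i < 25293 → P i := stepQ 25292 Q25292 (allL N25292 (tt N25597 (iv F51110)) (tt N25602 (iv F51127)) (tt N24810 F50318) (tt N24756 (iv D25330)) (tt N24810 F50316) (tt N24809 F50317))
theorem Q25294 : ∀ i, i < 25294 → P i := stepQ 25293 Q25293 (allL N25293 (tt N25422 (iv F50641)) (tt N24759 (iv D25331)) (tt N25172 F50319) (tt N25592 (iv F51097)) (tt N24802 F50320) (tt N24760 F50321))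
theorem Q25295 : ∀ i, i < 25295 → P i := stepQ 25294 Q25294 (allL N25294 (tt N24763 F50322) (tt N24812 F50323) (tt N25599 (iv F51120)) (tt N25603 D25641) (tt N24762 (iv D25332)) (tt N25599 (iv F51122)))
theorem Q25296 : ∀ i, i < 25296 → P i := stepQ 25295 Q25295 (allL N25295 (tt N25603 (iv F51131)) (tt N24764 F50324) (tt N25604 D25642) (tt N24763 (iv D25333)) (tt N24801 F50325) (tt N25600 (iv F51124)))
theorem Q25297 : ∀ i, i < 25297 → P i := stepQ 25296 Q25296 (allL N25296 (tt N24809 F50326) (tt N25605 D25643) (tt N24764 (iv D25334)) (tt N25593 (iv F51101)) (tt N24803 F50327) (tt N25597 (iv F51113)))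
theorem Q25298 : ∀ i, i < 25298 → P i := stepQ 25297 Q25297 (allL N25297 (tt N25487 (iv F50813)) (tt N25575 (iv F51051)) (tt N25486 (iv F50812)) (tt N25546 (iv F50963)) (tt N24773 (iv D25335)) (tt N25544 (iv F50956)))
theorem Q25299 : ∀ i, i < 25299 → P i := stepQ 25298 Q25298 (allL N25298 (tt N25476 (iv F50787)) (tt N25466 (iv F50764)) (tt N25014 F50328) (tt N25466 (iv F50766)) (tt N25488 (iv F50819)) (tt N24776 (iv D25336)))
theorem Q25300 : ∀ i, i < 25300 → P i := stepQ 25299 Q25299 (allL N25299 (tt N25252 F50329) (tt N24778 F50330) (tt N25372 (iv F50529)) (tt N24777 (iv D25337)) (tt N25388 (iv F50567)) (tt N25251 F50331))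
theorem Q25301 : ∀ i, i < 25301 → P i := stepQ 25300 Q25300 (allL N25300 (tt N24780 F50332) (tt N24788 F50333) (tt N25557 (iv F50996)) (tt N24779 (iv D25338)) (tt N25606 D25644) (tt N24786 F50334))
theorem Q25302 : ∀ i, i < 25302 → P i := stepQ 25301 Q25301 (allL N25301 (tt N25557 (iv F50995)) (tt N24784 F50335) (tt N24780 (iv D25339)) (tt N25098 (iv F50337)) (tt N25607 D25645) (tt N24782 F50336))
theorem Q25303 : ∀ i, i < 25303 → P i := stepQ 25302 Q25302 (allL N25302 (tt N25606 (iv F51136)) (tt N24781 F50338) (tt N25607 (iv F51141)) (tt N25388 (iv F50566)) (tt N24780 (iv D25340)) (tt N25433 (iv F50670)))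
theorem Q25304 : ∀ i, i < 25304 → P i := stepQ 25303 Q25303 (allL N25303 (tt N24782 (iv D25341)) (tt N25101 F50339) (tt N24786 F50340) (tt N25287 (iv F50341)) (tt N25520 (iv F50902)) (tt N25557 (iv F50998)))
theorem Q25305 : ∀ i, i < 25305 → P i := stepQ 25304 Q25304 (allL N25304 (tt N25287 F50342) (tt N24783 F50343) (tt N25286 F50345) (tt N24782 (iv D25342)) (tt N25608 D25646) (tt N25098 F50344))
theorem Q25306 : ∀ i, i < 25306 → P i := stepQ 25305 Q25305 (allL N25305 (tt N25103 F50346) (tt N25608 (iv F51143)) (tt N24984 F50347) (tt N25239 F50348) (tt N24783 (iv D25343)) (tt N25609 D25647))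
theorem Q25307 : ∀ i, i < 25307 → P i := stepQ 25306 Q25306 (allL N25306 (tt N25008 F50349) (tt N25607 (iv F51140)) (tt N24785 F50350) (tt N25610 D25648) (tt N24784 (iv D25344)) (tt N25432 (iv F50667)))
theorem Q25308 : ∀ i, i < 25308 → P i := stepQ 25307 Q25307 (allL N25307 (tt N24789 F50351) (tt N25606 (iv F51137)) (tt N24934 F50352) (tt N24996 F50353) (tt N24788 (iv D25345)) (tt N24933 F50354))
theorem Q25309 : ∀ i, i < 25309 → P i := stepQ 25308 Q25308 (allL N25308 (tt N25513 (iv F50879)) (tt N24790 (iv D25346)) (tt N25081 F50355) (tt N25513 (iv F50881)) (tt N25611 D25649) (tt N25513 (iv F50882)))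
theorem Q25310 : ∀ i, i < 25310 → P i := stepQ 25309 Q25309 (allL N25309 (tt N24793 F50356) (tt N25611 (iv F51152)) (tt N24791 F50357) (tt N25354 (iv F50481)) (tt N24790 (iv D25347)) (tt N24925 (iv F50358)))
theorem Q25311 : ∀ i, i < 25311 → P i := stepQ 25310 Q25310 (allL N25310 (tt N25379 (iv F50540)) (tt N24793 F50359) (tt N24794 F50360) (tt N24895 (iv F50361)) (tt N24792 (iv D25348)) (tt N25311 (iv F50364)))
theorem Q25312 : ∀ i, i < 25312 → P i := stepQ 25311 Q25311 (allL N25311 (tt N25354 (iv F50480)) (tt N24895 F50362) (tt N24894 F50365) (tt N24793 (iv D25349)) (tt N24895 F50363) (tt N25310 F50364))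
theorem Q25313 : ∀ i, i < 25313 → P i := stepQ 25312 Q25312 (allL N25312 (tt N25445 (iv F50695)) (tt N24942 F50366) (tt N25444 (iv F50693)) (tt N24795 (iv D25350)) (tt N25612 D25650) (tt N25350 (iv F50472)))
theorem Q25314 : ∀ i, i < 25314 → P i := stepQ 25313 Q25313 (allL N25313 (tt N24801 F50367) (tt N24804 F50368) (tt N25613 D25651) (tt N24800 (iv D25351)) (tt N25603 (iv F51133)) (tt N25556 (iv F50994)))
theorem Q25315 : ∀ i, i < 25315 → P i := stepQ 25314 Q25314 (allL N25314 (tt N25613 (iv F51160)) (tt N25614 D25652) (tt N24801 (iv D25352)) (tt N25314 F50369) (tt N25604 (iv F51134)) (tt N25614 (iv F51164)))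
theorem Q25316 : ∀ i, i < 25316 → P i := stepQ 25315 Q25315 (allL N25315 (tt N25556 (iv F50992)) (tt N24803 F50370) (tt N25614 (iv F51162)) (tt N24802 F50371) (tt N25605 (iv F51135)) (tt N24801 (iv D25353)))
theorem Q25317 : ∀ i, i < 25317 → P i := stepQ 25316 Q25316 (allL N25316 (tt N24806 F50372) (tt N25615 D25653) (tt N24804 (iv D25354)) (tt N25058 F50373) (tt N25616 D25654) (tt N25057 (iv F50374)))
theorem Q25318 : ∀ i, i < 25318 → P i := stepQ 25317 Q25317 (allL N25317 (tt N24807 F50375) (tt N25603 (iv F51132)) (tt N25616 (iv F51169)) (tt N24812 F50376) (tt N24804 (iv D25355)) (tt N25617 D25655))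
theorem Q25319 : ∀ i, i < 25319 → P i := stepQ 25318 Q25318 (allL N25318 (tt N24808 F50377) (tt N25556 (iv F50993)) (tt N25057 F50378) (tt N24805 F50379) (tt N25618 D25656) (tt N24804 (iv D25356)))
theorem Q25320 : ∀ i, i < 25320 → P i := stepQ 25319 Q25319 (allL N25319 (tt N25616 (iv F51168)) (tt N25060 F50380) (tt N24807 F50381) (tt N25063 F50382) (tt N24806 (iv D25357)) (tt N25619 D25657))
theorem Q25321 : ∀ i, i < 25321 → P i := stepQ 25320 Q25320 (allL N25320 (tt N25617 (iv F51171)) (tt N24810 F50383) (tt N25619 (iv F51176)) (tt N24813 F50384) (tt N25602 (iv F51128)) (tt N24807 (iv D25358)))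
theorem Q25322 : ∀ i, i < 25322 → P i := stepQ 25321 Q25321 (allL N25321 (tt N25618 (iv F51173)) (tt N24809 F50385) (tt N25060 F50386) (tt N25423 (iv F50646)) (tt N24808 (iv D25359)) (tt N25602 (iv F51129)))
theorem Q25323 : ∀ i, i < 25323 → P i := stepQ 25322 Q25322 (allL N25322 (tt N24813 F50387) (tt N25599 (iv F51119)) (tt N25176 F50388) (tt N25617 (iv F51172)) (tt N25175 F50389) (tt N24812 (iv D25360)))
theorem Q25324 : ∀ i, i < 25324 → P i := stepQ 25323 Q25323 (allL N25323 (tt N25598 (iv F51114)) (tt N25503 (iv F50859)) (tt N25589 (iv F51090)) (tt N25501 (iv F50854)) (tt N25249 F50390) (tt N24815 (iv D25361)))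
theorem Q25325 : ∀ i, i < 25325 → P i := stepQ 25324 Q25324 (allL N25324 (tt N25183 F50391) (tt N24818 F50392) (tt N25511 (iv F50876)) (tt N25164 F50393) (tt N24817 (iv D25362)) (tt N25420 (iv F50637)))
theorem Q25326 : ∀ i, i < 25326 → P i := stepQ 25325 Q25325 (allL N25325 (tt N25249 F50394) (tt N25335 (iv F50426)) (tt N24821 F50395) (tt N25243 F50396) (tt N25598 (iv F51117)) (tt N24820 (iv D25363)))
theorem Q25327 : ∀ i, i < 25327 → P i := stepQ 25326 Q25326 (allL N25326 (tt N24827 F50397) (tt N24825 F50398) (tt N24826 F50399) (tt N25377 (iv F50537)) (tt N24824 (iv D25364)) (tt N24825 F50400))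
theorem Q25328 : ∀ i, i < 25328 → P i := stepQ 25327 Q25327 (allL N25327 (tt N25586 (iv F51081)) (tt N24831 (iv D25365)) (tt N24858 F50401) (tt N25586 (iv F51084)) (tt N24832 F50402) (tt N24860 F50403))
theorem Q25329 : ∀ i, i < 25329 → P i := stepQ 25328 Q25328 (allL N25328 (tt N25262 F50404) (tt N24982 F50405) (tt N24836 (iv D25366)) (tt N24981 F50406) (tt N25018 F50407) (tt N25181 F50408))
theorem Q25330 : ∀ i, i < 25330 → P i := stepQ 25329 Q25329 (allL N25329 (tt N24841 (iv D25367)) (tt N25520 (iv F50900)) (tt N24844 F50409) (tt N24908 F50410) (tt N25101 F50411) (tt N24915 F50412))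
theorem Q25331 : ∀ i, i < 25331 → P i := stepQ 25330 Q25330 (allL N25330 (tt N25432 (iv F50665)) (tt N24918 F50413) (tt N24843 F50414) (tt N25620 D25658) (tt N24842 (iv D25368)) (tt N25008 F50415))
theorem Q25332 : ∀ i, i < 25332 → P i := stepQ 25331 Q25331 (allL N25331 (tt N24846 F50416) (tt N24847 F50417) (tt N25621 D25659) (tt N24845 (iv D25369)) (tt N25331 F50418) (tt N25195 F50419))
theorem Q25333 : ∀ i, i < 25333 → P i := stepQ 25332 Q25332 (allL N25332 (tt N25621 (iv F51181)) (tt N25500 (iv F50847)) (tt N24846 (iv D25370)) (tt N25549 (iv F50972)) (tt N25332 F50420) (tt N25197 F50421))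
theorem Q25334 : ∀ i, i < 25334 → P i := stepQ 25333 Q25333 (allL N25333 (tt N25622 D25660) (tt N24848 (iv D25371)) (tt N24849 F50422) (tt N25533 (iv F50931)) (tt N25333 F50423) (tt N25541 (iv F50948)))
theorem Q25335 : ∀ i, i < 25335 → P i := stepQ 25334 Q25334 (allL N25334 (tt N24849 (iv D25372)) (tt N25496 (iv F50835)) (tt N25622 (iv F51185)) (tt N25482 (iv F50802)) (tt N25334 F50424) (tt N25552 (iv F50981)))
theorem Q25336 : ∀ i, i < 25336 → P i := stepQ 25335 Q25335 (allL N25335 (tt N24951 F50425) (tt N25325 F50426) (tt N24978 F50427) (tt N24852 (iv D25373)) (tt N25458 (iv F50740)) (tt N24980 F50428))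
theorem Q25337 : ∀ i, i < 25337 → P i := stepQ 25336 Q25336 (allL N25336 (tt N25448 (iv F50703)) (tt N25419 (iv F50631)) (tt N24857 (iv D25374)) (tt N24897 F50431) (tt N24867 F50429) (tt N24897 F50430))
theorem Q25338 : ∀ i, i < 25338 → P i := stepQ 25337 Q25337 (allL N25337 (tt N24858 (iv D25375)) (tt N24877 F50432) (tt N25586 (iv F51083)) (tt N25418 (iv F50629)) (tt N24873 F50433) (tt N24861 F50434))
theorem Q25339 : ∀ i, i < 25339 → P i := stepQ 25338 Q25338 (allL N25338 (tt N25440 (iv F50683)) (tt N24897 F50435) (tt N24862 (iv D25376)) (tt N25419 (iv F50633)) (tt N24874 F50436) (tt N25419 (iv F50634)))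
theorem Q25340 : ∀ i, i < 25340 → P i := stepQ 25339 Q25339 (allL N25339 (tt N25623 D25661) (tt N24863 (iv D25377)) (tt N24864 F50437) (tt N25530 (iv F50928)) (tt N25409 (iv F50617)) (tt N24878 F50438))
theorem Q25341 : ∀ i, i < 25341 → P i := stepQ 25340 Q25340 (allL N25340 (tt N24864 (iv D25378)) (tt N25418 (iv F50628)) (tt N25623 (iv F51187)) (tt N24877 F50439) (tt N25403 (iv F50607)) (tt N24876 F50440))
theorem Q25342 : ∀ i, i < 25342 → P i := stepQ 25341 Q25341 (allL N25341 (tt N24956 F50441) (tt N24865 (iv D25379)) (tt N24953 F50442) (tt N25624 D25662) (tt N24946 F50443) (tt N24889 F50444))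
theorem Q25343 : ∀ i, i < 25343 → P i := stepQ 25342 Q25342 (allL N25342 (tt N24871 F50445) (tt N25624 (iv F51190)) (tt N24869 F50446) (tt N24865 (iv D25380)) (tt N25256 F50447) (tt N24868 F50448))
theorem Q25344 : ∀ i, i < 25344 → P i := stepQ 25343 Q25343 (allL N25343 (tt N24867 F50449) (tt N25625 D25663) (tt N24866 (iv D25381)) (tt N24969 F50450) (tt N25448 (iv F50705)) (tt N25007 F50451))
theorem Q25345 : ∀ i, i < 25345 → P i := stepQ 25344 Q25344 (allL N25344 (tt N24955 F50452) (tt N24868 (iv D25382)) (tt N25426 (iv F50656)) (tt N24889 F50453) (tt N24870 F50454) (tt N25624 (iv F51192)))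
theorem Q25346 : ∀ i, i < 25346 → P i := stepQ 25345 Q25345 (allL N25345 (tt N24872 F50455) (tt N25429 (iv F50660)) (tt N25256 F50456) (tt N24881 F50457) (tt N24869 (iv D25383)) (tt N24872 F50458))
theorem Q25347 : ∀ i, i < 25347 → P i := stepQ 25346 Q25346 (allL N25346 (tt N24968 F50459) (tt N24871 F50460) (tt N24990 F50461) (tt N24890 F50462) (tt N25626 D25664) (tt N24870 (iv D25384)))
theorem Q25348 : ∀ i, i < 25348 → P i := stepQ 25347 Q25347 (allL N25347 (tt N25256 F50463) (tt N25626 (iv F51196)) (tt N24872 F50464) (tt N25254 F50465) (tt N24871 (iv D25385)) (tt N25256 F50466))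
theorem Q25349 : ∀ i, i < 25349 → P i := stepQ 25348 Q25348 (allL N25348 (tt N24878 F50467) (tt N25627 D25665) (tt N24876 (iv D25386)) (tt N25529 (iv F50925)) (tt N25383 (iv F50556)) (tt N25623 (iv F51188)))
theorem Q25350 : ∀ i, i < 25350 → P i := stepQ 25349 Q25349 (allL N25349 (tt N25382 (iv F50551)) (tt N24881 F50468) (tt N25545 (iv F50958)) (tt N25429 (iv F50661)) (tt N24880 (iv D25387)) (tt N24887 F50469))
theorem Q25351 : ∀ i, i < 25351 → P i := stepQ 25350 Q25350 (allL N25350 (tt N25201 F50470) (tt N24882 (iv D25388)) (tt N25380 (iv F50545)) (tt N25011 F50471) (tt N25380 (iv F50547)) (tt N25312 F50472))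
theorem Q25352 : ∀ i, i < 25352 → P i := stepQ 25351 Q25351 (allL N25351 (tt N24887 F50473) (tt N25382 (iv F50552)) (tt N25394 (iv F50585)) (tt N25387 (iv F50565)) (tt N24883 (iv D25389)) (tt N25382 (iv F50553)))
theorem Q25353 : ∀ i, i < 25353 → P i := stepQ 25352 Q25352 (allL N25352 (tt N25261 F50474) (tt N24983 F50475) (tt N25149 F50476) (tt N25181 F50477) (tt N24885 (iv D25390)) (tt N24981 F50478))
theorem Q25354 : ∀ i, i < 25354 → P i := stepQ 25353 Q25353 (allL N25353 (tt N25394 (iv F50584)) (tt N25546 (iv F50961)) (tt N24887 F50479) (tt N25575 (iv F51052)) (tt N24886 (iv D25391)) (tt N25545 (iv F50959)))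
theorem Q25355 : ∀ i, i < 25355 → P i := stepQ 25354 Q25354 (allL N25354 (tt N25311 F50480) (tt N25628 D25666) (tt N24891 (iv D25392)) (tt N25309 F50481) (tt N24925 F50482) (tt N25379 (iv F50543)))
theorem Q25356 : ∀ i, i < 25356 → P i := stepQ 25355 Q25355 (allL N25355 (tt N24893 F50483) (tt N24993 F50484) (tt N25629 D25667) (tt N24892 (iv D25393)) (tt N24904 F50485) (tt N24965 F50486))
theorem Q25357 : ∀ i, i < 25357 → P i := stepQ 25356 Q25356 (allL N25356 (tt N25629 (iv F51203)) (tt N24961 F50487) (tt N24893 (iv D25394)) (tt N25630 D25668) (tt N25124 F50488) (tt N24959 F50489))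
theorem Q25358 : ∀ i, i < 25358 → P i := stepQ 25357 Q25357 (allL N25357 (tt N24897 F50490) (tt N25631 D25669) (tt N24896 (iv D25395)) (tt N25448 (iv F50704)) (tt N25003 F50491) (tt N25448 (iv F50706)))
theorem Q25359 : ∀ i, i < 25359 → P i := stepQ 25358 Q25358 (allL N25358 (tt N25083 F50492) (tt N25632 D25670) (tt N24898 (iv D25396)) (tt N25135 F50493) (tt N25516 (iv F50890)) (tt N25082 F50494))
theorem Q25360 : ∀ i, i < 25360 → P i := stepQ 25359 Q25359 (allL N25359 (tt N24944 F50495) (tt N25630 (iv F51208)) (tt N24899 (iv D25397)) (tt N24961 F50497) (tt N25122 F50496) (tt N24960 (iv F50498)))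
theorem Q25361 : ∀ i, i < 25361 → P i := stepQ 25360 Q25360 (allL N25360 (tt N24945 F50499) (tt N24902 F50500) (tt N24960 F50501) (tt N24900 F50502) (tt N25633 D25671) (tt N24899 (iv D25398)))
theorem Q25362 : ∀ i, i < 25362 → P i := stepQ 25361 Q25361 (allL N25361 (tt N25515 (iv F50885)) (tt N24901 (iv D25399)) (tt N25630 (iv F51211)) (tt N25080 F50503) (tt N25037 F50504) (tt N25634 D25672))
theorem Q25363 : ∀ i, i < 25363 → P i := stepQ 25362 Q25362 (allL N25362 (tt N25135 F50505) (tt N25634 (iv F51221)) (tt N24902 F50506) (tt N25083 F50507) (tt N25071 F50508) (tt N24901 (iv D25400)))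
theorem Q25364 : ∀ i, i < 25364 → P i := stepQ 25363 Q25363 (allL N25363 (tt N25121 F50509) (tt N25633 (iv F51217)) (tt N25071 F50510) (tt N25585 (iv F51079)) (tt N24902 (iv D25401)) (tt N25070 F50511))
theorem Q25365 : ∀ i, i < 25365 → P i := stepQ 25364 Q25364 (allL N25364 (tt N25124 F50512) (tt N25635 D25673) (tt N24904 (iv D25402)) (tt N25043 F50513) (tt N25629 (iv F51204)) (tt N25127 F50514))
theorem Q25366 : ∀ i, i < 25366 → P i := stepQ 25365 Q25365 (allL N25365 (tt N25209 F50515) (tt N25636 D25674) (tt N24906 (iv D25403)) (tt N25561 (iv F51008)) (tt N24908 F50516) (tt N25637 D25675))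
theorem Q25367 : ∀ i, i < 25367 → P i := stepQ 25366 Q25366 (allL N25366 (tt N25210 F50517) (tt N25112 F50518) (tt N25637 (iv F51234)) (tt N24907 F50519) (tt N25638 D25676) (tt N24906 (iv D25404)))
theorem Q25368 : ∀ i, i < 25368 → P i := stepQ 25367 Q25367 (allL N25367 (tt N25521 (iv F50905)) (tt N24908 (iv D25405)) (tt N25583 (iv F51073)) (tt N25520 F50904) (tt N25636 (iv F51232)) (tt N25639 D25677))
theorem Q25369 : ∀ i, i < 25369 → P i := stepQ 25368 Q25368 (allL N25368 (tt N24919 F50520) (tt N25639 (iv F51240)) (tt N24909 F50521) (tt N24915 F50522) (tt N25640 D25678) (tt N24908 (iv D25406)))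
theorem Q25370 : ∀ i, i < 25370 → P i := stepQ 25369 Q25369 (allL N25369 (tt N25572 (iv F51042)) (tt N25585 (iv F51078)) (tt N25640 (iv F51243)) (tt N25633 (iv F51219)) (tt N24909 (iv D25407)) (tt N25638 (iv F51239)))
theorem Q25371 : ∀ i, i < 25371 → P i := stepQ 25370 Q25370 (allL N25370 (tt N25108 F50523) (tt N24911 F50524) (tt N25497 (iv F50840)) (tt N24910 (iv D25408)) (tt N24962 F50525) (tt N25100 F50526))
theorem Q25372 : ∀ i, i < 25372 → P i := stepQ 25371 Q25371 (allL N25371 (tt N24918 F50527) (tt N25641 D25679) (tt N24913 (iv D25409)) (tt N25642 D25680) (tt N24915 F50528) (tt N25558 (iv F51001)))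
theorem Q25373 : ∀ i, i < 25373 → P i := stepQ 25372 Q25372 (allL N25372 (tt N25519 (iv F50897)) (tt N24915 (iv D25410)) (tt N25299 F50529) (tt N25639 (iv F51241)) (tt N25641 (iv F51245)) (tt N25520 (iv F50903)))
theorem Q25374 : ∀ i, i < 25374 → P i := stepQ 25373 Q25373 (allL N25373 (tt N24987 F50530) (tt N25643 D25681) (tt N24916 (iv D25411)) (tt N25644 D25682) (tt N24931 F50531) (tt N25645 D25683))
theorem Q25375 : ∀ i, i < 25375 → P i := stepQ 25374 Q25374 (allL N25374 (tt N24988 F50532) (tt N24932 F50533) (tt N25645 (iv F51251)) (tt N24917 F50534) (tt N25646 D25684) (tt N24916 (iv D25412)))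
theorem Q25376 : ∀ i, i < 25376 → P i := stepQ 25375 Q25375 (allL N25375 (tt N25642 (iv F51246)) (tt N25620 (iv F51179)) (tt N25647 D25685) (tt N24918 (iv D25413)) (tt N25648 D25686) (tt N25560 (iv F51004)))
theorem Q25377 : ∀ i, i < 25377 → P i := stepQ 25376 Q25376 (allL N25376 (tt N25640 (iv F51242)) (tt N25522 (iv F50907)) (tt N25572 (iv F51044)) (tt N25648 (iv F51258)) (tt N24919 (iv D25414)) (tt N25649 D25687))
theorem Q25378 : ∀ i, i < 25378 → P i := stepQ 25377 Q25377 (allL N25377 (tt N24920 (iv D25415)) (tt N24922 F50535) (tt N24921 F50536) (tt N25326 F50537) (tt N25245 F50538) (tt N24922 F50539))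
theorem Q25379 : ∀ i, i < 25379 → P i := stepQ 25378 Q25378 (allL N25378 (tt N25628 (iv F51200)) (tt N24925 (iv D25416)) (tt N25632 (iv F51213)) (tt N25650 D25688) (tt N25628 (iv F51202)) (tt N25611 F51154))
theorem Q25380 : ∀ i, i < 25380 → P i := stepQ 25379 Q25379 (allL N25379 (tt N25310 F50540) (tt N25650 (iv F51262)) (tt N25105 F50541) (tt N24925 (iv D25417)) (tt N25104 F50542) (tt N25354 F50543))
theorem Q25381 : ∀ i, i < 25381 → P i := stepQ 25380 Q25380 (allL N25380 (tt N25146 F50544) (tt N24926 (iv D25418)) (tt N25350 F50545) (tt N25235 F50546) (tt N25350 F50547) (tt N25444 (iv F50694)))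
theorem Q25382 : ∀ i, i < 25382 → P i := stepQ 25381 Q25381 (allL N25381 (tt N25143 F50548) (tt N25444 (iv F50692)) (tt N24927 F50549) (tt N25142 F50550) (tt N25651 D25689) (tt N24926 (iv D25419)))
theorem Q25383 : ∀ i, i < 25383 → P i := stepQ 25382 Q25382 (allL N25382 (tt N25349 F50551) (tt N25351 F50552) (tt N25651 (iv F51268)) (tt N25646 (iv F51254)) (tt N24927 (iv D25420)) (tt N25351 F50553))
theorem Q25384 : ∀ i, i < 25384 → P i := stepQ 25383 Q25383 (allL N25383 (tt N24961 F50554) (tt N25652 D25690) (tt N24930 (iv D25421)) (tt N24944 F50555) (tt N25348 F50556) (tt N24954 F50557))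
theorem Q25385 : ∀ i, i < 25385 → P i := stepQ 25384 Q25384 (allL N25384 (tt N25414 (iv F50622)) (tt N24931 (iv D25422)) (tt N25643 (iv F51247)) (tt N25653 D25691) (tt N25643 (iv F51248)) (tt N25654 D25692))
theorem Q25386 : ∀ i, i < 25386 → P i := stepQ 25385 Q25385 (allL N25385 (tt N24990 F50558) (tt N25653 (iv F51275)) (tt N24968 F50559) (tt N24931 (iv D25423)) (tt N25655 D25693) (tt N24967 F50560))
theorem Q25387 : ∀ i, i < 25387 → P i := stepQ 25386 Q25386 (allL N25386 (tt N24991 F50561) (tt N25654 (iv F51278)) (tt N24932 F50562) (tt N24967 F50563) (tt N25656 D25694) (tt N24931 (iv D25424)))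
theorem Q25388 : ∀ i, i < 25388 → P i := stepQ 25387 Q25387 (allL N25387 (tt N24992 F50564) (tt N25646 (iv F51253)) (tt N25656 (iv F51283)) (tt N25351 F50565) (tt N24932 (iv D25425)) (tt N25646 (iv F51255)))
theorem Q25389 : ∀ i, i < 25389 → P i := stepQ 25388 Q25388 (allL N25388 (tt N25433 (iv F50668)) (tt N24933 (iv D25426)) (tt N25641 (iv F51244)) (tt N25302 F50566) (tt N25299 F50567) (tt N25606 (iv F51139)))
theorem Q25390 : ∀ i, i < 25390 → P i := stepQ 25389 Q25389 (allL N25389 (tt N24947 F50568) (tt N24966 F50569) (tt N24976 F50570) (tt N24937 F50571) (tt N25657 D25695) (tt N24936 (iv D25427)))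
theorem Q25391 : ∀ i, i < 25391 → P i := stepQ 25390 Q25390 (allL N25390 (tt N25122 F50572) (tt N25658 D25696) (tt N24938 (iv D25428)) (tt N25659 D25697) (tt N24944 F50573) (tt N25660 D25698))
theorem Q25392 : ∀ i, i < 25392 → P i := stepQ 25391 Q25391 (allL N25391 (tt N25069 F50574) (tt N25118 F50575) (tt N25660 (iv F51299)) (tt N24939 F50576) (tt N25661 D25699) (tt N24938 (iv D25429)))
theorem Q25393 : ∀ i, i < 25393 → P i := stepQ 25392 Q25392 (allL N25392 (tt N25216 F50577) (tt N25224 F50578) (tt N25662 D25700) (tt N24940 (iv D25430)) (tt N25663 D25701) (tt N25222 (iv F50579)))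
theorem Q25394 : ∀ i, i < 25394 → P i := stepQ 25393 Q25393 (allL N25393 (tt N25217 F50580) (tt N25223 F50581) (tt N24941 F50582) (tt N25222 F50583) (tt N25424 (iv F50651)) (tt N24940 (iv D25431)))
theorem Q25395 : ∀ i, i < 25395 → P i := stepQ 25394 Q25394 (allL N25394 (tt N25353 F50584) (tt N25612 (iv F51156)) (tt N25351 F50585) (tt N25663 (iv F51311)) (tt N24942 (iv D25432)) (tt N25651 (iv F51270)))
theorem Q25396 : ∀ i, i < 25396 → P i := stepQ 25395 Q25395 (allL N25395 (tt N25664 D25702) (tt N24944 (iv D25433)) (tt N25581 (iv F51067)) (tt N25652 (iv F51272)) (tt N25658 (iv F51291)) (tt N25665 D25703))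
theorem Q25397 : ∀ i, i < 25397 → P i := stepQ 25396 Q25396 (allL N25396 (tt N24960 F50586) (tt N25665 (iv F51315)) (tt N24945 F50587) (tt N24954 F50588) (tt N25666 D25704) (tt N24944 (iv D25434)))
theorem Q25398 : ∀ i, i < 25398 → P i := stepQ 25397 Q25397 (allL N25397 (tt N25633 (iv F51216)) (tt N25573 (iv F51048)) (tt N25666 (iv F51318)) (tt N25572 (iv F51045)) (tt N24945 (iv D25435)) (tt N25661 (iv F51304)))
theorem Q25399 : ∀ i, i < 25399 → P i := stepQ 25398 Q25398 (allL N25398 (tt N25657 (iv F51284)) (tt N25254 F50589) (tt N25274 F50590) (tt N25626 (iv F51198)) (tt N24947 (iv D25436)) (tt N25255 F50591))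
theorem Q25400 : ∀ i, i < 25400 → P i := stepQ 25399 Q25399 (allL N25399 (tt N25241 F50592) (tt N24951 F50593) (tt N25609 (iv F51147)) (tt N24949 (iv D25437)) (tt N25097 F50594) (tt N24984 F50595))
theorem Q25401 : ∀ i, i < 25401 → P i := stepQ 25400 Q25400 (allL N25400 (tt N25458 (iv F50737)) (tt N25097 F50596) (tt N25667 D25705) (tt N24950 (iv D25438)) (tt N24951 F50597) (tt N25092 F50598))
theorem Q25402 : ∀ i, i < 25402 → P i := stepQ 25401 Q25401 (allL N25401 (tt N24978 F50599) (tt N25668 D25706) (tt N24951 (iv D25439)) (tt N24977 F50600) (tt N25667 (iv F51321)) (tt N24985 F50601))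
theorem Q25403 : ∀ i, i < 25403 → P i := stepQ 25402 Q25402 (allL N25402 (tt N24957 F50602) (tt N25669 D25707) (tt N24952 (iv D25440)) (tt N25670 D25708) (tt N24954 F50603) (tt N25671 D25709))
theorem Q25404 : ∀ i, i < 25404 → P i := stepQ 25403 Q25403 (allL N25403 (tt N24958 F50604) (tt N24970 F50605) (tt N25671 (iv F51330)) (tt N24953 F50606) (tt N25340 F50607) (tt N24952 (iv D25441)))
theorem Q25405 : ∀ i, i < 25405 → P i := stepQ 25404 Q25404 (allL N25404 (tt N25672 D25710) (tt N24954 (iv D25442)) (tt N25002 F50608) (tt N25665 (iv F51316)) (tt N25669 (iv F51327)) (tt N25652 (iv F51274)))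
theorem Q25406 : ∀ i, i < 25406 → P i := stepQ 25405 Q25405 (allL N25405 (tt N25426 F50658) (tt N25673 D25711) (tt N24955 (iv D25443)) (tt N25674 D25712) (tt N24967 F50609) (tt N25675 D25713))
theorem Q25407 : ∀ i, i < 25407 → P i := stepQ 25406 Q25406 (allL N25406 (tt N25624 (iv F51189)) (tt N24968 F50610) (tt N25675 (iv F51337)) (tt N24956 F50611) (tt N25676 D25714) (tt N24955 (iv D25444)))
theorem Q25408 : ∀ i, i < 25408 → P i := stepQ 25407 Q25407 (allL N25407 (tt N25441 (iv F50685)) (tt N24957 (iv D25445)) (tt N24964 F50612) (tt N25677 D25715) (tt N24959 F50613) (tt N24998 (iv F50614)))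
theorem Q25409 : ∀ i, i < 25409 → P i := stepQ 25408 Q25408 (allL N25408 (tt N25670 (iv F51328)) (tt N25677 (iv F51342)) (tt N25678 D25716) (tt N24957 (iv D25446)) (tt N25679 D25717) (tt N25680 D25718))
theorem Q25410 : ∀ i, i < 25410 → P i := stepQ 25409 Q25409 (allL N25409 (tt N25671 (iv F51329)) (tt N24998 F50615) (tt N24958 F50616) (tt N25680 (iv F51348)) (tt N25339 F50617) (tt N24957 (iv D25447)))
theorem Q25411 : ∀ i, i < 25411 → P i := stepQ 25410 Q25410 (allL N25410 (tt N24959 (iv D25448)) (tt N25672 (iv F51332)) (tt N24965 F50618) (tt N25681 D25719) (tt N25441 (iv F50686)) (tt N25629 (iv F51205)))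
theorem Q25412 : ∀ i, i < 25412 → P i := stepQ 25411 Q25411 (allL N25411 (tt N25681 (iv F51349)) (tt N24960 F50619) (tt N25634 (iv F51222)) (tt N24959 (iv D25449)) (tt N25682 D25720) (tt N25630 (iv F51210)))
theorem Q25413 : ∀ i, i < 25413 → P i := stepQ 25412 Q25412 (allL N25412 (tt N25666 (iv F51317)) (tt N25682 (iv F51351)) (tt N25633 (iv F51218)) (tt N25679 (iv F51346)) (tt N24960 (iv D25450)) (tt N25683 D25721))
theorem Q25414 : ∀ i, i < 25414 → P i := stepQ 25413 Q25413 (allL N25413 (tt N25255 F50620) (tt N25657 (iv F51285)) (tt N25280 F50621) (tt N25676 (iv F51340)) (tt N24966 (iv D25451)) (tt N25657 (iv F51288)))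
theorem Q25415 : ∀ i, i < 25415 → P i := stepQ 25414 Q25414 (allL N25414 (tt N25384 F50622) (tt N24967 (iv D25452)) (tt N25673 (iv F51335)) (tt N25654 (iv F51279)) (tt N25673 (iv F51336)) (tt N25653 F51276))
theorem Q25416 : ∀ i, i < 25416 → P i := stepQ 25415 Q25415 (allL N25415 (tt N25626 (iv F51195)) (tt N25676 (iv F51339)) (tt N25655 (iv F51281)) (tt N25657 (iv F51287)) (tt N24968 (iv D25453)) (tt N25676 (iv F51341)))
theorem Q25417 : ∀ i, i < 25417 → P i := stepQ 25416 Q25416 (allL N25416 (tt N25442 (iv F50688)) (tt N24969 (iv D25454)) (tt N25669 (iv F51326)) (tt N25625 (iv F51193)) (tt N25002 F50623) (tt N25684 D25722))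
theorem Q25418 : ∀ i, i < 25418 → P i := stepQ 25417 Q25417 (allL N25417 (tt N24972 F50624) (tt N25684 (iv F51358)) (tt N24970 F50625) (tt N25007 F50626) (tt N25685 D25723) (tt N24969 (iv D25455)))
theorem Q25419 : ∀ i, i < 25419 → P i := stepQ 25418 Q25418 (allL N25418 (tt N24973 F50627) (tt N25340 F50628) (tt N25685 (iv F51361)) (tt N25337 F50629) (tt N24970 (iv D25456)) (tt N25005 F50630))
theorem Q25420 : ∀ i, i < 25420 → P i := stepQ 25419 Q25419 (allL N25419 (tt N25685 (iv F51360)) (tt N25336 F50631) (tt N24973 F50632) (tt N25338 F50633) (tt N24972 (iv D25457)) (tt N25338 F50634))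
theorem Q25421 : ∀ i, i < 25421 → P i := stepQ 25420 Q25420 (allL N25420 (tt N25269 F50635) (tt N25266 F50636) (tt N25686 D25724) (tt N24974 (iv D25458)) (tt N25687 D25725) (tt N25324 F50637))
theorem Q25422 : ∀ i, i < 25422 → P i := stepQ 25421 Q25421 (allL N25421 (tt N25274 F50638) (tt N25267 F50639) (tt N25657 (iv F51286)) (tt N25687 (iv F51370)) (tt N24976 (iv D25459)) (tt N25280 F50640))
theorem Q25423 : ∀ i, i < 25423 → P i := stepQ 25422 Q25422 (allL N25422 (tt N25293 F50641) (tt N24977 (iv D25460)) (tt N25171 F50642) (tt N25668 (iv F51324)) (tt N25170 F50643) (tt N25253 F50644))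
theorem Q25424 : ∀ i, i < 25424 → P i := stepQ 25423 Q25423 (allL N25423 (tt N25667 (iv F51319)) (tt N25282 F50645) (tt N25458 (iv F50738)) (tt N25321 F50646) (tt N24978 (iv D25461)) (tt N25291 F50647))
theorem Q25425 : ∀ i, i < 25425 → P i := stepQ 25424 Q25424 (allL N25424 (tt N24981 (iv D25462)) (tt N25260 F50648) (tt N25263 F50649) (tt N25262 F50650) (tt N25393 F50651) (tt N25261 F50652))
theorem Q25426 : ∀ i, i < 25426 → P i := stepQ 25425 Q25425 (allL N25425 (tt N25288 F50653) (tt N24985 (iv D25463)) (tt N25608 (iv F51144)) (tt N25253 F50654) (tt N25286 F50655) (tt N25668 (iv F51325)))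
theorem Q25427 : ∀ i, i < 25427 → P i := stepQ 25426 Q25426 (allL N25426 (tt N25405 (iv F50658)) (tt N24987 (iv D25464)) (tt N25344 F50656) (tt N25688 D25726) (tt N24989 F50657) (tt N25689 D25727))
theorem Q25428 : ∀ i, i < 25428 → P i := stepQ 25427 Q25427 (allL N25427 (tt N25644 (iv F51249)) (tt N25688 (iv F51373)) (tt N25560 (iv F51005)) (tt N24987 (iv D25465)) (tt N25690 D25728) (tt N25647 (iv F51256)))
theorem Q25429 : ∀ i, i < 25429 → P i := stepQ 25428 Q25428 (allL N25428 (tt N25645 (iv F51250)) (tt N25689 (iv F51377)) (tt N24988 F50659) (tt N25647 (iv F51257)) (tt N25691 D25729) (tt N24987 (iv D25466)))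
theorem Q25430 : ∀ i, i < 25430 → P i := stepQ 25429 Q25429 (allL N25429 (tt N25646 (iv F51252)) (tt N25345 F50660) (tt N25691 (iv F51381)) (tt N25349 F50661) (tt N24988 (iv D25467)) (tt N24992 F50662))
theorem Q25431 : ∀ i, i < 25431 → P i := stepQ 25430 Q25430 (allL N25430 (tt N25655 (iv F51280)) (tt N25431 (iv F50663)) (tt N25626 (iv F51197)) (tt N25690 (iv F51380)) (tt N24990 (iv D25468)) (tt N25692 D25730))
theorem Q25432 : ∀ i, i < 25432 → P i := stepQ 25431 Q25431 (allL N25431 (tt N25656 (iv F51282)) (tt N25430 F50663) (tt N24992 F50664) (tt N25693 D25731) (tt N24991 (iv D25469)) (tt N25691 (iv F51382)))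
theorem Q25433 : ∀ i, i < 25433 → P i := stepQ 25432 Q25432 (allL N25432 (tt N25330 F50665) (tt N25694 D25732) (tt N24995 (iv D25470)) (tt N25695 D25733) (tt N25113 F50666) (tt N25306 F50667))
theorem Q25434 : ∀ i, i < 25434 → P i := stepQ 25433 Q25433 (allL N25433 (tt N25388 F50668) (tt N24996 (iv D25471)) (tt N25694 (iv F51389)) (tt N25606 (iv F51138)) (tt N25252 F50669) (tt N25302 F50670))
theorem Q25435 : ∀ i, i < 25435 → P i := stepQ 25434 Q25434 (allL N25434 (tt N24998 F50671) (tt N25696 D25734) (tt N24997 (iv D25472)) (tt N25697 D25735) (tt N25127 F50672) (tt N25441 (iv F50687)))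
theorem Q25436 : ∀ i, i < 25436 → P i := stepQ 25435 Q25435 (allL N25435 (tt N25697 (iv F51396)) (tt N25680 (iv F51347)) (tt N25443 (iv F50690)) (tt N24998 (iv D25473)) (tt N25698 D25736) (tt N25677 (iv F51343)))
theorem Q25437 : ∀ i, i < 25437 → P i := stepQ 25436 Q25436 (allL N25436 (tt N25001 F50673) (tt N25437 (iv F50677)) (tt N25000 (iv D25474)) (tt N25004 F50674) (tt N25007 F50675) (tt N25003 F50676))
theorem Q25438 : ∀ i, i < 25438 → P i := stepQ 25437 Q25437 (allL N25437 (tt N25002 (iv D25475)) (tt N25436 F50677) (tt N25672 (iv F51333)) (tt N25439 (iv F50682)) (tt N25442 (iv F50689)) (tt N25438 F50679))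
theorem Q25439 : ∀ i, i < 25439 → P i := stepQ 25438 Q25438 (allL N25438 (tt N25439 (iv F50680)) (tt N25003 F50678) (tt N25699 D25737) (tt N25002 (iv D25476)) (tt N25631 (iv F51212)) (tt N25437 (iv F50679)))
theorem Q25440 : ∀ i, i < 25440 → P i := stepQ 25439 Q25439 (allL N25439 (tt N25438 F50680) (tt N25004 F50681) (tt N25652 (iv F51271)) (tt N25437 F50682) (tt N25700 D25738) (tt N25002 (iv D25477)))
theorem Q25441 : ∀ i, i < 25441 → P i := stepQ 25440 Q25440 (allL N25440 (tt N25338 F50683) (tt N25700 (iv F51405)) (tt N25005 F50684) (tt N25685 (iv F51362)) (tt N25004 (iv D25478)) (tt N25685 (iv F51363)))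
theorem Q25442 : ∀ i, i < 25442 → P i := stepQ 25441 Q25441 (allL N25441 (tt N25407 F50685) (tt N25701 D25739) (tt N25006 (iv D25479)) (tt N25702 D25740) (tt N25410 F50686) (tt N25434 F50687))
theorem Q25443 : ∀ i, i < 25443 → P i := stepQ 25442 Q25442 (allL N25442 (tt N25416 F50688) (tt N25007 (iv D25480)) (tt N25701 (iv F51408)) (tt N25684 (iv F51359)) (tt N25437 F50689) (tt N25625 (iv F51194)))
theorem Q25444 : ∀ i, i < 25444 → P i := stepQ 25443 Q25443 (allL N25443 (tt N25610 (iv F51150)) (tt N25560 (iv F51003)) (tt N25435 F50690) (tt N25008 (iv D25481)) (tt N25703 D25741) (tt N25620 (iv F51180)))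
theorem Q25445 : ∀ i, i < 25445 → P i := stepQ 25444 Q25444 (allL N25444 (tt N25012 F50691) (tt N25381 F50692) (tt N25312 F50693) (tt N25009 (iv D25482)) (tt N25579 (iv F51062)) (tt N25380 F50694))
theorem Q25446 : ∀ i, i < 25446 → P i := stepQ 25445 Q25445 (allL N25445 (tt N25312 F50695) (tt N25110 F50696) (tt N25012 (iv D25483)) (tt N25109 F50697) (tt N25580 (iv F51064)) (tt N25201 F50698))
theorem Q25447 : ∀ i, i < 25447 → P i := stepQ 25446 Q25446 (allL N25446 (tt N25579 (iv F51061)) (tt N25204 F50699) (tt N25580 (iv F51066)) (tt N25016 F50700) (tt N25012 (iv D25484)) (tt N25580 (iv F51065)))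
theorem Q25448 : ∀ i, i < 25448 → P i := stepQ 25447 Q25447 (allL N25447 (tt N25544 (iv F50954)) (tt N25016 F50701) (tt N25488 (iv F50818)) (tt N25204 F50702) (tt N25014 (iv D25485)) (tt N25487 (iv F50816)))
theorem Q25449 : ∀ i, i < 25449 → P i := stepQ 25448 Q25448 (allL N25448 (tt N25336 F50703) (tt N25704 D25742) (tt N25019 (iv D25486)) (tt N25357 F50704) (tt N25343 F50705) (tt N25357 F50706))
theorem Q25450 : ∀ i, i < 25450 → P i := stepQ 25449 Q25449 (allL N25449 (tt N25078 F50707) (tt N25021 (iv D25487)) (tt N25079 F50708) (tt N25078 F50709) (tt N25066 F50710) (tt N25078 F50711))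
theorem Q25451 : ∀ i, i < 25451 → P i := stepQ 25450 Q25450 (allL N25450 (tt N25205 F50712) (tt N25024 F50713) (tt N25205 F50714) (tt N25221 F50715) (tt N25148 F50716) (tt N25022 (iv D25488)))
theorem Q25452 : ∀ i, i < 25452 → P i := stepQ 25451 Q25451 (allL N25451 (tt N25033 F50717) (tt N25221 F50718) (tt N25064 F50719) (tt N25024 F50720) (tt N25041 F50721) (tt N25023 (iv D25489)))
theorem Q25453 : ∀ i, i < 25453 → P i := stepQ 25452 Q25452 (allL N25452 (tt N25028 F50722) (tt N25662 (iv F51306)) (tt N25025 (iv D25490)) (tt N25053 F50724) (tt N25506 (iv F50869)) (tt N25042 F50723))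
theorem Q25454 : ∀ i, i < 25454 → P i := stepQ 25453 Q25453 (allL N25453 (tt N25506 (iv F50868)) (tt N25705 D25743) (tt N25026 (iv D25491)) (tt N25706 D25744) (tt N25028 F50725) (tt N25707 D25745))
theorem Q25455 : ∀ i, i < 25455 → P i := stepQ 25454 Q25454 (allL N25454 (tt N25126 F50726) (tt N25033 F50727) (tt N25707 (iv F51424)) (tt N25027 F50728) (tt N25044 F50729) (tt N25026 (iv D25492)))
theorem Q25456 : ∀ i, i < 25456 → P i := stepQ 25455 Q25455 (allL N25455 (tt N25708 D25746) (tt N25028 (iv D25493)) (tt N25035 F50730) (tt N25709 D25747) (tt N25705 (iv F51422)) (tt N25045 F50731))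
theorem Q25457 : ∀ i, i < 25457 → P i := stepQ 25456 Q25456 (allL N25456 (tt N25053 F50732) (tt N25709 (iv F51429)) (tt N25052 F50734) (tt N25028 (iv D25494)) (tt N25710 D25748) (tt N25046 F50733))
theorem Q25458 : ∀ i, i < 25458 → P i := stepQ 25457 Q25457 (allL N25457 (tt N25501 (iv F50851)) (tt N25031 F50735) (tt N25501 (iv F50853)) (tt N25598 (iv F51116)) (tt N25264 F50736) (tt N25029 (iv D25495)))
theorem Q25459 : ∀ i, i < 25459 → P i := stepQ 25458 Q25458 (allL N25458 (tt N25400 F50737) (tt N25598 (iv F51115)) (tt N25423 F50738) (tt N25031 F50739) (tt N25335 F50740) (tt N25030 (iv D25496)))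
theorem Q25460 : ∀ i, i < 25460 → P i := stepQ 25459 Q25459 (allL N25459 (tt N25711 D25749) (tt N25032 (iv D25497)) (tt N25705 (iv F51421)) (tt N25712 D25750) (tt N25035 F50741) (tt N25713 D25751))
theorem Q25461 : ∀ i, i < 25461 → P i := stepQ 25460 Q25460 (allL N25460 (tt N25060 F50742) (tt N25712 (iv F51435)) (tt N25618 (iv F51174)) (tt N25032 (iv D25498)) (tt N25057 F50743) (tt N25714 D25752))
theorem Q25462 : ∀ i, i < 25462 → P i := stepQ 25461 Q25461 (allL N25461 (tt N25064 F50744) (tt N25713 (iv F51437)) (tt N25033 F50745) (tt N25714 (iv F51440)) (tt N25049 F50746) (tt N25032 (iv D25499)))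
theorem Q25463 : ∀ i, i < 25463 → P i := stepQ 25462 Q25462 (allL N25462 (tt N25035 (iv D25500)) (tt N25061 F50747) (tt N25708 (iv F51427)) (tt N25059 F50748) (tt N25711 (iv F51434)) (tt N25050 F50749))
theorem Q25464 : ∀ i, i < 25464 → P i := stepQ 25463 Q25463 (allL N25463 (tt N25065 F50750) (tt N25036 (iv D25501)) (tt N25066 F50751) (tt N25133 (iv F50754)) (tt N25079 F50752) (tt N25051 F50753))
theorem Q25465 : ∀ i, i < 25465 → P i := stepQ 25464 Q25464 (allL N25464 (tt N25037 F50755) (tt N25133 F50756) (tt N25046 F50757) (tt N25036 (iv D25502)) (tt N25515 (iv F50886)) (tt N25052 F50758))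
theorem Q25466 : ∀ i, i < 25466 → P i := stepQ 25465 Q25465 (allL N25465 (tt N25046 F50759) (tt N25122 F50760) (tt N25037 (iv D25503)) (tt N25042 F50761) (tt N25630 (iv F51209)) (tt N25053 F50762))
theorem Q25467 : ∀ i, i < 25467 → P i := stepQ 25466 Q25466 (allL N25466 (tt N25049 F50763) (tt N25298 F50764) (tt N25041 F50765) (tt N25298 F50766) (tt N25064 F50767) (tt N25039 (iv D25504)))
theorem Q25468 : ∀ i, i < 25468 → P i := stepQ 25467 Q25467 (allL N25467 (tt N25659 (iv F51293)) (tt N25042 (iv D25505)) (tt N25222 F50768) (tt N25122 F50769) (tt N25123 F50770) (tt N25662 (iv F51308)))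
theorem Q25469 : ∀ i, i < 25469 → P i := stepQ 25468 Q25468 (allL N25468 (tt N25715 D25753) (tt N25043 (iv D25506)) (tt N25047 F50771) (tt N25635 (iv F51227)) (tt N25045 F50772) (tt N25716 D25754))
theorem Q25470 : ∀ i, i < 25470 → P i := stepQ 25469 Q25469 (allL N25469 (tt N25125 F50773) (tt N25716 (iv F51445)) (tt N25044 F50774) (tt N25127 F50775) (tt N25707 (iv F51425)) (tt N25043 (iv D25507)))
theorem Q25471 : ∀ i, i < 25471 → P i := stepQ 25470 Q25470 (allL N25470 (tt N25045 (iv D25508)) (tt N25659 (iv F51294)) (tt N25050 F50776) (tt N25658 F51292) (tt N25715 (iv F51444)) (tt N25708 (iv F51428)))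
theorem Q25472 : ∀ i, i < 25472 → P i := stepQ 25471 Q25471 (allL N25471 (tt N25658 (iv F51289)) (tt N25046 F50777) (tt N25717 D25755) (tt N25045 (iv D25509)) (tt N25664 (iv F51314)) (tt N25709 (iv F51430)))
theorem Q25473 : ∀ i, i < 25473 → P i := stepQ 25472 Q25472 (allL N25472 (tt N25630 (iv F51207)) (tt N25664 (iv F51313)) (tt N25515 F50887) (tt N25629 (iv F51206)) (tt N25046 (iv D25510)) (tt N25681 (iv F51350)))
theorem Q25474 : ∀ i, i < 25474 → P i := stepQ 25473 Q25473 (allL N25473 (tt N25047 (iv D25511)) (tt N25048 F50778) (tt N25715 (iv F51442)) (tt N25047 (iv F50780)) (tt N25050 F50779) (tt N25718 D25756))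
theorem Q25475 : ∀ i, i < 25475 → P i := stepQ 25474 Q25474 (allL N25474 (tt N25718 (iv F51451)) (tt N25049 F50781) (tt N25716 (iv F51446)) (tt N25718 (iv F51453)) (tt N25713 (iv F51438)) (tt N25047 (iv D25512)))
theorem Q25476 : ∀ i, i < 25476 → P i := stepQ 25475 Q25475 (allL N25475 (tt N25220 F50782) (tt N25226 (iv F50785)) (tt N25048 (iv D25513)) (tt N25141 F50783) (tt N25219 F50784) (tt N25140 (iv F50786)))
theorem Q25477 : ∀ i, i < 25477 → P i := stepQ 25476 Q25476 (allL N25476 (tt N25298 F50787) (tt N25718 (iv F51452)) (tt N25140 F50788) (tt N25049 F50789) (tt N25719 D25757) (tt N25048 (iv D25514)))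
theorem Q25478 : ∀ i, i < 25478 → P i := stepQ 25477 Q25477 (allL N25477 (tt N25067 F50790) (tt N25052 F50791) (tt N25720 D25758) (tt N25051 (iv D25515)) (tt N25721 D25759) (tt N25133 F50792))
theorem Q25479 : ∀ i, i < 25479 → P i := stepQ 25478 Q25478 (allL N25478 (tt N25054 F50793) (tt N25721 (iv F51460)) (tt N25710 (iv F51432)) (tt N25068 F50794) (tt N25052 (iv D25516)) (tt N25722 D25760))
theorem Q25480 : ∀ i, i < 25480 → P i := stepQ 25479 Q25479 (allL N25479 (tt N25660 (iv F51298)) (tt N25053 (iv D25517)) (tt N25069 F50795) (tt N25662 (iv F51307)) (tt N25683 (iv F51356)) (tt N25122 F50796))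
theorem Q25481 : ∀ i, i < 25481 → P i := stepQ 25480 Q25480 (allL N25480 (tt N25710 (iv F51431)) (tt N25683 (iv F51354)) (tt N25054 F50797) (tt N25723 D25761) (tt N25053 (iv D25518)) (tt N25682 (iv F51353)))
theorem Q25482 : ∀ i, i < 25482 → P i := stepQ 25481 Q25481 (allL N25481 (tt N25722 (iv F51462)) (tt N25071 F50798) (tt N25682 (iv F51352)) (tt N25071 F50799) (tt N25634 (iv F51224)) (tt N25054 (iv D25519)))
theorem Q25483 : ∀ i, i < 25483 → P i := stepQ 25482 Q25482 (allL N25482 (tt N25055 (iv D25520)) (tt N25077 F50800) (tt N25059 F50801) (tt N25334 F50802) (tt N25076 F50803) (tt N25157 F50804))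
theorem Q25484 : ∀ i, i < 25484 → P i := stepQ 25483 Q25483 (allL N25483 (tt N25056 (iv D25521)) (tt N25058 F50805) (tt N25076 F50806) (tt N25615 (iv F51166)) (tt N25059 F50807) (tt N25056 (iv F50808)))
theorem Q25485 : ∀ i, i < 25485 → P i := stepQ 25484 Q25484 (allL N25484 (tt N25615 (iv F51165)) (tt N25057 F50809) (tt N25724 D25762) (tt N25056 (iv D25522)) (tt N25712 (iv F51436)) (tt N25615 (iv F51167)))
theorem Q25486 : ∀ i, i < 25486 → P i := stepQ 25485 Q25485 (allL N25485 (tt N25714 (iv F51439)) (tt N25619 (iv F51175)) (tt N25602 (iv F51130)) (tt N25064 F50810) (tt N25619 (iv F51178)) (tt N25060 (iv D25523)))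
theorem Q25487 : ∀ i, i < 25487 → P i := stepQ 25486 Q25486 (allL N25486 (tt N25063 F50811) (tt N25711 (iv F51433)) (tt N25297 F50812) (tt N25616 (iv F51170)) (tt N25061 (iv D25524)) (tt N25719 (iv F51456)))
theorem Q25488 : ∀ i, i < 25488 → P i := stepQ 25487 Q25487 (allL N25487 (tt N25297 F50813) (tt N25234 F50814) (tt N25063 F50815) (tt N25517 (iv F50892)) (tt N25062 (iv D25525)) (tt N25447 F50816))
theorem Q25489 : ∀ i, i < 25489 → P i := stepQ 25488 Q25488 (allL N25488 (tt N25719 (iv F51454)) (tt N25064 F50817) (tt N25447 F50818) (tt N25619 (iv F51177)) (tt N25298 F50819) (tt N25063 (iv D25526)))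
theorem Q25490 : ∀ i, i < 25490 → P i := stepQ 25489 Q25489 (allL N25489 (tt N25720 (iv F51457)) (tt N25119 F50820) (tt N25067 (iv D25527)) (tt N25725 D25763) (tt N25726 D25764) (tt N25129 F50821))
theorem Q25491 : ∀ i, i < 25491 → P i := stepQ 25490 Q25490 (allL N25490 (tt N25721 (iv F51459)) (tt N25068 F50822) (tt N25726 (iv F51468)) (tt N25721 (iv F51461)) (tt N25067 (iv D25528)) (tt N25727 D25765))
theorem Q25492 : ∀ i, i < 25492 → P i := stepQ 25491 Q25491 (allL N25491 (tt N25071 F50823) (tt N25727 (iv F51469)) (tt N25121 F50824) (tt N25722 (iv F51463)) (tt N25135 F50825) (tt N25068 (iv D25529)))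
theorem Q25493 : ∀ i, i < 25493 → P i := stepQ 25492 Q25492 (allL N25492 (tt N25661 (iv F51301)) (tt N25070 F50826) (tt N25683 (iv F51355)) (tt N25638 (iv F51238)) (tt N25069 (iv D25530)) (tt N25633 (iv F51220)))
theorem Q25494 : ∀ i, i < 25494 → P i := stepQ 25493 Q25493 (allL N25493 (tt N25117 F50827) (tt N25638 (iv F51237)) (tt N25728 D25766) (tt N25070 (iv D25531)) (tt N25112 F50828) (tt N25585 (iv F51080)))
theorem Q25495 : ∀ i, i < 25495 → P i := stepQ 25494 Q25494 (allL N25494 (tt N25153 F50829) (tt N25563 (iv F51015)) (tt N25073 (iv D25532)) (tt N25729 D25767) (tt N25562 F51013) (tt N25568 (iv F51036)))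
theorem Q25496 : ∀ i, i < 25496 → P i := stepQ 25495 Q25495 (allL N25495 (tt N25156 F50830) (tt N25074 F50831) (tt N25562 (iv F51010)) (tt N25156 F50832) (tt N25073 (iv D25533)) (tt N25156 F50833))
theorem Q25497 : ∀ i, i < 25497 → P i := stepQ 25496 Q25496 (allL N25496 (tt N25085 F50834) (tt N25334 F50835) (tt N25154 F50838) (tt N25077 (iv D25534)) (tt N25496 F50836) (tt N25158 F50837))
theorem Q25498 : ∀ i, i < 25498 → P i := stepQ 25497 Q25497 (allL N25497 (tt N25516 (iv F50888)) (tt N25083 F50839) (tt N25370 F50840) (tt N25634 (iv F51223)) (tt N25083 F50841) (tt N25080 (iv D25535)))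
theorem Q25499 : ∀ i, i < 25499 → P i := stepQ 25498 Q25498 (allL N25498 (tt N25514 (iv F50883)) (tt N25082 F50842) (tt N25611 (iv F51153)) (tt N25134 F50843) (tt N25081 (iv D25536)) (tt N25632 (iv F51215)))
theorem Q25500 : ∀ i, i < 25500 → P i := stepQ 25499 Q25499 (allL N25499 (tt N25568 (iv F51033)) (tt N25151 F50844) (tt N25084 (iv D25537)) (tt N25730 D25768) (tt N25568 (iv F51035)) (tt N25153 F50845))
theorem Q25501 : ∀ i, i < 25501 → P i := stepQ 25500 Q25500 (allL N25500 (tt N25154 F50846) (tt N25332 F50847) (tt N25085 (iv D25538)) (tt N25152 F50850) (tt N25500 F50848) (tt N25159 F50849))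
theorem Q25502 : ∀ i, i < 25502 → P i := stepQ 25501 Q25501 (allL N25501 (tt N25457 F50851) (tt N25088 F50852) (tt N25457 F50853) (tt N25323 F50854) (tt N25242 F50855) (tt N25086 (iv D25539)))
theorem Q25503 : ∀ i, i < 25503 → P i := stepQ 25502 Q25502 (allL N25502 (tt N25096 F50856) (tt N25559 (iv F51002)) (tt N25087 (iv D25540)) (tt N25703 (iv F51416)) (tt N25089 F50857) (tt N25731 D25769))
theorem Q25504 : ∀ i, i < 25504 → P i := stepQ 25503 Q25503 (allL N25503 (tt N25097 F50858) (tt N25323 F50859) (tt N25731 (iv F51480)) (tt N25088 F50860) (tt N25241 F50861) (tt N25087 (iv D25541)))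
theorem Q25505 : ∀ i, i < 25505 → P i := stepQ 25504 Q25504 (allL N25504 (tt N25291 F50862) (tt N25732 D25770) (tt N25092 (iv D25542)) (tt N25733 D25771) (tt N25093 F50863) (tt N25667 (iv F51322)))
theorem Q25506 : ∀ i, i < 25506 → P i := stepQ 25505 Q25505 (allL N25505 (tt N25278 F50864) (tt N25093 (iv D25543)) (tt N25098 F50865) (tt N25285 F50866) (tt N25732 (iv F51484)) (tt N25286 F50867))
theorem Q25507 : ∀ i, i < 25507 → P i := stepQ 25506 Q25506 (allL N25506 (tt N25453 F50868) (tt N25734 D25772) (tt N25095 (iv D25544)) (tt N25735 D25773) (tt N25452 F50869) (tt N25531 (iv F50930)))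
theorem Q25508 : ∀ i, i < 25508 → P i := stepQ 25507 Q25507 (allL N25507 (tt N25736 D25774) (tt N25096 (iv D25545)) (tt N25732 (iv F51483)) (tt N25737 D25775) (tt N25098 F50870) (tt N25738 D25776))
theorem Q25509 : ∀ i, i < 25509 → P i := stepQ 25508 Q25508 (allL N25508 (tt N25703 (iv F51414)) (tt N25737 (iv F51497)) (tt N25739 D25777) (tt N25096 (iv D25546)) (tt N25610 (iv F51151)) (tt N25740 D25778))
theorem Q25510 : ∀ i, i < 25510 → P i := stepQ 25509 Q25509 (allL N25509 (tt N25731 (iv F51479)) (tt N25738 (iv F51498)) (tt N25097 F50871) (tt N25740 (iv F51504)) (tt N25609 (iv F51149)) (tt N25096 (iv D25547)))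
theorem Q25511 : ∀ i, i < 25511 → P i := stepQ 25510 Q25510 (allL N25510 (tt N25098 (iv D25548)) (tt N25276 F50872) (tt N25278 F50873) (tt N25557 (iv F50997)) (tt N25736 (iv F51496)) (tt N25287 F50874))
theorem Q25512 : ∀ i, i < 25512 → P i := stepQ 25511 Q25511 (allL N25511 (tt N25561 (iv F51006)) (tt N25103 F50875) (tt N25324 F50876) (tt N25209 F50877) (tt N25102 (iv D25549)) (tt N25686 (iv F51367)))
theorem Q25513 : ∀ i, i < 25513 → P i := stepQ 25512 Q25512 (allL N25512 (tt N25609 (iv F51146)) (tt N25686 (iv F51365)) (tt N25241 F50878) (tt N25569 (iv F51037)) (tt N25731 (iv F51481)) (tt N25103 (iv D25550)))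
theorem Q25514 : ∀ i, i < 25514 → P i := stepQ 25513 Q25513 (allL N25513 (tt N25308 F50879) (tt N25104 (iv D25551)) (tt N25106 F50880) (tt N25308 F50881) (tt N25650 (iv F51263)) (tt N25308 F50882))
theorem Q25515 : ∀ i, i < 25515 → P i := stepQ 25514 Q25514 (allL N25514 (tt N25498 F50883) (tt N25107 F50884) (tt N25650 F51265) (tt N25538 (iv F50942)) (tt N25106 (iv D25552)) (tt N25741 D25779))
theorem Q25516 : ∀ i, i < 25516 → P i := stepQ 25515 Q25515 (allL N25515 (tt N25361 F50885) (tt N25538 (iv F50941)) (tt N25472 (iv F50887)) (tt N25107 (iv D25553)) (tt N25464 F50886) (tt N25742 D25780))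
theorem Q25517 : ∀ i, i < 25517 → P i := stepQ 25516 Q25516 (allL N25516 (tt N25497 F50888) (tt N25741 (iv F51506)) (tt N25108 F50889) (tt N25742 (iv F51511)) (tt N25358 F50890) (tt N25107 (iv D25554)))
theorem Q25518 : ∀ i, i < 25518 → P i := stepQ 25517 Q25517 (allL N25517 (tt N25546 (iv F50960)) (tt N25580 (iv F51063)) (tt N25202 F50891) (tt N25487 F50892) (tt N25110 (iv D25555)) (tt N25204 F50893))
theorem Q25519 : ∀ i, i < 25519 → P i := stepQ 25518 Q25518 (allL N25518 (tt N25116 F50894) (tt N25743 D25781) (tt N25112 (iv D25556)) (tt N25113 F50895) (tt N25728 (iv F51472)) (tt N25115 F50896))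
theorem Q25520 : ∀ i, i < 25520 → P i := stepQ 25519 Q25519 (allL N25519 (tt N25372 F50897) (tt N25113 (iv D25557)) (tt N25252 F50898) (tt N25743 (iv F51514)) (tt N25694 (iv F51390)) (tt N25114 F50899))
theorem Q25521 : ∀ i, i < 25521 → P i := stepQ 25520 Q25520 (allL N25520 (tt N25114 (iv D25558)) (tt N25329 F50900) (tt N25251 F50901) (tt N25367 (iv F50904)) (tt N25303 F50902) (tt N25372 F50903))
theorem Q25522 : ∀ i, i < 25522 → P i := stepQ 25521 Q25521 (allL N25521 (tt N25367 F50905) (tt N25115 F50906) (tt N25636 (iv F51230)) (tt N25114 (iv D25559)) (tt N25583 (iv F51074)) (tt N25743 (iv F51515)))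
theorem Q25523 : ∀ i, i < 25523 → P i := stepQ 25522 Q25522 (allL N25522 (tt N25728 (iv F51471)) (tt N25376 F50907) (tt N25117 F50908) (tt N25744 D25782) (tt N25116 (iv D25560)) (tt N25745 D25783))
theorem Q25524 : ∀ i, i < 25524 → P i := stepQ 25523 Q25523 (allL N25523 (tt N25585 (iv F51077)) (tt N25213 F50909) (tt N25745 (iv F51519)) (tt N25121 F50910) (tt N25206 F50911) (tt N25117 (iv D25561)))
theorem Q25525 : ∀ i, i < 25525 → P i := stepQ 25524 Q25524 (allL N25524 (tt N25119 F50912) (tt N25746 D25784) (tt N25118 (iv D25562)) (tt N25137 F50913) (tt N25747 D25785) (tt N25128 F50914))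
theorem Q25526 : ∀ i, i < 25526 → P i := stepQ 25525 Q25525 (allL N25525 (tt N25120 F50915) (tt N25661 (iv F51302)) (tt N25747 (iv F51524)) (tt N25211 F50916) (tt N25118 (iv D25563)) (tt N25573 (iv F51050)))
theorem Q25527 : ∀ i, i < 25527 → P i := stepQ 25526 Q25526 (allL N25526 (tt N25137 F50917) (tt N25725 (iv F51465)) (tt N25136 F50918) (tt N25119 (iv D25564)) (tt N25748 D25786) (tt N25130 F50919))
theorem Q25528 : ∀ i, i < 25528 → P i := stepQ 25527 Q25527 (allL N25527 (tt N25747 (iv F51523)) (tt N25726 (iv F51467)) (tt N25120 F50920) (tt N25749 D25787) (tt N25119 (iv D25565)) (tt N25750 D25788))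
theorem Q25529 : ∀ i, i < 25529 → P i := stepQ 25528 Q25528 (allL N25528 (tt N25573 (iv F51047)) (tt N25121 F50921) (tt N25750 (iv F51529)) (tt N25213 F50922) (tt N25132 F50923) (tt N25120 (iv D25566)))
theorem Q25530 : ∀ i, i < 25530 → P i := stepQ 25529 Q25529 (allL N25529 (tt N25123 (iv D25567)) (tt N25715 (iv F51441)) (tt N25226 F50924) (tt N25348 F50925) (tt N25659 (iv F51295)) (tt N25751 D25789))
theorem Q25531 : ∀ i, i < 25531 → P i := stepQ 25530 Q25530 (allL N25530 (tt N25751 (iv F51531)) (tt N25125 F50926) (tt N25228 F50927) (tt N25339 F50928) (tt N25752 D25790) (tt N25123 (iv D25568)))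
theorem Q25532 : ∀ i, i < 25532 → P i := stepQ 25531 Q25531 (allL N25531 (tt N25707 (iv F51423)) (tt N25752 (iv F51534)) (tt N25126 F50929) (tt N25698 (iv F51398)) (tt N25125 (iv D25569)) (tt N25506 F50930))
theorem Q25533 : ∀ i, i < 25533 → P i := stepQ 25532 Q25532 (allL N25532 (tt N25753 D25791) (tt N25127 (iv D25570)) (tt N25704 (iv F51417)) (tt N25716 (iv F51447)) (tt N25696 (iv F51395)) (tt N25635 (iv F51228)))
theorem Q25534 : ∀ i, i < 25534 → P i := stepQ 25533 Q25533 (allL N25533 (tt N25717 (iv F51448)) (tt N25128 (iv D25571)) (tt N25658 (iv F51290)) (tt N25333 F50931) (tt N25581 (iv F51069)) (tt N25746 (iv F51522)))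
theorem Q25535 : ∀ i, i < 25535 → P i := stepQ 25534 Q25534 (allL N25534 (tt N25129 (iv D25572)) (tt N25717 (iv F51449)) (tt N25133 F50932) (tt N25754 D25792) (tt N25755 D25793) (tt N25720 (iv F51458)))
theorem Q25536 : ∀ i, i < 25536 → P i := stepQ 25535 Q25535 (allL N25535 (tt N25754 (iv F51539)) (tt N25130 F50933) (tt N25729 (iv F51476)) (tt N25129 (iv D25573)) (tt N25535 F50934) (tt N25725 (iv F51466)))
theorem Q25537 : ∀ i, i < 25537 → P i := stepQ 25536 Q25536 (allL N25536 (tt N25755 (iv F51543)) (tt N25131 F50935) (tt N25134 F50936) (tt N25536 F50937) (tt N25129 (iv D25574)) (tt N25756 D25794))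
theorem Q25538 : ∀ i, i < 25538 → P i := stepQ 25537 Q25537 (allL N25537 (tt N25582 (iv F51070)) (tt N25756 (iv F51546)) (tt N25132 F50938) (tt N25537 F50939) (tt N25750 (iv F51530)) (tt N25131 (iv D25575)))
theorem Q25539 : ∀ i, i < 25539 → P i := stepQ 25538 Q25538 (allL N25538 (tt N25134 F50940) (tt N25515 F50941) (tt N25755 (iv F51544)) (tt N25514 F50942) (tt N25133 (iv D25576)) (tt N25757 D25795))
theorem Q25540 : ∀ i, i < 25540 → P i := stepQ 25539 Q25539 (allL N25539 (tt N25757 (iv F51549)) (tt N25135 F50943) (tt N25756 (iv F51547)) (tt N25632 (iv F51214)) (tt N25727 (iv F51470)) (tt N25134 (iv D25577)))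
theorem Q25541 : ∀ i, i < 25541 → P i := stepQ 25540 Q25540 (allL N25540 (tt N25138 F50944) (tt N25564 (iv F51019)) (tt N25748 (iv F51526)) (tt N25212 F50945) (tt N25136 (iv D25578)) (tt N25540 F50946))
theorem Q25542 : ∀ i, i < 25542 → P i := stepQ 25541 Q25541 (allL N25541 (tt N25758 D25796) (tt N25137 (iv D25579)) (tt N25258 F50947) (tt N25746 (iv F51521)) (tt N25759 D25797) (tt N25333 F50948))
theorem Q25543 : ∀ i, i < 25543 → P i := stepQ 25542 Q25542 (allL N25542 (tt N25748 (iv F51525)) (tt N25759 (iv F51554)) (tt N25138 F50949) (tt N25760 D25798) (tt N25137 (iv D25580)) (tt N25542 F50950))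
theorem Q25544 : ∀ i, i < 25544 → P i := stepQ 25543 Q25543 (allL N25543 (tt N25228 F50951) (tt N25140 F50952) (tt N25751 (iv F51532)) (tt N25139 (iv D25581)) (tt N25761 D25799) (tt N25226 F50953))
theorem Q25545 : ∀ i, i < 25545 → P i := stepQ 25544 Q25544 (allL N25544 (tt N25447 F50954) (tt N25761 (iv F51560)) (tt N25719 (iv F51455)) (tt N25144 F50955) (tt N25140 (iv D25582)) (tt N25297 F50956))
theorem Q25546 : ∀ i, i < 25546 → P i := stepQ 25545 Q25545 (allL N25545 (tt N25651 (iv F51266)) (tt N25144 F50957) (tt N25349 F50958) (tt N25761 (iv F51561)) (tt N25143 (iv D25583)) (tt N25353 F50959))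
theorem Q25547 : ∀ i, i < 25547 → P i := stepQ 25546 Q25546 (allL N25546 (tt N25517 F50960) (tt N25353 F50961) (tt N25174 F50962) (tt N25297 F50963) (tt N25173 F50964) (tt N25144 (iv D25584)))
theorem Q25548 : ∀ i, i < 25548 → P i := stepQ 25547 Q25547 (allL N25547 (tt N25151 F50965) (tt N25567 (iv F51029)) (tt N25150 (iv D25585)) (tt N25159 F50966) (tt N25567 (iv F51030)) (tt N25152 F50967))
theorem Q25549 : ∀ i, i < 25549 → P i := stepQ 25548 Q25548 (allL N25548 (tt N25159 F50968) (tt N25730 (iv F51477)) (tt N25158 F50969) (tt N25151 (iv D25586)) (tt N25762 D25800) (tt N25154 F50970))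
theorem Q25550 : ∀ i, i < 25550 → P i := stepQ 25549 Q25549 (allL N25549 (tt N25563 (iv F51014)) (tt N25152 (iv D25587)) (tt N25187 F50971) (tt N25332 F50972) (tt N25186 F50973) (tt N25567 (iv F51031)))
theorem Q25551 : ∀ i, i < 25551 → P i := stepQ 25550 Q25550 (allL N25550 (tt N25729 (iv F51473)) (tt N25154 F50974) (tt N25754 (iv F51541)) (tt N25153 (iv D25588)) (tt N25550 F50975) (tt N25730 (iv F51478)))
theorem Q25552 : ∀ i, i < 25552 → P i := stepQ 25551 Q25551 (allL N25551 (tt N25562 (iv F51009)) (tt N25155 F50976) (tt N25156 F50977) (tt N25551 F50978) (tt N25153 (iv D25589)) (tt N25562 (iv F51012)))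
theorem Q25553 : ∀ i, i < 25553 → P i := stepQ 25552 Q25552 (allL N25552 (tt N25258 F50979) (tt N25158 F50980) (tt N25758 (iv F51552)) (tt N25157 (iv D25590)) (tt N25763 D25801) (tt N25334 F50981))
theorem Q25554 : ∀ i, i < 25554 → P i := stepQ 25553 Q25553 (allL N25553 (tt N25160 F50982) (tt N25763 (iv F51567)) (tt N25762 (iv F51564)) (tt N25259 F50983) (tt N25158 (iv D25591)) (tt N25553 F50984))
theorem Q25555 : ∀ i, i < 25555 → P i := stepQ 25554 Q25554 (allL N25554 (tt N25762 (iv F51563)) (tt N25566 (iv F51024)) (tt N25160 F50985) (tt N25566 (iv F51027)) (tt N25159 (iv D25592)) (tt N25554 F50986))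
theorem Q25556 : ∀ i, i < 25556 → P i := stepQ 25555 Q25555 (allL N25555 (tt N25163 F50987) (tt N25167 F50988) (tt N25162 (iv D25593)) (tt N25263 F50989) (tt N25168 F50990) (tt N25169 F50991))
theorem Q25557 : ∀ i, i < 25557 → P i := stepQ 25556 Q25556 (allL N25556 (tt N25315 F50992) (tt N25318 F50993) (tt N25764 D25802) (tt N25170 (iv D25594)) (tt N25765 D25803) (tt N25313 F50994))
theorem Q25558 : ∀ i, i < 25558 → P i := stepQ 25557 Q25557 (allL N25557 (tt N25301 F50995) (tt N25177 (iv D25595)) (tt N25300 F50996) (tt N25510 F50997) (tt N25766 D25804) (tt N25303 F50998))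
theorem Q25559 : ∀ i, i < 25559 → P i := stepQ 25558 Q25558 (allL N25558 (tt N25180 F50999) (tt N25766 (iv F51577)) (tt N25178 F51000) (tt N25767 D25805) (tt N25177 (iv D25596)) (tt N25371 F51001))
theorem Q25560 : ∀ i, i < 25560 → P i := stepQ 25559 Q25559 (allL N25559 (tt N25595 (iv F51107)) (tt N25502 F51002) (tt N25594 (iv F51105)) (tt N25768 D25806) (tt N25179 (iv D25597)) (tt N25769 D25807))
theorem Q25561 : ∀ i, i < 25561 → P i := stepQ 25560 Q25560 (allL N25560 (tt N25767 (iv F51580)) (tt N25443 F51003) (tt N25427 F51005) (tt N25180 (iv D25598)) (tt N25768 (iv F51584)) (tt N25375 F51004))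
theorem Q25562 : ∀ i, i < 25562 → P i := stepQ 25561 Q25561 (allL N25561 (tt N25511 F51006) (tt N25601 (iv F51125)) (tt N25183 F51007) (tt N25365 F51008) (tt N25182 (iv D25599)) (tt N25590 (iv F51093)))
theorem Q25563 : ∀ i, i < 25563 → P i := stepQ 25562 Q25562 (allL N25562 (tt N25551 F51009) (tt N25188 (iv D25600)) (tt N25495 F51010) (tt N25562 F51011) (tt N25494 (iv F51013)) (tt N25551 F51012))
theorem Q25564 : ∀ i, i < 25564 → P i := stepQ 25563 Q25563 (allL N25563 (tt N25549 F51014) (tt N25494 F51015) (tt N25189 F51016) (tt N25621 (iv F51182)) (tt N25188 (iv D25601)) (tt N25199 F51017))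
theorem Q25565 : ∀ i, i < 25565 → P i := stepQ 25564 Q25564 (allL N25564 (tt N25196 F51018) (tt N25540 F51019) (tt N25770 D25808) (tt N25194 (iv D25602)) (tt N25195 F51020) (tt N25564 F51021))
theorem Q25566 : ∀ i, i < 25566 → P i := stepQ 25565 Q25565 (allL N25565 (tt N25197 F51022) (tt N25771 D25809) (tt N25195 (iv D25603)) (tt N25199 F51023) (tt N25770 (iv F51591)) (tt N25621 (iv F51184)))
theorem Q25567 : ∀ i, i < 25567 → P i := stepQ 25566 Q25566 (allL N25566 (tt N25770 (iv F51589)) (tt N25554 F51024) (tt N25196 (iv D25604)) (tt N25554 F51027) (tt N25197 F51025) (tt N25566 F51026))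
theorem Q25568 : ∀ i, i < 25568 → P i := stepQ 25567 Q25567 (allL N25567 (tt N25199 F51028) (tt N25547 F51029) (tt N25198 F51032) (tt N25197 (iv D25605)) (tt N25547 F51030) (tt N25549 F51031))
theorem Q25569 : ∀ i, i < 25569 → P i := stepQ 25568 Q25568 (allL N25568 (tt N25499 F51033) (tt N25199 (iv D25606)) (tt N25200 F51034) (tt N25771 (iv F51595)) (tt N25499 F51035) (tt N25494 F51036))
theorem Q25570 : ∀ i, i < 25570 → P i := stepQ 25569 Q25569 (allL N25569 (tt N25584 (iv F51075)) (tt N25570 (iv F51039)) (tt N25206 (iv D25607)) (tt N25512 F51037) (tt N25745 (iv F51520)) (tt N25207 F51038))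
theorem Q25571 : ∀ i, i < 25571 → P i := stepQ 25570 Q25570 (allL N25570 (tt N25637 (iv F51233)) (tt N25569 F51039) (tt N25210 F51040) (tt N25686 (iv F51366)) (tt N25649 (iv F51260)) (tt N25209 (iv D25608)))
theorem Q25572 : ∀ i, i < 25572 → P i := stepQ 25571 Q25571 (allL N25571 (tt N25638 (iv F51236)) (tt N25211 F51041) (tt N25649 (iv F51259)) (tt N25661 (iv F51303)) (tt N25210 (iv D25609)) (tt N25572 (iv F51046)))
theorem Q25573 : ∀ i, i < 25573 → P i := stepQ 25572 Q25572 (allL N25572 (tt N25369 F51042) (tt N25215 F51043) (tt N25376 F51044) (tt N25397 F51045) (tt N25214 (iv D25610)) (tt N25571 F51046))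
theorem Q25574 : ∀ i, i < 25574 → P i := stepQ 25573 Q25573 (allL N25573 (tt N25528 F51047) (tt N25397 F51048) (tt N25772 D25810) (tt N25215 (iv D25611)) (tt N25238 F51049) (tt N25525 F51050))
theorem Q25575 : ∀ i, i < 25575 → P i := stepQ 25574 Q25574 (allL N25574 (tt N25662 (iv F51305)) (tt N25708 (iv F51426)) (tt N25216 (iv D25612)) (tt N25660 (iv F51300)) (tt N25773 D25811) (tt N25659 F51297))
theorem Q25576 : ∀ i, i < 25576 → P i := stepQ 25575 Q25575 (allL N25575 (tt N25663 (iv F51309)) (tt N25297 F51051) (tt N25773 (iv F51601)) (tt N25353 F51052) (tt N25216 (iv D25613)) (tt N25761 (iv F51562)))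
theorem Q25577 : ∀ i, i < 25577 → P i := stepQ 25576 Q25576 (allL N25576 (tt N25222 F51053) (tt N25219 F51054) (tt N25659 (iv F51296)) (tt N25217 F51055) (tt N25226 (iv F51056)) (tt N25216 (iv D25614)))
theorem Q25578 : ∀ i, i < 25578 → P i := stepQ 25577 Q25577 (allL N25577 (tt N25234 F51057) (tt N25663 (iv F51310)) (tt N25225 F51058) (tt N25612 (iv F51158)) (tt N25224 (iv D25615)) (tt N25229 F51059))
theorem Q25579 : ∀ i, i < 25579 → P i := stepQ 25578 Q25578 (allL N25578 (tt N25761 (iv F51559)) (tt N25229 F51060) (tt N25752 (iv F51535)) (tt N25651 (iv F51269)) (tt N25228 (iv D25616)) (tt N25663 (iv F51312)))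
theorem Q25580 : ∀ i, i < 25580 → P i := stepQ 25579 Q25579 (allL N25579 (tt N25446 F51061) (tt N25651 (iv F51267)) (tt N25612 (iv F51157)) (tt N25229 (iv D25617)) (tt N25444 F51062) (tt N25612 (iv F51159)))
theorem Q25581 : ∀ i, i < 25581 → P i := stepQ 25580 Q25580 (allL N25580 (tt N25612 (iv F51155)) (tt N25517 F51063) (tt N25446 F51066) (tt N25234 (iv D25618)) (tt N25445 F51064) (tt N25446 F51065))
theorem Q25582 : ∀ i, i < 25582 → P i := stepQ 25581 Q25581 (allL N25581 (tt N25774 D25812) (tt N25237 (iv D25619)) (tt N25395 F51067) (tt N25581 F51068) (tt N25533 F51069) (tt N25775 D25813))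
theorem Q25583 : ∀ i, i < 25583 → P i := stepQ 25582 Q25582 (allL N25582 (tt N25537 F51070) (tt N25775 (iv F51606)) (tt N25238 F51071) (tt N25582 F51072) (tt N25772 (iv F51598)) (tt N25237 (iv D25620)))
theorem Q25584 : ∀ i, i < 25584 → P i := stepQ 25583 Q25583 (allL N25583 (tt N25636 (iv F51229)) (tt N25239 (iv D25621)) (tt N25367 F51073) (tt N25608 (iv F51145)) (tt N25521 F51074) (tt N25776 D25814))
theorem Q25585 : ∀ i, i < 25585 → P i := stepQ 25584 Q25584 (allL N25584 (tt N25569 F51075) (tt N25776 (iv F51609)) (tt N25240 F51076) (tt N25609 (iv F51148)) (tt N25777 D25815) (tt N25239 (iv D25622)))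
theorem Q25586 : ∀ i, i < 25586 → P i := stepQ 25585 Q25585 (allL N25585 (tt N25523 F51077) (tt N25369 F51078) (tt N25777 (iv F51612)) (tt N25363 F51079) (tt N25240 (iv D25623)) (tt N25493 F51080))
theorem Q25587 : ∀ i, i < 25587 → P i := stepQ 25586 Q25586 (allL N25586 (tt N25327 F51081) (tt N25247 F51082) (tt N25337 F51083) (tt N25327 F51084) (tt N25248 F51085) (tt N25246 (iv D25624)))
theorem Q25588 : ∀ i, i < 25588 → P i := stepQ 25587 Q25587 (allL N25587 (tt N25676 (iv F51338)) (tt N25256 F51086) (tt N25692 (iv F51384)) (tt N25255 (iv D25625)) (tt N25624 (iv F51191)) (tt N25626 (iv F51199)))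
theorem Q25589 : ∀ i, i < 25589 → P i := stepQ 25588 Q25588 (allL N25588 (tt N25763 (iv F51566)) (tt N25259 F51087) (tt N25759 (iv F51555)) (tt N25763 (iv F51568)) (tt N25258 (iv D25626)) (tt N25588 F51088))
theorem Q25590 : ∀ i, i < 25590 → P i := stepQ 25589 Q25589 (allL N25589 (tt N25281 F51089) (tt N25687 (iv F51369)) (tt N25323 F51090) (tt N25267 F51091) (tt N25266 (iv D25627)) (tt N25289 F51092))
theorem Q25591 : ∀ i, i < 25591 → P i := stepQ 25590 Q25590 (allL N25590 (tt N25686 (iv F51364)) (tt N25778 D25816) (tt N25269 (iv D25628)) (tt N25637 (iv F51235)) (tt N25779 D25817) (tt N25561 F51093))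
theorem Q25592 : ∀ i, i < 25592 → P i := stepQ 25591 Q25591 (allL N25591 (tt N25687 (iv F51368)) (tt N25272 F51094) (tt N25779 (iv F51617)) (tt N25274 F51095) (tt N25269 (iv D25629)) (tt N25277 F51096))
theorem Q25593 : ∀ i, i < 25593 → P i := stepQ 25592 Q25592 (allL N25592 (tt N25668 (iv F51323)) (tt N25271 (iv D25630)) (tt N25778 (iv F51614)) (tt N25293 F51097) (tt N25780 D25818) (tt N25288 F51098))
theorem Q25594 : ∀ i, i < 25594 → P i := stepQ 25593 Q25593 (allL N25593 (tt N25282 F51099) (tt N25780 (iv F51619)) (tt N25272 F51100) (tt N25296 F51101) (tt N25271 (iv D25631)) (tt N25279 F51102))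
theorem Q25595 : ∀ i, i < 25595 → P i := stepQ 25594 Q25594 (allL N25594 (tt N25277 F51103) (tt N25289 F51104) (tt N25559 F51105) (tt N25280 F51106) (tt N25275 (iv D25632)) (tt N25687 (iv F51371)))
theorem Q25596 : ∀ i, i < 25596 → P i := stepQ 25595 Q25595 (allL N25595 (tt N25559 F51107) (tt N25736 (iv F51494)) (tt N25277 F51108) (tt N25781 D25819) (tt N25276 (iv D25633)) (tt N25779 (iv F51618)))
theorem Q25597 : ∀ i, i < 25597 → P i := stepQ 25596 Q25596 (allL N25596 (tt N25732 (iv F51482)) (tt N25279 F51109) (tt N25736 (iv F51495)) (tt N25782 D25820) (tt N25278 (iv D25634)) (tt N25780 (iv F51621)))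
theorem Q25598 : ∀ i, i < 25598 → P i := stepQ 25597 Q25597 (allL N25597 (tt N25292 F51110) (tt N25782 (iv F51624)) (tt N25284 F51111) (tt N25279 (iv D25635)) (tt N25284 F51112) (tt N25296 F51113))
theorem Q25599 : ∀ i, i < 25599 → P i := stepQ 25598 Q25598 (allL N25598 (tt N25323 F51114) (tt N25458 F51115) (tt N25281 (iv D25636)) (tt N25457 F51116) (tt N25325 F51117) (tt N25290 F51118))
theorem Q25600 : ∀ i, i < 25600 → P i := stepQ 25599 Q25599 (allL N25599 (tt N25283 (iv D25637)) (tt N25322 F51119) (tt N25294 F51120) (tt N25783 D25821) (tt N25285 F51121) (tt N25294 F51122))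
theorem Q25601 : ∀ i, i < 25601 → P i := stepQ 25600 Q25600 (allL N25600 (tt N25783 (iv F51627)) (tt N25284 F51123) (tt N25784 D25822) (tt N25283 (iv D25638)) (tt N25782 (iv F51625)) (tt N25295 F51124))
theorem Q25602 : ∀ i, i < 25602 → P i := stepQ 25601 Q25601 (allL N25601 (tt N25608 (iv F51142)) (tt N25561 F51125) (tt N25288 F51126) (tt N25636 (iv F51231)) (tt N25287 (iv D25639)) (tt N25778 (iv F51615)))
theorem Q25603 : ∀ i, i < 25603 → P i := stepQ 25602 Q25602 (allL N25602 (tt N25733 (iv F51485)) (tt N25292 F51127) (tt N25485 F51130) (tt N25291 (iv D25640)) (tt N25320 F51128) (tt N25321 F51129))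
theorem Q25604 : ∀ i, i < 25604 → P i := stepQ 25603 Q25603 (allL N25603 (tt N25295 F51131) (tt N25317 F51132) (tt N25785 D25823) (tt N25294 (iv D25641)) (tt N25313 F51133) (tt N25783 (iv F51629)))
theorem Q25605 : ∀ i, i < 25605 → P i := stepQ 25604 Q25604 (allL N25604 (tt N25785 (iv F51631)) (tt N25786 D25824) (tt N25295 (iv D25642)) (tt N25787 D25825) (tt N25314 F51134) (tt N25784 (iv F51630)))
theorem Q25606 : ∀ i, i < 25606 → P i := stepQ 25605 Q25605 (allL N25605 (tt N25765 (iv F51574)) (tt N25296 (iv D25643)) (tt N25786 (iv F51633)) (tt N25780 (iv F51620)) (tt N25315 F51135) (tt N25782 (iv F51626)))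
theorem Q25607 : ∀ i, i < 25607 → P i := stepQ 25606 Q25606 (allL N25606 (tt N25302 F51136) (tt N25307 F51137) (tt N25766 (iv F51578)) (tt N25433 F51138) (tt N25300 (iv D25644)) (tt N25388 F51139))
theorem Q25608 : ∀ i, i < 25608 → P i := stepQ 25607 Q25607 (allL N25607 (tt N25766 (iv F51576)) (tt N25306 F51140) (tt N25302 F51141) (tt N25788 D25826) (tt N25301 (iv D25645)) (tt N25694 (iv F51391)))
theorem Q25609 : ∀ i, i < 25609 → P i := stepQ 25608 Q25608 (allL N25608 (tt N25601 F51142) (tt N25305 F51143) (tt N25425 F51144) (tt N25583 F51145) (tt N25304 (iv D25646)) (tt N25789 D25827))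
theorem Q25610 : ∀ i, i < 25610 → P i := stepQ 25609 Q25609 (allL N25609 (tt N25512 F51146) (tt N25789 (iv F51639)) (tt N25399 F51147) (tt N25584 F51148) (tt N25509 F51149) (tt N25305 (iv D25647)))
theorem Q25611 : ∀ i, i < 25611 → P i := stepQ 25610 Q25610 (allL N25610 (tt N25443 F51150) (tt N25788 (iv F51636)) (tt N25697 (iv F51397)) (tt N25306 (iv D25648)) (tt N25508 F51151) (tt N25695 (iv F51393)))
theorem Q25612 : ∀ i, i < 25612 → P i := stepQ 25611 Q25611 (allL N25611 (tt N25650 (iv F51261)) (tt N25309 F51152) (tt N25498 F51153) (tt N25628 (iv F51201)) (tt N25308 (iv D25649)) (tt N25378 (iv F51154)))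
theorem Q25613 : ∀ i, i < 25613 → P i := stepQ 25612 Q25612 (allL N25612 (tt N25580 F51155) (tt N25394 F51156) (tt N25579 F51157) (tt N25577 F51158) (tt N25312 (iv D25650)) (tt N25579 F51159))
theorem Q25614 : ∀ i, i < 25614 → P i := stepQ 25613 Q25613 (allL N25613 (tt N25314 F51160) (tt N25790 D25828) (tt N25313 (iv D25651)) (tt N25613 F51161) (tt N25785 (iv F51632)) (tt N25764 (iv F51573)))
theorem Q25615 : ∀ i, i < 25615 → P i := stepQ 25614 Q25614 (allL N25614 (tt N25764 (iv F51570)) (tt N25314 (iv D25652)) (tt N25315 F51162) (tt N25614 F51163) (tt N25786 (iv F51634)) (tt N25314 F51164))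
theorem Q25616 : ∀ i, i < 25616 → P i := stepQ 25615 Q25615 (allL N25615 (tt N25484 F51165) (tt N25316 (iv D25653)) (tt N25790 (iv F51644)) (tt N25483 F51166) (tt N25791 D25829) (tt N25484 F51167))
theorem Q25617 : ∀ i, i < 25617 → P i := stepQ 25616 Q25616 (allL N25616 (tt N25319 F51168) (tt N25791 (iv F51648)) (tt N25317 F51169) (tt N25486 F51170) (tt N25316 (iv D25654)) (tt N25792 D25830))
theorem Q25618 : ∀ i, i < 25618 → P i := stepQ 25617 Q25617 (allL N25617 (tt N25320 F51171) (tt N25783 (iv F51628)) (tt N25792 (iv F51651)) (tt N25322 F51172) (tt N25733 (iv F51487)) (tt N25317 (iv D25655)))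
theorem Q25619 : ∀ i, i < 25619 → P i := stepQ 25618 Q25618 (allL N25618 (tt N25321 F51173) (tt N25765 (iv F51575)) (tt N25460 F51174) (tt N25667 (iv F51320)) (tt N25318 (iv D25656)) (tt N25733 (iv F51488)))
theorem Q25620 : ∀ i, i < 25620 → P i := stepQ 25619 Q25619 (allL N25619 (tt N25792 (iv F51650)) (tt N25485 F51175) (tt N25320 F51176) (tt N25488 F51177) (tt N25485 F51178) (tt N25319 (iv D25657)))
theorem Q25621 : ∀ i, i < 25621 → P i := stepQ 25620 Q25620 (allL N25620 (tt N25695 (iv F51392)) (tt N25375 F51179) (tt N25677 (iv F51344)) (tt N25330 (iv D25658)) (tt N25744 (iv F51517)) (tt N25443 F51180))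
theorem Q25622 : ∀ i, i < 25622 → P i := stepQ 25621 Q25621 (allL N25621 (tt N25332 F51181) (tt N25729 (iv F51474)) (tt N25331 (iv D25659)) (tt N25563 F51182) (tt N25621 F51183) (tt N25565 F51184))
theorem Q25623 : ∀ i, i < 25623 → P i := stepQ 25622 Q25622 (allL N25622 (tt N25333 (iv D25660)) (tt N25754 (iv F51540)) (tt N25334 F51185) (tt N25717 (iv F51450)) (tt N25622 F51186) (tt N25758 (iv F51553)))
theorem Q25624 : ∀ i, i < 25624 → P i := stepQ 25623 Q25623 (allL N25623 (tt N25339 (iv D25661)) (tt N25753 (iv F51537)) (tt N25340 F51187) (tt N25751 (iv F51533)) (tt N25671 (iv F51331)) (tt N25348 F51188))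
theorem Q25625 : ∀ i, i < 25625 → P i := stepQ 25624 Q25624 (allL N25624 (tt N25406 F51189) (tt N25342 F51190) (tt N25689 (iv F51378)) (tt N25341 (iv D25662)) (tt N25587 F51191) (tt N25344 F51192))
theorem Q25626 : ∀ i, i < 25626 → P i := stepQ 25625 Q25625 (allL N25625 (tt N25684 (iv F51357)) (tt N25343 (iv D25663)) (tt N25696 (iv F51394)) (tt N25416 F51193) (tt N25704 (iv F51419)) (tt N25442 F51194))
theorem Q25627 : ∀ i, i < 25627 → P i := stepQ 25626 Q25626 (allL N25626 (tt N25415 F51195) (tt N25347 F51196) (tt N25430 F51197) (tt N25398 F51198) (tt N25346 (iv D25664)) (tt N25587 F51199))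
theorem Q25628 : ∀ i, i < 25628 → P i := stepQ 25627 Q25627 (allL N25627 (tt N25635 (iv F51225)) (tt N25348 (iv D25665)) (tt N25700 (iv F51406)) (tt N25715 (iv F51443)) (tt N25652 (iv F51273)) (tt N25753 (iv F51538)))
theorem Q25629 : ∀ i, i < 25629 → P i := stepQ 25628 Q25628 (allL N25628 (tt N25378 F51200) (tt N25354 (iv D25666)) (tt N25741 (iv F51507)) (tt N25611 F51201) (tt N25378 F51202) (tt N25650 (iv F51264)))
theorem Q25630 : ∀ i, i < 25630 → P i := stepQ 25629 Q25629 (allL N25629 (tt N25356 F51203) (tt N25699 (iv F51400)) (tt N25355 (iv D25667)) (tt N25472 F51206) (tt N25364 F51204) (tt N25410 F51205))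
theorem Q25631 : ∀ i, i < 25631 → P i := stepQ 25630 Q25630 (allL N25630 (tt N25472 F51207) (tt N25359 F51208) (tt N25361 F51211) (tt N25356 (iv D25668)) (tt N25465 F51209) (tt N25411 F51210))
theorem Q25632 : ∀ i, i < 25632 → P i := stepQ 25631 Q25631 (allL N25631 (tt N25700 (iv F51404)) (tt N25357 (iv D25669)) (tt N25635 (iv F51226)) (tt N25704 (iv F51418)) (tt N25438 F51212) (tt N25704 (iv F51420)))
theorem Q25633 : ∀ i, i < 25633 → P i := stepQ 25632 Q25632 (allL N25632 (tt N25741 (iv F51505)) (tt N25358 (iv D25670)) (tt N25378 F51213) (tt N25539 F51214) (tt N25741 (iv F51508)) (tt N25498 F51215))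
theorem Q25634 : ∀ i, i < 25634 → P i := stepQ 25633 Q25633 (allL N25633 (tt N25397 F51216) (tt N25363 F51217) (tt N25412 F51218) (tt N25369 F51219) (tt N25360 (iv D25671)) (tt N25492 F51220))
theorem Q25635 : ∀ i, i < 25635 → P i := stepQ 25634 Q25634 (allL N25634 (tt N25742 (iv F51509)) (tt N25362 F51221) (tt N25411 F51222) (tt N25497 F51223) (tt N25481 F51224) (tt N25361 (iv D25672)))
theorem Q25636 : ∀ i, i < 25636 → P i := stepQ 25635 Q25635 (allL N25635 (tt N25627 F51225) (tt N25364 (iv D25673)) (tt N25631 F51226) (tt N25468 F51227) (tt N25699 (iv F51401)) (tt N25532 F51228))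
theorem Q25637 : ∀ i, i < 25637 → P i := stepQ 25636 Q25636 (allL N25636 (tt N25583 F51229) (tt N25365 (iv D25674)) (tt N25521 F51230) (tt N25601 F51231) (tt N25367 F51232) (tt N25793 D25831))
theorem Q25638 : ∀ i, i < 25638 → P i := stepQ 25637 Q25637 (allL N25637 (tt N25570 F51233) (tt N25793 (iv F51655)) (tt N25366 F51234) (tt N25590 F51235) (tt N25794 D25832) (tt N25365 (iv D25675)))
theorem Q25639 : ∀ i, i < 25639 → P i := stepQ 25638 Q25638 (allL N25638 (tt N25571 F51236) (tt N25493 F51237) (tt N25794 (iv F51659)) (tt N25492 F51238) (tt N25366 (iv D25676)) (tt N25369 F51239))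
theorem Q25640 : ∀ i, i < 25640 → P i := stepQ 25639 Q25639 (allL N25639 (tt N25743 (iv F51513)) (tt N25368 F51240) (tt N25776 (iv F51610)) (tt N25372 F51241) (tt N25795 D25833) (tt N25367 (iv D25677)))
theorem Q25641 : ∀ i, i < 25641 → P i := stepQ 25640 Q25640 (allL N25640 (tt N25376 F51242) (tt N25795 (iv F51661)) (tt N25369 F51243) (tt N25796 D25834) (tt N25368 (iv D25678)) (tt N25794 (iv F51660)))
theorem Q25642 : ∀ i, i < 25642 → P i := stepQ 25641 Q25641 (allL N25641 (tt N25694 (iv F51388)) (tt N25371 (iv D25679)) (tt N25388 F51244) (tt N25797 D25835) (tt N25372 F51245) (tt N25766 (iv F51579)))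
theorem Q25643 : ∀ i, i < 25643 → P i := stepQ 25642 Q25642 (allL N25642 (tt N25375 F51246) (tt N25797 (iv F51664)) (tt N25798 D25836) (tt N25371 (iv D25680)) (tt N25796 (iv F51663)) (tt N25767 (iv F51582)))
theorem Q25644 : ∀ i, i < 25644 → P i := stepQ 25643 Q25643 (allL N25643 (tt N25673 (iv F51334)) (tt N25373 (iv D25681)) (tt N25384 F51247) (tt N25799 D25837) (tt N25384 F51248) (tt N25800 D25838))
theorem Q25645 : ∀ i, i < 25645 → P i := stepQ 25644 Q25644 (allL N25644 (tt N25427 F51249) (tt N25799 (iv F51668)) (tt N25767 (iv F51581)) (tt N25373 (iv D25682)) (tt N25801 D25839) (tt N25798 (iv F51667)))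
theorem Q25646 : ∀ i, i < 25646 → P i := stepQ 25645 Q25645 (allL N25645 (tt N25428 F51250) (tt N25800 (iv F51669)) (tt N25374 F51251) (tt N25798 (iv F51666)) (tt N25802 D25840) (tt N25373 (iv D25683)))
theorem Q25647 : ∀ i, i < 25647 → P i := stepQ 25646 Q25646 (allL N25646 (tt N25429 F51252) (tt N25387 F51253) (tt N25802 (iv F51675)) (tt N25382 F51254) (tt N25374 (iv D25684)) (tt N25387 F51255))
theorem Q25648 : ∀ i, i < 25648 → P i := stepQ 25647 Q25647 (allL N25647 (tt N25798 (iv F51665)) (tt N25678 (iv F51345)) (tt N25375 (iv D25685)) (tt N25428 F51257) (tt N25803 D25841) (tt N25427 F51256))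
theorem Q25649 : ∀ i, i < 25649 → P i := stepQ 25648 Q25648 (allL N25648 (tt N25796 (iv F51662)) (tt N25744 (iv F51516)) (tt N25803 (iv F51677)) (tt N25376 F51258) (tt N25375 (iv D25686)) (tt N25804 D25842))
theorem Q25650 : ∀ i, i < 25650 → P i := stepQ 25649 Q25649 (allL N25649 (tt N25794 (iv F51658)) (tt N25745 (iv F51518)) (tt N25571 F51259) (tt N25804 (iv F51678)) (tt N25570 F51260) (tt N25376 (iv D25687)))
theorem Q25651 : ∀ i, i < 25651 → P i := stepQ 25650 Q25650 (allL N25650 (tt N25611 F51261) (tt N25379 F51262) (tt N25514 (iv F51265)) (tt N25378 (iv D25688)) (tt N25513 F51263) (tt N25628 F51264))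
theorem Q25652 : ∀ i, i < 25652 → P i := stepQ 25651 Q25651 (allL N25651 (tt N25545 F51266) (tt N25579 F51267) (tt N25382 F51268) (tt N25578 F51269) (tt N25381 (iv D25689)) (tt N25394 F51270))
theorem Q25653 : ∀ i, i < 25653 → P i := stepQ 25652 Q25652 (allL N25652 (tt N25699 (iv F51399)) (tt N25383 (iv D25690)) (tt N25439 F51271) (tt N25395 F51272) (tt N25627 F51273) (tt N25404 F51274))
theorem Q25654 : ∀ i, i < 25654 → P i := stepQ 25653 Q25653 (allL N25653 (tt N25654 (iv F51277)) (tt N25385 F51275) (tt N25805 D25843) (tt N25384 (iv D25691)) (tt N25806 D25844) (tt N25414 (iv F51276)))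
theorem Q25655 : ∀ i, i < 25655 → P i := stepQ 25654 Q25654 (allL N25654 (tt N25653 F51277) (tt N25386 F51278) (tt N25800 (iv F51670)) (tt N25414 F51279) (tt N25807 D25845) (tt N25384 (iv D25692)))
theorem Q25656 : ∀ i, i < 25656 → P i := stepQ 25655 Q25655 (allL N25655 (tt N25430 F51280) (tt N25806 (iv F51682)) (tt N25415 F51281) (tt N25801 (iv F51673)) (tt N25385 (iv D25693)) (tt N25808 D25846))
theorem Q25657 : ∀ i, i < 25657 → P i := stepQ 25656 Q25656 (allL N25656 (tt N25431 F51282) (tt N25807 (iv F51684)) (tt N25387 F51283) (tt N25809 D25847) (tt N25386 (iv D25694)) (tt N25802 (iv F51676)))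
theorem Q25658 : ∀ i, i < 25658 → P i := stepQ 25657 Q25657 (allL N25657 (tt N25398 F51284) (tt N25413 F51285) (tt N25421 F51286) (tt N25415 F51287) (tt N25389 (iv D25695)) (tt N25413 F51288))
theorem Q25659 : ∀ i, i < 25659 → P i := stepQ 25658 Q25658 (allL N25658 (tt N25471 F51289) (tt N25390 (iv D25696)) (tt N25533 F51290) (tt N25470 (iv F51292)) (tt N25395 F51291) (tt N25810 D25848))
theorem Q25660 : ∀ i, i < 25660 → P i := stepQ 25659 Q25659 (allL N25659 (tt N25467 F51293) (tt N25470 F51294) (tt N25576 F51296) (tt N25390 (iv D25697)) (tt N25529 F51295) (tt N25574 (iv F51297)))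
theorem Q25661 : ∀ i, i < 25661 → P i := stepQ 25660 Q25660 (allL N25660 (tt N25479 F51298) (tt N25810 (iv F51691)) (tt N25391 F51299) (tt N25574 F51300) (tt N25811 D25849) (tt N25390 (iv D25698)))
theorem Q25662 : ∀ i, i < 25662 → P i := stepQ 25661 Q25661 (allL N25661 (tt N25492 F51301) (tt N25525 F51302) (tt N25811 (iv F51695)) (tt N25571 F51303) (tt N25391 (iv D25699)) (tt N25397 F51304))
theorem Q25663 : ∀ i, i < 25663 → P i := stepQ 25662 Q25662 (allL N25662 (tt N25574 F51305) (tt N25452 F51306) (tt N25392 (iv D25700)) (tt N25479 F51307) (tt N25734 (iv F51490)) (tt N25467 F51308))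
theorem Q25664 : ∀ i, i < 25664 → P i := stepQ 25663 Q25663 (allL N25663 (tt N25575 F51309) (tt N25577 F51310) (tt N25734 (iv F51489)) (tt N25394 F51311) (tt N25392 (iv D25701)) (tt N25578 F51312))
theorem Q25665 : ∀ i, i < 25665 → P i := stepQ 25664 Q25664 (allL N25664 (tt N25395 (iv D25702)) (tt N25472 F51313) (tt N25774 (iv F51603)) (tt N25699 F51403) (tt N25471 F51314) (tt N25812 D25850))
theorem Q25666 : ∀ i, i < 25666 → P i := stepQ 25665 Q25665 (allL N25665 (tt N25812 (iv F51697)) (tt N25396 F51315) (tt N25775 (iv F51607)) (tt N25404 F51316) (tt N25813 D25851) (tt N25395 (iv D25703)))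
theorem Q25667 : ∀ i, i < 25667 → P i := stepQ 25666 Q25666 (allL N25666 (tt N25412 F51317) (tt N25813 (iv F51700)) (tt N25397 F51318) (tt N25814 D25852) (tt N25396 (iv D25704)) (tt N25811 (iv F51696)))
theorem Q25668 : ∀ i, i < 25668 → P i := stepQ 25667 Q25667 (allL N25667 (tt N25423 F51319) (tt N25815 D25853) (tt N25400 (iv D25705)) (tt N25618 F51320) (tt N25401 F51321) (tt N25504 F51322))
theorem Q25669 : ∀ i, i < 25669 → P i := stepQ 25668 Q25668 (allL N25668 (tt N25592 F51323) (tt N25401 (iv D25706)) (tt N25789 (iv F51640)) (tt N25422 F51324) (tt N25815 (iv F51706)) (tt N25425 F51325))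
theorem Q25670 : ∀ i, i < 25670 → P i := stepQ 25669 Q25669 (allL N25669 (tt N25701 (iv F51407)) (tt N25402 (iv D25707)) (tt N25416 F51326) (tt N25816 D25854) (tt N25404 F51327) (tt N25817 D25855))
theorem Q25671 : ∀ i, i < 25671 → P i := stepQ 25670 Q25670 (allL N25670 (tt N25408 F51328) (tt N25816 (iv F51708)) (tt N25818 D25856) (tt N25402 (iv D25708)) (tt N25814 (iv F51702)) (tt N25819 D25857))
theorem Q25672 : ∀ i, i < 25672 → P i := stepQ 25671 Q25671 (allL N25671 (tt N25409 F51329) (tt N25817 (iv F51710)) (tt N25403 F51330) (tt N25819 (iv F51718)) (tt N25623 F51331) (tt N25402 (iv D25709)))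
theorem Q25673 : ∀ i, i < 25673 → P i := stepQ 25672 Q25672 (allL N25672 (tt N25404 (iv D25710)) (tt N25410 F51332) (tt N25437 F51333) (tt N25812 (iv F51699)) (tt N25701 (iv F51409)) (tt N25699 (iv F51402)))
theorem Q25674 : ∀ i, i < 25674 → P i := stepQ 25673 Q25673 (allL N25673 (tt N25643 F51334) (tt N25405 (iv D25711)) (tt N25414 F51335) (tt N25820 D25858) (tt N25414 F51336) (tt N25805 (iv F51681)))
theorem Q25675 : ∀ i, i < 25675 → P i := stepQ 25674 Q25674 (allL N25674 (tt N25688 (iv F51372)) (tt N25820 (iv F51720)) (tt N25819 (iv F51717)) (tt N25405 (iv D25712)) (tt N25809 (iv F51689)) (tt N25818 F51715))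
theorem Q25676 : ∀ i, i < 25676 → P i := stepQ 25675 Q25675 (allL N25675 (tt N25689 (iv F51376)) (tt N25805 (iv F51680)) (tt N25406 F51337) (tt N25818 (iv F51714)) (tt N25808 (iv F51687)) (tt N25405 (iv D25713)))
theorem Q25677 : ∀ i, i < 25677 → P i := stepQ 25676 Q25676 (allL N25676 (tt N25587 F51338) (tt N25415 F51339) (tt N25808 (iv F51686)) (tt N25413 F51340) (tt N25406 (iv D25714)) (tt N25415 F51341))
theorem Q25678 : ∀ i, i < 25678 → P i := stepQ 25677 Q25677 (allL N25677 (tt N25702 (iv F51411)) (tt N25408 F51342) (tt N25620 F51344) (tt N25407 (iv D25715)) (tt N25821 D25859) (tt N25435 F51343))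
theorem Q25679 : ∀ i, i < 25679 → P i := stepQ 25678 Q25678 (allL N25678 (tt N25818 (iv F51713)) (tt N25647 F51345) (tt N25408 (iv D25716)) (tt N25689 (iv F51379)) (tt N25822 D25860) (tt N25688 F51375))
theorem Q25680 : ∀ i, i < 25680 → P i := stepQ 25679 Q25679 (allL N25679 (tt N25814 (iv F51701)) (tt N25821 (iv F51721)) (tt N25822 (iv F51726)) (tt N25412 F51346) (tt N25408 (iv D25717)) (tt N25823 D25861))
theorem Q25681 : ∀ i, i < 25681 → P i := stepQ 25680 Q25680 (allL N25680 (tt N25819 (iv F51716)) (tt N25435 F51347) (tt N25688 (iv F51374)) (tt N25409 F51348) (tt N25824 D25862) (tt N25408 (iv D25718)))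
theorem Q25682 : ∀ i, i < 25682 → P i := stepQ 25681 Q25681 (allL N25681 (tt N25411 F51349) (tt N25812 (iv F51698)) (tt N25742 (iv F51510)) (tt N25410 (iv D25719)) (tt N25825 D25863) (tt N25472 F51350))
theorem Q25683 : ∀ i, i < 25683 → P i := stepQ 25682 Q25682 (allL N25682 (tt N25825 (iv F51732)) (tt N25412 F51351) (tt N25481 F51352) (tt N25821 (iv F51723)) (tt N25411 (iv D25720)) (tt N25480 F51353))
theorem Q25684 : ∀ i, i < 25684 → P i := stepQ 25683 Q25683 (allL N25683 (tt N25811 (iv F51694)) (tt N25480 F51354) (tt N25492 F51355) (tt N25823 (iv F51728)) (tt N25479 F51356) (tt N25412 (iv D25721)))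
theorem Q25685 : ∀ i, i < 25685 → P i := stepQ 25684 Q25684 (allL N25684 (tt N25625 F51357) (tt N25417 F51358) (tt N25817 (iv F51711)) (tt N25442 F51359) (tt N25826 D25864) (tt N25416 (iv D25722)))
theorem Q25686 : ∀ i, i < 25686 → P i := stepQ 25685 Q25685 (allL N25685 (tt N25419 F51360) (tt N25826 (iv F51736)) (tt N25418 F51361) (tt N25440 F51362) (tt N25417 (iv D25723)) (tt N25440 F51363))
theorem Q25687 : ∀ i, i < 25687 → P i := stepQ 25686 Q25686 (allL N25686 (tt N25590 F51364) (tt N25512 F51365) (tt N25420 (iv D25724)) (tt N25570 F51366) (tt N25769 (iv F51588)) (tt N25511 F51367))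
theorem Q25688 : ∀ i, i < 25688 → P i := stepQ 25687 Q25687 (allL N25687 (tt N25591 F51368) (tt N25589 F51369) (tt N25769 (iv F51587)) (tt N25421 F51370) (tt N25420 (iv D25725)) (tt N25594 F51371))
theorem Q25689 : ∀ i, i < 25689 → P i := stepQ 25688 Q25688 (allL N25688 (tt N25674 F51372) (tt N25427 F51373) (tt N25680 F51374) (tt N25426 (iv D25726)) (tt N25693 (iv F51387)) (tt N25678 (iv F51375)))
theorem Q25690 : ∀ i, i < 25690 → P i := stepQ 25689 Q25689 (allL N25689 (tt N25675 F51376) (tt N25428 F51377) (tt N25624 F51378) (tt N25678 F51379) (tt N25692 (iv F51385)) (tt N25426 (iv D25727)))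
theorem Q25691 : ∀ i, i < 25691 → P i := stepQ 25690 Q25690 (allL N25690 (tt N25801 (iv F51671)) (tt N25693 (iv F51386)) (tt N25768 (iv F51585)) (tt N25430 F51380) (tt N25427 (iv D25728)) (tt N25827 D25865))
theorem Q25692 : ∀ i, i < 25692 → P i := stepQ 25691 Q25691 (allL N25691 (tt N25802 (iv F51674)) (tt N25692 (iv F51383)) (tt N25429 F51381) (tt N25828 D25866) (tt N25428 (iv D25729)) (tt N25431 F51382))
theorem Q25693 : ∀ i, i < 25693 → P i := stepQ 25692 Q25692 (allL N25692 (tt N25808 (iv F51685)) (tt N25691 F51383) (tt N25587 F51384) (tt N25827 (iv F51740)) (tt N25689 F51385) (tt N25430 (iv D25730)))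
theorem Q25694 : ∀ i, i < 25694 → P i := stepQ 25693 Q25693 (allL N25693 (tt N25809 (iv F51688)) (tt N25690 F51386) (tt N25824 (iv F51730)) (tt N25431 (iv D25731)) (tt N25688 F51387) (tt N25828 (iv F51742)))
theorem Q25695 : ∀ i, i < 25695 → P i := stepQ 25694 Q25694 (allL N25694 (tt N25641 F51388) (tt N25432 (iv D25732)) (tt N25433 F51389) (tt N25829 D25867) (tt N25519 F51390) (tt N25607 F51391))
theorem Q25696 : ∀ i, i < 25696 → P i := stepQ 25695 Q25695 (allL N25695 (tt N25620 F51392) (tt N25829 (iv F51744)) (tt N25702 (iv F51412)) (tt N25432 (iv D25733)) (tt N25830 D25868) (tt N25610 F51393))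
theorem Q25697 : ∀ i, i < 25697 → P i := stepQ 25696 Q25696 (allL N25696 (tt N25817 (iv F51709)) (tt N25434 (iv D25734)) (tt N25625 F51394) (tt N25831 D25869) (tt N25532 F51395) (tt N25701 (iv F51410)))
theorem Q25698 : ∀ i, i < 25698 → P i := stepQ 25697 Q25697 (allL N25697 (tt N25435 F51396) (tt N25831 (iv F51748)) (tt N25610 F51397) (tt N25434 (iv D25735)) (tt N25739 (iv F51500)) (tt N25702 (iv F51413)))
theorem Q25699 : ∀ i, i < 25699 → P i := stepQ 25698 Q25698 (allL N25698 (tt N25739 (iv F51499)) (tt N25824 (iv F51729)) (tt N25703 (iv F51415)) (tt N25531 F51398) (tt N25435 (iv D25736)) (tt N25735 (iv F51493)))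
theorem Q25700 : ∀ i, i < 25700 → P i := stepQ 25699 Q25699 (allL N25699 (tt N25652 F51399) (tt N25629 F51400) (tt N25438 (iv D25737)) (tt N25664 (iv F51403)) (tt N25635 F51401) (tt N25672 F51402))
theorem Q25701 : ∀ i, i < 25701 → P i := stepQ 25700 Q25700 (allL N25700 (tt N25631 F51404) (tt N25440 F51405) (tt N25627 F51406) (tt N25826 (iv F51738)) (tt N25439 (iv D25738)) (tt N25826 (iv F51739)))
theorem Q25702 : ∀ i, i < 25702 → P i := stepQ 25701 Q25701 (allL N25701 (tt N25669 F51407) (tt N25441 (iv D25739)) (tt N25442 F51408) (tt N25832 D25870) (tt N25672 F51409) (tt N25696 F51410))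
theorem Q25703 : ∀ i, i < 25703 → P i := stepQ 25702 Q25702 (allL N25702 (tt N25677 F51411) (tt N25832 (iv F51750)) (tt N25695 F51412) (tt N25441 (iv D25740)) (tt N25833 D25871) (tt N25697 F51413))
theorem Q25704 : ∀ i, i < 25704 → P i := stepQ 25703 Q25703 (allL N25703 (tt N25508 F51414) (tt N25768 (iv F51583)) (tt N25698 F51415) (tt N25502 F51416) (tt N25443 (iv D25741)) (tt N25834 D25872))
theorem Q25705 : ∀ i, i < 25705 → P i := stepQ 25704 Q25704 (allL N25704 (tt N25826 (iv F51735)) (tt N25448 (iv D25742)) (tt N25532 F51417) (tt N25631 F51418) (tt N25625 F51419) (tt N25631 F51420))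
theorem Q25706 : ∀ i, i < 25706 → P i := stepQ 25705 Q25705 (allL N25705 (tt N25835 D25873) (tt N25453 (iv D25743)) (tt N25459 F51421) (tt N25836 D25874) (tt N25455 F51422) (tt N25837 D25875))
theorem Q25707 : ∀ i, i < 25707 → P i := stepQ 25706 Q25706 (allL N25706 (tt N25735 (iv F51491)) (tt N25836 (iv F51761)) (tt N25740 (iv F51503)) (tt N25453 (iv D25744)) (tt N25838 D25876) (tt N25739 F51502))
theorem Q25708 : ∀ i, i < 25708 → P i := stepQ 25707 Q25707 (allL N25707 (tt N25531 F51423) (tt N25837 (iv F51762)) (tt N25454 F51424) (tt N25739 (iv F51501)) (tt N25469 F51425) (tt N25453 (iv D25745)))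
theorem Q25709 : ∀ i, i < 25709 → P i := stepQ 25708 Q25708 (allL N25708 (tt N25455 (iv D25746)) (tt N25574 F51426) (tt N25462 F51427) (tt N25810 (iv F51693)) (tt N25835 (iv F51760)) (tt N25470 F51428))
theorem Q25710 : ∀ i, i < 25710 → P i := stepQ 25709 Q25709 (allL N25709 (tt N25810 (iv F51690)) (tt N25456 F51429) (tt N25839 D25877) (tt N25455 (iv D25747)) (tt N25840 D25878) (tt N25471 F51430))
theorem Q25711 : ∀ i, i < 25711 → P i := stepQ 25710 Q25710 (allL N25710 (tt N25480 F51431) (tt N25840 (iv F51772)) (tt N25478 F51432) (tt N25838 (iv F51766)) (tt N25456 (iv D25748)) (tt N25825 (iv F51734)))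
theorem Q25712 : ∀ i, i < 25712 → P i := stepQ 25711 Q25711 (allL N25711 (tt N25459 (iv D25749)) (tt N25486 F51433) (tt N25835 (iv F51759)) (tt N25791 (iv F51649)) (tt N25462 F51434) (tt N25841 D25879))
theorem Q25713 : ∀ i, i < 25713 → P i := stepQ 25712 Q25712 (allL N25712 (tt N25791 (iv F51647)) (tt N25460 F51435) (tt N25842 D25880) (tt N25459 (iv D25750)) (tt N25484 F51436) (tt N25843 D25881))
theorem Q25714 : ∀ i, i < 25714 → P i := stepQ 25713 Q25713 (allL N25713 (tt N25841 (iv F51773)) (tt N25461 F51437) (tt N25837 (iv F51763)) (tt N25843 (iv F51778)) (tt N25474 F51438) (tt N25459 (iv D25751)))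
theorem Q25715 : ∀ i, i < 25715 → P i := stepQ 25714 Q25714 (allL N25714 (tt N25485 F51439) (tt N25843 (iv F51777)) (tt N25733 (iv F51486)) (tt N25461 F51440) (tt N25792 (iv F51653)) (tt N25460 (iv D25752)))
theorem Q25716 : ∀ i, i < 25716 → P i := stepQ 25715 Q25715 (allL N25715 (tt N25468 (iv D25753)) (tt N25529 F51441) (tt N25473 F51442) (tt N25627 F51443) (tt N25470 F51444) (tt N25844 D25882))
theorem Q25717 : ∀ i, i < 25717 → P i := stepQ 25716 Q25716 (allL N25716 (tt N25844 (iv F51779)) (tt N25469 F51445) (tt N25474 F51446) (tt N25532 F51447) (tt N25837 (iv F51764)) (tt N25468 (iv D25754)))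
theorem Q25718 : ∀ i, i < 25718 → P i := stepQ 25717 Q25717 (allL N25717 (tt N25533 F51448) (tt N25534 F51449) (tt N25471 (iv D25755)) (tt N25622 F51450) (tt N25774 (iv F51605)) (tt N25839 (iv F51771)))
theorem Q25719 : ∀ i, i < 25719 → P i := stepQ 25718 Q25718 (allL N25718 (tt N25474 F51451) (tt N25476 F51452) (tt N25844 (iv F51781)) (tt N25474 F51453) (tt N25841 (iv F51775)) (tt N25473 (iv D25756)))
theorem Q25720 : ∀ i, i < 25720 → P i := stepQ 25719 Q25719 (allL N25719 (tt N25488 F51454) (tt N25841 (iv F51774)) (tt N25544 F51455) (tt N25792 (iv F51652)) (tt N25476 (iv D25757)) (tt N25486 F51456))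
theorem Q25721 : ∀ i, i < 25721 → P i := stepQ 25720 Q25720 (allL N25720 (tt N25489 F51457) (tt N25839 (iv F51769)) (tt N25477 (iv D25758)) (tt N25845 D25883) (tt N25846 D25884) (tt N25534 F51458))
theorem Q25722 : ∀ i, i < 25722 → P i := stepQ 25721 Q25721 (allL N25721 (tt N25490 F51459) (tt N25478 F51460) (tt N25846 (iv F51788)) (tt N25490 F51461) (tt N25477 (iv D25759)) (tt N25847 D25885))
theorem Q25723 : ∀ i, i < 25723 → P i := stepQ 25722 Q25722 (allL N25722 (tt N25481 F51462) (tt N25847 (iv F51790)) (tt N25825 (iv F51733)) (tt N25491 F51463) (tt N25742 (iv F51512)) (tt N25478 (iv D25760)))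
theorem Q25724 : ∀ i, i < 25724 → P i := stepQ 25723 Q25723 (allL N25723 (tt N25838 (iv F51765)) (tt N25823 (iv F51727)) (tt N25848 D25886) (tt N25480 (iv D25761)) (tt N25735 (iv F51492)) (tt N25821 (iv F51724)))
theorem Q25725 : ∀ i, i < 25725 → P i := stepQ 25724 Q25724 (allL N25724 (tt N25790 (iv F51643)) (tt N25764 (iv F51571)) (tt N25484 (iv D25762)) (tt N25724 F51464) (tt N25842 (iv F51776)) (tt N25790 (iv F51646)))
theorem Q25726 : ∀ i, i < 25726 → P i := stepQ 25725 Q25725 (allL N25725 (tt N25845 (iv F51783)) (tt N25526 F51465) (tt N25771 (iv F51594)) (tt N25489 (iv D25763)) (tt N25849 D25887) (tt N25535 F51466))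
theorem Q25727 : ∀ i, i < 25727 → P i := stepQ 25726 Q25726 (allL N25726 (tt N25846 (iv F51787)) (tt N25527 F51467) (tt N25490 F51468) (tt N25850 D25888) (tt N25489 (iv D25764)) (tt N25851 D25889))
theorem Q25728 : ∀ i, i < 25728 → P i := stepQ 25727 Q25727 (allL N25727 (tt N25847 (iv F51789)) (tt N25491 F51469) (tt N25851 (iv F51801)) (tt N25847 (iv F51791)) (tt N25539 F51470) (tt N25490 (iv D25765)))
theorem Q25729 : ∀ i, i < 25729 → P i := stepQ 25728 Q25728 (allL N25728 (tt N25522 F51471) (tt N25852 D25890) (tt N25493 (iv D25766)) (tt N25830 (iv F51747)) (tt N25518 F51472) (tt N25777 (iv F51613)))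
theorem Q25730 : ∀ i, i < 25730 → P i := stepQ 25729 Q25729 (allL N25729 (tt N25550 F51473) (tt N25621 F51474) (tt N25535 F51476) (tt N25494 (iv D25767)) (tt N25729 F51475) (tt N25771 (iv F51596)))
theorem Q25731 : ∀ i, i < 25731 → P i := stepQ 25730 Q25730 (allL N25730 (tt N25771 (iv F51593)) (tt N25548 F51477) (tt N25845 (iv F51785)) (tt N25499 (iv D25768)) (tt N25853 D25891) (tt N25550 F51478))
theorem Q25732 : ∀ i, i < 25732 → P i := stepQ 25731 Q25731 (allL N25731 (tt N25509 F51479) (tt N25769 (iv F51586)) (tt N25503 F51480) (tt N25834 (iv F51757)) (tt N25512 F51481) (tt N25502 (iv D25769)))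
theorem Q25733 : ∀ i, i < 25733 → P i := stepQ 25732 Q25732 (allL N25732 (tt N25596 F51482) (tt N25504 (iv D25770)) (tt N25507 F51483) (tt N25854 D25892) (tt N25505 F51484) (tt N25815 (iv F51707)))
theorem Q25734 : ∀ i, i < 25734 → P i := stepQ 25733 Q25733 (allL N25733 (tt N25602 F51485) (tt N25854 (iv F51808)) (tt N25714 F51486) (tt N25504 (iv D25771)) (tt N25617 F51487) (tt N25618 F51488))
theorem Q25735 : ∀ i, i < 25735 → P i := stepQ 25734 Q25734 (allL N25734 (tt N25773 (iv F51600)) (tt N25506 (iv D25772)) (tt N25663 F51489) (tt N25855 D25893) (tt N25662 F51490) (tt N25752 (iv F51536)))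
theorem Q25736 : ∀ i, i < 25736 → P i := stepQ 25735 Q25735 (allL N25735 (tt N25706 F51491) (tt N25855 (iv F51811)) (tt N25834 (iv F51756)) (tt N25506 (iv D25773)) (tt N25723 F51492) (tt N25698 F51493))
theorem Q25737 : ∀ i, i < 25737 → P i := stepQ 25736 Q25736 (allL N25736 (tt N25507 (iv D25774)) (tt N25595 F51494) (tt N25596 F51495) (tt N25856 D25894) (tt N25510 F51496) (tt N25857 D25895))
theorem Q25738 : ∀ i, i < 25738 → P i := stepQ 25737 Q25737 (allL N25737 (tt N25856 (iv F51815)) (tt N25508 F51497) (tt N25858 D25896) (tt N25507 (iv D25775)) (tt N25788 (iv F51637)) (tt N25859 D25897))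
theorem Q25739 : ∀ i, i < 25739 → P i := stepQ 25738 Q25738 (allL N25738 (tt N25857 (iv F51817)) (tt N25509 F51498) (tt N25815 (iv F51704)) (tt N25859 (iv F51822)) (tt N25789 (iv F51642)) (tt N25507 (iv D25776)))
theorem Q25740 : ∀ i, i < 25740 → P i := stepQ 25739 Q25739 (allL N25739 (tt N25698 F51499) (tt N25860 D25898) (tt N25508 (iv D25777)) (tt N25707 F51501) (tt N25697 F51500) (tt N25706 (iv F51502)))
theorem Q25741 : ∀ i, i < 25741 → P i := stepQ 25740 Q25740 (allL N25740 (tt N25834 (iv F51755)) (tt N25859 (iv F51821)) (tt N25706 F51503) (tt N25509 F51504) (tt N25861 D25899) (tt N25508 (iv D25778)))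
theorem Q25742 : ∀ i, i < 25742 → P i := stepQ 25741 Q25741 (allL N25741 (tt N25632 F51505) (tt N25516 F51506) (tt N25628 F51507) (tt N25757 (iv F51551)) (tt N25632 F51508) (tt N25514 (iv D25779)))
theorem Q25743 : ∀ i, i < 25743 → P i := stepQ 25742 Q25742 (allL N25742 (tt N25634 F51509) (tt N25757 (iv F51550)) (tt N25681 F51510) (tt N25516 F51511) (tt N25722 F51512) (tt N25515 (iv D25780)))
theorem Q25744 : ∀ i, i < 25744 → P i := stepQ 25743 Q25743 (allL N25743 (tt N25639 F51513) (tt N25518 (iv D25781)) (tt N25793 (iv F51656)) (tt N25519 F51514) (tt N25852 (iv F51804)) (tt N25521 F51515))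
theorem Q25745 : ∀ i, i < 25745 → P i := stepQ 25744 Q25744 (allL N25744 (tt N25830 (iv F51746)) (tt N25648 F51516) (tt N25821 (iv F51722)) (tt N25522 (iv D25782)) (tt N25620 F51517) (tt N25848 (iv F51795)))
theorem Q25746 : ∀ i, i < 25746 → P i := stepQ 25745 Q25745 (allL N25745 (tt N25777 (iv F51611)) (tt N25649 F51518) (tt N25523 F51519) (tt N25848 (iv F51793)) (tt N25569 F51520) (tt N25522 (iv D25783)))
theorem Q25747 : ∀ i, i < 25747 → P i := stepQ 25746 Q25746 (allL N25746 (tt N25839 (iv F51768)) (tt N25524 (iv D25784)) (tt N25810 (iv F51692)) (tt N25541 F51521) (tt N25862 D25900) (tt N25533 F51522))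
theorem Q25748 : ∀ i, i < 25748 → P i := stepQ 25747 Q25747 (allL N25747 (tt N25527 F51523) (tt N25862 (iv F51830)) (tt N25525 F51524) (tt N25863 D25901) (tt N25524 (iv D25785)) (tt N25772 (iv F51599)))
theorem Q25749 : ∀ i, i < 25749 → P i := stepQ 25748 Q25748 (allL N25748 (tt N25542 F51525) (tt N25849 (iv F51797)) (tt N25540 F51526) (tt N25864 D25902) (tt N25526 (iv D25786)) (tt N25748 F51527))
theorem Q25750 : ∀ i, i < 25750 → P i := stepQ 25749 Q25749 (allL N25749 (tt N25863 (iv F51831)) (tt N25850 (iv F51799)) (tt N25749 F51528) (tt N25527 (iv D25787)) (tt N25864 (iv F51836)) (tt N25865 D25903))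
theorem Q25751 : ∀ i, i < 25751 → P i := stepQ 25750 Q25750 (allL N25750 (tt N25772 (iv F51597)) (tt N25851 (iv F51800)) (tt N25528 F51529) (tt N25865 (iv F51839)) (tt N25537 F51530) (tt N25527 (iv D25788)))
theorem Q25752 : ∀ i, i < 25752 → P i := stepQ 25751 Q25751 (allL N25751 (tt N25530 F51531) (tt N25844 (iv F51780)) (tt N25543 F51532) (tt N25623 F51533) (tt N25866 D25904) (tt N25529 (iv D25789)))
theorem Q25753 : ∀ i, i < 25753 → P i := stepQ 25752 Q25752 (allL N25752 (tt N25866 (iv F51841)) (tt N25531 F51534) (tt N25578 F51535) (tt N25824 (iv F51731)) (tt N25530 (iv D25790)) (tt N25734 F51536))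
theorem Q25754 : ∀ i, i < 25754 → P i := stepQ 25753 Q25753 (allL N25753 (tt N25532 (iv D25791)) (tt N25623 F51537) (tt N25826 (iv F51737)) (tt N25844 (iv F51782)) (tt N25817 (iv F51712)) (tt N25627 F51538))
theorem Q25755 : ∀ i, i < 25755 → P i := stepQ 25754 Q25754 (allL N25754 (tt N25535 F51539) (tt N25622 F51540) (tt N25550 F51541) (tt N25534 (iv D25792)) (tt N25754 F51542) (tt N25845 (iv F51786)))
theorem Q25756 : ∀ i, i < 25756 → P i := stepQ 25755 Q25755 (allL N25755 (tt N25536 F51543) (tt N25774 (iv F51602)) (tt N25538 F51544) (tt N25755 F51545) (tt N25534 (iv D25793)) (tt N25867 D25905))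
theorem Q25757 : ∀ i, i < 25757 → P i := stepQ 25756 Q25756 (allL N25756 (tt N25867 (iv F51844)) (tt N25537 F51546) (tt N25539 F51547) (tt N25756 F51548) (tt N25851 (iv F51802)) (tt N25536 (iv D25794)))
theorem Q25758 : ∀ i, i < 25758 → P i := stepQ 25757 Q25757 (allL N25757 (tt N25539 F51549) (tt N25742 F51550) (tt N25867 (iv F51845)) (tt N25741 F51551) (tt N25847 (iv F51792)) (tt N25538 (iv D25795)))
theorem Q25759 : ∀ i, i < 25759 → P i := stepQ 25758 Q25758 (allL N25758 (tt N25541 (iv D25796)) (tt N25845 (iv F51784)) (tt N25552 F51552) (tt N25839 (iv F51770)) (tt N25868 D25906) (tt N25622 F51553))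
theorem Q25760 : ∀ i, i < 25760 → P i := stepQ 25759 Q25759 (allL N25759 (tt N25868 (iv F51847)) (tt N25542 F51554) (tt N25588 F51555) (tt N25869 D25907) (tt N25541 (iv D25797)) (tt N25759 F51556))
theorem Q25761 : ∀ i, i < 25761 → P i := stepQ 25760 Q25760 (allL N25760 (tt N25864 (iv F51834)) (tt N25869 (iv F51850)) (tt N25760 F51558) (tt N25542 (iv D25798)) (tt N25863 (iv F51832)) (tt N25760 F51557))
theorem Q25762 : ∀ i, i < 25762 → P i := stepQ 25761 Q25761 (allL N25761 (tt N25578 F51559) (tt N25544 F51560) (tt N25866 (iv F51842)) (tt N25545 F51561) (tt N25543 (iv D25799)) (tt N25575 F51562))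
theorem Q25763 : ∀ i, i < 25763 → P i := stepQ 25762 Q25762 (allL N25762 (tt N25554 F51563) (tt N25853 (iv F51805)) (tt N25553 F51564) (tt N25770 (iv F51590)) (tt N25548 (iv D25800)) (tt N25762 F51565))
theorem Q25764 : ∀ i, i < 25764 → P i := stepQ 25763 Q25763 (allL N25763 (tt N25588 F51566) (tt N25553 F51567) (tt N25868 (iv F51848)) (tt N25588 F51568) (tt N25552 (iv D25801)) (tt N25763 F51569))
theorem Q25765 : ∀ i, i < 25765 → P i := stepQ 25764 Q25764 (allL N25764 (tt N25614 F51570) (tt N25724 F51571) (tt N25556 (iv D25802)) (tt N25764 F51572) (tt N25870 D25908) (tt N25613 F51573))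
theorem Q25766 : ∀ i, i < 25766 → P i := stepQ 25765 Q25765 (allL N25765 (tt N25605 F51574) (tt N25618 F51575) (tt N25870 (iv F51854)) (tt N25815 (iv F51705)) (tt N25556 (iv D25803)) (tt N25854 (iv F51810)))
theorem Q25767 : ∀ i, i < 25767 → P i := stepQ 25766 Q25766 (allL N25766 (tt N25607 F51576) (tt N25558 F51577) (tt N25606 F51578) (tt N25871 D25909) (tt N25557 (iv D25804)) (tt N25641 F51579))
theorem Q25768 : ∀ i, i < 25768 → P i := stepQ 25767 Q25767 (allL N25767 (tt N25560 F51580) (tt N25871 (iv F51856)) (tt N25644 F51581) (tt N25558 (iv D25805)) (tt N25781 (iv F51623)) (tt N25642 F51582))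
theorem Q25769 : ∀ i, i < 25769 → P i := stepQ 25768 Q25768 (allL N25768 (tt N25781 (iv F51622)) (tt N25703 F51583) (tt N25690 F51585) (tt N25559 (iv D25806)) (tt N25560 F51584) (tt N25872 D25910))
theorem Q25770 : ∀ i, i < 25770 → P i := stepQ 25769 Q25769 (allL N25769 (tt N25779 (iv F51616)) (tt N25731 F51586) (tt N25687 F51587) (tt N25872 (iv F51861)) (tt N25686 F51588) (tt N25559 (iv D25807)))
theorem Q25771 : ∀ i, i < 25771 → P i := stepQ 25770 Q25770 (allL N25770 (tt N25566 F51589) (tt N25873 D25911) (tt N25564 (iv D25808)) (tt N25762 F51590) (tt N25565 F51591) (tt N25770 F51592))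
theorem Q25772 : ∀ i, i < 25772 → P i := stepQ 25771 Q25771 (allL N25771 (tt N25730 F51593) (tt N25565 (iv D25809)) (tt N25725 F51594) (tt N25568 F51595) (tt N25873 (iv F51866)) (tt N25729 F51596))
theorem Q25773 : ∀ i, i < 25773 → P i := stepQ 25772 Q25772 (allL N25772 (tt N25750 F51597) (tt N25874 D25912) (tt N25573 (iv D25810)) (tt N25875 D25913) (tt N25582 F51598) (tt N25747 F51599))
theorem Q25774 : ∀ i, i < 25774 → P i := stepQ 25773 Q25773 (allL N25773 (tt N25734 F51600) (tt N25835 (iv F51758)) (tt N25575 F51601) (tt N25876 D25914) (tt N25574 (iv D25811)) (tt N25866 (iv F51843)))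
theorem Q25775 : ∀ i, i < 25775 → P i := stepQ 25774 Q25774 (allL N25774 (tt N25581 (iv D25812)) (tt N25755 F51602) (tt N25664 F51603) (tt N25774 F51604) (tt N25717 F51605) (tt N25877 D25915))
theorem Q25776 : ∀ i, i < 25776 → P i := stepQ 25775 Q25775 (allL N25775 (tt N25877 (iv F51876)) (tt N25582 F51606) (tt N25665 F51607) (tt N25775 F51608) (tt N25874 (iv F51869)) (tt N25581 (iv D25813)))
theorem Q25777 : ∀ i, i < 25777 → P i := stepQ 25776 Q25776 (allL N25776 (tt N25793 (iv F51654)) (tt N25584 F51609) (tt N25639 F51610) (tt N25789 (iv F51641)) (tt N25878 D25916) (tt N25583 (iv D25814)))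
theorem Q25778 : ∀ i, i < 25778 → P i := stepQ 25777 Q25777 (allL N25777 (tt N25745 F51611) (tt N25878 (iv F51880)) (tt N25585 F51612) (tt N25861 (iv F51828)) (tt N25584 (iv D25815)) (tt N25728 F51613))
theorem Q25779 : ∀ i, i < 25779 → P i := stepQ 25778 Q25778 (allL N25778 (tt N25789 (iv F51638)) (tt N25590 (iv D25816)) (tt N25592 F51614) (tt N25793 (iv F51657)) (tt N25857 (iv F51820)) (tt N25601 F51615))
theorem Q25780 : ∀ i, i < 25780 → P i := stepQ 25779 Q25779 (allL N25779 (tt N25769 F51616) (tt N25857 (iv F51818)) (tt N25591 F51617) (tt N25879 D25917) (tt N25590 (iv D25817)) (tt N25595 F51618))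
theorem Q25781 : ∀ i, i < 25781 → P i := stepQ 25780 Q25780 (allL N25780 (tt N25815 (iv F51703)) (tt N25593 F51619) (tt N25857 (iv F51819)) (tt N25605 F51620) (tt N25592 (iv D25818)) (tt N25596 F51621))
theorem Q25782 : ∀ i, i < 25782 → P i := stepQ 25781 Q25781 (allL N25781 (tt N25768 F51622) (tt N25856 (iv F51816)) (tt N25801 (iv F51672)) (tt N25595 (iv D25819)) (tt N25767 F51623) (tt N25879 (iv F51884)))
theorem Q25783 : ∀ i, i < 25783 → P i := stepQ 25782 Q25782 (allL N25782 (tt N25854 (iv F51807)) (tt N25597 F51624) (tt N25880 D25918) (tt N25596 (iv D25820)) (tt N25600 F51625) (tt N25605 F51626))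
theorem Q25784 : ∀ i, i < 25784 → P i := stepQ 25783 Q25783 (allL N25783 (tt N25600 F51627) (tt N25617 F51628) (tt N25881 D25919) (tt N25599 (iv D25821)) (tt N25854 (iv F51809)) (tt N25603 F51629))
theorem Q25785 : ∀ i, i < 25785 → P i := stepQ 25784 Q25784 (allL N25784 (tt N25881 (iv F51888)) (tt N25880 (iv F51885)) (tt N25600 (iv D25822)) (tt N25882 D25920) (tt N25880 (iv F51886)) (tt N25604 F51630))
theorem Q25786 : ∀ i, i < 25786 → P i := stepQ 25785 Q25785 (allL N25785 (tt N25604 F51631) (tt N25883 D25921) (tt N25603 (iv D25823)) (tt N25884 D25922) (tt N25613 F51632) (tt N25881 (iv F51889)))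
theorem Q25787 : ∀ i, i < 25787 → P i := stepQ 25786 Q25786 (allL N25786 (tt N25870 (iv F51852)) (tt N25604 (iv D25824)) (tt N25605 F51633) (tt N25885 D25923) (tt N25614 F51634) (tt N25880 (iv F51887)))
theorem Q25788 : ∀ i, i < 25788 → P i := stepQ 25787 Q25787 (allL N25787 (tt N25884 (iv F51894)) (tt N25885 (iv F51897)) (tt N25884 (iv F51896)) (tt N25604 (iv D25825)) (tt N25787 F51635) (tt N25882 (iv F51890)))
theorem Q25789 : ∀ i, i < 25789 → P i := stepQ 25788 Q25788 (allL N25788 (tt N25871 (iv F51855)) (tt N25610 F51636) (tt N25886 D25924) (tt N25607 (iv D25826)) (tt N25737 F51637) (tt N25829 (iv F51745)))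
theorem Q25790 : ∀ i, i < 25790 → P i := stepQ 25789 Q25789 (allL N25789 (tt N25778 F51638) (tt N25609 F51639) (tt N25668 F51640) (tt N25776 F51641) (tt N25738 F51642) (tt N25608 (iv D25827)))
theorem Q25791 : ∀ i, i < 25791 → P i := stepQ 25790 Q25790 (allL N25790 (tt N25724 F51643) (tt N25613 (iv D25828)) (tt N25615 F51644) (tt N25790 F51645) (tt N25883 (iv F51893)) (tt N25724 F51646))
theorem Q25792 : ∀ i, i < 25792 → P i := stepQ 25791 Q25791 (allL N25791 (tt N25712 F51647) (tt N25616 F51648) (tt N25883 (iv F51892)) (tt N25711 F51649) (tt N25615 (iv D25829)) (tt N25887 D25925))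
theorem Q25793 : ∀ i, i < 25793 → P i := stepQ 25792 Q25792 (allL N25792 (tt N25619 F51650) (tt N25887 (iv F51902)) (tt N25617 F51651) (tt N25719 F51652) (tt N25714 F51653) (tt N25616 (iv D25830)))
theorem Q25794 : ∀ i, i < 25794 → P i := stepQ 25793 Q25793 (allL N25793 (tt N25776 F51654) (tt N25637 F51655) (tt N25743 F51656) (tt N25778 F51657) (tt N25888 D25926) (tt N25636 (iv D25831)))
theorem Q25795 : ∀ i, i < 25795 → P i := stepQ 25794 Q25794 (allL N25794 (tt N25649 F51658) (tt N25888 (iv F51906)) (tt N25638 F51659) (tt N25889 D25927) (tt N25637 (iv D25832)) (tt N25640 F51660))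
theorem Q25796 : ∀ i, i < 25796 → P i := stepQ 25795 Q25795 (allL N25795 (tt N25852 (iv F51803)) (tt N25640 F51661) (tt N25878 (iv F51881)) (tt N25890 D25928) (tt N25639 (iv D25833)) (tt N25888 (iv F51908)))
theorem Q25797 : ∀ i, i < 25797 → P i := stepQ 25796 Q25796 (allL N25796 (tt N25648 F51662) (tt N25890 (iv F51912)) (tt N25891 D25929) (tt N25640 (iv D25834)) (tt N25642 F51663) (tt N25889 (iv F51911)))
theorem Q25798 : ∀ i, i < 25798 → P i := stepQ 25797 Q25797 (allL N25797 (tt N25829 (iv F51743)) (tt N25642 F51664) (tt N25892 D25930) (tt N25641 (iv D25835)) (tt N25890 (iv F51913)) (tt N25871 (iv F51858)))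
theorem Q25799 : ∀ i, i < 25799 → P i := stepQ 25798 Q25798 (allL N25798 (tt N25647 F51665) (tt N25893 D25931) (tt N25642 (iv D25836)) (tt N25645 F51666) (tt N25891 (iv F51915)) (tt N25644 F51667))
theorem Q25800 : ∀ i, i < 25800 → P i := stepQ 25799 Q25799 (allL N25799 (tt N25820 (iv F51719)) (tt N25644 F51668) (tt N25894 D25932) (tt N25643 (iv D25837)) (tt N25895 D25933) (tt N25893 (iv F51918)))
theorem Q25801 : ∀ i, i < 25801 → P i := stepQ 25800 Q25800 (allL N25800 (tt N25805 (iv F51679)) (tt N25645 F51669) (tt N25654 F51670) (tt N25893 (iv F51917)) (tt N25896 D25934) (tt N25643 (iv D25838)))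
theorem Q25802 : ∀ i, i < 25802 → P i := stepQ 25801 Q25801 (allL N25801 (tt N25690 F51671) (tt N25895 (iv F51920)) (tt N25781 F51672) (tt N25655 F51673) (tt N25644 (iv D25839)) (tt N25897 D25935))
theorem Q25803 : ∀ i, i < 25803 → P i := stepQ 25802 Q25802 (allL N25802 (tt N25691 F51674) (tt N25896 (iv F51922)) (tt N25646 F51675) (tt N25898 D25936) (tt N25645 (iv D25840)) (tt N25656 F51676))
theorem Q25804 : ∀ i, i < 25804 → P i := stepQ 25803 Q25803 (allL N25803 (tt N25891 (iv F51914)) (tt N25822 (iv F51725)) (tt N25648 F51677) (tt N25899 D25937) (tt N25647 (iv D25841)) (tt N25900 D25938))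
theorem Q25805 : ∀ i, i < 25805 → P i := stepQ 25804 Q25804 (allL N25804 (tt N25889 (iv F51909)) (tt N25848 F51796) (tt N25900 (iv F51935)) (tt N25649 F51678) (tt N25872 (iv F51862)) (tt N25648 (iv D25842)))
theorem Q25806 : ∀ i, i < 25806 → P i := stepQ 25805 Q25805 (allL N25805 (tt N25800 F51679) (tt N25675 F51680) (tt N25653 (iv D25843)) (tt N25901 D25939) (tt N25902 D25940) (tt N25673 F51681))
theorem Q25807 : ∀ i, i < 25807 → P i := stepQ 25806 Q25806 (allL N25806 (tt N25807 (iv F51683)) (tt N25655 F51682) (tt N25902 (iv F51943)) (tt N25895 (iv F51921)) (tt N25653 (iv D25844)) (tt N25902 (iv F51944)))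
theorem Q25808 : ∀ i, i < 25808 → P i := stepQ 25807 Q25807 (allL N25807 (tt N25806 F51683) (tt N25656 F51684) (tt N25896 (iv F51923)) (tt N25903 D25941) (tt N25654 (iv D25845)) (tt N25896 (iv F51924)))
theorem Q25809 : ∀ i, i < 25809 → P i := stepQ 25808 Q25808 (allL N25808 (tt N25692 F51685) (tt N25902 (iv F51942)) (tt N25676 F51686) (tt N25897 (iv F51927)) (tt N25675 F51687) (tt N25655 (iv D25846)))
theorem Q25810 : ∀ i, i < 25810 → P i := stepQ 25809 Q25809 (allL N25809 (tt N25693 F51688) (tt N25903 (iv F51946)) (tt N25904 D25942) (tt N25656 (iv D25847)) (tt N25674 F51689) (tt N25898 (iv F51930)))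
theorem Q25811 : ∀ i, i < 25811 → P i := stepQ 25810 Q25810 (allL N25810 (tt N25709 F51690) (tt N25660 F51691) (tt N25746 F51692) (tt N25708 F51693) (tt N25905 D25943) (tt N25658 (iv D25848)))
theorem Q25812 : ∀ i, i < 25812 → P i := stepQ 25811 Q25811 (allL N25811 (tt N25683 F51694) (tt N25905 (iv F51953)) (tt N25661 F51695) (tt N25906 D25944) (tt N25660 (iv D25849)) (tt N25666 F51696))
theorem Q25813 : ∀ i, i < 25813 → P i := stepQ 25812 Q25812 (allL N25812 (tt N25665 F51697) (tt N25681 F51698) (tt N25877 (iv F51878)) (tt N25672 F51699) (tt N25907 D25945) (tt N25664 (iv D25850)))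
theorem Q25814 : ∀ i, i < 25814 → P i := stepQ 25813 Q25813 (allL N25813 (tt N25907 (iv F51959)) (tt N25666 F51700) (tt N25874 (iv F51868)) (tt N25908 D25946) (tt N25665 (iv D25851)) (tt N25905 (iv F51955)))
theorem Q25815 : ∀ i, i < 25815 → P i := stepQ 25814 Q25814 (allL N25814 (tt N25679 F51701) (tt N25908 (iv F51962)) (tt N25909 D25947) (tt N25666 (iv D25852)) (tt N25670 F51702) (tt N25906 (iv F51958)))
theorem Q25816 : ∀ i, i < 25816 → P i := stepQ 25815 Q25815 (allL N25815 (tt N25780 F51703) (tt N25667 (iv D25853)) (tt N25738 F51704) (tt N25765 F51705) (tt N25668 F51706) (tt N25732 F51707))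
theorem Q25817 : ∀ i, i < 25817 → P i := stepQ 25816 Q25816 (allL N25816 (tt N25832 (iv F51749)) (tt N25670 F51708) (tt N25910 D25948) (tt N25669 (iv D25854)) (tt N25908 (iv F51963)) (tt N25911 D25949))
theorem Q25818 : ∀ i, i < 25818 → P i := stepQ 25817 Q25817 (allL N25817 (tt N25696 F51709) (tt N25671 F51710) (tt N25684 F51711) (tt N25911 (iv F51969)) (tt N25753 F51712) (tt N25669 (iv D25855)))
theorem Q25819 : ∀ i, i < 25819 → P i := stepQ 25818 Q25818 (allL N25818 (tt N25678 F51713) (tt N25901 (iv F51939)) (tt N25670 (iv D25856)) (tt N25675 F51714) (tt N25909 (iv F51965)) (tt N25674 (iv F51715)))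
theorem Q25820 : ∀ i, i < 25820 → P i := stepQ 25819 Q25819 (allL N25819 (tt N25680 F51716) (tt N25911 (iv F51968)) (tt N25674 F51717) (tt N25671 F51718) (tt N25904 (iv F51950)) (tt N25670 (iv D25857)))
theorem Q25821 : ∀ i, i < 25821 → P i := stepQ 25820 Q25820 (allL N25820 (tt N25799 F51719) (tt N25674 F51720) (tt N25912 D25950) (tt N25673 (iv D25858)) (tt N25903 (iv F51947)) (tt N25901 (iv F51940)))
theorem Q25822 : ∀ i, i < 25822 → P i := stepQ 25821 Q25821 (allL N25821 (tt N25833 (iv F51752)) (tt N25679 F51721) (tt N25744 F51722) (tt N25682 F51723) (tt N25677 (iv D25859)) (tt N25723 F51724))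
theorem Q25823 : ∀ i, i < 25823 → P i := stepQ 25822 Q25822 (allL N25822 (tt N25909 (iv F51964)) (tt N25803 F51725) (tt N25679 F51726) (tt N25900 (iv F51936)) (tt N25678 (iv D25860)) (tt N25899 F51933))
theorem Q25824 : ∀ i, i < 25824 → P i := stepQ 25823 Q25823 (allL N25823 (tt N25906 (iv F51956)) (tt N25723 F51727) (tt N25899 (iv F51932)) (tt N25683 F51728) (tt N25855 (iv F51812)) (tt N25679 (iv D25861)))
theorem Q25825 : ∀ i, i < 25825 → P i := stepQ 25824 Q25824 (allL N25824 (tt N25904 (iv F51948)) (tt N25698 F51729) (tt N25693 F51730) (tt N25752 F51731) (tt N25680 (iv D25862)) (tt N25855 (iv F51813)))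
theorem Q25826 : ∀ i, i < 25826 → P i := stepQ 25825 Q25825 (allL N25825 (tt N25682 F51732) (tt N25907 (iv F51960)) (tt N25722 F51733) (tt N25833 (iv F51754)) (tt N25681 (iv D25863)) (tt N25710 F51734))
theorem Q25827 : ∀ i, i < 25827 → P i := stepQ 25826 Q25826 (allL N25826 (tt N25704 F51735) (tt N25685 F51736) (tt N25753 F51737) (tt N25700 F51738) (tt N25684 (iv D25864)) (tt N25700 F51739))
theorem Q25828 : ∀ i, i < 25828 → P i := stepQ 25827 Q25827 (allL N25827 (tt N25897 (iv F51925)) (tt N25828 (iv F51741)) (tt N25872 (iv F51860)) (tt N25692 F51740) (tt N25900 (iv F51937)) (tt N25690 (iv D25865)))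
theorem Q25829 : ∀ i, i < 25829 → P i := stepQ 25828 Q25828 (allL N25828 (tt N25898 (iv F51928)) (tt N25827 F51741) (tt N25855 (iv F51814)) (tt N25691 (iv D25866)) (tt N25899 (iv F51931)) (tt N25693 F51742))
theorem Q25830 : ∀ i, i < 25830 → P i := stepQ 25829 Q25829 (allL N25829 (tt N25797 F51743) (tt N25695 F51744) (tt N25913 D25951) (tt N25694 (iv D25867)) (tt N25914 D25952) (tt N25788 F51745))
theorem Q25831 : ∀ i, i < 25831 → P i := stepQ 25830 Q25830 (allL N25830 (tt N25744 F51746) (tt N25914 (iv F51976)) (tt N25833 (iv F51753)) (tt N25728 F51747) (tt N25695 (iv D25868)) (tt N25861 (iv F51829)))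
theorem Q25832 : ∀ i, i < 25832 → P i := stepQ 25831 Q25831 (allL N25831 (tt N25911 (iv F51967)) (tt N25697 F51748) (tt N25915 D25953) (tt N25696 (iv D25869)) (tt N25860 (iv F51824)) (tt N25832 (iv F51751)))
theorem Q25833 : ∀ i, i < 25833 → P i := stepQ 25832 Q25832 (allL N25832 (tt N25816 F51749) (tt N25702 F51750) (tt N25916 D25954) (tt N25701 (iv D25870)) (tt N25917 D25955) (tt N25831 F51751))
theorem Q25834 : ∀ i, i < 25834 → P i := stepQ 25833 Q25833 (allL N25833 (tt N25821 F51752) (tt N25917 (iv F51985)) (tt N25830 F51753) (tt N25825 F51754) (tt N25702 (iv D25871)) (tt N25838 (iv F51767)))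
theorem Q25835 : ∀ i, i < 25835 → P i := stepQ 25834 Q25834 (allL N25834 (tt N25740 F51755) (tt N25872 (iv F51859)) (tt N25735 F51756) (tt N25731 F51757) (tt N25848 (iv F51794)) (tt N25703 (iv D25872)))
theorem Q25836 : ∀ i, i < 25836 → P i := stepQ 25835 Q25835 (allL N25835 (tt N25705 (iv D25873)) (tt N25773 F51758) (tt N25711 F51759) (tt N25918 D25956) (tt N25708 F51760) (tt N25919 D25957))
theorem Q25837 : ∀ i, i < 25837 → P i := stepQ 25836 Q25836 (allL N25836 (tt N25918 (iv F51987)) (tt N25706 F51761) (tt N25920 D25958) (tt N25705 (iv D25874)) (tt N25921 D25959) (tt N25860 (iv F51825)))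
theorem Q25838 : ∀ i, i < 25838 → P i := stepQ 25837 Q25837 (allL N25837 (tt N25919 (iv F51989)) (tt N25707 F51762) (tt N25713 F51763) (tt N25860 (iv F51823)) (tt N25716 F51764) (tt N25705 (iv D25875)))
theorem Q25839 : ∀ i, i < 25839 → P i := stepQ 25838 Q25838 (allL N25838 (tt N25723 F51765) (tt N25921 (iv F51993)) (tt N25861 (iv F51827)) (tt N25710 F51766) (tt N25706 (iv D25876)) (tt N25833 F51767))
theorem Q25840 : ∀ i, i < 25840 → P i := stepQ 25839 Q25839 (allL N25839 (tt N25746 F51768) (tt N25720 F51769) (tt N25709 (iv D25877)) (tt N25758 F51770) (tt N25922 D25960) (tt N25717 F51771))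
theorem Q25841 : ∀ i, i < 25841 → P i := stepQ 25840 Q25840 (allL N25840 (tt N25905 (iv F51952)) (tt N25710 F51772) (tt N25922 (iv F51998)) (tt N25921 (iv F51994)) (tt N25709 (iv D25878)) (tt N25907 (iv F51961)))
theorem Q25842 : ∀ i, i < 25842 → P i := stepQ 25841 Q25841 (allL N25841 (tt N25713 F51773) (tt N25719 F51774) (tt N25919 (iv F51991)) (tt N25887 (iv F51903)) (tt N25718 F51775) (tt N25711 (iv D25879)))
theorem Q25843 : ∀ i, i < 25843 → P i := stepQ 25842 Q25842 (allL N25842 (tt N25883 (iv F51891)) (tt N25870 (iv F51853)) (tt N25712 (iv D25880)) (tt N25923 D25961) (tt N25724 F51776) (tt N25924 D25962))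
theorem Q25844 : ∀ i, i < 25844 → P i := stepQ 25843 Q25843 (allL N25843 (tt N25887 (iv F51901)) (tt N25714 F51777) (tt N25924 (iv F52000)) (tt N25713 F51778) (tt N25887 (iv F51904)) (tt N25712 (iv D25881)))
theorem Q25845 : ∀ i, i < 25845 → P i := stepQ 25844 Q25844 (allL N25844 (tt N25716 F51779) (tt N25751 F51780) (tt N25718 F51781) (tt N25753 F51782) (tt N25919 (iv F51992)) (tt N25715 (iv D25882)))
theorem Q25846 : ∀ i, i < 25846 → P i := stepQ 25845 Q25845 (allL N25845 (tt N25725 F51783) (tt N25758 F51784) (tt N25730 F51785) (tt N25720 (iv D25883)) (tt N25925 D25963) (tt N25754 F51786))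
theorem Q25847 : ∀ i, i < 25847 → P i := stepQ 25846 Q25846 (allL N25846 (tt N25726 F51787) (tt N25922 (iv F51997)) (tt N25721 F51788) (tt N25926 D25964) (tt N25720 (iv D25884)) (tt N25927 D25965))
theorem Q25848 : ∀ i, i < 25848 → P i := stepQ 25847 Q25847 (allL N25847 (tt N25727 F51789) (tt N25722 F51790) (tt N25927 (iv F52007)) (tt N25727 F51791) (tt N25757 F51792) (tt N25721 (iv D25885)))
theorem Q25849 : ∀ i, i < 25849 → P i := stepQ 25848 Q25848 (allL N25848 (tt N25861 (iv F51826)) (tt N25804 (iv F51796)) (tt N25723 (iv D25886)) (tt N25745 F51793) (tt N25834 F51794) (tt N25744 F51795))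
theorem Q25850 : ∀ i, i < 25850 → P i := stepQ 25849 Q25849 (allL N25849 (tt N25925 (iv F52001)) (tt N25748 F51797) (tt N25873 (iv F51864)) (tt N25928 D25966) (tt N25725 (iv D25887)) (tt N25849 F51798))
theorem Q25851 : ∀ i, i < 25851 → P i := stepQ 25850 Q25850 (allL N25850 (tt N25926 (iv F52005)) (tt N25749 F51799) (tt N25929 D25967) (tt N25726 (iv D25888)) (tt N25928 (iv F52010)) (tt N25930 D25968))
theorem Q25852 : ∀ i, i < 25852 → P i := stepQ 25851 Q25851 (allL N25851 (tt N25927 (iv F52006)) (tt N25750 F51800) (tt N25727 F51801) (tt N25930 (iv F52014)) (tt N25756 F51802) (tt N25726 (iv D25889)))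
theorem Q25853 : ∀ i, i < 25853 → P i := stepQ 25852 Q25852 (allL N25852 (tt N25795 F51803) (tt N25728 (iv D25890)) (tt N25888 (iv F51907)) (tt N25914 (iv F51977)) (tt N25743 F51804) (tt N25878 (iv F51882)))
theorem Q25854 : ∀ i, i < 25854 → P i := stepQ 25853 Q25853 (allL N25853 (tt N25873 (iv F51863)) (tt N25762 F51805) (tt N25925 (iv F52003)) (tt N25873 (iv F51865)) (tt N25730 (iv D25891)) (tt N25853 F51806))
theorem Q25855 : ∀ i, i < 25855 → P i := stepQ 25854 Q25854 (allL N25854 (tt N25782 F51807) (tt N25733 F51808) (tt N25931 D25969) (tt N25732 (iv D25892)) (tt N25783 F51809) (tt N25765 F51810))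
theorem Q25856 : ∀ i, i < 25856 → P i := stepQ 25855 Q25855 (allL N25855 (tt N25876 (iv F51875)) (tt N25735 F51811) (tt N25828 F51814) (tt N25734 (iv D25893)) (tt N25823 F51812) (tt N25824 F51813))
theorem Q25857 : ∀ i, i < 25857 → P i := stepQ 25856 Q25856 (allL N25856 (tt N25737 F51815) (tt N25781 F51816) (tt N25932 D25970) (tt N25736 (iv D25894)) (tt N25871 (iv F51857)) (tt N25933 D25971))
theorem Q25858 : ∀ i, i < 25858 → P i := stepQ 25857 Q25857 (allL N25857 (tt N25738 F51817) (tt N25779 F51818) (tt N25780 F51819) (tt N25933 (iv F52023)) (tt N25778 F51820) (tt N25736 (iv D25895)))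
theorem Q25859 : ∀ i, i < 25859 → P i := stepQ 25858 Q25858 (allL N25858 (tt N25932 (iv F52020)) (tt N25934 D25972) (tt N25737 (iv D25896)) (tt N25935 D25973) (tt N25886 (iv F51899)) (tt N25936 D25974))
theorem Q25860 : ∀ i, i < 25860 → P i := stepQ 25859 Q25859 (allL N25859 (tt N25933 (iv F52021)) (tt N25740 F51821) (tt N25936 (iv F52030)) (tt N25738 F51822) (tt N25937 D25975) (tt N25737 (iv D25897)))
theorem Q25861 : ∀ i, i < 25861 → P i := stepQ 25860 Q25860 (allL N25860 (tt N25938 D25976) (tt N25739 (iv D25898)) (tt N25934 (iv F52024)) (tt N25837 F51823) (tt N25831 F51824) (tt N25836 F51825))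
theorem Q25862 : ∀ i, i < 25862 → P i := stepQ 25861 Q25861 (allL N25861 (tt N25848 F51826) (tt N25937 (iv F52031)) (tt N25838 F51827) (tt N25777 F51828) (tt N25740 (iv D25899)) (tt N25830 F51829))
theorem Q25863 : ∀ i, i < 25863 → P i := stepQ 25862 Q25862 (allL N25862 (tt N25922 (iv F51996)) (tt N25747 F51830) (tt N25905 (iv F51954)) (tt N25939 D25977) (tt N25746 (iv D25900)) (tt N25874 (iv F51870)))
theorem Q25864 : ∀ i, i < 25864 → P i := stepQ 25863 Q25863 (allL N25863 (tt N25749 F51831) (tt N25939 (iv F52038)) (tt N25863 F51833) (tt N25747 (iv D25901)) (tt N25760 F51832) (tt N25875 (iv F51874)))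
theorem Q25865 : ∀ i, i < 25865 → P i := stepQ 25864 Q25864 (allL N25864 (tt N25760 F51834) (tt N25928 (iv F52009)) (tt N25864 F51835) (tt N25748 (iv D25902)) (tt N25749 F51836) (tt N25864 F51837))
theorem Q25866 : ∀ i, i < 25866 → P i := stepQ 25865 Q25865 (allL N25865 (tt N25875 (iv F51871)) (tt N25930 (iv F52013)) (tt N25865 F51838) (tt N25750 F51839) (tt N25865 F51840) (tt N25749 (iv D25903)))
theorem Q25867 : ∀ i, i < 25867 → P i := stepQ 25866 Q25866 (allL N25866 (tt N25752 F51841) (tt N25919 (iv F51990)) (tt N25761 F51842) (tt N25904 (iv F51949)) (tt N25751 (iv D25904)) (tt N25773 F51843))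
theorem Q25868 : ∀ i, i < 25868 → P i := stepQ 25867 Q25867 (allL N25867 (tt N25756 F51844) (tt N25877 (iv F51877)) (tt N25757 F51845) (tt N25867 F51846) (tt N25927 (iv F52008)) (tt N25755 (iv D25905)))
theorem Q25869 : ∀ i, i < 25869 → P i := stepQ 25868 Q25868 (allL N25868 (tt N25759 F51847) (tt N25925 (iv F52002)) (tt N25763 F51848) (tt N25940 D25978) (tt N25758 (iv D25906)) (tt N25868 F51849))
theorem Q25870 : ∀ i, i < 25870 → P i := stepQ 25869 Q25869 (allL N25869 (tt N25940 (iv F52040)) (tt N25760 F51850) (tt N25941 D25979) (tt N25759 (iv D25907)) (tt N25939 (iv F52039)) (tt N25869 F51851))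
theorem Q25871 : ∀ i, i < 25871 → P i := stepQ 25870 Q25870 (allL N25870 (tt N25786 F51852) (tt N25842 F51853) (tt N25765 F51854) (tt N25942 D25980) (tt N25764 (iv D25908)) (tt N25931 (iv F52019)))
theorem Q25872 : ∀ i, i < 25872 → P i := stepQ 25871 Q25871 (allL N25871 (tt N25788 F51855) (tt N25767 F51856) (tt N25943 D25981) (tt N25766 (iv D25909)) (tt N25856 F51857) (tt N25797 F51858))
theorem Q25873 : ∀ i, i < 25873 → P i := stepQ 25872 Q25872 (allL N25872 (tt N25879 (iv F51883)) (tt N25834 F51859) (tt N25827 F51860) (tt N25769 F51861) (tt N25804 F51862) (tt N25768 (iv D25910)))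
theorem Q25874 : ∀ i, i < 25874 → P i := stepQ 25873 Q25873 (allL N25873 (tt N25853 F51863) (tt N25770 (iv D25911)) (tt N25849 F51864) (tt N25853 F51865) (tt N25771 F51866) (tt N25873 F51867))
theorem Q25875 : ∀ i, i < 25875 → P i := stepQ 25874 Q25874 (allL N25874 (tt N25944 D25982) (tt N25772 (iv D25912)) (tt N25813 F51868) (tt N25945 D25983) (tt N25775 F51869) (tt N25862 F51870))
theorem Q25876 : ∀ i, i < 25876 → P i := stepQ 25875 Q25875 (allL N25875 (tt N25865 F51871) (tt N25945 (iv F52057)) (tt N25875 F51872) (tt N25772 (iv D25913)) (tt N25875 F51873) (tt N25863 F51874))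
theorem Q25877 : ∀ i, i < 25877 → P i := stepQ 25876 Q25876 (allL N25876 (tt N25855 F51875) (tt N25918 (iv F51988)) (tt N25898 (iv F51929)) (tt N25773 (iv D25914)) (tt N25906 (iv F51957)) (tt N25904 (iv F51951)))
theorem Q25878 : ∀ i, i < 25878 → P i := stepQ 25877 Q25877 (allL N25877 (tt N25775 F51876) (tt N25867 F51877) (tt N25812 F51878) (tt N25877 F51879) (tt N25944 (iv F52055)) (tt N25774 (iv D25915)))
theorem Q25879 : ∀ i, i < 25879 → P i := stepQ 25878 Q25878 (allL N25878 (tt N25888 (iv F51905)) (tt N25777 F51880) (tt N25795 F51881) (tt N25937 (iv F52032)) (tt N25776 (iv D25916)) (tt N25852 F51882))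
theorem Q25880 : ∀ i, i < 25880 → P i := stepQ 25879 Q25879 (allL N25879 (tt N25872 F51883) (tt N25933 (iv F52022)) (tt N25897 (iv F51926)) (tt N25779 (iv D25917)) (tt N25889 (iv F51910)) (tt N25781 F51884))
theorem Q25881 : ∀ i, i < 25881 → P i := stepQ 25880 Q25880 (allL N25880 (tt N25931 (iv F52016)) (tt N25784 F51885) (tt N25782 (iv D25918)) (tt N25946 D25984) (tt N25784 F51886) (tt N25786 F51887))
theorem Q25882 : ∀ i, i < 25882 → P i := stepQ 25881 Q25881 (allL N25881 (tt N25784 F51888) (tt N25947 D25985) (tt N25783 (iv D25919)) (tt N25948 D25986) (tt N25931 (iv F52018)) (tt N25785 F51889))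
theorem Q25883 : ∀ i, i < 25883 → P i := stepQ 25882 Q25882 (allL N25882 (tt N25948 (iv F52066)) (tt N25946 (iv F52060)) (tt N25948 (iv F52067)) (tt N25784 (iv D25920)) (tt N25949 D25987) (tt N25787 F51890))
theorem Q25884 : ∀ i, i < 25884 → P i := stepQ 25883 Q25883 (allL N25883 (tt N25842 F51891) (tt N25785 (iv D25921)) (tt N25791 F51892) (tt N25950 D25988) (tt N25790 F51893) (tt N25947 (iv F52065)))
theorem Q25885 : ∀ i, i < 25885 → P i := stepQ 25884 Q25884 (allL N25884 (tt N25787 F51894) (tt N25950 (iv F52071)) (tt N25787 F51896) (tt N25785 (iv D25922)) (tt N25884 F51895) (tt N25948 (iv F52068)))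
theorem Q25886 : ∀ i, i < 25886 → P i := stepQ 25885 Q25885 (allL N25885 (tt N25942 (iv F52045)) (tt N25787 F51897) (tt N25935 (iv F52028)) (tt N25786 (iv D25923)) (tt N25885 F51898) (tt N25946 (iv F52061)))
theorem Q25887 : ∀ i, i < 25887 → P i := stepQ 25886 Q25886 (allL N25886 (tt N25943 (iv F52048)) (tt N25915 (iv F51978)) (tt N25788 (iv D25924)) (tt N25886 F51900) (tt N25858 F51899) (tt N25913 (iv F51973)))
theorem Q25888 : ∀ i, i < 25888 → P i := stepQ 25887 Q25887 (allL N25887 (tt N25843 F51901) (tt N25792 F51902) (tt N25947 (iv F52063)) (tt N25841 F51903) (tt N25843 F51904) (tt N25791 (iv D25925)))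
theorem Q25889 : ∀ i, i < 25889 → P i := stepQ 25888 Q25888 (allL N25888 (tt N25878 F51905) (tt N25794 F51906) (tt N25852 F51907) (tt N25951 D25989) (tt N25793 (iv D25926)) (tt N25795 F51908))
theorem Q25890 : ∀ i, i < 25890 → P i := stepQ 25889 Q25889 (allL N25889 (tt N25804 F51909) (tt N25951 (iv F52074)) (tt N25952 D25990) (tt N25794 (iv D25927)) (tt N25879 F51910) (tt N25796 F51911))
theorem Q25891 : ∀ i, i < 25891 → P i := stepQ 25890 Q25890 (allL N25890 (tt N25914 (iv F51975)) (tt N25796 F51912) (tt N25953 D25991) (tt N25795 (iv D25928)) (tt N25797 F51913) (tt N25951 (iv F52076)))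
theorem Q25892 : ∀ i, i < 25892 → P i := stepQ 25891 Q25891 (allL N25891 (tt N25803 F51914) (tt N25954 D25992) (tt N25796 (iv D25929)) (tt N25955 D25993) (tt N25798 F51915) (tt N25952 (iv F52080)))
theorem Q25893 : ∀ i, i < 25893 → P i := stepQ 25892 Q25892 (allL N25892 (tt N25913 (iv F51972)) (tt N25956 D25994) (tt N25797 (iv D25930)) (tt N25892 F51916) (tt N25953 (iv F52081)) (tt N25943 (iv F52052)))
theorem Q25894 : ∀ i, i < 25894 → P i := stepQ 25893 Q25893 (allL N25893 (tt N25901 (iv F51938)) (tt N25798 (iv D25931)) (tt N25956 (iv F52087)) (tt N25800 F51917) (tt N25954 (iv F52082)) (tt N25799 F51918))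
theorem Q25895 : ∀ i, i < 25895 → P i := stepQ 25894 Q25894 (allL N25894 (tt N25912 (iv F51970)) (tt N25943 (iv F52049)) (tt N25799 (iv D25932)) (tt N25894 F51919) (tt N25957 D25995) (tt N25956 (iv F52089)))
theorem Q25896 : ∀ i, i < 25896 → P i := stepQ 25895 Q25895 (allL N25895 (tt N25903 (iv F51945)) (tt N25801 F51920) (tt N25957 (iv F52091)) (tt N25806 F51921) (tt N25799 (iv D25933)) (tt N25958 D25996))
theorem Q25897 : ∀ i, i < 25897 → P i := stepQ 25896 Q25896 (allL N25896 (tt N25902 (iv F51941)) (tt N25802 F51922) (tt N25807 F51923) (tt N25959 D25997) (tt N25800 (iv D25934)) (tt N25807 F51924))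
theorem Q25898 : ∀ i, i < 25898 → P i := stepQ 25897 Q25897 (allL N25897 (tt N25827 F51925) (tt N25958 (iv F52092)) (tt N25879 F51926) (tt N25808 F51927) (tt N25952 (iv F52079)) (tt N25801 (iv D25935)))
theorem Q25899 : ∀ i, i < 25899 → P i := stepQ 25898 Q25898 (allL N25898 (tt N25828 F51928) (tt N25959 (iv F52095)) (tt N25876 F51929) (tt N25802 (iv D25936)) (tt N25955 (iv F52085)) (tt N25809 F51930))
theorem Q25900 : ∀ i, i < 25900 → P i := stepQ 25899 Q25899 (allL N25899 (tt N25955 (iv F52083)) (tt N25900 (iv F51934)) (tt N25823 F51932) (tt N25803 (iv D25937)) (tt N25828 F51931) (tt N25822 (iv F51933)))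
theorem Q25901 : ∀ i, i < 25901 → P i := stepQ 25900 Q25900 (allL N25900 (tt N25952 (iv F52077)) (tt N25899 F51934) (tt N25804 F51935) (tt N25822 F51936) (tt N25827 F51937) (tt N25803 (iv D25938)))
theorem Q25902 : ∀ i, i < 25902 → P i := stepQ 25901 Q25901 (allL N25901 (tt N25893 F51938) (tt N25818 F51939) (tt N25960 D25998) (tt N25805 (iv D25939)) (tt N25961 D25999) (tt N25820 F51940))
theorem Q25903 : ∀ i, i < 25903 → P i := stepQ 25902 Q25902 (allL N25902 (tt N25896 F51941) (tt N25808 F51942) (tt N25806 F51943) (tt N25958 (iv F52093)) (tt N25805 (iv D25940)) (tt N25806 F51944))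
theorem Q25904 : ∀ i, i < 25904 → P i := stepQ 25903 Q25903 (allL N25903 (tt N25895 F51945) (tt N25809 F51946) (tt N25962 D26000) (tt N25807 (iv D25941)) (tt N25820 F51947) (tt N25959 (iv F52096)))
theorem Q25905 : ∀ i, i < 25905 → P i := stepQ 25904 Q25904 (allL N25904 (tt N25824 F51948) (tt N25938 (iv F52034)) (tt N25809 (iv D25942)) (tt N25866 F51949) (tt N25819 F51950) (tt N25876 F51951))
theorem Q25906 : ∀ i, i < 25906 → P i := stepQ 25905 Q25905 (allL N25905 (tt N25840 F51952) (tt N25811 F51953) (tt N25862 F51954) (tt N25963 D26001) (tt N25810 (iv D25943)) (tt N25813 F51955))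
theorem Q25907 : ∀ i, i < 25907 → P i := stepQ 25906 Q25906 (allL N25906 (tt N25823 F51956) (tt N25963 (iv F52106)) (tt N25955 (iv F52084)) (tt N25811 (iv D25944)) (tt N25876 F51957) (tt N25814 F51958))
theorem Q25908 : ∀ i, i < 25908 → P i := stepQ 25907 Q25907 (allL N25907 (tt N25813 F51959) (tt N25825 F51960) (tt N25944 (iv F52054)) (tt N25917 (iv F51986)) (tt N25812 (iv D25945)) (tt N25840 F51961))
theorem Q25909 : ∀ i, i < 25909 → P i := stepQ 25908 Q25908 (allL N25908 (tt N25917 (iv F51984)) (tt N25814 F51962) (tt N25964 D26002) (tt N25813 (iv D25946)) (tt N25816 F51963) (tt N25963 (iv F52108)))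
theorem Q25910 : ∀ i, i < 25910 → P i := stepQ 25909 Q25909 (allL N25909 (tt N25822 F51964) (tt N25961 (iv F52102)) (tt N25814 (iv D25947)) (tt N25952 (iv F52078)) (tt N25818 F51965) (tt N25955 (iv F52086)))
theorem Q25911 : ∀ i, i < 25911 → P i := stepQ 25910 Q25910 (allL N25910 (tt N25916 (iv F51980)) (tt N25960 (iv F52098)) (tt N25816 (iv D25948)) (tt N25910 F51966) (tt N25964 (iv F52109)) (tt N25965 D26003))
theorem Q25912 : ∀ i, i < 25912 → P i := stepQ 25911 Q25911 (allL N25911 (tt N25831 F51967) (tt N25819 F51968) (tt N25965 (iv F52112)) (tt N25817 F51969) (tt N25938 (iv F52036)) (tt N25816 (iv D25949)))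
theorem Q25913 : ∀ i, i < 25913 → P i := stepQ 25912 Q25912 (allL N25912 (tt N25894 F51970) (tt N25965 (iv F52111)) (tt N25820 (iv D25950)) (tt N25912 F51971) (tt N25962 (iv F52104)) (tt N25960 (iv F52100)))
theorem Q25914 : ∀ i, i < 25914 → P i := stepQ 25913 Q25913 (allL N25913 (tt N25892 F51972) (tt N25916 (iv F51981)) (tt N25829 (iv D25951)) (tt N25913 F51974) (tt N25966 D26004) (tt N25886 F51973))
theorem Q25915 : ∀ i, i < 25915 → P i := stepQ 25914 Q25914 (allL N25914 (tt N25890 F51975) (tt N25830 F51976) (tt N25966 (iv F52115)) (tt N25852 F51977) (tt N25829 (iv D25952)) (tt N25937 (iv F52033)))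
theorem Q25916 : ∀ i, i < 25916 → P i := stepQ 25915 Q25915 (allL N25915 (tt N25965 (iv F52110)) (tt N25886 F51978) (tt N25831 (iv D25953)) (tt N25915 F51979) (tt N25934 (iv F52025)) (tt N25916 (iv F51982)))
theorem Q25917 : ∀ i, i < 25917 → P i := stepQ 25916 Q25916 (allL N25916 (tt N25910 F51980) (tt N25913 F51981) (tt N25832 (iv D25954)) (tt N25916 F51983) (tt N25967 D26005) (tt N25915 F51982))
theorem Q25918 : ∀ i, i < 25918 → P i := stepQ 25917 Q25917 (allL N25917 (tt N25908 F51984) (tt N25833 F51985) (tt N25967 (iv F52118)) (tt N25907 F51986) (tt N25832 (iv D25955)) (tt N25921 (iv F51995)))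
theorem Q25919 : ∀ i, i < 25919 → P i := stepQ 25918 Q25918 (allL N25918 (tt N25836 F51987) (tt N25876 F51988) (tt N25968 D26006) (tt N25835 (iv D25956)) (tt N25963 (iv F52107)) (tt N25938 (iv F52037)))
theorem Q25920 : ∀ i, i < 25920 → P i := stepQ 25919 Q25919 (allL N25919 (tt N25837 F51989) (tt N25866 F51990) (tt N25841 F51991) (tt N25938 (iv F52035)) (tt N25844 F51992) (tt N25835 (iv D25957)))
theorem Q25921 : ∀ i, i < 25921 → P i := stepQ 25920 Q25920 (allL N25920 (tt N25968 (iv F52119)) (tt N25936 (iv F52029)) (tt N25836 (iv D25958)) (tt N25969 D26007) (tt N25970 D26008) (tt N25934 F52026))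
theorem Q25922 : ∀ i, i < 25922 → P i := stepQ 25921 Q25921 (allL N25921 (tt N25963 (iv F52105)) (tt N25838 F51993) (tt N25970 (iv F52120)) (tt N25840 F51994) (tt N25836 (iv D25959)) (tt N25917 F51995))
theorem Q25923 : ∀ i, i < 25923 → P i := stepQ 25922 Q25922 (allL N25922 (tt N25862 F51996) (tt N25846 F51997) (tt N25840 F51998) (tt N25971 D26009) (tt N25839 (iv D25960)) (tt N25944 (iv F52056)))
theorem Q25924 : ∀ i, i < 25924 → P i := stepQ 25923 Q25923 (allL N25923 (tt N25950 (iv F52070)) (tt N25942 (iv F52046)) (tt N25972 D26010) (tt N25842 (iv D25961)) (tt N25923 F51999) (tt N25973 D26011))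
theorem Q25925 : ∀ i, i < 25925 → P i := stepQ 25924 Q25924 (allL N25924 (tt N25947 (iv F52062)) (tt N25931 (iv F52017)) (tt N25843 F52000) (tt N25973 (iv F52126)) (tt N25947 (iv F52064)) (tt N25842 (iv D25962)))
theorem Q25926 : ∀ i, i < 25926 → P i := stepQ 25925 Q25925 (allL N25925 (tt N25849 F52001) (tt N25868 F52002) (tt N25853 F52003) (tt N25974 D26012) (tt N25845 (iv D25963)) (tt N25925 F52004))
theorem Q25927 : ∀ i, i < 25927 → P i := stepQ 25926 Q25926 (allL N25926 (tt N25850 F52005) (tt N25971 (iv F52123)) (tt N25975 D26013) (tt N25846 (iv D25964)) (tt N25974 (iv F52129)) (tt N25976 D26014))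
theorem Q25928 : ∀ i, i < 25928 → P i := stepQ 25927 Q25927 (allL N25927 (tt N25851 F52006) (tt N25944 (iv F52053)) (tt N25847 F52007) (tt N25976 (iv F52133)) (tt N25867 F52008) (tt N25846 (iv D25965)))
theorem Q25929 : ∀ i, i < 25929 → P i := stepQ 25928 Q25928 (allL N25928 (tt N25974 (iv F52127)) (tt N25864 F52009) (tt N25977 D26015) (tt N25849 (iv D25966)) (tt N25850 F52010) (tt N25928 F52011))
theorem Q25930 : ∀ i, i < 25930 → P i := stepQ 25929 Q25929 (allL N25929 (tt N25975 (iv F52131)) (tt N25929 F52012) (tt N25850 (iv D25967)) (tt N25978 D26016) (tt N25977 (iv F52136)) (tt N25978 (iv F52142)))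
theorem Q25931 : ∀ i, i < 25931 → P i := stepQ 25930 Q25930 (allL N25930 (tt N25976 (iv F52132)) (tt N25865 F52013) (tt N25978 (iv F52141)) (tt N25851 F52014) (tt N25930 F52015) (tt N25850 (iv D25968)))
theorem Q25932 : ∀ i, i < 25932 → P i := stepQ 25931 Q25931 (allL N25931 (tt N25880 F52016) (tt N25924 F52017) (tt N25854 (iv D25969)) (tt N25979 D26017) (tt N25881 F52018) (tt N25870 F52019))
theorem Q25933 : ∀ i, i < 25933 → P i := stepQ 25932 Q25932 (allL N25932 (tt N25858 F52020) (tt N25957 (iv F52090)) (tt N25856 (iv D25970)) (tt N25980 D26018) (tt N25943 (iv F52051)) (tt N25981 D26019))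
theorem Q25934 : ∀ i, i < 25934 → P i := stepQ 25933 Q25933 (allL N25933 (tt N25859 F52021) (tt N25879 F52022) (tt N25981 (iv F52150)) (tt N25857 F52023) (tt N25951 (iv F52075)) (tt N25856 (iv D25971)))
theorem Q25935 : ∀ i, i < 25935 → P i := stepQ 25934 Q25934 (allL N25934 (tt N25982 D26020) (tt N25858 (iv D25972)) (tt N25860 F52024) (tt N25983 D26021) (tt N25915 F52025) (tt N25920 (iv F52026)))
theorem Q25936 : ∀ i, i < 25936 → P i := stepQ 25935 Q25935 (allL N25935 (tt N25980 (iv F52146)) (tt N25983 (iv F52157)) (tt N25885 F52028) (tt N25858 (iv D25973)) (tt N25935 F52027) (tt N25984 D26022))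
theorem Q25937 : ∀ i, i < 25937 → P i := stepQ 25936 Q25936 (allL N25936 (tt N25981 (iv F52149)) (tt N25920 F52029) (tt N25859 F52030) (tt N25984 (iv F52163)) (tt N25985 D26023) (tt N25858 (iv D25974)))
theorem Q25938 : ∀ i, i < 25938 → P i := stepQ 25937 Q25937 (allL N25937 (tt N25951 (iv F52073)) (tt N25861 F52031) (tt N25985 (iv F52165)) (tt N25878 F52032) (tt N25859 (iv D25975)) (tt N25914 F52033))
theorem Q25939 : ∀ i, i < 25939 → P i := stepQ 25938 Q25938 (allL N25938 (tt N25860 (iv D25976)) (tt N25904 F52034) (tt N25982 (iv F52152)) (tt N25919 F52035) (tt N25911 F52036) (tt N25918 F52037))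
theorem Q25940 : ∀ i, i < 25940 → P i := stepQ 25939 Q25939 (allL N25939 (tt N25971 (iv F52122)) (tt N25863 F52038) (tt N25986 D26024) (tt N25862 (iv D25977)) (tt N25869 F52039) (tt N25945 (iv F52059)))
theorem Q25941 : ∀ i, i < 25941 → P i := stepQ 25940 Q25940 (allL N25940 (tt N25869 F52040) (tt N25974 (iv F52128)) (tt N25987 D26025) (tt N25868 (iv D25978)) (tt N25971 (iv F52124)) (tt N25940 F52041))
theorem Q25942 : ∀ i, i < 25942 → P i := stepQ 25941 Q25941 (allL N25941 (tt N25987 (iv F52169)) (tt N25941 F52042) (tt N25869 (iv D25979)) (tt N25941 F52044) (tt N25986 (iv F52168)) (tt N25941 F52043))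
theorem Q25943 : ∀ i, i < 25943 → P i := stepQ 25942 Q25942 (allL N25942 (tt N25885 F52045) (tt N25923 F52046) (tt N25980 (iv F52148)) (tt N25870 (iv D25980)) (tt N25942 F52047) (tt N25979 (iv F52145)))
theorem Q25944 : ∀ i, i < 25944 → P i := stepQ 25943 Q25943 (allL N25943 (tt N25886 F52048) (tt N25894 F52049) (tt N25871 (iv D25981)) (tt N25943 F52050) (tt N25932 F52051) (tt N25892 F52052))
theorem Q25945 : ∀ i, i < 25945 → P i := stepQ 25944 Q25944 (allL N25944 (tt N25874 (iv D25982)) (tt N25927 F52053) (tt N25907 F52054) (tt N25988 D26026) (tt N25877 F52055) (tt N25922 F52056))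
theorem Q25946 : ∀ i, i < 25946 → P i := stepQ 25945 Q25945 (allL N25945 (tt N25988 (iv F52172)) (tt N25875 F52057) (tt N25989 D26027) (tt N25874 (iv D25983)) (tt N25945 F52058) (tt N25939 F52059))
theorem Q25947 : ∀ i, i < 25947 → P i := stepQ 25946 Q25946 (allL N25946 (tt N25979 (iv F52143)) (tt N25882 F52060) (tt N25984 (iv F52162)) (tt N25880 (iv D25984)) (tt N25990 D26028) (tt N25885 F52061))
theorem Q25948 : ∀ i, i < 25948 → P i := stepQ 25947 Q25947 (allL N25947 (tt N25924 F52062) (tt N25881 (iv D25985)) (tt N25887 F52063) (tt N25991 D26029) (tt N25924 F52064) (tt N25883 F52065))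
theorem Q25949 : ∀ i, i < 25949 → P i := stepQ 25948 Q25948 (allL N25948 (tt N25882 F52066) (tt N25991 (iv F52183)) (tt N25882 F52067) (tt N25881 (iv D25986)) (tt N25992 D26030) (tt N25884 F52068))
theorem Q25950 : ∀ i, i < 25950 → P i := stepQ 25949 Q25949 (allL N25949 (tt N25992 (iv F52186)) (tt N25990 (iv F52179)) (tt N25992 (iv F52187)) (tt N25990 (iv F52180)) (tt N25882 (iv D25987)) (tt N25949 F52069))
theorem Q25951 : ∀ i, i < 25951 → P i := stepQ 25950 Q25950 (allL N25950 (tt N25923 F52070) (tt N25884 F52071) (tt N25983 (iv F52160)) (tt N25883 (iv D25988)) (tt N25950 F52072) (tt N25991 (iv F52185)))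
theorem Q25952 : ∀ i, i < 25952 → P i := stepQ 25951 Q25951 (allL N25951 (tt N25937 F52073) (tt N25889 F52074) (tt N25993 D26031) (tt N25888 (iv D25989)) (tt N25933 F52075) (tt N25890 F52076))
theorem Q25953 : ∀ i, i < 25953 → P i := stepQ 25952 Q25952 (allL N25952 (tt N25900 F52077) (tt N25994 D26032) (tt N25889 (iv D25990)) (tt N25909 F52078) (tt N25897 F52079) (tt N25891 F52080))
theorem Q25954 : ∀ i, i < 25954 → P i := stepQ 25953 Q25953 (allL N25953 (tt N25966 (iv F52114)) (tt N25995 D26033) (tt N25890 (iv D25991)) (tt N25996 D26034) (tt N25892 F52081) (tt N25993 (iv F52191)))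
theorem Q25955 : ∀ i, i < 25955 → P i := stepQ 25954 Q25954 (allL N25954 (tt N25961 (iv F52101)) (tt N25891 (iv D25992)) (tt N25995 (iv F52195)) (tt N25997 D26035) (tt N25893 F52082) (tt N25994 (iv F52194)))
theorem Q25956 : ∀ i, i < 25956 → P i := stepQ 25955 Q25955 (allL N25955 (tt N25899 F52083) (tt N25997 (iv F52200)) (tt N25906 F52084) (tt N25891 (iv D25993)) (tt N25898 F52085) (tt N25909 F52086))
theorem Q25957 : ∀ i, i < 25957 → P i := stepQ 25956 Q25956 (allL N25956 (tt N25960 (iv F52097)) (tt N25892 (iv D25994)) (tt N25893 F52087) (tt N25956 F52088) (tt N25995 (iv F52196)) (tt N25894 F52089))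
theorem Q25958 : ∀ i, i < 25958 → P i := stepQ 25957 Q25957 (allL N25957 (tt N25962 (iv F52103)) (tt N25932 F52090) (tt N25895 F52091) (tt N25998 D26036) (tt N25894 (iv D25995)) (tt N25999 D26037))
theorem Q25959 : ∀ i, i < 25959 → P i := stepQ 25958 Q25958 (allL N25958 (tt N25959 (iv F52094)) (tt N25897 F52092) (tt N25999 (iv F52206)) (tt N25902 F52093) (tt N25994 (iv F52193)) (tt N25895 (iv D25996)))
theorem Q25960 : ∀ i, i < 25960 → P i := stepQ 25959 Q25959 (allL N25959 (tt N25958 F52094) (tt N25898 F52095) (tt N26000 D26038) (tt N25896 (iv D25997)) (tt N25997 (iv F52201)) (tt N25903 F52096))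
theorem Q25961 : ∀ i, i < 25961 → P i := stepQ 25960 Q25960 (allL N25960 (tt N25956 F52097) (tt N25910 F52098) (tt N25901 (iv D25998)) (tt N25960 F52099) (tt N26001 D26039) (tt N25912 F52100))
theorem Q25962 : ∀ i, i < 25962 → P i := stepQ 25961 Q25961 (allL N25961 (tt N25954 F52101) (tt N25909 F52102) (tt N26001 (iv F52212)) (tt N25994 (iv F52192)) (tt N25901 (iv D25999)) (tt N25997 (iv F52202)))
theorem Q25963 : ∀ i, i < 25963 → P i := stepQ 25962 Q25962 (allL N25962 (tt N25957 F52103) (tt N25982 (iv F52151)) (tt N25903 (iv D26000)) (tt N26002 D26040) (tt N25912 F52104) (tt N26000 (iv F52209)))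
theorem Q25964 : ∀ i, i < 25964 → P i := stepQ 25963 Q25963 (allL N25963 (tt N25921 F52105) (tt N25906 F52106) (tt N26003 D26041) (tt N25905 (iv D26001)) (tt N25918 F52107) (tt N25908 F52108))
theorem Q25965 : ∀ i, i < 25965 → P i := stepQ 25964 Q25964 (allL N25964 (tt N25967 (iv F52116)) (tt N26001 (iv F52211)) (tt N25908 (iv D26002)) (tt N26004 D26042) (tt N25910 F52109) (tt N26003 (iv F52219)))
theorem Q25966 : ∀ i, i < 25966 → P i := stepQ 25965 Q25965 (allL N25965 (tt N25915 F52110) (tt N25912 F52111) (tt N25911 F52112) (tt N25965 F52113) (tt N25982 (iv F52153)) (tt N25910 (iv D26003)))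
theorem Q25967 : ∀ i, i < 25967 → P i := stepQ 25966 Q25966 (allL N25966 (tt N25953 F52114) (tt N25967 (iv F52117)) (tt N25914 F52115) (tt N26005 D26043) (tt N25913 (iv D26004)) (tt N25985 (iv F52166)))
theorem Q25968 : ∀ i, i < 25968 → P i := stepQ 25967 Q25967 (allL N25967 (tt N25964 F52116) (tt N25966 F52117) (tt N25917 F52118) (tt N26006 D26044) (tt N25916 (iv D26005)) (tt N25970 (iv F52121)))
theorem Q25969 : ∀ i, i < 25969 → P i := stepQ 25968 Q25968 (allL N25968 (tt N25920 F52119) (tt N26000 (iv F52208)) (tt N25918 (iv D26006)) (tt N26007 D26045) (tt N26003 (iv F52218)) (tt N25982 (iv F52154)))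
theorem Q25970 : ∀ i, i < 25970 → P i := stepQ 25969 Q25969 (allL N25969 (tt N26007 (iv F52227)) (tt N25984 (iv F52161)) (tt N25991 (iv F52184)) (tt N25920 (iv D26007)) (tt N26008 D26046) (tt N25983 (iv F52159)))
theorem Q25971 : ∀ i, i < 25971 → P i := stepQ 25970 Q25970 (allL N25970 (tt N26003 (iv F52217)) (tt N25985 (iv F52164)) (tt N25921 F52120) (tt N26009 D26047) (tt N25920 (iv D26008)) (tt N25967 F52121))
theorem Q25972 : ∀ i, i < 25972 → P i := stepQ 25971 Q25971 (allL N25971 (tt N25939 F52122) (tt N25926 F52123) (tt N26010 D26048) (tt N25922 (iv D26009)) (tt N25940 F52124) (tt N25988 (iv F52175)))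
theorem Q25973 : ∀ i, i < 25973 → P i := stepQ 25972 Q25972 (allL N25972 (tt N25983 (iv F52156)) (tt N26002 (iv F52214)) (tt N25923 (iv D26010)) (tt N25982 F52155) (tt N25972 F52125) (tt N26007 (iv F52229)))
theorem Q25974 : ∀ i, i < 25974 → P i := stepQ 25973 Q25973 (allL N25973 (tt N25991 (iv F52182)) (tt N25979 (iv F52144)) (tt N26007 (iv F52228)) (tt N25924 F52126) (tt N26011 D26049) (tt N25923 (iv D26011)))
theorem Q25975 : ∀ i, i < 25975 → P i := stepQ 25974 Q25974 (allL N25974 (tt N25928 F52127) (tt N25940 F52128) (tt N26012 D26050) (tt N25925 (iv D26012)) (tt N25926 F52129) (tt N25974 F52130))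
theorem Q25976 : ∀ i, i < 25976 → P i := stepQ 25975 Q25975 (allL N25975 (tt N25929 F52131) (tt N26013 D26051) (tt N25926 (iv D26013)) (tt N26014 D26052) (tt N26012 (iv F52237)) (tt N26014 (iv F52243)))
theorem Q25977 : ∀ i, i < 25977 → P i := stepQ 25976 Q25976 (allL N25976 (tt N25930 F52132) (tt N25988 (iv F52173)) (tt N26014 (iv F52241)) (tt N25927 F52133) (tt N25976 F52134) (tt N25926 (iv D26014)))
theorem Q25978 : ∀ i, i < 25978 → P i := stepQ 25977 Q25977 (allL N25977 (tt N26012 (iv F52235)) (tt N25977 F52135) (tt N25928 (iv D26015)) (tt N25977 F52138) (tt N25929 F52136) (tt N25977 F52137))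
theorem Q25979 : ∀ i, i < 25979 → P i := stepQ 25978 Q25978 (allL N25978 (tt N26014 (iv F52240)) (tt N25978 F52139) (tt N25930 F52141) (tt N25929 (iv D26016)) (tt N25978 F52140) (tt N25929 F52142))
theorem Q25980 : ∀ i, i < 25980 → P i := stepQ 25979 Q25979 (allL N25979 (tt N25946 F52143) (tt N25973 F52144) (tt N26015 D26053) (tt N25931 (iv D26017)) (tt N26016 D26054) (tt N25942 F52145))
theorem Q25981 : ∀ i, i < 25981 → P i := stepQ 25980 Q25980 (allL N25980 (tt N25935 F52146) (tt N25998 (iv F52203)) (tt N25942 F52148) (tt N25932 (iv D26018)) (tt N25980 F52147) (tt N26015 (iv F52246)))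
theorem Q25982 : ∀ i, i < 25982 → P i := stepQ 25981 Q25981 (allL N25981 (tt N25936 F52149) (tt N25999 (iv F52205)) (tt N25933 F52150) (tt N26015 (iv F52245)) (tt N25993 (iv F52190)) (tt N25932 (iv D26019)))
theorem Q25983 : ∀ i, i < 25983 → P i := stepQ 25982 Q25982 (allL N25982 (tt N25934 (iv D26020)) (tt N25962 F52151) (tt N25938 F52152) (tt N25972 (iv F52155)) (tt N25965 F52153) (tt N25968 F52154))
theorem Q25984 : ∀ i, i < 25984 → P i := stepQ 25983 Q25983 (allL N25983 (tt N25972 F52156) (tt N25935 F52157) (tt N25950 F52160) (tt N25934 (iv D26021)) (tt N25983 F52158) (tt N25969 F52159))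
theorem Q25985 : ∀ i, i < 25985 → P i := stepQ 25984 Q25984 (allL N25984 (tt N26015 (iv F52244)) (tt N25969 F52161) (tt N25946 F52162) (tt N25936 F52163) (tt N26017 D26055) (tt N25935 (iv D26022)))
theorem Q25986 : ∀ i, i < 25986 → P i := stepQ 25985 Q25985 (allL N25985 (tt N25993 (iv F52189)) (tt N25970 F52164) (tt N25937 F52165) (tt N26018 D26056) (tt N25936 (iv D26023)) (tt N25966 F52166))
theorem Q25987 : ∀ i, i < 25987 → P i := stepQ 25986 Q25986 (allL N25986 (tt N26010 (iv F52232)) (tt N25986 F52167) (tt N25939 (iv D26024)) (tt N26019 D26057) (tt N25941 F52168) (tt N25989 (iv F52178)))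
theorem Q25988 : ∀ i, i < 25988 → P i := stepQ 25987 Q25987 (allL N25987 (tt N25941 F52169) (tt N26020 D26058) (tt N25940 (iv D26025)) (tt N25987 F52170) (tt N26010 (iv F52233)) (tt N25987 F52171))
theorem Q25989 : ∀ i, i < 25989 → P i := stepQ 25988 Q25988 (allL N25988 (tt N25945 F52172) (tt N25976 F52173) (tt N26021 D26059) (tt N25944 (iv D26026)) (tt N25988 F52174) (tt N25971 F52175))
theorem Q25990 : ∀ i, i < 25990 → P i := stepQ 25989 Q25989 (allL N25989 (tt N26021 (iv F52263)) (tt N25989 F52176) (tt N25945 (iv D26027)) (tt N26022 D26060) (tt N25989 F52177) (tt N25986 F52178))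
theorem Q25991 : ∀ i, i < 25991 → P i := stepQ 25990 Q25990 (allL N25990 (tt N26016 (iv F52247)) (tt N25949 F52179) (tt N26017 (iv F52252)) (tt N25949 F52180) (tt N25946 (iv D26028)) (tt N25990 F52181))
theorem Q25992 : ∀ i, i < 25992 → P i := stepQ 25991 Q25991 (allL N25991 (tt N25973 F52182) (tt N25948 F52183) (tt N25969 F52184) (tt N25947 (iv D26029)) (tt N26023 D26061) (tt N25950 F52185))
theorem Q25993 : ∀ i, i < 25993 → P i := stepQ 25992 Q25992 (allL N25992 (tt N25949 F52186) (tt N26023 (iv F52270)) (tt N25949 F52187) (tt N26016 (iv F52249)) (tt N25948 (iv D26030)) (tt N25992 F52188))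
theorem Q25994 : ∀ i, i < 25994 → P i := stepQ 25993 Q25993 (allL N25993 (tt N25985 F52189) (tt N26024 D26062) (tt N25951 (iv D26031)) (tt N26025 D26063) (tt N25981 F52190) (tt N25953 F52191))
theorem Q25995 : ∀ i, i < 25995 → P i := stepQ 25994 Q25994 (allL N25994 (tt N25997 (iv F52199)) (tt N25952 (iv D26032)) (tt N26024 (iv F52274)) (tt N25961 F52192) (tt N25958 F52193) (tt N25954 F52194))
theorem Q25996 : ∀ i, i < 25996 → P i := stepQ 25995 Q25995 (allL N25995 (tt N26001 (iv F52210)) (tt N25953 (iv D26033)) (tt N25954 F52195) (tt N26026 D26064) (tt N25956 F52196) (tt N26024 (iv F52276)))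
theorem Q25997 : ∀ i, i < 25997 → P i := stepQ 25996 Q25996 (allL N25996 (tt N26005 (iv F52221)) (tt N26026 (iv F52280)) (tt N25996 F52198) (tt N25953 (iv D26034)) (tt N25996 F52197) (tt N26025 (iv F52279)))
theorem Q25998 : ∀ i, i < 25998 → P i := stepQ 25997 Q25997 (allL N25997 (tt N25994 F52199) (tt N25955 F52200) (tt N26027 D26065) (tt N25954 (iv D26035)) (tt N25959 F52201) (tt N25961 F52202))
theorem Q25999 : ∀ i, i < 25999 → P i := stepQ 25998 Q25998 (allL N25998 (tt N26002 (iv F52213)) (tt N25980 F52203) (tt N26002 (iv F52216)) (tt N25957 (iv D26036)) (tt N25998 F52204) (tt N26028 D26066))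
theorem Q26000 : ∀ i, i < 26000 → P i := stepQ 25999 Q25999 (allL N25999 (tt N26000 (iv F52207)) (tt N25981 F52205) (tt N25958 F52206) (tt N26028 (iv F52287)) (tt N26024 (iv F52275)) (tt N25957 (iv D26037)))
theorem Q26001 : ∀ i, i < 26001 → P i := stepQ 26000 Q26000 (allL N26000 (tt N25999 F52207) (tt N25968 F52208) (tt N25959 (iv D26038)) (tt N26029 D26067) (tt N26027 (iv F52284)) (tt N25962 F52209))
theorem Q26002 : ∀ i, i < 26002 → P i := stepQ 26001 Q26001 (allL N26001 (tt N25995 F52210) (tt N25964 F52211) (tt N25961 F52212) (tt N26030 D26068) (tt N25960 (iv D26039)) (tt N26027 (iv F52285)))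
theorem Q26003 : ∀ i, i < 26003 → P i := stepQ 26002 Q26002 (allL N26002 (tt N25998 F52213) (tt N25972 F52214) (tt N25998 F52216) (tt N25962 (iv D26040)) (tt N26002 F52215) (tt N26029 (iv F52291)))
theorem Q26004 : ∀ i, i < 26004 → P i := stepQ 26003 Q26003 (allL N26003 (tt N25970 F52217) (tt N26027 (iv F52283)) (tt N25963 (iv D26041)) (tt N26031 D26069) (tt N25968 F52218) (tt N25964 F52219))
theorem Q26005 : ∀ i, i < 26005 → P i := stepQ 26004 Q26004 (allL N26004 (tt N26006 (iv F52224)) (tt N26030 (iv F52293)) (tt N26032 D26070) (tt N25964 (iv D26042)) (tt N26004 F52220) (tt N26031 (iv F52296)))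
theorem Q26006 : ∀ i, i < 26006 → P i := stepQ 26005 Q26005 (allL N26005 (tt N25996 F52221) (tt N26006 (iv F52225)) (tt N26005 F52223) (tt N25966 (iv D26043)) (tt N26005 F52222) (tt N26018 (iv F52256)))
theorem Q26007 : ∀ i, i < 26007 → P i := stepQ 26006 Q26006 (allL N26006 (tt N26004 F52224) (tt N26005 F52225) (tt N26019 (iv F52259)) (tt N25967 (iv D26044)) (tt N26006 F52226) (tt N26009 (iv F52231)))
theorem Q26008 : ∀ i, i < 26008 → P i := stepQ 26007 Q26007 (allL N26007 (tt N25969 F52227) (tt N26029 (iv F52289)) (tt N25973 F52228) (tt N25968 (iv D26045)) (tt N26033 D26071) (tt N25972 F52229))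
theorem Q26009 : ∀ i, i < 26009 → P i := stepQ 26008 Q26008 (allL N26008 (tt N26033 (iv F52300)) (tt N26017 (iv F52251)) (tt N26023 (iv F52271)) (tt N26034 D26072) (tt N25969 (iv D26046)) (tt N26008 F52230))
theorem Q26010 : ∀ i, i < 26010 → P i := stepQ 26009 Q26009 (allL N26009 (tt N26031 (iv F52295)) (tt N26018 (iv F52254)) (tt N26022 (iv F52268)) (tt N25970 (iv D26047)) (tt N26034 (iv F52303)) (tt N26006 F52231))
theorem Q26011 : ∀ i, i < 26011 → P i := stepQ 26010 Q26010 (allL N26010 (tt N25986 F52232) (tt N26035 D26073) (tt N25971 (iv D26048)) (tt N26032 (iv F52298)) (tt N25987 F52233) (tt N26021 (iv F52265)))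
theorem Q26012 : ∀ i, i < 26012 → P i := stepQ 26011 Q26011 (allL N26011 (tt N26023 (iv F52269)) (tt N26016 (iv F52248)) (tt N26033 (iv F52301)) (tt N26023 (iv F52272)) (tt N25973 (iv D26049)) (tt N26011 F52234))
theorem Q26013 : ∀ i, i < 26013 → P i := stepQ 26012 Q26012 (allL N26012 (tt N25977 F52235) (tt N26036 D26074) (tt N25974 (iv D26050)) (tt N26012 F52236) (tt N25975 F52237) (tt N26012 F52238))
theorem Q26014 : ∀ i, i < 26014 → P i := stepQ 26013 Q26013 (allL N26013 (tt N26013 F52239) (tt N25975 (iv D26051)) (tt N26035 (iv F52306)) (tt N26037 D26075) (tt N26036 (iv F52311)) (tt N26037 F52316))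
theorem Q26015 : ∀ i, i < 26015 → P i := stepQ 26014 Q26014 (allL N26014 (tt N25978 F52240) (tt N26037 (iv F52314)) (tt N25976 F52241) (tt N25975 (iv D26052)) (tt N26014 F52242) (tt N25975 F52243))
theorem Q26016 : ∀ i, i < 26016 → P i := stepQ 26015 Q26015 (allL N26015 (tt N25984 F52244) (tt N26028 (iv F52286)) (tt N25979 (iv D26053)) (tt N25981 F52245) (tt N26038 D26076) (tt N25980 F52246))
theorem Q26017 : ∀ i, i < 26017 → P i := stepQ 26016 Q26016 (allL N26016 (tt N25990 F52247) (tt N26011 F52248) (tt N26038 (iv F52318)) (tt N25992 F52249) (tt N25979 (iv D26054)) (tt N26016 F52250))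
theorem Q26018 : ∀ i, i < 26018 → P i := stepQ 26017 Q26017 (allL N26017 (tt N26038 (iv F52317)) (tt N26008 F52251) (tt N25990 F52252) (tt N26039 D26077) (tt N25984 (iv D26055)) (tt N26017 F52253))
theorem Q26019 : ∀ i, i < 26019 → P i := stepQ 26018 Q26018 (allL N26018 (tt N26025 (iv F52277)) (tt N26009 F52254) (tt N26018 F52255) (tt N25985 (iv D26056)) (tt N26039 (iv F52321)) (tt N26005 F52256))
theorem Q26020 : ∀ i, i < 26020 → P i := stepQ 26019 Q26019 (allL N26019 (tt N26032 (iv F52297)) (tt N26019 F52257) (tt N26006 F52259) (tt N25986 (iv D26057)) (tt N26019 F52258) (tt N26022 (iv F52267)))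
theorem Q26021 : ∀ i, i < 26021 → P i := stepQ 26020 Q26020 (allL N26020 (tt N26020 F52260) (tt N25987 (iv D26058)) (tt N26036 (iv F52309)) (tt N26020 F52261) (tt N26035 (iv F52307)) (tt N26020 F52262))
theorem Q26022 : ∀ i, i < 26022 → P i := stepQ 26021 Q26021 (allL N26021 (tt N25989 F52263) (tt N26040 D26078) (tt N25988 (iv D26059)) (tt N26041 D26079) (tt N26021 F52264) (tt N26010 F52265))
theorem Q26023 : ∀ i, i < 26023 → P i := stepQ 26022 Q26022 (allL N26022 (tt N26041 (iv F52328)) (tt N26022 F52266) (tt N26009 F52268) (tt N25989 (iv D26060)) (tt N26042 D26080) (tt N26019 F52267))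
theorem Q26024 : ∀ i, i < 26024 → P i := stepQ 26023 Q26023 (allL N26023 (tt N26011 F52269) (tt N25992 F52270) (tt N26008 F52271) (tt N26011 F52272) (tt N25991 (iv D26061)) (tt N26023 F52273))
theorem Q26025 : ∀ i, i < 26025 → P i := stepQ 26024 Q26024 (allL N26024 (tt N26027 (iv F52282)) (tt N25993 (iv D26062)) (tt N25994 F52274) (tt N26043 D26081) (tt N25999 F52275) (tt N25995 F52276))
theorem Q26026 : ∀ i, i < 26026 → P i := stepQ 26025 Q26025 (allL N26025 (tt N26018 F52277) (tt N26043 (iv F52335)) (tt N26025 F52278) (tt N25993 (iv D26063)) (tt N26044 D26082) (tt N25996 F52279))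
theorem Q26027 : ∀ i, i < 26027 → P i := stepQ 26026 Q26026 (allL N26026 (tt N26030 (iv F52292)) (tt N25996 F52280) (tt N26045 D26083) (tt N25995 (iv D26064)) (tt N26026 F52281) (tt N26043 (iv F52336)))
theorem Q26028 : ∀ i, i < 26028 → P i := stepQ 26027 Q26027 (allL N26027 (tt N26024 F52282) (tt N26003 F52283) (tt N25997 (iv D26065)) (tt N26046 D26084) (tt N26000 F52284) (tt N26001 F52285))
theorem Q26029 : ∀ i, i < 26029 → P i := stepQ 26028 Q26028 (allL N26028 (tt N26029 (iv F52288)) (tt N26015 F52286) (tt N26029 (iv F52290)) (tt N25999 F52287) (tt N26047 D26085) (tt N25998 (iv D26066)))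
theorem Q26030 : ∀ i, i < 26030 → P i := stepQ 26029 Q26029 (allL N26029 (tt N26028 F52288) (tt N26007 F52289) (tt N26028 F52290) (tt N26000 (iv D26067)) (tt N26048 D26086) (tt N26002 F52291))
theorem Q26031 : ∀ i, i < 26031 → P i := stepQ 26030 Q26030 (allL N26030 (tt N26026 F52292) (tt N26004 F52293) (tt N26049 D26087) (tt N26001 (iv D26068)) (tt N26030 F52294) (tt N26046 (iv F52346)))
theorem Q26032 : ∀ i, i < 26032 → P i := stepQ 26031 Q26031 (allL N26031 (tt N26009 F52295) (tt N26046 (iv F52345)) (tt N26041 (iv F52329)) (tt N26003 (iv D26069)) (tt N26050 D26088) (tt N26004 F52296))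
theorem Q26033 : ∀ i, i < 26033 → P i := stepQ 26032 Q26032 (allL N26032 (tt N26019 F52297) (tt N26051 D26089) (tt N26004 (iv D26070)) (tt N26010 F52298) (tt N26032 F52299) (tt N26041 (iv F52330)))
theorem Q26034 : ∀ i, i < 26034 → P i := stepQ 26033 Q26033 (allL N26033 (tt N26008 F52300) (tt N26048 (iv F52350)) (tt N26011 F52301) (tt N26050 (iv F52357)) (tt N26007 (iv D26071)) (tt N26033 F52302))
theorem Q26035 : ∀ i, i < 26035 → P i := stepQ 26034 Q26034 (allL N26034 (tt N26050 (iv F52356)) (tt N26039 (iv F52320)) (tt N26042 (iv F52332)) (tt N26008 (iv D26072)) (tt N26009 F52303) (tt N26034 F52304))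
theorem Q26036 : ∀ i, i < 26036 → P i := stepQ 26035 Q26035 (allL N26035 (tt N26035 F52305) (tt N26010 (iv D26073)) (tt N26013 F52306) (tt N26051 (iv F52360)) (tt N26020 F52307) (tt N26040 (iv F52327)))
theorem Q26037 : ∀ i, i < 26037 → P i := stepQ 26036 Q26036 (allL N26036 (tt N26036 F52308) (tt N26012 (iv D26074)) (tt N26020 F52309) (tt N26036 F52310) (tt N26013 F52311) (tt N26036 F52312))
theorem Q26038 : ∀ i, i < 26038 → P i := stepQ 26037 Q26037 (allL N26037 (tt N26037 F52313) (tt N26014 F52314) (tt N26040 (iv F52325)) (tt N26013 (iv D26075)) (tt N26037 F52315) (tt N26013 (iv F52316)))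
theorem Q26039 : ∀ i, i < 26039 → P i := stepQ 26038 Q26038 (allL N26038 (tt N26017 F52317) (tt N26047 (iv F52347)) (tt N26016 F52318) (tt N26044 (iv F52339)) (tt N26015 (iv D26076)) (tt N26038 F52319))
theorem Q26040 : ∀ i, i < 26040 → P i := stepQ 26039 Q26039 (allL N26039 (tt N26044 (iv F52337)) (tt N26034 F52320) (tt N26039 F52323) (tt N26017 (iv D26077)) (tt N26018 F52321) (tt N26039 F52322))
theorem Q26041 : ∀ i, i < 26041 → P i := stepQ 26040 Q26040 (allL N26040 (tt N26040 F52324) (tt N26021 (iv D26078)) (tt N26037 F52325) (tt N26052 D26090) (tt N26040 F52326) (tt N26035 F52327))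
theorem Q26042 : ∀ i, i < 26042 → P i := stepQ 26041 Q26041 (allL N26041 (tt N26022 F52328) (tt N26052 (iv F52363)) (tt N26031 F52329) (tt N26021 (iv D26079)) (tt N26053 D26091) (tt N26032 F52330))
theorem Q26043 : ∀ i, i < 26043 → P i := stepQ 26042 Q26042 (allL N26042 (tt N26053 (iv F52365)) (tt N26042 F52331) (tt N26034 F52332) (tt N26042 F52333) (tt N26022 (iv D26080)) (tt N26042 F52334))
theorem Q26044 : ∀ i, i < 26044 → P i := stepQ 26043 Q26043 (allL N26043 (tt N26046 (iv F52344)) (tt N26025 F52335) (tt N26054 D26092) (tt N26024 (iv D26081)) (tt N26055 D26093) (tt N26026 F52336))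
theorem Q26045 : ∀ i, i < 26045 → P i := stepQ 26044 Q26044 (allL N26044 (tt N26039 F52337) (tt N26055 (iv F52372)) (tt N26044 F52338) (tt N26038 F52339) (tt N26025 (iv D26082)) (tt N26044 F52340))
theorem Q26046 : ∀ i, i < 26046 → P i := stepQ 26045 Q26045 (allL N26045 (tt N26049 (iv F52353)) (tt N26045 F52341) (tt N26026 (iv D26083)) (tt N26045 F52343) (tt N26045 F52342) (tt N26054 (iv F52371)))
theorem Q26047 : ∀ i, i < 26047 → P i := stepQ 26046 Q26046 (allL N26046 (tt N26043 F52344) (tt N26031 F52345) (tt N26056 D26094) (tt N26027 (iv D26084)) (tt N26057 D26095) (tt N26030 F52346))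
theorem Q26048 : ∀ i, i < 26048 → P i := stepQ 26047 Q26047 (allL N26047 (tt N26048 (iv F52349)) (tt N26038 F52347) (tt N26048 (iv F52351)) (tt N26055 (iv F52373)) (tt N26028 (iv D26085)) (tt N26047 F52348))
theorem Q26049 : ∀ i, i < 26049 → P i := stepQ 26048 Q26048 (allL N26048 (tt N26047 F52349) (tt N26033 F52350) (tt N26047 F52351) (tt N26057 (iv F52380)) (tt N26029 (iv D26086)) (tt N26048 F52352))
theorem Q26050 : ∀ i, i < 26050 → P i := stepQ 26049 Q26049 (allL N26049 (tt N26045 F52353) (tt N26058 D26096) (tt N26030 (iv D26087)) (tt N26049 F52355) (tt N26049 F52354) (tt N26056 (iv F52377)))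
theorem Q26051 : ∀ i, i < 26051 → P i := stepQ 26050 Q26050 (allL N26050 (tt N26034 F52356) (tt N26057 (iv F52379)) (tt N26053 (iv F52366)) (tt N26033 F52357) (tt N26031 (iv D26088)) (tt N26050 F52358))
theorem Q26052 : ∀ i, i < 26052 → P i := stepQ 26051 Q26051 (allL N26051 (tt N26051 F52359) (tt N26032 (iv D26089)) (tt N26058 (iv F52383)) (tt N26035 F52360) (tt N26051 F52361) (tt N26052 (iv F52364)))
theorem Q26053 : ∀ i, i < 26053 → P i := stepQ 26052 Q26052 (allL N26052 (tt N26052 F52362) (tt N26041 F52363) (tt N26059 D26097) (tt N26040 (iv D26090)) (tt N26060 D26098) (tt N26051 F52364))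
theorem Q26054 : ∀ i, i < 26054 → P i := stepQ 26053 Q26053 (allL N26053 (tt N26042 F52365) (tt N26060 (iv F52391)) (tt N26050 F52366) (tt N26053 F52367) (tt N26041 (iv D26091)) (tt N26053 F52368))
theorem Q26055 : ∀ i, i < 26055 → P i := stepQ 26054 Q26054 (allL N26054 (tt N26056 (iv F52375)) (tt N26054 F52369) (tt N26043 (iv D26092)) (tt N26054 F52370) (tt N26061 D26099) (tt N26045 F52371))
theorem Q26056 : ∀ i, i < 26056 → P i := stepQ 26055 Q26055 (allL N26055 (tt N26057 (iv F52378)) (tt N26044 F52372) (tt N26061 (iv F52395)) (tt N26047 F52373) (tt N26043 (iv D26093)) (tt N26055 F52374))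
theorem Q26057 : ∀ i, i < 26057 → P i := stepQ 26056 Q26056 (allL N26056 (tt N26054 F52375) (tt N26059 (iv F52387)) (tt N26046 (iv D26094)) (tt N26056 F52376) (tt N26062 D26100) (tt N26049 F52377))
theorem Q26058 : ∀ i, i < 26058 → P i := stepQ 26057 Q26057 (allL N26057 (tt N26055 F52378) (tt N26050 F52379) (tt N26062 (iv F52398)) (tt N26048 F52380) (tt N26046 (iv D26095)) (tt N26057 F52381))
theorem Q26059 : ∀ i, i < 26059 → P i := stepQ 26058 Q26058 (allL N26058 (tt N26058 F52382) (tt N26049 (iv D26096)) (tt N26051 F52383) (tt N26058 F52384) (tt N26058 F52385) (tt N26059 (iv F52389)))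
theorem Q26060 : ∀ i, i < 26060 → P i := stepQ 26059 Q26059 (allL N26059 (tt N26059 F52386) (tt N26056 F52387) (tt N26052 (iv D26097)) (tt N26059 F52388) (tt N26063 D26101) (tt N26058 F52389))
theorem Q26061 : ∀ i, i < 26061 → P i := stepQ 26060 Q26060 (allL N26060 (tt N26060 F52390) (tt N26053 F52391) (tt N26063 (iv F52402)) (tt N26060 F52392) (tt N26052 (iv D26098)) (tt N26060 F52393))
theorem Q26062 : ∀ i, i < 26062 → P i := stepQ 26061 Q26061 (allL N26061 (tt N26062 (iv F52397)) (tt N26061 F52394) (tt N26055 F52395) (tt N26064 D26102) (tt N26054 (iv D26099)) (tt N26061 F52396))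
theorem Q26063 : ∀ i, i < 26063 → P i := stepQ 26062 Q26062 (allL N26062 (tt N26061 F52397) (tt N26063 (iv F52401)) (tt N26057 F52398) (tt N26065 D26103) (tt N26056 (iv D26100)) (tt N26062 F52399))
theorem Q26064 : ∀ i, i < 26064 → P i := stepQ 26063 Q26063 (allL N26063 (tt N26063 F52400) (tt N26062 F52401) (tt N26060 F52402) (tt N26066 D26104) (tt N26059 (iv D26101)) (tt N26063 F52403))
theorem Q26065 : ∀ i, i < 26065 → P i := stepQ 26064 Q26064 (allL N26064 (tt N26065 (iv F52408)) (tt N26064 F52404) (tt N26064 F52407) (tt N26061 (iv D26102)) (tt N26064 F52405) (tt N26064 F52406))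
theorem Q26066 : ∀ i, i < 26066 → P i := stepQ 26065 Q26065 (allL N26065 (tt N26064 F52408) (tt N26066 (iv F52413)) (tt N26065 F52409) (tt N26062 (iv D26103)) (tt N26065 F52410) (tt N26065 F52411))
theorem Q26067 : ∀ i, i < 26067 → P i := stepQ 26066 Q26066 (allL N26066 (tt N26066 F52412) (tt N26065 F52413) (tt N26067 D26105) (tt N26063 (iv D26104)) (tt N26066 F52414) (tt N26066 F52415))
theorem Q26068 : ∀ i, i < 26068 → P i := stepQ 26067 Q26067 (allL N26067 (tt N26067 F52416) (tt N26067 F52417) (tt N26066 (iv D26105)) (tt N26067 F52420) (tt N26067 F52418) (tt N26067 F52419))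

theorem closedN : ∀ i, i < N → P i := Q26068

end Cfsg.Agent.Helper17.ONS1TC
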